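import Mathlib

/-!
# Flatness of localized quotients in presentation form (helper18)

`A` a ring, `B` an `A`-algebra, `F` a `B`-module flat over `A`, `K ⊆ F` a `B`-submodule,
`S ⊆ B` a multiplicative set.  Then `(F/K)_S` is flat over `A` iff for all f.g. ideals `I` of `A`
and all `y ∈ K ∩ IF` there is `s ∈ S` with `s y ∈ IK`.
-/

set_option autoImplicit false
set_option linter.unusedSectionVars false

namespace Groth.Agent.Lib.Helper18.Fl

open TensorProduct

section LocMap

variable {R : Type*} [CommRing R] (S : Submonoid R) {M M' N N' : Type*}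
  [AddCommGroup M] [AddCommGroup M'] [AddCommGroup N] [AddCommGroup N']
  [Module R M] [Module R M'] [Module R N] [Module R N']
  (f : M →ₗ[R] M') [IsLocalizedModule S f] (g : N →ₗ[R] N') [IsLocalizedModule S g]

theorem map_injective_iff (h : M →ₗ[R] N) :
    Function.Injective (IsLocalizedModule.map S f g h) ↔
      ∀ x, h x = 0 → ∃ s : S, s • x = 0 := by
  constructor
  · intro hinj x hx
    have h1 : IsLocalizedModule.map S f g h (f x) = 0 := by
      rw [IsLocalizedModule.map_apply, hx, map_zero]
    have h2 : f x = 0 := hinj (by rw [h1, map_zero])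
    exact (IsLocalizedModule.eq_zero_iff S f).mp h2
  · intro H
    rw [injective_iff_map_eq_zero]
    intro y hy
    obtain ⟨⟨x, t⟩, rfl⟩ := IsLocalizedModule.mk'_surjective S f y
    rw [Function.uncurry_apply_pair] at hy ⊢
    rw [IsLocalizedModule.map_mk', IsLocalizedModule.mk'_eq_zero] at hy
    rw [IsLocalizedModule.mk'_eq_zero]
    obtain ⟨s, hs⟩ := (IsLocalizedModule.eq_zero_iff S g).mp hy
    rw [Submonoid.smul_def, ← map_smul] at hs
    obtain ⟨s', hs'⟩ := H _ hs
    rw [IsLocalizedModule.eq_zero_iff S f]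
    exact ⟨s' * s, by rw [mul_smul, Submonoid.smul_def s x]; exact hs'⟩

end LocMap

section L1

variable {A : Type*} [CommRing A] {B : Type*} [CommRing B] [Algebra A B]
  {M : Type*} [AddCommGroup M] [Module A M] [Module B M] [IsScalarTower A B M] (S : Submonoid B)

theorem lTensor_localizedModule_injective_iff (I : Ideal A) :
    Function.Injective (I.subtype.lTensor (LocalizedModule S M)) ↔
      ∀ ξ : M ⊗[A] I, I.subtype.lTensor M ξ = 0 → ∃ s : S, (s : B) • ξ = 0 := by
  have key := IsLocalizedModule.map_lTensor (R := A) B S (I.subtype)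
    (LocalizedModule.mkLinearMap S M)
  have h1 : Function.Injective (I.subtype.lTensor (LocalizedModule S M)) ↔
      Function.Injective
        (AlgebraTensorModule.lTensor B (LocalizedModule S M) (I.subtype : I →ₗ[A] A)) := Iff.rfl
  rw [h1, ← key, map_injective_iff]
  rfl

/-- a `B`-localization of an `A`-flat module is `A`-flat -/
theorem flat_localizedModule [Module.Flat A M] : Module.Flat A (LocalizedModule S M) := by
  rw [Module.Flat.iff_lTensor_injective']
  intro I
  rw [lTensor_localizedModule_injective_iff]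
  intro ξ hξ
  have hinj := Module.Flat.lTensor_preserves_injective_linearMap (M := M) I.subtype
    I.injective_subtype
  exact ⟨1, by rw [hinj (by rw [hξ, map_zero] : I.subtype.lTensor M ξ = I.subtype.lTensor M 0)]; simp⟩

end L1

section L2

variable {A : Type*} [CommRing A] {F : Type*} [AddCommGroup F] [Module A F]
  {M : Type*} [AddCommGroup M] [Module A M] (I : Ideal A)

/-- the multiplication map `F ⊗ I → F` -/
noncomputable def μ (F : Type*) [AddCommGroup F] [Module A F] (I : Ideal A) : F ⊗[A] I →ₗ[A] F :=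
  (TensorProduct.rid A F).toLinearMap ∘ₗ I.subtype.lTensor F

@[simp] theorem μ_tmul (x : F) (a : I) : μ F I (x ⊗ₜ a) = (a : A) • x := by
  simp [μ]

theorem μ_injective [Module.Flat A F] : Function.Injective (μ F I) := by
  have hinj := Module.Flat.lTensor_preserves_injective_linearMap (M := F) I.subtype
    I.injective_subtype
  exact (TensorProduct.rid A F).injective.comp hinj

theorem μ_mem_smul_top (ξ : F ⊗[A] I) : μ F I ξ ∈ I • (⊤ : Submodule A F) := by
  induction ξ using TensorProduct.induction_on with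
  | zero => simp
  | tmul x a => rw [μ_tmul]; exact Submodule.smul_mem_smul a.2 trivial
  | add x y hx hy => rw [map_add]; exact Submodule.add_mem _ hx hy

theorem exists_μ_eq (K : Submodule A F) (y : F) (hy : y ∈ I • K) :
    ∃ ζ : K ⊗[A] I, μ F I (K.subtype.rTensor I ζ) = y := by
  induction hy using Submodule.smul_induction_on' with
  | smul a ha κ hκ => exact ⟨(⟨κ, hκ⟩ : K) ⊗ₜ (⟨a, ha⟩ : I), by simp⟩
  | add x hx y hy ihx ihy =>
    obtain ⟨ζ1, h1⟩ := ihx
    obtain ⟨ζ2, h2⟩ := ihy
    exact ⟨ζ1 + ζ2, by rw [map_add, map_add, h1, h2]⟩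

theorem μ_rTensor_subtype_mem (K : Submodule A F) (ζ : K ⊗[A] I) :
    μ F I (K.subtype.rTensor I ζ) ∈ I • K := by
  induction ζ using TensorProduct.induction_on with
  | zero => simp
  | tmul κ a =>
    rw [LinearMap.rTensor_tmul, μ_tmul]
    exact Submodule.smul_mem_smul a.2 κ.2
  | add x y hx hy => rw [map_add, map_add]; exact Submodule.add_mem _ hx hy

variable (π : F →ₗ[A] M)

theorem lTensor_rTensor_eq_zero_iff (ξ : F ⊗[A] I) :
    I.subtype.lTensor M (π.rTensor I ξ) = 0 ↔ μ F I ξ ∈ LinearMap.ker π := by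
  have h1 : TensorProduct.rid A M (I.subtype.lTensor M (π.rTensor I ξ)) = π (μ F I ξ) := by
    induction ξ using TensorProduct.induction_on with
    | zero => simp
    | tmul x a => simp
    | add x y hx hy => simp only [map_add, hx, hy]
  rw [LinearMap.mem_ker, ← h1]
  exact ⟨fun h => by rw [h, map_zero], fun h => (TensorProduct.rid A M).injective (by rw [h, map_zero])⟩

theorem rTensor_eq_zero_iff [Module.Flat A F] (hπ : Function.Surjective π) (ξ : F ⊗[A] I) :
    π.rTensor I ξ = 0 ↔ μ F I ξ ∈ I • LinearMap.ker π := by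
  have hex : Function.Exact ((LinearMap.ker π).subtype.rTensor I) (π.rTensor I) :=
    rTensor_exact I (LinearMap.exact_subtype_ker_map π) hπ
  rw [hex ξ]
  constructor
  · rintro ⟨ζ, rfl⟩
    exact μ_rTensor_subtype_mem I _ ζ
  · intro h
    obtain ⟨ζ, hζ⟩ := exists_μ_eq I _ _ h
    exact ⟨ζ, μ_injective I hζ⟩

end L2

section L3

variable {A : Type*} [CommRing A] {B : Type*} [CommRing B] [Algebra A B]
  {F : Type*} [AddCommGroup F] [Module A F] [Module B F] [IsScalarTower A B F]
  (S : Submonoid B) (K : Submodule B F)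

theorem μ_smul (I : Ideal A) (b : B) (ξ : F ⊗[A] I) : μ F I (b • ξ) = b • μ F I ξ := by
  induction ξ using TensorProduct.induction_on with
  | zero => simp
  | tmul x a => rw [TensorProduct.smul_tmul', μ_tmul, μ_tmul, smul_comm]
  | add x y hx hy => rw [smul_add, map_add, map_add, hx, hy, smul_add]

theorem lTensor_localizedModule_quot_injective_iff [Module.Flat A F] (I : Ideal A) :
    Function.Injective (I.subtype.lTensor (LocalizedModule S (F ⧸ K))) ↔
      ∀ y ∈ K, y ∈ I • (⊤ : Submodule A F) →
        ∃ s : S, (s : B) • y ∈ I • K.restrictScalars A := by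
  rw [lTensor_localizedModule_injective_iff]
  obtain ⟨π, hπ⟩ : ∃ π : F →ₗ[A] F ⧸ K, π = K.mkQ.restrictScalars A := ⟨_, rfl⟩
  have hsurj : Function.Surjective π := by rw [hπ]; exact K.mkQ_surjective
  have hker : LinearMap.ker π = K.restrictScalars A := by
    rw [hπ]; ext x; simp
  have hlin : ∀ (b : B) (ξ : F ⊗[A] I), π.rTensor I (b • ξ) = b • π.rTensor I ξ := by
    intro b ξ
    induction ξ using TensorProduct.induction_on with
    | zero => simp
    | tmul x a =>
      rw [TensorProduct.smul_tmul', LinearMap.rTensor_tmul, LinearMap.rTensor_tmul,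
        TensorProduct.smul_tmul']
      congr 1
      rw [hπ]; simp
    | add x y hx hy => rw [smul_add, map_add, map_add, hx, hy, smul_add]
  constructor
  · intro H y hyK hyI
    obtain ⟨ξ, hξ⟩ : ∃ ξ : F ⊗[A] I, μ F I ξ = y := by
      have := exists_μ_eq I (⊤ : Submodule A F) y hyI
      obtain ⟨ζ, hζ⟩ := this
      exact ⟨_, hζ⟩
    have h1 : I.subtype.lTensor (F ⧸ K) (π.rTensor I ξ) = 0 := by
      rw [lTensor_rTensor_eq_zero_iff, hker, hξ]; exact hyK
    obtain ⟨s, hs⟩ := H _ h1
    refine ⟨s, ?_⟩
    rw [← hlin, rTensor_eq_zero_iff I π hsurj, μ_smul, hξ, hker] at hs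
    exact hs
  · intro H ξ hξ
    obtain ⟨ξ', rfl⟩ := LinearMap.rTensor_surjective I hsurj ξ
    rw [lTensor_rTensor_eq_zero_iff, hker] at hξ
    obtain ⟨s, hs⟩ := H _ hξ (μ_mem_smul_top I ξ')
    refine ⟨s, ?_⟩
    rw [← hlin, rTensor_eq_zero_iff I π hsurj, μ_smul, hker]
    exact hs

/-- flatness of a localized quotient in presentation form -/
theorem flat_localizedModule_quot_iff [Module.Flat A F] :
    Module.Flat A (LocalizedModule S (F ⧸ K)) ↔
      ∀ I : Ideal A, I.FG → ∀ y ∈ K, y ∈ I • (⊤ : Submodule A F) →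
        ∃ s : S, (s : B) • y ∈ I • K.restrictScalars A := by
  rw [Module.Flat.iff_lTensor_injective]
  constructor
  · intro H I hI
    exact (lTensor_localizedModule_quot_injective_iff S K I).mp (H hI)
  · intro H I hI
    exact (lTensor_localizedModule_quot_injective_iff S K I).mpr (H I hI)

end L3

end Groth.Agent.Lib.Helper18.Fl
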