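import Mathlib
import Groth.Agent.Lib.Helper18.FlA
import Groth.Agent.Lib.Helper9.FlatCrit

/-!
# Noetherian local criterion of flatness in presentation form (helper18)
-/

set_option autoImplicit false
set_option linter.unusedSectionVars false

namespace Groth.Agent.Lib.Helper18.Fl

open TensorProduct

universe u v w

variable {A : Type u} [CommRing A] {B : Type w} [CommRing B] [Algebra A B]
  [IsNoetherianRing A] [IsNoetherianRing B]
  {F : Type v} [AddCommGroup F] [Module A F] [Module B F] [IsScalarTower A B F]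
  [Module.Finite B F] [Module.Flat A F]

theorem flat_localizedModule_quot_of_local_criterion
    (K : Submodule B F) (q : Ideal B) [q.IsPrime] (𝔞 : Ideal A)
    (h𝔞 : 𝔞 ≤ q.comap (algebraMap A B))
    (h1 : ∀ y ∈ K, y ∈ 𝔞 • (⊤ : Submodule A F) →
      ∃ s : q.primeCompl, (s : B) • y ∈ 𝔞 • K.restrictScalars A)
    [Module.Flat (A ⧸ 𝔞) ((A ⧸ 𝔞) ⊗[A] LocalizedModule q.primeCompl (F ⧸ K))] :
    Module.Flat A (LocalizedModule q.primeCompl (F ⧸ K)) := by
  haveI : Module.Finite (Localization.AtPrime q) (LocalizedModule q.primeCompl (F ⧸ K)) :=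
    Module.Finite.of_isLocalizedModule q.primeCompl (Rₚ := Localization.AtPrime q)
      (LocalizedModule.mkLinearMap q.primeCompl (F ⧸ K))
  refine Groth.Agent.Lib.Helper9.flat_of_rTensor_injective_of_le_jacobson
    (R := A) (S := Localization.AtPrime q) (M := LocalizedModule q.primeCompl (F ⧸ K)) 𝔞 ?_ ?_
  · rw [IsLocalRing.jacobson_eq_maximalIdeal ⊥ bot_ne_top, Ideal.map_le_iff_le_comap]
    intro a ha
    rw [Ideal.mem_comap, IsScalarTower.algebraMap_apply A B (Localization.AtPrime q),
      IsLocalization.AtPrime.to_map_mem_maximal_iff (Localization.AtPrime q) q]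
    exact h𝔞 ha
  · rw [← LinearMap.lTensor_inj_iff_rTensor_inj]
    exact (lTensor_localizedModule_quot_injective_iff q.primeCompl K 𝔞).mpr h1

end Groth.Agent.Lib.Helper18.Fl
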