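import Mathlib
import Groth.Agent.Lib.Helper18.FlA

/-!
# Fibre flatness plumbing (helper18)
-/

set_option autoImplicit false
set_option linter.unusedSectionVars false

namespace Groth.Agent.Lib.Helper18.Fl

open TensorProduct Function

section QuotBC

variable {A : Type*} [CommRing A] (𝔞 : Ideal A) {X Y : Type*} [AddCommGroup X] [Module A X]
  [AddCommGroup Y] [Module A Y] [Module (A ⧸ 𝔞) Y] [IsScalarTower A (A ⧸ 𝔞) Y]

theorem exists_one_tmul (z : (A ⧸ 𝔞) ⊗[A] X) : ∃ x : X, z = (1 : A ⧸ 𝔞) ⊗ₜ[A] x := by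
  induction z using TensorProduct.induction_on with
  | zero => exact ⟨0, by simp⟩
  | tmul a x =>
    obtain ⟨a, rfl⟩ := Ideal.Quotient.mk_surjective a
    refine ⟨a • x, ?_⟩
    rw [TensorProduct.tmul_smul, TensorProduct.smul_tmul', Algebra.smul_def, mul_one]
    rfl
  | add x y hx hy =>
    obtain ⟨x', rfl⟩ := hx
    obtain ⟨y', rfl⟩ := hy
    exact ⟨x' + y', by rw [TensorProduct.tmul_add]⟩

theorem one_tmul_eq_zero_of_mem (x : X) (hx : x ∈ 𝔞 • (⊤ : Submodule A X)) :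
    (1 : A ⧸ 𝔞) ⊗ₜ[A] x = 0 := by
  induction hx using Submodule.smul_induction_on' with
  | smul a ha x' _ =>
    rw [TensorProduct.tmul_smul, TensorProduct.smul_tmul', Algebra.smul_def, mul_one]
    have : algebraMap A (A ⧸ 𝔞) a = 0 := Ideal.Quotient.eq_zero_iff_mem.mpr ha
    rw [this, TensorProduct.zero_tmul]
  | add x hx y hy ihx ihy => rw [TensorProduct.tmul_add, ihx, ihy, add_zero]

/-- if `X → Y` is surjective with kernel in `𝔞 X` and `Y` is a flat `A/𝔞`-module then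
`A/𝔞 ⊗ X` is flat over `A/𝔞`. -/
theorem flat_quot_tensor_of_surjective [Module.Flat (A ⧸ 𝔞) Y] (φ : X →ₗ[A] Y)
    (hs : Surjective φ) (hk : ∀ x, φ x = 0 → x ∈ 𝔞 • (⊤ : Submodule A X)) :
    Module.Flat (A ⧸ 𝔞) ((A ⧸ 𝔞) ⊗[A] X) := by
  obtain ⟨ψ, hψ⟩ : ∃ ψ : (A ⧸ 𝔞) ⊗[A] X →ₗ[A ⧸ 𝔞] Y, ψ = LinearMap.liftBaseChange (A ⧸ 𝔞) φ :=
    ⟨_, rfl⟩
  have h1 : ∀ x : X, ψ ((1 : A ⧸ 𝔞) ⊗ₜ[A] x) = φ x := by
    intro x; rw [hψ, LinearMap.liftBaseChange_tmul, one_smul]
  have hinj : Injective ψ := by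
    rw [injective_iff_map_eq_zero]
    intro z hz
    obtain ⟨x, rfl⟩ := exists_one_tmul 𝔞 z
    rw [h1] at hz
    exact one_tmul_eq_zero_of_mem 𝔞 x (hk x hz)
  have hsurj : Surjective ψ := by
    intro y
    obtain ⟨x, rfl⟩ := hs y
    exact ⟨_, h1 x⟩
  exact Module.Flat.of_linearEquiv (LinearEquiv.ofBijective ψ ⟨hinj, hsurj⟩)

end QuotBC

section Mono

variable {A : Type*} [CommRing A] {B : Type*} [CommRing B] [Algebra A B]
  {M : Type*} [AddCommGroup M] [Module A M] [Module B M] [IsScalarTower A B M]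

theorem flat_localizedModule_of_le {S S' : Submonoid B} (h : S ≤ S')
    [H : Module.Flat A (LocalizedModule S M)] : Module.Flat A (LocalizedModule S' M) := by
  rw [Module.Flat.iff_lTensor_injective'] at H ⊢
  intro I
  rw [lTensor_localizedModule_injective_iff]
  intro ξ hξ
  obtain ⟨s, hs⟩ := (lTensor_localizedModule_injective_iff S I).mp (H I) ξ hξ
  exact ⟨⟨s, h s.2⟩, hs⟩

end Mono

section FibLoc

variable {A B : Type*} [CommRing A] [CommRing B] [Algebra A B] (𝔞 : Ideal A)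
  {B' : Type*} [CommRing B'] [Algebra B B']
  {N : Type*} [AddCommGroup N] [Module A N] [Module B N] [IsScalarTower A B N]
  {M' : Type*} [AddCommGroup M'] [Module B M'] [Module B' M'] [IsScalarTower B B' M']
  {Y : Type*} [AddCommGroup Y] [Module A Y] [Module B Y] [Module B' Y] [Module (A ⧸ 𝔞) Y]
  [IsScalarTower A B Y] [IsScalarTower B B' Y] [IsScalarTower A (A ⧸ 𝔞) Y]

theorem mk_mem_smul_top (T : Submonoid B) (n : N) (t : T)
    (hn : n ∈ 𝔞 • (⊤ : Submodule A N)) :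
    LocalizedModule.mk n t ∈ 𝔞 • (⊤ : Submodule A (LocalizedModule T N)) := by
  obtain ⟨l, hl⟩ : ∃ l : N →ₗ[A] LocalizedModule T N, l =
      ((LocalizedModule.divBy t).restrictScalars A) ∘ₗ
        ((LocalizedModule.mkLinearMap T N).restrictScalars A) := ⟨_, rfl⟩
  have h1 : l n = LocalizedModule.mk n t := by
    rw [hl]
    simp only [LinearMap.coe_comp, LinearMap.coe_restrictScalars, Function.comp_apply,
      LocalizedModule.mkLinearMap_apply, LocalizedModule.divBy_apply, LocalizedModule.liftOn_mk,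
      one_mul]
  rw [← h1]
  have h2 : Submodule.map l (𝔞 • (⊤ : Submodule A N)) ≤ 𝔞 • (⊤ : Submodule A _) := by
    rw [Submodule.map_smul'']
    exact Submodule.smul_mono le_rfl le_top
  exact h2 (Submodule.mem_map_of_mem hn)

theorem flat_fibre_of_isLocalizedModule [Module.Flat (A ⧸ 𝔞) Y]
    (π : N →ₗ[B] M') (hπ : Surjective π)
    (hker : ∀ x, π x = 0 → x ∈ 𝔞 • (⊤ : Submodule A N))
    (T : Submonoid B) (ψ : M' →ₗ[B'] Y)
    [IsLocalizedModule (Algebra.algebraMapSubmonoid B' T) ψ] :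
    Module.Flat (A ⧸ 𝔞) ((A ⧸ 𝔞) ⊗[A] LocalizedModule T N) := by
  haveI : IsLocalizedModule T (ψ.restrictScalars B) := IsLocalizedModule.restrictScalars T ψ
  obtain ⟨φB, hφB⟩ : ∃ φB : LocalizedModule T N →ₗ[B] Y, φB =
      IsLocalizedModule.map T (LocalizedModule.mkLinearMap T N) (ψ.restrictScalars B) π :=
    ⟨_, rfl⟩
  have hmk : ∀ (n : N) (t : T), φB (LocalizedModule.mk n t) =
      IsLocalizedModule.mk' (ψ.restrictScalars B) (π n) t := by
    intro n t
    rw [hφB, IsLocalizedModule.mk_eq_mk', IsLocalizedModule.map_mk']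
  refine flat_quot_tensor_of_surjective 𝔞 (φB.restrictScalars A) ?_ ?_
  · intro y
    obtain ⟨⟨m, t⟩, rfl⟩ := IsLocalizedModule.mk'_surjective T (ψ.restrictScalars B) y
    obtain ⟨n, rfl⟩ := hπ m
    exact ⟨LocalizedModule.mk n t, hmk n t⟩
  · intro x hx
    induction x using LocalizedModule.induction_on with
    | h n t =>
      rw [LinearMap.restrictScalars_apply, hmk, IsLocalizedModule.mk'_eq_zero'] at hx
      obtain ⟨t', ht'⟩ := hx
      rw [Submonoid.smul_def, ← map_smul] at ht'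
      have := hker _ ht'
      rw [← LocalizedModule.mk_cancel_common_left t' t n, Submonoid.smul_def]
      exact mk_mem_smul_top 𝔞 T _ _ this

end FibLoc

end Groth.Agent.Lib.Helper18.Fl
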