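import Mathlib
import Groth.Agent.Lib.Helper18.FlC1
import Groth.Agent.Lib.Helper25.GFMod

/-!
# Generic fibre flatness (helper18)
-/

set_option autoImplicit false
set_option linter.unusedSectionVars false

namespace Groth.Agent.Lib.Helper18.Fl

open TensorProduct Function

universe u

/-- the fibre ring `B / pB` -/
abbrev FibB {A : Type u} [CommRing A] (p : Ideal A) (B : Type u) [CommRing B] [Algebra A B] :
    Type u := B ⧸ p.map (algebraMap A B)

/-- the fibre module `N / pN` -/
abbrev FibM {A : Type u} [CommRing A] (p : Ideal A) (B : Type u) [CommRing B] [Algebra A B]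
    (N : Type u) [AddCommGroup N] [Module B N] : Type u :=
  N ⧸ (p.map (algebraMap A B) • ⊤ : Submodule B N)

theorem exists_fibre_flat {A B N : Type u} [CommRing A] [CommRing B] [Algebra A B]
    [Algebra.FiniteType A B] [AddCommGroup N] [Module A N] [Module B N] [IsScalarTower A B N]
    [Module.Finite B N] (p : Ideal A) [p.IsPrime] :
    ∃ g : A, g ∉ p ∧ ∀ (T : Submonoid B), algebraMap A B g ∈ T →
      Module.Flat (A ⧸ p) ((A ⧸ p) ⊗[A] LocalizedModule T N) := by
  letI : Module (A ⧸ p) (FibM p B N) :=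
    Module.compHom _ (algebraMap (A ⧸ p) (FibB p B))
  haveI : IsScalarTower (A ⧸ p) (FibB p B) (FibM p B N) :=
    IsScalarTower.of_algebraMap_smul (fun _ _ => rfl)
  haveI : Algebra.FiniteType A (FibB p B) :=
    Algebra.FiniteType.of_surjective (Ideal.Quotient.mkₐ A (p.map (algebraMap A B)))
      (Ideal.Quotient.mkₐ_surjective A _)
  haveI : Algebra.FiniteType (A ⧸ p) (FibB p B) :=
    Algebra.FiniteType.of_restrictScalars_finiteType A _ _
  haveI : Module.Finite (FibB p B) (FibM p B N) :=
    Module.Finite.of_restrictScalars_finite B _ _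
  obtain ⟨g', _, hg0, hGF⟩ := Groth.Agent.Lib.Helper25.GFMod.exists_GF (A ⧸ p)
    (FibB p B) (FibM p B N) 1 one_ne_zero
  obtain ⟨g, rfl⟩ := Ideal.Quotient.mk_surjective g'
  refine ⟨g, fun hg => hg0 (Ideal.Quotient.eq_zero_iff_mem.mpr hg), fun T hT => ?_⟩
  obtain ⟨hfree, -⟩ := hGF _ dvd_rfl
  haveI := hfree
  have h1 : Module.Flat (A ⧸ p)
      (LocalizedModule (Submonoid.powers (Ideal.Quotient.mk p g)) (FibM p B N)) :=
    Module.Flat.trans (A ⧸ p) (Localization.Away (Ideal.Quotient.mk p g)) _
  haveI hloc : IsLocalizedModule (Submonoid.powers (Ideal.Quotient.mk p g))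
      ((LocalizedModule.mkLinearMap (Submonoid.powers
        (algebraMap (A ⧸ p) (FibB p B) (Ideal.Quotient.mk p g))) (FibM p B N)).restrictScalars
          (A ⧸ p)) :=
    IsLocalizedModule.restrictScalars_powers _ _
  haveI h2 : Module.Flat (A ⧸ p) (LocalizedModule (Submonoid.powers
        (algebraMap (A ⧸ p) (FibB p B) (Ideal.Quotient.mk p g))) (FibM p B N)) :=
    Module.Flat.of_linearEquiv (IsLocalizedModule.iso (Submonoid.powers (Ideal.Quotient.mk p g))
      ((LocalizedModule.mkLinearMap (Submonoid.powers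
        (algebraMap (A ⧸ p) (FibB p B) (Ideal.Quotient.mk p g))) (FibM p B N)).restrictScalars
          (A ⧸ p))).symm
  have hle : Submonoid.powers (algebraMap (A ⧸ p) (FibB p B) (Ideal.Quotient.mk p g)) ≤
      Algebra.algebraMapSubmonoid (FibB p B) T := by
    rw [Submonoid.powers_le]
    exact ⟨algebraMap A B g, hT, rfl⟩
  haveI : Module.Flat (A ⧸ p)
      (LocalizedModule (Algebra.algebraMapSubmonoid (FibB p B) T) (FibM p B N)) :=
    flat_localizedModule_of_le hle
  have hker : ∀ x : N, (p.map (algebraMap A B) • ⊤ : Submodule B N).mkQ x = 0 →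
      x ∈ p • (⊤ : Submodule A N) := by
    intro x hx
    rw [Submodule.mkQ_apply, Submodule.Quotient.mk_eq_zero] at hx
    have := Ideal.smul_restrictScalars p (⊤ : Submodule B N)
    have hx' : x ∈ (p.map (algebraMap A B) • (⊤ : Submodule B N)).restrictScalars A := hx
    rw [this] at hx'
    exact hx'
  exact flat_fibre_of_isLocalizedModule p (B' := FibB p B)
    (p.map (algebraMap A B) • ⊤ : Submodule B N).mkQ (Submodule.mkQ_surjective _) hker T
    (LocalizedModule.mkLinearMap (Algebra.algebraMapSubmonoid (FibB p B) T) (FibM p B N))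

end Groth.Agent.Lib.Helper18.Fl
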