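import Mathlib
import Groth.Agent.Lib.Helper18.FlB
import Groth.Agent.Lib.Helper18.FlC2
import Groth.Agent.Lib.Helper12.ConstrTop

/-!
# Openness of the flat locus, Noetherian presentation form (helper18)
-/

set_option autoImplicit false
set_option linter.unusedSectionVars false

namespace Groth.Agent.Lib.Helper18.Fl

open TensorProduct Function

universe u

section

variable {A B F : Type u} [CommRing A] [CommRing B] [Algebra A B]
  [AddCommGroup F] [Module A F] [Module B F] [IsScalarTower A B F]

/-- uniform denominators for `K ∩ pF` -/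
theorem exists_uniform_smul_mem [IsNoetherianRing B] [Module.Finite B F] [Module.Flat A F]
    (K : Submodule B F) (q : Ideal B) [q.IsPrime] (p : Ideal A) (hp : p.FG)
    [Module.Flat A (LocalizedModule q.primeCompl (F ⧸ K))] :
    ∃ s : B, s ∉ q ∧ ∀ y ∈ K, y ∈ p • (⊤ : Submodule A F) →
      s • y ∈ p • K.restrictScalars A := by
  classical
  have hres1 := Ideal.smul_restrictScalars p (⊤ : Submodule B F)
  have hres2 := Ideal.smul_restrictScalars p K
  obtain ⟨G, hG⟩ : (K ⊓ (p.map (algebraMap A B) • ⊤ : Submodule B F)).FG :=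
    IsNoetherian.noetherian _
  have H : ∀ d ∈ G, ∃ s : B, s ∉ q ∧ s • d ∈ p.map (algebraMap A B) • K := by
    intro d hd
    have hd' : d ∈ K ⊓ (p.map (algebraMap A B) • ⊤ : Submodule B F) := by
      rw [← hG]; exact Submodule.subset_span hd
    have hd2 : d ∈ p • (⊤ : Submodule A F) := by
      have : d ∈ (p.map (algebraMap A B) • (⊤ : Submodule B F)).restrictScalars A := hd'.2
      rw [hres1] at this
      exact this
    obtain ⟨s, hs⟩ := (flat_localizedModule_quot_iff q.primeCompl K).mp inferInstance p hp d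
      hd'.1 hd2
    refine ⟨s, s.2, ?_⟩
    have : (s : B) • d ∈ (p.map (algebraMap A B) • K).restrictScalars A := by
      rw [hres2]; exact hs
    exact this
  choose! σ hσ using H
  refine ⟨∏ d ∈ G, σ d, ?_, ?_⟩
  · intro hmem
    obtain ⟨d, hd, hdq⟩ := Ideal.IsPrime.prod_mem_iff.mp hmem
    exact (hσ d hd).1 hdq
  · intro y hyK hyp
    have hy : y ∈ K ⊓ (p.map (algebraMap A B) • ⊤ : Submodule B F) := by
      refine ⟨hyK, ?_⟩
      have : y ∈ (p.map (algebraMap A B) • (⊤ : Submodule B F)).restrictScalars A := by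
        rw [hres1]; exact hyp
      exact this
    rw [← hG] at hy
    have hle : Submodule.span B (G : Set F) ≤
        Submodule.comap (LinearMap.lsmul B F (∏ d ∈ G, σ d)) (p.map (algebraMap A B) • K) := by
      rw [Submodule.span_le]
      intro d hd
      rw [SetLike.mem_coe, Submodule.mem_comap, LinearMap.lsmul_apply,
        ← Finset.mul_prod_erase G σ hd, mul_comm, mul_smul]
      exact Submodule.smul_mem _ _ (hσ d hd).2
    have h3 := hle hy
    rw [Submodule.mem_comap, LinearMap.lsmul_apply] at h3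
    have : (∏ d ∈ G, σ d) • y ∈ (p.map (algebraMap A B) • K).restrictScalars A := h3
    rw [hres2] at this
    exact this

theorem isOpen_flatLocus_noeth [IsNoetherianRing A] [Algebra.FiniteType A B]
    [Module.Finite B F] [Module.Flat A F] (K : Submodule B F) :
    IsOpen {q : PrimeSpectrum B |
      Module.Flat A (LocalizedModule q.asIdeal.primeCompl (F ⧸ K))} := by
  haveI : IsNoetherianRing B := Algebra.FiniteType.isNoetherianRing A B
  rw [Groth.Agent.Lib.Helper12.isOpen_iff_forall_irreducible_closed]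
  rintro Y hYc hYi ⟨x, hxE, hxY⟩
  have hqprime : (PrimeSpectrum.vanishingIdeal Y).IsPrime :=
    PrimeSpectrum.isIrreducible_iff_vanishingIdeal_isPrime.mp hYi
  have hY : Y = PrimeSpectrum.zeroLocus (PrimeSpectrum.vanishingIdeal Y : Set B) := by
    rw [PrimeSpectrum.zeroLocus_vanishingIdeal_eq_closure, hYc.closure_eq]
  obtain ⟨q, hq⟩ : ∃ q : Ideal B, q = PrimeSpectrum.vanishingIdeal Y := ⟨_, rfl⟩
  rw [← hq] at hqprime hY
  haveI := hqprime
  have hqx : q ≤ x.asIdeal := by
    rw [hY] at hxY
    exact hxY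
  -- the generic point is in the flat locus
  haveI hqE : Module.Flat A (LocalizedModule q.primeCompl (F ⧸ K)) := by
    haveI : Module.Flat A (LocalizedModule x.asIdeal.primeCompl (F ⧸ K)) := hxE
    exact flat_localizedModule_of_le (S := x.asIdeal.primeCompl) (S' := q.primeCompl)
      (fun b hb hbq => hb (hqx hbq))
  obtain ⟨s, hsq, hs⟩ := exists_uniform_smul_mem K q (q.comap (algebraMap A B))
    (IsNoetherian.noetherian _)
  obtain ⟨g, hgp, hg⟩ := exists_fibre_flat (A := A) (B := B) (N := F ⧸ K)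
    (q.comap (algebraMap A B))
  have hgq : algebraMap A B g ∉ q := hgp
  refine ⟨PrimeSpectrum.basicOpen (s * algebraMap A B g), (PrimeSpectrum.basicOpen _).isOpen,
    ⟨⟨q, hqprime⟩, ?_, ?_⟩, ?_⟩
  · rw [SetLike.mem_coe, PrimeSpectrum.mem_basicOpen]
    exact fun h => (hqprime.mem_or_mem h).elim hsq hgq
  · rw [hY, PrimeSpectrum.mem_zeroLocus]
  · rintro q' ⟨hq'U, hq'Y⟩
    rw [SetLike.mem_coe, PrimeSpectrum.mem_basicOpen] at hq'U
    rw [hY, PrimeSpectrum.mem_zeroLocus] at hq'Y
    have hsq' : s ∉ q'.asIdeal := fun h => hq'U (Ideal.mul_mem_right _ _ h)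
    have hgq' : algebraMap A B g ∉ q'.asIdeal := fun h => hq'U (Ideal.mul_mem_left _ _ h)
    haveI := hg q'.asIdeal.primeCompl hgq'
    exact flat_localizedModule_quot_of_local_criterion K q'.asIdeal (q.comap (algebraMap A B))
      (Ideal.comap_mono hq'Y) (fun y hyK hyp => ⟨⟨s, hsq'⟩, hs y hyK hyp⟩)

end

end Groth.Agent.Lib.Helper18.Fl
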