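import Mathlib

/-!
# Relations over residue fields descend (helper18)

`(S')`: relations with coefficients in `κ₁[X]` among vectors defined over `κ₀[X]` come from
relations over `κ₀[X]`; with denominators cleared.
-/

set_option autoImplicit false
set_option linter.unusedSectionVars false

namespace Groth.Agent.Lib.Helper18.Fl

open MvPolynomial

section Den

variable {R κ : Type*} [CommRing R] [Field κ] (f : R →+* κ)
  (hfrac : ∀ z : κ, ∃ x t : R, f t ≠ 0 ∧ f t * z = f x) {σ : Type*}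

include hfrac in
theorem den_single (ℓ : MvPolynomial σ κ) :
    ∃ (t : R) (b : MvPolynomial σ R), f t ≠ 0 ∧ map f b = C (f t) * ℓ := by
  induction ℓ using MvPolynomial.induction_on with
  | C z =>
    obtain ⟨x, t, ht, hx⟩ := hfrac z
    exact ⟨t, C x, ht, by rw [map_C, ← hx, C_mul]⟩
  | add ℓ₁ ℓ₂ h₁ h₂ =>
    obtain ⟨t₁, b₁, ht₁, hb₁⟩ := h₁
    obtain ⟨t₂, b₂, ht₂, hb₂⟩ := h₂
    refine ⟨t₁ * t₂, C t₂ * b₁ + C t₁ * b₂, by rw [map_mul]; exact mul_ne_zero ht₁ ht₂, ?_⟩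
    rw [map_add, map_mul, map_mul, hb₁, hb₂, map_C, map_C, map_mul, C_mul]
    ring
  | mul_X ℓ i h =>
    obtain ⟨t, b, ht, hb⟩ := h
    exact ⟨t, b * X i, ht, by rw [map_mul, hb, map_X, mul_assoc]⟩

include hfrac in
theorem den_family {ι : Type*} [Finite ι] (ℓ : ι → MvPolynomial σ κ) :
    ∃ (t : R) (b : ι → MvPolynomial σ R), f t ≠ 0 ∧ ∀ i, map f (b i) = C (f t) * ℓ i := by
  classical
  haveI := Fintype.ofFinite ι
  have key : ∀ s : Finset ι, ∃ (t : R) (b : ι → MvPolynomial σ R), f t ≠ 0 ∧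
      ∀ i ∈ s, map f (b i) = C (f t) * ℓ i := by
    intro s
    induction s using Finset.induction_on with
    | empty => exact ⟨1, fun _ => 0, by rw [map_one]; exact one_ne_zero, by simp⟩
    | insert i₀ s hi₀ ih =>
      obtain ⟨t, b, ht, hb⟩ := ih
      obtain ⟨t₀, b₀, ht₀, hb₀⟩ := den_single f hfrac (ℓ i₀)
      refine ⟨t * t₀, fun i => if i = i₀ then C t * b₀ else C t₀ * b i,
        by rw [map_mul]; exact mul_ne_zero ht ht₀, ?_⟩
      intro i hi
      rw [Finset.mem_insert] at hi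
      by_cases h : i = i₀
      · subst h
        simp only [if_true]
        rw [map_mul, hb₀, map_C, map_mul, C_mul]
        ring
      · simp only [if_neg h]
        rw [map_mul, hb i (hi.resolve_left h), map_C, map_mul, C_mul]
        ring
  obtain ⟨t, b, ht, hb⟩ := key Finset.univ
  exact ⟨t, b, ht, fun i => hb i (Finset.mem_univ i)⟩

end Den

section SPrime

attribute [local instance] MvPolynomial.algebraMvPolynomial

variable {R₀ R₁ κ₀ κ₁ : Type*} [CommRing R₀] [CommRing R₁] [Field κ₀] [Field κ₁] [Algebra κ₀ κ₁]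
  (φ : R₀ →+* R₁) (f₀ : R₀ →+* κ₀) (f₁ : R₁ →+* κ₁)
  (hcomm : (algebraMap κ₀ κ₁).comp f₀ = f₁.comp φ)
  (hfrac₀ : ∀ z : κ₀, ∃ x t : R₀, f₀ t ≠ 0 ∧ f₀ t * z = f₀ x)
  (hfrac₁ : ∀ z : κ₁, ∃ x t : R₁, f₁ t ≠ 0 ∧ f₁ t * z = f₁ x)
  {σ : Type*}

instance flat_mvPolynomial_field : Module.Flat (MvPolynomial σ κ₀) (MvPolynomial σ κ₁) :=
  Module.Flat.isBaseChange (R := κ₀) (S := MvPolynomial σ κ₀) (M := κ₁) (MvPolynomial σ κ₁)
    (Algebra.IsPushout.out (R := κ₀) (S := MvPolynomial σ κ₀) (R' := κ₁)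
      (S' := MvPolynomial σ κ₁))

include hcomm hfrac₀ hfrac₁ in
theorem relations_descend {m r : ℕ} (g₀ : Fin m → Fin r → MvPolynomial σ R₀)
    (c : Fin m → MvPolynomial σ R₁)
    (hc : ∀ k, map f₁ (∑ i, c i * map φ (g₀ i k)) = 0) :
    ∃ (t : R₁) (n : ℕ) (b : Fin m → Fin n → MvPolynomial σ R₀) (l : Fin n → MvPolynomial σ R₁)
      (e : Fin m → MvPolynomial σ R₁), f₁ t ≠ 0 ∧
      (∀ j k, map f₀ (∑ i, b i j * g₀ i k) = 0) ∧ (∀ i, map f₁ (e i) = 0) ∧
      (∀ i, C t * c i = e i + ∑ j, map φ (b i j) * l j) := by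
  classical
  -- the matrix of the vectors
  obtain ⟨Mat, hMat⟩ : ∃ Mat : Matrix (Fin m) (Fin r) (MvPolynomial σ κ₀),
      Mat = fun i k => map f₀ (g₀ i k) := ⟨_, rfl⟩
  obtain ⟨x, hx⟩ : ∃ x : (Fin m → MvPolynomial σ κ₀) →ₗ[MvPolynomial σ κ₀] MvPolynomial σ κ₁,
      x = Fintype.linearCombination (MvPolynomial σ κ₀) (fun i => map f₁ (c i)) := ⟨_, rfl⟩
  have hmm : ∀ p : MvPolynomial σ R₀, map (algebraMap κ₀ κ₁) (map f₀ p) = map f₁ (map φ p) := by
    intro p
    rw [map_map, map_map, hcomm]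
  have hsmul : ∀ (a : MvPolynomial σ κ₀) (z : MvPolynomial σ κ₁),
      a • z = map (algebraMap κ₀ κ₁) a * z := fun a z => by
    rw [Algebra.smul_def]; rfl
  have hxf : x ∘ₗ Mat.mulVecLin = 0 := by
    apply LinearMap.pi_ext'
    intro k
    apply LinearMap.ext_ring
    simp only [LinearMap.coe_comp, LinearMap.coe_single, Function.comp_apply,
      Matrix.mulVecLin_apply, LinearMap.zero_comp, LinearMap.zero_apply]
    rw [hx, Fintype.linearCombination_apply]
    have : ∀ i, (Mat.mulVec (Pi.single k 1)) i = Mat i k := by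
      intro i
      rw [Matrix.mulVec_single_one]
      rfl
    simp_rw [this, hMat, hsmul, hmm]
    refine Eq.trans ?_ (hc k)
    rw [map_sum]
    refine Finset.sum_congr rfl fun i _ => ?_
    rw [map_mul, mul_comm]
  obtain ⟨n, a, y, hxy, haf⟩ := Module.Flat.exists_factorization_of_comp_eq_zero_of_free hxf
  -- coefficients
  obtain ⟨α, hα⟩ : ∃ α : Fin m → Fin n → MvPolynomial σ κ₀,
      α = fun i j => a (fun i' => if i = i' then 1 else 0) j := ⟨_, rfl⟩
  obtain ⟨lam, hlam⟩ : ∃ lam : Fin n → MvPolynomial σ κ₁,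
      lam = fun j => y (Finsupp.single j 1) := ⟨_, rfl⟩
  have hy : ∀ v : Fin n →₀ MvPolynomial σ κ₀, y v = ∑ j, v j • lam j := by
    intro v
    have hv : y v = y (∑ j, Finsupp.single j (v j)) := by rw [Finsupp.univ_sum_single]
    rw [hv, map_sum]
    refine Finset.sum_congr rfl fun j _ => ?_
    rw [hlam, ← Finsupp.smul_single_one, map_smul]
  have h1 : ∀ i, map f₁ (c i) = ∑ j, map (algebraMap κ₀ κ₁) (α i j) * lam j := by
    intro i
    have e1 : x (fun i' => if i = i' then 1 else 0) = map f₁ (c i) := by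
      rw [hx, Fintype.linearCombination_apply]
      simp
    rw [← e1, hxy, LinearMap.comp_apply, hy]
    refine Finset.sum_congr rfl fun j _ => ?_
    rw [hsmul, hα]
  have h2 : ∀ j k, ∑ i, Mat i k * α i j = 0 := by
    intro j k
    have e1 : a (Mat.mulVecLin (Pi.single k 1)) j = 0 := by
      have := LinearMap.congr_fun haf (Pi.single k 1)
      rw [LinearMap.comp_apply] at this
      rw [this]; rfl
    rw [LinearMap.pi_apply_eq_sum_univ a] at e1
    rw [← e1, Finsupp.coe_finsetSum, Finset.sum_apply]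
    refine Finset.sum_congr rfl fun i _ => ?_
    rw [Finsupp.coe_smul, Pi.smul_apply, smul_eq_mul, hα, Matrix.mulVecLin_apply,
      Matrix.mulVec_single_one]
    rfl
  -- clear denominators
  obtain ⟨t₀, b', ht₀, hb'⟩ := den_family f₀ hfrac₀ (fun ij : Fin m × Fin n => α ij.1 ij.2)
  obtain ⟨t₁, l, ht₁, hl⟩ := den_family f₁ hfrac₁ lam
  have hft : f₁ (φ t₀) = algebraMap κ₀ κ₁ (f₀ t₀) := by
    have := RingHom.congr_fun hcomm t₀
    simpa using this.symm
  refine ⟨t₁ * φ t₀, n, fun i j => b' (i, j), l,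
    fun i => C (t₁ * φ t₀) * c i - ∑ j, map φ (b' (i, j)) * l j, ?_, ?_, ?_, ?_⟩
  · rw [map_mul, hft]
    exact mul_ne_zero ht₁ (by rw [Ne, map_eq_zero]; exact ht₀)
  · intro j k
    rw [map_sum]
    have : ∀ i, map f₀ (b' (i, j) * g₀ i k) = C (f₀ t₀) * (Mat i k * α i j) := by
      intro i
      rw [map_mul, hb' (i, j), hMat]
      ring
    simp_rw [this]
    rw [← Finset.mul_sum, h2, mul_zero]
  · intro i
    rw [map_sub, map_mul, map_C, h1, map_sum, sub_eq_zero, Finset.mul_sum]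
    refine Finset.sum_congr rfl fun j _ => ?_
    have e1 : map f₁ (map φ (b' (i, j)) * l j) =
        map (algebraMap κ₀ κ₁) (C (f₀ t₀) * α i j) * (C (f₁ t₁) * lam j) := by
      rw [RingHom.map_mul (map f₁), ← hmm, hb' (i, j), hl j]
    rw [e1, RingHom.map_mul (map (algebraMap κ₀ κ₁)), map_C, RingHom.map_mul f₁, hft, C_mul]
    ring
  · intro i
    ring

end SPrime

end Groth.Agent.Lib.Helper18.Fl
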