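import Mathlib
import Groth.Agent.Lib.Helper18.FlB
import Groth.Agent.Lib.Helper18.FlC1

/-!
# Automatic fibre flatness at the prime below (helper18)
-/

set_option autoImplicit false
set_option linter.unusedSectionVars false

namespace Groth.Agent.Lib.Helper18.Fl

open TensorProduct Function

section Divisible

variable {D : Type*} [CommRing D] [IsDomain D] {X : Type*} [AddCommGroup X] [Module D X]

/-- a module over a domain on which every nonzero element acts bijectively is flat -/
theorem flat_of_bijective_smul (h : ∀ d : D, d ≠ 0 → Bijective (fun x : X => d • x)) :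
    Module.Flat D X := by
  have hinj : Injective (LocalizedModule.mkLinearMap (nonZeroDivisors D) X) := by
    intro x y hxy
    rw [LocalizedModule.mkLinearMap_apply, LocalizedModule.mkLinearMap_apply,
      LocalizedModule.mk_eq] at hxy
    obtain ⟨u, hu⟩ := hxy
    rw [one_smul, one_smul] at hu
    exact (h u (nonZeroDivisors.ne_zero u.2)).1 hu
  have hsurj : Surjective (LocalizedModule.mkLinearMap (nonZeroDivisors D) X) := by
    intro z
    induction z using LocalizedModule.induction_on with
    | h x s =>
      obtain ⟨x', hx'⟩ := (h s (nonZeroDivisors.ne_zero s.2)).2 x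
      refine ⟨x', ?_⟩
      rw [LocalizedModule.mkLinearMap_apply, LocalizedModule.mk_eq]
      exact ⟨1, by rw [one_smul, one_smul, one_smul, ← hx']; rfl⟩
  haveI : Module.Flat D (LocalizedModule (nonZeroDivisors D) X) :=
    Module.Flat.trans D (FractionRing D) _
  exact Module.Flat.of_linearEquiv (LinearEquiv.ofBijective _ ⟨hinj, hsurj⟩)

end Divisible

section AutoFibre

variable {A B N : Type*} [CommRing A] [CommRing B] [Algebra A B] [AddCommGroup N] [Module A N]
  [Module B N] [IsScalarTower A B N]

theorem flat_fibre_of_comap_eq (q : Ideal B) [q.IsPrime] (p : Ideal A) [p.IsPrime]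
    (hp : p = q.comap (algebraMap A B)) :
    Module.Flat (A ⧸ p) ((A ⧸ p) ⊗[A] LocalizedModule q.primeCompl N) := by
  apply flat_of_bijective_smul
  intro d hd
  obtain ⟨a, rfl⟩ := Ideal.Quotient.mk_surjective d
  have ha : a ∉ p := fun h => hd (Ideal.Quotient.eq_zero_iff_mem.mpr h)
  have haq : algebraMap A B a ∈ q.primeCompl := by
    intro h
    apply ha
    rw [hp]; exact h
  have hu := IsLocalizedModule.map_units (LocalizedModule.mkLinearMap q.primeCompl N)
    ⟨algebraMap A B a, haq⟩
  rw [Module.End.isUnit_iff] at hu
  have hu' : Bijective (fun x : LocalizedModule q.primeCompl N => a • x) := by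
    convert hu using 2 with x
    rw [Module.algebraMap_end_apply, algebraMap_smul]
  obtain ⟨e, he⟩ : ∃ e : LocalizedModule q.primeCompl N ≃ₗ[A] LocalizedModule q.primeCompl N,
      ∀ x, e x = a • x :=
    ⟨LinearEquiv.ofBijective (LinearMap.lsmul A _ a) hu', fun x => rfl⟩
  have key : ∀ z : (A ⧸ p) ⊗[A] LocalizedModule q.primeCompl N,
      (Ideal.Quotient.mk p a) • z = (e.lTensor (A ⧸ p)) z := by
    intro z
    induction z using TensorProduct.induction_on with
    | zero => simp
    | tmul d x =>
      rw [LinearEquiv.lTensor_tmul, he, TensorProduct.tmul_smul, TensorProduct.smul_tmul',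
        TensorProduct.smul_tmul']
      congr 1
    | add x y hx hy => rw [smul_add, map_add, hx, hy]
  have : (fun z : (A ⧸ p) ⊗[A] LocalizedModule q.primeCompl N =>
      (Ideal.Quotient.mk p a) • z) = (e.lTensor (A ⧸ p)) := funext key
  rw [this]
  exact (e.lTensor (A ⧸ p)).bijective

end AutoFibre

end Groth.Agent.Lib.Helper18.Fl
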