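import Mathlib
import Groth.Agent.Lib.Helper18.FlE1
import Groth.Agent.Lib.Helper18.FlD
import Groth.Agent.Lib.Helper18.FlC3

/-!
# Flatness for polynomial presentations over varying base rings (helper18)
-/

set_option autoImplicit false
set_option linter.unusedSectionVars false

namespace Groth.Agent.Lib.Helper18.Fl

open TensorProduct Function MvPolynomial

universe u

section ResFrac

variable {R : Type*} [CommRing R] (p : Ideal R) [p.IsPrime]

theorem residueField_frac (z : p.ResidueField) :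
    ∃ x t : R, algebraMap R p.ResidueField t ≠ 0 ∧
      algebraMap R p.ResidueField t * z = algebraMap R p.ResidueField x := by
  obtain ⟨⟨x, s⟩, hxs⟩ := IsLocalization.surj (nonZeroDivisors (R ⧸ p)) z
  obtain ⟨x', rfl⟩ := Ideal.Quotient.mk_surjective x
  obtain ⟨t, ht⟩ := Ideal.Quotient.mk_surjective (s : R ⧸ p)
  have h1 : algebraMap (R ⧸ p) p.ResidueField (s : R ⧸ p) = algebraMap R p.ResidueField t := by
    rw [← ht]; rfl
  have h2 : algebraMap (R ⧸ p) p.ResidueField (Ideal.Quotient.mk p x') =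
      algebraMap R p.ResidueField x' := rfl
  refine ⟨x', t, ?_, ?_⟩
  · rw [← h1]
    intro h
    have := (map_eq_zero_iff _ (Ideal.injective_algebraMap_quotient_residueField (I := p))).mp h
    exact nonZeroDivisors.ne_zero s.2 this
  · rw [← h1, ← h2, mul_comm]
    exact hxs

end ResFrac

section Conv

variable {R : Type u} [CommRing R] {σ : Type} {r : ℕ}

theorem mem_smul_top_of_forall_mem (p : Ideal R) (v : Fin r → MvPolynomial σ R)
    (hv : ∀ k, v k ∈ p.map (C : R →+* MvPolynomial σ R)) :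
    v ∈ p • (⊤ : Submodule R (Fin r → MvPolynomial σ R)) := by
  classical
  have h1 : v ∈ p.map (algebraMap R (MvPolynomial σ R)) •
      (⊤ : Submodule (MvPolynomial σ R) (Fin r → MvPolynomial σ R)) := by
    have : v = ∑ k, v k • (Pi.single k 1 : Fin r → MvPolynomial σ R) := by
      funext k
      simp [Finset.sum_apply, Pi.single_apply]
    rw [this]
    refine Submodule.sum_mem _ fun k _ => Submodule.smul_mem_smul ?_ trivial
    rw [MvPolynomial.algebraMap_eq]
    exact hv k
  have h2 : v ∈ (p.map (algebraMap R (MvPolynomial σ R)) •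
      (⊤ : Submodule (MvPolynomial σ R) (Fin r → MvPolynomial σ R))).restrictScalars R := h1
  rw [Ideal.smul_restrictScalars] at h2
  exact h2

theorem forall_mem_of_mem_smul_top (p : Ideal R) (v : Fin r → MvPolynomial σ R)
    (hv : v ∈ p • (⊤ : Submodule R (Fin r → MvPolynomial σ R))) (k : Fin r) :
    v k ∈ p.map (C : R →+* MvPolynomial σ R) := by
  induction hv using Submodule.smul_induction_on' with
  | smul a ha w _ =>
    rw [Pi.smul_apply, MvPolynomial.smul_eq_C_mul]
    exact Ideal.mul_mem_right _ _ (Ideal.mem_map_of_mem _ ha)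
  | add x hx y hy ihx ihy => exact Ideal.add_mem _ ihx ihy

theorem smul_mem_of_mem_map_C (p : Ideal R)
    (K : Submodule (MvPolynomial σ R) (Fin r → MvPolynomial σ R))
    (e : MvPolynomial σ R) (he : e ∈ p.map (C : R →+* MvPolynomial σ R))
    (w : Fin r → MvPolynomial σ R) (hw : w ∈ K) : e • w ∈ p • K.restrictScalars R := by
  rw [← MvPolynomial.algebraMap_eq] at he
  have h1' : e • w ∈ (p.map (algebraMap R (MvPolynomial σ R)) • K) :=
    Submodule.smul_mem_smul he hw
  have h1 : e • w ∈ (p.map (algebraMap R (MvPolynomial σ R)) • K).restrictScalars R := h1'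
  rw [Ideal.smul_restrictScalars] at h1
  exact h1

/-- `p • K` is stable under polynomial scalars -/
theorem smul_mem_smul_restrictScalars (p : Ideal R)
    (K : Submodule (MvPolynomial σ R) (Fin r → MvPolynomial σ R))
    (e : MvPolynomial σ R) (w : Fin r → MvPolynomial σ R) (hw : w ∈ p • K.restrictScalars R) :
    e • w ∈ p • K.restrictScalars R := by
  rw [← Ideal.smul_restrictScalars] at hw ⊢
  exact Submodule.smul_mem _ e hw

end Conv

section Models

variable {σ : Type}

/-- the span of a family of generators -/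
noncomputable abbrev Kspan {R : Type u} [CommRing R] {m r : ℕ} (g : Fin m → Fin r → MvPolynomial σ R) :
    Submodule (MvPolynomial σ R) (Fin r → MvPolynomial σ R) :=
  Submodule.span _ (Set.range g)

/-- coefficientwise base change of vectors -/
noncomputable def mapVec {R₀ R₁ : Type u} [CommRing R₀] [CommRing R₁] (φ : R₀ →+* R₁) {r : ℕ}
    (v : Fin r → MvPolynomial σ R₀) : Fin r → MvPolynomial σ R₁ :=
  fun k => MvPolynomial.map φ (v k)

variable {R₀ R₁ : Type u} [CommRing R₀] [CommRing R₁] (φ : R₀ →+* R₁) {m r : ℕ}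

@[simp] theorem mapVec_apply (v : Fin r → MvPolynomial σ R₀) (k : Fin r) :
    mapVec φ v k = MvPolynomial.map φ (v k) := rfl

theorem mapVec_add (v w : Fin r → MvPolynomial σ R₀) :
    mapVec φ (v + w) = mapVec φ v + mapVec φ w := by
  funext k; simp [mapVec]

theorem mapVec_smul (b : MvPolynomial σ R₀) (v : Fin r → MvPolynomial σ R₀) :
    mapVec φ (b • v) = MvPolynomial.map φ b • mapVec φ v := by
  funext k; simp [mapVec]

theorem mapVec_smul' (a : R₀) (v : Fin r → MvPolynomial σ R₀) :
    mapVec φ (a • v) = φ a • mapVec φ v := by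
  funext k; simp [mapVec, MvPolynomial.smul_eq_C_mul]

theorem mapVec_zero : mapVec φ (0 : Fin r → MvPolynomial σ R₀) = 0 := by
  funext k; simp [mapVec]

theorem mapVec_sum {ι : Type*} (s : Finset ι) (v : ι → Fin r → MvPolynomial σ R₀) :
    mapVec φ (∑ i ∈ s, v i) = ∑ i ∈ s, mapVec φ (v i) := by
  funext k; simp [mapVec, Finset.sum_apply]

theorem mapVec_mem_Kspan (g₀ : Fin m → Fin r → MvPolynomial σ R₀)
    (d : Fin r → MvPolynomial σ R₀) (hd : d ∈ Kspan g₀) :
    mapVec φ d ∈ Kspan (fun i => mapVec φ (g₀ i)) := by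
  obtain ⟨c, rfl⟩ := (Submodule.mem_span_range_iff_exists_fun _).mp hd
  rw [mapVec_sum]
  refine Submodule.sum_mem _ fun i _ => ?_
  rw [mapVec_smul]
  exact Submodule.smul_mem _ _ (Submodule.subset_span ⟨i, rfl⟩)

theorem mapVec_mem_smul (g₀ : Fin m → Fin r → MvPolynomial σ R₀) (p₀ : Ideal R₀) (p₁ : Ideal R₁)
    (hp : p₀ ≤ p₁.comap φ) (d : Fin r → MvPolynomial σ R₀)
    (hd : d ∈ p₀ • (Kspan g₀).restrictScalars R₀) :
    mapVec φ d ∈ p₁ • (Kspan (fun i => mapVec φ (g₀ i))).restrictScalars R₁ := by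
  induction hd using Submodule.smul_induction_on' with
  | smul a ha w hw =>
    rw [mapVec_smul']
    exact Submodule.smul_mem_smul (hp ha) (mapVec_mem_Kspan φ g₀ w hw)
  | add x hx y hy ihx ihy =>
    rw [mapVec_add]; exact Submodule.add_mem _ ihx ihy

variable [Finite σ]

/-- (LCS): the local criterion with the prime below, fed by relations over the smaller ring -/
theorem flat_of_uniform [IsNoetherianRing R₁] (g₀ : Fin m → Fin r → MvPolynomial σ R₀)
    (q₁ : Ideal (MvPolynomial σ R₁)) [q₁.IsPrime] (s : MvPolynomial σ R₁) (hs : s ∉ q₁)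
    (H : ∀ d ∈ Kspan g₀,
      d ∈ ((q₁.comap (C : R₁ →+* MvPolynomial σ R₁)).comap φ) •
        (⊤ : Submodule R₀ (Fin r → MvPolynomial σ R₀)) →
      s • mapVec φ d ∈ (q₁.comap (C : R₁ →+* MvPolynomial σ R₁)) •
        (Kspan (fun i => mapVec φ (g₀ i))).restrictScalars R₁) :
    Module.Flat R₁ (LocalizedModule q₁.primeCompl
      ((Fin r → MvPolynomial σ R₁) ⧸ Kspan (fun i => mapVec φ (g₀ i)))) := by
  classical
  obtain ⟨p₁, hp₁⟩ : ∃ p₁ : Ideal R₁, p₁ = q₁.comap (C : R₁ →+* MvPolynomial σ R₁) := ⟨_, rfl⟩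
  obtain ⟨p₀, hp₀⟩ : ∃ p₀ : Ideal R₀, p₀ = p₁.comap φ := ⟨_, rfl⟩
  rw [← hp₁] at H
  rw [← hp₀] at H
  haveI hp₁prime : p₁.IsPrime := by rw [hp₁]; infer_instance
  haveI hp₀prime : p₀.IsPrime := by rw [hp₀]; infer_instance
  haveI := flat_fibre_of_comap_eq (N := (Fin r → MvPolynomial σ R₁) ⧸
    Kspan (fun i => mapVec φ (g₀ i))) q₁ p₁ hp₁
  letI : Algebra p₀.ResidueField p₁.ResidueField :=
    (Ideal.ResidueField.map p₀ p₁ φ hp₀).toAlgebra
  have hcomm : (algebraMap p₀.ResidueField p₁.ResidueField).comp (algebraMap R₀ p₀.ResidueField) =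
      (algebraMap R₁ p₁.ResidueField).comp φ := by
    ext a
    exact Ideal.ResidueField.map_algebraMap p₀ p₁ φ hp₀ a
  have hker₁ : ∀ e : MvPolynomial σ R₁, MvPolynomial.map (algebraMap R₁ p₁.ResidueField) e = 0 ↔
      e ∈ p₁.map (C : R₁ →+* MvPolynomial σ R₁) := by
    intro e
    rw [← RingHom.mem_ker, MvPolynomial.ker_map, Ideal.ker_algebraMap_residueField]
  have hker₀ : ∀ e : MvPolynomial σ R₀, MvPolynomial.map (algebraMap R₀ p₀.ResidueField) e = 0 ↔
      e ∈ p₀.map (C : R₀ →+* MvPolynomial σ R₀) := by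
    intro e
    rw [← RingHom.mem_ker, MvPolynomial.ker_map, Ideal.ker_algebraMap_residueField]
  refine flat_localizedModule_quot_of_local_criterion (Kspan (fun i => mapVec φ (g₀ i))) q₁ p₁
    (le_of_eq hp₁) ?_
  intro y hyK hyp
  obtain ⟨c, rfl⟩ := (Submodule.mem_span_range_iff_exists_fun _).mp hyK
  have hc : ∀ k, MvPolynomial.map (algebraMap R₁ p₁.ResidueField)
      (∑ i, c i * MvPolynomial.map φ (g₀ i k)) = 0 := by
    intro k
    rw [hker₁]
    have := forall_mem_of_mem_smul_top p₁ _ hyp k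
    simpa [Finset.sum_apply, mapVec] using this
  obtain ⟨t, n, b, l, e, ht, hb, he, hce⟩ := relations_descend φ (algebraMap R₀ p₀.ResidueField)
    (algebraMap R₁ p₁.ResidueField) hcomm (residueField_frac p₀) (residueField_frac p₁) g₀ c hc
  have htq : s * C t ∈ q₁.primeCompl := by
    intro hmem
    rcases (inferInstance : q₁.IsPrime).mem_or_mem hmem with h | h
    · exact hs h
    · apply ht
      rw [Ideal.algebraMap_residueField_eq_zero, hp₁]
      exact h
  refine ⟨⟨s * C t, htq⟩, ?_⟩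
  -- the descended relations
  have hd : ∀ j, s • mapVec φ (∑ i, b i j • g₀ i) ∈
      p₁ • (Kspan (fun i => mapVec φ (g₀ i))).restrictScalars R₁ := by
    intro j
    refine H _ (Submodule.sum_mem _ fun i _ => Submodule.smul_mem _ _
      (Submodule.subset_span ⟨i, rfl⟩)) (mem_smul_top_of_forall_mem p₀ _ fun k => ?_)
    rw [← hker₀, ← hb j k]
    simp [Finset.sum_apply]
  have hexp : (s * C t) • ∑ i, c i • mapVec φ (g₀ i) =
      s • ∑ i, e i • mapVec φ (g₀ i) + ∑ j, l j • (s • mapVec φ (∑ i, b i j • g₀ i)) := by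
    have h1 : ∀ j, l j • (s • mapVec φ (∑ i, b i j • g₀ i)) =
        s • ∑ i, (MvPolynomial.map φ (b i j) * l j) • mapVec φ (g₀ i) := by
      intro j
      rw [mapVec_sum, smul_comm, Finset.smul_sum]
      congr 1
      refine Finset.sum_congr rfl fun i _ => ?_
      rw [mapVec_smul, smul_smul, mul_comm]
    simp_rw [h1]
    rw [← Finset.smul_sum, ← smul_add, mul_smul, Finset.sum_comm, ← Finset.sum_add_distrib,
      Finset.smul_sum]
    congr 1
    refine Finset.sum_congr rfl fun i _ => ?_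
    rw [smul_smul, hce i, add_smul, Finset.sum_smul]
  change (s * C t) • ∑ i, c i • mapVec φ (g₀ i) ∈ _
  rw [hexp]
  refine Submodule.add_mem _ ?_ (Submodule.sum_mem _ fun j _ => ?_)
  · apply smul_mem_smul_restrictScalars
    refine Submodule.sum_mem _ fun i _ => ?_
    exact smul_mem_of_mem_map_C p₁ _ _ ((hker₁ _).mp (he i)) _ (Submodule.subset_span ⟨i, rfl⟩)
  · exact smul_mem_smul_restrictScalars p₁ _ _ _ (hd j)

end Models

end Groth.Agent.Lib.Helper18.Fl
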