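import Mathlib
import Groth.Agent.Lib.Helper18.FlE2

/-!
# Ascent of flatness between Noetherian levels; subalgebra infrastructure (helper18)
-/

set_option autoImplicit false
set_option linter.unusedSectionVars false

namespace Groth.Agent.Lib.Helper18.Fl

open TensorProduct Function MvPolynomial

universe u

section Asc

variable {σ : Type} [Finite σ] {R₀ R₁ : Type u} [CommRing R₀] [CommRing R₁] (φ : R₀ →+* R₁)
  {m r : ℕ}

theorem mapVec_mem_smul_top (p₀ : Ideal R₀) (p₁ : Ideal R₁)
    (hp : p₀ ≤ p₁.comap φ) (d : Fin r → MvPolynomial σ R₀)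
    (hd : d ∈ p₀ • (⊤ : Submodule R₀ (Fin r → MvPolynomial σ R₀))) :
    mapVec φ d ∈ p₁ • (⊤ : Submodule R₁ (Fin r → MvPolynomial σ R₁)) := by
  induction hd using Submodule.smul_induction_on' with
  | smul a ha w hw =>
    rw [mapVec_smul']
    exact Submodule.smul_mem_smul (hp ha) trivial
  | add x hx y hy ihx ihy =>
    rw [mapVec_add]; exact Submodule.add_mem _ ihx ihy

theorem flat_ascent [IsNoetherianRing R₀] [IsNoetherianRing R₁]
    (g₀ : Fin m → Fin r → MvPolynomial σ R₀)
    (q₁ : Ideal (MvPolynomial σ R₁)) [q₁.IsPrime]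
    [hflat : Module.Flat R₀ (LocalizedModule (q₁.comap (MvPolynomial.map φ)).primeCompl
      ((Fin r → MvPolynomial σ R₀) ⧸ Kspan g₀))] :
    Module.Flat R₁ (LocalizedModule q₁.primeCompl
      ((Fin r → MvPolynomial σ R₁) ⧸ Kspan (fun i => mapVec φ (g₀ i)))) := by
  obtain ⟨s₀, hs₀, H₀⟩ := exists_uniform_smul_mem (Kspan g₀) (q₁.comap (MvPolynomial.map φ))
    ((q₁.comap (C : R₁ →+* MvPolynomial σ R₁)).comap φ) (IsNoetherian.noetherian _)
  refine flat_of_uniform φ g₀ q₁ (MvPolynomial.map φ s₀) hs₀ ?_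
  intro d hdK hdp
  rw [← mapVec_smul]
  exact mapVec_mem_smul φ g₀ _ _ le_rfl _ (H₀ d hdK hdp)

end Asc

section Unpack

variable {R : Type u} [CommRing R] {σ : Type} {m r h : ℕ}

theorem exists_sum_of_mem_smul_top (a : Fin h → R) (y : Fin r → MvPolynomial σ R)
    (hy : y ∈ Ideal.span (Set.range a) • (⊤ : Submodule R (Fin r → MvPolynomial σ R))) :
    ∃ v : Fin h → Fin r → MvPolynomial σ R, y = ∑ l, a l • v l := by
  induction hy using Submodule.smul_induction_on' with
  | smul a' ha' w _ =>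
    obtain ⟨ρ, rfl⟩ := (Submodule.mem_span_range_iff_exists_fun _).mp ha'
    refine ⟨fun l => ρ l • w, ?_⟩
    rw [Finset.sum_smul]
    refine Finset.sum_congr rfl fun l _ => ?_
    rw [smul_eq_mul, mul_comm, mul_smul]
  | add x hx y hy ihx ihy =>
    obtain ⟨v, rfl⟩ := ihx
    obtain ⟨v', rfl⟩ := ihy
    refine ⟨fun l => v l + v' l, ?_⟩
    rw [← Finset.sum_add_distrib]
    refine Finset.sum_congr rfl fun l _ => ?_
    rw [smul_add]

theorem exists_sum_of_mem_smul_Kspan (a : Fin h → R) (g : Fin m → Fin r → MvPolynomial σ R)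
    (y : Fin r → MvPolynomial σ R)
    (hy : y ∈ Ideal.span (Set.range a) • (Kspan g).restrictScalars R) :
    ∃ c : Fin h → Fin m → MvPolynomial σ R, y = ∑ l, a l • ∑ i, c l i • g i := by
  induction hy using Submodule.smul_induction_on' with
  | smul a' ha' w hw =>
    obtain ⟨ρ, rfl⟩ := (Submodule.mem_span_range_iff_exists_fun _).mp ha'
    obtain ⟨c, rfl⟩ := (Submodule.mem_span_range_iff_exists_fun _).mp hw
    refine ⟨fun l i => ρ l • c i, ?_⟩
    rw [Finset.sum_smul]
    refine Finset.sum_congr rfl fun l _ => ?_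
    rw [smul_eq_mul, mul_comm, mul_smul]
    congr 1
    rw [Finset.smul_sum]
    refine Finset.sum_congr rfl fun i _ => ?_
    rw [smul_assoc]
  | add x hx y hy ihx ihy =>
    obtain ⟨c, rfl⟩ := ihx
    obtain ⟨c', rfl⟩ := ihy
    refine ⟨fun l i => c l i + c' l i, ?_⟩
    rw [← Finset.sum_add_distrib]
    refine Finset.sum_congr rfl fun l _ => ?_
    rw [← smul_add, ← Finset.sum_add_distrib]
    congr 1
    refine Finset.sum_congr rfl fun i _ => ?_
    rw [add_smul]

end Unpack

section Sub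

variable {R : Type u} [CommRing R] {σ : Type}

/-- the inclusion of a subalgebra as a ring hom -/
def inc (S : Subalgebra ℤ R) : ↥S →+* R := S.val.toRingHom

@[simp] theorem inc_apply (S : Subalgebra ℤ R) (x : S) : inc S x = (x : R) := rfl

theorem inc_injective (S : Subalgebra ℤ R) : Injective (inc S) := Subtype.val_injective

/-- the inclusion between subalgebras as a ring hom -/
def incl {S S' : Subalgebra ℤ R} (h : S ≤ S') : ↥S →+* ↥S' := (Subalgebra.inclusion h).toRingHom

theorem inc_comp_incl {S S' : Subalgebra ℤ R} (h : S ≤ S') : (inc S').comp (incl h) = inc S :=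
  RingHom.ext fun _ => rfl

theorem incl_injective {S S' : Subalgebra ℤ R} (h : S ≤ S') : Injective (incl h) :=
  Subalgebra.inclusion_injective h

theorem isNoetherianRing_of_fg (S : Subalgebra ℤ R) (hS : S.FG) : IsNoetherianRing ↥S := by
  haveI : Algebra.FiniteType ℤ ↥S := (Subalgebra.fg_iff_finiteType S).mp hS
  exact Algebra.FiniteType.isNoetherianRing ℤ ↥S

theorem exists_map_eq_of_coeffs_subset (S : Subalgebra ℤ R) (f : MvPolynomial σ R)
    (hf : (f.coeffs : Set R) ⊆ S) : ∃ f' : MvPolynomial σ ↥S, MvPolynomial.map (inc S) f' = f := by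
  have : f ∈ Set.range (MvPolynomial.map (inc S) : MvPolynomial σ ↥S → MvPolynomial σ R) := by
    rw [MvPolynomial.mem_range_map_iff_coeffs_subset]
    intro x hx
    exact ⟨⟨x, hf hx⟩, rfl⟩
  exact this

theorem mapVec_mapVec {R₀ R₁ R₂ : Type u} [CommRing R₀] [CommRing R₁] [CommRing R₂]
    (φ : R₀ →+* R₁) (ψ : R₁ →+* R₂) {r : ℕ} (v : Fin r → MvPolynomial σ R₀) :
    mapVec ψ (mapVec φ v) = mapVec (ψ.comp φ) v := by
  funext k
  simp [mapVec, MvPolynomial.map_map]

theorem mapVec_injective {R₀ R₁ : Type u} [CommRing R₀] [CommRing R₁]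
    (φ : R₀ →+* R₁) (hφ : Injective φ) {r : ℕ} :
    Injective (mapVec (σ := σ) φ (r := r)) := by
  intro v w hvw
  funext k
  exact MvPolynomial.map_injective φ hφ (congrFun hvw k)

end Sub

end Groth.Agent.Lib.Helper18.Fl
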