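import Mathlib
import Groth.Agent.Lib.Helper18.FlE3

/-!
# Flatness at a finitely generated level implies flatness over the whole ring (helper18)
-/

set_option autoImplicit false
set_option linter.unusedSectionVars false

namespace Groth.Agent.Lib.Helper18.Fl

open TensorProduct Function MvPolynomial

universe u

theorem flat_congr_prime {A B N : Type*} [CommRing A] [CommRing B] [Algebra A B] [AddCommGroup N]
    [Module A N] [Module B N] [IsScalarTower A B N] {q q' : Ideal B} [q.IsPrime] [q'.IsPrime]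
    (h : q = q') (hf : Module.Flat A (LocalizedModule q.primeCompl N)) :
    Module.Flat A (LocalizedModule q'.primeCompl N) := by
  subst h
  exact hf

theorem map_comp_map {σ : Type*} {R₀ R₁ R₂ : Type*} [CommRing R₀] [CommRing R₁] [CommRing R₂]
    (φ : R₀ →+* R₁) (ψ : R₁ →+* R₂) :
    (MvPolynomial.map ψ).comp (MvPolynomial.map φ) =
      (MvPolynomial.map (ψ.comp φ) : MvPolynomial σ R₀ →+* MvPolynomial σ R₂) :=
  RingHom.ext fun p => MvPolynomial.map_map _ _ _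

variable {R : Type u} [CommRing R] {σ : Type} [Finite σ] {m r : ℕ}

theorem flat_of_flat_level (g : Fin m → Fin r → MvPolynomial σ R)
    (S₁ : Subalgebra ℤ R) (hS₁ : S₁.FG) (g₁ : Fin m → Fin r → MvPolynomial σ S₁)
    (hg₁ : ∀ i, mapVec (inc S₁) (g₁ i) = g i)
    (q : Ideal (MvPolynomial σ R)) [q.IsPrime]
    (hflat : Module.Flat S₁ (LocalizedModule (q.comap (MvPolynomial.map (inc S₁))).primeCompl
      ((Fin r → MvPolynomial σ S₁) ⧸ Kspan g₁))) :
    Module.Flat R (LocalizedModule q.primeCompl ((Fin r → MvPolynomial σ R) ⧸ Kspan g)) := by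
  classical
  rw [flat_localizedModule_quot_iff]
  intro I hI y hyK hyI
  obtain ⟨h, a, ha⟩ := Submodule.fg_iff_exists_fin_generating_family.mp hI
  have ha' : Ideal.span (Set.range a) = I := ha
  rw [← ha'] at hyI ⊢
  obtain ⟨c, hc⟩ := (Submodule.mem_span_range_iff_exists_fun _).mp hyK
  obtain ⟨v, hv⟩ := exists_sum_of_mem_smul_top a y hyI
  obtain ⟨T, hTdef⟩ : ∃ T : Set R, T = Set.range a ∪ (⋃ i, ((c i).coeffs : Set R)) ∪
      (⋃ l, ⋃ k, ((v l k).coeffs : Set R)) := ⟨_, rfl⟩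
  have hT : T.Finite := by
    rw [hTdef]
    refine Set.Finite.union (Set.Finite.union (Set.finite_range a) ?_) ?_
    · exact Set.finite_iUnion fun i => Finset.finite_toSet _
    · exact Set.finite_iUnion fun l => Set.finite_iUnion fun k => Finset.finite_toSet _
  obtain ⟨S₂, hS₂def⟩ : ∃ S₂ : Subalgebra ℤ R, S₂ = S₁ ⊔ Algebra.adjoin ℤ T := ⟨_, rfl⟩
  have h12 : S₁ ≤ S₂ := by rw [hS₂def]; exact le_sup_left
  have hTS : T ⊆ S₂ := by
    rw [hS₂def]
    exact fun x hx => (le_sup_right : Algebra.adjoin ℤ T ≤ _) (Algebra.subset_adjoin hx)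
  have hS₂ : S₂.FG := by
    rw [hS₂def]
    exact hS₁.sup (Subalgebra.fg_def.2 ⟨T, hT, rfl⟩)
  haveI := isNoetherianRing_of_fg S₁ hS₁
  haveI := isNoetherianRing_of_fg S₂ hS₂
  -- lifts
  have haT : ∀ l, a l ∈ S₂ := fun l => hTS (by rw [hTdef]; exact Or.inl (Or.inl ⟨l, rfl⟩))
  obtain ⟨a₂, ha₂⟩ : ∃ a₂ : Fin h → S₂, ∀ l, inc S₂ (a₂ l) = a l :=
    ⟨fun l => ⟨a l, haT l⟩, fun l => rfl⟩
  have hcT : ∀ i, ((c i).coeffs : Set R) ⊆ S₂ := fun i x hx =>
    hTS (by rw [hTdef]; exact Or.inl (Or.inr (Set.mem_iUnion.mpr ⟨i, hx⟩)))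
  have hvT : ∀ l k, ((v l k).coeffs : Set R) ⊆ S₂ := fun l k x hx =>
    hTS (by rw [hTdef]; exact Or.inr (Set.mem_iUnion.mpr ⟨l, Set.mem_iUnion.mpr ⟨k, hx⟩⟩))
  choose c₂ hc₂ using fun i => exists_map_eq_of_coeffs_subset S₂ (c i) (hcT i)
  choose v₂ hv₂ using fun l k => exists_map_eq_of_coeffs_subset S₂ (v l k) (hvT l k)
  have hv₂' : ∀ l, mapVec (inc S₂) (v₂ l) = v l := fun l => funext fun k => hv₂ l k
  obtain ⟨g₂, hg₂def⟩ : ∃ g₂ : Fin m → Fin r → MvPolynomial σ S₂,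
      g₂ = fun i => mapVec (incl h12) (g₁ i) := ⟨_, rfl⟩
  have hg₂ : ∀ i, mapVec (inc S₂) (g₂ i) = g i := by
    intro i
    rw [hg₂def, mapVec_mapVec, inc_comp_incl, hg₁]
  have hgg : (fun i => mapVec (inc S₂) (g₂ i)) = g := funext hg₂
  have hy₂ : mapVec (inc S₂) (∑ i, c₂ i • g₂ i) = y := by
    rw [mapVec_sum, ← hc]
    refine Finset.sum_congr rfl fun i _ => ?_
    rw [mapVec_smul, hc₂, hg₂]
  have hy₂' : ∑ i, c₂ i • g₂ i = ∑ l, a₂ l • v₂ l := by
    apply mapVec_injective (inc S₂) (inc_injective S₂)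
    rw [hy₂, mapVec_sum, hv]
    refine Finset.sum_congr rfl fun l _ => ?_
    rw [mapVec_smul', ha₂, hv₂']
  -- flatness at level 2
  have hq : (q.comap (MvPolynomial.map (inc S₂))).comap (MvPolynomial.map (incl h12)) =
      q.comap (MvPolynomial.map (inc S₁)) := by
    rw [Ideal.comap_comap, map_comp_map, inc_comp_incl]
  haveI : Module.Flat S₁ (LocalizedModule ((q.comap (MvPolynomial.map (inc S₂))).comap
      (MvPolynomial.map (incl h12))).primeCompl ((Fin r → MvPolynomial σ S₁) ⧸ Kspan g₁)) :=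
    flat_congr_prime hq.symm hflat
  have hfl2 : Module.Flat S₂ (LocalizedModule (q.comap (MvPolynomial.map (inc S₂))).primeCompl
      ((Fin r → MvPolynomial σ S₂) ⧸ Kspan g₂)) := by
    rw [hg₂def]
    exact flat_ascent (incl h12) g₁ (q.comap (MvPolynomial.map (inc S₂)))
  have hy₂K : (∑ i, c₂ i • g₂ i) ∈ Kspan g₂ :=
    Submodule.sum_mem _ fun i _ => Submodule.smul_mem _ _ (Submodule.subset_span ⟨i, rfl⟩)
  have hy₂I : (∑ i, c₂ i • g₂ i) ∈ Ideal.span (Set.range a₂) •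
      (⊤ : Submodule S₂ (Fin r → MvPolynomial σ S₂)) := by
    rw [hy₂']
    exact Submodule.sum_mem _ fun l _ =>
      Submodule.smul_mem_smul (Ideal.subset_span ⟨l, rfl⟩) trivial
  obtain ⟨s₂, hs₂⟩ := (flat_localizedModule_quot_iff (q.comap
    (MvPolynomial.map (inc S₂))).primeCompl (Kspan g₂)).mp hfl2 (Ideal.span (Set.range a₂))
    ⟨Finset.univ.image a₂, by rw [Finset.coe_image, Finset.coe_univ, Set.image_univ]⟩ _ hy₂K hy₂I
  refine ⟨⟨MvPolynomial.map (inc S₂) (s₂ : MvPolynomial σ S₂), s₂.2⟩, ?_⟩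
  have hle : Ideal.span (Set.range a₂) ≤ (Ideal.span (Set.range a)).comap (inc S₂) := by
    rw [Ideal.span_le]
    rintro _ ⟨l, rfl⟩
    rw [SetLike.mem_coe, Ideal.mem_comap, ha₂]
    exact Ideal.subset_span ⟨l, rfl⟩
  have := mapVec_mem_smul (inc S₂) g₂ (Ideal.span (Set.range a₂)) (Ideal.span (Set.range a)) hle _
    hs₂
  rw [mapVec_smul, hy₂, hgg] at this
  exact this

end Groth.Agent.Lib.Helper18.Fl
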