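import Mathlib
import Groth.Agent.Lib.Helper18.FlE4

/-!
# Descent of flatness at a point to a finitely generated level (helper18)
-/

set_option autoImplicit false
set_option linter.unusedSectionVars false

namespace Groth.Agent.Lib.Helper18.Fl

open TensorProduct Function MvPolynomial

universe u

variable {R : Type u} [CommRing R] {σ : Type} [Finite σ] {m r : ℕ}

theorem exists_flat_level (g : Fin m → Fin r → MvPolynomial σ R)
    (S₀ : Subalgebra ℤ R) (hS₀ : S₀.FG) (g₀ : Fin m → Fin r → MvPolynomial σ S₀)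
    (hg₀ : ∀ i, mapVec (inc S₀) (g₀ i) = g i)
    (q : Ideal (MvPolynomial σ R)) [q.IsPrime]
    (hflat : Module.Flat R (LocalizedModule q.primeCompl
      ((Fin r → MvPolynomial σ R) ⧸ Kspan g))) :
    ∃ (S₁ : Subalgebra ℤ R) (h01 : S₀ ≤ S₁), S₁.FG ∧
      Module.Flat S₁ (LocalizedModule (q.comap (MvPolynomial.map (inc S₁))).primeCompl
        ((Fin r → MvPolynomial σ S₁) ⧸ Kspan (fun i => mapVec (incl h01) (g₀ i)))) := by
  classical
  haveI := isNoetherianRing_of_fg S₀ hS₀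
  obtain ⟨p₀, hp₀def⟩ : ∃ p₀ : Ideal S₀,
      p₀ = (q.comap (C : R →+* MvPolynomial σ R)).comap (inc S₀) := ⟨_, rfl⟩
  obtain ⟨h, a₀, ha₀⟩ := Submodule.fg_iff_exists_fin_generating_family.mp
    (IsNoetherian.noetherian p₀)
  have ha₀' : Ideal.span (Set.range a₀) = p₀ := ha₀
  obtain ⟨a, hadef⟩ : ∃ a : Fin h → R, a = fun l => inc S₀ (a₀ l) := ⟨_, rfl⟩
  have haq : ∀ l, C (a l) ∈ q := by
    intro l
    have : a₀ l ∈ p₀ := by rw [← ha₀']; exact Ideal.subset_span ⟨l, rfl⟩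
    rw [hp₀def] at this
    rw [hadef]
    exact this
  obtain ⟨N, d, hd⟩ := Submodule.fg_iff_exists_fin_generating_family.mp
    (IsNoetherian.noetherian (Kspan g₀ ⊓ (p₀.map (algebraMap S₀ (MvPolynomial σ S₀)) •
      (⊤ : Submodule (MvPolynomial σ S₀) (Fin r → MvPolynomial σ S₀)))))
  have hres := Ideal.smul_restrictScalars p₀
    (⊤ : Submodule (MvPolynomial σ S₀) (Fin r → MvPolynomial σ S₀))
  have hgg₀ : (fun i => mapVec (inc S₀) (g₀ i)) = g := funext hg₀
  have hle : p₀ ≤ (Ideal.span (Set.range a)).comap (inc S₀) := by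
    rw [← ha₀', Ideal.span_le]
    rintro _ ⟨l, rfl⟩
    rw [SetLike.mem_coe, Ideal.mem_comap]
    exact Ideal.subset_span ⟨l, by rw [hadef]⟩
  have H1 : ∀ j, ∃ (s : MvPolynomial σ R) (c : Fin h → Fin m → MvPolynomial σ R), s ∉ q ∧
      s • mapVec (inc S₀) (d j) = ∑ l, a l • ∑ i, c l i • g i := by
    intro j
    have hdj : d j ∈ Kspan g₀ ⊓ (p₀.map (algebraMap S₀ (MvPolynomial σ S₀)) •
        (⊤ : Submodule (MvPolynomial σ S₀) (Fin r → MvPolynomial σ S₀))) := by
      rw [← hd]; exact Submodule.subset_span ⟨j, rfl⟩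
    have h1 : mapVec (inc S₀) (d j) ∈ Kspan g := by
      have := mapVec_mem_Kspan (inc S₀) g₀ _ hdj.1
      rwa [hgg₀] at this
    have h2 : d j ∈ p₀ • (⊤ : Submodule S₀ (Fin r → MvPolynomial σ S₀)) := by
      have : d j ∈ (p₀.map (algebraMap S₀ (MvPolynomial σ S₀)) •
        (⊤ : Submodule (MvPolynomial σ S₀) (Fin r → MvPolynomial σ S₀))).restrictScalars S₀ :=
        hdj.2
      rw [hres] at this
      exact this
    have h3 := mapVec_mem_smul_top (inc S₀) p₀ (Ideal.span (Set.range a)) hle _ h2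
    obtain ⟨s, hs⟩ := (flat_localizedModule_quot_iff q.primeCompl (Kspan g)).mp hflat
      (Ideal.span (Set.range a))
      ⟨Finset.univ.image a, by rw [Finset.coe_image, Finset.coe_univ, Set.image_univ]⟩ _ h1 h3
    obtain ⟨c, hc⟩ := exists_sum_of_mem_smul_Kspan a g _ hs
    exact ⟨s, c, s.2, hc⟩
  choose s c hsq hsc using H1
  obtain ⟨T, hTdef⟩ : ∃ T : Set R, T = (⋃ j, ((s j).coeffs : Set R)) ∪
      (⋃ j, ⋃ l, ⋃ i, ((c j l i).coeffs : Set R)) := ⟨_, rfl⟩
  have hT : T.Finite := by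
    rw [hTdef]
    refine Set.Finite.union ?_ ?_
    · exact Set.finite_iUnion fun j => Finset.finite_toSet _
    · exact Set.finite_iUnion fun j => Set.finite_iUnion fun l => Set.finite_iUnion fun i =>
        Finset.finite_toSet _
  obtain ⟨S₁, hS₁def⟩ : ∃ S₁ : Subalgebra ℤ R, S₁ = S₀ ⊔ Algebra.adjoin ℤ T := ⟨_, rfl⟩
  have h01 : S₀ ≤ S₁ := by rw [hS₁def]; exact le_sup_left
  have hTS : T ⊆ S₁ := by
    rw [hS₁def]
    exact fun x hx => (le_sup_right : Algebra.adjoin ℤ T ≤ _) (Algebra.subset_adjoin hx)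
  have hS₁ : S₁.FG := by
    rw [hS₁def]
    exact hS₀.sup (Subalgebra.fg_def.2 ⟨T, hT, rfl⟩)
  haveI := isNoetherianRing_of_fg S₁ hS₁
  have hsT : ∀ j, ((s j).coeffs : Set R) ⊆ S₁ := fun j x hx =>
    hTS (by rw [hTdef]; exact Or.inl (Set.mem_iUnion.mpr ⟨j, hx⟩))
  have hcT : ∀ j l i, ((c j l i).coeffs : Set R) ⊆ S₁ := fun j l i x hx =>
    hTS (by rw [hTdef]; exact Or.inr (Set.mem_iUnion.mpr ⟨j, Set.mem_iUnion.mpr ⟨l,
      Set.mem_iUnion.mpr ⟨i, hx⟩⟩⟩))
  choose s₁ hs₁ using fun j => exists_map_eq_of_coeffs_subset S₁ (s j) (hsT j)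
  choose c₁ hc₁ using fun j l i => exists_map_eq_of_coeffs_subset S₁ (c j l i) (hcT j l i)
  have hg₁ : ∀ i, mapVec (inc S₁) (mapVec (incl h01) (g₀ i)) = g i := by
    intro i
    rw [mapVec_mapVec, inc_comp_incl, hg₀]
  have hrel : ∀ j, s₁ j • mapVec (incl h01) (d j) =
      ∑ l, incl h01 (a₀ l) • ∑ i, c₁ j l i • mapVec (incl h01) (g₀ i) := by
    intro j
    apply mapVec_injective (inc S₁) (inc_injective S₁)
    rw [mapVec_smul, hs₁, mapVec_mapVec, inc_comp_incl, hsc j, mapVec_sum]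
    refine Finset.sum_congr rfl fun l _ => ?_
    rw [mapVec_smul', mapVec_sum]
    have : inc S₁ (incl h01 (a₀ l)) = a l := by rw [hadef]; rfl
    rw [this]
    congr 1
    refine Finset.sum_congr rfl fun i _ => ?_
    rw [mapVec_smul, hc₁, hg₁]
  have hmem : ∀ j, s₁ j • mapVec (incl h01) (d j) ∈
      ((q.comap (MvPolynomial.map (inc S₁))).comap (C : S₁ →+* MvPolynomial σ S₁)) •
        (Kspan (fun i => mapVec (incl h01) (g₀ i))).restrictScalars S₁ := by
    intro j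
    rw [hrel]
    refine Submodule.sum_mem _ fun l _ => Submodule.smul_mem_smul ?_ ?_
    · rw [Ideal.mem_comap, Ideal.mem_comap, MvPolynomial.map_C]
      have : inc S₁ (incl h01 (a₀ l)) = a l := by rw [hadef]; rfl
      rw [this]
      exact haq l
    · have hk : ∀ i, mapVec (incl h01) (g₀ i) ∈ Kspan (fun i => mapVec (incl h01) (g₀ i)) :=
        fun i => Submodule.subset_span ⟨i, rfl⟩
      exact Submodule.sum_mem (Kspan (fun i => mapVec (incl h01) (g₀ i))) fun i _ =>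
        Submodule.smul_mem _ _ (hk i)
  have hs' : (∏ j, s₁ j) ∉ q.comap (MvPolynomial.map (inc S₁)) := by
    intro hmem'
    obtain ⟨j, -, hj⟩ := Ideal.IsPrime.prod_mem_iff.mp hmem'
    rw [Ideal.mem_comap, hs₁] at hj
    exact hsq j hj
  refine ⟨S₁, h01, hS₁, flat_of_uniform (incl h01) g₀ (q.comap (MvPolynomial.map (inc S₁)))
    (∏ j, s₁ j) hs' ?_⟩
  intro δ hδK hδp
  have hp₀ : ((q.comap (MvPolynomial.map (inc S₁))).comap
      (C : S₁ →+* MvPolynomial σ S₁)).comap (incl h01) = p₀ := by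
    rw [hp₀def]
    ext x
    simp only [Ideal.mem_comap, MvPolynomial.map_C]
    rfl
  rw [hp₀] at hδp
  have hδ : δ ∈ Kspan g₀ ⊓ (p₀.map (algebraMap S₀ (MvPolynomial σ S₀)) •
      (⊤ : Submodule (MvPolynomial σ S₀) (Fin r → MvPolynomial σ S₀))) := by
    refine ⟨hδK, ?_⟩
    have : δ ∈ (p₀.map (algebraMap S₀ (MvPolynomial σ S₀)) •
        (⊤ : Submodule (MvPolynomial σ S₀) (Fin r → MvPolynomial σ S₀))).restrictScalars S₀ := by
      rw [hres]; exact hδp
    exact this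
  rw [← hd] at hδ
  obtain ⟨β, rfl⟩ := (Submodule.mem_span_range_iff_exists_fun _).mp hδ
  rw [mapVec_sum, Finset.smul_sum]
  refine Submodule.sum_mem _ fun j _ => ?_
  rw [mapVec_smul, smul_comm]
  apply smul_mem_smul_restrictScalars
  rw [← Finset.mul_prod_erase Finset.univ s₁ (Finset.mem_univ j), mul_comm, mul_smul]
  exact smul_mem_smul_restrictScalars _ _ _ _ (hmem j)

end Groth.Agent.Lib.Helper18.Fl
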