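import Mathlib
import Groth.Agent.Lib.Helper18.FlE5

/-!
# Openness of the flat locus (helper18)
-/

set_option autoImplicit false
set_option linter.unusedSectionVars false

namespace Groth.Agent.Lib.Helper18.Fl

open TensorProduct Function MvPolynomial

universe u

section Core

variable {R : Type u} [CommRing R] {σ : Type} [Finite σ] {m r : ℕ}

theorem isOpen_flatLocus_poly (g : Fin m → Fin r → MvPolynomial σ R) :
    IsOpen {q : PrimeSpectrum (MvPolynomial σ R) |
      Module.Flat R (LocalizedModule q.asIdeal.primeCompl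
        ((Fin r → MvPolynomial σ R) ⧸ Kspan g))} := by
  classical
  obtain ⟨T, hTdef⟩ : ∃ T : Set R, T = ⋃ i, ⋃ k, ((g i k).coeffs : Set R) := ⟨_, rfl⟩
  have hT : T.Finite := by
    rw [hTdef]
    exact Set.finite_iUnion fun i => Set.finite_iUnion fun k => Finset.finite_toSet _
  obtain ⟨S₀, hS₀def⟩ : ∃ S₀ : Subalgebra ℤ R, S₀ = Algebra.adjoin ℤ T := ⟨_, rfl⟩
  have hS₀ : S₀.FG := by rw [hS₀def]; exact Subalgebra.fg_def.2 ⟨T, hT, rfl⟩
  have hgT : ∀ i k, ((g i k).coeffs : Set R) ⊆ S₀ := fun i k x hx => by
    rw [hS₀def]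
    exact Algebra.subset_adjoin (by rw [hTdef]; exact Set.mem_iUnion.mpr ⟨i, Set.mem_iUnion.mpr ⟨k, hx⟩⟩)
  choose g₀ hg₀' using fun i k => exists_map_eq_of_coeffs_subset S₀ (g i k) (hgT i k)
  have hg₀ : ∀ i, mapVec (inc S₀) (g₀ i) = g i := fun i => funext fun k => hg₀' i k
  rw [isOpen_iff_forall_mem_open]
  intro q hq
  haveI := q.2
  obtain ⟨S₁, h01, hS₁, hfl⟩ := exists_flat_level g S₀ hS₀ g₀ hg₀ q.asIdeal hq
  haveI := isNoetherianRing_of_fg S₁ hS₁
  have hg₁ : ∀ i, mapVec (inc S₁) (mapVec (incl h01) (g₀ i)) = g i := by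
    intro i
    rw [mapVec_mapVec, inc_comp_incl, hg₀]
  refine ⟨PrimeSpectrum.comap (MvPolynomial.map (inc S₁)) ⁻¹'
    {q₁ : PrimeSpectrum (MvPolynomial σ S₁) |
      Module.Flat S₁ (LocalizedModule q₁.asIdeal.primeCompl
        ((Fin r → MvPolynomial σ S₁) ⧸ Kspan (fun i => mapVec (incl h01) (g₀ i))))}, ?_, ?_, ?_⟩
  · intro q' hq'
    haveI := q'.2
    exact flat_of_flat_level g S₁ hS₁ (fun i => mapVec (incl h01) (g₀ i)) hg₁ q'.asIdeal hq'
  · exact (isOpen_flatLocus_noeth (A := S₁) (B := MvPolynomial σ S₁)
      (Kspan (fun i => mapVec (incl h01) (g₀ i)))).preimage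
      (PrimeSpectrum.continuous_comap _)
  · exact hfl

end Core

section Red

/-- presentation-free version over a polynomial ring -/
theorem isOpen_flatLocus_mvPolynomial {R : Type u} [CommRing R] {σ : Type} [Finite σ]
    {M : Type u} [AddCommGroup M] [Module R M] [Module (MvPolynomial σ R) M]
    [IsScalarTower R (MvPolynomial σ R) M] [Module.FinitePresentation (MvPolynomial σ R) M] :
    IsOpen {q : PrimeSpectrum (MvPolynomial σ R) |
      Module.Flat R (LocalizedModule q.asIdeal.primeCompl M)} := by
  obtain ⟨r, K, e, hK⟩ := Module.FinitePresentation.exists_fin (MvPolynomial σ R) M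
  obtain ⟨m, g, hg⟩ := Submodule.fg_iff_exists_fin_generating_family.mp hK
  have hKg : K = Kspan g := hg.symm
  subst hKg
  have key : ∀ q : PrimeSpectrum (MvPolynomial σ R),
      Module.Flat R (LocalizedModule q.asIdeal.primeCompl M) ↔
      Module.Flat R (LocalizedModule q.asIdeal.primeCompl
        ((Fin r → MvPolynomial σ R) ⧸ Kspan g)) := by
    intro q
    haveI : IsLocalizedModule q.asIdeal.primeCompl
        ((LocalizedModule.mkLinearMap q.asIdeal.primeCompl
          ((Fin r → MvPolynomial σ R) ⧸ Kspan g)) ∘ₗ e.toLinearMap) := inferInstance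
    have e' := IsLocalizedModule.iso q.asIdeal.primeCompl
      ((LocalizedModule.mkLinearMap q.asIdeal.primeCompl
          ((Fin r → MvPolynomial σ R) ⧸ Kspan g)) ∘ₗ e.toLinearMap)
    exact ⟨fun h => Module.Flat.of_linearEquiv (e'.restrictScalars R).symm,
      fun h => Module.Flat.of_linearEquiv (e'.restrictScalars R)⟩
  simp_rw [key]
  exact isOpen_flatLocus_poly g

variable {R P S M : Type u} [CommRing R] [CommRing P] [CommRing S] [Algebra R P] [Algebra R S]
  [Algebra P S] [IsScalarTower R P S] [AddCommGroup M] [Module R M] [Module P M] [Module S M]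
  [IsScalarTower R P M] [IsScalarTower P S M] [IsScalarTower R S M]

theorem isOpen_flatLocus_of_surjective (hsurj : Surjective (algebraMap P S))
    (hP : IsOpen {q : PrimeSpectrum P |
      Module.Flat R (LocalizedModule q.asIdeal.primeCompl M)}) :
    IsOpen {q : PrimeSpectrum S | Module.Flat R (LocalizedModule q.asIdeal.primeCompl M)} := by
  have key : ∀ q : PrimeSpectrum S,
      Module.Flat R (LocalizedModule q.asIdeal.primeCompl M) ↔
      Module.Flat R (LocalizedModule (PrimeSpectrum.comap (algebraMap P S) q).asIdeal.primeCompl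
        M) := by
    intro q
    have hsub : Algebra.algebraMapSubmonoid S
        (PrimeSpectrum.comap (algebraMap P S) q).asIdeal.primeCompl = q.asIdeal.primeCompl := by
      ext x
      constructor
      · rintro ⟨y, hy, rfl⟩
        exact hy
      · intro hx
        obtain ⟨y, rfl⟩ := hsurj x
        exact ⟨y, hx, rfl⟩
    haveI : IsLocalizedModule (Algebra.algebraMapSubmonoid S
        (PrimeSpectrum.comap (algebraMap P S) q).asIdeal.primeCompl)
        (LocalizedModule.mkLinearMap q.asIdeal.primeCompl M) := by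
      rw [hsub]; infer_instance
    haveI : IsLocalizedModule (PrimeSpectrum.comap (algebraMap P S) q).asIdeal.primeCompl
        ((LocalizedModule.mkLinearMap q.asIdeal.primeCompl M).restrictScalars P) :=
      IsLocalizedModule.restrictScalars _ _
    have e' := IsLocalizedModule.iso (PrimeSpectrum.comap (algebraMap P S) q).asIdeal.primeCompl
      ((LocalizedModule.mkLinearMap q.asIdeal.primeCompl M).restrictScalars P)
    exact ⟨fun h => Module.Flat.of_linearEquiv (e'.restrictScalars R),
      fun h => Module.Flat.of_linearEquiv (e'.restrictScalars R).symm⟩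
  simp_rw [key]
  exact hP.preimage (PrimeSpectrum.continuous_comap _)

end Red

/-- **Openness of the flat locus**, algebra form. -/
theorem isOpen_flatLocus {R S M : Type u} [CommRing R] [CommRing S] [Algebra R S]
    [Algebra.FinitePresentation R S] [AddCommGroup M] [Module S M] [Module R M]
    [IsScalarTower R S M] [Module.FinitePresentation S M] :
    IsOpen {q : PrimeSpectrum S | Module.Flat R (LocalizedModule q.asIdeal.primeCompl M)} := by
  obtain ⟨n, π, hπ, hker⟩ := Algebra.FinitePresentation.out (R := R) (A := S)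
  letI : Algebra (MvPolynomial (Fin n) R) S := π.toRingHom.toAlgebra
  haveI : IsScalarTower R (MvPolynomial (Fin n) R) S :=
    IsScalarTower.of_algebraMap_eq (fun x => (π.commutes x).symm)
  letI : Module (MvPolynomial (Fin n) R) M := Module.compHom M π.toRingHom
  haveI : IsScalarTower (MvPolynomial (Fin n) R) S M :=
    IsScalarTower.of_algebraMap_smul (fun _ _ => rfl)
  haveI : IsScalarTower R (MvPolynomial (Fin n) R) M :=
    IsScalarTower.of_algebraMap_smul (fun a x => by
      change π (algebraMap R (MvPolynomial (Fin n) R) a) • x = a • x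
      rw [π.commutes, algebraMap_smul])
  haveI : Module.FinitePresentation (MvPolynomial (Fin n) R) S := by
    refine Module.finitePresentation_of_surjective (Algebra.linearMap (MvPolynomial (Fin n) R) S)
      hπ ?_
    exact hker
  haveI : Module.FinitePresentation (MvPolynomial (Fin n) R) M :=
    Module.FinitePresentation.trans (MvPolynomial (Fin n) R) M S
  exact isOpen_flatLocus_of_surjective (P := MvPolynomial (Fin n) R) hπ
    isOpen_flatLocus_mvPolynomial

end Groth.Agent.Lib.Helper18.Fl
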