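import Mathlib
import Groth.Agent.Lib.Helper18.FlF

/-!
# Global descent of flatness to a finitely generated level (helper18)
-/

set_option autoImplicit false
set_option linter.unusedSectionVars false

namespace Groth.Agent.Lib.Helper18.Fl

open TensorProduct Function MvPolynomial

universe u

variable {R : Type u} [CommRing R] {σ : Type} [Finite σ] {m r : ℕ}

theorem incl_comp_incl {S₀ S₁ S₂ : Subalgebra ℤ R} (h01 : S₀ ≤ S₁) (h12 : S₁ ≤ S₂) :
    (incl h12).comp (incl h01) = incl (h01.trans h12) :=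
  RingHom.ext fun _ => rfl

theorem flat_level_mono {S₀ S₁ S₂ : Subalgebra ℤ R} (h01 : S₀ ≤ S₁) (h12 : S₁ ≤ S₂)
    (hS₁ : S₁.FG) (hS₂ : S₂.FG) (g₀ : Fin m → Fin r → MvPolynomial σ S₀)
    (q : Ideal (MvPolynomial σ R)) [q.IsPrime]
    (hflat : Module.Flat S₁ (LocalizedModule (q.comap (MvPolynomial.map (inc S₁))).primeCompl
      ((Fin r → MvPolynomial σ S₁) ⧸ Kspan (fun i => mapVec (incl h01) (g₀ i))))) :
    Module.Flat S₂ (LocalizedModule (q.comap (MvPolynomial.map (inc S₂))).primeCompl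
      ((Fin r → MvPolynomial σ S₂) ⧸ Kspan (fun i => mapVec (incl (h01.trans h12)) (g₀ i)))) := by
  haveI := isNoetherianRing_of_fg S₁ hS₁
  haveI := isNoetherianRing_of_fg S₂ hS₂
  have hq : (q.comap (MvPolynomial.map (inc S₂))).comap (MvPolynomial.map (incl h12)) =
      q.comap (MvPolynomial.map (inc S₁)) := by
    rw [Ideal.comap_comap, map_comp_map, inc_comp_incl]
  haveI : Module.Flat S₁ (LocalizedModule ((q.comap (MvPolynomial.map (inc S₂))).comap
      (MvPolynomial.map (incl h12))).primeCompl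
      ((Fin r → MvPolynomial σ S₁) ⧸ Kspan (fun i => mapVec (incl h01) (g₀ i)))) :=
    flat_congr_prime hq.symm hflat
  have h := flat_ascent (incl h12) (fun i => mapVec (incl h01) (g₀ i))
    (q.comap (MvPolynomial.map (inc S₂)))
  have hgg : (fun i => mapVec (incl h12) (mapVec (incl h01) (g₀ i))) =
      fun i => mapVec (incl (h01.trans h12)) (g₀ i) := by
    funext i
    rw [mapVec_mapVec, incl_comp_incl]
  rw [hgg] at h
  exact h

theorem exists_flat_level_global (g : Fin m → Fin r → MvPolynomial σ R)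
    (S₀ : Subalgebra ℤ R) (hS₀ : S₀.FG) (g₀ : Fin m → Fin r → MvPolynomial σ S₀)
    (hg₀ : ∀ i, mapVec (inc S₀) (g₀ i) = g i)
    [hflat : Module.Flat R ((Fin r → MvPolynomial σ R) ⧸ Kspan g)] :
    ∃ (S₂ : Subalgebra ℤ R) (h02 : S₀ ≤ S₂), S₂.FG ∧
      Module.Flat S₂ ((Fin r → MvPolynomial σ S₂) ⧸
        Kspan (fun i => mapVec (incl h02) (g₀ i))) := by
  classical
  -- the cover of `Spec R[X]`
  have hcover : ∀ q : PrimeSpectrum (MvPolynomial σ R), ∃ (S₁ : Subalgebra ℤ R) (h01 : S₀ ≤ S₁),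
      S₁.FG ∧ Module.Flat S₁ (LocalizedModule
        (q.asIdeal.comap (MvPolynomial.map (inc S₁))).primeCompl
        ((Fin r → MvPolynomial σ S₁) ⧸ Kspan (fun i => mapVec (incl h01) (g₀ i)))) :=
    fun q => exists_flat_level g S₀ hS₀ g₀ hg₀ q.asIdeal
      (flat_localizedModule q.asIdeal.primeCompl)
  obtain ⟨W, hWdef⟩ : ∃ W : {S₁ : Subalgebra ℤ R // S₀ ≤ S₁ ∧ S₁.FG} →
      Set (PrimeSpectrum (MvPolynomial σ R)), W = fun i =>
      PrimeSpectrum.comap (MvPolynomial.map (inc i.1)) ⁻¹'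
        {q₁ : PrimeSpectrum (MvPolynomial σ i.1) |
          Module.Flat i.1 (LocalizedModule q₁.asIdeal.primeCompl
            ((Fin r → MvPolynomial σ i.1) ⧸ Kspan (fun j => mapVec (incl i.2.1) (g₀ j))))} :=
    ⟨_, rfl⟩
  have hWopen : ∀ i, IsOpen (W i) := by
    intro i
    rw [hWdef]
    haveI := isNoetherianRing_of_fg i.1 i.2.2
    exact (isOpen_flatLocus_noeth (A := i.1) (B := MvPolynomial σ i.1)
      (Kspan (fun j => mapVec (incl i.2.1) (g₀ j)))).preimage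
      (PrimeSpectrum.continuous_comap _)
  have hWcov : (Set.univ : Set (PrimeSpectrum (MvPolynomial σ R))) ⊆ ⋃ i, W i := by
    intro q _
    obtain ⟨S₁, h01, hS₁, hfl⟩ := hcover q
    rw [Set.mem_iUnion]
    refine ⟨⟨S₁, h01, hS₁⟩, ?_⟩
    rw [hWdef]
    exact hfl
  obtain ⟨t, ht⟩ := isCompact_univ.elim_finite_subcover W hWopen hWcov
  obtain ⟨S₁, hS₁def⟩ : ∃ S₁ : Subalgebra ℤ R, S₁ = S₀ ⊔ t.sup (fun i => i.1) := ⟨_, rfl⟩
  have h01 : S₀ ≤ S₁ := by rw [hS₁def]; exact le_sup_left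
  have hi1 : ∀ i ∈ t, i.1 ≤ S₁ := fun i hi => by
    rw [hS₁def]
    exact (Finset.le_sup (f := fun i : {S₁ : Subalgebra ℤ R // S₀ ≤ S₁ ∧ S₁.FG} => i.1) hi).trans
      le_sup_right
  have hS₁ : S₁.FG := by
    rw [hS₁def]
    refine hS₀.sup ?_
    refine Finset.sup_induction (p := fun S : Subalgebra ℤ R => S.FG) ?_ ?_ ?_
    · exact Subalgebra.fg_bot
    · exact fun a ha b hb => ha.sup hb
    · exact fun i _ => i.2.2
  haveI := isNoetherianRing_of_fg S₁ hS₁
  have hall : ∀ q : PrimeSpectrum (MvPolynomial σ R), Module.Flat S₁ (LocalizedModule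
      (q.asIdeal.comap (MvPolynomial.map (inc S₁))).primeCompl
      ((Fin r → MvPolynomial σ S₁) ⧸ Kspan (fun i => mapVec (incl h01) (g₀ i)))) := by
    intro q
    have hq := ht (Set.mem_univ q)
    rw [Set.mem_iUnion₂] at hq
    obtain ⟨i, hi, hqi⟩ := hq
    rw [hWdef] at hqi
    exact flat_level_mono i.2.1 (hi1 i hi) i.2.2 hS₁ g₀ q.asIdeal hqi
  -- the closed complement of the flat locus at level 1
  have hU₁ : IsOpen {q₁ : PrimeSpectrum (MvPolynomial σ S₁) |
      Module.Flat S₁ (LocalizedModule q₁.asIdeal.primeCompl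
        ((Fin r → MvPolynomial σ S₁) ⧸ Kspan (fun i => mapVec (incl h01) (g₀ i))))} :=
    isOpen_flatLocus_noeth (A := S₁) (B := MvPolynomial σ S₁)
      (Kspan (fun i => mapVec (incl h01) (g₀ i)))
  obtain ⟨J₁, hJ₁⟩ : ∃ J₁ : Ideal (MvPolynomial σ S₁), J₁ = PrimeSpectrum.vanishingIdeal
      {q₁ : PrimeSpectrum (MvPolynomial σ S₁) |
      Module.Flat S₁ (LocalizedModule q₁.asIdeal.primeCompl
        ((Fin r → MvPolynomial σ S₁) ⧸ Kspan (fun i => mapVec (incl h01) (g₀ i))))}ᶜ := ⟨_, rfl⟩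
  have hZ : {q₁ : PrimeSpectrum (MvPolynomial σ S₁) |
      Module.Flat S₁ (LocalizedModule q₁.asIdeal.primeCompl
        ((Fin r → MvPolynomial σ S₁) ⧸ Kspan (fun i => mapVec (incl h01) (g₀ i))))}ᶜ =
      PrimeSpectrum.zeroLocus (J₁ : Set (MvPolynomial σ S₁)) := by
    rw [hJ₁, PrimeSpectrum.zeroLocus_vanishingIdeal_eq_closure, hU₁.isClosed_compl.closure_eq]
  have hmemU : ∀ (Q₁ : Ideal (MvPolynomial σ S₁)) [Q₁.IsPrime], ¬ J₁ ≤ Q₁ →
      Module.Flat S₁ (LocalizedModule Q₁.primeCompl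
        ((Fin r → MvPolynomial σ S₁) ⧸ Kspan (fun i => mapVec (incl h01) (g₀ i)))) := by
    intro Q₁ hQ₁ hJ
    by_contra hnf
    have : (⟨Q₁, hQ₁⟩ : PrimeSpectrum (MvPolynomial σ S₁)) ∈
        PrimeSpectrum.zeroLocus (J₁ : Set (MvPolynomial σ S₁)) := by
      rw [← hZ]; exact hnf
    rw [PrimeSpectrum.mem_zeroLocus, SetLike.coe_subset_coe] at this
    exact hJ this
  obtain ⟨N, a, ha⟩ := Submodule.fg_iff_exists_fin_generating_family.mp
    (IsNoetherian.noetherian J₁)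
  have ha' : Ideal.span (Set.range a) = J₁ := ha
  have htop : Ideal.span (Set.range fun j => MvPolynomial.map (inc S₁) (a j)) = ⊤ := by
    by_contra hne
    obtain ⟨𝔪, h𝔪, hle⟩ := Ideal.exists_le_maximal _ hne
    haveI := h𝔪.isPrime
    have hJle : J₁ ≤ 𝔪.comap (MvPolynomial.map (inc S₁)) := by
      rw [← ha', Ideal.span_le]
      rintro _ ⟨j, rfl⟩
      exact hle (Ideal.subset_span ⟨j, rfl⟩)
    have h1 := hall ⟨𝔪, h𝔪.isPrime⟩
    have : (⟨𝔪.comap (MvPolynomial.map (inc S₁)), inferInstance⟩ :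
        PrimeSpectrum (MvPolynomial σ S₁)) ∈
        PrimeSpectrum.zeroLocus (J₁ : Set (MvPolynomial σ S₁)) := by
      rw [PrimeSpectrum.mem_zeroLocus, SetLike.coe_subset_coe]; exact hJle
    rw [← hZ] at this
    exact this h1
  have hone : (1 : MvPolynomial σ R) ∈
      Ideal.span (Set.range fun j => MvPolynomial.map (inc S₁) (a j)) := by
    rw [htop]; trivial
  obtain ⟨s, hs⟩ := (Submodule.mem_span_range_iff_exists_fun _).mp hone
  -- level 2
  obtain ⟨T, hTdef⟩ : ∃ T : Set R, T = ⋃ j, ((s j).coeffs : Set R) := ⟨_, rfl⟩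
  have hT : T.Finite := by
    rw [hTdef]; exact Set.finite_iUnion fun j => Finset.finite_toSet _
  obtain ⟨S₂, hS₂def⟩ : ∃ S₂ : Subalgebra ℤ R, S₂ = S₁ ⊔ Algebra.adjoin ℤ T := ⟨_, rfl⟩
  have h12 : S₁ ≤ S₂ := by rw [hS₂def]; exact le_sup_left
  have hTS : T ⊆ S₂ := by
    rw [hS₂def]
    exact fun x hx => (le_sup_right : Algebra.adjoin ℤ T ≤ _) (Algebra.subset_adjoin hx)
  have hS₂ : S₂.FG := by
    rw [hS₂def]; exact hS₁.sup (Subalgebra.fg_def.2 ⟨T, hT, rfl⟩)
  haveI := isNoetherianRing_of_fg S₂ hS₂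
  have hsT : ∀ j, ((s j).coeffs : Set R) ⊆ S₂ := fun j x hx =>
    hTS (by rw [hTdef]; exact Set.mem_iUnion.mpr ⟨j, hx⟩)
  choose s₂ hs₂ using fun j => exists_map_eq_of_coeffs_subset S₂ (s j) (hsT j)
  have hone₂ : ∑ j, s₂ j * MvPolynomial.map (incl h12) (a j) = 1 := by
    apply MvPolynomial.map_injective (inc S₂) (inc_injective S₂)
    rw [map_sum, map_one, ← hs]
    refine Finset.sum_congr rfl fun j _ => ?_
    rw [map_mul, hs₂, MvPolynomial.map_map, inc_comp_incl, smul_eq_mul]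
  refine ⟨S₂, h01.trans h12, hS₂, ?_⟩
  refine Module.flat_of_isLocalized_maximal (MvPolynomial σ S₂) _
    (fun P _ => LocalizedModule P.primeCompl _)
    (fun P _ => LocalizedModule.mkLinearMap P.primeCompl _) ?_
  intro Q hQ
  haveI := hQ.isPrime
  have hJQ : ¬ J₁ ≤ Q.comap (MvPolynomial.map (incl h12)) := by
    intro hle
    apply hQ.ne_top
    rw [Ideal.eq_top_iff_one, ← hone₂]
    refine Ideal.sum_mem _ fun j _ => Ideal.mul_mem_left _ _ ?_
    have : a j ∈ J₁ := by rw [← ha']; exact Ideal.subset_span ⟨j, rfl⟩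
    exact hle this
  haveI := hmemU (Q.comap (MvPolynomial.map (incl h12))) hJQ
  have h := flat_ascent (incl h12) (fun i => mapVec (incl h01) (g₀ i)) Q
  have hgg : (fun i => mapVec (incl h12) (mapVec (incl h01) (g₀ i))) =
      fun i => mapVec (incl (h01.trans h12)) (g₀ i) := by
    funext i
    rw [mapVec_mapVec, incl_comp_incl]
  rw [hgg] at h
  exact h

end Groth.Agent.Lib.Helper18.Fl
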