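import Mathlib

/-!
# Base change from generators and relations (helper18)
-/

set_option autoImplicit false
set_option linter.unusedSectionVars false

namespace Groth.Agent.Lib.Helper18.Fl

open TensorProduct Function

theorem isBaseChange_of_generators_relations {S₀ S : Type*} [CommRing S₀] [CommRing S]
    [Algebra S₀ S] {M₀ M : Type*} [AddCommGroup M₀] [Module S₀ M₀] [AddCommGroup M] [Module S M]
    [Module S₀ M] [IsScalarTower S₀ S M] (f : M₀ →ₗ[S₀] M) {r : ℕ} (x : Fin r → M₀)
    (hx : Submodule.span S₀ (Set.range x) = ⊤)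
    (hfx : Submodule.span S (Set.range fun j => f (x j)) = ⊤)
    (hrel : ∀ w : Fin r → S, ∑ j, w j • f (x j) = 0 →
      w ∈ Submodule.span S {w' : Fin r → S | ∃ w₀ : Fin r → S₀, (∑ j, w₀ j • x j = 0) ∧
        w' = fun j => algebraMap S₀ S (w₀ j)}) :
    IsBaseChange S f := by
  obtain ⟨Θ, hΘ⟩ : ∃ Θ : (Fin r → S) →ₗ[S] S ⊗[S₀] M₀,
      Θ = Fintype.linearCombination S (fun j => (1 : S) ⊗ₜ[S₀] x j) := ⟨_, rfl⟩
  have hΘapp : ∀ w, Θ w = ∑ j, w j ⊗ₜ[S₀] x j := by
    intro w
    rw [hΘ, Fintype.linearCombination_apply]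
    refine Finset.sum_congr rfl fun j _ => ?_
    rw [TensorProduct.smul_tmul', smul_eq_mul, mul_one]
  have hΘsurj : Surjective Θ := by
    intro z
    induction z using TensorProduct.induction_on with
    | zero => exact ⟨0, map_zero _⟩
    | tmul s m =>
      have hm : m ∈ Submodule.span S₀ (Set.range x) := by rw [hx]; trivial
      obtain ⟨a, rfl⟩ := (Submodule.mem_span_range_iff_exists_fun _).mp hm
      refine ⟨fun j => s * algebraMap S₀ S (a j), ?_⟩
      rw [hΘapp, TensorProduct.tmul_sum]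
      refine Finset.sum_congr rfl fun j _ => ?_
      rw [TensorProduct.tmul_smul, TensorProduct.smul_tmul', Algebra.smul_def, mul_comm]
    | add z z' hz hz' =>
      obtain ⟨w, rfl⟩ := hz
      obtain ⟨w', rfl⟩ := hz'
      exact ⟨w + w', map_add _ _ _⟩
  have hlift : ∀ w, LinearMap.liftBaseChange S f (Θ w) = ∑ j, w j • f (x j) := by
    intro w
    rw [hΘapp, map_sum]
    refine Finset.sum_congr rfl fun j _ => ?_
    rw [LinearMap.liftBaseChange_tmul]
  have hker : Submodule.span S {w' : Fin r → S | ∃ w₀ : Fin r → S₀, (∑ j, w₀ j • x j = 0) ∧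
        w' = fun j => algebraMap S₀ S (w₀ j)} ≤ LinearMap.ker Θ := by
    rw [Submodule.span_le]
    rintro _ ⟨w₀, hw₀, rfl⟩
    rw [SetLike.mem_coe, LinearMap.mem_ker, hΘapp]
    have : ∀ j, algebraMap S₀ S (w₀ j) ⊗ₜ[S₀] x j = (1 : S) ⊗ₜ[S₀] (w₀ j • x j) := by
      intro j
      rw [TensorProduct.tmul_smul, TensorProduct.smul_tmul', Algebra.smul_def, mul_one]
    simp_rw [this]
    rw [← TensorProduct.tmul_sum, hw₀, TensorProduct.tmul_zero]
  have hinj : Injective (LinearMap.liftBaseChange S f) := by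
    rw [injective_iff_map_eq_zero]
    intro z hz
    obtain ⟨w, rfl⟩ := hΘsurj z
    rw [hlift] at hz
    exact hker (hrel w hz)
  have hsurj : Surjective (LinearMap.liftBaseChange S f) := by
    intro y
    have hy : y ∈ Submodule.span S (Set.range fun j => f (x j)) := by rw [hfx]; trivial
    obtain ⟨w, rfl⟩ := (Submodule.mem_span_range_iff_exists_fun _).mp hy
    exact ⟨Θ w, hlift w⟩
  refine IsBaseChange.of_equiv (LinearEquiv.ofBijective (LinearMap.liftBaseChange S f)
    ⟨hinj, hsurj⟩) fun m => ?_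
  rw [LinearEquiv.ofBijective_apply, LinearMap.liftBaseChange_tmul, one_smul]

end Groth.Agent.Lib.Helper18.Fl
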