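import Mathlib
import Groth.Agent.Lib.Helper18.FlK2

/-!
# Descent of a flat finitely presented algebra to a finite type `ℤ`-algebra (helper18)
-/

set_option autoImplicit false
set_option linter.unusedSectionVars false

namespace Groth.Agent.Lib.Helper18.Fl

open TensorProduct Function MvPolynomial

universe u

/-- `(Fin 1 → A) ⧸ span (const ∘ h) ≃ A ⧸ span h`. -/
noncomputable def quotFinOneEquiv {σ : Type} {R : Type u} [CommRing R] {m : ℕ}
    (h : Fin m → MvPolynomial σ R) :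
    ((Fin 1 → MvPolynomial σ R) ⧸ Kspan (fun i => (fun _ : Fin 1 => h i))) ≃ₗ[MvPolynomial σ R]
      (MvPolynomial σ R ⧸ Ideal.span (Set.range h)) :=
  Submodule.Quotient.equiv _ _ (LinearEquiv.funUnique (Fin 1) (MvPolynomial σ R) (MvPolynomial σ R))
    (by
      rw [Submodule.map_span]
      congr 1
      ext x
      constructor
      · rintro ⟨_, ⟨i, rfl⟩, rfl⟩
        exact ⟨i, rfl⟩
      · rintro ⟨i, rfl⟩
        exact ⟨_, ⟨i, rfl⟩, rfl⟩)

/-- A flat finitely presented algebra descends to a flat finite type algebra over a finite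
type `ℤ`-algebra. -/
theorem exists_finiteType_int_flat_algebra_model (R : Type u) [CommRing R]
    (S : Type u) [CommRing S] [Algebra R S] [Algebra.FinitePresentation R S] [Module.Flat R S] :
    ∃ (R₀ : Type u) (_ : CommRing R₀) (_ : Algebra R₀ R) (S₀ : Type u) (_ : CommRing S₀)
      (_ : Algebra R₀ S₀) (_ : Algebra S₀ S) (_ : Algebra R₀ S) (_ : IsScalarTower R₀ R S)
      (_ : IsScalarTower R₀ S₀ S),
      Algebra.FiniteType ℤ R₀ ∧ Algebra.FiniteType R₀ S₀ ∧ Module.Flat R₀ S₀ ∧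
        Algebra.IsPushout R₀ R S₀ S := by
  classical
  obtain ⟨n, k, ⟨P⟩⟩ := Algebra.Presentation.exists_presentation_fin R S
  obtain ⟨g, hgdef⟩ : ∃ g : Fin k → Fin 1 → MvPolynomial (Fin n) R,
      g = fun l => (fun _ => P.relation l) := ⟨_, rfl⟩
  haveI : Module.Flat R ((Fin 1 → MvPolynomial (Fin n) R) ⧸ Kspan g) := by
    rw [hgdef]
    have e1 := (quotFinOneEquiv P.relation).restrictScalars R
    have e2 : (MvPolynomial (Fin n) R ⧸ Ideal.span (Set.range P.relation)) ≃ₗ[R] S :=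
      ((Ideal.quotientEquivAlgOfEq R P.span_range_relation_eq_ker).trans
        (P.quotientEquiv.restrictScalars R)).toLinearEquiv
    exact Module.Flat.of_linearEquiv (e1.trans e2)
  obtain ⟨S₀sub, hS₀def⟩ : ∃ S₀sub : Subalgebra ℤ R, S₀sub = Algebra.adjoin ℤ P.coeffs :=
    ⟨_, rfl⟩
  have hS₀ : S₀sub.FG := by
    rw [hS₀def]; exact Subalgebra.fg_def.2 ⟨P.coeffs, P.finite_coeffs, rfl⟩
  have hTS : P.coeffs ⊆ S₀sub := by rw [hS₀def]; exact Algebra.subset_adjoin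
  haveI hcoef₀ : P.HasCoeffs ↥S₀sub := ⟨fun x hx => ⟨⟨x, hTS hx⟩, rfl⟩⟩
  obtain ⟨g₀, hg₀def⟩ : ∃ g₀ : Fin k → Fin 1 → MvPolynomial (Fin n) S₀sub,
      g₀ = fun l => (fun _ => P.relationOfHasCoeffs ↥S₀sub l) := ⟨_, rfl⟩
  have hg₀ : ∀ i, mapVec (inc S₀sub) (g₀ i) = g i := by
    intro i
    funext j
    rw [mapVec_apply, hg₀def, hgdef]
    exact P.map_relationOfHasCoeffs ↥S₀sub i
  obtain ⟨S₂, h02, hS₂, hflat₂⟩ := exists_flat_level_global g S₀sub hS₀ g₀ hg₀
  haveI hcoef : P.HasCoeffs ↥S₂ := ⟨fun x hx => ⟨⟨x, h02 (hTS hx)⟩, rfl⟩⟩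
  have hg₂ : (fun i => mapVec (incl h02) (g₀ i)) =
      fun l => (fun _ => P.relationOfHasCoeffs ↥S₂ l) := by
    funext i
    apply mapVec_injective (inc S₂) (inc_injective S₂)
    rw [mapVec_mapVec, inc_comp_incl, hg₀, hgdef]
    funext j
    rw [mapVec_apply]
    exact (P.map_relationOfHasCoeffs ↥S₂ i).symm
  rw [hg₂] at hflat₂
  haveI : Module.Flat S₂ (P.ModelOfHasCoeffs ↥S₂) :=
    Module.Flat.of_linearEquiv
      ((quotFinOneEquiv (P.relationOfHasCoeffs ↥S₂)).restrictScalars S₂).symm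
  obtain ⟨φ, hφ⟩ : ∃ φ : P.ModelOfHasCoeffs ↥S₂ →ₐ[↥S₂] S,
      ∀ y : MvPolynomial (Fin n) S₂, φ (Ideal.Quotient.mk _ y) = aeval P.val y :=
    ⟨Ideal.Quotient.liftₐ _ (aeval P.val) (by
      simp_rw [← RingHom.mem_ker, ← SetLike.le_def, Ideal.span_le]
      rintro a ⟨i, rfl⟩
      simp), fun y => rfl⟩
  letI algS₀S : Algebra (P.ModelOfHasCoeffs ↥S₂) S := φ.toRingHom.toAlgebra
  refine ⟨↥S₂, inferInstance, inferInstance, P.ModelOfHasCoeffs ↥S₂, inferInstance, inferInstance,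
    algS₀S, inferInstance, ?_, ?_, ?_⟩
  · infer_instance
  · exact IsScalarTower.of_algebraMap_eq (fun x => (φ.commutes x).symm)
  · refine ⟨(Subalgebra.fg_iff_finiteType S₂).mp hS₂, inferInstance, inferInstance, ?_⟩
    constructor
    refine IsBaseChange.of_equiv ((P.tensorModelOfHasCoeffsEquiv ↥S₂).toLinearEquiv)
      (fun x => ?_)
    obtain ⟨y, rfl⟩ := Ideal.Quotient.mk_surjective x
    change P.tensorModelOfHasCoeffsEquiv ↥S₂ (1 ⊗ₜ y) = φ (Ideal.Quotient.mk _ y)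
    rw [Algebra.Presentation.tensorModelOfHasCoeffsEquiv_tmul, map_one, one_mul, hφ]

end Groth.Agent.Lib.Helper18.Fl
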