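import Mathlib
import Groth.Prelude.Def_CAlg
import Groth.Agent.Lib.Helper16.DepthExt

/-!
# Depth over Noetherian local rings: basic facts (helper18)

* `exists_regular_iff` : `(∃ x ∈ I, IsSMulRegular M x) ↔ ∀ p ∈ Ass M, ¬ I ≤ p`.
* `one_le_idealDepth_iff`.
* `depth_eq_zero_iff` : `depth M = 0 ↔ 𝔪 ∈ Ass M`.
-/

set_option autoImplicit false
set_option linter.unusedSectionVars false
universe u

open CategoryTheory RingTheory.Sequence IsLocalRing
open Groth.Agent.Lib.Helper16.Depth

namespace Groth.Agent.Lib.Helper18.CM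

section general

variable {R : Type u} [CommRing R] [IsNoetherianRing R] (I : Ideal R)
  (M : Type u) [AddCommGroup M] [Module R M] [Module.Finite R M]

/-- prime avoidance: an ideal contains an `M`-regular element iff it is contained in no
associated prime of `M`. -/
theorem exists_regular_iff :
    (∃ x ∈ I, IsSMulRegular M x) ↔ ∀ p ∈ associatedPrimes R M, ¬ I ≤ p := by
  constructor
  · rintro ⟨x, hxI, hx⟩ p hp hle
    have : x ∈ ⋃ p ∈ associatedPrimes R M, (p : Set R) :=
      Set.mem_biUnion hp (hle hxI)
    rw [biUnion_associatedPrimes_eq_compl_regular R M] at this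
    exact this hx
  · intro h
    by_contra! hcon
    cases subsingleton_or_nontrivial M
    · exact hcon 0 I.zero_mem (IsSMulRegular.zero)
    · have hexist : ∃ p ∈ associatedPrimes R M, I ≤ p := by
        rcases associatedPrimes.nonempty R M with ⟨Ia, hIa⟩
        apply (Ideal.subset_union_prime_finite (associatedPrimes.finite R M) Ia Ia _).mp
        · rw [biUnion_associatedPrimes_eq_compl_regular R M]
          exact fun r hr ↦ hcon r hr
        · exact fun I hin _ _ ↦ IsAssociatedPrime.isPrime hin
      obtain ⟨p, hp, hle⟩ := hexist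
      exact h p hp hle

theorem hasRegSeq_one_iff : HasRegSeq I M 1 ↔ ∃ x ∈ I, IsSMulRegular M x := by
  constructor
  · rintro ⟨rs, hlen, hreg, hmem⟩
    match rs, hlen with
    | [x], _ =>
      refine ⟨x, hmem x (by simp), ?_⟩
      exact ((isWeaklyRegular_cons_iff M x []).mp hreg).1
  · rintro ⟨x, hxI, hx⟩
    exact HasRegSeq.cons hxI hx HasRegSeq.zero

theorem one_le_idealDepth_iff (hIM : I • (⊤ : Submodule R M) ≠ ⊤) :
    1 ≤ LocCoh.idealDepth I M ↔ ∃ x ∈ I, IsSMulRegular M x := by
  have := le_idealDepth_iff (I := I) (M := M) 1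
  rw [Nat.cast_one] at this
  rw [this, hasRegSeq_one_iff]
  simp [hIM]

end general

section loc

variable {R : Type u} [CommRing R] [IsLocalRing R] [IsNoetherianRing R]
  (M : Type u) [AddCommGroup M] [Module R M] [Module.Finite R M]

theorem maximalIdeal_smul_top_ne_top [Nontrivial M] :
    maximalIdeal R • (⊤ : Submodule R M) ≠ ⊤ :=
  (Submodule.top_ne_ideal_smul_of_le_jacobson_annihilator
    (IsLocalRing.maximalIdeal_le_jacobson _)).symm

theorem depth_eq_top_of_subsingleton [Subsingleton M] : LocCoh.depth R M = ⊤ := by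
  apply idealDepth_eq_top_of_smul_top_eq_top
  exact Subsingleton.elim _ _

theorem one_le_depth_iff [Nontrivial M] :
    1 ≤ LocCoh.depth R M ↔ ∃ x ∈ maximalIdeal R, IsSMulRegular M x :=
  one_le_idealDepth_iff _ M (maximalIdeal_smul_top_ne_top M)

/-- `depth M = 0` iff the maximal ideal is an associated prime of `M`. -/
theorem depth_eq_zero_iff :
    LocCoh.depth R M = 0 ↔ maximalIdeal R ∈ associatedPrimes R M := by
  cases subsingleton_or_nontrivial M
  · rw [depth_eq_top_of_subsingleton]
    simp only [ENat.top_ne_zero, false_iff]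
    intro h
    rw [associatedPrimes.eq_empty_of_subsingleton] at h
    exact h
  · have h1 : LocCoh.depth R M = 0 ↔ ¬ 1 ≤ LocCoh.depth R M := by
      rw [Order.one_le_iff_ne_zero, not_not]
    rw [h1, one_le_depth_iff, exists_regular_iff]
    push Not
    constructor
    · rintro ⟨p, hp, hle⟩
      have hpp : p.IsPrime := IsAssociatedPrime.isPrime hp
      have : p = maximalIdeal R :=
        le_antisymm (IsLocalRing.le_maximalIdeal hpp.ne_top) hle
      exact this ▸ hp
    · intro h
      exact ⟨_, h, le_rfl⟩

end loc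

end Groth.Agent.Lib.Helper18.CM
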