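import Mathlib
import Groth.Prelude.Def_CAlg
import Groth.Agent.Lib.Helper18.CM1
import Groth.Agent.S0320

/-!
# Depth over Noetherian local rings, part 2 (helper18)

* `ringKrullDim_quotient_succ_le_of_lt` : `p < q` primes ⇒ `dim R/q + 1 ≤ dim R/p`.
* `mem_associatedPrimes_quotSMulTop_of_mem_minimalPrimes` : EGA 0_IV 16.4.6.1.
* `depth_quotSMulTop` : `depth (M/xM) + 1 = depth M`.
* `depth_le_supportDim`, `depth_ne_top`.
* `depth_le_ringKrullDim_quotient` : `depth M ≤ dim R/p` for `p ∈ Ass M`.
-/

set_option autoImplicit false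
set_option linter.unusedSectionVars false
universe u

open CategoryTheory RingTheory.Sequence IsLocalRing Pointwise
open Groth.Agent.Lib.Helper16.Depth

namespace Groth.Agent.Lib.Helper18.CM

section dim

variable {R : Type u} [CommRing R]

theorem ringKrullDim_quotient_succ_le_of_lt {p q : Ideal R} [hp : p.IsPrime] (hpq : p < q) :
    ringKrullDim (R ⧸ q) + 1 ≤ ringKrullDim (R ⧸ p) := by
  by_cases hq : q = ⊤
  · subst hq
    rw [ringKrullDim_eq_bot_of_subsingleton]
    simp
  have hne : Nonempty (PrimeSpectrum.zeroLocus (R := R) q) := by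
    rwa [Set.nonempty_coe_sort, Set.nonempty_iff_ne_empty, ne_eq,
      PrimeSpectrum.zeroLocus_empty_iff_eq_top]
  have hne' : Nonempty (PrimeSpectrum.zeroLocus (R := R) p) :=
    ⟨⟨⟨p, hp⟩, by simp⟩⟩
  rw [ringKrullDim_quotient, ringKrullDim_quotient, Order.krullDim_eq_iSup_length,
    Order.krullDim_eq_iSup_length, ← WithBot.coe_one, ← WithBot.coe_add,
    ENat.iSup_add, WithBot.coe_le_coe, iSup_le_iff]
  intro l
  let p' : PrimeSpectrum.zeroLocus (R := R) p := ⟨⟨p, hp⟩, by simp⟩
  have hle : PrimeSpectrum.zeroLocus (R := R) q ⊆ PrimeSpectrum.zeroLocus (R := R) p :=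
    PrimeSpectrum.zeroLocus_anti_mono hpq.le
  let l' : LTSeries (PrimeSpectrum.zeroLocus (R := R) p) :=
    l.map (Set.MapsTo.restrict id _ _ hle) (fun _ _ h ↦ h)
  have hp' : p' < l'.head := by
    have h1 : q ≤ l.head.1.asIdeal := l.head.2
    have : p < l.head.1.asIdeal := lt_of_lt_of_le hpq h1
    exact this
  refine le_trans ?_ (le_iSup _ (l'.cons p' hp'))
  simp [l']

end dim

section ass

variable {A : Type u} [CommRing A] [IsNoetherianRing A] (M : Type u) [AddCommGroup M] [Module A M]
  [Module.Finite A M]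

/-- EGA 0_IV (16.4.6.1): if `t` is `M`-regular and `p ∈ Ass M`, every minimal prime of `p + tA`
is an associated prime of `M/tM`. -/
theorem mem_associatedPrimes_quotSMulTop_of_mem_minimalPrimes (t : A)
    (ht : IsSMulRegular M t) (p : Ideal A) (hp : p ∈ associatedPrimes A M) (q : Ideal A)
    (hq : q ∈ (p ⊔ Ideal.span {t}).minimalPrimes) : q ∈ associatedPrimes A (QuotSMulTop t M) := by
  classical
  obtain ⟨hpp, z, hz⟩ := isAssociatedPrime_iff.mp hp
  have hmemp : ∀ a : A, a ∈ p ↔ a • z = 0 := by
    intro a
    rw [hz, Submodule.mem_colon_singleton, Submodule.mem_bot]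
  -- the submodule killed by `p`
  let N : Submodule A M := Submodule.torsionBySet A M (p : Set A)
  have hzN : z ∈ N := by
    rw [Submodule.mem_torsionBySet_iff]
    rintro ⟨a, ha⟩
    exact (hmemp a).mp ha
  have hannN : Module.annihilator A N = p := by
    apply le_antisymm
    · intro a ha
      rw [Module.mem_annihilator] at ha
      have := ha ⟨z, hzN⟩
      rw [hmemp]
      simpa [Subtype.ext_iff] using this
    · intro a ha
      rw [Module.mem_annihilator]
      rintro ⟨n, hn⟩
      rw [Submodule.mem_torsionBySet_iff] at hn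
      exact Subtype.ext (hn ⟨a, ha⟩)
  -- the induced map on quotients is injective
  let φ : QuotSMulTop t N →ₗ[A] QuotSMulTop t M := QuotSMulTop.map t N.subtype
  have hφ : Function.Injective φ := by
    rw [← LinearMap.ker_eq_bot, LinearMap.ker_eq_bot']
    intro x hx
    obtain ⟨n, rfl⟩ := Submodule.Quotient.mk_surjective _ x
    have h1 : (n : M) ∈ t • (⊤ : Submodule A M) := by
      have : φ (Submodule.Quotient.mk n) = Submodule.Quotient.mk (n : M) := rfl
      rw [this, Submodule.Quotient.mk_eq_zero] at hx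
      exact hx
    obtain ⟨m, -, hm⟩ := (Submodule.mem_smul_pointwise_iff_exists _ _ _).mp h1
    have hmN : m ∈ N := by
      rw [Submodule.mem_torsionBySet_iff]
      rintro ⟨a, ha⟩
      have hn := (Submodule.mem_torsionBySet_iff _ _).mp n.2 ⟨a, ha⟩
      apply ht
      change t • (a • m) = t • 0
      rw [smul_zero, smul_comm, hm]
      exact hn
    rw [Submodule.Quotient.mk_eq_zero]
    refine (Submodule.mem_smul_pointwise_iff_exists _ _ _).mpr ⟨⟨m, hmN⟩, trivial, ?_⟩
    exact Subtype.ext hm
  apply associatedPrimes.subset_of_injective hφ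
  apply Module.associatedPrimes.minimalPrimes_annihilator_subset_associatedPrimes
  -- compare radicals
  have hsupp : PrimeSpectrum.zeroLocus (Module.annihilator A (QuotSMulTop t N) : Set A) =
      PrimeSpectrum.zeroLocus ((p ⊔ Ideal.span {t} : Ideal A) : Set A) := by
    rw [← Module.support_eq_zeroLocus, Module.support_quotSMulTop, Module.support_eq_zeroLocus,
      hannN, ← PrimeSpectrum.zeroLocus_span {t}, ← PrimeSpectrum.zeroLocus_sup]
  rw [PrimeSpectrum.zeroLocus_eq_iff] at hsupp
  rw [← Ideal.radical_minimalPrimes, hsupp, Ideal.radical_minimalPrimes]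
  exact hq

end ass

section loc

variable {R : Type u} [CommRing R] [IsLocalRing R] [IsNoetherianRing R]

theorem nontrivial_quotSMulTop (M : Type u) [AddCommGroup M] [Module R M] [Module.Finite R M]
    [Nontrivial M] {x : R} (hx : x ∈ maximalIdeal R) : Nontrivial (QuotSMulTop x M) := by
  apply Submodule.Quotient.nontrivial_iff.mpr
  apply (Submodule.top_ne_pointwise_smul_of_mem_jacobson_annihilator _).symm
  exact (IsLocalRing.maximalIdeal_le_jacobson _) hx

/-- `depth (M/xM) + 1 = depth M` for `x ∈ 𝔪` regular on `M`. -/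
theorem depth_quotSMulTop (M : Type u) [AddCommGroup M] [Module R M] [Module.Finite R M]
    {x : R} (hx : x ∈ maximalIdeal R) (hreg : IsSMulRegular M x) :
    LocCoh.depth R (QuotSMulTop x M) + 1 = LocCoh.depth R M := by
  cases subsingleton_or_nontrivial M
  · rw [depth_eq_top_of_subsingleton, depth_eq_top_of_subsingleton]
    rfl
  · exact Groth.Agent.S0320.result R (maximalIdeal R) M (maximalIdeal_smul_top_ne_top M) x hx hreg

theorem mem_jacobson_annihilator (M : Type u) [AddCommGroup M] [Module R M]
    {x : R} (hx : x ∈ maximalIdeal R) : x ∈ (Module.annihilator R M).jacobson :=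
  (IsLocalRing.maximalIdeal_le_jacobson _) hx

theorem natCast_le_supportDim_of_le_depth (n : ℕ) :
    ∀ (M : Type u) [AddCommGroup M] [Module R M] [Module.Finite R M] [Nontrivial M],
      (n : ℕ∞) ≤ LocCoh.depth R M → ((n : ℕ∞) : WithBot ℕ∞) ≤ Module.supportDim R M := by
  induction n with
  | zero =>
    intro M _ _ _ _ _
    have := Module.supportDim_ne_bot_of_nontrivial R M
    rw [Nat.cast_zero, WithBot.coe_zero]
    exact (WithBot.coe_unbot _ this) ▸ (WithBot.coe_le_coe.mpr zero_le)
  | succ n ih =>
    intro M _ _ _ _ h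
    have h1 : 1 ≤ LocCoh.depth R M := le_trans (by simp) h
    obtain ⟨x, hx, hreg⟩ := (one_le_depth_iff M).mp h1
    have hnt := nontrivial_quotSMulTop M hx
    have hd := depth_quotSMulTop M hx hreg
    have h2 : (n : ℕ∞) ≤ LocCoh.depth R (QuotSMulTop x M) := by
      rw [← hd] at h
      push_cast at h
      exact (ENat.add_le_add_iff_right (by simp)).mp h
    have h3 := ih (QuotSMulTop x M) h2
    have h4 := Module.supportDim_quotSMulTop_succ_eq_supportDim_mem_jacobson hreg
      (mem_jacobson_annihilator M hx)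
    rw [← h4]
    push_cast
    exact add_le_add h3 le_rfl

/-- `depth M ≤ dim M` for a nonzero finite module over a Noetherian local ring. -/
theorem depth_le_supportDim (M : Type u) [AddCommGroup M] [Module R M] [Module.Finite R M]
    [Nontrivial M] : ((LocCoh.depth R M : ℕ∞) : WithBot ℕ∞) ≤ Module.supportDim R M := by
  by_cases htop : LocCoh.depth R M = ⊤
  · -- impossible: supportDim is finite
    have hfin : Module.supportDim R M < ⊤ :=
      lt_of_le_of_lt (Module.supportDim_le_ringKrullDim R M) ringKrullDim_lt_top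
    obtain ⟨d, hd⟩ := WithBot.ne_bot_iff_exists.mp (Module.supportDim_ne_bot_of_nontrivial R M)
    rw [← hd] at hfin ⊢
    have hd' : d ≠ ⊤ := by
      intro h
      rw [h] at hfin
      exact lt_irrefl _ hfin
    obtain ⟨k, rfl⟩ := ENat.ne_top_iff_exists.mp hd'
    have := natCast_le_supportDim_of_le_depth (k + 1) M (by rw [htop]; exact le_top)
    rw [← hd] at this
    have : ((k + 1 : ℕ) : ℕ∞) ≤ (k : ℕ∞) := WithBot.coe_le_coe.mp this
    have : k + 1 ≤ k := by exact_mod_cast this
    omega
  · obtain ⟨k, hk⟩ := ENat.ne_top_iff_exists.mp htop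
    rw [← hk]
    exact natCast_le_supportDim_of_le_depth k M (by rw [← hk])

theorem depth_ne_top (M : Type u) [AddCommGroup M] [Module R M] [Module.Finite R M]
    [Nontrivial M] : LocCoh.depth R M ≠ ⊤ := by
  intro htop
  have h := depth_le_supportDim (R := R) M
  rw [htop] at h
  have hfin : Module.supportDim R M < ⊤ :=
    lt_of_le_of_lt (Module.supportDim_le_ringKrullDim R M) ringKrullDim_lt_top
  exact absurd (lt_of_le_of_lt h hfin) (lt_irrefl _)

theorem natCast_le_ringKrullDim_quotient_of_le_depth (n : ℕ) :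
    ∀ (M : Type u) [AddCommGroup M] [Module R M] [Module.Finite R M] (p : Ideal R),
      p ∈ associatedPrimes R M → (n : ℕ∞) ≤ LocCoh.depth R M →
        ((n : ℕ∞) : WithBot ℕ∞) ≤ ringKrullDim (R ⧸ p) := by
  induction n with
  | zero =>
    intro M _ _ _ p hp _
    have hpp : p.IsPrime := IsAssociatedPrime.isPrime hp
    have : Nontrivial (R ⧸ p) := Ideal.Quotient.nontrivial_iff.mpr hpp.ne_top
    rw [Nat.cast_zero, WithBot.coe_zero]
    exact ringKrullDim_nonneg_of_nontrivial
  | succ n ih =>
    intro M _ _ _ p hp h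
    have hpp : p.IsPrime := IsAssociatedPrime.isPrime hp
    have hM : Nontrivial M := by
      by_contra hcon
      rw [not_nontrivial_iff_subsingleton] at hcon
      rw [associatedPrimes.eq_empty_of_subsingleton] at hp
      exact hp
    have h1 : 1 ≤ LocCoh.depth R M := le_trans (by simp) h
    obtain ⟨x, hx, hreg⟩ := (one_le_depth_iff M).mp h1
    have hd := depth_quotSMulTop M hx hreg
    have h2 : (n : ℕ∞) ≤ LocCoh.depth R (QuotSMulTop x M) := by
      rw [← hd] at h
      push_cast at h
      exact (ENat.add_le_add_iff_right (by simp)).mp h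
    -- `x ∉ p`
    have hxp : x ∉ p := by
      intro hxp
      have : x ∈ ⋃ p ∈ associatedPrimes R M, (p : Set R) := Set.mem_biUnion hp hxp
      rw [biUnion_associatedPrimes_eq_compl_regular R M] at this
      exact this hreg
    have hne : p ⊔ Ideal.span {x} ≠ ⊤ := by
      intro htop
      have : p ⊔ Ideal.span {x} ≤ maximalIdeal R :=
        sup_le (IsLocalRing.le_maximalIdeal hpp.ne_top)
          ((Ideal.span_singleton_le_iff_mem _).mpr hx)
      rw [htop] at this
      exact (IsLocalRing.maximalIdeal.isMaximal R).ne_top (top_le_iff.mp this)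
    obtain ⟨q, hq⟩ := Ideal.nonempty_minimalPrimes hne
    have hqass := mem_associatedPrimes_quotSMulTop_of_mem_minimalPrimes M x hreg p hp q hq
    have h3 := ih (QuotSMulTop x M) q hqass h2
    have hpq : p < q := by
      refine lt_of_le_of_ne (le_trans le_sup_left hq.1.2) ?_
      intro heq
      apply hxp
      rw [heq]
      exact hq.1.2 (Ideal.mem_sup_right (Ideal.mem_span_singleton_self x))
    have h4 := ringKrullDim_quotient_succ_le_of_lt hpq
    refine le_trans ?_ h4
    push_cast
    exact add_le_add h3 le_rfl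

/-- `depth M ≤ dim R/p` for every associated prime `p` of `M`. -/
theorem depth_le_ringKrullDim_quotient (M : Type u) [AddCommGroup M] [Module R M]
    [Module.Finite R M] (p : Ideal R) (hp : p ∈ associatedPrimes R M) :
    ((LocCoh.depth R M : ℕ∞) : WithBot ℕ∞) ≤ ringKrullDim (R ⧸ p) := by
  have hM : Nontrivial M := by
    by_contra hcon
    rw [not_nontrivial_iff_subsingleton] at hcon
    rw [associatedPrimes.eq_empty_of_subsingleton] at hp
    exact hp
  obtain ⟨k, hk⟩ := ENat.ne_top_iff_exists.mp (depth_ne_top (R := R) M)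
  rw [← hk]
  exact natCast_le_ringKrullDim_quotient_of_le_depth k M p hp (by rw [← hk])

end loc

end Groth.Agent.Lib.Helper18.CM
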