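import Mathlib
import Groth.Prelude.Def_CAlg
import Groth.Agent.Lib.Helper18.CM2

/-!
# Cohen–Macaulay modules over Noetherian local rings (helper18)

* `idealDepth_congr`, `depth_congr`, `isCohenMacaulayModule_congr` : invariance under linear equivalence.
* `ringKrullDim_quotient_eq_supportDim_of_isCohenMacaulayModule` : CM ⇒ unmixed.
* `isSMulRegular_of_supportDim_quotSMulTop` : for CM `M`, `dim M/xM = dim M - 1` ⇒ `x` regular.
* `isCohenMacaulayModule_quotSMulTop`.
-/

set_option autoImplicit false
set_option linter.unusedSectionVars false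
universe u

open CategoryTheory RingTheory.Sequence IsLocalRing Pointwise
open Groth.Agent.Lib.Helper16.Depth

namespace Groth.Agent.Lib.Helper18.CM

section congr

variable {R : Type u} [CommRing R] {M M' : Type u} [AddCommGroup M] [Module R M]
  [AddCommGroup M'] [Module R M']

theorem smul_top_eq_top_congr (e : M ≃ₗ[R] M') (I : Ideal R) :
    I • (⊤ : Submodule R M) = ⊤ ↔ I • (⊤ : Submodule R M') = ⊤ := by
  have key : ∀ {N N' : Type u} [AddCommGroup N] [Module R N] [AddCommGroup N'] [Module R N']
      (f : N ≃ₗ[R] N'), I • (⊤ : Submodule R N) = ⊤ → I • (⊤ : Submodule R N') = ⊤ := by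
    intro N N' _ _ _ _ f h
    have := congrArg (Submodule.map f.toLinearMap) h
    rwa [Submodule.map_smul'', Submodule.map_top, LinearEquiv.range] at this
  exact ⟨key e, key e.symm⟩

theorem idealDepth_congr (e : M ≃ₗ[R] M') (I : Ideal R) :
    LocCoh.idealDepth I M = LocCoh.idealDepth I M' := by
  unfold LocCoh.idealDepth
  simp only [smul_top_eq_top_congr e I, e.isWeaklyRegular_congr]

theorem depth_congr [IsLocalRing R] (e : M ≃ₗ[R] M') :
    LocCoh.depth R M = LocCoh.depth R M' :=
  idealDepth_congr e _

theorem isCohenMacaulayModule_congr [IsLocalRing R] (e : M ≃ₗ[R] M') :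
    LocCoh.IsCohenMacaulayModule R M ↔ LocCoh.IsCohenMacaulayModule R M' := by
  unfold LocCoh.IsCohenMacaulayModule
  rw [depth_congr e, Module.supportDim_eq_of_equiv e]

/-- `M ⧸ (span {x}) • ⊤ ≃ QuotSMulTop x M` -/
noncomputable def quotSpanSingletonEquiv (x : R) (M : Type u) [AddCommGroup M] [Module R M] :
    (M ⧸ Ideal.span {x} • (⊤ : Submodule R M)) ≃ₗ[R] QuotSMulTop x M :=
  Submodule.quotEquivOfEq _ _ (Submodule.ideal_span_singleton_smul x ⊤)

end congr

section loc

variable {R : Type u} [CommRing R] [IsLocalRing R] [IsNoetherianRing R]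
  (M : Type u) [AddCommGroup M] [Module R M] [Module.Finite R M]

omit [IsLocalRing R] [IsNoetherianRing R] [Module.Finite R M] in
theorem annihilator_le_of_mem_associatedPrimes {p : Ideal R} (hp : p ∈ associatedPrimes R M) :
    Module.annihilator R M ≤ p := by
  have := IsAssociatedPrime.annihilator_le hp
  rwa [Submodule.annihilator_top] at this

theorem nontrivial_of_isCohenMacaulayModule (hM : LocCoh.IsCohenMacaulayModule R M) :
    Nontrivial M := by
  by_contra hcon
  rw [not_nontrivial_iff_subsingleton] at hcon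
  unfold LocCoh.IsCohenMacaulayModule at hM
  rw [Module.supportDim_eq_bot_of_subsingleton] at hM
  exact WithBot.bot_ne_coe hM

omit [IsLocalRing R] [IsNoetherianRing R] in
theorem ringKrullDim_quotient_le_supportDim (p : Ideal R) (hp : Module.annihilator R M ≤ p) :
    ringKrullDim (R ⧸ p) ≤ Module.supportDim R M := by
  rw [Module.supportDim_eq_ringKrullDim_quotient_annihilator]
  exact ringKrullDim_le_of_surjective (Ideal.Quotient.factor hp)
    (Ideal.Quotient.factor_surjective hp)

omit [IsLocalRing R] [IsNoetherianRing R] in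
theorem ringKrullDim_quotient_le_supportDim_of_mem_support (p : PrimeSpectrum R)
    (hp : p ∈ Module.support R M) :
    ringKrullDim (R ⧸ p.asIdeal) ≤ Module.supportDim R M :=
  ringKrullDim_quotient_le_supportDim M _ (Module.mem_support_iff_of_finite.mp hp)

/-- Cohen–Macaulay modules are unmixed: `dim R/p = dim M` for all `p ∈ Ass M`. -/
theorem ringKrullDim_quotient_eq_supportDim_of_isCohenMacaulayModule
    (hM : LocCoh.IsCohenMacaulayModule R M) (p : Ideal R) (hp : p ∈ associatedPrimes R M) :
    ringKrullDim (R ⧸ p) = Module.supportDim R M := by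
  apply le_antisymm
  · exact ringKrullDim_quotient_le_supportDim M p (annihilator_le_of_mem_associatedPrimes M hp)
  · rw [hM]
    exact depth_le_ringKrullDim_quotient M p hp

theorem supportDim_lt_top : Module.supportDim R M < ⊤ :=
  lt_of_le_of_lt (Module.supportDim_le_ringKrullDim R M) ringKrullDim_lt_top

/-- auxiliary: `a < a + 1` in `WithBot ℕ∞` for finite `a`. -/
theorem lt_add_one_of_ne {a : WithBot ℕ∞} (h1 : a ≠ ⊥) (h2 : a < ⊤) : a < a + 1 := by
  obtain ⟨d, rfl⟩ := WithBot.ne_bot_iff_exists.mp h1
  have hd : d ≠ ⊤ := by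
    rintro rfl
    exact lt_irrefl _ h2
  obtain ⟨k, rfl⟩ := ENat.ne_top_iff_exists.mp hd
  rw [← WithBot.coe_one, ← WithBot.coe_add, WithBot.coe_lt_coe]
  exact_mod_cast Nat.lt_succ_self k

/-- For a Cohen–Macaulay module, an element of the maximal ideal cutting the dimension down by one
is a nonzerodivisor. -/
theorem isSMulRegular_of_supportDim_quotSMulTop (hM : LocCoh.IsCohenMacaulayModule R M) {x : R}
    (hx : x ∈ maximalIdeal R)
    (hdim : Module.supportDim R (QuotSMulTop x M) + 1 = Module.supportDim R M) :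
    IsSMulRegular M x := by
  have hnt := nontrivial_of_isCohenMacaulayModule M hM
  have hnt' := nontrivial_quotSMulTop M hx
  by_contra hreg
  have : x ∈ ⋃ p ∈ associatedPrimes R M, (p : Set R) := by
    rw [biUnion_associatedPrimes_eq_compl_regular R M]
    exact hreg
  obtain ⟨p, hp, hxp⟩ := Set.mem_iUnion₂.mp this
  have hpp : p.IsPrime := IsAssociatedPrime.isPrime hp
  have hsupp : (⟨p, hpp⟩ : PrimeSpectrum R) ∈ Module.support R (QuotSMulTop x M) := by
    rw [Module.support_quotSMulTop]
    refine ⟨Module.mem_support_iff_of_finite.mpr (annihilator_le_of_mem_associatedPrimes M hp), ?_⟩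
    simpa using hxp
  have h1 := ringKrullDim_quotient_le_supportDim_of_mem_support (QuotSMulTop x M) ⟨p, hpp⟩ hsupp
  rw [ringKrullDim_quotient_eq_supportDim_of_isCohenMacaulayModule M hM p hp, ← hdim] at h1
  have h2 := lt_add_one_of_ne (Module.supportDim_ne_bot_of_nontrivial R (QuotSMulTop x M))
    (supportDim_lt_top (QuotSMulTop x M))
  exact absurd (lt_of_lt_of_le h2 h1) (lt_irrefl _)

/-- auxiliary cancellation in `WithBot ℕ∞`. -/
theorem withBot_add_one_cancel {a : WithBot ℕ∞} {d : ℕ∞} (hd : d ≠ ⊤)
    (h : a + 1 = ((d + 1 : ℕ∞) : WithBot ℕ∞)) : a = (d : WithBot ℕ∞) := by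
  induction a using WithBot.recBotCoe with
  | bot =>
    rw [WithBot.bot_add] at h
    exact absurd h WithBot.bot_ne_coe
  | coe a =>
    have h' : ((a + 1 : ℕ∞) : WithBot ℕ∞) = ((d + 1 : ℕ∞) : WithBot ℕ∞) := h
    rw [WithBot.coe_inj] at h'
    rw [WithBot.coe_inj]
    exact ENat.add_left_injective_of_ne_top (n := 1) (by simp) h'

/-- The quotient of a Cohen–Macaulay module by a regular element of the maximal ideal is
Cohen–Macaulay. -/
theorem isCohenMacaulayModule_quotSMulTop (hM : LocCoh.IsCohenMacaulayModule R M) {x : R}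
    (hx : x ∈ maximalIdeal R) (hreg : IsSMulRegular M x) :
    LocCoh.IsCohenMacaulayModule R (QuotSMulTop x M) := by
  have hnt := nontrivial_of_isCohenMacaulayModule M hM
  have hnt' := nontrivial_quotSMulTop M hx
  have h1 := Module.supportDim_quotSMulTop_succ_eq_supportDim_mem_jacobson hreg
    (mem_jacobson_annihilator M hx)
  have h2 := depth_quotSMulTop M hx hreg
  unfold LocCoh.IsCohenMacaulayModule at hM ⊢
  rw [hM, ← h2] at h1
  exact withBot_add_one_cancel (depth_ne_top (QuotSMulTop x M)) h1

end loc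

end Groth.Agent.Lib.Helper18.CM
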