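import Mathlib
import Groth.Prelude.Def_CAlg
import Groth.Agent.Lib.Helper18.CM3

/-!
# Cohen–Macaulay modules and sequences of parameters (helper18)

* `quotOfListNilEquiv`, and (from Mathlib) `Submodule.quotOfListConsSMulTopEquivQuotSMulTopInner`.
* `depth_quot_ofList` : `depth (M/xsM) + |xs| = depth M` for a weakly regular sequence in `𝔪`.
* `supportDim_le_quot_ofList_add_length`.
* `isWeaklyRegular_iff_supportDim` (EGA 0_IV 16.5.6), `isCohenMacaulayModule_quot_ofList`.
-/

set_option autoImplicit false
set_option linter.unusedSectionVars false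
universe u

open CategoryTheory RingTheory.Sequence IsLocalRing Pointwise
open Groth.Agent.Lib.Helper16.Depth

namespace Groth.Agent.Lib.Helper18.CM

section lists

variable {R : Type u} [CommRing R]

/-- `M ⧸ (ofList []) • ⊤ ≃ M` -/
noncomputable def quotOfListNilEquiv (M : Type u) [AddCommGroup M] [Module R M] :
    (M ⧸ (Ideal.ofList ([] : List R) • ⊤ : Submodule R M)) ≃ₗ[R] M :=
  Submodule.quotEquivOfEqBot _ (by rw [Ideal.ofList_nil, Submodule.bot_smul])

variable [IsLocalRing R] [IsNoetherianRing R]

theorem nontrivial_quot_ofList (xs : List R) (hxs : ∀ x ∈ xs, x ∈ maximalIdeal R) :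
    ∀ (M : Type u) [AddCommGroup M] [Module R M] [Module.Finite R M] [Nontrivial M],
      Nontrivial (M ⧸ (Ideal.ofList xs • ⊤ : Submodule R M)) := by
  induction xs with
  | nil =>
    intro M _ _ _ _
    exact (quotOfListNilEquiv M).toEquiv.nontrivial
  | cons x xs ih =>
    intro M _ _ _ _
    have hx : x ∈ maximalIdeal R := hxs x List.mem_cons_self
    have := nontrivial_quotSMulTop M hx
    have := ih (fun y hy => hxs y (List.mem_cons_of_mem _ hy)) (QuotSMulTop x M)
    exact (Submodule.quotOfListConsSMulTopEquivQuotSMulTopInner M x xs).toEquiv.nontrivial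

/-- `depth (M/xsM) + |xs| = depth M`. -/
theorem depth_quot_ofList (xs : List R) (hxs : ∀ x ∈ xs, x ∈ maximalIdeal R) :
    ∀ (M : Type u) [AddCommGroup M] [Module R M] [Module.Finite R M],
      IsWeaklyRegular M xs →
      LocCoh.depth R (M ⧸ (Ideal.ofList xs • ⊤ : Submodule R M)) + xs.length =
        LocCoh.depth R M := by
  induction xs with
  | nil =>
    intro M _ _ _ _
    rw [depth_congr (quotOfListNilEquiv M)]
    simp
  | cons x xs ih =>
    intro M _ _ _ hreg
    have hx : x ∈ maximalIdeal R := hxs x List.mem_cons_self
    rw [isWeaklyRegular_cons_iff] at hreg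
    rw [depth_congr (Submodule.quotOfListConsSMulTopEquivQuotSMulTopInner M x xs),
      ← depth_quotSMulTop M hx hreg.1,
      ← ih (fun y hy => hxs y (List.mem_cons_of_mem _ hy)) (QuotSMulTop x M) hreg.2]
    simp only [List.length_cons, Nat.cast_add, Nat.cast_one]
    rw [add_assoc]

theorem supportDim_le_quot_ofList_add_length (xs : List R)
    (hxs : ∀ x ∈ xs, x ∈ maximalIdeal R) :
    ∀ (M : Type u) [AddCommGroup M] [Module R M] [Module.Finite R M],
      Module.supportDim R M ≤
        Module.supportDim R (M ⧸ (Ideal.ofList xs • ⊤ : Submodule R M)) + xs.length := by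
  induction xs with
  | nil =>
    intro M _ _ _
    rw [Module.supportDim_eq_of_equiv (quotOfListNilEquiv M)]
    simp
  | cons x xs ih =>
    intro M _ _ _
    have hx : x ∈ maximalIdeal R := hxs x List.mem_cons_self
    rw [Module.supportDim_eq_of_equiv
      (Submodule.quotOfListConsSMulTopEquivQuotSMulTopInner M x xs)]
    have h1 := Module.supportDim_le_supportDim_quotSMulTop_succ_of_mem_jacobson
      (mem_jacobson_annihilator M hx)
    have h2 := ih (fun y hy => hxs y (List.mem_cons_of_mem _ hy)) (QuotSMulTop x M)
    refine h1.trans ?_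
    simp only [List.length_cons, Nat.cast_add, Nat.cast_one]
    rw [← add_assoc]
    exact add_le_add h2 le_rfl

/-- auxiliary: finite values in `WithBot ℕ∞`. -/
theorem exists_nat_eq_supportDim (M : Type u) [AddCommGroup M] [Module R M] [Module.Finite R M]
    [Nontrivial M] : ∃ d : ℕ, Module.supportDim R M = (d : WithBot ℕ∞) := by
  obtain ⟨d, hd⟩ := WithBot.ne_bot_iff_exists.mp (Module.supportDim_ne_bot_of_nontrivial R M)
  have hfin := supportDim_lt_top (R := R) M
  rw [← hd] at hfin
  have hd' : d ≠ ⊤ := by
    rintro rfl
    exact lt_irrefl _ hfin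
  obtain ⟨k, rfl⟩ := ENat.ne_top_iff_exists.mp hd'
  exact ⟨k, hd.symm⟩

/-- EGA 0_IV (16.5.6): for a Cohen–Macaulay module, a sequence in `𝔪` is regular iff it cuts the
dimension down by its length; the quotient is then Cohen–Macaulay. -/
theorem isWeaklyRegular_iff_supportDim_and_isCohenMacaulayModule (xs : List R)
    (hxs : ∀ x ∈ xs, x ∈ maximalIdeal R) :
    ∀ (M : Type u) [AddCommGroup M] [Module R M] [Module.Finite R M],
      LocCoh.IsCohenMacaulayModule R M →
      (IsWeaklyRegular M xs ↔
        Module.supportDim R (M ⧸ (Ideal.ofList xs • ⊤ : Submodule R M)) + xs.length =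
          Module.supportDim R M) ∧
      (IsWeaklyRegular M xs →
        LocCoh.IsCohenMacaulayModule R (M ⧸ (Ideal.ofList xs • ⊤ : Submodule R M))) := by
  induction xs with
  | nil =>
    intro M _ _ _ hM
    refine ⟨?_, fun _ => (isCohenMacaulayModule_congr (quotOfListNilEquiv M)).mpr hM⟩
    rw [Module.supportDim_eq_of_equiv (quotOfListNilEquiv M)]
    simp
  | cons x xs ih =>
    intro M _ _ _ hM
    have hnt := nontrivial_of_isCohenMacaulayModule M hM
    have hx : x ∈ maximalIdeal R := hxs x List.mem_cons_self
    have hxs' : ∀ y ∈ xs, y ∈ maximalIdeal R := fun y hy => hxs y (List.mem_cons_of_mem _ hy)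
    have e := Submodule.quotOfListConsSMulTopEquivQuotSMulTopInner M x xs
    rw [Module.supportDim_eq_of_equiv e, isCohenMacaulayModule_congr e, isWeaklyRegular_cons_iff]
    have hlen : (((x :: xs).length : ℕ) : WithBot ℕ∞) = (xs.length : WithBot ℕ∞) + 1 := by
      simp
    rw [hlen]
    constructor
    · constructor
      · rintro ⟨hreg, hreg'⟩
        have hM' := isCohenMacaulayModule_quotSMulTop M hM hx hreg
        have h1 := Module.supportDim_quotSMulTop_succ_eq_supportDim_mem_jacobson hreg
          (mem_jacobson_annihilator M hx)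
        have h2 := ((ih hxs' (QuotSMulTop x M) hM').1).mp hreg'
        rw [← h1, ← h2, add_assoc]
      · intro hdim
        have hntQ := nontrivial_quotSMulTop M hx
        have hntQ' := nontrivial_quot_ofList xs hxs' (QuotSMulTop x M)
        have h1 := Module.supportDim_le_supportDim_quotSMulTop_succ_of_mem_jacobson
          (mem_jacobson_annihilator M hx)
        have h2 := supportDim_le_quot_ofList_add_length xs hxs' (QuotSMulTop x M)
        obtain ⟨a, ha⟩ := exists_nat_eq_supportDim (R := R) M
        obtain ⟨b, hb⟩ := exists_nat_eq_supportDim (R := R) (QuotSMulTop x M)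
        obtain ⟨c, hc⟩ := exists_nat_eq_supportDim (R := R)
          (QuotSMulTop x M ⧸ (Ideal.ofList xs • ⊤ : Submodule R (QuotSMulTop x M)))
        rw [ha, hb] at h1
        rw [hb, hc] at h2
        rw [hc, ha] at hdim
        have h1' : a ≤ b + 1 := by exact_mod_cast h1
        have h2' : b ≤ c + xs.length := by exact_mod_cast h2
        have h3' : c + (xs.length + 1) = a := by exact_mod_cast hdim
        have hab : b + 1 = a := by omega
        have hbc : c + xs.length = b := by omega
        have hdim1 : Module.supportDim R (QuotSMulTop x M) + 1 = Module.supportDim R M := by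
          rw [ha, hb]
          exact_mod_cast hab
        have hreg := isSMulRegular_of_supportDim_quotSMulTop M hM hx hdim1
        have hM' := isCohenMacaulayModule_quotSMulTop M hM hx hreg
        refine ⟨hreg, ((ih hxs' (QuotSMulTop x M) hM').1).mpr ?_⟩
        rw [hb, hc]
        exact_mod_cast hbc
    · rintro ⟨hreg, hreg'⟩
      have hM' := isCohenMacaulayModule_quotSMulTop M hM hx hreg
      exact (ih hxs' (QuotSMulTop x M) hM').2 hreg'

end lists

section converse

variable {A : Type u} [CommRing A] [IsLocalRing A] [IsNoetherianRing A]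

theorem isCohenMacaulayModule_of_forall_unmixed_aux (d : ℕ) :
    ∀ (M : Type u) [AddCommGroup M] [Module A M] [Module.Finite A M] [Nontrivial M],
    Module.supportDim A M = (d : WithBot ℕ∞) →
    (∀ xs : List A, (∀ x ∈ xs, x ∈ IsLocalRing.maximalIdeal A) →
      Module.supportDim A (M ⧸ (Ideal.ofList xs • (⊤ : Submodule A M))) + xs.length =
        Module.supportDim A M →
        ∀ p ∈ associatedPrimes A (M ⧸ (Ideal.ofList xs • (⊤ : Submodule A M))),
          ringKrullDim (A ⧸ p) =
            Module.supportDim A (M ⧸ (Ideal.ofList xs • (⊤ : Submodule A M)))) →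
    LocCoh.IsCohenMacaulayModule A M := by
  induction d with
  | zero =>
    intro M _ _ _ _ hd _
    unfold LocCoh.IsCohenMacaulayModule
    have h1 := depth_le_supportDim (R := A) M
    rw [hd] at h1 ⊢
    have : LocCoh.depth A M ≤ 0 := by exact_mod_cast h1
    have : LocCoh.depth A M = 0 := le_antisymm this (zero_le)
    rw [this]
    rfl
  | succ d ih =>
    intro M _ _ _ _ hd h
    -- the maximal ideal is not associated
    have hass : maximalIdeal A ∉ associatedPrimes A M := by
      intro hm
      have e := quotOfListNilEquiv (R := A) M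
      have hm' : maximalIdeal A ∈ associatedPrimes A
          (M ⧸ (Ideal.ofList ([] : List A) • (⊤ : Submodule A M))) := by
        rw [LinearEquiv.AssociatedPrimes.eq e]
        exact hm
      have := h [] (by simp) (by rw [Module.supportDim_eq_of_equiv e]; simp) _ hm'
      rw [Module.supportDim_eq_of_equiv e, hd] at this
      have h0 : ringKrullDim (A ⧸ maximalIdeal A) = 0 :=
        ringKrullDim_eq_zero_of_isField ((Ideal.Quotient.maximal_ideal_iff_isField_quotient _).mp inferInstance)
      rw [h0] at this
      have : (0 : ℕ) = d + 1 := by exact_mod_cast this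
      omega
    have hdep : 1 ≤ LocCoh.depth A M := by
      rw [Order.one_le_iff_ne_zero]
      intro h0
      exact hass ((depth_eq_zero_iff M).mp h0)
    obtain ⟨x, hx, hreg⟩ := (one_le_depth_iff M).mp hdep
    have hnt := nontrivial_quotSMulTop M hx
    have hdim := Module.supportDim_quotSMulTop_succ_eq_supportDim_mem_jacobson hreg
      (mem_jacobson_annihilator M hx)
    have hd' : Module.supportDim A (QuotSMulTop x M) = (d : WithBot ℕ∞) := by
      obtain ⟨b, hb⟩ := exists_nat_eq_supportDim (R := A) (QuotSMulTop x M)
      rw [hb, hd] at hdim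
      rw [hb]
      have : b + 1 = d + 1 := by exact_mod_cast hdim
      have : b = d := by omega
      rw [this]
    have hM' : LocCoh.IsCohenMacaulayModule A (QuotSMulTop x M) := by
      apply ih (QuotSMulTop x M) hd'
      intro ys hys hdimys p hp
      have e := Submodule.quotOfListConsSMulTopEquivQuotSMulTopInner M x ys
      have hxys : ∀ y ∈ x :: ys, y ∈ maximalIdeal A := by
        intro y hy
        rcases List.mem_cons.mp hy with rfl | hy
        · exact hx
        · exact hys y hy
      have := h (x :: ys) hxys (by
        rw [Module.supportDim_eq_of_equiv e, ← hdim, ← hdimys]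
        simp only [List.length_cons, Nat.cast_add, Nat.cast_one]
        rw [add_assoc]) p (by rw [LinearEquiv.AssociatedPrimes.eq e]; exact hp)
      rw [this, Module.supportDim_eq_of_equiv e]
    unfold LocCoh.IsCohenMacaulayModule at hM' ⊢
    rw [← hdim, hM', ← depth_quotSMulTop M hx hreg]
    rfl


end converse

end Groth.Agent.Lib.Helper18.CM
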