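import Mathlib
import Groth.Prelude.Def_CAlg
import Groth.Agent.Lib.Helper18.CM4

/-!
# Localization of Cohen–Macaulay modules (helper18)

* `localizedQuotSMulTopEquiv` : `(M/xM)_p ≃ M_p/(x/1)M_p`.
* `cm_localization` : for `M` Cohen–Macaulay over a Noetherian local ring and `p ∈ Supp M`, with
  `n = grade(p, M)`: `depth M_p = n = dim M_p` and `dim M = dim R/p + n`.
-/

set_option autoImplicit false
set_option linter.unusedSectionVars false
universe u

open CategoryTheory RingTheory.Sequence IsLocalRing Pointwise
open Groth.Agent.Lib.Helper16.Depth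

namespace Groth.Agent.Lib.Helper18.CM

section equiv

variable {R : Type u} [CommRing R] (T : Submonoid R) (M : Type u) [AddCommGroup M] [Module R M]

/-- `(M/xM)_T ≃ M_T/(x/1)M_T` over the localized ring. -/
noncomputable def localizedQuotSMulTopEquiv (x : R) :
    LocalizedModule T (QuotSMulTop x M) ≃ₗ[Localization T]
      QuotSMulTop (algebraMap R (Localization T) x) (LocalizedModule T M) :=
  (IsLocalizedModule.isBaseChange T (Localization T)
      (LocalizedModule.mkLinearMap T (QuotSMulTop x M))).equiv.symm ≪≫ₗ
    (QuotSMulTop.algebraMapTensorEquivTensorQuotSMulTop x M (Localization T)).symm ≪≫ₗ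
    QuotSMulTop.congr ((algebraMap R (Localization T)) x)
      (IsLocalizedModule.isBaseChange T (Localization T)
        (LocalizedModule.mkLinearMap T M)).equiv

end equiv

section grade

variable {R : Type u} [CommRing R] [IsLocalRing R] [IsNoetherianRing R]
  (M : Type u) [AddCommGroup M] [Module R M] [Module.Finite R M]

theorem smul_top_ne_top_of_ne_top [Nontrivial M] (I : Ideal R) (hI : I ≠ ⊤) :
    I • (⊤ : Submodule R M) ≠ ⊤ := by
  intro h
  apply maximalIdeal_smul_top_ne_top (R := R) M
  apply top_le_iff.mp
  calc (⊤ : Submodule R M) = I • (⊤ : Submodule R M) := h.symm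
    _ ≤ maximalIdeal R • (⊤ : Submodule R M) :=
      Submodule.smul_mono_left (IsLocalRing.le_maximalIdeal hI)

theorem idealDepth_le_depth [Nontrivial M] (I : Ideal R) (hI : I ≠ ⊤) :
    LocCoh.idealDepth I M ≤ LocCoh.depth R M := by
  rw [← ENat.forall_natCast_le_iff_le]
  intro n hn
  rw [le_idealDepth_iff] at hn
  unfold LocCoh.depth
  rw [le_idealDepth_iff]
  rcases hn with hn | hn
  · exact absurd hn (smul_top_ne_top_of_ne_top M I hI)
  · right
    obtain ⟨rs, hlen, hreg, hmem⟩ := hn
    exact ⟨rs, hlen, hreg, fun r hr => IsLocalRing.le_maximalIdeal hI (hmem r hr)⟩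

theorem idealDepth_ne_top [Nontrivial M] (I : Ideal R) (hI : I ≠ ⊤) :
    LocCoh.idealDepth I M ≠ ⊤ := by
  intro h
  have := idealDepth_le_depth M I hI
  rw [h, top_le_iff] at this
  exact depth_ne_top (R := R) M this

end grade

section locz

variable {R : Type u} [CommRing R] [IsNoetherianRing R] (p : Ideal R) [hp : p.IsPrime]
  (M : Type u) [AddCommGroup M] [Module R M] [Module.Finite R M]

omit [IsNoetherianRing R] [Module.Finite R M] in
theorem annihilator_le_comap_of_mem_support_localizedModule
    (Q : PrimeSpectrum (Localization.AtPrime p))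
    (hQ : Q ∈ Module.support (Localization.AtPrime p) (LocalizedModule p.primeCompl M)) :
    Module.annihilator R M ≤ Q.asIdeal.comap (algebraMap R (Localization.AtPrime p)) := by
  intro r hr
  rw [Ideal.mem_comap]
  apply Module.annihilator_le_of_mem_support hQ
  rw [Module.mem_annihilator]
  intro y
  induction y using LocalizedModule.induction_on with
  | h m s =>
    rw [algebraMap_smul, LocalizedModule.smul'_mk, Module.mem_annihilator.mp hr m,
      LocalizedModule.zero_mk]

/-- If `p` is minimal over `Ann M` then `M_p` has dimension `0` over `R_p`. -/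
theorem supportDim_localizedModule_eq_zero_of_mem_minimalPrimes
    (hmin : p ∈ (Module.annihilator R M).minimalPrimes) :
    Module.supportDim (Localization.AtPrime p) (LocalizedModule p.primeCompl M) = 0 := by
  have hsupp : (⟨p, hp⟩ : PrimeSpectrum R) ∈ Module.support R M :=
    Module.mem_support_iff_of_finite.mpr hmin.1.2
  have hnt : Nontrivial (LocalizedModule p.primeCompl M) := Module.mem_support_iff.mp hsupp
  have hsub : ∀ Q ∈ Module.support (Localization.AtPrime p) (LocalizedModule p.primeCompl M),
      Q = IsLocalRing.closedPoint (Localization.AtPrime p) := by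
    intro Q hQ
    have h1 := annihilator_le_comap_of_mem_support_localizedModule p M Q hQ
    have h2 : Q.asIdeal.comap (algebraMap R (Localization.AtPrime p)) ≤ p := by
      have h0 := IsLocalization.AtPrime.under_maximalIdeal (Localization.AtPrime p) p
      calc Q.asIdeal.comap (algebraMap R (Localization.AtPrime p))
          ≤ (maximalIdeal (Localization.AtPrime p)).comap
              (algebraMap R (Localization.AtPrime p)) :=
            Ideal.comap_mono (IsLocalRing.le_maximalIdeal Q.2.ne_top)
        _ = p := h0
    have h3 : Q.asIdeal.comap (algebraMap R (Localization.AtPrime p)) = p :=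
      le_antisymm h2 (hmin.2 ⟨inferInstance, h1⟩ h2)
    apply PrimeSpectrum.ext
    change Q.asIdeal = maximalIdeal _
    have h4 := IsLocalization.map_under p.primeCompl (Localization.AtPrime p) Q.asIdeal
    rw [← h4]
    change Ideal.map _ (Q.asIdeal.comap (algebraMap R (Localization.AtPrime p))) = _
    rw [h3, Localization.AtPrime.map_eq_maximalIdeal]
  have hss : Subsingleton (Module.support (Localization.AtPrime p)
      (LocalizedModule p.primeCompl M)) := by
    refine ⟨fun a b => Subtype.ext ?_⟩
    rw [hsub a.1 a.2, hsub b.1 b.2]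
  have hne : Nonempty (Module.support (Localization.AtPrime p)
      (LocalizedModule p.primeCompl M)) :=
    (Module.nonempty_support_of_nontrivial).to_subtype
  exact Order.krullDim_eq_zero

end locz

section main

variable {R : Type u} [CommRing R] [IsLocalRing R] [IsNoetherianRing R] (p : Ideal R)
  [hp : p.IsPrime]

theorem cm_localization_aux (n : ℕ) :
    ∀ (M : Type u) [AddCommGroup M] [Module R M] [Module.Finite R M],
      LocCoh.IsCohenMacaulayModule R M → (⟨p, hp⟩ : PrimeSpectrum R) ∈ Module.support R M →
      LocCoh.idealDepth p M = n →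
      LocCoh.depth (Localization.AtPrime p) (LocalizedModule p.primeCompl M) = n ∧
      Module.supportDim (Localization.AtPrime p) (LocalizedModule p.primeCompl M) =
        (n : WithBot ℕ∞) ∧
      Module.supportDim R M = ringKrullDim (R ⧸ p) + (n : WithBot ℕ∞) := by
  induction n with
  | zero =>
    intro M _ _ _ hM hsupp hgr
    have hnt := nontrivial_of_isCohenMacaulayModule M hM
    have hpM : p • (⊤ : Submodule R M) ≠ ⊤ := smul_top_ne_top_of_ne_top M p hp.ne_top
    have h1 : ¬ ∃ x ∈ p, IsSMulRegular M x := by
      rw [← one_le_idealDepth_iff p M hpM, hgr]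
      simp
    rw [exists_regular_iff] at h1
    push Not at h1
    obtain ⟨q, hq, hpq⟩ := h1
    obtain ⟨q', hq'min, hq'p⟩ :=
      Ideal.exists_minimalPrimes_le (Module.mem_support_iff_of_finite.mp hsupp)
    have hq'ass : q' ∈ associatedPrimes R M :=
      Module.associatedPrimes.minimalPrimes_annihilator_subset_associatedPrimes R M hq'min
    have hq'prime : q'.IsPrime := hq'min.1.1
    have hqq' : q' = q := by
      by_contra hne
      have hlt : q' < q := lt_of_le_of_ne (hq'p.trans hpq) hne
      have h2 := ringKrullDim_quotient_succ_le_of_lt hlt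
      rw [ringKrullDim_quotient_eq_supportDim_of_isCohenMacaulayModule M hM q hq,
        ringKrullDim_quotient_eq_supportDim_of_isCohenMacaulayModule M hM q' hq'ass] at h2
      have h3 := lt_add_one_of_ne (Module.supportDim_ne_bot_of_nontrivial R M)
        (supportDim_lt_top (R := R) M)
      exact absurd (lt_of_lt_of_le h3 h2) (lt_irrefl _)
    have hpeq : p = q' := le_antisymm (hqq' ▸ hpq) hq'p
    have hpmin : p ∈ (Module.annihilator R M).minimalPrimes := hpeq ▸ hq'min
    have hpass : p ∈ associatedPrimes R M := hpeq ▸ hq'ass
    have hdim0 := supportDim_localizedModule_eq_zero_of_mem_minimalPrimes p M hpmin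
    have hntN : Nontrivial (LocalizedModule p.primeCompl M) := Module.mem_support_iff.mp hsupp
    refine ⟨?_, ?_, ?_⟩
    · have h4 := depth_le_supportDim (R := Localization.AtPrime p)
        (LocalizedModule p.primeCompl M)
      rw [hdim0] at h4
      have : LocCoh.depth (Localization.AtPrime p) (LocalizedModule p.primeCompl M) ≤ 0 := by
        exact_mod_cast h4
      rw [Nat.cast_zero]
      exact le_antisymm this zero_le
    · rw [hdim0]
      rfl
    · rw [ringKrullDim_quotient_eq_supportDim_of_isCohenMacaulayModule M hM p hpass]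
      simp
  | succ n ih =>
    intro M _ _ _ hM hsupp hgr
    have hnt := nontrivial_of_isCohenMacaulayModule M hM
    have hpM : p • (⊤ : Submodule R M) ≠ ⊤ := smul_top_ne_top_of_ne_top M p hp.ne_top
    have h1 : 1 ≤ LocCoh.idealDepth p M := by
      rw [hgr]
      simp
    obtain ⟨x, hxp, hreg⟩ := (one_le_idealDepth_iff p M hpM).mp h1
    have hxm : x ∈ maximalIdeal R := IsLocalRing.le_maximalIdeal hp.ne_top hxp
    have hM' := isCohenMacaulayModule_quotSMulTop M hM hxm hreg
    have hsupp' : (⟨p, hp⟩ : PrimeSpectrum R) ∈ Module.support R (QuotSMulTop x M) := by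
      rw [Module.support_quotSMulTop]
      exact ⟨hsupp, by simpa using hxp⟩
    have hgr' : LocCoh.idealDepth p (QuotSMulTop x M) = n := by
      have := Groth.Agent.S0320.result R p M hpM x hxp hreg
      rw [hgr] at this
      push_cast at this
      exact ENat.add_left_injective_of_ne_top (n := 1) (by simp) this
    obtain ⟨ih1, ih2, ih3⟩ := ih (QuotSMulTop x M) hM' hsupp' hgr'
    have e := localizedQuotSMulTopEquiv p.primeCompl M x
    have hxS : algebraMap R (Localization.AtPrime p) x ∈ maximalIdeal (Localization.AtPrime p) :=
      (IsLocalization.AtPrime.to_map_mem_maximal_iff (Localization.AtPrime p) p x).mpr hxp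
    have hregS : IsSMulRegular (LocalizedModule p.primeCompl M)
        (algebraMap R (Localization.AtPrime p) x) :=
      IsSMulRegular.of_isLocalizedModule (Localization.AtPrime p) p.primeCompl
        (LocalizedModule.mkLinearMap p.primeCompl M) hreg
    refine ⟨?_, ?_, ?_⟩
    · rw [← depth_quotSMulTop (LocalizedModule p.primeCompl M) hxS hregS, ← depth_congr e, ih1]
      push_cast
      rfl
    · rw [← Module.supportDim_quotSMulTop_succ_eq_supportDim_mem_jacobson hregS
        (mem_jacobson_annihilator (LocalizedModule p.primeCompl M) hxS),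
        ← Module.supportDim_eq_of_equiv e, ih2]
      push_cast
      rfl
    · rw [← Module.supportDim_quotSMulTop_succ_eq_supportDim_mem_jacobson hreg
        (mem_jacobson_annihilator M hxm), ih3]
      push_cast
      rw [add_assoc]

/-- main localization theorem, with `n` the grade of `p` on `M`. -/
theorem cm_localization (M : Type u) [AddCommGroup M] [Module R M] [Module.Finite R M]
    (hM : LocCoh.IsCohenMacaulayModule R M)
    (hsupp : (⟨p, hp⟩ : PrimeSpectrum R) ∈ Module.support R M) :
    ∃ n : ℕ, LocCoh.idealDepth p M = n ∧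
      LocCoh.depth (Localization.AtPrime p) (LocalizedModule p.primeCompl M) = n ∧
      Module.supportDim (Localization.AtPrime p) (LocalizedModule p.primeCompl M) =
        (n : WithBot ℕ∞) ∧
      Module.supportDim R M = ringKrullDim (R ⧸ p) + (n : WithBot ℕ∞) := by
  have hnt := nontrivial_of_isCohenMacaulayModule M hM
  obtain ⟨n, hn⟩ := ENat.ne_top_iff_exists.mp (idealDepth_ne_top M p hp.ne_top)
  exact ⟨n, hn.symm, cm_localization_aux p n M hM hsupp hn.symm⟩

/-- the localization of a Cohen–Macaulay module at a prime of its support is Cohen–Macaulay -/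
theorem isCohenMacaulayModule_localizedModule (M : Type u) [AddCommGroup M] [Module R M]
    [Module.Finite R M] (hM : LocCoh.IsCohenMacaulayModule R M)
    (hsupp : (⟨p, hp⟩ : PrimeSpectrum R) ∈ Module.support R M) :
    LocCoh.IsCohenMacaulayModule (Localization.AtPrime p) (LocalizedModule p.primeCompl M) := by
  obtain ⟨n, -, h1, h2, -⟩ := cm_localization p M hM hsupp
  unfold LocCoh.IsCohenMacaulayModule
  rw [h1, h2]
  rfl

omit [IsLocalRing R] [IsNoetherianRing R] in
theorem supportDim_quotient_prime_smul_top (M : Type u) [AddCommGroup M] [Module R M]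
    [Module.Finite R M] (hsupp : (⟨p, hp⟩ : PrimeSpectrum R) ∈ Module.support R M) :
    Module.supportDim R (M ⧸ (p • (⊤ : Submodule R M))) = ringKrullDim (R ⧸ p) := by
  have h : Module.support R (M ⧸ (p • (⊤ : Submodule R M))) =
      PrimeSpectrum.zeroLocus (p : Set R) := by
    rw [Module.support_quotient]
    apply Set.inter_eq_right.mpr
    intro q hq
    exact Module.mem_support_mono (show (⟨p, hp⟩ : PrimeSpectrum R) ≤ q from hq) hsupp
  rw [ringKrullDim_quotient, Module.supportDim, h]

theorem supportDim_eq_add_localizedModule (M : Type u) [AddCommGroup M] [Module R M]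
    [Module.Finite R M] (hM : LocCoh.IsCohenMacaulayModule R M)
    (hsupp : (⟨p, hp⟩ : PrimeSpectrum R) ∈ Module.support R M) :
    Module.supportDim R M =
      Module.supportDim R (M ⧸ (p • (⊤ : Submodule R M))) +
        Module.supportDim (Localization.AtPrime p) (LocalizedModule p.primeCompl M) := by
  obtain ⟨n, -, -, h2, h3⟩ := cm_localization p M hM hsupp
  rw [supportDim_quotient_prime_smul_top p M hsupp, h2, h3]

end main


end Groth.Agent.Lib.Helper18.CM
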