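import Mathlib
import Groth.Prelude.Def_CAlg
import Groth.Agent.Lib.Helper18.CM5

/-!
# Regular sequences inside a prime of the support of a Cohen–Macaulay module (helper18)
EGA 0_IV (16.5.?) / S5760.
-/

set_option autoImplicit false
set_option linter.unusedSectionVars false
universe u

open CategoryTheory RingTheory.Sequence IsLocalRing Pointwise
open Groth.Agent.Lib.Helper16.Depth

namespace Groth.Agent.Lib.Helper18.CM

section s5760

variable {R : Type u} [CommRing R] [IsLocalRing R] [IsNoetherianRing R] (p : Ideal R)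
  [hp : p.IsPrime]

theorem exists_nat_eq_ringKrullDim_quotient : ∃ d : ℕ, ringKrullDim (R ⧸ p) = (d : WithBot ℕ∞) := by
  have hnt : Nontrivial (R ⧸ p) := Ideal.Quotient.nontrivial_iff.mpr hp.ne_top
  have h1 : ringKrullDim (R ⧸ p) ≠ ⊥ := by
    intro h
    exact absurd (ringKrullDim_nonneg_of_nontrivial (R := R ⧸ p)) (by rw [h]; simp)
  have h2 : ringKrullDim (R ⧸ p) < ⊤ :=
    lt_of_le_of_lt (ringKrullDim_quotient_le p) ringKrullDim_lt_top
  obtain ⟨d, hd⟩ := WithBot.ne_bot_iff_exists.mp h1
  rw [← hd] at h2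
  have hd' : d ≠ ⊤ := by
    rintro rfl
    exact lt_irrefl _ h2
  obtain ⟨k, rfl⟩ := ENat.ne_top_iff_exists.mp hd'
  exact ⟨k, hd.symm⟩

/-- a prime strictly below `p` has strictly larger coheight -/
theorem not_lt_of_ringKrullDim_quotient_le {q : Ideal R} [q.IsPrime]
    (h : ringKrullDim (R ⧸ q) ≤ ringKrullDim (R ⧸ p)) : ¬ q < p := by
  intro hlt
  have h1 := ringKrullDim_quotient_succ_le_of_lt hlt
  obtain ⟨d, hd⟩ := exists_nat_eq_ringKrullDim_quotient p
  rw [hd] at h1 h
  obtain ⟨e, he⟩ := exists_nat_eq_ringKrullDim_quotient q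
  rw [he] at h1 h
  have h1' : d + 1 ≤ e := by exact_mod_cast h1
  have h' : e ≤ d := by exact_mod_cast h
  omega

theorem s5760 (M : Type u) [AddCommGroup M] [Module R M] [Module.Finite R M]
    (hM : LocCoh.IsCohenMacaulayModule R M)
    (hsupp : (⟨p, hp⟩ : PrimeSpectrum R) ∈ Module.support R M) (r : ℕ)
    (hr : Module.supportDim R (M ⧸ (p • (⊤ : Submodule R M))) + r = Module.supportDim R M) :
    (∃ xs : List R, xs.length = r ∧ (∀ x ∈ xs, x ∈ p) ∧ IsWeaklyRegular M xs) ∧
      ∀ xs : List R, xs.length = r → (∀ x ∈ xs, x ∈ p) → IsWeaklyRegular M xs →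
        Module.supportDim R (M ⧸ (Ideal.ofList xs • (⊤ : Submodule R M))) =
            Module.supportDim R (M ⧸ (p • (⊤ : Submodule R M))) ∧
          Module.supportDim R (M ⧸ (p • (⊤ : Submodule R M))) = ringKrullDim (R ⧸ p) ∧
          p ∈ associatedPrimes R (M ⧸ (Ideal.ofList xs • (⊤ : Submodule R M))) ∧
          ∀ q ∈ associatedPrimes R (M ⧸ (Ideal.ofList xs • (⊤ : Submodule R M))),
            q ≤ p → q = p := by
  have hnt := nontrivial_of_isCohenMacaulayModule M hM
  obtain ⟨n, hn, -, -, hdim⟩ := cm_localization p M hM hsupp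
  have hquot := supportDim_quotient_prime_smul_top p M hsupp
  obtain ⟨d, hd⟩ := exists_nat_eq_ringKrullDim_quotient p
  have hrn : r = n := by
    rw [hquot, hdim, hd] at hr
    have : d + r = d + n := by exact_mod_cast hr
    omega
  subst hrn
  have hpM : p • (⊤ : Submodule R M) ≠ ⊤ := smul_top_ne_top_of_ne_top M p hp.ne_top
  constructor
  · have h1 : (r : ℕ∞) ≤ LocCoh.idealDepth p M := by rw [hn]
    rw [le_idealDepth_iff] at h1
    rcases h1 with h1 | ⟨rs, hlen, hreg, hmem⟩
    · exact absurd h1 hpM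
    · exact ⟨rs, hlen, hmem, hreg⟩
  · intro xs hlen hmem hreg
    have hxs : ∀ x ∈ xs, x ∈ maximalIdeal R :=
      fun x hx => IsLocalRing.le_maximalIdeal hp.ne_top (hmem x hx)
    obtain ⟨h1, h2⟩ := isWeaklyRegular_iff_supportDim_and_isCohenMacaulayModule xs hxs M hM
    have hM'' := h2 hreg
    have hdim'' := h1.mp hreg
    have hdimeq : Module.supportDim R (M ⧸ (Ideal.ofList xs • (⊤ : Submodule R M))) =
        ringKrullDim (R ⧸ p) := by
      have hnt'' := nontrivial_quot_ofList xs hxs M
      obtain ⟨c, hc⟩ := exists_nat_eq_supportDim (R := R)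
        (M ⧸ (Ideal.ofList xs • (⊤ : Submodule R M)))
      rw [hc, hlen, hdim, hd] at hdim''
      rw [hc, hd]
      have : c + r = d + r := by exact_mod_cast hdim''
      have : c = d := by omega
      rw [this]
    have hle : Ideal.ofList xs ≤ p := by
      rw [Ideal.ofList, Ideal.span_le]
      exact fun x hx => hmem x hx
    have hsupp'' : (⟨p, hp⟩ : PrimeSpectrum R) ∈
        Module.support R (M ⧸ (Ideal.ofList xs • (⊤ : Submodule R M))) := by
      rw [Module.support_quotient]
      exact ⟨hsupp, hle⟩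
    refine ⟨by rw [hdimeq, hquot], hquot, ?_, ?_⟩
    · apply Module.associatedPrimes.minimalPrimes_annihilator_subset_associatedPrimes
      refine ⟨⟨hp, Module.mem_support_iff_of_finite.mp hsupp''⟩, ?_⟩
      rintro q ⟨hqprime, hqann⟩ hqp
      by_contra hnle
      have hlt : q < p := lt_of_le_of_ne hqp (fun h => hnle (h ▸ le_rfl))
      have h3 := ringKrullDim_quotient_le_supportDim
        (M ⧸ (Ideal.ofList xs • (⊤ : Submodule R M))) q hqann
      rw [hdimeq] at h3
      exact not_lt_of_ringKrullDim_quotient_le p h3 hlt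
    · intro q hq hqp
      have hqprime : q.IsPrime := IsAssociatedPrime.isPrime hq
      have h3 := ringKrullDim_quotient_eq_supportDim_of_isCohenMacaulayModule _ hM'' q hq
      rw [hdimeq] at h3
      by_contra hne
      exact not_lt_of_ringKrullDim_quotient_le p h3.le (lt_of_le_of_ne hqp hne)

end s5760


end Groth.Agent.Lib.Helper18.CM
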