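import Mathlib
import Groth.Prelude.Def_CAlg
import Groth.Agent.Lib.Helper18.CM6

/-!
# Serre's condition S_1 and embedded primes (helper18)
-/

set_option autoImplicit false
set_option linter.unusedSectionVars false
universe u

open CategoryTheory RingTheory.Sequence IsLocalRing Pointwise
open Groth.Agent.Lib.Helper16.Depth

namespace Groth.Agent.Lib.Helper18.CM

section s1

variable {R M : Type u} [CommRing R] [IsNoetherianRing R] [AddCommGroup M] [Module R M]
    [Module.Finite R M]

theorem mem_associatedPrimes_iff_maximalIdeal_mem (p : Ideal R) [hp : p.IsPrime] :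
    p ∈ associatedPrimes R M ↔
      maximalIdeal (Localization.AtPrime p) ∈
        associatedPrimes (Localization.AtPrime p) (LocalizedModule p.primeCompl M) := by
  rw [← Module.associatedPrimes.preimage_comap_associatedPrimes_eq_associatedPrimes_of_isLocalizedModule
    p.primeCompl (Localization.AtPrime p) (LocalizedModule.mkLinearMap p.primeCompl M)]
  have e : Ideal.comap (algebraMap R (Localization.AtPrime p))
      (maximalIdeal (Localization.AtPrime p)) = p :=
    IsLocalization.AtPrime.under_maximalIdeal (Localization.AtPrime p) p
  rw [Set.mem_preimage, e]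

theorem noEmbeddedPrimes_iff_S1 :
    (∀ p ∈ associatedPrimes R M, p ∈ (Module.annihilator R M).minimalPrimes) ↔
      LocCoh.HasSk 1 R M := by
  constructor
  · intro h p hp
    by_cases hnt : Nontrivial (LocalizedModule p.primeCompl M)
    · by_cases hd : LocCoh.depth (Localization.AtPrime p) (LocalizedModule p.primeCompl M) = 0
      · rw [depth_eq_zero_iff, ← mem_associatedPrimes_iff_maximalIdeal_mem] at hd
        have := supportDim_localizedModule_eq_zero_of_mem_minimalPrimes p M (h p hd)
        rw [this]
        simp
      · have h1 : 1 ≤ LocCoh.depth (Localization.AtPrime p) (LocalizedModule p.primeCompl M) :=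
          Order.one_le_iff_ne_zero.mpr hd
        refine le_trans (min_le_left _ _) ?_
        exact_mod_cast h1
    · rw [not_nontrivial_iff_subsingleton] at hnt
      rw [Module.supportDim_eq_bot_of_subsingleton]
      simp
  · intro h p hp
    have hpp : p.IsPrime := IsAssociatedPrime.isPrime hp
    have hann := annihilator_le_of_mem_associatedPrimes M hp
    refine ⟨⟨hpp, hann⟩, ?_⟩
    rintro q ⟨hqprime, hqann⟩ hqp
    by_contra hnle
    have hlt : q < p := lt_of_le_of_ne hqp (fun h => hnle (h ▸ le_rfl))
    obtain ⟨q', hq'min, hq'q⟩ := Ideal.exists_minimalPrimes_le hqann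
    have hq'prime : q'.IsPrime := hq'min.1.1
    have hq'ass : q' ∈ associatedPrimes R M :=
      Module.associatedPrimes.minimalPrimes_annihilator_subset_associatedPrimes R M hq'min
    have hq'lt : q' < p := lt_of_le_of_lt hq'q hlt
    -- depth of the localization is zero
    have hm := (mem_associatedPrimes_iff_maximalIdeal_mem (M := M) p).mp hp
    have hd := (depth_eq_zero_iff (LocalizedModule p.primeCompl M)).mpr hm
    have hsk := h p
    rw [hd] at hsk
    have hnt : Nontrivial (LocalizedModule p.primeCompl M) := by
      by_contra hcon
      rw [not_nontrivial_iff_subsingleton] at hcon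
      rw [associatedPrimes.eq_empty_of_subsingleton] at hm
      exact hm
    have hdim : Module.supportDim (Localization.AtPrime p) (LocalizedModule p.primeCompl M) = 0 := by
      apply le_antisymm
      · by_contra hcon
        rw [not_le] at hcon
        obtain ⟨d, hd⟩ := exists_nat_eq_supportDim (R := Localization.AtPrime p)
          (LocalizedModule p.primeCompl M)
        rw [hd] at hcon hsk
        have hd0 : 0 < d := by exact_mod_cast hcon
        have h1 : ((1 : ℕ) : WithBot ℕ∞) ≤ (d : WithBot ℕ∞) := by exact_mod_cast hd0
        rw [min_eq_left (by exact_mod_cast h1)] at hsk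
        have : (1 : ℕ) ≤ 0 := by exact_mod_cast hsk
        omega
      · have := Module.supportDim_ne_bot_of_nontrivial (Localization.AtPrime p)
          (LocalizedModule p.primeCompl M)
        obtain ⟨d, hd⟩ := WithBot.ne_bot_iff_exists.mp this
        rw [← hd]
        exact WithBot.coe_le_coe.mpr zero_le
    have hsupp := support_of_supportDim_eq_zero _ _ hdim
    -- the prime `q' R_p` is associated to `M_p`
    have hdisj : Disjoint (p.primeCompl : Set R) (q' : Set R) := by
      rw [Set.disjoint_left]
      intro x hx hx'
      exact hx (hq'lt.le hx')
    have hcomap : (q'.map (algebraMap R (Localization.AtPrime p))).comap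
        (algebraMap R (Localization.AtPrime p)) = q' :=
      IsLocalization.under_map_of_isPrime_disjoint p.primeCompl (Localization.AtPrime p)
        hq'prime hdisj
    have hassS : q'.map (algebraMap R (Localization.AtPrime p)) ∈
        associatedPrimes (Localization.AtPrime p) (LocalizedModule p.primeCompl M) := by
      apply Module.associatedPrimes.mem_associatedPrimes_of_comap_mem_associatedPrimes_of_isLocalizedModule
        p.primeCompl (LocalizedModule.mkLinearMap p.primeCompl M)
      rw [hcomap]
      exact hq'ass
    have hprimeS := IsAssociatedPrime.isPrime hassS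
    have hmemsupp : (⟨_, hprimeS⟩ : PrimeSpectrum (Localization.AtPrime p)) ∈
        Module.support (Localization.AtPrime p) (LocalizedModule p.primeCompl M) :=
      Module.mem_support_iff_of_finite.mpr (annihilator_le_of_mem_associatedPrimes _ hassS)
    rw [hsupp, PrimeSpectrum.mem_zeroLocus] at hmemsupp
    have : p ≤ q' := by
      have e : Ideal.comap (algebraMap R (Localization.AtPrime p))
          (maximalIdeal (Localization.AtPrime p)) = p :=
        IsLocalization.AtPrime.under_maximalIdeal (Localization.AtPrime p) p
      rw [← hcomap]
      calc p = _ := e.symm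
        _ ≤ _ := Ideal.comap_mono hmemsupp
    exact absurd (lt_of_le_of_lt this hq'lt) (lt_irrefl _)

end s1


end Groth.Agent.Lib.Helper18.CM
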