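import Mathlib
import Groth.Prelude.Def_CAlg
import Groth.Agent.Lib.Helper18.CM7

/-!
# Depth under finite local homomorphisms (helper18), EGA 0_IV (16.4.8)
* `depth_eq_of_finite` : `depth_A M = depth_B M` for `A → B` local, `M` a `B`-module finite over `A`.
-/

set_option autoImplicit false
set_option linter.unusedSectionVars false
universe u

open CategoryTheory RingTheory.Sequence IsLocalRing Pointwise
open Groth.Agent.Lib.Helper16.Depth

namespace Groth.Agent.Lib.Helper18.CM

section finiteLocalHom

variable {A B : Type u} [CommRing A] [CommRing B] [IsLocalRing A] [IsLocalRing B]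
  [IsNoetherianRing A] [IsNoetherianRing B] [Algebra A B] [IsLocalHom (algebraMap A B)]

theorem depth_eq_zero_of_depth_eq_zero_of_finite (M : Type u) [AddCommGroup M] [Module B M]
    [Module A M] [IsScalarTower A B M] [Module.Finite A M] (h : LocCoh.depth A M = 0) :
    LocCoh.depth B M = 0 := by
  have hfinB : Module.Finite B M := Module.Finite.of_restrictScalars_finite A B M
  have hass := (depth_eq_zero_iff M).mp h
  have hnt : Nontrivial M := by
    by_contra hcon
    rw [not_nontrivial_iff_subsingleton] at hcon
    rw [associatedPrimes.eq_empty_of_subsingleton] at hass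
    exact hass
  by_contra hne
  have h1 : 1 ≤ LocCoh.depth B M := Order.one_le_iff_ne_zero.mpr hne
  obtain ⟨b, hb, hreg⟩ := (one_le_depth_iff M).mp h1
  obtain ⟨-, z, hz⟩ := isAssociatedPrime_iff.mp hass
  have hmem : ∀ a : A, a ∈ maximalIdeal A ↔ a • z = 0 := by
    intro a
    rw [hz, Submodule.mem_colon_singleton, Submodule.mem_bot]
  have hz0 : z ≠ 0 := by
    intro h0
    have : (1 : A) ∈ maximalIdeal A := by rw [hmem, h0, smul_zero]
    exact (IsLocalRing.maximalIdeal.isMaximal A).ne_top ((Ideal.eq_top_iff_one _).mpr this)
  -- the socle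
  let NA : Submodule A M := Submodule.torsionBySet A M (maximalIdeal A : Set A)
  have hNA : ∀ w : M, w ∈ NA ↔ ∀ a ∈ maximalIdeal A, a • w = 0 := by
    intro w
    rw [Submodule.mem_torsionBySet_iff]
    exact ⟨fun h a ha => h ⟨a, ha⟩, fun h a => h a.1 a.2⟩
  let NB : Submodule B M :=
    { carrier := NA
      add_mem' := NA.add_mem
      zero_mem' := NA.zero_mem
      smul_mem' := by
        intro c w hw
        rw [SetLike.mem_coe, hNA] at hw ⊢
        intro a ha
        rw [smul_comm, hw a ha, smul_zero] }
  have hzN : z ∈ NB := (hNA z).mpr fun a ha => (hmem a).mp ha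
  -- `NA` is Artinian over `A`
  let : Field (A ⧸ maximalIdeal A) := Ideal.Quotient.field (maximalIdeal A)
  have hfinNA : Module.Finite A NA := inferInstance
  have hfinq : Module.Finite (A ⧸ maximalIdeal A) NA :=
    Module.Finite.of_restrictScalars_finite A _ _
  have hartq : IsArtinian (A ⧸ maximalIdeal A) NA := inferInstance
  have hart : IsArtinian A NA :=
    isArtinian_of_surjective_algebraMap (R := A ⧸ maximalIdeal A) Ideal.Quotient.mk_surjective
  -- multiplication by `b` on `NA`
  let fM : M →ₗ[A] M := (LinearMap.lsmul B M b).restrictScalars A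
  have hfN : ∀ w ∈ NA, fM w ∈ NA := fun w hw => NB.smul_mem b hw
  let f : NA →ₗ[A] NA := fM.restrict hfN
  have hfinj : Function.Injective f := by
    intro x y hxy
    apply Subtype.ext
    apply hreg
    exact congrArg Subtype.val hxy
  have hfsurj := IsArtinian.surjective_of_injective_endomorphism f hfinj
  have hle : NB ≤ maximalIdeal B • NB := by
    intro w hw
    obtain ⟨⟨w', hw'⟩, hfw⟩ := hfsurj ⟨w, hw⟩
    have : b • w' = w := congrArg Subtype.val hfw
    rw [← this]
    exact Submodule.smul_mem_smul hb hw'
  have hbot := Submodule.eq_bot_of_le_smul_of_le_jacobson_bot (maximalIdeal B) NB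
    (IsNoetherian.noetherian NB) hle (IsLocalRing.maximalIdeal_le_jacobson _)
  rw [hbot] at hzN
  exact hz0 ((Submodule.mem_bot B).mp hzN)

omit [IsLocalRing A] [IsLocalRing B] [IsNoetherianRing A] [IsNoetherianRing B]
  [IsLocalHom (algebraMap A B)] in
theorem finite_quotient_of_tower (M : Type u) [AddCommGroup M] [Module B M]
    [Module A M] [IsScalarTower A B M] [Module.Finite A M] (P : Submodule B M) :
    Module.Finite A (M ⧸ P) :=
  Module.Finite.of_surjective (P.mkQ.restrictScalars A) (Submodule.mkQ_surjective _)

theorem depth_eq_of_finite_aux (n : ℕ) :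
    ∀ (M : Type u) [AddCommGroup M] [Module B M] [Module A M] [IsScalarTower A B M]
      [Module.Finite A M], LocCoh.depth A M = n → LocCoh.depth B M = n := by
  induction n with
  | zero =>
    intro M _ _ _ _ _ h
    rw [Nat.cast_zero] at h ⊢
    exact depth_eq_zero_of_depth_eq_zero_of_finite M h
  | succ n ih =>
    intro M _ _ _ _ _ h
    have hfinB : Module.Finite B M := Module.Finite.of_restrictScalars_finite A B M
    have hnt : Nontrivial M := by
      by_contra hcon
      rw [not_nontrivial_iff_subsingleton] at hcon
      rw [depth_eq_top_of_subsingleton] at h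
      exact absurd h (ENat.top_ne_natCast _)
    have h1 : 1 ≤ LocCoh.depth A M := by
      rw [h]
      simp
    obtain ⟨x, hx, hreg⟩ := (one_le_depth_iff M).mp h1
    have hy : algebraMap A B x ∈ maximalIdeal B := by
      rw [IsLocalRing.mem_maximalIdeal] at hx ⊢
      exact map_nonunit (algebraMap A B) x hx
    have hregB : IsSMulRegular M (algebraMap A B x) := by
      intro m m' hmm
      apply hreg
      simpa [algebraMap_smul] using hmm
    have hfinA : Module.Finite A (QuotSMulTop (algebraMap A B x) M) :=
      finite_quotient_of_tower M _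
    have heq : (x • (⊤ : Submodule A M)) =
        ((algebraMap A B x) • (⊤ : Submodule B M)).restrictScalars A := by
      ext m
      simp only [Submodule.mem_smul_pointwise_iff_exists, Submodule.mem_top, true_and,
        Submodule.restrictScalars_mem, algebraMap_smul]
    let e : QuotSMulTop x M ≃ₗ[A] QuotSMulTop (algebraMap A B x) M :=
      (Submodule.quotEquivOfEq _ _ heq) ≪≫ₗ
        (Submodule.Quotient.restrictScalarsEquiv A ((algebraMap A B x) • (⊤ : Submodule B M)))
    have hdA : LocCoh.depth A (QuotSMulTop (algebraMap A B x) M) = n := by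
      rw [← depth_congr e]
      have := depth_quotSMulTop M hx hreg
      rw [h] at this
      push_cast at this
      exact ENat.add_left_injective_of_ne_top (n := 1) (by simp) this
    have hdB := ih (QuotSMulTop (algebraMap A B x) M) hdA
    rw [← depth_quotSMulTop M hy hregB, hdB]
    push_cast
    rfl

/-- EGA 0_IV (16.4.8): depth is insensitive to finite local changes of rings. -/
theorem depth_eq_of_finite (M : Type u) [AddCommGroup M] [Module B M]
    [Module A M] [IsScalarTower A B M] [Module.Finite A M] :
    LocCoh.depth A M = LocCoh.depth B M := by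
  cases subsingleton_or_nontrivial M
  · rw [depth_eq_top_of_subsingleton, depth_eq_top_of_subsingleton]
  · obtain ⟨n, hn⟩ := ENat.ne_top_iff_exists.mp (depth_ne_top (R := A) M)
    rw [← hn, depth_eq_of_finite_aux (A := A) (B := B) n M hn.symm]

end finiteLocalHom


end Groth.Agent.Lib.Helper18.CM
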