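import Mathlib
import Groth.Prelude.Def_CAlg
import Groth.Agent.Lib.Helper18.CM9
import Groth.Agent.Lib.Helper18.CM4
import Groth.Agent.Lib.Helper9.FlatInj
import Groth.Agent.Lib.Helper9.FlatCrit

set_option autoImplicit false
set_option linter.unusedSectionVars false
universe u

open IsLocalRing TensorProduct Pointwise

namespace Groth.Agent.Lib.Helper18.CM

section isos

variable {A B : Type u} [CommRing A] [CommRing B] [Algebra A B]
  (M : Type u) [AddCommGroup M] [Module A M]
  (N : Type u) [AddCommGroup N] [Module B N] [Module A N] [IsScalarTower A B N]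

/-- `N ⊗_A M ≃ N ⊗_B (B ⊗_A M)` -/
noncomputable def tensorEquivTensorBaseChange : (N ⊗[A] M) ≃ₗ[B] N ⊗[B] (B ⊗[A] M) :=
  (TensorProduct.AlgebraTensorModule.cancelBaseChange A B B N M).symm

/-- `(N ⊗_A M)/x ≃ N ⊗_A (M/x)` as `B`-modules, `x ∈ A` -/
noncomputable def quotSMulTopTensorEquiv₁ (x : A) :
    QuotSMulTop (algebraMap A B x) (N ⊗[A] M) ≃ₗ[B] N ⊗[A] QuotSMulTop x M :=
  QuotSMulTop.congr (algebraMap A B x) (tensorEquivTensorBaseChange M N) ≪≫ₗ
    (QuotSMulTop.tensorQuotSMulTopEquivQuotSMulTop (algebraMap A B x) N (B ⊗[A] M)).symm ≪≫ₗ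
    LinearEquiv.lTensor N (QuotSMulTop.algebraMapTensorEquivTensorQuotSMulTop x M B) ≪≫ₗ
    (tensorEquivTensorBaseChange (QuotSMulTop x M) N).symm

/-- `(N ⊗_A M)/y ≃ (N/y) ⊗_A M` as `B`-modules, `y ∈ B` -/
noncomputable def quotSMulTopTensorEquiv₂ (y : B) :
    QuotSMulTop y (N ⊗[A] M) ≃ₗ[B] (QuotSMulTop y N) ⊗[A] M :=
  QuotSMulTop.congr y (tensorEquivTensorBaseChange M N) ≪≫ₗ
    (QuotSMulTop.quotSMulTopTensorEquivQuotSMulTop y (B ⊗[A] M) N).symm ≪≫ₗ
    (tensorEquivTensorBaseChange M (QuotSMulTop y N)).symm

/-- `(N/IN)/y ≃ (N/y)/I(N/y)` -/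
noncomputable def quotSMulTopQuotEquiv (I : Ideal B) (y : B) :
    QuotSMulTop y (N ⧸ (I • ⊤ : Submodule B N)) ≃ₗ[B]
      (QuotSMulTop y N) ⧸ (I • ⊤ : Submodule B (QuotSMulTop y N)) :=
  QuotSMulTop.congr y (TensorProduct.quotTensorEquivQuotSMul N I).symm ≪≫ₗ
    (QuotSMulTop.tensorQuotSMulTopEquivQuotSMulTop y (B ⧸ I) N).symm ≪≫ₗ
    TensorProduct.quotTensorEquivQuotSMul (QuotSMulTop y N) I

end isos


section socle

variable {R : Type u} [CommRing R] [IsLocalRing R] [IsNoetherianRing R]
  (M : Type u) [AddCommGroup M] [Module R M] [Module.Finite R M]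

/-- `depth M = 0` iff `M` has a nonzero element killed by the maximal ideal -/
theorem depth_eq_zero_iff_exists_socle :
    LocCoh.depth R M = 0 ↔ ∃ z : M, z ≠ 0 ∧ ∀ a ∈ maximalIdeal R, a • z = 0 := by
  rw [depth_eq_zero_iff]
  change IsAssociatedPrime (maximalIdeal R) M ↔ _
  rw [isAssociatedPrime_iff]
  constructor
  · rintro ⟨-, z, hz⟩
    refine ⟨z, ?_, ?_⟩
    · rintro rfl
      have : (1 : R) ∈ maximalIdeal R := by
        rw [hz, Submodule.mem_colon_singleton]
        simp
      exact (maximalIdeal.isMaximal R).ne_top ((Ideal.eq_top_iff_one _).mpr this)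
    · intro a ha
      rw [hz, Submodule.mem_colon_singleton, Submodule.mem_bot] at ha
      exact ha
  · rintro ⟨z, hz0, hz⟩
    refine ⟨inferInstance, z, ?_⟩
    have hle : maximalIdeal R ≤ (⊥ : Submodule R M).colon {z} := by
      intro a ha
      rw [Submodule.mem_colon_singleton, Submodule.mem_bot]
      exact hz a ha
    have hne : (⊥ : Submodule R M).colon {z} ≠ ⊤ := by
      intro htop
      have : (1 : R) ∈ (⊥ : Submodule R M).colon {z} := htop ▸ Submodule.mem_top
      rw [Submodule.mem_colon_singleton, Submodule.mem_bot, one_smul] at this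
      exact hz0 this
    exact ((maximalIdeal.isMaximal R).eq_of_le hne hle)

end socle


section smultop

variable {A B : Type u} [CommRing A] [CommRing B] [Algebra A B]
  (N : Type u) [AddCommGroup N] [Module B N] [Module A N] [IsScalarTower A B N]

/-- `(I B) N = I N` as sets -/
theorem mem_map_smul_top_iff (I : Ideal A) (n : N) :
    n ∈ (I.map (algebraMap A B) • ⊤ : Submodule B N) ↔ n ∈ (I • ⊤ : Submodule A N) := by
  constructor
  · intro hn
    induction hn using Submodule.smul_induction_on' with
    | smul r hr n' _ =>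
      have key : ∀ r ∈ I.map (algebraMap A B), ∀ n' : N, r • n' ∈ (I • ⊤ : Submodule A N) := by
        intro r hr
        induction hr using Submodule.span_induction with
        | mem r hr =>
          obtain ⟨a, ha, rfl⟩ := hr
          intro n'
          rw [algebraMap_smul]
          exact Submodule.smul_mem_smul ha trivial
        | zero => intro n'; simp
        | add r s _ _ hr hs =>
          intro n'
          rw [add_smul]
          exact Submodule.add_mem _ (hr n') (hs n')
        | smul b r _ hr =>
          intro n'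
          rw [smul_eq_mul, mul_comm, mul_smul]
          exact hr (b • n')
      exact key r hr n'
    | add x _ y _ hx hy => exact Submodule.add_mem _ hx hy
  · intro hn
    induction hn using Submodule.smul_induction_on' with
    | smul a ha n' _ =>
      rw [← algebraMap_smul B a n']
      exact Submodule.smul_mem_smul (Ideal.mem_map_of_mem _ ha) trivial
    | add x _ y _ hx hy => exact Submodule.add_mem _ hx hy

end smultop

section base

variable {A B : Type u} [CommRing A] [CommRing B] [IsLocalRing A] [IsLocalRing B]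
  [IsNoetherianRing A] [IsNoetherianRing B] [Algebra A B] [IsLocalHom (algebraMap A B)]
  (M : Type u) [AddCommGroup M] [Module A M] [Module.Finite A M]
  (N : Type u) [AddCommGroup N] [Module B N] [Module A N] [IsScalarTower A B N]
  [Module.Finite B N] [Module.Flat A N]

instance finite_tensor : Module.Finite B (N ⊗[A] M) :=
  Groth.Agent.Lib.Helper9.finite_tensorProduct_of_finite (R := A) (S := B) (M := N) M

theorem depth_tensor_eq_zero (hM : LocCoh.depth A M = 0)
    (hN : LocCoh.depth B (N ⧸ ((maximalIdeal A).map (algebraMap A B) • ⊤ : Submodule B N)) = 0) :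
    LocCoh.depth B (N ⊗[A] M) = 0 := by
  rw [depth_eq_zero_iff] at hM
  obtain ⟨-, f, hf⟩ := (isAssociatedPrime_iff_exists_injective_linearMap _ _).mp hM
  obtain ⟨wbar, hw0, hw⟩ := (depth_eq_zero_iff_exists_socle _).mp hN
  obtain ⟨w, rfl⟩ := Submodule.Quotient.mk_surjective _ wbar
  set z : M := f 1 with hz
  have hzkill : ∀ a ∈ maximalIdeal A, a • z = 0 := by
    intro a ha
    rw [hz, ← map_smul]
    have : a • (1 : A ⧸ maximalIdeal A) = 0 := by
      rw [Algebra.smul_def, mul_one]
      exact Ideal.Quotient.eq_zero_iff_mem.mpr ha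
    rw [this, map_zero]
  refine (depth_eq_zero_iff_exists_socle _).mpr ⟨w ⊗ₜ[A] z, ?_, ?_⟩
  · intro h0
    apply hw0
    have hinj : Function.Injective (f.lTensor N) :=
      Module.Flat.lTensor_preserves_injective_linearMap f hf
    have h1 : w ⊗ₜ[A] (1 : A ⧸ maximalIdeal A) = 0 := by
      apply hinj
      rw [LinearMap.lTensor_tmul, map_zero]
      exact h0
    have h2 := congrArg (TensorProduct.tensorQuotEquivQuotSMul N (maximalIdeal A)) h1
    rw [map_zero] at h2
    have h3 : (TensorProduct.tensorQuotEquivQuotSMul N (maximalIdeal A))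
        (w ⊗ₜ[A] (1 : A ⧸ maximalIdeal A)) = Submodule.Quotient.mk w :=
      (TensorProduct.tensorQuotEquivQuotSMul_tmul_mk (M := N) (maximalIdeal A) w 1).trans
        (by rw [one_smul])
    rw [h3, Submodule.Quotient.mk_eq_zero] at h2
    rw [Submodule.Quotient.mk_eq_zero]
    exact (mem_map_smul_top_iff N _ w).mpr h2
  · intro b hb
    have h1 := hw b hb
    rw [← Submodule.Quotient.mk_smul, Submodule.Quotient.mk_eq_zero,
      mem_map_smul_top_iff] at h1
    rw [TensorProduct.smul_tmul']
    have key : ∀ n ∈ (maximalIdeal A • ⊤ : Submodule A N), n ⊗ₜ[A] z = 0 := by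
      intro n hn
      induction hn using Submodule.smul_induction_on' with
      | smul a ha n' _ =>
        rw [TensorProduct.smul_tmul, hzkill a ha, TensorProduct.tmul_zero]
      | add x _ y _ hx hy => rw [TensorProduct.add_tmul, hx, hy, add_zero]
    exact key _ h1

/-- step 1: reduce by an `M`-regular element of `𝔪_A` -/
theorem depth_tensor_step₁ {x : A} (hx : x ∈ maximalIdeal A) (hreg : IsSMulRegular M x) :
    LocCoh.depth B (N ⊗[A] QuotSMulTop x M) + 1 = LocCoh.depth B (N ⊗[A] M) := by
  have hxB : algebraMap A B x ∈ maximalIdeal B :=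
    (IsLocalRing.map_maximalIdeal_le (algebraMap A B)) (Ideal.mem_map_of_mem _ hx)
  have hregA : IsSMulRegular (N ⊗[A] M) x := hreg.lTensor N
  have hregB : IsSMulRegular (N ⊗[A] M) (algebraMap A B x) := by
    intro a b hab
    apply hregA
    simpa [algebraMap_smul] using hab
  rw [← depth_quotSMulTop (N ⊗[A] M) hxB hregB]
  rw [depth_congr (quotSMulTopTensorEquiv₁ M N x)]

/-- multiplication by `y ∈ B` as an `A`-linear endomorphism of `N` -/
noncomputable def smulEnd (y : B) : N →ₗ[A] N := (LinearMap.lsmul B N y).restrictScalars A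

@[simp] theorem smulEnd_apply (y : B) (n : N) : smulEnd (A := A) N y n = y • n := rfl

/-- the residue field as a quotient module -/
noncomputable def residueFieldEquivQuot : IsLocalRing.ResidueField A ≃ₗ[A] A ⧸ maximalIdeal A where
  toFun := id
  invFun := id
  map_add' _ _ := rfl
  map_smul' _ _ := rfl
  left_inv _ := rfl
  right_inv _ := rfl

theorem smulEnd_lTensor_residueField_injective {y : B}
    (hreg : IsSMulRegular (N ⧸ ((maximalIdeal A).map (algebraMap A B) • ⊤ : Submodule B N)) y) :
    Function.Injective ((smulEnd (A := A) N y).lTensor (IsLocalRing.ResidueField A)) := by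
  let e : IsLocalRing.ResidueField A ⊗[A] N ≃ₗ[A] N ⧸ (maximalIdeal A • ⊤ : Submodule A N) :=
    TensorProduct.congr residueFieldEquivQuot (LinearEquiv.refl A N) ≪≫ₗ
      TensorProduct.quotTensorEquivQuotSMul N (maximalIdeal A)
  have he : ∀ (c : A) (n : N), e (IsLocalRing.residue A c ⊗ₜ[A] n) =
      Submodule.Quotient.mk (c • n) := by
    intro c n
    exact TensorProduct.quotTensorEquivQuotSMul_mk_tmul (maximalIdeal A) c n
  have hle : (maximalIdeal A • ⊤ : Submodule A N) ≤
      (maximalIdeal A • ⊤ : Submodule A N).comap (smulEnd (A := A) N y) := by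
    intro n hn
    rw [Submodule.mem_comap, smulEnd_apply, ← mem_map_smul_top_iff (B := B)]
    exact Submodule.smul_mem _ y ((mem_map_smul_top_iff (B := B) N _ n).mpr hn)
  let ybar := (maximalIdeal A • ⊤ : Submodule A N).mapQ _ (smulEnd (A := A) N y) hle
  have hybar : Function.Injective ybar := by
    rw [injective_iff_map_eq_zero]
    intro nbar h0
    obtain ⟨n, rfl⟩ := Submodule.Quotient.mk_surjective _ nbar
    rw [Submodule.mapQ_apply, Submodule.Quotient.mk_eq_zero, smulEnd_apply,
      ← mem_map_smul_top_iff (B := B)] at h0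
    rw [Submodule.Quotient.mk_eq_zero, ← mem_map_smul_top_iff (B := B)]
    have h1 : y • (Submodule.Quotient.mk n :
        N ⧸ ((maximalIdeal A).map (algebraMap A B) • ⊤ : Submodule B N)) = 0 := by
      rw [← Submodule.Quotient.mk_smul, Submodule.Quotient.mk_eq_zero]
      exact h0
    have h2 := hreg (a₁ := Submodule.Quotient.mk n) (a₂ := 0) (by
      show y • _ = y • _
      rw [h1, smul_zero])
    rwa [Submodule.Quotient.mk_eq_zero] at h2
  have hcomm : ∀ t, e ((smulEnd (A := A) N y).lTensor (IsLocalRing.ResidueField A) t) =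
      ybar (e t) := by
    intro t
    induction t using TensorProduct.induction_on with
    | zero => rw [map_zero, map_zero, map_zero]
    | add a b ha hb => rw [map_add, map_add, map_add, map_add, ha, hb]
    | tmul c n =>
      obtain ⟨c, rfl⟩ := IsLocalRing.residue_surjective c
      rw [LinearMap.lTensor_tmul, he, he, Submodule.mapQ_apply, smulEnd_apply, smulEnd_apply,
        smul_comm]
  rw [injective_iff_map_eq_zero]
  intro t ht
  have := hcomm t
  rw [ht, map_zero] at this
  have h3 : e t = 0 := hybar (by rw [map_zero]; exact this.symm)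
  exact e.injective (by rw [h3, map_zero])

theorem range_smulEnd (y : B) :
    LinearMap.range (smulEnd (A := A) N y) = (y • ⊤ : Submodule B N).restrictScalars A := by
  ext n
  rw [LinearMap.mem_range, Submodule.restrictScalars_mem, Submodule.mem_smul_pointwise_iff_exists]
  constructor
  · rintro ⟨n', rfl⟩
    exact ⟨n', trivial, rfl⟩
  · rintro ⟨n', -, rfl⟩
    exact ⟨n', rfl⟩

/-- step 2: for `y` regular on the closed fibre `N/𝔪_A N`, `y` is regular on `N ⊗ M`
and `N/yN` is flat over `A`. -/
theorem flat_quotSMulTop_of_isSMulRegular_fibre {y : B}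
    (hreg : IsSMulRegular (N ⧸ ((maximalIdeal A).map (algebraMap A B) • ⊤ : Submodule B N)) y) :
    Module.Flat A (QuotSMulTop y N) := by
  have hk := smulEnd_lTensor_residueField_injective (A := A) N hreg
  have h := (Groth.Agent.Lib.Helper9.injective_and_flat_of_lTensor_residueField_injective
    (smulEnd (A := A) N y) B hk).2
  exact Module.Flat.of_linearEquiv
    ((Submodule.Quotient.restrictScalarsEquiv A (y • ⊤ : Submodule B N)).symm ≪≫ₗ
      Submodule.quotEquivOfEq _ _ (range_smulEnd N y).symm)

theorem isSMulRegular_tensor_of_isSMulRegular_fibre {y : B}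
    (hreg : IsSMulRegular (N ⧸ ((maximalIdeal A).map (algebraMap A B) • ⊤ : Submodule B N)) y) :
    IsSMulRegular (N ⊗[A] M) y := by
  have hk := smulEnd_lTensor_residueField_injective (A := A) N hreg
  have h := Groth.Agent.Lib.Helper9.rTensor_injective_of_finite (smulEnd (A := A) N y) B hk M
  have hy : ∀ t : N ⊗[A] M, (smulEnd (A := A) N y).rTensor M t = y • t := by
    intro t
    induction t using TensorProduct.induction_on with
    | zero => rw [map_zero, smul_zero]
    | add a b ha hb => rw [map_add, ha, hb, smul_add]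
    | tmul n m => rw [LinearMap.rTensor_tmul, smulEnd_apply, TensorProduct.smul_tmul']
  intro a b hab
  apply h
  rw [hy, hy]
  exact hab

theorem depth_tensor_step₂ {y : B} (hy : y ∈ maximalIdeal B)
    (hreg : IsSMulRegular (N ⧸ ((maximalIdeal A).map (algebraMap A B) • ⊤ : Submodule B N)) y) :
    LocCoh.depth B ((QuotSMulTop y N) ⊗[A] M) + 1 = LocCoh.depth B (N ⊗[A] M) := by
  have h := isSMulRegular_tensor_of_isSMulRegular_fibre M N hreg
  rw [← depth_quotSMulTop (N ⊗[A] M) hy h]
  rw [depth_congr (quotSMulTopTensorEquiv₂ M N y)]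

theorem depth_fibre_step₂ {y : B} (hy : y ∈ maximalIdeal B)
    (hreg : IsSMulRegular (N ⧸ ((maximalIdeal A).map (algebraMap A B) • ⊤ : Submodule B N)) y) :
    LocCoh.depth B ((QuotSMulTop y N) ⧸ ((maximalIdeal A).map (algebraMap A B) • ⊤ :
        Submodule B (QuotSMulTop y N))) + 1 =
      LocCoh.depth B (N ⧸ ((maximalIdeal A).map (algebraMap A B) • ⊤ : Submodule B N)) := by
  rw [← depth_quotSMulTop _ hy hreg]
  rw [depth_congr (quotSMulTopQuotEquiv N ((maximalIdeal A).map (algebraMap A B)) y)]

theorem nontrivial_fibre (A : Type u) {B : Type u} [CommRing A] [CommRing B] [IsLocalRing A]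
    [IsLocalRing B] [Algebra A B] [IsLocalHom (algebraMap A B)]
    (N : Type u) [AddCommGroup N] [Module B N] [Module.Finite B N] [Nontrivial N] :
    Nontrivial (N ⧸ ((maximalIdeal A).map (algebraMap A B) • ⊤ : Submodule B N)) := by
  apply Submodule.Quotient.nontrivial_iff.mpr
  refine (Submodule.top_ne_ideal_smul_of_le_jacobson_annihilator ?_).symm
  exact (IsLocalRing.map_maximalIdeal_le (algebraMap A B)).trans
    (IsLocalRing.maximalIdeal_le_jacobson _)

theorem depth_tensor_aux (n : ℕ) :
    ∀ (M : Type u) [AddCommGroup M] [Module A M] [Module.Finite A M] [Nontrivial M]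
      (N : Type u) [AddCommGroup N] [Module B N] [Module A N] [IsScalarTower A B N]
      [Module.Finite B N] [Module.Flat A N] [Nontrivial N],
      LocCoh.depth A M + LocCoh.depth B
        (N ⧸ ((maximalIdeal A).map (algebraMap A B) • ⊤ : Submodule B N)) = n →
      LocCoh.depth B (N ⊗[A] M) = n := by
  induction n with
  | zero =>
    intro M _ _ _ _ N _ _ _ _ _ _ _ h
    rw [Nat.cast_zero, add_eq_zero] at h
    rw [Nat.cast_zero]
    exact depth_tensor_eq_zero M N h.1 h.2
  | succ n ih =>
    intro M _ _ _ _ N _ _ _ _ _ _ _ h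
    have hNbar := nontrivial_fibre A (B := B) N
    by_cases hM : 1 ≤ LocCoh.depth A M
    · obtain ⟨x, hx, hreg⟩ := (one_le_depth_iff M).mp hM
      have hnt := nontrivial_quotSMulTop M hx
      have h1 := depth_quotSMulTop M hx hreg
      have h2 : LocCoh.depth A (QuotSMulTop x M) + LocCoh.depth B
          (N ⧸ ((maximalIdeal A).map (algebraMap A B) • ⊤ : Submodule B N)) = n := by
        rw [← h1] at h
        have h' : (LocCoh.depth A (QuotSMulTop x M) + LocCoh.depth B
          (N ⧸ ((maximalIdeal A).map (algebraMap A B) • ⊤ : Submodule B N))) + 1 = (n : ℕ∞) + 1 := by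
          rw [add_right_comm, h]
          push_cast
          rfl
        exact ENat.add_left_injective_of_ne_top ENat.one_ne_top h'
      have h3 := ih (QuotSMulTop x M) N h2
      rw [← depth_tensor_step₁ M N hx hreg, h3]
      push_cast
      rfl
    · have hM0 : LocCoh.depth A M = 0 := by
        rw [not_le, Order.lt_one_iff] at hM
        exact hM
      rw [hM0, zero_add] at h
      have hN1 : 1 ≤ LocCoh.depth B
          (N ⧸ ((maximalIdeal A).map (algebraMap A B) • ⊤ : Submodule B N)) := by
        rw [h]
        push_cast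
        exact le_add_self
      obtain ⟨y, hy, hreg⟩ := (one_le_depth_iff _).mp hN1
      have hflat := flat_quotSMulTop_of_isSMulRegular_fibre (A := A) N hreg
      have hnt := nontrivial_quotSMulTop N hy
      have h1 := depth_fibre_step₂ (A := A) N hy hreg
      have h2 : LocCoh.depth A M + LocCoh.depth B ((QuotSMulTop y N) ⧸
          ((maximalIdeal A).map (algebraMap A B) • ⊤ : Submodule B (QuotSMulTop y N))) = n := by
        rw [hM0, zero_add]
        rw [← h1] at h
        exact ENat.add_left_injective_of_ne_top ENat.one_ne_top (by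
          show _ + 1 = (n : ℕ∞) + 1
          rw [h]
          push_cast
          rfl)
      have h3 := ih M (QuotSMulTop y N) h2
      rw [← depth_tensor_step₂ M N hy hreg, h3]
      push_cast
      rfl

/-- **Depth formula** for flat local homomorphisms (EGA IV 6.3.1) -/
theorem depth_tensor_of_flat :
    LocCoh.depth B (N ⊗[A] M) = LocCoh.depth A M + LocCoh.depth B
      (N ⧸ ((maximalIdeal A).map (algebraMap A B) • ⊤ : Submodule B N)) := by
  cases subsingleton_or_nontrivial M
  · rw [depth_eq_top_of_subsingleton, depth_eq_top_of_subsingleton, top_add]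
  cases subsingleton_or_nontrivial N
  · rw [depth_eq_top_of_subsingleton, depth_eq_top_of_subsingleton (M := N ⧸ _), add_top]
  have hNbar := nontrivial_fibre A (B := B) N
  obtain ⟨r, hr⟩ := ENat.ne_top_iff_exists.mp (depth_ne_top (R := A) M)
  obtain ⟨s, hs⟩ := ENat.ne_top_iff_exists.mp (depth_ne_top (R := B)
    (N ⧸ ((maximalIdeal A).map (algebraMap A B) • ⊤ : Submodule B N)))
  rw [depth_tensor_aux (r + s) M N (by rw [← hr, ← hs]; push_cast; rfl), ← hr, ← hs]
  push_cast
  rfl

end base

end Groth.Agent.Lib.Helper18.CM
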