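import Mathlib

set_option autoImplicit false
universe u

open CategoryTheory TensorProduct

namespace Groth.Agent.Lib.Helper18.PD

section baseChange

variable (A B : Type u) [CommRing A] [CommRing B] [Algebra A B]

theorem hasProjectiveDimensionLT_baseChange [Module.Flat A B] (n : ℕ) :
    ∀ (M : Type u) [AddCommGroup M] [Module A M],
      HasProjectiveDimensionLT (ModuleCat.of A M) (n + 1) →
      HasProjectiveDimensionLT (ModuleCat.of B (B ⊗[A] M)) (n + 1) := by
  induction n with
  | zero =>
    intro M _ _ h
    rw [zero_add, ← projective_iff_hasProjectiveDimensionLT_one, ← IsProjective.iff_projective]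
      at h ⊢
    have : Module.Projective A M := h
    change Module.Projective B (B ⊗[A] M)
    infer_instance
  | succ n ih =>
    intro M _ _ h
    obtain ⟨F, _, _, hF, π, hπ⟩ : ∃ (F : Type u) (_ : AddCommGroup F) (_ : Module A F)
        (_ : Module.Free A F) (π : F →ₗ[A] M), Function.Surjective π :=
      ⟨M →₀ A, inferInstance, inferInstance, inferInstance, Finsupp.linearCombination A id,
        Finsupp.linearCombination_id_surjective A M⟩
    have hS := LinearMap.shortExact_shortComplexKer hπ
    have hproj : Projective (π.shortComplexKer).X₂ := by
      rw [← IsProjective.iff_projective]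
      change Module.Projective A F
      infer_instance
    have hK : HasProjectiveDimensionLT (ModuleCat.of A (LinearMap.ker π)) (n + 1) :=
      (hS.hasProjectiveDimensionLT_X₃_iff n hproj).mp h
    have hK' := ih (LinearMap.ker π) hK
    let f' : B ⊗[A] (LinearMap.ker π) →ₗ[B] B ⊗[A] F :=
      LinearMap.baseChange B (LinearMap.ker π).subtype
    let g' : B ⊗[A] F →ₗ[B] B ⊗[A] M := LinearMap.baseChange B π
    have hex : Function.Exact f' g' := by
      have h0 : Function.Exact (LinearMap.ker π).subtype π := LinearMap.exact_subtype_ker_map π
      exact Module.Flat.lTensor_exact B h0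
    have hinj : Function.Injective f' :=
      Module.Flat.lTensor_preserves_injective_linearMap (M := B) _
        (LinearMap.ker π).injective_subtype
    have hsurj : Function.Surjective g' := LinearMap.lTensor_surjective B hπ
    let S' := ModuleCat.shortComplexOfCompEqZero f' g' hex.linearMap_comp_eq_zero
    have hS' : S'.ShortExact := ModuleCat.shortComplex_shortExact S' hex hinj hsurj
    have hproj' : Projective S'.X₂ := by
      rw [← IsProjective.iff_projective]
      change Module.Projective B (B ⊗[A] F)
      infer_instance
    exact (hS'.hasProjectiveDimensionLT_X₃_iff n hproj').mpr hK'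

theorem projectiveDimension_baseChange_le [Module.Flat A B] (M : Type u) [AddCommGroup M]
    [Module A M] :
    projectiveDimension (ModuleCat.of B (B ⊗[A] M)) ≤ projectiveDimension (ModuleCat.of A M) := by
  refine le_of_forall_ge (fun N ↦ ?_)
  induction N with
  | bot =>
    simp only [le_bot_iff, projectiveDimension_eq_bot_iff, ModuleCat.isZero_iff_subsingleton]
    intro h
    have : Subsingleton M := h
    change Subsingleton (B ⊗[A] M)
    infer_instance
  | coe N =>
    induction N with
    | top => simp
    | coe n =>
      have h1 : ((n : ℕ∞) : WithBot ℕ∞) = ((n : ℕ) : WithBot ℕ∞) := rfl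
      rw [h1, projectiveDimension_le_iff, projectiveDimension_le_iff]
      exact hasProjectiveDimensionLT_baseChange A B n M

end baseChange

section descent

variable (A B : Type u) [CommRing A] [CommRing B] [Algebra A B]

theorem hasProjectiveDimensionLT_of_baseChange [IsNoetherianRing A] [Module.FaithfullyFlat A B]
    (n : ℕ) :
    ∀ (M : Type u) [AddCommGroup M] [Module A M] [Module.Finite A M],
      HasProjectiveDimensionLT (ModuleCat.of B (B ⊗[A] M)) (n + 1) →
      HasProjectiveDimensionLT (ModuleCat.of A M) (n + 1) := by
  induction n with
  | zero =>
    intro M _ _ _ h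
    rw [zero_add, ← projective_iff_hasProjectiveDimensionLT_one, ← IsProjective.iff_projective]
      at h ⊢
    have h1 : Module.Projective B (B ⊗[A] M) := h
    have h2 : Module.Flat B (B ⊗[A] M) := inferInstance
    have h3 : Module.Flat A M := Module.Flat.of_flat_tensorProduct A M B
    have h4 : Module.FinitePresentation A M := Module.finitePresentation_of_finite A M
    change Module.Projective A M
    exact Module.Flat.projective_of_finitePresentation
  | succ n ih =>
    intro M _ _ _ h
    obtain ⟨F, _, _, hF, hFfin, π, hπ⟩ : ∃ (F : Type u) (_ : AddCommGroup F) (_ : Module A F)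
        (_ : Module.Free A F) (_ : Module.Finite A F) (π : F →ₗ[A] M), Function.Surjective π := by
      obtain ⟨k, f, hf⟩ := Module.Finite.exists_fin' A M
      exact ⟨Fin k → A, inferInstance, inferInstance, inferInstance, inferInstance, f, hf⟩
    have hS := LinearMap.shortExact_shortComplexKer hπ
    have hproj : Projective (π.shortComplexKer).X₂ := by
      rw [← IsProjective.iff_projective]
      change Module.Projective A F
      infer_instance
    let f' : B ⊗[A] (LinearMap.ker π) →ₗ[B] B ⊗[A] F :=
      LinearMap.baseChange B (LinearMap.ker π).subtype
    let g' : B ⊗[A] F →ₗ[B] B ⊗[A] M := LinearMap.baseChange B π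
    have hex : Function.Exact f' g' := by
      have h0 : Function.Exact (LinearMap.ker π).subtype π := LinearMap.exact_subtype_ker_map π
      exact Module.Flat.lTensor_exact B h0
    have hinj : Function.Injective f' :=
      Module.Flat.lTensor_preserves_injective_linearMap (M := B) _
        (LinearMap.ker π).injective_subtype
    have hsurj : Function.Surjective g' := LinearMap.lTensor_surjective B hπ
    let S' := ModuleCat.shortComplexOfCompEqZero f' g' hex.linearMap_comp_eq_zero
    have hS' : S'.ShortExact := ModuleCat.shortComplex_shortExact S' hex hinj hsurj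
    have hproj' : Projective S'.X₂ := by
      rw [← IsProjective.iff_projective]
      change Module.Projective B (B ⊗[A] F)
      infer_instance
    have hK' : HasProjectiveDimensionLT (ModuleCat.of B (B ⊗[A] (LinearMap.ker π))) (n + 1) :=
      (hS'.hasProjectiveDimensionLT_X₃_iff n hproj').mp h
    have hK := ih (LinearMap.ker π) hK'
    exact (hS.hasProjectiveDimensionLT_X₃_iff n hproj).mpr hK

theorem projectiveDimension_baseChange_eq [IsNoetherianRing A] [Module.FaithfullyFlat A B]
    (M : Type u) [AddCommGroup M] [Module A M] [Module.Finite A M] :
    projectiveDimension (ModuleCat.of B (B ⊗[A] M)) = projectiveDimension (ModuleCat.of A M) := by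
  refine le_antisymm (projectiveDimension_baseChange_le A B M) ?_
  refine le_of_forall_ge (fun N ↦ ?_)
  induction N with
  | bot =>
    simp only [le_bot_iff, projectiveDimension_eq_bot_iff, ModuleCat.isZero_iff_subsingleton]
    intro h
    have : Subsingleton (B ⊗[A] M) := h
    change Subsingleton M
    exact Module.FaithfullyFlat.lTensor_reflects_triviality A B M
  | coe N =>
    induction N with
    | top => simp
    | coe n =>
      have h1 : ((n : ℕ∞) : WithBot ℕ∞) = ((n : ℕ) : WithBot ℕ∞) := rfl
      rw [h1, projectiveDimension_le_iff, projectiveDimension_le_iff]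
      exact hasProjectiveDimensionLT_of_baseChange A B n M

end descent

end Groth.Agent.Lib.Helper18.PD
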