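import Mathlib
import Groth.Prelude.Def_CAlg
import Groth.Agent.Lib.Helper18.FlatDepth
import Groth.Agent.Lib.Helper21.RegularLocal

set_option autoImplicit false
set_option linter.unusedSectionVars false
set_option linter.style.haveILetI false
universe u

open IsLocalRing Pointwise TensorProduct CategoryTheory

namespace Groth.Agent.Lib.Helper18.SerreReg

open Groth.Agent.Lib.Helper18.CM

section mincover

variable (R : Type u) [CommRing R] [IsLocalRing R]

/-- a minimal free cover of a finite module over a local ring -/
theorem exists_minimal_cover (M : Type u) [AddCommGroup M] [Module R M] [Module.Finite R M] :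
    ∃ (d : ℕ) (π : (Fin d → R) →ₗ[R] M), Function.Surjective π ∧
      LinearMap.ker π ≤ (maximalIdeal R • ⊤ : Submodule R (Fin d → R)) := by
  classical
  let k := ResidueField R
  let d := Module.finrank k (k ⊗[R] M)
  let b : Module.Basis (Fin d) k (k ⊗[R] M) := Module.finBasis k (k ⊗[R] M)
  have hsurj : Function.Surjective (TensorProduct.mk R k M 1) :=
    TensorProduct.mk_surjective R M k Ideal.Quotient.mk_surjective
  choose v hv using fun i => hsurj (b i)
  have hv' : ∀ i, (1 : k) ⊗ₜ[R] v i = b i := hv
  let π : (Fin d → R) →ₗ[R] M := Fintype.linearCombination R v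
  refine ⟨d, π, ?_, ?_⟩
  · rw [← LinearMap.range_eq_top, Fintype.range_linearCombination]
    exact IsLocalRing.span_eq_top_of_tmul_eq_basis v b hv'
  · intro c hc
    rw [LinearMap.mem_ker, Fintype.linearCombination_apply] at hc
    have h1 : ∑ i, (residue R (c i)) • b i = 0 := by
      have h2 := congrArg (TensorProduct.mk R k M 1) hc
      rw [map_sum, map_zero] at h2
      rw [← h2]
      refine Finset.sum_congr rfl fun i _ => ?_
      rw [map_smul, TensorProduct.mk_apply, hv' i]
      exact (algebraMap_smul k (c i) (b i))
    have h3 : ∀ i, residue R (c i) = 0 :=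
      fun i => Fintype.linearIndependent_iff.mp b.linearIndependent _ h1 i
    have h4 : ∀ i, c i ∈ maximalIdeal R := fun i => (residue_eq_zero_iff (c i)).mp (h3 i)
    have h5 : c = ∑ i, c i • (Pi.single i (1 : R) : Fin d → R) := by
      ext j
      simp [Finset.sum_apply, Pi.single_apply]
    rw [h5]
    exact Submodule.sum_mem _ fun i _ => Submodule.smul_mem_smul (h4 i) trivial

end mincover

section depthzero

variable (R : Type u) [CommRing R] [IsLocalRing R] [IsNoetherianRing R]

/-- over a Noetherian local ring of depth zero, a finite module of finite projective dimension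
is free -/
theorem free_of_depth_eq_zero (h0 : LocCoh.depth R R = 0) (n : ℕ) :
    ∀ (M : Type u) [AddCommGroup M] [Module R M] [Module.Finite R M],
      HasProjectiveDimensionLT (ModuleCat.of R M) (n + 1) → Module.Free R M := by
  induction n with
  | zero =>
    intro M _ _ _ h
    rw [zero_add, ← projective_iff_hasProjectiveDimensionLT_one, ← IsProjective.iff_projective]
      at h
    have : Module.Projective R M := h
    exact Module.free_of_flat_of_isLocalRing
  | succ n ih =>
    intro M _ _ _ h
    obtain ⟨d, π, hπ, hker⟩ := exists_minimal_cover R M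
    have hS := LinearMap.shortExact_shortComplexKer hπ
    have hproj : Projective (π.shortComplexKer).X₂ := by
      rw [← IsProjective.iff_projective]
      change Module.Projective R (Fin d → R)
      infer_instance
    have hK : HasProjectiveDimensionLT (ModuleCat.of R (LinearMap.ker π)) (n + 1) :=
      (hS.hasProjectiveDimensionLT_X₃_iff n hproj).mp h
    have hfree : Module.Free R (LinearMap.ker π) := ih (LinearMap.ker π) hK
    obtain ⟨a, ha0, ham⟩ := (depth_eq_zero_iff_exists_socle (R := R) R).mp h0
    have hkill : ∀ c ∈ (maximalIdeal R • ⊤ : Submodule R (Fin d → R)), a • c = 0 := by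
      intro c hc
      induction hc using Submodule.smul_induction_on' with
      | smul r hr f _ =>
        rw [smul_smul, mul_comm]
        have : r * a = 0 := ham r hr
        rw [this, zero_smul]
      | add x _ y _ hx hy => rw [smul_add, hx, hy, add_zero]
    have hbot : LinearMap.ker π = ⊥ := by
      by_contra hne
      have hnt : Nontrivial (LinearMap.ker π) := Submodule.nontrivial_iff_ne_bot.mpr hne
      have hfaith : FaithfulSMul R (LinearMap.ker π) := inferInstance
      apply ha0
      apply hfaith.eq_of_smul_eq_smul (M := R)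
      intro c
      rw [zero_smul]
      apply Subtype.ext
      exact hkill c.1 (hker c.2)
    have hinj : Function.Injective π := LinearMap.ker_eq_bot.mp hbot
    exact Module.Free.of_equiv (LinearEquiv.ofBijective π ⟨hinj, hπ⟩)

end depthzero

section changeOfRings

variable (R : Type u) [CommRing R] (x : R)

theorem projective_quotSMulTop (M : Type u) [AddCommGroup M] [Module R M]
    [Module.Projective R M] :
    Module.Projective (R ⧸ Ideal.span {x}) (QuotSMulTop x M) := by
  let e : QuotSMulTop x M ≃ₗ[R ⧸ Ideal.span {x}] (R ⧸ Ideal.span {x}) ⊗[R] M :=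
    LinearEquiv.extendScalarsOfSurjective (Ideal.Quotient.mk_surjective (I := Ideal.span {x}))
      (QuotSMulTop.equivQuotTensor x M)
  exact Module.Projective.of_equiv e.symm

/-- change of rings: `pd_{R/x} (M/xM) ≤ pd_R M` when `x` is regular on `R` and on `M` -/
theorem hasProjectiveDimensionLT_quotSMulTop (hx : IsSMulRegular R x) (n : ℕ) :
    ∀ (M : Type u) [AddCommGroup M] [Module R M], IsSMulRegular M x →
      HasProjectiveDimensionLT (ModuleCat.of R M) (n + 1) →
      HasProjectiveDimensionLT (ModuleCat.of (R ⧸ Ideal.span {x}) (QuotSMulTop x M)) (n + 1) := by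
  induction n with
  | zero =>
    intro M _ _ _ h
    rw [zero_add, ← projective_iff_hasProjectiveDimensionLT_one, ← IsProjective.iff_projective]
      at h ⊢
    have : Module.Projective R M := h
    exact projective_quotSMulTop R x M
  | succ n ih =>
    intro M _ _ hM h
    obtain ⟨F, _, _, hF, π, hπ⟩ : ∃ (F : Type u) (_ : AddCommGroup F) (_ : Module R F)
        (_ : Module.Free R F) (π : F →ₗ[R] M), Function.Surjective π :=
      ⟨M →₀ R, inferInstance, inferInstance, inferInstance, Finsupp.linearCombination R id,
        Finsupp.linearCombination_id_surjective R M⟩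
    have hS := LinearMap.shortExact_shortComplexKer hπ
    have hproj : Projective (π.shortComplexKer).X₂ := by
      rw [← IsProjective.iff_projective]
      change Module.Projective R F
      infer_instance
    have hK : HasProjectiveDimensionLT (ModuleCat.of R (LinearMap.ker π)) (n + 1) :=
      (hS.hasProjectiveDimensionLT_X₃_iff n hproj).mp h
    have hFreg : IsSMulRegular F x := by
      have h1 : IsSMulRegular (F ⊗[R] R) x := hx.lTensor F
      exact ((TensorProduct.rid R F).isSMulRegular_congr x).mp h1
    have hKreg : IsSMulRegular (LinearMap.ker π) x := hFreg.submodule _ x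
    have hK' := ih (LinearMap.ker π) hKreg hK
    have hsurjR : Function.Surjective (algebraMap R (R ⧸ Ideal.span {x})) :=
      Ideal.Quotient.mk_surjective
    let f' : QuotSMulTop x (LinearMap.ker π) →ₗ[R ⧸ Ideal.span {x}] QuotSMulTop x F :=
      LinearMap.extendScalarsOfSurjective hsurjR (QuotSMulTop.map x (LinearMap.ker π).subtype)
    let g' : QuotSMulTop x F →ₗ[R ⧸ Ideal.span {x}] QuotSMulTop x M :=
      LinearMap.extendScalarsOfSurjective hsurjR (QuotSMulTop.map x π)
    have hex0 : Function.Exact (LinearMap.ker π).subtype π := LinearMap.exact_subtype_ker_map π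
    have hex : Function.Exact f' g' := QuotSMulTop.map_exact x hex0 hπ
    have hsurj : Function.Surjective g' := QuotSMulTop.map_surjective x hπ
    have hinj : Function.Injective f' := by
      have h00 : Function.Exact (0 : LinearMap.ker π →ₗ[R] LinearMap.ker π)
          (LinearMap.ker π).subtype := by
        intro y
        constructor
        · intro hy
          exact ⟨0, by
            rw [LinearMap.zero_apply]
            exact ((LinearMap.ker π).injective_subtype (by rw [hy, map_zero])).symm⟩
        · rintro ⟨z, rfl⟩
          simp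
      have h4 := QuotSMulTop.map_first_exact_on_four_term_exact_of_isSMulRegular_last
        (r := x) h00 hex0 hM
      rw [injective_iff_map_eq_zero]
      intro y hy
      obtain ⟨z, hz⟩ := (h4 y).mp hy
      rw [← hz, map_zero, LinearMap.zero_apply]
    let S' := ModuleCat.shortComplexOfCompEqZero f' g' hex.linearMap_comp_eq_zero
    have hS' : S'.ShortExact := ModuleCat.shortComplex_shortExact S' hex hinj hsurj
    have hproj' : Projective S'.X₂ := by
      rw [← IsProjective.iff_projective]
      change Module.Projective (R ⧸ Ideal.span {x}) (QuotSMulTop x F)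
      exact projective_quotSMulTop R x F
    exact (hS'.hasProjectiveDimensionLT_X₃_iff n hproj').mpr hK'

end changeOfRings

section summand

variable (S : Type u) [CommRing S] [IsLocalRing S]

@[instance_reducible]
noncomputable def moduleResidueFieldQuot (Q : Type u) [AddCommGroup Q] [Module S Q] :
    Module (ResidueField S) (Q ⧸ (maximalIdeal S • ⊤ : Submodule S Q)) :=
  inferInstanceAs (Module (S ⧸ maximalIdeal S) (Q ⧸ maximalIdeal S • (⊤ : Submodule S Q)))

attribute [local instance] moduleResidueFieldQuot

theorem isScalarTowerResidueFieldQuot (Q : Type u) [AddCommGroup Q] [Module S Q] :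
    IsScalarTower S (ResidueField S) (Q ⧸ (maximalIdeal S • ⊤ : Submodule S Q)) :=
  inferInstanceAs (IsScalarTower S (S ⧸ maximalIdeal S)
      (Q ⧸ maximalIdeal S • (⊤ : Submodule S Q)))

attribute [local instance] isScalarTowerResidueFieldQuot

/-- an element `q ∉ 𝔪Q` killed by `𝔪` spans a direct summand isomorphic to the residue field -/
theorem exists_retract_residueField (Q : Type u) [AddCommGroup Q] [Module S Q] (q : Q)
    (hq : ∀ a ∈ maximalIdeal S, a • q = 0)
    (hq' : q ∉ (maximalIdeal S • ⊤ : Submodule S Q)) :
    ∃ (i : ResidueField S →ₗ[S] Q) (r : Q →ₗ[S] ResidueField S),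
      r ∘ₗ i = LinearMap.id := by
  have hv : (Submodule.Quotient.mk q : Q ⧸ (maximalIdeal S • ⊤ : Submodule S Q)) ≠ 0 := by
    intro h0
    exact hq' ((Submodule.Quotient.mk_eq_zero _).mp h0)
  have hli : LinearIndepOn (ResidueField S)
      (id : Q ⧸ (maximalIdeal S • ⊤ : Submodule S Q) → Q ⧸ (maximalIdeal S • ⊤ : Submodule S Q))
      {(Submodule.Quotient.mk q : Q ⧸ (maximalIdeal S • ⊤ : Submodule S Q))} :=
    LinearIndepOn.singleton hv
  obtain ⟨ψ, hψ⟩ := Module.exists_dual_forall_apply_eq_one hli
  have hψq : ψ (Submodule.Quotient.mk q : Q ⧸ (maximalIdeal S • ⊤ : Submodule S Q)) = 1 :=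
    hψ _ rfl
  let i0 : (S ⧸ maximalIdeal S) →ₗ[S] Q :=
    Submodule.liftQ (maximalIdeal S) (LinearMap.toSpanSingleton S Q q) (by
      intro a ha
      rw [LinearMap.mem_ker, LinearMap.toSpanSingleton_apply]
      exact hq a ha)
  let i : ResidueField S →ₗ[S] Q := i0 ∘ₗ (residueFieldEquivQuot (A := S)).toLinearMap
  let r : Q →ₗ[S] ResidueField S := (ψ.restrictScalars S) ∘ₗ
    (Submodule.mkQ (maximalIdeal S • ⊤ : Submodule S Q))
  refine ⟨i, r, ?_⟩
  have h1 : i (1 : ResidueField S) = q := by
    change (LinearMap.toSpanSingleton S Q q) 1 = q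
    rw [LinearMap.toSpanSingleton_apply, one_smul]
  have h2 : r q = 1 := hψq
  ext z
  obtain ⟨s, rfl⟩ := IsLocalRing.residue_surjective z
  have h3 : residue S s = s • (1 : ResidueField S) := by
    rw [Algebra.smul_def, mul_one]
    rfl
  rw [LinearMap.comp_apply, LinearMap.id_apply, h3, map_smul, map_smul, h1, h2]

end summand

section keyStep

open Groth.Agent.Lib.Helper21

variable (R : Type u) [CommRing R] [IsLocalRing R] [IsNoetherianRing R] {x : R}

/-- if `pd_R k < ∞` and `x ∈ 𝔪 \ 𝔪²` is regular then `pd_{R/x} k < ∞` -/
theorem hasProjectiveDimensionLT_residueField_quotient (hxm : x ∈ maximalIdeal R)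
    (hx2 : x ∉ maximalIdeal R ^ 2) (hxreg : IsSMulRegular R x)
    [IsLocalRing (R ⧸ Ideal.span {x})] (n : ℕ)
    (h : HasProjectiveDimensionLT (ModuleCat.of R (ResidueField R)) (n + 1)) :
    HasProjectiveDimensionLT
      (ModuleCat.of (R ⧸ Ideal.span {x}) (ResidueField (R ⧸ Ideal.span {x}))) (n + 1) := by
  -- the maximal ideal as kernel of the residue map
  let π : R →ₗ[R] ResidueField R := Algebra.linearMap R (ResidueField R)
  have hπ : Function.Surjective π := IsLocalRing.residue_surjective
  have hmemK : ∀ r : R, r ∈ LinearMap.ker π ↔ r ∈ maximalIdeal R := by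
    intro r
    rw [LinearMap.mem_ker]
    exact residue_eq_zero_iff r
  have hS := LinearMap.shortExact_shortComplexKer hπ
  have h2 : HasProjectiveDimensionLT (π.shortComplexKer).X₂ (n + 1) := by
    have : Projective (π.shortComplexKer).X₂ := by
      rw [← IsProjective.iff_projective]
      change Module.Projective R R
      infer_instance
    exact hasProjectiveDimensionLT_of_ge _ 1 (n + 1) (by omega)
  have h3 : HasProjectiveDimensionLT (π.shortComplexKer).X₃ (n + 1 + 1) :=
    hasProjectiveDimensionLT_of_ge _ (n + 1) (n + 1 + 1) (by omega)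
  have hK : HasProjectiveDimensionLT (ModuleCat.of R (LinearMap.ker π)) (n + 1) :=
    hS.hasProjectiveDimensionLT_X₁ (n + 1) h2 h3
  have hKreg : IsSMulRegular (LinearMap.ker π) x := hxreg.submodule _ x
  have hQ := hasProjectiveDimensionLT_quotSMulTop R x hxreg n (LinearMap.ker π) hKreg hK
  -- the summand
  have hxK : x ∈ LinearMap.ker π := (hmemK x).mpr hxm
  set R' := R ⧸ Ideal.span {x} with hR'
  have hm' : ∀ a' : R', a' ∈ maximalIdeal R' → ∃ a ∈ maximalIdeal R,
      Ideal.Quotient.mk (Ideal.span {x}) a = a' := by
    intro a' ha'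
    rw [maximalIdeal_quotient_eq_map (Ideal.span {x})] at ha'
    obtain ⟨a, ha, rfl⟩ := (Ideal.mem_map_iff_of_surjective _ Ideal.Quotient.mk_surjective).mp ha'
    exact ⟨a, ha, rfl⟩
  let q : QuotSMulTop x (LinearMap.ker π) := Submodule.Quotient.mk ⟨x, hxK⟩
  have hq : ∀ a' ∈ maximalIdeal R', a' • q = 0 := by
    intro a' ha'
    obtain ⟨a, ha, rfl⟩ := hm' a' ha'
    change Submodule.Quotient.mk (a • (⟨x, hxK⟩ : LinearMap.ker π)) = 0
    rw [Submodule.Quotient.mk_eq_zero]
    refine (Submodule.mem_smul_pointwise_iff_exists _ _ _).mpr
      ⟨⟨a, (hmemK a).mpr ha⟩, trivial, ?_⟩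
    apply Subtype.ext
    change x * a = a * x
    ring
  have hq' : q ∉ (maximalIdeal R' • ⊤ : Submodule R' (QuotSMulTop x (LinearMap.ker π))) := by
    intro hmem
    have key : ∀ y ∈ (maximalIdeal R' • ⊤ :
        Submodule R' (QuotSMulTop x (LinearMap.ker π))),
        ∃ w : LinearMap.ker π, (w : R) ∈ maximalIdeal R ^ 2 ∧ Submodule.Quotient.mk w = y := by
      intro y hy
      induction hy using Submodule.smul_induction_on' with
      | smul a' ha' y' _ =>
        obtain ⟨a, ha, rfl⟩ := hm' a' ha'
        obtain ⟨w', rfl⟩ := Submodule.Quotient.mk_surjective _ y'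
        refine ⟨a • w', ?_, rfl⟩
        change a * (w' : R) ∈ _
        rw [pow_two]
        exact Ideal.mul_mem_mul ha ((hmemK _).mp w'.2)
      | add y₁ _ y₂ _ h₁ h₂ =>
        obtain ⟨w₁, hw₁, rfl⟩ := h₁
        obtain ⟨w₂, hw₂, rfl⟩ := h₂
        exact ⟨w₁ + w₂, Ideal.add_mem _ hw₁ hw₂, rfl⟩
    obtain ⟨w, hw, hwq⟩ := key q hmem
    have h4 : (⟨x, hxK⟩ : LinearMap.ker π) - w ∈
        (x • ⊤ : Submodule R (LinearMap.ker π)) := by
      rw [← Submodule.Quotient.eq]
      exact hwq.symm
    obtain ⟨u, -, hu⟩ := (Submodule.mem_smul_pointwise_iff_exists _ _ _).mp h4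
    have h5 : x - (w : R) = x * (u : R) := by
      have := congrArg Subtype.val hu
      simpa using this.symm
    apply hx2
    have h6 : x = (w : R) + x * (u : R) := by linear_combination h5
    rw [h6]
    refine Ideal.add_mem _ hw ?_
    rw [pow_two]
    exact Ideal.mul_mem_mul hxm ((hmemK _).mp u.2)
  obtain ⟨i, r, hri⟩ := exists_retract_residueField R' (QuotSMulTop x (LinearMap.ker π)) q hq hq'
  let ret : Retract (ModuleCat.of R' (ResidueField R'))
      (ModuleCat.of R' (QuotSMulTop x (LinearMap.ker π))) :=
    { i := ModuleCat.ofHom i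
      r := ModuleCat.ofHom r
      retract := by
        rw [← ModuleCat.ofHom_comp, hri]
        rfl }
  exact ret.hasProjectiveDimensionLT (n + 1)

end keyStep

section serre

open Groth.Agent.Lib.Helper21

/-- lifting generators: `embdim R ≤ embdim (R/x) + 1` -/
theorem spanFinrank_maximalIdeal_le_quotient_succ (R : Type u) [CommRing R] [IsLocalRing R]
    [IsNoetherianRing R] {x : R} (hxm : x ∈ maximalIdeal R)
    [IsLocalRing (R ⧸ Ideal.span {x})] :
    (maximalIdeal R).spanFinrank ≤ (maximalIdeal (R ⧸ Ideal.span {x})).spanFinrank + 1 := by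
  classical
  obtain ⟨s, hscard, hsspan⟩ := Submodule.FG.exists_span_finset_card_eq_spanFinrank
    (maximalIdeal (R ⧸ Ideal.span {x})).fg_of_isNoetherianRing
  have hlift : ∀ y' : R ⧸ Ideal.span {x}, ∃ y : R, Ideal.Quotient.mk (Ideal.span {x}) y = y' :=
    Ideal.Quotient.mk_surjective
  choose lift hliftspec using hlift
  let t : Finset R := insert x (s.image lift)
  have ht : Ideal.span (t : Set R) = maximalIdeal R := by
    have hloc : IsLocalHom (Ideal.Quotient.mk (Ideal.span {x})) :=
      IsLocalHom.of_surjective _ Ideal.Quotient.mk_surjective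
    have h1 : maximalIdeal R = (maximalIdeal (R ⧸ Ideal.span {x})).comap
        (Ideal.Quotient.mk (Ideal.span {x})) :=
      (IsLocalRing.maximalIdeal_comap (Ideal.Quotient.mk (Ideal.span {x}))).symm
    have h2 : maximalIdeal (R ⧸ Ideal.span {x}) =
        (Ideal.span ((s.image lift : Finset R) : Set R)).map
          (Ideal.Quotient.mk (Ideal.span {x})) := by
      rw [Ideal.map_span, ← hsspan]
      congr 1
      ext y'
      simp only [Finset.coe_image, Set.mem_image, Finset.mem_coe]
      constructor
      · intro hy'
        exact ⟨lift y', ⟨y', hy', rfl⟩, hliftspec y'⟩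
      · rintro ⟨y, ⟨z', hz', rfl⟩, rfl⟩
        rw [hliftspec z']
        exact hz'
    rw [h1, h2, Ideal.comap_map_of_surjective _ Ideal.Quotient.mk_surjective,
      ← RingHom.ker_eq_comap_bot, Ideal.mk_ker]
    change Ideal.span ((insert x (s.image lift) : Finset R) : Set R) = _
    rw [Finset.coe_insert, Ideal.span_insert, sup_comm]
  have h3 := Submodule.spanFinrank_span_le_ncard_of_finite (R := R) (Finset.finite_toSet t)
  rw [Set.ncard_coe_finset] at h3
  have h4 : t.card ≤ s.card + 1 :=
    (Finset.card_insert_le _ _).trans (Nat.succ_le_succ Finset.card_image_le)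
  have h5 : (maximalIdeal R).spanFinrank = (Submodule.span R (t : Set R)).spanFinrank := by
    rw [← ht]
  omega

theorem isRegularLocalRing_of_hasProjectiveDimensionLT_aux (e : ℕ) :
    ∀ (R : Type u) [CommRing R] [IsLocalRing R] [IsNoetherianRing R],
      (maximalIdeal R).spanFinrank = e → ∀ n : ℕ,
      HasProjectiveDimensionLT (ModuleCat.of R (ResidueField R)) (n + 1) →
      IsRegularLocalRing R := by
  induction e using Nat.strong_induction_on with
  | _ e ih =>
    intro R _ _ _ he n h
    classical
    by_cases hm : maximalIdeal R = ⊥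
    · have hf : IsField R := IsLocalRing.isField_iff_maximalIdeal_eq.mpr hm
      let := hf.toField
      infer_instance
    · have hex : ∃ x ∈ maximalIdeal R, x ∉ maximalIdeal R ^ 2 ∧ IsSMulRegular R x := by
        by_contra hcon
        push Not at hcon
        have hfin : (associatedPrimes R R).Finite := associatedPrimes.finite R R
        set s : Finset (Ideal R) := insert (maximalIdeal R ^ 2) hfin.toFinset with hs
        have hsub : ((maximalIdeal R : Ideal R) : Set R) ⊆
            ⋃ i ∈ (↑s : Set (Ideal R)), ((id i : Ideal R) : Set R) := by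
          intro y hy
          simp only [Set.mem_iUnion, SetLike.mem_coe, exists_prop]
          by_cases hy2 : y ∈ maximalIdeal R ^ 2
          · exact ⟨_, by simp [hs], hy2⟩
          · have hnreg := hcon y hy hy2
            have hmem : y ∈ ({r : R | IsSMulRegular R r}ᶜ : Set R) := hnreg
            rw [← biUnion_associatedPrimes_eq_compl_regular R R] at hmem
            simp only [Set.mem_iUnion, SetLike.mem_coe, exists_prop] at hmem
            obtain ⟨p, hp, hyp⟩ := hmem
            exact ⟨p, by simp [hs, hp], hyp⟩
        rw [Ideal.subset_union_prime (maximalIdeal R ^ 2) (maximalIdeal R ^ 2)] at hsub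
        · obtain ⟨i, hi, hle⟩ := hsub
          simp only [hs, Finset.mem_insert, Set.Finite.mem_toFinset] at hi
          rcases hi with rfl | hi
          · apply hm
            apply Submodule.eq_bot_of_le_smul_of_le_jacobson_bot (maximalIdeal R) (maximalIdeal R)
              (IsNoetherian.noetherian _)
            · simpa [pow_two] using hle
            · exact maximalIdeal_le_jacobson _
          · have hip : i.IsPrime := IsAssociatedPrime.isPrime hi
            have him : i = maximalIdeal R :=
              le_antisymm (IsLocalRing.le_maximalIdeal hip.ne_top) hle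
            have h0 : LocCoh.depth R R = 0 := (depth_eq_zero_iff (R := R) R).mpr (him ▸ hi)
            have hfree : Module.Free R (ResidueField R) :=
              free_of_depth_eq_zero R h0 n (ResidueField R) h
            apply hm
            rw [eq_bot_iff]
            intro a ha
            rw [Submodule.mem_bot]
            have hb := Module.Free.chooseBasis R (ResidueField R)
            haveI hnt : Nontrivial (ResidueField R) :=
              ⟨⟨0, 1, fun h01 => by
                have h1m : (1 : R) ∈ maximalIdeal R :=
                  (residue_eq_zero_iff (1 : R)).mp (by rw [map_one]; exact h01.symm)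
                exact (maximalIdeal.isMaximal R).ne_top ((Ideal.eq_top_iff_one _).mpr h1m)⟩⟩
            obtain ⟨i⟩ : Nonempty (Module.Free.ChooseBasisIndex R (ResidueField R)) :=
              hb.index_nonempty
            have h0a : algebraMap R (ResidueField R) a = 0 := (residue_eq_zero_iff a).mpr ha
            have h1a : a • hb i = 0 := by rw [Algebra.smul_def, h0a, zero_mul]
            have h2a := congrArg hb.repr h1a
            rw [map_smul, hb.repr_self, map_zero, Finsupp.smul_single, smul_eq_mul, mul_one] at h2a
            exact (Finsupp.single_eq_zero.mp h2a)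
        · intro i hi h1 _
          simp only [hs, Finset.mem_insert, Set.Finite.mem_toFinset] at hi
          rcases hi with rfl | hi
          · exact absurd rfl h1
          · exact IsAssociatedPrime.isPrime hi
      obtain ⟨x, hxm, hx2, hxreg⟩ := hex
      have hIm : Ideal.span {x} ≤ maximalIdeal R := (Ideal.span_singleton_le_iff_mem _).mpr hxm
      have hR'L : IsLocalRing (R ⧸ Ideal.span {x}) := isLocalRing_quotient_of_le_maximalIdeal hIm
      have he' := spanFinrank_maximalIdeal_quotient_succ_le hxm hx2
      have hk' := hasProjectiveDimensionLT_residueField_quotient R hxm hx2 hxreg n h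
      have hreg' : IsRegularLocalRing (R ⧸ Ideal.span {x}) :=
        ih _ (by omega) (R ⧸ Ideal.span {x}) rfl n hk'
      apply IsRegularLocalRing.of_spanFinrank_maximalIdeal_le
      have hdim := ringKrullDim_quotient_span_singleton_succ_eq_ringKrullDim hxreg hxm
      have hreg'' : ((maximalIdeal (R ⧸ Ideal.span {x})).spanFinrank : WithBot ℕ∞) =
          ringKrullDim (R ⧸ Ideal.span {x}) := hreg'.spanFinrank_maximalIdeal
      rw [← hdim, ← hreg'']
      have h5 := spanFinrank_maximalIdeal_le_quotient_succ R hxm
      exact_mod_cast h5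

/-- **Serre**: a Noetherian local ring whose residue field has finite projective dimension is
regular. -/
theorem isRegularLocalRing_of_hasProjectiveDimensionLT (R : Type u) [CommRing R] [IsLocalRing R]
    [IsNoetherianRing R] (n : ℕ)
    (h : HasProjectiveDimensionLT (ModuleCat.of R (ResidueField R)) n) :
    IsRegularLocalRing R :=
  isRegularLocalRing_of_hasProjectiveDimensionLT_aux _ R rfl n
    (hasProjectiveDimensionLT_of_ge _ n (n + 1) (by omega))

end serre

end Groth.Agent.Lib.Helper18.SerreReg
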