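import Mathlib
import Groth.Agent.Lib.Helper18.SerreReg
import Groth.Agent.Lib.Helper18.PD
import Groth.Agent.Lib.Helper4.RegularGlobalDim

set_option autoImplicit false
universe u

open IsLocalRing TensorProduct CategoryTheory

namespace Groth.Agent.Lib.Helper18.SerreReg

theorem exists_ringKrullDim_eq_nat (R : Type u) [CommRing R] [IsLocalRing R] [IsNoetherianRing R] :
    ∃ d : ℕ, ringKrullDim R = d := by
  have h1 : ringKrullDim R < ⊤ := ringKrullDim_lt_top
  have h2 : ringKrullDim R ≠ ⊥ := ringKrullDim_ne_bot
  induction hr : ringKrullDim R with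
  | bot => exact absurd hr h2
  | coe a =>
    induction a with
    | top => rw [hr] at h1; exact absurd h1 (lt_irrefl _)
    | coe n => exact ⟨n, rfl⟩

/-- localization of a regular local ring at a prime is regular -/
theorem isRegularLocalRing_localization_atPrime (R : Type u) [CommRing R]
    [IsRegularLocalRing R] (p : Ideal R) [p.IsPrime] :
    IsRegularLocalRing (Localization.AtPrime p) := by
  obtain ⟨d, hd⟩ := exists_ringKrullDim_eq_nat R
  have h1 : HasProjectiveDimensionLT (ModuleCat.of R (R ⧸ p)) (d + 1) :=
    Groth.Agent.Lib.Helper4.hasProjectiveDimensionLT_of_isRegularLocalRing_of_finite R d hd (R ⧸ p)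
  have h2 := Groth.Agent.Lib.Helper18.PD.hasProjectiveDimensionLT_baseChange R
    (Localization.AtPrime p) d (R ⧸ p) h1
  let e1 : (Localization.AtPrime p ⧸ p.map (algebraMap R (Localization.AtPrime p)))
      ≃ₗ[Localization.AtPrime p] (Localization.AtPrime p) ⊗[R] (R ⧸ p) :=
    (Algebra.TensorProduct.quotIdealMapEquivTensorQuot (Localization.AtPrime p) p).toLinearEquiv
  let e2 : (Localization.AtPrime p ⧸ p.map (algebraMap R (Localization.AtPrime p)))
      ≃ₗ[Localization.AtPrime p] ResidueField (Localization.AtPrime p) :=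
    Submodule.quotEquivOfEq _ _ (Localization.AtPrime.map_eq_maximalIdeal)
  have h3 : HasProjectiveDimensionLT
      (ModuleCat.of (Localization.AtPrime p) (ResidueField (Localization.AtPrime p))) (d + 1) := by
    rw [← projectiveDimension_lt_iff] at h2 ⊢
    rwa [projectiveDimension_eq_of_iso (e2.symm.trans e1).toModuleIso]
  exact isRegularLocalRing_of_hasProjectiveDimensionLT _ (d + 1) h3

/-- descent of regularity along flat local homomorphisms -/
theorem isRegularLocalRing_of_flat_of_isLocalHom (R : Type u) [CommRing R]
    [IsLocalRing R] [IsNoetherianRing R] (S : Type u) [CommRing S] [IsRegularLocalRing S]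
    [Algebra R S] [IsLocalHom (algebraMap R S)] [Module.Flat R S] : IsRegularLocalRing R := by
  obtain ⟨d, hd⟩ := exists_ringKrullDim_eq_nat S
  have : Module.FaithfullyFlat R S := Module.FaithfullyFlat.of_flat_of_isLocalHom
  have h1 : HasProjectiveDimensionLT (ModuleCat.of S (S ⊗[R] ResidueField R)) (d + 1) :=
    Groth.Agent.Lib.Helper4.hasProjectiveDimensionLT_of_isRegularLocalRing_of_finite S d hd
      (S ⊗[R] ResidueField R)
  have h2 := Groth.Agent.Lib.Helper18.PD.hasProjectiveDimensionLT_of_baseChange R S d
    (ResidueField R) h1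
  exact isRegularLocalRing_of_hasProjectiveDimensionLT _ (d + 1) h2

end Groth.Agent.Lib.Helper18.SerreReg
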