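import Mathlib.Algebra.Category.ModuleCat.InjectiveDimension
import Mathlib.Algebra.Category.ModuleCat.ProjectiveDimension
import Mathlib.Algebra.Category.ModuleCat.Ext.HasExt
import Mathlib.Algebra.Module.Injective

set_option autoImplicit false
universe u

namespace Groth.Agent.Lib.Helper18

open CategoryTheory Abelian

/-- Baer via Ext¹ against cyclic modules. -/
lemma injective_of_ext_one (A : Type u) [CommRing A] (X : ModuleCat.{u} A)
    (h : ∀ I : Ideal A, Subsingleton (Ext (ModuleCat.of A (A ⧸ I)) X 1)) :
    Injective X := by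
  rw [← Module.injective_iff_injective_object, ← Module.Baer.iff_injective]
  intro I g
  let S : ShortComplex (ModuleCat.{u} A) :=
    ModuleCat.shortComplexOfCompEqZero (I.subtype) (Submodule.mkQ I)
      (LinearMap.exact_subtype_mkQ I).linearMap_comp_eq_zero
  have hS : S.ShortExact := ModuleCat.shortComplex_shortExact S
    (LinearMap.exact_subtype_mkQ I) (Submodule.injective_subtype I) (Submodule.mkQ_surjective I)
  have := h I
  obtain ⟨φ, hφ⟩ := Ext.contravariant_sequence_exact₁ hS X
    (Ext.mk₀ (ModuleCat.ofHom g)) (zero_add 1) (Subsingleton.elim _ _)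
  obtain ⟨φ, rfl⟩ := Ext.homEquiv₀.symm.surjective φ
  have h2 : S.f ≫ φ = ModuleCat.ofHom g := Ext.homEquiv₀.symm.injective (by simpa using hφ)
  refine ⟨φ.hom, fun x mem => ?_⟩
  have := congr($(h2).hom ⟨x, mem⟩)
  simpa [S] using this

lemma hasInjectiveDimensionLT_of_ext_cyclic (A : Type u) [CommRing A] (n : ℕ) : ∀ (X : ModuleCat.{u} A)
    (_ : ∀ I : Ideal A, Subsingleton (Ext (ModuleCat.of A (A ⧸ I)) X (n + 1))),
    HasInjectiveDimensionLT X (n + 1) := by
  induction n with
  | zero =>
    intro X h
    have := injective_of_ext_one A X h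
    infer_instance
  | succ n ih =>
    intro X h
    let ⟨J, _, f, _⟩ := EnoughInjectives.presentation X
    have injf : Function.Injective f.hom := (ModuleCat.mono_iff_injective f).mp ‹_›
    let S : ShortComplex (ModuleCat.{u} A) :=
      ModuleCat.shortComplexOfCompEqZero _ _ f.hom.exact_map_mkQ_range.linearMap_comp_eq_zero
    have hS : S.ShortExact := ModuleCat.shortComplex_shortExact S
      f.hom.exact_map_mkQ_range injf (Submodule.mkQ_surjective _)
    have hJ : Injective S.X₂ := ‹Injective J›
    refine (hS.hasInjectiveDimensionLT_X₃_iff n hJ).mp (ih S.X₃ fun I => ?_)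
    have := h I
    constructor
    intro x y
    have key : ∀ z : Ext (ModuleCat.of A (A ⧸ I)) S.X₃ (n + 1), z = 0 := by
      intro z
      obtain ⟨w, rfl⟩ := Ext.covariant_sequence_exact₃ _ hS z (rfl : n + 1 + 1 = n + 2)
        (Subsingleton.elim _ _)
      rw [Ext.eq_zero_of_injective w, Ext.zero_comp]
    rw [key x, key y]


section CyclicTarget

variable (A : Type u) [CommRing A]

lemma ext_subsingleton_of_iso_right {X Y Y' : ModuleCat.{u} A} (e : Y ≅ Y') (n : ℕ)
    [h : Subsingleton (Ext X Y n)] : Subsingleton (Ext X Y' n) := by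
  constructor
  have key : ∀ x : Ext X Y' n, x = 0 := by
    intro x
    have h1 : x = (x.comp (Ext.mk₀ e.inv) (add_zero n)).comp (Ext.mk₀ e.hom) (add_zero n) := by
      rw [Ext.comp_assoc_of_third_deg_zero, Ext.mk₀_comp_mk₀, e.inv_hom_id, Ext.comp_mk₀_id]
    rw [h1, Subsingleton.elim (x.comp (Ext.mk₀ e.inv) (add_zero n)) 0, Ext.zero_comp]
  intro x y
  rw [key x, key y]

lemma ext_subsingleton_of_subsingleton_right {X Y : ModuleCat.{u} A} [Subsingleton Y] (n : ℕ) :
    Subsingleton (Ext X Y n) := by
  constructor
  have key : ∀ x : Ext X Y n, x = 0 := by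
    intro x
    have h0 : (𝟙 Y : Y ⟶ Y) = 0 := by
      ext y
      exact Subsingleton.elim _ _
    rw [← Ext.comp_mk₀_id x, h0, Ext.mk₀_zero, Ext.comp_zero]
  intro x y
  rw [key x, key y]

/-- vanishing of `Ext^n(X, -)` on cyclic modules implies vanishing on finitely generated ones. -/
lemma ext_subsingleton_of_cyclic (X : ModuleCat.{u} A) (n : ℕ)
    (h : ∀ I : Ideal A, Subsingleton (Ext X (ModuleCat.of A (A ⧸ I)) n)) (k : ℕ) :
    ∀ (L : ModuleCat.{u} A) (s : Fin k → L), Submodule.span A (Set.range s) = ⊤ →
      Subsingleton (Ext X L n) := by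
  induction k with
  | zero =>
    intro L s hs
    have h0 : (⊥ : Submodule A L) = ⊤ := by
      rw [← hs]
      simp [Set.range_eq_empty]
    have : Subsingleton L := (Submodule.subsingleton_iff A).mp (subsingleton_of_bot_eq_top h0)
    exact ext_subsingleton_of_subsingleton_right A n
  | succ k ih =>
    intro L s hs
    let f : A →ₗ[A] L := LinearMap.toSpanSingleton A L (s 0)
    let N : Submodule A L := LinearMap.range f
    let S : ShortComplex (ModuleCat.{u} A) :=
      ModuleCat.shortComplexOfCompEqZero (N.subtype) (Submodule.mkQ N)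
        (LinearMap.exact_subtype_mkQ N).linearMap_comp_eq_zero
    have hS : S.ShortExact := ModuleCat.shortComplex_shortExact S
      (LinearMap.exact_subtype_mkQ N) (Submodule.injective_subtype N) (Submodule.mkQ_surjective N)
    have h1 : Subsingleton (Ext X S.X₁ n) := by
      have := h (LinearMap.ker f)
      exact ext_subsingleton_of_iso_right A (LinearMap.quotKerEquivRange f).toModuleIso n
    have h3 : Subsingleton (Ext X S.X₃ n) := by
      refine ih S.X₃ (fun i => Submodule.mkQ N (s i.succ)) ?_
      rw [eq_top_iff]
      rintro q -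
      obtain ⟨x, rfl⟩ := Submodule.mkQ_surjective N q
      have hx : x ∈ Submodule.span A (Set.range s) := hs ▸ Submodule.mem_top
      induction hx using Submodule.span_induction with
      | mem y hy =>
        obtain ⟨i, rfl⟩ := hy
        induction i using Fin.cases with
        | zero =>
          have : Submodule.mkQ N (s 0) = 0 := by
            rw [Submodule.mkQ_apply, Submodule.Quotient.mk_eq_zero]
            exact ⟨1, by simp [f]⟩
          rw [this]
          exact Submodule.zero_mem _
        | succ j => exact Submodule.subset_span ⟨j, rfl⟩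
      | zero => simp
      | add x y _ _ hx hy => rw [map_add]; exact Submodule.add_mem _ hx hy
      | smul a x _ hx => rw [map_smul]; exact Submodule.smul_mem _ _ hx
    constructor
    have key : ∀ x : Ext X S.X₂ n, x = 0 := by
      intro x
      obtain ⟨y, rfl⟩ := Ext.covariant_sequence_exact₂ _ hS x (Subsingleton.elim _ _)
      rw [Subsingleton.elim y 0, Ext.zero_comp]
    intro x y
    rw [key x, key y]

end CyclicTarget

end Groth.Agent.Lib.Helper18
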