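import Mathlib
import Groth.Prelude.Def_CAlg
import Groth.Agent.Lib.Helper18.FlatDepth
import Groth.Agent.Lib.Helper18.CM9
import Groth.Agent.Lib.Helper21.RegularLocal

set_option autoImplicit false
set_option linter.unusedSectionVars false
universe u

open IsLocalRing TensorProduct

namespace Groth.Agent.Lib.Helper18.FlatLocal

open Groth.Agent.Lib.Helper18.CM Groth.Agent.Lib.Helper21

section gens

variable {R : Type u} [CommRing R] [IsLocalRing R] [IsNoetherianRing R]

/-- `embdim R ≤ μ(I) + embdim (R/I)` -/
theorem spanFinrank_maximalIdeal_le_add_quotient (I : Ideal R) (hI : I ≤ maximalIdeal R)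
    [IsLocalRing (R ⧸ I)] :
    (maximalIdeal R).spanFinrank ≤ I.spanFinrank + (maximalIdeal (R ⧸ I)).spanFinrank := by
  classical
  obtain ⟨s, hscard, hsspan⟩ := Submodule.FG.exists_span_finset_card_eq_spanFinrank
    (maximalIdeal (R ⧸ I)).fg_of_isNoetherianRing
  obtain ⟨u, hucard, huspan⟩ := Submodule.FG.exists_span_finset_card_eq_spanFinrank
    I.fg_of_isNoetherianRing
  have hlift : ∀ y' : R ⧸ I, ∃ y : R, Ideal.Quotient.mk I y = y' :=
    Ideal.Quotient.mk_surjective
  choose lift hliftspec using hlift
  let t : Finset R := u ∪ (s.image lift)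
  have ht : Ideal.span (t : Set R) = maximalIdeal R := by
    have hloc : IsLocalHom (Ideal.Quotient.mk I) :=
      IsLocalHom.of_surjective _ Ideal.Quotient.mk_surjective
    have h1 : maximalIdeal R = (maximalIdeal (R ⧸ I)).comap (Ideal.Quotient.mk I) :=
      (IsLocalRing.maximalIdeal_comap (Ideal.Quotient.mk I)).symm
    have h2 : maximalIdeal (R ⧸ I) =
        (Ideal.span ((s.image lift : Finset R) : Set R)).map (Ideal.Quotient.mk I) := by
      rw [Ideal.map_span, ← hsspan]
      congr 1
      ext y'
      simp only [Finset.coe_image, Set.mem_image, Finset.mem_coe]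
      constructor
      · intro hy'
        exact ⟨lift y', ⟨y', hy', rfl⟩, hliftspec y'⟩
      · rintro ⟨y, ⟨z', hz', rfl⟩, rfl⟩
        rw [hliftspec z']
        exact hz'
    rw [h1, h2, Ideal.comap_map_of_surjective _ Ideal.Quotient.mk_surjective,
      ← RingHom.ker_eq_comap_bot, Ideal.mk_ker]
    change Ideal.span ((u ∪ (s.image lift) : Finset R) : Set R) = _
    rw [Finset.coe_union, Ideal.span_union, sup_comm]
    congr 1
  have h3 := Submodule.spanFinrank_span_le_ncard_of_finite (R := R) (Finset.finite_toSet t)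
  rw [Set.ncard_coe_finset] at h3
  have h4 : t.card ≤ u.card + s.card :=
    (Finset.card_union_le _ _).trans (Nat.add_le_add_left Finset.card_image_le _)
  have h5 : (maximalIdeal R).spanFinrank = (Submodule.span R (t : Set R)).spanFinrank := by
    rw [← ht]
  omega

end gens

section flatlocal

variable (A B : Type u) [CommRing A] [CommRing B] [IsLocalRing A] [IsLocalRing B]
  [IsNoetherianRing A] [IsNoetherianRing B] [Algebra A B] [IsLocalHom (algebraMap A B)]
  [Module.Flat A B]

theorem ringKrullDim_eq_add_fibre_of_flat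
    [IsLocalRing (B ⧸ (maximalIdeal A).map (algebraMap A B))] :
    ringKrullDim B = ringKrullDim A +
      ringKrullDim (B ⧸ (maximalIdeal A).map (algebraMap A B)) := by
  have hlo : (maximalIdeal B).LiesOver (maximalIdeal A) :=
    ⟨(IsLocalRing.maximalIdeal_comap (algebraMap A B)).symm⟩
  have h := Ideal.height_eq_height_add_of_liesOver_of_hasGoingDown (maximalIdeal A)
    (maximalIdeal B)
  rw [← maximalIdeal_quotient_eq_map] at h
  rw [← IsLocalRing.maximalIdeal_height_eq_ringKrullDim,
    ← IsLocalRing.maximalIdeal_height_eq_ringKrullDim,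
    ← IsLocalRing.maximalIdeal_height_eq_ringKrullDim]
  exact_mod_cast h

theorem depth_eq_add_fibre_of_flat
    [IsLocalRing (B ⧸ (maximalIdeal A).map (algebraMap A B))] :
    LocCoh.depth B B = LocCoh.depth A A +
      LocCoh.depth (B ⧸ (maximalIdeal A).map (algebraMap A B))
        (B ⧸ (maximalIdeal A).map (algebraMap A B)) := by
  have h := depth_tensor_of_flat (A := A) (B := B) A B
  rw [depth_congr (TensorProduct.AlgebraTensorModule.rid A B B)] at h
  rw [h]
  congr 1
  have hloc : IsLocalHom (algebraMap B (B ⧸ (maximalIdeal A).map (algebraMap A B))) :=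
    IsLocalHom.of_surjective _ Ideal.Quotient.mk_surjective
  rw [← depth_eq_of_finite (A := B) (B := B ⧸ (maximalIdeal A).map (algebraMap A B))
    (B ⧸ (maximalIdeal A).map (algebraMap A B))]
  exact depth_congr (Submodule.quotEquivOfEq _ _ (by simp))

theorem isRegularLocalRing_of_flat_of_fibre [IsRegularLocalRing A]
    [hfib : IsRegularLocalRing (B ⧸ (maximalIdeal A).map (algebraMap A B))] :
    IsRegularLocalRing B := by
  apply IsRegularLocalRing.of_spanFinrank_maximalIdeal_le
  have hK : (maximalIdeal A).map (algebraMap A B) ≤ maximalIdeal B :=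
    IsLocalRing.map_maximalIdeal_le (algebraMap A B)
  have h1 := spanFinrank_maximalIdeal_le_add_quotient _ hK
  have h2 := Ideal.spanFinrank_map_le_of_fg (algebraMap A B)
    (maximalIdeal A).fg_of_isNoetherianRing
  have h3 : ((maximalIdeal A).spanFinrank : WithBot ℕ∞) = ringKrullDim A :=
    IsRegularLocalRing.spanFinrank_maximalIdeal
  have h4 : ((maximalIdeal (B ⧸ (maximalIdeal A).map (algebraMap A B))).spanFinrank :
      WithBot ℕ∞) = ringKrullDim (B ⧸ (maximalIdeal A).map (algebraMap A B)) :=
    IsRegularLocalRing.spanFinrank_maximalIdeal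
  rw [ringKrullDim_eq_add_fibre_of_flat A B, ← h3, ← h4]
  have h5 : (maximalIdeal B).spanFinrank ≤ (maximalIdeal A).spanFinrank +
      (maximalIdeal (B ⧸ (maximalIdeal A).map (algebraMap A B))).spanFinrank := by omega
  exact_mod_cast h5

end flatlocal

end Groth.Agent.Lib.Helper18.FlatLocal
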