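import Mathlib
import Groth.Prelude.Def_CAlg
import Groth.Agent.Lib.Helper18.CM9
import Groth.Agent.Lib.Helper18.FlatDepth
import Groth.Agent.Lib.Helper21.RegularLocal
import Groth.Agent.S0602

set_option autoImplicit false
set_option linter.unusedSectionVars false
set_option linter.style.haveILetI false
universe u

open IsLocalRing Pointwise

namespace Groth.Agent.Lib.Helper18.Serre

open Groth.Agent.Lib.Helper18.CM

section self

variable {R : Type u} [CommRing R] (p : Ideal R) [hp : p.IsPrime]

/-- `R_p` as a localized module is `R_p` -/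
noncomputable def locSelfEquiv :
    LocalizedModule p.primeCompl R ≃ₗ[Localization.AtPrime p] Localization.AtPrime p :=
  LinearEquiv.extendScalarsOfIsLocalization p.primeCompl (Localization.AtPrime p)
    (IsLocalizedModule.iso p.primeCompl (Algebra.linearMap R (Localization.AtPrime p)))

variable [IsNoetherianRing R]

theorem depth_localizedModule_self :
    LocCoh.depth (Localization.AtPrime p) (LocalizedModule p.primeCompl R) =
      LocCoh.depth (Localization.AtPrime p) (Localization.AtPrime p) :=
  depth_congr (locSelfEquiv p)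

theorem supportDim_localizedModule_self :
    Module.supportDim (Localization.AtPrime p) (LocalizedModule p.primeCompl R) =
      (p.height : WithBot ℕ∞) := by
  rw [Module.supportDim_eq_of_equiv (locSelfEquiv p), Module.supportDim_self_eq_ringKrullDim,
    IsLocalization.AtPrime.ringKrullDim_eq_height p (Localization.AtPrime p)]

theorem hasSk_self_iff (k : ℕ) :
    LocCoh.HasSk k R R ↔ ∀ (p : Ideal R) [p.IsPrime],
      min (k : WithBot ℕ∞) (p.height : WithBot ℕ∞) ≤
        ((LocCoh.depth (Localization.AtPrime p) (Localization.AtPrime p) : ℕ∞) : WithBot ℕ∞) := by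
  unfold LocCoh.HasSk
  constructor
  · intro h p _
    have := h p
    rwa [depth_localizedModule_self, supportDim_localizedModule_self] at this
  · intro h p _
    rw [depth_localizedModule_self, supportDim_localizedModule_self]
    exact h p

end self

section ringEquiv

variable {A B : Type u} [CommRing A] [CommRing B] [IsLocalRing A] [IsLocalRing B]
  [IsNoetherianRing A] [IsNoetherianRing B]

theorem depth_self_eq_of_ringEquiv (e : A ≃+* B) : LocCoh.depth A A = LocCoh.depth B B := by
  letI : Algebra A B := e.toRingHom.toAlgebra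
  haveI : IsLocalHom (algebraMap A B) := by
    change IsLocalHom e.toRingHom
    exact IsLocalHom.of_surjective _ e.surjective
  let e' : A ≃ₗ[A] B :=
    { e with
      map_smul' := fun a x => by
        change e (a * x) = e a * e x
        exact map_mul e a x }
  haveI : Module.Finite A B := Module.Finite.equiv e'
  rw [depth_congr e', depth_eq_of_finite (A := A) (B := B) B]

end ringEquiv

section transit

variable {R : Type u} [CommRing R] [IsNoetherianRing R] (p : Ideal R) [hp : p.IsPrime]

theorem hasRk_localization (k : ℕ) (h : LocCoh.HasRk k R) :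
    LocCoh.HasRk k (Localization.AtPrime p) := by
  intro P _ hP
  have hht : (P.comap (algebraMap R (Localization.AtPrime p))).height = P.height :=
    IsLocalization.height_under p.primeCompl P
  have hreg := h (P.comap (algebraMap R (Localization.AtPrime p))) (hht ▸ hP)
  exact IsRegularLocalRing.of_ringEquiv
    (IsLocalization.localizationLocalizationAtPrimeIsoLocalization (M := p.primeCompl)
      P).toRingEquiv

theorem hasSk_localization (k : ℕ) (h : LocCoh.HasSk k R R) :
    LocCoh.HasSk k (Localization.AtPrime p) (Localization.AtPrime p) := by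
  rw [hasSk_self_iff] at h ⊢
  intro P _
  have hht : (P.comap (algebraMap R (Localization.AtPrime p))).height = P.height :=
    IsLocalization.height_under p.primeCompl P
  have h1 := h (P.comap (algebraMap R (Localization.AtPrime p)))
  rw [hht, depth_self_eq_of_ringEquiv
    (IsLocalization.localizationLocalizationAtPrimeIsoLocalization (M := p.primeCompl)
      P).toRingEquiv] at h1
  exact h1

end transit

section intclosed

open Polynomial

/-- in an integrally closed domain, a homogeneous monic relation `P(a, b) = 0` forces `b ∣ a` -/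
theorem dvd_of_scaleRoots_eval_eq_zero {S : Type u} [CommRing S] [IsDomain S]
    [IsIntegrallyClosed S] (a b : S) (hb : b ≠ 0) (q : S[X]) (hq : q.Monic)
    (h : (q.scaleRoots b).eval a = 0) : ∃ c, a = b * c := by
  let K := FractionRing S
  let f := algebraMap S K
  have hfb : f b ≠ 0 := by
    intro h0
    exact hb ((IsFractionRing.injective S K) (by rw [h0, map_zero]))
  have h1 : eval₂ f (f b * (f a / f b)) (scaleRoots q b) =
      f b ^ q.natDegree * eval₂ f (f a / f b) q := scaleRoots_eval₂_mul f (f a / f b) b
  rw [mul_div_cancel₀ _ hfb, eval₂_at_apply, h, map_zero] at h1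
  have h2 : eval₂ f (f a / f b) q = 0 := by
    rcases mul_eq_zero.mp h1.symm with h3 | h3
    · exact absurd (pow_eq_zero_iff (M₀ := K) (by
        intro hn
        rw [hn] at h3
        simp at h3) |>.mp h3) hfb
    · exact h3
  have hint : IsIntegral S (f a / f b) := ⟨q, hq, h2⟩
  obtain ⟨y, hy⟩ := IsIntegrallyClosed.isIntegral_iff.mp hint
  refine ⟨y, ?_⟩
  apply IsFractionRing.injective S K
  rw [map_mul, hy, mul_div_cancel₀ _ hfb]

end intclosed

section dimone

/-- a regular local ring of dimension at most one is integrally closed -/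
theorem isIntegrallyClosed_of_isRegularLocalRing_of_dim_le_one (S : Type u) [CommRing S]
    [IsRegularLocalRing S] [IsDomain S] (hdim : ringKrullDim S ≤ 1) : IsIntegrallyClosed S := by
  have h1 := (IsRegularLocalRing.iff_finrank_cotangentSpace S).mp inferInstance
  have h2 : Module.finrank (ResidueField S) (CotangentSpace S) ≤ 1 := by
    have : ((Module.finrank (ResidueField S) (CotangentSpace S) : ℕ) : WithBot ℕ∞) ≤ 1 :=
      h1 ▸ hdim
    exact_mod_cast this
  have h3 : IsIntegrallyClosed S ∧ ∀ P : Ideal S, P ≠ ⊥ → P.IsPrime → P = maximalIdeal S :=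
    ((tfae_of_isNoetherianRing_of_isLocalRing_of_isDomain S).out 5 3).mp h2
  exact h3.1

/-- a Noetherian integrally closed local domain of dimension at most one is regular -/
theorem isRegularLocalRing_of_isIntegrallyClosed_of_dim_le_one (S : Type u) [CommRing S]
    [IsLocalRing S] [IsNoetherianRing S] [IsDomain S] [IsIntegrallyClosed S]
    (hdim : ringKrullDim S ≤ 1) : IsRegularLocalRing S := by
  have h3 : IsIntegrallyClosed S ∧ ∀ P : Ideal S, P ≠ ⊥ → P.IsPrime → P = maximalIdeal S := by
    refine ⟨inferInstance, fun P hP hPp => ?_⟩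
    by_contra hne
    have hlt : P < maximalIdeal S := lt_of_le_of_ne (IsLocalRing.le_maximalIdeal hPp.ne_top) hne
    have hbot : (⊥ : Ideal S) < P := bot_lt_iff_ne_bot.mpr hP
    have hbp : (⊥ : Ideal S).IsPrime := Ideal.isPrime_bot
    have h1 := Ideal.height_add_one_le_of_lt_of_isPrime hbot
    have h2 := Ideal.height_add_one_le_of_lt_of_isPrime hlt
    have h4 : (maximalIdeal S).height ≤ 1 := by
      have := IsLocalRing.maximalIdeal_height_eq_ringKrullDim (R := S)
      rw [← this] at hdim
      exact_mod_cast hdim
    have h5 : (2 : ℕ∞) ≤ (maximalIdeal S).height := by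
      calc (2 : ℕ∞) = 0 + 1 + 1 := by norm_num
        _ ≤ (⊥ : Ideal S).height + 1 + 1 := by gcongr; exact bot_le
        _ ≤ P.height + 1 := by gcongr
        _ ≤ _ := h2
    have := h5.trans h4
    norm_num at this
  have h0 : IsPrincipalIdealRing S :=
    ((tfae_of_isNoetherianRing_of_isLocalRing_of_isDomain S).out 3 0).mp h3
  infer_instance

end dimone

section colon

variable {A : Type u} [CommRing A] [IsNoetherianRing A]

/-- if `P = (bA : z)` is prime with `b` regular, then `depth A_P = 1` -/
theorem depth_localization_eq_one_of_colon (b z : A) (hb : IsSMulRegular A b) (P : Ideal A)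
    [hP : P.IsPrime] (hPz : ∀ w, w ∈ P ↔ ∃ c, w * z = b * c) :
    LocCoh.depth (Localization.AtPrime P) (Localization.AtPrime P) = 1 := by
  set S := Localization.AtPrime P with hS
  set b' : S := algebraMap A S b with hb'
  set z' : S := algebraMap A S z with hz'
  have hbP : b ∈ P := (hPz b).mpr ⟨z, rfl⟩
  have hb'm : b' ∈ maximalIdeal S :=
    (IsLocalization.AtPrime.to_map_mem_maximal_iff S P b).mpr hbP
  have hb'reg : IsSMulRegular S b' := by
    have h1 : RingTheory.Sequence.IsWeaklyRegular A [b] :=
      (RingTheory.Sequence.isWeaklyRegular_singleton_iff A b).mpr hb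
    have h2 := RingTheory.Sequence.IsWeaklyRegular.of_isLocalization S P.primeCompl h1
    simpa using (RingTheory.Sequence.isWeaklyRegular_singleton_iff S b').mp h2
  have h0 : LocCoh.depth S (QuotSMulTop b' S) = 0 := by
    rw [depth_eq_zero_iff_exists_socle]
    refine ⟨Submodule.Quotient.mk z', ?_, ?_⟩
    · intro h0
      rw [Submodule.Quotient.mk_eq_zero] at h0
      obtain ⟨s', -, hs'⟩ := (Submodule.mem_smul_pointwise_iff_exists _ _ _).mp h0
      obtain ⟨c, t, rfl⟩ := IsLocalization.exists_mk'_eq P.primeCompl s'
      have h1 : algebraMap A S (z * t) = algebraMap A S (b * c) := by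
        rw [map_mul, map_mul, ← hz', ← hb', ← hs', smul_eq_mul, mul_assoc,
          IsLocalization.mk'_spec]
      obtain ⟨u, hu⟩ := (IsLocalization.eq_iff_exists P.primeCompl S).mp h1
      have h2 : (u : A) * t ∈ P := (hPz _).mpr ⟨u * c, by
        have : (u : A) * (z * t) = u * (b * c) := hu
        linear_combination this⟩
      rcases hP.mem_or_mem h2 with h3 | h3
      · exact u.2 h3
      · exact t.2 h3
    · intro x hx
      obtain ⟨w, t, rfl⟩ := IsLocalization.exists_mk'_eq P.primeCompl x
      have hw : w ∈ P := (IsLocalization.AtPrime.mk'_mem_maximal_iff S P w t).mp hx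
      obtain ⟨c, hc⟩ := (hPz w).mp hw
      rw [← Submodule.Quotient.mk_smul, Submodule.Quotient.mk_eq_zero]
      refine (Submodule.mem_smul_pointwise_iff_exists _ _ _).mpr
        ⟨IsLocalization.mk' S c t, trivial, ?_⟩
      rw [smul_eq_mul, smul_eq_mul, hb', hz', IsLocalization.mul_mk'_eq_mk'_of_mul,
        mul_comm (IsLocalization.mk' S w t), IsLocalization.mul_mk'_eq_mk'_of_mul, ← hc,
        mul_comm]
  have h1 := depth_quotSMulTop S hb'm hb'reg
  rw [h0, zero_add] at h1
  exact h1.symm

end colon

section key

open Polynomial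

variable {A : Type u} [CommRing A] [IsNoetherianRing A]

theorem isSMulRegular_algebraMap_localization (b : A) (hb : IsSMulRegular A b) (P : Ideal A)
    [hP : P.IsPrime] :
    IsSMulRegular (Localization.AtPrime P) (algebraMap A (Localization.AtPrime P) b) := by
  have h1 : RingTheory.Sequence.IsWeaklyRegular A [b] :=
    (RingTheory.Sequence.isWeaklyRegular_singleton_iff A b).mpr hb
  have h2 := RingTheory.Sequence.IsWeaklyRegular.of_isLocalization (Localization.AtPrime P)
    P.primeCompl h1
  simpa using (RingTheory.Sequence.isWeaklyRegular_singleton_iff (Localization.AtPrime P) _).mp h2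

/-- Key lemma for Serre's criterion: under `(R₁)` and `(S₂)`, a fraction `a/b` (with `b` regular)
satisfying a monic equation lies in the ring. -/
theorem exists_eq_mul_of_scaleRoots_eval_eq_zero (hR1 : LocCoh.HasRk 1 A)
    (hS2 : LocCoh.HasSk 2 A A) (a b : A) (hb : IsSMulRegular A b) (q : A[X]) (hq : q.Monic)
    (h : (q.scaleRoots b).eval a = 0) : ∃ c, a = b * c := by
  by_contra hne
  push Not at hne
  have hne' : (Ideal.Quotient.mk (Ideal.span {b}) a) ≠ 0 := by
    intro h0
    rw [Ideal.Quotient.eq_zero_iff_mem, Ideal.mem_span_singleton'] at h0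
    obtain ⟨c, hc⟩ := h0
    exact hne c (by rw [← hc, mul_comm])
  obtain ⟨P, hP, hle⟩ := exists_le_isAssociatedPrime_of_isNoetherianRing A _ hne'
  obtain ⟨hPp, zbar, hz⟩ := isAssociatedPrime_iff.mp hP
  obtain ⟨z, rfl⟩ := Ideal.Quotient.mk_surjective zbar
  have hPz : ∀ w, w ∈ P ↔ ∃ c, w * z = b * c := by
    intro w
    rw [hz, Submodule.mem_colon_singleton, Submodule.mem_bot]
    change (Ideal.Quotient.mk (Ideal.span {b}) (w * z)) = 0 ↔ _
    rw [Ideal.Quotient.eq_zero_iff_mem, Ideal.mem_span_singleton']
    constructor
    · rintro ⟨c, hc⟩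
      exact ⟨c, by rw [← hc, mul_comm]⟩
    · rintro ⟨c, hc⟩
      exact ⟨c, by rw [hc, mul_comm]⟩
  have hdepth := depth_localization_eq_one_of_colon b z hb P hPz
  set S := Localization.AtPrime P with hS
  -- height of `P` is at most one
  have hht : P.height ≤ ((1 : ℕ) : ℕ∞) := by
    have h2 := (hasSk_self_iff 2).mp hS2 P
    rw [hdepth] at h2
    have e2 : ((2 : ℕ) : WithBot ℕ∞) = ((2 : ℕ∞) : WithBot ℕ∞) := rfl
    rw [e2, ← WithBot.coe_min, WithBot.coe_le_coe] at h2
    by_contra hcon
    rw [not_le] at hcon
    have h3 : (2 : ℕ∞) ≤ P.height := by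
      have := Order.add_one_le_of_lt hcon
      exact_mod_cast this
    rw [min_eq_left h3] at h2
    norm_num at h2
  have hreg : IsRegularLocalRing S := hR1 P hht
  have hdom : IsDomain S := Groth.Agent.Lib.Helper21.isDomain_of_isRegularLocalRing S
  have hdim : ringKrullDim S ≤ 1 := by
    rw [IsLocalization.AtPrime.ringKrullDim_eq_height P S]
    exact_mod_cast hht
  have hic : IsIntegrallyClosed S := isIntegrallyClosed_of_isRegularLocalRing_of_dim_le_one S hdim
  have hb'reg := isSMulRegular_algebraMap_localization b hb P
  have hb'0 : algebraMap A S b ≠ 0 := by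
    intro h0
    rw [h0] at hb'reg
    have := hb'reg (a₁ := (1 : S)) (a₂ := 0) (by simp)
    exact one_ne_zero this
  have hq' : (q.map (algebraMap A S)).Monic := hq.map _
  have heval : ((q.map (algebraMap A S)).scaleRoots (algebraMap A S b)).eval
      (algebraMap A S a) = 0 := by
    rw [← map_scaleRoots q b (algebraMap A S) (by rw [hq.leadingCoeff, map_one]; exact one_ne_zero),
      eval_map_apply, h, map_zero]
  obtain ⟨c', hc'⟩ := dvd_of_scaleRoots_eval_eq_zero _ _ hb'0 _ hq' heval
  obtain ⟨c, t, rfl⟩ := IsLocalization.exists_mk'_eq P.primeCompl c'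
  rw [IsLocalization.mul_mk'_eq_mk'_of_mul, IsLocalization.eq_mk'_iff_mul_eq, ← map_mul] at hc'
  obtain ⟨u, hu⟩ := (IsLocalization.eq_iff_exists P.primeCompl S).mp hc'
  have hmem : (u : A) * t ∈ (⊥ : Submodule A (A ⧸ Ideal.span {b})).colon
      {Ideal.Quotient.mk (Ideal.span {b}) a} := by
    rw [Submodule.mem_colon_singleton, Submodule.mem_bot]
    change (Ideal.Quotient.mk (Ideal.span {b}) ((u * t) * a)) = 0
    rw [Ideal.Quotient.eq_zero_iff_mem, Ideal.mem_span_singleton']
    exact ⟨u * c, by linear_combination -hu⟩
  rcases hPp.mem_or_mem (hle hmem) with h3 | h3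
  · exact u.2 h3
  · exact t.2 h3

end key

section domain

open Polynomial

variable {A : Type u} [CommRing A] [IsNoetherianRing A]

theorem hasRk_mono {k l : ℕ} (hkl : k ≤ l) (h : LocCoh.HasRk l A) : LocCoh.HasRk k A := by
  intro p _ hp
  exact h p (hp.trans (by exact_mod_cast hkl))

theorem hasSk_mono {k l : ℕ} (hkl : k ≤ l) (h : LocCoh.HasSk l A A) : LocCoh.HasSk k A A := by
  intro p _
  refine le_trans ?_ (h p)
  exact min_le_min_right _ (by exact_mod_cast hkl)

theorem isReduced_of_R1_S2 (hR1 : LocCoh.HasRk 1 A) (hS2 : LocCoh.HasSk 2 A A) : IsReduced A :=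
  (Groth.Agent.S0602.result A).mpr ⟨hasRk_mono (by norm_num) hR1, hasSk_mono (by norm_num) hS2⟩

theorem isDomain_of_isLocalRing_of_R1_S2 [IsLocalRing A] (hR1 : LocCoh.HasRk 1 A)
    (hS2 : LocCoh.HasSk 2 A A) : IsDomain A := by
  have hred := isReduced_of_R1_S2 hR1 hS2
  have hnzd : NoZeroDivisors A := by
    refine ⟨fun {x y} hxy => ?_⟩
    by_contra hcon
    push Not at hcon
    obtain ⟨hx, hy⟩ := hcon
    set I : Ideal A := LinearMap.ker (LinearMap.toSpanSingleton A A x) with hI
    have hImem : ∀ w, w ∈ I ↔ w * x = 0 := by
      intro w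
      rw [hI, LinearMap.mem_ker, LinearMap.toSpanSingleton_apply, smul_eq_mul]
    set J : Ideal A := Submodule.annihilator I with hJ
    have hJmem : ∀ w, w ∈ J ↔ ∀ i ∈ I, w * i = 0 := by
      intro w
      rw [hJ, Submodule.mem_annihilator]
      rfl
    have hex : ∃ b ∈ I ⊔ J, IsSMulRegular A b := by
      rw [exists_regular_iff]
      intro p hp hle
      obtain ⟨hpp, w, hw⟩ := isAssociatedPrime_iff.mp hp
      have hw0 : w ≠ 0 := by
        rintro rfl
        apply hpp.ne_top
        rw [Ideal.eq_top_iff_one, hw, Submodule.mem_colon_singleton]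
        simp
      have hkill : ∀ r ∈ I ⊔ J, r * w = 0 := by
        intro r hr
        have := hle hr
        rw [hw, Submodule.mem_colon_singleton, Submodule.mem_bot, smul_eq_mul] at this
        exact this
      have hwJ : w ∈ J := by
        rw [hJmem]
        intro i hi
        rw [mul_comm]
        exact hkill i (Submodule.mem_sup_left hi)
      have hww : w * w = 0 := hkill w (Submodule.mem_sup_right hwJ)
      exact hw0 (IsNilpotent.eq_zero ⟨2, by rw [pow_two, hww]⟩)
    obtain ⟨b, hbmem, hb⟩ := hex
    obtain ⟨u, hu, v, hv, rfl⟩ := Submodule.mem_sup.mp hbmem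
    have huv : v * u = 0 := (hJmem v).mp hv u hu
    -- the monic polynomial `(X - 1) X`
    have hq : ((X - C (1 : A)) * (X - C 0)).Monic := (monic_X_sub_C 1).mul (monic_X_sub_C 0)
    have heval : (((X - C (1 : A)) * (X - C 0)).scaleRoots (u + v)).eval u = 0 := by
      rw [mul_scaleRoots' _ _ _ (by
        rw [(monic_X_sub_C (1 : A)).leadingCoeff, (monic_X_sub_C (0 : A)).leadingCoeff, one_mul]
        exact one_ne_zero), X_sub_C_scaleRoots, X_sub_C_scaleRoots]
      simp only [eval_mul, eval_sub, eval_X, eval_C]
      linear_combination -huv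
    obtain ⟨c, hc⟩ := exists_eq_mul_of_scaleRoots_eval_eq_zero hR1 hS2 u (u + v) hb _ hq heval
    have hcc : c * c = c := by
      have h1 : (u + v) * ((u + v) * (c * c)) = (u + v) * ((u + v) * c) := by
        have : u * u = u * (u + v) := by linear_combination -huv
        calc (u + v) * ((u + v) * (c * c)) = ((u + v) * c) * ((u + v) * c) := by ring
          _ = u * u := by rw [← hc]
          _ = u * (u + v) := this
          _ = (u + v) * ((u + v) * c) := by rw [← hc]; ring
      exact hb (hb h1)
    rcases IsLocalRing.isUnit_or_isUnit_one_sub_self c with hcu | hcu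
    · have h1 : c * (1 - c) = 0 := by rw [mul_sub, mul_one, hcc, sub_self]
      have h2 : 1 - c = 0 := by
        rw [← hcu.mul_right_eq_zero]
        exact h1
      have hc1 : c = 1 := by linear_combination -h2
      rw [hc1, mul_one] at hc
      have hv0 : v = 0 := by linear_combination -hc
      have hbx : (u + v) * x = 0 := by
        rw [hv0, add_zero]
        exact (hImem u).mp hu
      exact hx (hb (a₁ := x) (a₂ := 0) (by simpa using hbx))
    · have h1 : (1 - c) * c = 0 := by rw [sub_mul, one_mul, hcc, sub_self]
      have h2 : c = 0 := by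
        rw [← hcu.mul_right_eq_zero]
        exact h1
      rw [h2, mul_zero] at hc
      have hyI : y ∈ I := by
        rw [hImem, mul_comm]
        exact hxy
      have hby : (u + v) * y = 0 := by
        rw [hc, zero_add]
        exact (hJmem v).mp hv y hyI
      exact hy (hb (a₁ := y) (a₂ := 0) (by simpa using hby))
  exact { hnzd with exists_pair_ne := ⟨0, 1, zero_ne_one⟩ }

theorem isIntegrallyClosed_of_isDomain_of_R1_S2 [IsDomain A] (hR1 : LocCoh.HasRk 1 A)
    (hS2 : LocCoh.HasSk 2 A A) : IsIntegrallyClosed A := by
  rw [isIntegrallyClosed_iff (FractionRing A)]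
  intro t ht
  obtain ⟨a, b, hb, rfl⟩ := IsFractionRing.div_surjective (A := A) t
  obtain ⟨q, hq, hqt⟩ := ht
  have h1 := scaleRoots_aeval_eq_zero_of_aeval_div_eq_zero (R := A) (K := FractionRing A)
    (IsFractionRing.injective A (FractionRing A)) (p := q) (r := a) (s := b) hqt hb
  rw [aeval_algebraMap_apply] at h1
  have h2 : eval a (scaleRoots q b) = 0 := by
    apply IsFractionRing.injective A (FractionRing A)
    rw [map_zero]
    exact h1
  have hbreg : IsSMulRegular A b := by
    intro x y hxy
    exact mul_left_cancel₀ (nonZeroDivisors.ne_zero hb) hxy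
  obtain ⟨c, hc⟩ := exists_eq_mul_of_scaleRoots_eval_eq_zero hR1 hS2 a b hbreg q hq h2
  refine ⟨c, ?_⟩
  rw [hc, map_mul, mul_div_cancel_left₀]
  exact fun h0 => nonZeroDivisors.ne_zero hb
    ((IsFractionRing.injective A (FractionRing A)) (by rw [h0, map_zero]))

end domain

section normal

variable (S : Type u) [CommRing S] [IsLocalRing S] [IsNoetherianRing S] [IsDomain S]
  [IsIntegrallyClosed S]

/-- a Noetherian normal local domain satisfies `min 2 (dim S) ≤ depth S` -/
theorem min_two_dim_le_depth_of_normal :
    min ((2 : ℕ) : WithBot ℕ∞) (ringKrullDim S) ≤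
      ((LocCoh.depth S S : ℕ∞) : WithBot ℕ∞) := by
  by_cases hm : maximalIdeal S = ⊥
  · have hf : IsField S := IsLocalRing.isField_iff_maximalIdeal_eq.mpr hm
    rw [ringKrullDim_eq_zero_of_isField hf]
    refine le_trans (min_le_right _ _) ?_
    exact_mod_cast (bot_le : (0 : ℕ∞) ≤ LocCoh.depth S S)
  · obtain ⟨x, hxm, hx0⟩ := Submodule.exists_mem_ne_zero_of_ne_bot hm
    have hxreg : IsSMulRegular S x := by
      intro a b hab
      exact mul_left_cancel₀ hx0 hab
    have hdepth := depth_quotSMulTop S hxm hxreg
    by_cases h0 : LocCoh.depth S (QuotSMulTop x S) = 0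
    · -- socle element
      rw [h0, zero_add] at hdepth
      obtain ⟨zbar, hz0, hzm⟩ := (depth_eq_zero_iff_exists_socle _).mp h0
      obtain ⟨z, rfl⟩ := Submodule.Quotient.mk_surjective _ zbar
      have hznot : ∀ s, z ≠ x * s := by
        intro s hs
        apply hz0
        rw [Submodule.Quotient.mk_eq_zero]
        exact (Submodule.mem_smul_pointwise_iff_exists _ _ _).mpr ⟨s, trivial, by
          rw [smul_eq_mul, hs]⟩
      have hsoc : ∀ w ∈ maximalIdeal S, ∃ c, w * z = x * c := by
        intro w hw
        have := hzm w hw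
        rw [← Submodule.Quotient.mk_smul, Submodule.Quotient.mk_eq_zero] at this
        obtain ⟨c, -, hc⟩ := (Submodule.mem_smul_pointwise_iff_exists _ _ _).mp this
        exact ⟨c, by rw [← smul_eq_mul w z, ← hc, smul_eq_mul]⟩
      have hdim : ringKrullDim S ≤ 1 := by
        by_cases hcase : ∃ y ∈ maximalIdeal S, ∃ c, c ∉ maximalIdeal S ∧ y * z = x * c
        · -- the maximal ideal is principal
          obtain ⟨y, hym, c, hc, hyc⟩ := hcase
          have hcu : IsUnit c := by
            by_contra hnu
            exact hc ((IsLocalRing.mem_maximalIdeal c).mpr hnu)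
          obtain ⟨cinv, hcinv⟩ := hcu.exists_right_inv
          have hspan : maximalIdeal S = Ideal.span {y} := by
            apply le_antisymm
            · intro w hw
              obtain ⟨c', hc'⟩ := hsoc w hw
              have h1 : x * (w * c) = x * (y * c') := by
                calc x * (w * c) = w * (x * c) := by ring
                  _ = w * (y * z) := by rw [hyc]
                  _ = y * (w * z) := by ring
                  _ = y * (x * c') := by rw [hc']
                  _ = x * (y * c') := by ring
              have h2 : w * c = y * c' := mul_left_cancel₀ hx0 h1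
              rw [Ideal.mem_span_singleton']
              refine ⟨c' * cinv, ?_⟩
              calc c' * cinv * y = (y * c') * cinv := by ring
                _ = (w * c) * cinv := by rw [h2]
                _ = w * (c * cinv) := by ring
                _ = w := by rw [hcinv, mul_one]
            · exact (Ideal.span_singleton_le_iff_mem _).mpr hym
          have hmin : maximalIdeal S ∈ (Ideal.span {y}).minimalPrimes := by
            rw [← hspan]
            exact ⟨⟨inferInstance, le_rfl⟩, fun q hq _ => hq.2⟩
          have hht := Ideal.height_le_one_of_isPrincipal_of_mem_minimalPrimes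
            (Ideal.span {y}) (maximalIdeal S) hmin
          rw [← IsLocalRing.maximalIdeal_height_eq_ringKrullDim]
          exact_mod_cast hht
        · -- `z/x` is integral
          exfalso
          push Not at hcase
          let K := FractionRing S
          let f := algebraMap S K
          have hfx : f x ≠ 0 := fun h0 =>
            hx0 ((IsFractionRing.injective S K) (by rw [h0, map_zero]))
          let N : Submodule S K := Submodule.map (Algebra.linearMap S K) (maximalIdeal S)
          have hN : N ≠ ⊥ := by
            intro hbot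
            have : f x ∈ N := ⟨x, hxm, rfl⟩
            rw [hbot, Submodule.mem_bot] at this
            exact hfx this
          have hNfg : N.FG := Submodule.FG.map _ ((maximalIdeal S).fg_of_isNoetherianRing)
          have hstab : ∀ n ∈ N, (f z / f x) • n ∈ N := by
            rintro n ⟨w, hw, rfl⟩
            obtain ⟨c, hc⟩ := hsoc w hw
            have hcm : c ∈ maximalIdeal S := by
              by_contra hcn
              exact hcase w hw c hcn hc
            refine ⟨c, hcm, ?_⟩
            change f c = (f z / f x) * f w
            rw [div_mul_eq_mul_div, eq_div_iff hfx, ← map_mul, ← map_mul, mul_comm c x, ← hc,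
              mul_comm]
          have hint : IsIntegral S (f z / f x) :=
            isIntegral_of_smul_mem_submodule N hN hNfg (f z / f x) hstab
          obtain ⟨s, hs⟩ := IsIntegrallyClosed.isIntegral_iff.mp hint
          apply hznot s
          apply IsFractionRing.injective S K
          rw [map_mul, hs, mul_div_cancel₀ _ hfx]
      refine le_trans (min_le_right _ _) (hdim.trans ?_)
      rw [← hdepth]
      rfl
    · have h1 : 1 ≤ LocCoh.depth S (QuotSMulTop x S) := Order.one_le_iff_pos.mpr
        (pos_iff_ne_zero.mpr h0)
      refine le_trans (min_le_left _ _) ?_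
      have h2 : (2 : ℕ∞) ≤ LocCoh.depth S S := by
        rw [← hdepth]
        calc (2 : ℕ∞) = 1 + 1 := by norm_num
          _ ≤ _ := by gcongr
      have e2 : ((2 : ℕ) : WithBot ℕ∞) = ((2 : ℕ∞) : WithBot ℕ∞) := rfl
      rw [e2]
      exact WithBot.coe_le_coe.mpr h2

end normal

section main

variable (R : Type u) [CommRing R] [IsNoetherianRing R]

/-- **Serre's criterion for normality** -/
theorem serre_criterion_normal :
    (∀ (p : Ideal R) [p.IsPrime], IsDomain (Localization.AtPrime p) ∧
      IsIntegrallyClosed (Localization.AtPrime p)) ↔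
      (LocCoh.HasRk 1 R ∧ LocCoh.HasSk 2 R R) := by
  constructor
  · intro h
    refine ⟨?_, ?_⟩
    · intro p _ hp
      obtain ⟨hdom, hic⟩ := h p
      refine isRegularLocalRing_of_isIntegrallyClosed_of_dim_le_one _ ?_
      rw [IsLocalization.AtPrime.ringKrullDim_eq_height p (Localization.AtPrime p)]
      exact_mod_cast hp
    · rw [hasSk_self_iff]
      intro p _
      obtain ⟨hdom, hic⟩ := h p
      have := min_two_dim_le_depth_of_normal (Localization.AtPrime p)
      rwa [IsLocalization.AtPrime.ringKrullDim_eq_height p (Localization.AtPrime p)] at this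
  · rintro ⟨hR1, hS2⟩ p _
    have h1 := hasRk_localization p 1 hR1
    have h2 := hasSk_localization p 2 hS2
    have hdom := isDomain_of_isLocalRing_of_R1_S2 h1 h2
    exact ⟨hdom, isIntegrallyClosed_of_isDomain_of_R1_S2 h1 h2⟩

end main

end Groth.Agent.Lib.Helper18.Serre
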