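import Mathlib
import Groth.Prelude.Def_CAlg
import Groth.Agent.Lib.Helper18.SerreReg2

set_option autoImplicit false
set_option linter.unusedSectionVars false
universe u

open IsLocalRing TensorProduct CategoryTheory

namespace Groth.Agent.Lib.Helper18.RkFlat

open Groth.Agent.Lib.Helper18.SerreReg

section descent

variable (A B : Type u) [CommRing A] [CommRing B] [IsNoetherianRing A] [IsNoetherianRing B]
  [Algebra A B] [Module.Flat A B]

/-- a minimal prime over `P B` lies over `P` and has height `≤ ht P` (flatness) -/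
theorem exists_liesOver_height_le (P : Ideal A) [P.IsPrime]
    (hP : P.map (algebraMap A B) ≠ ⊤) :
    ∃ Q : Ideal B, Q.IsPrime ∧ Q.LiesOver P ∧ Q.height ≤ P.height := by
  obtain ⟨⟨Q, hQ⟩⟩ := Ideal.nonempty_minimalPrimes hP
  have hQp : Q.IsPrime := hQ.1.1
  have hPQ : P.map (algebraMap A B) ≤ Q := hQ.1.2
  have hle : P ≤ Q.under A := by
    rw [Ideal.under_def, ← Ideal.map_le_iff_le_comap]
    exact hPQ
  have hlo : Q.LiesOver P := by
    by_contra hne
    have hlt : P < Q.under A := lt_of_le_of_ne hle (fun h => hne ⟨h⟩)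
    obtain ⟨Q', hQ'le, hQ'p, hQ'lo⟩ :=
      Algebra.HasGoingDown.exists_ideal_le_liesOver_of_lt (R := A) (S := B) Q hlt
    have h1 : P.map (algebraMap A B) ≤ Q' := by
      rw [Ideal.map_le_iff_le_comap, ← Ideal.under_def, ← hQ'lo.over]
    have h2 : Q ≤ Q' := hQ.2 ⟨hQ'p, h1⟩ hQ'le
    have h3 : Q = Q' := le_antisymm h2 hQ'le
    exact hne (h3 ▸ hQ'lo)
  refine ⟨Q, hQp, hlo, ?_⟩
  have h1 := Ideal.height_le_height_add_of_liesOver P Q
  have h2 : (Q.map (Ideal.Quotient.mk (P.map (algebraMap A B)))).height = 0 := by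
    rw [Ideal.minimalPrimes_eq_comap] at hQ
    obtain ⟨Q0, hQ0, rfl⟩ := hQ
    rw [Ideal.map_comap_of_surjective _ Ideal.Quotient.mk_surjective]
    have : Q0.IsPrime := hQ0.1.1
    exact Ideal.height_eq_zero_iff.mpr hQ0
  rwa [h2, add_zero] at h1

/-- descent of regularity of a localization along a flat map -/
theorem isRegularLocalRing_localization_of_flat (P : Ideal A) [P.IsPrime] (Q : Ideal B)
    [Q.IsPrime] [Q.LiesOver P] (h : IsRegularLocalRing (Localization.AtPrime Q)) :
    IsRegularLocalRing (Localization.AtPrime P) := by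
  let := Localization.AtPrime.algebraOfLiesOver P Q
  have : IsLocalHom (algebraMap (Localization.AtPrime P) (Localization.AtPrime Q)) :=
    Localization.isLocalHom_localRingHom P Q (algebraMap A B) Ideal.LiesOver.over
  exact isRegularLocalRing_of_flat_of_isLocalHom (Localization.AtPrime P) (Localization.AtPrime Q)

theorem isRegularLocalRing_localization_of_hasRk (k : ℕ) (hB : LocCoh.HasRk k B) (P : Ideal A)
    [P.IsPrime] (hP : P.map (algebraMap A B) ≠ ⊤) (hk : P.height ≤ k) :
    IsRegularLocalRing (Localization.AtPrime P) := by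
  obtain ⟨Q, hQp, hQlo, hQh⟩ := exists_liesOver_height_le A B P hP
  exact isRegularLocalRing_localization_of_flat A B P Q (hB Q (hQh.trans hk))

/-- `(R_k)` descends along flat local homomorphisms -/
theorem hasRk_of_flat_of_isLocalHom [IsLocalRing A] [IsLocalRing B] [IsLocalHom (algebraMap A B)]
    (k : ℕ) (hB : LocCoh.HasRk k B) : LocCoh.HasRk k A := by
  intro P _ hk
  refine isRegularLocalRing_localization_of_hasRk A B k hB P ?_ hk
  intro htop
  have h1 : P.map (algebraMap A B) ≤ maximalIdeal B :=
    (Ideal.map_mono (IsLocalRing.le_maximalIdeal Ideal.IsPrime.ne_top')).trans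
      (IsLocalRing.map_maximalIdeal_le (algebraMap A B))
  rw [htop] at h1
  exact (maximalIdeal.isMaximal B).ne_top (top_le_iff.mp h1)

end descent

end Groth.Agent.Lib.Helper18.RkFlat

namespace Groth.Agent.Lib.Helper18.RkFlat

theorem hasRkAt_comap_of_flat (k : ℕ) (A B : Type u) [CommRing A] [CommRing B]
    [IsNoetherianRing A] [IsNoetherianRing B] [Algebra A B] [Module.Flat A B] (q : Ideal B)
    [q.IsPrime] (h : LocCoh.HasRk k (Localization.AtPrime q)) :
    LocCoh.HasRk k (Localization.AtPrime (q.comap (algebraMap A B))) := by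
  have hlo : q.LiesOver (q.comap (algebraMap A B)) := ⟨rfl⟩
  let := Localization.AtPrime.algebraOfLiesOver (q.comap (algebraMap A B)) q
  have : IsLocalHom (algebraMap (Localization.AtPrime (q.comap (algebraMap A B)))
      (Localization.AtPrime q)) :=
    Localization.isLocalHom_localRingHom (q.comap (algebraMap A B)) q (algebraMap A B)
      Ideal.LiesOver.over
  exact hasRk_of_flat_of_isLocalHom (Localization.AtPrime (q.comap (algebraMap A B)))
    (Localization.AtPrime q) k h

end Groth.Agent.Lib.Helper18.RkFlat
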