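import Mathlib
import Groth.Prelude.Def_CAlg
import Groth.Prelude.Def_EGA4b
import Groth.Agent.Lib.Helper18.FlatLocal
import Groth.Agent.Lib.Helper18.SerreNormal
import Groth.Agent.Lib.Helper18.RkFlat

set_option autoImplicit false
set_option linter.unusedSectionVars false
universe u

open IsLocalRing TensorProduct

namespace Groth.Agent.Lib.Helper18.RkFlat

open Groth.Agent.Lib.Helper18.CM Groth.Agent.Lib.Helper21 Groth.Agent.Lib.Helper18.FlatLocal
  Groth.Agent.Lib.Helper18.Serre

section transfer

variable {R : Type u} [CommRing R]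

theorem nonempty_ringEquiv_of_eq {I J : Ideal R} [I.IsPrime] [J.IsPrime] (h : I = J) :
    Nonempty (Localization.AtPrime I ≃+* Localization.AtPrime J) := by
  subst h
  exact ⟨RingEquiv.refl _⟩

variable (p : Ideal R) [p.IsPrime]

theorem disjoint_primeCompl_of_le {P : Ideal R} (hPp : P ≤ p) :
    Disjoint (p.primeCompl : Set R) (P : Set R) := by
  rw [Set.disjoint_left]
  intro x hx hxP
  exact hx (hPp hxP)

theorem isPrime_map_of_le (P : Ideal R) [hP : P.IsPrime] (hPp : P ≤ p) :
    (P.map (algebraMap R (Localization.AtPrime p))).IsPrime :=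
  IsLocalization.isPrime_of_isPrime_disjoint p.primeCompl _ P hP (disjoint_primeCompl_of_le p hPp)

/-- `(R_p)_{P R_p} ≃ R_P` for `P ≤ p` -/
theorem nonempty_locEquiv_of_le (P : Ideal R) [hP : P.IsPrime] (hPp : P ≤ p)
    [hP' : (P.map (algebraMap R (Localization.AtPrime p))).IsPrime] :
    Nonempty (Localization.AtPrime (P.map (algebraMap R (Localization.AtPrime p))) ≃+*
      Localization.AtPrime P) := by
  have hcomap : (P.map (algebraMap R (Localization.AtPrime p))).comap
      (algebraMap R (Localization.AtPrime p)) = P :=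
    IsLocalization.under_map_of_isPrime_disjoint p.primeCompl _ hP
      (disjoint_primeCompl_of_le p hPp)
  have e1 := (IsLocalization.localizationLocalizationAtPrimeIsoLocalization (M := p.primeCompl)
      (P.map (algebraMap R (Localization.AtPrime p)))).toRingEquiv
  obtain ⟨e2⟩ := nonempty_ringEquiv_of_eq hcomap
  exact ⟨e1.symm.trans e2⟩

theorem comap_le_of_isPrime (Q' : Ideal (Localization.AtPrime p)) [Q'.IsPrime] :
    Q'.comap (algebraMap R (Localization.AtPrime p)) ≤ p := by
  have h1 : Q' ≤ maximalIdeal (Localization.AtPrime p) :=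
    IsLocalRing.le_maximalIdeal Ideal.IsPrime.ne_top'
  have h2 := Ideal.comap_mono (f := algebraMap R (Localization.AtPrime p)) h1
  have h3 : (maximalIdeal (Localization.AtPrime p)).under R = p :=
    Localization.AtPrime.under_maximalIdeal
  exact h2.trans h3.le

variable [IsNoetherianRing R]

/-- (T2) -/
theorem isRegularLocalRing_of_hasRk_localization (k : ℕ)
    (h : LocCoh.HasRk k (Localization.AtPrime p)) (P : Ideal R) [P.IsPrime] (hPp : P ≤ p)
    (hk : P.height ≤ k) : IsRegularLocalRing (Localization.AtPrime P) := by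
  have hP' := isPrime_map_of_le p P hPp
  have hht := IsLocalization.height_map_of_disjoint (S := Localization.AtPrime p) p.primeCompl P
    (disjoint_primeCompl_of_le p hPp)
  have hreg := h (P.map (algebraMap R (Localization.AtPrime p))) (hht ▸ hk)
  obtain ⟨e⟩ := nonempty_locEquiv_of_le p P hPp
  exact IsRegularLocalRing.of_ringEquiv e

/-- (T1) -/
theorem hasRk_localization_of_forall (k : ℕ)
    (h : ∀ (Q : Ideal R) [Q.IsPrime], Q ≤ p → Q.height ≤ k →
      IsRegularLocalRing (Localization.AtPrime Q)) :
    LocCoh.HasRk k (Localization.AtPrime p) := by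
  intro Q' _ hQ'
  have hht : (Q'.comap (algebraMap R (Localization.AtPrime p))).height = Q'.height :=
    IsLocalization.height_under p.primeCompl Q'
  have hreg := h (Q'.comap (algebraMap R (Localization.AtPrime p))) (comap_le_of_isPrime p Q')
    (hht ▸ hQ')
  exact IsRegularLocalRing.of_ringEquiv
    (IsLocalization.localizationLocalizationAtPrimeIsoLocalization (M := p.primeCompl)
      Q').toRingEquiv

/-- (T3) -/
theorem isRegularLocalRing_of_hasRk_of_dim_le [IsLocalRing R] (k : ℕ) (h : LocCoh.HasRk k R)
    (hdim : ringKrullDim R ≤ k) : IsRegularLocalRing R := by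
  have h1 : (maximalIdeal R).height ≤ k := by
    rw [← IsLocalRing.maximalIdeal_height_eq_ringKrullDim] at hdim
    exact_mod_cast hdim
  have hreg := h (maximalIdeal R) h1
  let e : R ≃ₐ[R] (Localization.AtPrime (maximalIdeal R)) :=
    IsLocalization.atUnits R (maximalIdeal R).primeCompl (fun x ↦ by simpa using! fun a ↦ a)
  exact IsRegularLocalRing.of_ringEquiv e.toRingEquiv.symm

end transfer

section global

theorem isRegularLocalRing_quot_of_eq {S : Type u} [CommRing S] {I J : Ideal S} (h : I = J) :
    IsRegularLocalRing (S ⧸ I) → IsRegularLocalRing (S ⧸ J) := by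
  subst h
  exact id

theorem isLocalRing_quot_of_eq {S : Type u} [CommRing S] {I J : Ideal S} (h : I = J) :
    IsLocalRing (S ⧸ I) → IsLocalRing (S ⧸ J) := by
  subst h
  exact id

theorem depth_quot_of_eq {S : Type u} [CommRing S] {I J : Ideal S} (h : I = J)
    [IsLocalRing (S ⧸ I)] [IsLocalRing (S ⧸ J)] :
    LocCoh.depth (S ⧸ I) (S ⧸ I) = LocCoh.depth (S ⧸ J) (S ⧸ J) := by
  subst h
  rfl

theorem ringKrullDim_quot_of_eq {S : Type u} [CommRing S] {I J : Ideal S} (h : I = J) :
    ringKrullDim (S ⧸ I) = ringKrullDim (S ⧸ J) := by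
  subst h
  rfl

variable (A B : Type u) [CommRing A] [CommRing B] [IsNoetherianRing A] [IsNoetherianRing B]
  [Algebra A B] [Module.Flat A B] (Q : Ideal B) [Q.IsPrime]

theorem isRegularLocalRing_of_fibLocRing
    (hA : IsRegularLocalRing (Localization.AtPrime (Q.comap (algebraMap A B))))
    (hF : IsRegularLocalRing (EGA4.FibLocRing A B Q)) :
    IsRegularLocalRing (Localization.AtPrime Q) := by
  have hlo : Q.LiesOver (Q.comap (algebraMap A B)) := ⟨rfl⟩
  let := Localization.AtPrime.algebraOfLiesOver (Q.comap (algebraMap A B)) Q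
  have : IsLocalHom (algebraMap (Localization.AtPrime (Q.comap (algebraMap A B)))
      (Localization.AtPrime Q)) :=
    Localization.isLocalHom_localRingHom (Q.comap (algebraMap A B)) Q (algebraMap A B)
      Ideal.LiesOver.over
  have hK : (maximalIdeal (Localization.AtPrime (Q.comap (algebraMap A B)))).map
      (algebraMap (Localization.AtPrime (Q.comap (algebraMap A B))) (Localization.AtPrime Q)) =
      (Q.comap (algebraMap A B)).map (algebraMap A (Localization.AtPrime Q)) := by
    rw [← Localization.AtPrime.map_eq_maximalIdeal, Ideal.map_map,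
      ← IsScalarTower.algebraMap_eq]
  have hF' := isRegularLocalRing_quot_of_eq hK.symm hF
  exact isRegularLocalRing_of_flat_of_fibre (Localization.AtPrime (Q.comap (algebraMap A B)))
    (Localization.AtPrime Q)

theorem height_eq_add_fibLocRing :
    (Q.height : WithBot ℕ∞) = ((Q.comap (algebraMap A B)).height : WithBot ℕ∞) +
      ringKrullDim (EGA4.FibLocRing A B Q) := by
  have hlo : Q.LiesOver (Q.comap (algebraMap A B)) := ⟨rfl⟩
  let := Localization.AtPrime.algebraOfLiesOver (Q.comap (algebraMap A B)) Q
  have : IsLocalHom (algebraMap (Localization.AtPrime (Q.comap (algebraMap A B)))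
      (Localization.AtPrime Q)) :=
    Localization.isLocalHom_localRingHom (Q.comap (algebraMap A B)) Q (algebraMap A B)
      Ideal.LiesOver.over
  have hK : (maximalIdeal (Localization.AtPrime (Q.comap (algebraMap A B)))).map
      (algebraMap (Localization.AtPrime (Q.comap (algebraMap A B))) (Localization.AtPrime Q)) =
      (Q.comap (algebraMap A B)).map (algebraMap A (Localization.AtPrime Q)) := by
    rw [← Localization.AtPrime.map_eq_maximalIdeal, Ideal.map_map,
      ← IsScalarTower.algebraMap_eq]
  have hloc : IsLocalRing (Localization.AtPrime Q ⧸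
      (maximalIdeal (Localization.AtPrime (Q.comap (algebraMap A B)))).map
      (algebraMap (Localization.AtPrime (Q.comap (algebraMap A B))) (Localization.AtPrime Q))) :=
    isLocalRing_quotient_of_le_maximalIdeal (IsLocalRing.map_maximalIdeal_le _)
  have h := ringKrullDim_eq_add_fibre_of_flat (Localization.AtPrime (Q.comap (algebraMap A B)))
    (Localization.AtPrime Q)
  rw [ringKrullDim_quot_of_eq hK,
    IsLocalization.AtPrime.ringKrullDim_eq_height Q (Localization.AtPrime Q),
    IsLocalization.AtPrime.ringKrullDim_eq_height (Q.comap (algebraMap A B))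
      (Localization.AtPrime (Q.comap (algebraMap A B)))] at h
  exact h

theorem depth_eq_add_fibLocRing [hFl : IsLocalRing (EGA4.FibLocRing A B Q)] :
    LocCoh.depth (Localization.AtPrime Q) (Localization.AtPrime Q) =
      LocCoh.depth (Localization.AtPrime (Q.comap (algebraMap A B)))
        (Localization.AtPrime (Q.comap (algebraMap A B))) +
      LocCoh.depth (EGA4.FibLocRing A B Q) (EGA4.FibLocRing A B Q) := by
  have hlo : Q.LiesOver (Q.comap (algebraMap A B)) := ⟨rfl⟩
  let := Localization.AtPrime.algebraOfLiesOver (Q.comap (algebraMap A B)) Q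
  have : IsLocalHom (algebraMap (Localization.AtPrime (Q.comap (algebraMap A B)))
      (Localization.AtPrime Q)) :=
    Localization.isLocalHom_localRingHom (Q.comap (algebraMap A B)) Q (algebraMap A B)
      Ideal.LiesOver.over
  have hK : (maximalIdeal (Localization.AtPrime (Q.comap (algebraMap A B)))).map
      (algebraMap (Localization.AtPrime (Q.comap (algebraMap A B))) (Localization.AtPrime Q)) =
      (Q.comap (algebraMap A B)).map (algebraMap A (Localization.AtPrime Q)) := by
    rw [← Localization.AtPrime.map_eq_maximalIdeal, Ideal.map_map,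
      ← IsScalarTower.algebraMap_eq]
  have hloc : IsLocalRing (Localization.AtPrime Q ⧸
      (maximalIdeal (Localization.AtPrime (Q.comap (algebraMap A B)))).map
      (algebraMap (Localization.AtPrime (Q.comap (algebraMap A B))) (Localization.AtPrime Q))) :=
    isLocalRing_quotient_of_le_maximalIdeal (IsLocalRing.map_maximalIdeal_le _)
  have h := depth_eq_add_fibre_of_flat (Localization.AtPrime (Q.comap (algebraMap A B)))
    (Localization.AtPrime Q)
  rw [depth_quot_of_eq hK] at h
  exact h

theorem isLocalRing_fibLocRing : IsLocalRing (EGA4.FibLocRing A B Q) := by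
  apply isLocalRing_quotient_of_le_maximalIdeal
  rw [Ideal.map_le_iff_le_comap]
  intro x hx
  rw [Ideal.mem_comap, IsScalarTower.algebraMap_apply A B (Localization.AtPrime Q)]
  have h3 : (maximalIdeal (Localization.AtPrime Q)).under B = Q :=
    Localization.AtPrime.under_maximalIdeal
  have h4 : algebraMap A B x ∈ (maximalIdeal (Localization.AtPrime Q)).under B := by
    rw [h3]
    exact hx
  exact h4

/-- `(R_k)` ascends along flat maps with `(R_k)` fibres -/
theorem hasRkAt_of_fibres_of_flat (k : ℕ)
    (hfib : ∀ (q : Ideal B) [q.IsPrime], LocCoh.HasRk k (EGA4.FibLocRing A B q))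
    (hA : LocCoh.HasRk k (Localization.AtPrime (Q.comap (algebraMap A B)))) :
    LocCoh.HasRk k (Localization.AtPrime Q) := by
  apply hasRk_localization_of_forall
  intro Q₁ _ hQq hQk
  have hPp : Q₁.comap (algebraMap A B) ≤ Q.comap (algebraMap A B) := Ideal.comap_mono hQq
  have hloc := isLocalRing_fibLocRing A B Q₁
  have hht := height_eq_add_fibLocRing A B Q₁
  obtain ⟨n, hn⟩ := Groth.Agent.Lib.Helper18.SerreReg.exists_ringKrullDim_eq_nat
    (EGA4.FibLocRing A B Q₁)
  rw [hn] at hht
  have hht' : Q₁.height = (Q₁.comap (algebraMap A B)).height + (n : ℕ∞) := by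
    exact_mod_cast hht
  have hP : (Q₁.comap (algebraMap A B)).height ≤ k :=
    le_trans (hht' ▸ le_self_add) hQk
  have hdim : ringKrullDim (EGA4.FibLocRing A B Q₁) ≤ k := by
    rw [hn]
    have : (n : ℕ∞) ≤ k := le_trans (hht' ▸ le_add_self) hQk
    exact_mod_cast this
  have hAreg := isRegularLocalRing_of_hasRk_localization (Q.comap (algebraMap A B)) k hA
    (Q₁.comap (algebraMap A B)) hPp hP
  have hFreg := isRegularLocalRing_of_hasRk_of_dim_le k (hfib Q₁) hdim
  exact isRegularLocalRing_of_fibLocRing A B Q₁ hAreg hFreg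

end global

end Groth.Agent.Lib.Helper18.RkFlat
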