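import Mathlib
import Groth.Prelude.Def_EGA4b
import Groth.Agent.Lib.Helper18.SerreNormal
import Groth.Agent.Lib.Helper18.RkFlat2
import Groth.Agent.Lib.Helper18.SerreReg2
import Groth.Agent.Lib.Helper18.CM2

set_option linter.style.haveILetI false
set_option linter.unusedSectionVars false

open TensorProduct IsLocalRing

universe u

namespace Groth.Agent.Lib.Helper18.FibBridge

variable {A B : Type u} [CommRing A] [CommRing B] [Algebra A B] (p : Ideal A) [p.IsPrime]

/-- contraction to `B` of a prime of the fibre ring `κ(p) ⊗ B` -/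
noncomputable abbrev ctr (Q : Ideal (p.Fiber B)) : Ideal B :=
  Q.comap (Algebra.TensorProduct.includeRight : B →ₐ[A] p.Fiber B)

instance (Q : Ideal (p.Fiber B)) [Q.IsPrime] : (ctr p Q).IsPrime :=
  Ideal.comap_isPrime _ Q

theorem ctr_comap (Q : Ideal (p.Fiber B)) [Q.IsPrime] :
    (ctr p Q).comap (algebraMap A B) = p := by
  have h2 := ((PrimeSpectrum.preimageEquivFiber A B ⟨p, inferInstance⟩).symm ⟨Q, inferInstance⟩).2
  have h3 := congrArg PrimeSpectrum.asIdeal h2
  exact h3

theorem nonempty_ringEquiv (Q : Ideal (p.Fiber B)) [Q.IsPrime] :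
    Nonempty (Localization.AtPrime Q ≃+* EGA4.FibLocRing A B (ctr p Q)) := by
  have e1 := (Ideal.Fiber.algEquivAux₂ (R := A) (S := B) p Q).toRingEquiv
  have hI : (p.map (algebraMap A B)).map (algebraMap B (Localization.AtPrime (ctr p Q))) =
      ((ctr p Q).comap (algebraMap A B)).map (algebraMap A (Localization.AtPrime (ctr p Q))) := by
    rw [ctr_comap, Ideal.map_map, ← IsScalarTower.algebraMap_eq]
  exact ⟨e1.trans (Ideal.quotEquivOfEq hI)⟩

theorem exists_prime_of_comap_eq (r : Ideal B) [hr : r.IsPrime]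
    (h : r.comap (algebraMap A B) = p) :
    ∃ Q : Ideal (p.Fiber B), Q.IsPrime ∧ ctr p Q = r := by
  let r' : (PrimeSpectrum.comap (algebraMap A B)) ⁻¹' {(⟨p, inferInstance⟩ : PrimeSpectrum A)} :=
    ⟨⟨r, hr⟩, by
      rw [Set.mem_preimage, Set.mem_singleton_iff]
      ext1
      exact h⟩
  let Q := PrimeSpectrum.preimageEquivFiber A B ⟨p, inferInstance⟩ r'
  refine ⟨Q.asIdeal, Q.2, ?_⟩
  have h1 := (PrimeSpectrum.preimageEquivFiber A B ⟨p, inferInstance⟩).symm_apply_apply r'
  have h2 := congrArg (fun x => x.1.asIdeal) h1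
  exact h2

instance [IsNoetherianRing B] : IsNoetherianRing (p.Fiber B) := by
  letI : Algebra B (p.Fiber B) := Algebra.TensorProduct.rightAlgebra
  have e := (Ideal.Fiber.algEquivQuotient (R := A) (S := B) p).toRingEquiv
  exact isNoetherianRing_of_ringEquiv _ e.symm

section char

open Groth.Agent.Lib.Helper18.Serre

variable [IsNoetherianRing B]

instance (r : Ideal B) [r.IsPrime] : IsNoetherianRing (EGA4.FibLocRing A B r) := by
  have : IsNoetherianRing (Localization.AtPrime r) :=
    IsLocalization.isNoetherianRing r.primeCompl _ inferInstance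
  infer_instance

theorem isLocalRing_fibLocRing_ctr (Q : Ideal (p.Fiber B)) [Q.IsPrime] :
    IsLocalRing (EGA4.FibLocRing A B (ctr p Q)) := by
  obtain ⟨e⟩ := nonempty_ringEquiv p Q
  exact e.isLocalRing

theorem ringKrullDim_fibLocRing_ctr (Q : Ideal (p.Fiber B)) [Q.IsPrime] :
    ringKrullDim (EGA4.FibLocRing A B (ctr p Q)) = (Q.height : WithBot ℕ∞) := by
  obtain ⟨e⟩ := nonempty_ringEquiv p Q
  rw [← ringKrullDim_eq_of_ringEquiv e,
    IsLocalization.AtPrime.ringKrullDim_eq_height Q (Localization.AtPrime Q)]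

theorem depth_fibLocRing_ctr (Q : Ideal (p.Fiber B)) [Q.IsPrime]
    [IsLocalRing (EGA4.FibLocRing A B (ctr p Q))] :
    LocCoh.depth (EGA4.FibLocRing A B (ctr p Q)) (EGA4.FibLocRing A B (ctr p Q)) =
      LocCoh.depth (Localization.AtPrime Q) (Localization.AtPrime Q) := by
  obtain ⟨e⟩ := nonempty_ringEquiv p Q
  have : IsNoetherianRing (Localization.AtPrime Q) :=
    IsLocalization.isNoetherianRing Q.primeCompl _ inferInstance
  exact (depth_self_eq_of_ringEquiv e).symm

/-- `(S_n)` for the fibre ring `κ(p) ⊗ B` in terms of the fibre local rings `B_r / p B_r`. -/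
theorem hasSk_fiber_iff (n : ℕ) :
    LocCoh.HasSk n (p.Fiber B) (p.Fiber B) ↔
      ∀ (r : Ideal B) [r.IsPrime] [IsLocalRing (EGA4.FibLocRing A B r)],
        r.comap (algebraMap A B) = p →
          min (n : WithBot ℕ∞) (ringKrullDim (EGA4.FibLocRing A B r)) ≤
            ((LocCoh.depth (EGA4.FibLocRing A B r) (EGA4.FibLocRing A B r) : ℕ∞) : WithBot ℕ∞) := by
  rw [hasSk_self_iff]
  constructor
  · intro h r _ _ hr
    obtain ⟨Q, hQ, rfl⟩ := exists_prime_of_comap_eq p r hr
    rw [ringKrullDim_fibLocRing_ctr, depth_fibLocRing_ctr]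
    exact h Q
  · intro h Q _
    haveI : IsLocalRing (EGA4.FibLocRing A B (ctr p Q)) := isLocalRing_fibLocRing_ctr p Q
    have := h (ctr p Q) (ctr_comap p Q)
    rwa [ringKrullDim_fibLocRing_ctr, depth_fibLocRing_ctr] at this

/-- Cohen–Macaulayness of the fibre ring `κ(p) ⊗ B` in terms of the fibre local rings. -/
theorem isCohenMacaulayRing_fiber_iff :
    LocCoh.IsCohenMacaulayRing (p.Fiber B) ↔
      ∀ (r : Ideal B) [r.IsPrime] [IsLocalRing (EGA4.FibLocRing A B r)],
        r.comap (algebraMap A B) = p →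
          ringKrullDim (EGA4.FibLocRing A B r) =
            ((LocCoh.depth (EGA4.FibLocRing A B r) (EGA4.FibLocRing A B r) : ℕ∞) : WithBot ℕ∞) := by
  constructor
  · intro h r _ _ hr
    obtain ⟨Q, hQ, rfl⟩ := exists_prime_of_comap_eq p r hr
    rw [ringKrullDim_fibLocRing_ctr, depth_fibLocRing_ctr]
    have h1 := (h.isCohenMacaulayLocalRing_localization Q).supportDim_eq_depth
    rw [Module.supportDim_self_eq_ringKrullDim,
      IsLocalization.AtPrime.ringKrullDim_eq_height Q (Localization.AtPrime Q)] at h1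
    exact h1
  · intro h
    refine ⟨fun Q _ => ?_⟩
    have : IsNoetherianRing (Localization.AtPrime Q) :=
      IsLocalization.isNoetherianRing Q.primeCompl _ inferInstance
    refine ⟨?_⟩
    haveI : IsLocalRing (EGA4.FibLocRing A B (ctr p Q)) := isLocalRing_fibLocRing_ctr p Q
    have h1 := h (ctr p Q) (ctr_comap p Q)
    rw [ringKrullDim_fibLocRing_ctr, depth_fibLocRing_ctr] at h1
    rw [Module.supportDim_self_eq_ringKrullDim,
      IsLocalization.AtPrime.ringKrullDim_eq_height Q (Localization.AtPrime Q)]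
    exact h1

end char

section comp

open Groth.Agent.Lib.Helper18.RkFlat

variable (A B)
variable (C : Type u) [CommRing C] [Algebra B C] [Algebra A C] [IsScalarTower A B C]
  [IsNoetherianRing A] [IsNoetherianRing B] [IsNoetherianRing C]
  [Module.Flat A B] [Module.Flat B C] [Module.Flat A C]

theorem comap_comap_eq (r : Ideal C) :
    (r.comap (algebraMap B C)).comap (algebraMap A B) = r.comap (algebraMap A C) := by
  rw [Ideal.comap_comap, ← IsScalarTower.algebraMap_eq]

/-- dimension of fibre local rings is additive in towers of flat maps -/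
theorem ringKrullDim_fibLocRing_comp (r : Ideal C) [r.IsPrime] :
    ringKrullDim (EGA4.FibLocRing A C r) =
      ringKrullDim (EGA4.FibLocRing A B (r.comap (algebraMap B C))) +
        ringKrullDim (EGA4.FibLocRing B C r) := by
  have h1 := height_eq_add_fibLocRing A C r
  have h2 := height_eq_add_fibLocRing B C r
  have h3 := height_eq_add_fibLocRing A B (r.comap (algebraMap B C))
  rw [congrArg Ideal.height (comap_comap_eq A B C r)] at h3
  have l1 := isLocalRing_fibLocRing A C r
  have l2 := isLocalRing_fibLocRing B C r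
  have l3 := isLocalRing_fibLocRing A B (r.comap (algebraMap B C))
  obtain ⟨n1, hn1⟩ := SerreReg.exists_ringKrullDim_eq_nat (EGA4.FibLocRing A C r)
  obtain ⟨n2, hn2⟩ := SerreReg.exists_ringKrullDim_eq_nat (EGA4.FibLocRing B C r)
  obtain ⟨n3, hn3⟩ := SerreReg.exists_ringKrullDim_eq_nat
    (EGA4.FibLocRing A B (r.comap (algebraMap B C)))
  rw [hn1] at h1 ⊢
  rw [hn2] at h2 ⊢
  rw [hn3] at h3 ⊢
  have hp : (r.comap (algebraMap A C)).height ≠ ⊤ := Ideal.height_ne_top (Ideal.IsPrime.ne_top')
  obtain ⟨a, ha⟩ := ENat.ne_top_iff_exists.mp hp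
  rw [← ha] at h1 h3
  have h1' : r.height = ((a + n1 : ℕ) : ℕ∞) := by exact_mod_cast h1
  have h3' : (r.comap (algebraMap B C)).height = ((a + n3 : ℕ) : ℕ∞) := by exact_mod_cast h3
  rw [h1', h3'] at h2
  have h2' : a + n1 = a + n3 + n2 := by exact_mod_cast h2
  have : n1 = n3 + n2 := by omega
  exact_mod_cast congrArg (fun n : ℕ => ((n : ℕ∞) : WithBot ℕ∞)) this

theorem depth_atPrime_of_eq {R : Type u} [CommRing R] {I J : Ideal R} [I.IsPrime] [J.IsPrime]
    (h : I = J) : LocCoh.depth (Localization.AtPrime I) (Localization.AtPrime I) =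
      LocCoh.depth (Localization.AtPrime J) (Localization.AtPrime J) := by
  subst h
  rfl

/-- depth of fibre local rings is additive in towers of flat maps -/
theorem depth_fibLocRing_comp (r : Ideal C) [r.IsPrime]
    [l1 : IsLocalRing (EGA4.FibLocRing A C r)] [l2 : IsLocalRing (EGA4.FibLocRing B C r)]
    [l3 : IsLocalRing (EGA4.FibLocRing A B (r.comap (algebraMap B C)))] :
    LocCoh.depth (EGA4.FibLocRing A C r) (EGA4.FibLocRing A C r) =
      LocCoh.depth (EGA4.FibLocRing A B (r.comap (algebraMap B C)))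
          (EGA4.FibLocRing A B (r.comap (algebraMap B C))) +
        LocCoh.depth (EGA4.FibLocRing B C r) (EGA4.FibLocRing B C r) := by
  have h1 := depth_eq_add_fibLocRing A C r
  have h2 := depth_eq_add_fibLocRing B C r
  have h3 := depth_eq_add_fibLocRing A B (r.comap (algebraMap B C))
  rw [depth_atPrime_of_eq (comap_comap_eq A B C r)] at h3
  have hA := CM.depth_ne_top (R := Localization.AtPrime (r.comap (algebraMap A C)))
    (Localization.AtPrime (r.comap (algebraMap A C)))
  obtain ⟨a, ha⟩ := ENat.ne_top_iff_exists.mp hA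
  rw [← ha] at h1 h3
  rw [h3, h1, add_assoc] at h2
  exact (ENat.add_right_injective_of_ne_top (ENat.natCast_ne_top a)) h2

end comp

section descent

open Groth.Agent.Lib.Helper18.RkFlat

theorem flat_of_faithfullyFlat_comp (A B C : Type u) [CommRing A] [CommRing B] [CommRing C]
    [Algebra A B] [Algebra B C] [Algebra A C] [IsScalarTower A B C]
    [Module.FaithfullyFlat B C] [Module.Flat A C] : Module.Flat A B := by
  rw [Module.Flat.iff_lTensor_preserves_injective_linearMap]
  intro N P _ _ _ _ f hf
  have h1 : Function.Injective (f.baseChange B) ↔ Function.Injective (LinearMap.lTensor B f) := by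
    rfl
  rw [← h1, ← Module.FaithfullyFlat.lTensor_injective_iff_injective B C]
  have h2 : Function.Injective (LinearMap.lTensor C f) :=
    Module.Flat.lTensor_preserves_injective_linearMap f hf
  have key : ∀ x : C ⊗[B] (B ⊗[A] N),
      AlgebraTensorModule.cancelBaseChange A B C C P (LinearMap.lTensor C (f.baseChange B) x) =
      LinearMap.lTensor C f (AlgebraTensorModule.cancelBaseChange A B C C N x) := by
    intro x
    induction x using TensorProduct.induction_on with
    | zero => simp
    | add x y hx hy => simp only [map_add, hx, hy]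
    | tmul c y =>
      induction y using TensorProduct.induction_on with
      | zero => simp
      | add x y hx hy => simp only [tmul_add, map_add, hx, hy]
      | tmul b n => simp
  intro x y hxy
  have h3 := congrArg (AlgebraTensorModule.cancelBaseChange A B C C P) hxy
  rw [key, key] at h3
  exact (AlgebraTensorModule.cancelBaseChange A B C C N).injective (h2 h3)

theorem sk_add {n a b : ℕ} {x y : ℕ∞}
    (h1 : min (n : WithBot ℕ∞) (a : WithBot ℕ∞) ≤ ((x : ℕ∞) : WithBot ℕ∞))
    (h2 : min (n : WithBot ℕ∞) (b : WithBot ℕ∞) ≤ ((y : ℕ∞) : WithBot ℕ∞)) :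
    min (n : WithBot ℕ∞) ((a : WithBot ℕ∞) + (b : WithBot ℕ∞)) ≤
      (((x + y : ℕ∞)) : WithBot ℕ∞) := by
  induction x with
  | top => simp
  | coe i =>
    induction y with
    | top => simp
    | coe j =>
      rw [min_le_iff] at h1 h2 ⊢
      have h1' : n ≤ i ∨ a ≤ i := by
        rcases h1 with h | h
        · left; exact_mod_cast h
        · right; exact_mod_cast h
      have h2' : n ≤ j ∨ b ≤ j := by
        rcases h2 with h | h
        · left; exact_mod_cast h
        · right; exact_mod_cast h
      have : n ≤ i + j ∨ a + b ≤ i + j := by omega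
      rcases this with h | h
      · left; exact_mod_cast h
      · right; exact_mod_cast h

theorem sk_of_add {n a : ℕ} {x : ℕ∞}
    (h : min (n : WithBot ℕ∞) ((a : WithBot ℕ∞) + (0 : ℕ)) ≤ (((x + 0 : ℕ∞)) : WithBot ℕ∞)) :
    min (n : WithBot ℕ∞) (a : WithBot ℕ∞) ≤ ((x : ℕ∞) : WithBot ℕ∞) := by
  simpa using h

variable (B) (C : Type u) [CommRing C] [Algebra B C]
  [IsNoetherianRing B] [IsNoetherianRing C] [Module.FaithfullyFlat B C]

/-- over each prime `q` of `B` there is a prime `r` of the faithfully flat `B`-algebra `C` whose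
fibre local ring has dimension zero -/
theorem exists_prime_fib_dim_zero (q : Ideal B) [q.IsPrime] :
    ∃ (r : Ideal C) (_ : r.IsPrime), r.comap (algebraMap B C) = q ∧
      ringKrullDim (EGA4.FibLocRing B C r) = 0 := by
  have hq : q.map (algebraMap B C) ≠ ⊤ := by
    intro h
    have h1 := Ideal.comap_map_eq_self_of_faithfullyFlat (B := C) q
    rw [h, Ideal.comap_top] at h1
    exact Ideal.IsPrime.ne_top' h1.symm
  obtain ⟨r, hr, hlo, hht⟩ := exists_liesOver_height_le B C q hq
  haveI := hr
  have hrq : r.comap (algebraMap B C) = q := hlo.over.symm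
  refine ⟨r, hr, hrq, ?_⟩
  have h1 := height_eq_add_fibLocRing B C r
  rw [congrArg Ideal.height hrq] at h1
  have l1 := isLocalRing_fibLocRing B C r
  obtain ⟨n, hn⟩ := SerreReg.exists_ringKrullDim_eq_nat (EGA4.FibLocRing B C r)
  rw [hn] at h1 ⊢
  have hp : q.height ≠ ⊤ := Ideal.height_ne_top (Ideal.IsPrime.ne_top')
  obtain ⟨a, ha⟩ := ENat.ne_top_iff_exists.mp hp
  rw [← ha] at h1 hht
  have h1' : r.height = ((a + n : ℕ) : ℕ∞) := by exact_mod_cast h1
  rw [h1'] at hht
  have : a + n ≤ a := by exact_mod_cast hht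
  have : n = 0 := by omega
  subst this
  rfl

theorem depth_eq_zero_of_ringKrullDim_eq_zero (R : Type u) [CommRing R] [IsLocalRing R]
    [IsNoetherianRing R] (h : ringKrullDim R = 0) : LocCoh.depth R R = 0 := by
  have h1 := CM.depth_le_supportDim (R := R) R
  rw [Module.supportDim_self_eq_ringKrullDim, h] at h1
  have h2 : LocCoh.depth R R ≤ 0 := by exact_mod_cast h1
  exact le_antisymm h2 zero_le

end descent

end Groth.Agent.Lib.Helper18.FibBridge
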