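import Mathlib
import Groth.Prelude.Def_EGA4b
import Groth.Agent.Lib.Helper18.FibBridge
import Groth.Agent.Lib.Helper21.AdicNoetherian

set_option linter.style.haveILetI false
set_option linter.unusedSectionVars false

open TensorProduct IsLocalRing

universe u

namespace Groth.Agent.Lib.Helper18.FibBridge

open Groth.Agent.Lib.Helper18.Serre Groth.Agent.Lib.Helper18.RkFlat

section ascent

variable (A B : Type u) [CommRing A] [CommRing B] [Algebra A B]
  [IsNoetherianRing A] [IsNoetherianRing B]

/-- `(S_n)` ascends along flat maps with `(S_n)` fibres -/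
theorem hasSk_of_flat_of_fibres [Module.Flat A B] (n : ℕ) (hA : LocCoh.HasSk n A A)
    (hf : ∀ (p : Ideal A) [p.IsPrime], LocCoh.HasSk n (p.Fiber B) (p.Fiber B)) :
    LocCoh.HasSk n B B := by
  rw [hasSk_self_iff] at hA ⊢
  intro Q _
  have l1 := isLocalRing_fibLocRing A B Q
  have h1 := height_eq_add_fibLocRing A B Q
  have h2 := depth_eq_add_fibLocRing A B Q
  have h3 := (hasSk_fiber_iff (Q.comap (algebraMap A B)) n).mp (hf _) Q rfl
  have h4 := hA (Q.comap (algebraMap A B))
  obtain ⟨b, hb⟩ := SerreReg.exists_ringKrullDim_eq_nat (EGA4.FibLocRing A B Q)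
  have hp : (Q.comap (algebraMap A B)).height ≠ ⊤ := Ideal.height_ne_top (Ideal.IsPrime.ne_top')
  obtain ⟨a, ha⟩ := ENat.ne_top_iff_exists.mp hp
  rw [hb] at h1 h3
  rw [← ha] at h1 h4
  rw [h1, h2]
  exact sk_add h4 h3

/-- `(S_n)` descends along faithfully flat maps -/
theorem hasSk_of_faithfullyFlat [Module.FaithfullyFlat A B] (n : ℕ) (hB : LocCoh.HasSk n B B) :
    LocCoh.HasSk n A A := by
  rw [hasSk_self_iff] at hB ⊢
  intro p _
  obtain ⟨Q, hQ, hQp, hdim⟩ := exists_prime_fib_dim_zero A B p
  subst hQp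
  have l1 := isLocalRing_fibLocRing A B Q
  have h1 := height_eq_add_fibLocRing A B Q
  have h2 := depth_eq_add_fibLocRing A B Q
  have h3 := hB Q
  rw [hdim] at h1
  rw [depth_eq_zero_of_ringKrullDim_eq_zero _ hdim] at h2
  rw [h1, h2] at h3
  simpa using h3

end ascent

section cpl

variable (A : Type u) [CommRing A] [IsNoetherianRing A] [IsLocalRing A]

instance : IsNoetherianRing (EGA4.Cpl A) := by
  have : IsNoetherianRing (A ⧸ maximalIdeal A) := inferInstance
  exact Groth.Agent.Lib.Helper21.isNoetherianRing_adicCompletion_of_fg (maximalIdeal A)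
    (IsNoetherian.noetherian _)

instance : Module.Flat A (EGA4.Cpl A) := inferInstance

instance : Module.FaithfullyFlat A (EGA4.Cpl A) :=
  Module.FaithfullyFlat.of_flat_of_isLocalHom

end cpl

end Groth.Agent.Lib.Helper18.FibBridge
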