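import Mathlib
import Groth.Prelude.Def_EGA4b
import Groth.Prelude.Def_FSch3
import Groth.Agent.Lib.Helper14.ComplFlat
import Groth.Agent.Lib.Helper18.FibBridge2

set_option autoImplicit false
set_option linter.unusedSectionVars false
set_option linter.style.haveILetI false
universe u
open IsLocalRing

namespace Groth.Agent.Lib.Helper18.CplQuot

section basic

variable {P : Type u} [CommRing P] (M : Ideal P)

lemma evalₐ_eq_zero_iff (n : ℕ) (x : AdicCompletion M P) :
    AdicCompletion.evalₐ M n x = 0 ↔ AdicCompletion.eval M P n x = 0 := by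
  have h : (M ^ n • ⊤ : Ideal P) = M ^ n := by ext x; simp
  change (Ideal.quotientEquivAlgOfEq P h) (AdicCompletion.eval M P n x) = 0 ↔ _
  exact map_eq_zero_iff _ (Ideal.quotientEquivAlgOfEq P h).injective

lemma mem_map_pow_iff_evalₐ (hM : M.FG) (n : ℕ) (x : AdicCompletion M P) :
    x ∈ (M.map (algebraMap P (AdicCompletion M P))) ^ n ↔ AdicCompletion.evalₐ M n x = 0 := by
  rw [evalₐ_eq_zero_iff, ← Ideal.map_pow, ← Submodule.restrictScalars_mem P,
    ← Ideal.smul_top_eq_map, AdicCompletion.pow_smul_top_eq_ker_eval hM, LinearMap.mem_ker]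

end basic

variable (A B : Type u) [CommRing A] [CommRing B] [IsNoetherianRing A] [IsNoetherianRing B]
  [IsLocalRing A] [IsLocalRing B] [Algebra A B]

section localHom

variable [IsLocalHom (algebraMap A B)]

/-- the map induced on completions by a local homomorphism -/
noncomputable def cplMap : EGA4.Cpl A →+* EGA4.Cpl B :=
  FSch.complMap (maximalIdeal A) (maximalIdeal B) (algebraMap A B)
    (IsLocalRing.map_maximalIdeal_le (algebraMap A B))

theorem cplMap_of (a : A) :
    cplMap A B (algebraMap A (EGA4.Cpl A) a) = algebraMap B (EGA4.Cpl B) (algebraMap A B a) := by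
  rw [AdicCompletion.algebraMap_apply, AdicCompletion.algebraMap_apply]
  simp only [Algebra.algebraMap_self, RingHom.id_apply]
  exact Groth.Agent.Lib.Helper14.complMap_of _ _ _ _ a

theorem evalₐ_cplMap (n : ℕ) (x : EGA4.Cpl A) :
    AdicCompletion.evalₐ (maximalIdeal B) n (cplMap A B x) =
      Ideal.quotientMap (maximalIdeal B ^ n) (algebraMap A B)
        (FSch.pow_le_comap_pow_of_map_le (maximalIdeal A) (maximalIdeal B) (algebraMap A B)
          (IsLocalRing.map_maximalIdeal_le (algebraMap A B)) n)
        (AdicCompletion.evalₐ (maximalIdeal A) n x) :=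
  Groth.Agent.Lib.Helper14.evalₐ_complMap _ _ _ _ n x

end localHom

section surj

variable (hs : Function.Surjective (algebraMap A B))

include hs in
theorem isLocalHom_of_surjective : IsLocalHom (algebraMap A B) :=
  IsLocalHom.of_surjective _ hs

include hs in
theorem map_maximalIdeal_eq :
    (maximalIdeal A).map (algebraMap A B) = maximalIdeal B := by
  haveI := isLocalHom_of_surjective A B hs
  rw [← IsLocalRing.maximalIdeal_comap (algebraMap A B), Ideal.map_comap_of_surjective _ hs]

variable [IsLocalHom (algebraMap A B)]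

include hs in
theorem map_cplMap_maximalIdeal :
    (maximalIdeal (EGA4.Cpl A)).map (cplMap A B) = maximalIdeal (EGA4.Cpl B) := by
  rw [AdicCompletion.maximalIdeal_eq_map, AdicCompletion.maximalIdeal_eq_map, Ideal.map_map]
  have h : (cplMap A B).comp (algebraMap A (EGA4.Cpl A)) =
      (algebraMap B (EGA4.Cpl B)).comp (algebraMap A B) := by
    apply RingHom.ext
    intro a
    exact cplMap_of A B a
  rw [h, ← Ideal.map_map, map_maximalIdeal_eq A B hs]

include hs in
theorem cplMap_surjective : Function.Surjective (cplMap A B) := by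
  haveI : IsHausdorff ((maximalIdeal (EGA4.Cpl A)).map (cplMap A B)) (EGA4.Cpl B) := by
    rw [map_cplMap_maximalIdeal A B hs]
    infer_instance
  apply surjective_of_mk_map_comp_surjective (I := maximalIdeal (EGA4.Cpl A)) (f := cplMap A B)
  intro y
  obtain ⟨y, rfl⟩ := Ideal.Quotient.mk_surjective y
  obtain ⟨b, hb⟩ := Ideal.Quotient.mk_surjective (AdicCompletion.evalₐ (maximalIdeal B) 1 y)
  obtain ⟨a, rfl⟩ := hs b
  refine ⟨algebraMap A (EGA4.Cpl A) a, ?_⟩
  rw [RingHom.comp_apply, cplMap_of, Ideal.Quotient.eq, map_cplMap_maximalIdeal A B hs,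
    AdicCompletion.maximalIdeal_eq_map, ← pow_one (Ideal.map _ _),
    mem_map_pow_iff_evalₐ _ (IsNoetherian.noetherian _), map_sub, AdicCompletion.algebraMap_apply,
    AdicCompletion.evalₐ_of, Algebra.algebraMap_self, RingHom.id_apply, hb, sub_self]

include hs in
theorem ker_cplMap :
    RingHom.ker (cplMap A B) =
      (RingHom.ker (algebraMap A B)).map (algebraMap A (EGA4.Cpl A)) := by
  apply le_antisymm
  · intro x hx
    rw [RingHom.mem_ker] at hx
    set J := (RingHom.ker (algebraMap A B)).map (algebraMap A (EGA4.Cpl A)) with hJ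
    -- work in the finite module `Â / J` which is separated
    have hhaus : IsHausdorff (maximalIdeal (EGA4.Cpl A)) (EGA4.Cpl A ⧸ J) := inferInstance
    have hx0 : (Ideal.Quotient.mk J x : EGA4.Cpl A ⧸ J) = 0 := by
      apply hhaus.haus'
      intro n
      rw [SModEq.zero]
      -- find `i ∈ ker` with `x - i ∈ m̂^n`
      have h1 := evalₐ_cplMap A B n x
      rw [hx, map_zero] at h1
      obtain ⟨a, ha⟩ := Ideal.Quotient.mk_surjective (AdicCompletion.evalₐ (maximalIdeal A) n x)
      rw [← ha, Ideal.quotientMap_mk] at h1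
      have h2 : algebraMap A B a ∈ maximalIdeal B ^ n := Ideal.Quotient.eq_zero_iff_mem.mp h1.symm
      rw [← map_maximalIdeal_eq A B hs, ← Ideal.map_pow,
        Ideal.mem_map_iff_of_surjective _ hs] at h2
      obtain ⟨c, hc, hca⟩ := h2
      have hker : a - c ∈ RingHom.ker (algebraMap A B) := by
        rw [RingHom.mem_ker, map_sub, hca, sub_self]
      have hmem : x - algebraMap A (EGA4.Cpl A) (a - c) ∈
          ((maximalIdeal A).map (algebraMap A (EGA4.Cpl A))) ^ n := by
        rw [mem_map_pow_iff_evalₐ _ (IsNoetherian.noetherian _), map_sub,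
          AdicCompletion.algebraMap_apply, AdicCompletion.evalₐ_of, Algebra.algebraMap_self,
          RingHom.id_apply, ← ha, map_sub, sub_sub_cancel]
        exact Ideal.Quotient.eq_zero_iff_mem.mpr hc
      rw [← AdicCompletion.maximalIdeal_eq_map] at hmem
      have h3 : (Ideal.Quotient.mk J x : EGA4.Cpl A ⧸ J) =
          Ideal.Quotient.mk J (x - algebraMap A (EGA4.Cpl A) (a - c)) := by
        rw [map_sub, Ideal.Quotient.eq_zero_iff_mem.mpr (Ideal.mem_map_of_mem _ hker), sub_zero]
      rw [h3]
      have h4 : (Ideal.Quotient.mk J (x - algebraMap A (EGA4.Cpl A) (a - c)) : EGA4.Cpl A ⧸ J) =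
          (x - algebraMap A (EGA4.Cpl A) (a - c)) • (1 : EGA4.Cpl A ⧸ J) := by
        rw [Algebra.smul_def, mul_one]
        rfl
      rw [h4]
      exact Submodule.smul_mem_smul hmem trivial
    exact Ideal.Quotient.eq_zero_iff_mem.mp hx0
  · rw [Ideal.map_le_iff_le_comap]
    intro i hi
    rw [Ideal.mem_comap, RingHom.mem_ker, cplMap_of, (RingHom.mem_ker).mp hi, map_zero]

include hs in
/-- the completion of a quotient is the quotient of the completion -/
theorem nonempty_ringEquiv :
    Nonempty ((EGA4.Cpl A ⧸ (RingHom.ker (algebraMap A B)).map (algebraMap A (EGA4.Cpl A))) ≃+*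
      EGA4.Cpl B) :=
  ⟨(Ideal.quotEquivOfEq (ker_cplMap A B hs).symm).trans
    (RingHom.quotientKerEquivOfSurjective (cplMap_surjective A B hs))⟩

end surj

end Groth.Agent.Lib.Helper18.CplQuot
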