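import Mathlib
import Groth.Prelude.Def_CAlg
import Groth.Agent.Lib.Helper18.SerreNormal

set_option autoImplicit false
set_option linter.unusedSectionVars false
universe u

open IsLocalRing TensorProduct CategoryTheory Polynomial

namespace Groth.Agent.Lib.Helper18.ICFlat

open Groth.Agent.Lib.Helper18.Serre

/-- descent of "integrally closed domain" along faithfully flat maps -/
theorem isDomain_of_faithfullyFlat (A B : Type u) [CommRing A] [CommRing B] [Algebra A B]
    [Module.FaithfullyFlat A B] [IsDomain B] : IsDomain A :=
  (FaithfulSMul.algebraMap_injective A B).isDomain (algebraMap A B)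

theorem isIntegrallyClosed_of_faithfullyFlat (A B : Type u) [CommRing A] [CommRing B]
    [Algebra A B] [Module.FaithfullyFlat A B] [IsDomain B] [IsIntegrallyClosed B] [IsDomain A] :
    IsIntegrallyClosed A := by
  have hinj : Function.Injective (algebraMap A B) := FaithfulSMul.algebraMap_injective A B
  rw [isIntegrallyClosed_iff (FractionRing A)]
  intro t ht
  obtain ⟨a, b, hb, rfl⟩ := IsFractionRing.div_surjective (A := A) t
  obtain ⟨q, hq, hqt⟩ := ht
  have h1 := scaleRoots_aeval_eq_zero_of_aeval_div_eq_zero (R := A) (K := FractionRing A)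
    (IsFractionRing.injective A (FractionRing A)) (p := q) (r := a) (s := b) hqt hb
  rw [aeval_algebraMap_apply] at h1
  have h2 : eval a (scaleRoots q b) = 0 := by
    apply IsFractionRing.injective A (FractionRing A)
    rw [map_zero]
    exact h1
  have hb0 : b ≠ 0 := nonZeroDivisors.ne_zero hb
  have hb0' : algebraMap A B b ≠ 0 := fun h0 => hb0 (hinj (by rw [h0, map_zero]))
  have h3 : eval (algebraMap A B a) (scaleRoots (q.map (algebraMap A B)) (algebraMap A B b)) = 0 := by
    rw [← map_scaleRoots _ _ _ (by
      rw [hq.leadingCoeff, map_one]; exact one_ne_zero), Polynomial.eval_map, Polynomial.eval₂_at_apply, h2, map_zero]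
  obtain ⟨c, hc⟩ := dvd_of_scaleRoots_eval_eq_zero (algebraMap A B a) (algebraMap A B b) hb0'
    (q.map (algebraMap A B)) (hq.map _) h3
  have h4 : a ∈ ((Ideal.span {b}).map (algebraMap A B)).comap (algebraMap A B) := by
    rw [Ideal.mem_comap, Ideal.map_span, Set.image_singleton, Ideal.mem_span_singleton']
    exact ⟨c, by rw [hc, mul_comm]⟩
  rw [Ideal.comap_map_eq_self_of_faithfullyFlat, Ideal.mem_span_singleton'] at h4
  obtain ⟨c', hc'⟩ := h4
  refine ⟨c', ?_⟩
  rw [← hc', map_mul, mul_div_cancel_right₀]
  exact fun h0 => hb0 ((IsFractionRing.injective A (FractionRing A)) (by rw [h0, map_zero]))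

theorem normal_comap_of_flat (A B : Type u) [CommRing A] [CommRing B] [IsNoetherianRing A]
    [IsNoetherianRing B] [Algebra A B] [Module.Flat A B] (q : Ideal B) [q.IsPrime]
    [IsDomain (Localization.AtPrime q)] [IsIntegrallyClosed (Localization.AtPrime q)] :
    IsDomain (Localization.AtPrime (q.comap (algebraMap A B))) ∧
      IsIntegrallyClosed (Localization.AtPrime (q.comap (algebraMap A B))) := by
  have hlo : q.LiesOver (q.comap (algebraMap A B)) := ⟨rfl⟩
  let := Localization.AtPrime.algebraOfLiesOver (q.comap (algebraMap A B)) q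
  have : IsLocalHom (algebraMap (Localization.AtPrime (q.comap (algebraMap A B)))
      (Localization.AtPrime q)) :=
    Localization.isLocalHom_localRingHom (q.comap (algebraMap A B)) q (algebraMap A B)
      Ideal.LiesOver.over
  have : Module.FaithfullyFlat (Localization.AtPrime (q.comap (algebraMap A B)))
      (Localization.AtPrime q) := Module.FaithfullyFlat.of_flat_of_isLocalHom
  have hd := isDomain_of_faithfullyFlat (Localization.AtPrime (q.comap (algebraMap A B)))
    (Localization.AtPrime q)
  exact ⟨hd, isIntegrallyClosed_of_faithfullyFlat (Localization.AtPrime (q.comap (algebraMap A B)))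
    (Localization.AtPrime q)⟩

end Groth.Agent.Lib.Helper18.ICFlat
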