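import Mathlib
import Groth.Prelude.Def_CAlg
import Groth.Prelude.Def_EGA4b
import Groth.Agent.Lib.Helper18.RkFlat2

set_option autoImplicit false
set_option linter.unusedSectionVars false
universe u

open IsLocalRing TensorProduct

namespace Groth.Agent.Lib.Helper18.RkFlat

open Groth.Agent.Lib.Helper18.CM Groth.Agent.Lib.Helper21 Groth.Agent.Lib.Helper18.FlatLocal
  Groth.Agent.Lib.Helper18.Serre

section transfer

variable {R : Type u} [CommRing R] (p : Ideal R) [p.IsPrime]

theorem normal_localization_of_le [IsDomain (Localization.AtPrime p)]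
    [IsIntegrallyClosed (Localization.AtPrime p)] (P : Ideal R) [P.IsPrime] (hPp : P ≤ p) :
    IsDomain (Localization.AtPrime P) ∧ IsIntegrallyClosed (Localization.AtPrime P) := by
  have hP' := isPrime_map_of_le p P hPp
  obtain ⟨e⟩ := nonempty_locEquiv_of_le p P hPp
  have hdom : IsDomain (Localization.AtPrime (P.map (algebraMap R (Localization.AtPrime p)))) :=
    IsLocalization.isDomain_of_atPrime _ (P.map (algebraMap R (Localization.AtPrime p)))
  have hic : IsIntegrallyClosed
      (Localization.AtPrime (P.map (algebraMap R (Localization.AtPrime p)))) :=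
    isIntegrallyClosed_of_isLocalization _
      (P.map (algebraMap R (Localization.AtPrime p))).primeCompl
      (Ideal.primeCompl_le_nonZeroDivisors _)
  exact ⟨e.symm.toMulEquiv.isDomain, IsIntegrallyClosed.of_equiv e⟩

variable [IsNoetherianRing R]

/-- (T4) -/
theorem hasSk_localization_of_forall (k : ℕ)
    (h : ∀ (Q : Ideal R) [Q.IsPrime], Q ≤ p →
      min (k : WithBot ℕ∞) (Q.height : WithBot ℕ∞) ≤
        ((LocCoh.depth (Localization.AtPrime Q) (Localization.AtPrime Q) : ℕ∞) : WithBot ℕ∞)) :
    LocCoh.HasSk k (Localization.AtPrime p) (Localization.AtPrime p) := by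
  rw [hasSk_self_iff]
  intro Q' _
  have hht : (Q'.comap (algebraMap R (Localization.AtPrime p))).height = Q'.height :=
    IsLocalization.height_under p.primeCompl Q'
  have h1 := h (Q'.comap (algebraMap R (Localization.AtPrime p))) (comap_le_of_isPrime p Q')
  rw [hht, depth_self_eq_of_ringEquiv
    (IsLocalization.localizationLocalizationAtPrimeIsoLocalization (M := p.primeCompl)
      Q').toRingEquiv] at h1
  exact h1

end transfer

section global

variable (A B : Type u) [CommRing A] [CommRing B] [IsNoetherianRing A] [IsNoetherianRing B]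
  [Algebra A B] [Module.Flat A B] (Q : Ideal B) [Q.IsPrime]

/-- normality ascends along flat maps with normal fibres -/
theorem normal_of_fibres_of_flat
    (hfib : ∀ (q : Ideal B) [q.IsPrime], IsDomain (EGA4.FibLocRing A B q) ∧
      IsIntegrallyClosed (EGA4.FibLocRing A B q))
    [IsDomain (Localization.AtPrime (Q.comap (algebraMap A B)))]
    [IsIntegrallyClosed (Localization.AtPrime (Q.comap (algebraMap A B)))] :
    IsDomain (Localization.AtPrime Q) ∧ IsIntegrallyClosed (Localization.AtPrime Q) := by
  have hR1 : LocCoh.HasRk 1 (Localization.AtPrime Q) := by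
    apply hasRk_localization_of_forall
    intro Q₁ _ hQq hQk
    have hPp : Q₁.comap (algebraMap A B) ≤ Q.comap (algebraMap A B) := Ideal.comap_mono hQq
    have hloc := isLocalRing_fibLocRing A B Q₁
    have hht := height_eq_add_fibLocRing A B Q₁
    obtain ⟨n, hn⟩ := Groth.Agent.Lib.Helper18.SerreReg.exists_ringKrullDim_eq_nat
      (EGA4.FibLocRing A B Q₁)
    rw [hn] at hht
    have hht' : Q₁.height = (Q₁.comap (algebraMap A B)).height + (n : ℕ∞) := by
      exact_mod_cast hht
    have hP : (Q₁.comap (algebraMap A B)).height ≤ (1 : ℕ) :=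
      le_trans (hht' ▸ le_self_add) hQk
    have hdim : ringKrullDim (EGA4.FibLocRing A B Q₁) ≤ 1 := by
      rw [hn]
      have : (n : ℕ∞) ≤ (1 : ℕ) := le_trans (hht' ▸ le_add_self) hQk
      exact_mod_cast this
    obtain ⟨hAd, hAic⟩ := normal_localization_of_le (Q.comap (algebraMap A B))
      (Q₁.comap (algebraMap A B)) hPp
    obtain ⟨hFd, hFic⟩ := hfib Q₁
    have hAreg : IsRegularLocalRing (Localization.AtPrime (Q₁.comap (algebraMap A B))) := by
      apply isRegularLocalRing_of_isIntegrallyClosed_of_dim_le_one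
      rw [IsLocalization.AtPrime.ringKrullDim_eq_height (Q₁.comap (algebraMap A B))
        (Localization.AtPrime (Q₁.comap (algebraMap A B)))]
      exact_mod_cast hP
    have hFreg : IsRegularLocalRing (EGA4.FibLocRing A B Q₁) :=
      isRegularLocalRing_of_isIntegrallyClosed_of_dim_le_one _ hdim
    exact isRegularLocalRing_of_fibLocRing A B Q₁ hAreg hFreg
  have hS2 : LocCoh.HasSk 2 (Localization.AtPrime Q) (Localization.AtPrime Q) := by
    apply hasSk_localization_of_forall
    intro Q₁ _ hQq
    have hPp : Q₁.comap (algebraMap A B) ≤ Q.comap (algebraMap A B) := Ideal.comap_mono hQq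
    have hloc := isLocalRing_fibLocRing A B Q₁
    have hht := height_eq_add_fibLocRing A B Q₁
    obtain ⟨hAd, hAic⟩ := normal_localization_of_le (Q.comap (algebraMap A B))
      (Q₁.comap (algebraMap A B)) hPp
    obtain ⟨hFd, hFic⟩ := hfib Q₁
    have h1 := min_two_dim_le_depth_of_normal (Localization.AtPrime (Q₁.comap (algebraMap A B)))
    have h2 := min_two_dim_le_depth_of_normal (EGA4.FibLocRing A B Q₁)
    rw [IsLocalization.AtPrime.ringKrullDim_eq_height (Q₁.comap (algebraMap A B))
        (Localization.AtPrime (Q₁.comap (algebraMap A B)))] at h1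
    rw [depth_eq_add_fibLocRing A B Q₁, hht]
    obtain ⟨n, hn⟩ := Groth.Agent.Lib.Helper18.SerreReg.exists_ringKrullDim_eq_nat
      (EGA4.FibLocRing A B Q₁)
    rw [hn] at h2 ⊢
    generalize LocCoh.depth (Localization.AtPrime (Q₁.comap (algebraMap A B)))
        (Localization.AtPrime (Q₁.comap (algebraMap A B))) = dA at h1 ⊢
    generalize LocCoh.depth (EGA4.FibLocRing A B Q₁) (EGA4.FibLocRing A B Q₁) = dF at h2 ⊢
    generalize (Q₁.comap (algebraMap A B)).height = hP at h1 ⊢
    have e2 : ((2 : ℕ) : WithBot ℕ∞) = ((2 : ℕ∞) : WithBot ℕ∞) := rfl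
    have en : ((n : ℕ) : WithBot ℕ∞) = ((n : ℕ∞) : WithBot ℕ∞) := rfl
    rw [e2, ← WithBot.coe_min, WithBot.coe_le_coe] at h1
    rw [e2, en, ← WithBot.coe_min, WithBot.coe_le_coe] at h2
    rw [e2, en, ← WithBot.coe_add, ← WithBot.coe_min, WithBot.coe_le_coe]
    have h1' : min (2 : ℕ∞) hP ≤ dA := h1
    have h2' : min (2 : ℕ∞) (n : ℕ∞) ≤ dF := h2
    have h3 : min (2 : ℕ∞) (hP + (n : ℕ∞)) ≤ dA + dF := by
      refine le_trans ?_ (add_le_add h1' h2')
      rcases le_total (2 : ℕ∞) hP with h | h
      · rw [min_eq_left h]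
        exact le_trans (min_le_left _ _) le_self_add
      · rcases le_total (2 : ℕ∞) (n : ℕ∞) with h' | h'
        · rw [min_eq_left h']
          exact le_trans (min_le_left _ _) le_add_self
        · rw [min_eq_right h, min_eq_right h']
          exact min_le_right _ _
    exact h3
  have hdom := isDomain_of_isLocalRing_of_R1_S2 hR1 hS2
  exact ⟨hdom, isIntegrallyClosed_of_isDomain_of_R1_S2 hR1 hS2⟩

end global

end Groth.Agent.Lib.Helper18.RkFlat
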