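import Mathlib
import Groth.Prelude.Def_EGA4b
import Groth.Agent.Lib.Helper18.FibBridge2
import Groth.Agent.Lib.Helper18.NormalFlat
import Groth.Agent.Lib.Helper18.ICFlat

set_option autoImplicit false
set_option linter.unusedSectionVars false
set_option linter.style.haveILetI false
universe u
open IsLocalRing TensorProduct

namespace Groth.Agent.Lib.Helper18.FormFib

open Groth.Agent.Lib.Helper18.FibBridge

section transfer

variable {R S : Type u} [CommRing R] [CommRing S]

theorem isNormalRing_of_ringEquiv (e : R ≃+* S) (h : EGA4.IsNormalRing R) :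
    EGA4.IsNormalRing S := by
  intro P hP
  have hP' : (P.comap (e : R →+* S)).IsPrime := Ideal.comap_isPrime _ _
  obtain ⟨h1, h2⟩ := h (P.comap (e : R →+* S))
  let e' := Localization.localRingEquiv (P.comap (e : R →+* S)) P e rfl
  exact ⟨MulEquiv.isDomain _ e'.symm.toMulEquiv, IsIntegrallyClosed.of_equiv e'⟩

end transfer

theorem isNormalRing_of_isGeomNormal {k S : Type u} [Field k] [CommRing S] [Algebra k S]
    (h : EGA4.IsGeomNormal k S) : EGA4.IsNormalRing S :=
  isNormalRing_of_ringEquiv (Algebra.TensorProduct.lid k S).toRingEquiv (h k inferInstance)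

section fib

variable (A B : Type u) [CommRing A] [CommRing B] [Algebra A B]

theorem normal_fibLocRing_congr {r q : Ideal B} [r.IsPrime] [q.IsPrime] (h : r = q) :
    (IsDomain (EGA4.FibLocRing A B r) ∧ IsIntegrallyClosed (EGA4.FibLocRing A B r)) →
      (IsDomain (EGA4.FibLocRing A B q) ∧ IsIntegrallyClosed (EGA4.FibLocRing A B q)) := by
  subst h
  exact id

theorem normal_fibLocRing_of_isNormalRing_fiber (q : Ideal B) [q.IsPrime]
    (h : EGA4.IsNormalRing ((q.comap (algebraMap A B)).Fiber B)) :
    IsDomain (EGA4.FibLocRing A B q) ∧ IsIntegrallyClosed (EGA4.FibLocRing A B q) := by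
  obtain ⟨Q', hQ', hctr⟩ := exists_prime_of_comap_eq (q.comap (algebraMap A B)) q rfl
  obtain ⟨e⟩ := nonempty_ringEquiv (q.comap (algebraMap A B)) Q'
  obtain ⟨h1, h2⟩ := h Q'
  apply normal_fibLocRing_congr A B hctr
  have h3 : IsIntegrallyClosed (EGA4.FibLocRing A B (ctr (q.comap (algebraMap A B)) Q')) :=
    IsIntegrallyClosed.of_equiv (R := Localization.AtPrime Q') e
  exact ⟨MulEquiv.isDomain _ e.symm.toMulEquiv, h3⟩

end fib

section reduced

variable (A B : Type u) [CommRing A] [CommRing B] [IsNoetherianRing A] [Algebra A B]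
  [Module.Flat A B]

/-- a flat algebra over a reduced Noetherian ring with reduced generic fibres is reduced -/
theorem isReduced_of_flat_of_reduced_fibres [IsReduced A]
    (hfib : ∀ (p : Ideal A) [p.IsPrime], p ∈ minimalPrimes A → IsReduced (p.Fiber B)) :
    IsReduced B := by
  classical
  let ι := {p : Ideal A // p ∈ minimalPrimes A}
  haveI : Finite ι := (minimalPrimes.finite_of_isNoetherianRing A).to_subtype
  letI : Fintype ι := Fintype.ofFinite ι
  haveI hprime : ∀ i : ι, i.1.IsPrime := fun i => i.2.1.1
  let f : A →ₗ[A] (∀ i : ι, i.1.ResidueField) :=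
    LinearMap.pi (fun i => Algebra.linearMap A i.1.ResidueField)
  have hf : Function.Injective f := by
    rw [injective_iff_map_eq_zero]
    intro a ha
    have h1 : a ∈ sInf (minimalPrimes A) := by
      rw [Ideal.mem_sInf]
      intro p hp
      have h2 := congrFun ha ⟨p, hp⟩
      haveI : p.IsPrime := hp.1.1
      exact (Ideal.algebraMap_residueField_eq_zero (I := p)).mp h2
    have h3 : sInf (minimalPrimes A) = ⊥ := by
      have := Ideal.sInf_minimalPrimes (I := (⊥ : Ideal A))
      have h4 : (⊥ : Ideal A).radical = ⊥ := nilradical_eq_zero A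
      rw [h4] at this
      exact this
    rw [h3] at h1
    exact h1
  have hg : Function.Injective (f.rTensor B) :=
    Module.Flat.rTensor_preserves_injective_linearMap f hf
  let G : B →+* ∀ i : ι, i.1.Fiber B :=
    RingHom.pi (fun i => (Algebra.TensorProduct.includeRight :
      B →ₐ[A] i.1.ResidueField ⊗[A] B).toRingHom)
  have hG : Function.Injective G := by
    rw [injective_iff_map_eq_zero]
    intro b hb
    have h1 : (TensorProduct.piLeft A B (fun i : ι => i.1.ResidueField))
        (f.rTensor B ((1 : A) ⊗ₜ[A] b)) = 0 := by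
      ext i
      have h2 : (1 : i.1.ResidueField) ⊗ₜ[A] b = 0 := congrFun hb i
      simpa [f] using h2
    have h2 : (1 : A) ⊗ₜ[A] b = 0 := by
      apply hg
      rw [map_zero]
      exact (TensorProduct.piLeft A B (fun i : ι => i.1.ResidueField)).injective
        (by rw [h1, map_zero])
    have h3 := congrArg (TensorProduct.lid A B) h2
    simpa using h3
  haveI : ∀ i : ι, IsReduced (i.1.Fiber B) := fun i => hfib i.1 i.2
  exact isReduced_of_injective G hG

end reduced

end Groth.Agent.Lib.Helper18.FormFib
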