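import Mathlib
import Groth.Prelude.Def_EGA4b
import Groth.Agent.Lib.Helper18.CplQuot
import Groth.Agent.Lib.Helper18.SerreNormal
import Groth.Agent.Lib.Helper18.FormFib

set_option autoImplicit false
set_option linter.unusedSectionVars false
set_option linter.style.haveILetI false
universe u
open IsLocalRing TensorProduct

namespace Groth.Agent.Lib.Helper18.FibQuot

section cplAlg

variable (A : Type u) [CommRing A] [IsNoetherianRing A] [IsLocalRing A]
  (I : Ideal A) [Nontrivial (A ⧸ I)]

/-- the completion of `A/I` as an `A/I`-algebra is `A/I ⊗_A Â` -/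
theorem nonempty_algEquiv_cpl_quotient :
    Nonempty (EGA4.Cpl (A ⧸ I) ≃ₐ[A ⧸ I] (A ⧸ I) ⊗[A] EGA4.Cpl A) := by
  have hs : Function.Surjective (algebraMap A (A ⧸ I)) := Ideal.Quotient.mk_surjective
  haveI hloc := CplQuot.isLocalHom_of_surjective A (A ⧸ I) hs
  have hker := CplQuot.ker_cplMap A (A ⧸ I) hs
  have hkp : RingHom.ker (algebraMap A (A ⧸ I)) = I := by
    rw [Ideal.Quotient.algebraMap_eq, Ideal.mk_ker]
  rw [hkp] at hker
  let e0 : (EGA4.Cpl A ⧸ I.map (algebraMap A (EGA4.Cpl A))) ≃+* EGA4.Cpl (A ⧸ I) :=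
    (Ideal.quotEquivOfEq hker.symm).trans
      (RingHom.quotientKerEquivOfSurjective (CplQuot.cplMap_surjective A (A ⧸ I) hs))
  have he0 : ∀ x : EGA4.Cpl A, e0 (Ideal.Quotient.mk _ x) = CplQuot.cplMap A (A ⧸ I) x := by
    intro x
    rfl
  let e1 : (EGA4.Cpl A ⧸ I.map (algebraMap A (EGA4.Cpl A))) ≃ₐ[A ⧸ I] EGA4.Cpl (A ⧸ I) :=
    AlgEquiv.ofRingEquiv (f := e0) (by
      intro r
      obtain ⟨a, rfl⟩ := Ideal.Quotient.mk_surjective r
      have h1 : algebraMap (A ⧸ I) (EGA4.Cpl A ⧸ I.map (algebraMap A (EGA4.Cpl A)))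
          (Ideal.Quotient.mk I a) = Ideal.Quotient.mk _ (algebraMap A (EGA4.Cpl A) a) := rfl
      rw [h1, he0, CplQuot.cplMap_of]
      rfl)
  exact ⟨e1.symm.trans
    (Algebra.TensorProduct.quotIdealMapEquivQuotTensor (EGA4.Cpl A) I)⟩

end cplAlg

section abstract

variable {A Ab X Xb K Kb k' : Type u} [CommRing A] [CommRing Ab] [Algebra A Ab]
  [CommRing X] [Algebra A X] [CommRing Xb] [Algebra Ab Xb]
  [CommRing K] [Algebra A K] [CommRing Kb] [Algebra Ab Kb]
  [CommRing k'] [Algebra K k'] [Algebra Kb k']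

theorem nonempty_ringEquiv_tensor (e : Xb ≃ₐ[Ab] Ab ⊗[A] X) (φ : K →+* Kb)
    (hφ : ∀ a : A, φ (algebraMap A K a) = algebraMap Ab Kb (algebraMap A Ab a))
    (hcomp : algebraMap K k' = (algebraMap Kb k').comp φ) :
    Nonempty (k' ⊗[Kb] (Kb ⊗[Ab] Xb) ≃+* k' ⊗[K] (K ⊗[A] X)) := by
  letI algAb : Algebra Ab k' := ((algebraMap Kb k').comp (algebraMap Ab Kb)).toAlgebra
  letI algA : Algebra A k' := ((algebraMap Ab k').comp (algebraMap A Ab)).toAlgebra
  haveI t1 : IsScalarTower Ab Kb k' := IsScalarTower.of_algebraMap_eq (fun _ => rfl)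
  haveI t2 : IsScalarTower A Ab k' := IsScalarTower.of_algebraMap_eq (fun _ => rfl)
  haveI t3 : IsScalarTower A K k' := IsScalarTower.of_algebraMap_eq (fun a => by
    rw [hcomp, RingHom.comp_apply, hφ]
    rfl)
  let e1 := Algebra.TensorProduct.cancelBaseChange Ab Kb k' k' Xb
  let e2 := Algebra.TensorProduct.congr (AlgEquiv.refl : k' ≃ₐ[Ab] k') e
  let e3 := Algebra.TensorProduct.cancelBaseChange A Ab k' k' X
  let e4 := Algebra.TensorProduct.cancelBaseChange A K k' k' X
  exact ⟨e1.toRingEquiv.trans (e2.toRingEquiv.trans (e3.toRingEquiv.trans e4.symm.toRingEquiv))⟩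

end abstract

theorem isReduced_of_ringEquiv' {X Y : Type u} [CommRing X] [CommRing Y] (e : X ≃+* Y)
    (h : IsReduced Y) : IsReduced X :=
  isReduced_of_injective e.toRingHom e.injective

section cmTransfer

open Groth.Agent.Lib.Helper18.Serre

theorem isCohenMacaulayLocalRing_of_ringEquiv {R S : Type u} [CommRing R] [CommRing S]
    (e : R ≃+* S) [h : LocCoh.IsCohenMacaulayLocalRing R] : LocCoh.IsCohenMacaulayLocalRing S := by
  haveI : IsNoetherianRing S := isNoetherianRing_of_ringEquiv R e
  haveI : IsLocalRing S := e.isLocalRing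
  refine { supportDim_eq_depth := ?_ }
  have h1 := h.supportDim_eq_depth
  rw [Module.supportDim_self_eq_ringKrullDim] at h1 ⊢
  rw [← ringKrullDim_eq_of_ringEquiv e, h1, depth_self_eq_of_ringEquiv e]

theorem isCohenMacaulayRing_of_ringEquiv {R S : Type u} [CommRing R] [CommRing S]
    (e : R ≃+* S) [h : LocCoh.IsCohenMacaulayRing R] : LocCoh.IsCohenMacaulayRing S := by
  haveI : IsNoetherianRing S := isNoetherianRing_of_ringEquiv R e
  refine { isCohenMacaulayLocalRing_localization := ?_ }
  intro P hP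
  have hP' : (P.comap (e : R →+* S)).IsPrime := Ideal.comap_isPrime _ _
  haveI := h.isCohenMacaulayLocalRing_localization (P.comap (e : R →+* S))
  exact isCohenMacaulayLocalRing_of_ringEquiv
    (Localization.localRingEquiv (P.comap (e : R →+* S)) P e rfl)

end cmTransfer

section concrete

variable (A : Type u) [CommRing A] [IsNoetherianRing A] [IsLocalRing A]
  (I : Ideal A) [Nontrivial (A ⧸ I)] (qb : Ideal (A ⧸ I)) [qb.IsPrime]

/-- the residue field map `κ(q) → κ(q̄)` -/
noncomputable abbrev resMap :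
    (qb.comap (algebraMap A (A ⧸ I))).ResidueField →+* qb.ResidueField :=
  Ideal.ResidueField.map (qb.comap (algebraMap A (A ⧸ I))) qb (algebraMap A (A ⧸ I)) rfl

theorem resMap_bijective : Function.Bijective (resMap A I qb) :=
  (RingHom.surjectiveOnStalks_of_surjective
    (f := algebraMap A (A ⧸ I)) Ideal.Quotient.mk_surjective).residueFieldMap_bijective _ _ rfl

/-- base changes of the formal fibres of `A/I` are base changes of formal fibres of `A` -/
theorem nonempty_ringEquiv_formalFibre (k' : Type u) [CommRing k']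
    [Algebra (qb.comap (algebraMap A (A ⧸ I))).ResidueField k'] [Algebra qb.ResidueField k']
    (hcomp : algebraMap (qb.comap (algebraMap A (A ⧸ I))).ResidueField k' =
      (algebraMap qb.ResidueField k').comp (resMap A I qb)) :
    Nonempty (k' ⊗[qb.ResidueField] (EGA4.formalFibre (A ⧸ I) qb) ≃+*
      k' ⊗[(qb.comap (algebraMap A (A ⧸ I))).ResidueField]
        (EGA4.formalFibre A (qb.comap (algebraMap A (A ⧸ I))))) := by
  obtain ⟨e⟩ := nonempty_algEquiv_cpl_quotient A I
  exact nonempty_ringEquiv_tensor e (resMap A I qb)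
    (fun a => Ideal.ResidueField.map_algebraMap _ _ _ rfl a) hcomp

/-- a finite extension of `κ(q̄)` is finite over `κ(q)` -/
theorem finite_of_finite (k' : Type u) [Field k'] [Algebra qb.ResidueField k']
    [Module.Finite qb.ResidueField k'] :
    letI : Algebra (qb.comap (algebraMap A (A ⧸ I))).ResidueField k' :=
      ((algebraMap qb.ResidueField k').comp (resMap A I qb)).toAlgebra
    Module.Finite (qb.comap (algebraMap A (A ⧸ I))).ResidueField k' := by
  letI alg : Algebra (qb.comap (algebraMap A (A ⧸ I))).ResidueField k' :=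
    ((algebraMap qb.ResidueField k').comp (resMap A I qb)).toAlgebra
  letI alg2 : Algebra (qb.comap (algebraMap A (A ⧸ I))).ResidueField qb.ResidueField :=
    (resMap A I qb).toAlgebra
  haveI : IsScalarTower (qb.comap (algebraMap A (A ⧸ I))).ResidueField qb.ResidueField k' :=
    IsScalarTower.of_algebraMap_eq (fun _ => rfl)
  haveI : Module.Finite (qb.comap (algebraMap A (A ⧸ I))).ResidueField qb.ResidueField :=
    Module.Finite.of_surjective
      (Algebra.linearMap (qb.comap (algebraMap A (A ⧸ I))).ResidueField qb.ResidueField)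
      (resMap_bijective A I qb).2
  exact Module.Finite.trans qb.ResidueField k'

/-- the formal fibre of `A/I` at `q̄` is the formal fibre of `A` at `q` -/
theorem nonempty_ringEquiv_formalFibre_self :
    Nonempty (EGA4.formalFibre (A ⧸ I) qb ≃+*
      EGA4.formalFibre A (qb.comap (algebraMap A (A ⧸ I)))) := by
  letI alg2 : Algebra (qb.comap (algebraMap A (A ⧸ I))).ResidueField qb.ResidueField :=
    (resMap A I qb).toAlgebra
  have hcomp : algebraMap (qb.comap (algebraMap A (A ⧸ I))).ResidueField qb.ResidueField =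
      (algebraMap qb.ResidueField qb.ResidueField).comp (resMap A I qb) := by
    rw [Algebra.algebraMap_self, RingHom.id_comp]
    rfl
  obtain ⟨e⟩ := nonempty_ringEquiv_formalFibre A I qb qb.ResidueField hcomp
  let el := (Algebra.TensorProduct.lid qb.ResidueField (EGA4.formalFibre (A ⧸ I) qb)).toRingEquiv
  let σ : qb.ResidueField ≃ₐ[(qb.comap (algebraMap A (A ⧸ I))).ResidueField]
      (qb.comap (algebraMap A (A ⧸ I))).ResidueField :=
    (AlgEquiv.ofBijective (Algebra.ofId (qb.comap (algebraMap A (A ⧸ I))).ResidueField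
      qb.ResidueField) (resMap_bijective A I qb)).symm
  let er := ((Algebra.TensorProduct.congr σ (AlgEquiv.refl :
      EGA4.formalFibre A (qb.comap (algebraMap A (A ⧸ I))) ≃ₐ[_] _)).trans
    (Algebra.TensorProduct.lid _ _)).toRingEquiv
  exact ⟨el.symm.trans (e.trans er)⟩

end concrete

section general

variable (A B : Type u) [CommRing A] [IsNoetherianRing A] [IsLocalRing A]
  [CommRing B] [IsNoetherianRing B] [IsLocalRing B] [Algebra A B]
  (hs : Function.Surjective (algebraMap A B))

include hs in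
/-- the completion of a quotient `B` of `A`, as a `B`-algebra, is `B ⊗_A Â` -/
theorem nonempty_algEquiv_cpl_of_surjective :
    Nonempty (EGA4.Cpl B ≃ₐ[B] B ⊗[A] EGA4.Cpl A) := by
  haveI hloc := CplQuot.isLocalHom_of_surjective A B hs
  have hker := CplQuot.ker_cplMap A B hs
  let e0 : (EGA4.Cpl A ⧸ (RingHom.ker (algebraMap A B)).map (algebraMap A (EGA4.Cpl A))) ≃+*
      EGA4.Cpl B :=
    (Ideal.quotEquivOfEq hker.symm).trans
      (RingHom.quotientKerEquivOfSurjective (CplQuot.cplMap_surjective A B hs))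
  have he0 : ∀ x : EGA4.Cpl A, e0 (Ideal.Quotient.mk _ x) = CplQuot.cplMap A B x := by
    intro x
    rfl
  let σ : B ≃ₐ[A] (A ⧸ RingHom.ker (algebraMap A B)) :=
    (Ideal.quotientKerAlgEquivOfSurjective (f := Algebra.ofId A B) hs).symm
  let e1 : B ⊗[A] EGA4.Cpl A ≃ₐ[A] (A ⧸ RingHom.ker (algebraMap A B)) ⊗[A] EGA4.Cpl A :=
    Algebra.TensorProduct.congr σ AlgEquiv.refl
  let e2 := (Algebra.TensorProduct.quotIdealMapEquivQuotTensor (EGA4.Cpl A)
    (RingHom.ker (algebraMap A B))).symm
  let e : B ⊗[A] EGA4.Cpl A ≃+* EGA4.Cpl B :=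
    e1.toRingEquiv.trans (e2.toRingEquiv.trans e0)
  have he : ∀ b : B, e (algebraMap B (B ⊗[A] EGA4.Cpl A) b) = algebraMap B (EGA4.Cpl B) b := by
    intro b
    obtain ⟨a, rfl⟩ := hs b
    have h1 : algebraMap B (B ⊗[A] EGA4.Cpl A) (algebraMap A B a) =
        (algebraMap A B a) ⊗ₜ[A] (1 : EGA4.Cpl A) := rfl
    have h2 : σ (algebraMap A B a) = Ideal.Quotient.mk _ a := by
      rw [AlgEquiv.commutes]
      rfl
    have h3 : e ((algebraMap A B a) ⊗ₜ[A] (1 : EGA4.Cpl A)) =
        e0 (e2 ((Ideal.Quotient.mk (RingHom.ker (algebraMap A B)) a) ⊗ₜ[A] (1 : EGA4.Cpl A))) := by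
      have : e1 ((algebraMap A B a) ⊗ₜ[A] (1 : EGA4.Cpl A)) =
          (Ideal.Quotient.mk (RingHom.ker (algebraMap A B)) a) ⊗ₜ[A] (1 : EGA4.Cpl A) := by
        rw [Algebra.TensorProduct.congr_apply, Algebra.TensorProduct.map_tmul]
        simp only [AlgEquiv.coe_toAlgHom]
        rw [h2]
        rfl
      rw [← this]
      rfl
    have h4 : (Ideal.Quotient.mk (RingHom.ker (algebraMap A B)) a) ⊗ₜ[A] (1 : EGA4.Cpl A) =
        algebraMap (A ⧸ RingHom.ker (algebraMap A B))
          ((A ⧸ RingHom.ker (algebraMap A B)) ⊗[A] EGA4.Cpl A)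
          (Ideal.Quotient.mk (RingHom.ker (algebraMap A B)) a) := by
      rw [Algebra.TensorProduct.algebraMap_apply]
      rfl
    have h5 : algebraMap (A ⧸ RingHom.ker (algebraMap A B))
        (EGA4.Cpl A ⧸ (RingHom.ker (algebraMap A B)).map (algebraMap A (EGA4.Cpl A)))
        (Ideal.Quotient.mk _ a) = Ideal.Quotient.mk _ (algebraMap A (EGA4.Cpl A) a) := rfl
    rw [h1, h3, h4, AlgEquiv.commutes, h5, he0, CplQuot.cplMap_of]
  exact ⟨(AlgEquiv.ofRingEquiv (f := e) he).symm⟩

variable (p : Ideal B) [p.IsPrime]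

/-- the residue field map `κ(p ∩ A) → κ(p)` -/
noncomputable abbrev resMap' :
    (p.comap (algebraMap A B)).ResidueField →+* p.ResidueField :=
  Ideal.ResidueField.map (p.comap (algebraMap A B)) p (algebraMap A B) rfl

include hs in
theorem resMap'_bijective : Function.Bijective (resMap' A B p) :=
  (RingHom.surjectiveOnStalks_of_surjective (f := algebraMap A B) hs).residueFieldMap_bijective
    _ _ rfl

include hs in
theorem nonempty_ringEquiv_formalFibre' (k' : Type u) [CommRing k']
    [Algebra (p.comap (algebraMap A B)).ResidueField k'] [Algebra p.ResidueField k']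
    (hcomp : algebraMap (p.comap (algebraMap A B)).ResidueField k' =
      (algebraMap p.ResidueField k').comp (resMap' A B p)) :
    Nonempty (k' ⊗[p.ResidueField] (EGA4.formalFibre B p) ≃+*
      k' ⊗[(p.comap (algebraMap A B)).ResidueField]
        (EGA4.formalFibre A (p.comap (algebraMap A B)))) := by
  obtain ⟨e⟩ := nonempty_algEquiv_cpl_of_surjective A B hs
  exact nonempty_ringEquiv_tensor e (resMap' A B p)
    (fun a => Ideal.ResidueField.map_algebraMap _ _ _ rfl a) hcomp

include hs in
/-- the formal fibre of a quotient `B` of `A` at `p` is the formal fibre of `A` at `p ∩ A` -/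
theorem nonempty_ringEquiv_formalFibre_self' :
    Nonempty (EGA4.formalFibre B p ≃+* EGA4.formalFibre A (p.comap (algebraMap A B))) := by
  letI alg2 : Algebra (p.comap (algebraMap A B)).ResidueField p.ResidueField :=
    (resMap' A B p).toAlgebra
  have hcomp : algebraMap (p.comap (algebraMap A B)).ResidueField p.ResidueField =
      (algebraMap p.ResidueField p.ResidueField).comp (resMap' A B p) := by
    rw [Algebra.algebraMap_self, RingHom.id_comp]
    rfl
  obtain ⟨e⟩ := nonempty_ringEquiv_formalFibre' A B hs p p.ResidueField hcomp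
  let el := (Algebra.TensorProduct.lid p.ResidueField (EGA4.formalFibre B p)).toRingEquiv
  let σ : p.ResidueField ≃ₐ[(p.comap (algebraMap A B)).ResidueField]
      (p.comap (algebraMap A B)).ResidueField :=
    (AlgEquiv.ofBijective (Algebra.ofId (p.comap (algebraMap A B)).ResidueField
      p.ResidueField) (resMap'_bijective A B hs p)).symm
  let er := ((Algebra.TensorProduct.congr σ (AlgEquiv.refl :
      EGA4.formalFibre A (p.comap (algebraMap A B)) ≃ₐ[_] _)).trans
    (Algebra.TensorProduct.lid _ _)).toRingEquiv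
  exact ⟨el.symm.trans (e.trans er)⟩

end general

end Groth.Agent.Lib.Helper18.FibQuot
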