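import Mathlib
import Groth.Prelude.Def_Flat

/-!
# Local dimension of topological spaces (helper18)
-/

set_option autoImplicit false
universe u

open TopologicalSpace

namespace Groth.Agent.Lib.Helper18.TopDim

variable {X : Type u} [TopologicalSpace X]

/-- a chain of irreducible closed sets through a point of an open set has length at most the
dimension of the open set -/
theorem length_le_topologicalKrullDim_open (p : LTSeries (IrreducibleCloseds X)) (U : Opens X)
    {x : X} (hx : x ∈ (p 0 : Set X)) (hxU : x ∈ U) :
    (p.length : WithBot ℕ∞) ≤ topologicalKrullDim (U : Set X) := by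
  let e := TopologicalSpace.IrreducibleCloseds.orderIsoOfIsOpenEmbedding
    (Subtype.val : U → X) U.isOpen.isOpenEmbedding_subtypeVal
  have hmem : ∀ j, p j ∈ {V : TopologicalSpace.IrreducibleCloseds X |
      ((Subtype.val : U → X) ⁻¹' V).Nonempty} := by
    intro j
    refine ⟨⟨x, hxU⟩, ?_⟩
    have h0 : p 0 ≤ p j := p.monotone (Fin.zero_le j)
    exact h0 hx
  let q : LTSeries {V : TopologicalSpace.IrreducibleCloseds X |
      ((Subtype.val : U → X) ⁻¹' V).Nonempty} :=
    { length := p.length
      toFun := fun j => ⟨p j, hmem j⟩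
      step := fun j => p.step j }
  let q' : LTSeries (TopologicalSpace.IrreducibleCloseds U) :=
    q.map e.symm e.symm.strictMono
  have hlen : (p.length : WithBot ℕ∞) = q'.length := rfl
  rw [hlen]
  exact Order.LTSeries.length_le_krullDim q'

theorem length_le_localDim (p : LTSeries (IrreducibleCloseds X))
    {x : X} (hx : x ∈ (p 0 : Set X)) :
    (p.length : WithBot ℕ∞) ≤ FlatMor.localDim X x := by
  unfold FlatMor.localDim
  exact le_iInf fun U => length_le_topologicalKrullDim_open p U.1 hx U.2

theorem localDim_le_topologicalKrullDim_open (U : Opens X) {x : X} (hxU : x ∈ U) :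
    FlatMor.localDim X x ≤ topologicalKrullDim (U : Set X) :=
  iInf_le (fun U : {U : Opens X // x ∈ U} => topologicalKrullDim (U.1 : Set X)) ⟨U, hxU⟩

theorem localDim_le_topologicalKrullDim (x : X) :
    FlatMor.localDim X x ≤ topologicalKrullDim X :=
  (localDim_le_topologicalKrullDim_open ⊤ (x := x) trivial).trans
    (topologicalKrullDim_subspace_le X _)

theorem topologicalKrullDim_eq_iSup_localDim :
    topologicalKrullDim X = ⨆ x : X, FlatMor.localDim X x := by
  apply le_antisymm
  · unfold topologicalKrullDim Order.krullDim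
    refine iSup_le fun p => ?_
    obtain ⟨x, hx⟩ := (p 0).isIrreducible.nonempty
    exact (length_le_localDim p hx).trans (le_iSup (fun x => FlatMor.localDim X x) x)
  · exact iSup_le fun x => localDim_le_topologicalKrullDim x

/-- upper semicontinuity of the local dimension -/
theorem upperSemicontinuous_localDim :
    UpperSemicontinuous fun x : X => FlatMor.localDim X x := by
  intro x a hxa
  unfold FlatMor.localDim at hxa
  rw [iInf_lt_iff] at hxa
  obtain ⟨U, hU⟩ := hxa
  have hopen : (U.1 : Set X) ∈ nhds x := U.1.isOpen.mem_nhds U.2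
  filter_upwards [hopen] with y hy
  exact lt_of_le_of_lt (localDim_le_topologicalKrullDim_open U.1 hy) hU

/-- the preimage in a subspace `Y` of an irreducible subset of `Y` is irreducible -/
theorem isIrreducible_preimage_val {Y Z : Set X} (hZ : IsIrreducible Z) (hZY : Z ⊆ Y) :
    IsIrreducible ((Subtype.val : Y → X) ⁻¹' Z) := by
  refine ⟨?_, ?_⟩
  · obtain ⟨z, hz⟩ := hZ.nonempty
    exact ⟨⟨z, hZY hz⟩, hz⟩
  · intro u' v' hu' hv' hu hv
    obtain ⟨u, hu_open, rfl⟩ := isOpen_induced_iff.mp hu'
    obtain ⟨v, hv_open, rfl⟩ := isOpen_induced_iff.mp hv'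
    obtain ⟨a, ha, hau⟩ := hu
    obtain ⟨b, hb, hbv⟩ := hv
    obtain ⟨c, hc, hcu, hcv⟩ := hZ.2 u v hu_open hv_open ⟨a.1, ha, hau⟩ ⟨b.1, hb, hbv⟩
    exact ⟨⟨c, hZY hc⟩, hc, hcu, hcv⟩

/-- a chain of irreducible closed subsets inside `Y` has length at most `dim Y` -/
theorem length_le_topologicalKrullDim_of_subset (p : LTSeries (IrreducibleCloseds X)) (Y : Set X)
    (h : (p.last : Set X) ⊆ Y) :
    (p.length : WithBot ℕ∞) ≤ topologicalKrullDim Y := by
  have hsub : ∀ j, (p j : Set X) ⊆ Y := fun j =>
    (show (p j : Set X) ⊆ p.last from p.monotone (Fin.le_last j)).trans h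
  let q : LTSeries (IrreducibleCloseds Y) :=
    { length := p.length
      toFun := fun j =>
        { carrier := (Subtype.val : Y → X) ⁻¹' (p j)
          isIrreducible' := isIrreducible_preimage_val (p j).isIrreducible (hsub j)
          isClosed' := (p j).isClosed.preimage continuous_subtype_val }
      step := fun j => by
        have hlt : p j.castSucc < p j.succ := p.step j
        show (_ : IrreducibleCloseds Y) < _
        rw [← SetLike.coe_ssubset_coe] at hlt ⊢
        refine ⟨fun y hy => hlt.1 hy, fun hle => hlt.2 ?_⟩
        intro x hx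
        exact hle (a := ⟨x, hsub _ hx⟩) hx }
  exact Order.LTSeries.length_le_krullDim q

theorem topologicalKrullDim_eq_iSup_of_finite_closed_cover {ι : Type*} [Finite ι] (Y : ι → Set X)
    (hY : ∀ i, IsClosed (Y i)) (hcov : ⋃ i, Y i = Set.univ) :
    topologicalKrullDim X = ⨆ i, topologicalKrullDim (Y i) := by
  classical
  apply le_antisymm
  · unfold topologicalKrullDim Order.krullDim
    refine iSup_le fun p => ?_
    have hirr := p.last.isIrreducible
    rw [isIrreducible_iff_sUnion_isClosed] at hirr
    have := Fintype.ofFinite ι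
    obtain ⟨z, hz, hsub⟩ := hirr (Finset.univ.image Y) (by
      intro z hz
      obtain ⟨i, -, rfl⟩ := Finset.mem_image.mp hz
      exact hY i) (by
      intro x _
      have hx : x ∈ ⋃ i, Y i := hcov ▸ Set.mem_univ x
      obtain ⟨i, hi⟩ := Set.mem_iUnion.mp hx
      exact Set.mem_sUnion.mpr ⟨Y i, by simp, hi⟩)
    obtain ⟨i, -, rfl⟩ := Finset.mem_image.mp hz
    exact (length_le_topologicalKrullDim_of_subset p (Y i) hsub).trans
      (le_iSup (fun i => topologicalKrullDim (Y i)) i)
  · exact iSup_le fun i => topologicalKrullDim_subspace_le X (Y i)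

theorem topologicalKrullDim_eq_iSup_of_locallyFinite_closed_cover {ι : Type*} (Y : ι → Set X)
    (hY : ∀ i, IsClosed (Y i)) (hlf : LocallyFinite Y) (hcov : ⋃ i, Y i = Set.univ) :
    topologicalKrullDim X = ⨆ i, topologicalKrullDim (Y i) := by
  classical
  apply le_antisymm
  · unfold topologicalKrullDim Order.krullDim
    refine iSup_le fun p => ?_
    obtain ⟨x, hx0⟩ := (p 0).isIrreducible.nonempty
    have hx : x ∈ (p.last : Set X) :=
      (show (p 0 : Set X) ⊆ p.last from p.monotone (Fin.zero_le _)) hx0
    obtain ⟨t, ht, hfin⟩ := hlf x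
    obtain ⟨U, hUt, hUopen, hxU⟩ := mem_nhds_iff.mp ht
    have hirr := p.last.isIrreducible
    rw [isIrreducible_iff_sUnion_isClosed] at hirr
    obtain ⟨z, hz, hsub⟩ := hirr (insert Uᶜ (hfin.toFinset.image Y)) (by
      intro z hz
      rcases Finset.mem_insert.mp hz with rfl | hz
      · exact hUopen.isClosed_compl
      · obtain ⟨i, -, rfl⟩ := Finset.mem_image.mp hz
        exact hY i) (by
      intro y _
      by_cases hyU : y ∈ U
      · have hy : y ∈ ⋃ i, Y i := hcov ▸ Set.mem_univ y
        obtain ⟨i, hi⟩ := Set.mem_iUnion.mp hy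
        refine Set.mem_sUnion.mpr ⟨Y i, ?_, hi⟩
        simp only [Finset.coe_insert, Finset.coe_image, Set.Finite.coe_toFinset, Set.mem_insert_iff,
          Set.mem_image, Set.mem_ofPred_eq]
        exact Or.inr ⟨i, ⟨y, hi, hUt hyU⟩, rfl⟩
      · exact Set.mem_sUnion.mpr ⟨Uᶜ, by simp, hyU⟩)
    rcases Finset.mem_insert.mp hz with rfl | hz
    · exact absurd hxU (hsub hx)
    · obtain ⟨i, -, rfl⟩ := Finset.mem_image.mp hz
      exact (length_le_topologicalKrullDim_of_subset p (Y i) hsub).trans
        (le_iSup (fun i => topologicalKrullDim (Y i)) i)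
  · exact iSup_le fun i => topologicalKrullDim_subspace_le X (Y i)

theorem topologicalKrullDim_eq_biSup_closedPoints [NoetherianSpace X] [T0Space X] :
    topologicalKrullDim X = ⨆ x ∈ {x : X | IsClosed ({x} : Set X)}, FlatMor.localDim X x := by
  apply le_antisymm
  · unfold topologicalKrullDim Order.krullDim
    refine iSup_le fun p => ?_
    obtain ⟨x, hx, hxc⟩ := (p 0).isClosed.exists_closed_singleton (p 0).isIrreducible.nonempty
    exact (length_le_localDim p hx).trans
      (le_iSup₂ (f := fun x (_ : x ∈ {x : X | IsClosed ({x} : Set X)}) => FlatMor.localDim X x)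
        x hxc)
  · exact iSup₂_le fun x _ => localDim_le_topologicalKrullDim x

theorem zero_le_localDim (x : X) : 0 ≤ FlatMor.localDim X x := by
  let Z : IrreducibleCloseds X :=
    { carrier := closure {x}
      isIrreducible' := isIrreducible_singleton.closure
      isClosed' := isClosed_closure }
  have := length_le_localDim (RelSeries.singleton _ Z) (x := x) (subset_closure rfl)
  simpa using this

theorem zero_le_topologicalKrullDim [Nonempty X] : 0 ≤ topologicalKrullDim X := by
  obtain ⟨x⟩ := ‹Nonempty X›
  exact (zero_le_localDim x).trans (localDim_le_topologicalKrullDim x)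

theorem topologicalKrullDim_eq_zero_iff [NoetherianSpace X] [T0Space X] [Nonempty X] :
    topologicalKrullDim X = 0 ↔ Finite X ∧ DiscreteTopology X := by
  constructor
  · intro h
    -- every irreducible closed subset is a closed point
    have key : ∀ Z : IrreducibleCloseds X, ∃ x, (Z : Set X) = {x} ∧ IsClosed ({x} : Set X) := by
      intro Z
      obtain ⟨x, hx, hxc⟩ := Z.isClosed.exists_closed_singleton Z.isIrreducible.nonempty
      refine ⟨x, ?_, hxc⟩
      by_contra hne
      let P : IrreducibleCloseds X :=
        { carrier := {x}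
          isIrreducible' := isIrreducible_singleton
          isClosed' := hxc }
      have hlt : P < Z := by
        rw [← SetLike.coe_ssubset_coe]
        refine ⟨Set.singleton_subset_iff.mpr hx, fun hle => hne (le_antisymm hle ?_)⟩
        exact Set.singleton_subset_iff.mpr hx
      have hlen := Order.LTSeries.length_le_krullDim (RelSeries.singleton _ P |>.snoc Z hlt)
      rw [show Order.krullDim (IrreducibleCloseds X) = topologicalKrullDim X from rfl, h,
        show (RelSeries.singleton _ P |>.snoc Z hlt).length = 1 from rfl] at hlen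
      exact absurd hlen (by decide)
    have hclosed : ∀ x : X, IsClosed ({x} : Set X) := by
      intro x
      obtain ⟨y, hy, hyc⟩ := key
        { carrier := closure {x}
          isIrreducible' := isIrreducible_singleton.closure
          isClosed' := isClosed_closure }
      have hxy : x ∈ ({y} : Set X) := hy ▸ subset_closure rfl
      rw [Set.mem_singleton_iff] at hxy
      rwa [hxy]
    have hfin : Finite X := by
      have hcomp := NoetherianSpace.finite_irreducibleComponents (α := X)
      have hsub : (Set.univ : Set X) ⊆ ⋃ Z ∈ irreducibleComponents X, Z := by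
        rw [← sUnion_irreducibleComponents, Set.sUnion_eq_biUnion]
      have hfin' : (⋃ Z ∈ irreducibleComponents X, Z).Finite := by
        refine hcomp.biUnion fun Z hZ => ?_
        obtain ⟨x, hx, -⟩ := key
          { carrier := Z
            isIrreducible' := hZ.1
            isClosed' := isClosed_of_mem_irreducibleComponents Z hZ }
        change Z = {x} at hx
        rw [hx]
        exact Set.finite_singleton x
      exact Set.finite_univ_iff.mp (hfin'.subset hsub)
    have : T1Space X := ⟨hclosed⟩
    exact ⟨hfin, inferInstance⟩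
  · rintro ⟨_, _⟩
    exact le_antisymm (topologicalKrullDim_zero_of_discreteTopology X) zero_le_topologicalKrullDim

theorem isOpen_singleton_iff_localDim_eq_zero [NoetherianSpace X] [T0Space X] (x : X) :
    IsOpen ({x} : Set X) ↔ FlatMor.localDim X x = 0 := by
  constructor
  · intro h
    refine le_antisymm ?_ (zero_le_localDim x)
    let U : Opens X := ⟨{x}, h⟩
    refine (localDim_le_topologicalKrullDim_open U (x := x) rfl).trans ?_
    have : DiscreteTopology (U : Set X) := by
      have : Subsingleton (U : Set X) := by
        change Subsingleton ({x} : Set X)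
        infer_instance
      infer_instance
    exact topologicalKrullDim_zero_of_discreteTopology _
  · intro h
    have hne : Nonempty {U : Opens X // x ∈ U} := ⟨⟨⊤, trivial⟩⟩
    obtain ⟨⟨U, hxU⟩, hU⟩ := ciInf_mem
      (fun U : {U : Opens X // x ∈ U} => topologicalKrullDim (U.1 : Set X))
    change topologicalKrullDim (U : Set X) = FlatMor.localDim X x at hU
    rw [h] at hU
    have : Nonempty (U : Set X) := ⟨⟨x, hxU⟩⟩
    have : NoetherianSpace (U : Set X) := NoetherianSpace.set (U : Set X)
    obtain ⟨-, hdisc⟩ := topologicalKrullDim_eq_zero_iff.mp hU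
    have hopen : IsOpen ({⟨x, hxU⟩} : Set (U : Set X)) := isOpen_discrete _
    have := U.isOpen.isOpenMap_subtype_val _ hopen
    simpa using this

end Groth.Agent.Lib.Helper18.TopDim
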