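import Mathlib
import Groth.Agent.Lib.Helper21.FibDim3

/-!
# Semicontinuity of fibre dimension on the target (closed morphisms)
-/

set_option autoImplicit false
set_option linter.unusedSectionVars false
set_option linter.style.haveILetI false
set_option linter.deprecated false
universe u
open AlgebraicGeometry CategoryTheory TopologicalSpace

namespace Groth.Agent.Lib.Helper18.FibSemi

open Groth.Agent.Lib.Helper21.FibDim

/-- a natural number is below a supremum in `WithBot ℕ∞` iff it is below one of the terms -/
theorem natCast_le_iSup_iff {ι : Sort*} (a : ι → WithBot ℕ∞) (n : ℕ) (hn : n ≠ 0) :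
    (n : WithBot ℕ∞) ≤ ⨆ i, a i ↔ ∃ i, (n : WithBot ℕ∞) ≤ a i := by
  constructor
  · intro h
    by_contra hcon
    push Not at hcon
    obtain ⟨m, rfl⟩ := Nat.exists_eq_succ_of_ne_zero hn
    have hle : ∀ i, a i ≤ (m : WithBot ℕ∞) := by
      intro i
      have := hcon i
      induction' hai : a i using WithBot.recBotCoe with b
      · exact bot_le
      · rw [hai] at this
        have h1 : b < ((m + 1 : ℕ) : ℕ∞) := by exact_mod_cast this
        have h2 : b ≤ (m : ℕ∞) := by
          rw [Nat.cast_succ] at h1
          exact Order.le_of_lt_add_one h1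
        exact_mod_cast h2
    have := h.trans (iSup_le hle)
    have h3 : ((m + 1 : ℕ) : ℕ∞) ≤ (m : ℕ∞) := by exact_mod_cast this
    have h4 : m + 1 ≤ m := by exact_mod_cast h3
    omega
  · rintro ⟨i, hi⟩
    exact hi.trans (le_iSup a i)

variable {X Y : Scheme.{u}} (f : X ⟶ Y) [LocallyOfFiniteType f]

/-- the set of points where the local fibre dimension is at least `n` is closed -/
theorem isClosed_setOf_le_fibreDimAt (n : ℕ) :
    IsClosed {x : X | (n : WithBot ℕ∞) ≤ FlatMor.fibreDimAt f x} := by
  rcases Nat.eq_zero_or_pos n with rfl | hn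
  · convert isClosed_univ
    ext x
    simp only [Set.mem_setOf_eq, Set.mem_univ, iff_true, Nat.cast_zero]
    exact Groth.Agent.Lib.Helper18.TopDim.zero_le_localDim _
  · obtain ⟨m, rfl⟩ := Nat.exists_eq_succ_of_ne_zero hn.ne'
    have hopen := isOpen_setOf_fibreDimAt_le f m
    convert hopen.isClosed_compl using 1
    ext x
    simp only [Set.mem_setOf_eq, Set.mem_compl_iff, not_le]
    obtain ⟨k, hk, -, -⟩ := exists_fibreDimAt_eq_trdeg f x
    rw [hk]
    constructor
    · intro h
      have : m + 1 ≤ k := by exact_mod_cast h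
      exact_mod_cast Nat.lt_of_succ_le this
    · intro h
      have : m < k := by exact_mod_cast h
      exact_mod_cast Nat.succ_le_of_lt this

/-- the fibre dimension over `y` is at least `n ≥ 1` iff some point of the fibre has local fibre
dimension at least `n` -/
theorem le_topologicalKrullDim_fiber_iff (y : Y) (n : ℕ) (hn : n ≠ 0) :
    (n : WithBot ℕ∞) ≤ topologicalKrullDim ↥(f.fiber y) ↔
      ∃ x : X, f x = y ∧ (n : WithBot ℕ∞) ≤ FlatMor.fibreDimAt f x := by
  rw [Groth.Agent.Lib.Helper18.TopDim.topologicalKrullDim_eq_iSup_localDim,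
    natCast_le_iSup_iff _ n hn]
  constructor
  · rintro ⟨t, ht⟩
    have hx : f (f.fiberι y t) = y := (f.fiberHomeo y t).2
    refine ⟨f.fiberι y t, hx, ?_⟩
    rw [← Groth.Agent.Lib.Helper6.EtaleSq.localDim_fiber_eq_fibreDimAt f (f.fiberι y t) y hx t rfl]
    exact ht
  · rintro ⟨x, rfl, hx⟩
    exact ⟨f.asFiber x, hx⟩

/-- **EGA IV 13.1.5**: for a closed morphism locally of finite type the fibre dimension is upper
semicontinuous on the target. -/
theorem isClosed_setOf_le_topologicalKrullDim_fiber (hf : IsClosedMap f.base) (n : ℕ) :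
    IsClosed {y : Y | (n : WithBot ℕ∞) ≤ topologicalKrullDim ↥(f.fiber y)} := by
  rcases Nat.eq_zero_or_pos n with rfl | hn
  · have : {y : Y | ((0 : ℕ) : WithBot ℕ∞) ≤ topologicalKrullDim ↥(f.fiber y)} = Set.range f.base := by
      ext y
      simp only [Set.mem_setOf_eq, Set.mem_range, Nat.cast_zero]
      constructor
      · intro h
        by_contra hcon
        push Not at hcon
        haveI : IsEmpty ↥(f.fiber y) := ⟨fun t => hcon (f.fiberι y t) (f.fiberHomeo y t).2⟩
        haveI : IsEmpty (IrreducibleCloseds ↥(f.fiber y)) :=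
          ⟨fun Z => IsEmpty.false (Z.isIrreducible.nonempty.some : ↥(f.fiber y))⟩
        have : topologicalKrullDim ↥(f.fiber y) = ⊥ := by
          unfold topologicalKrullDim
          exact Order.krullDim_eq_bot
        rw [this] at h
        exact absurd h (by simp)
      · rintro ⟨x, rfl⟩
        haveI : Nonempty ↥(f.fiber (f x)) := ⟨f.asFiber x⟩
        exact Groth.Agent.Lib.Helper18.TopDim.zero_le_topologicalKrullDim
    rw [this]
    exact hf.isClosed_range
  · have : {y : Y | (n : WithBot ℕ∞) ≤ topologicalKrullDim ↥(f.fiber y)} =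
        f.base '' {x : X | (n : WithBot ℕ∞) ≤ FlatMor.fibreDimAt f x} := by
      ext y
      simp only [Set.mem_setOf_eq, Set.mem_image]
      rw [le_topologicalKrullDim_fiber_iff f y n hn.ne']
      constructor
      · rintro ⟨x, hx, h⟩
        exact ⟨x, h, hx⟩
      · rintro ⟨x, h, hx⟩
        exact ⟨x, hx, h⟩
    rw [this]
    exact hf _ (isClosed_setOf_le_fibreDimAt f n)

/-- upper semicontinuity on the target in the form of open sublevel sets -/
theorem isOpen_setOf_topologicalKrullDim_fiber_le (hf : IsClosedMap f.base) (c : WithBot ℕ∞) :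
    IsOpen {s : Y | topologicalKrullDim ↥(f.fiber s) ≤ c} := by
  induction c using WithBot.recBotCoe with
  | bot =>
    have : {s : Y | topologicalKrullDim ↥(f.fiber s) ≤ ⊥} =
        {y : Y | ((0 : ℕ) : WithBot ℕ∞) ≤ topologicalKrullDim ↥(f.fiber y)}ᶜ := by
      ext s
      simp only [Set.mem_setOf_eq, Set.mem_compl_iff, le_bot_iff, Nat.cast_zero]
      constructor
      · intro h
        rw [h]
        simp
      · intro h
        by_contra hne
        apply h
        obtain ⟨b, hb⟩ := WithBot.ne_bot_iff_exists.1 hne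
        rw [← hb]
        exact_mod_cast (zero_le : (0 : ℕ∞) ≤ b)
    rw [this]
    exact (isClosed_setOf_le_topologicalKrullDim_fiber f hf 0).isOpen_compl
  | coe c =>
    induction c using ENat.recTopCoe with
    | top =>
      convert isOpen_univ
      ext s
      simp only [Set.mem_setOf_eq, Set.mem_univ, iff_true]
      exact le_top
    | coe n =>
      have : {s : Y | topologicalKrullDim ↥(f.fiber s) ≤ ((n : ℕ∞) : WithBot ℕ∞)} =
          {y : Y | ((n + 1 : ℕ) : WithBot ℕ∞) ≤ topologicalKrullDim ↥(f.fiber y)}ᶜ := by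
        ext s
        simp only [Set.mem_setOf_eq, Set.mem_compl_iff]
        rw [Nat.cast_succ, ENat.WithBot.add_one_le_iff, not_lt]
        rfl
      rw [this]
      exact (isClosed_setOf_le_topologicalKrullDim_fiber f hf (n + 1)).isOpen_compl

end Groth.Agent.Lib.Helper18.FibSemi
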