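import Mathlib
import Groth.Prelude.Def_CAlg
import Groth.Prelude.Def_EGA4b
import Groth.Agent.Lib.Helper18.RkFlat2

set_option autoImplicit false
set_option linter.unusedSectionVars false
universe u

open IsLocalRing

namespace Groth.Agent.Lib.Helper18.RkFlat

variable {A : Type u} [CommRing A]

theorem isOpen_of_finite_bad (F : Set (Ideal A)) (hF : F.Finite) (U : Set (PrimeSpectrum A))
    (h : ∀ p, p ∈ U ↔ ∀ Q ∈ F, ¬ Q ≤ p.asIdeal) : IsOpen U := by
  have hU : U = ⋂ Q ∈ F, (PrimeSpectrum.zeroLocus (Q : Set A))ᶜ := by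
    ext p
    simp only [Set.mem_iInter, Set.mem_compl_iff, PrimeSpectrum.mem_zeroLocus, SetLike.coe_subset_coe]
    exact h p
  rw [hU]
  exact hF.isOpen_biInter (fun Q _ => (PrimeSpectrum.isClosed_zeroLocus _).isOpen_compl)

variable [IsNoetherianRing A]

theorem hasRk_localization_iff (p : Ideal A) [p.IsPrime] (k : ℕ) :
    LocCoh.HasRk k (Localization.AtPrime p) ↔
      ∀ (Q : Ideal A) [Q.IsPrime], Q ≤ p → Q.height ≤ k →
        IsRegularLocalRing (Localization.AtPrime Q) :=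
  ⟨fun h Q _ hQp hk => isRegularLocalRing_of_hasRk_localization p k h Q hQp hk,
    fun h => hasRk_localization_of_forall p k h⟩

theorem isOpen_hasRkAt_of_isOpen_regLocus (h : IsOpen (EGA4.regLocus A)) (n : ℕ) :
    IsOpen {p : PrimeSpectrum A | EGA4.HasRkAt n A p.asIdeal} := by
  set Z : Set (PrimeSpectrum A) := (EGA4.regLocus A)ᶜ with hZ
  have hZc : IsClosed Z := h.isClosed_compl
  set I : Ideal A := PrimeSpectrum.vanishingIdeal Z with hI
  have hZI : PrimeSpectrum.zeroLocus (I : Set A) = Z := by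
    rw [hI, PrimeSpectrum.zeroLocus_vanishingIdeal_eq_closure, hZc.closure_eq]
  apply isOpen_of_finite_bad {Q | Q ∈ I.minimalPrimes ∧ Q.height ≤ n}
    ((Ideal.finite_minimalPrimes_of_isNoetherianRing A I).subset (fun Q hQ => hQ.1))
  intro p
  simp only [Set.mem_ofPred_eq]
  unfold EGA4.HasRkAt
  rw [hasRk_localization_iff]
  constructor
  · rintro hreg Q ⟨hQmin, hQn⟩ hQp
    have hQprime : Q.IsPrime := hQmin.1.1
    have h1 := hreg Q hQp hQn
    have h2 : (⟨Q, hQprime⟩ : PrimeSpectrum A) ∈ Z := by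
      rw [← hZI, PrimeSpectrum.mem_zeroLocus]
      exact hQmin.1.2
    exact h2 h1
  · intro hbad Q _ hQp hQn
    by_contra hnreg
    have h2 : (⟨Q, inferInstance⟩ : PrimeSpectrum A) ∈ Z := hnreg
    rw [← hZI, PrimeSpectrum.mem_zeroLocus] at h2
    obtain ⟨Q', hQ'min, hQ'le⟩ := Ideal.exists_minimalPrimes_le (show I ≤ Q from h2)
    exact hbad Q' ⟨hQ'min, (Ideal.height_mono hQ'le).trans hQn⟩ (hQ'le.trans hQp)

theorem isOpen_hasRkAt_zero :
    IsOpen {p : PrimeSpectrum A | EGA4.HasRkAt 0 A p.asIdeal} := by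
  apply isOpen_of_finite_bad {Q | Q ∈ minimalPrimes A ∧
      ∀ h : Q.IsPrime, ¬ IsRegularLocalRing (Localization.AtPrime Q)}
    ((minimalPrimes.finite_of_isNoetherianRing A).subset (fun Q hQ => hQ.1))
  intro p
  simp only [Set.mem_ofPred_eq]
  unfold EGA4.HasRkAt
  rw [hasRk_localization_iff]
  constructor
  · rintro hreg Q ⟨hQmin, hQn⟩ hQp
    have hQprime : Q.IsPrime := hQmin.1.1
    have h0 : Q.height ≤ (0 : ℕ) := by
      rw [Ideal.height_eq_zero_iff.mpr hQmin]
      exact le_refl _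
    exact hQn hQprime (hreg Q hQp h0)
  · intro hbad Q _ hQp hQn
    by_contra hnreg
    have hQmin : Q ∈ minimalPrimes A := by
      apply Ideal.height_eq_zero_iff.mp
      exact le_antisymm (by exact_mod_cast hQn) zero_le
    exact hbad Q ⟨hQmin, fun _ => hnreg⟩ hQp

end Groth.Agent.Lib.Helper18.RkFlat
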