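import Mathlib
import Groth.Prelude.Def_CAlg
import Groth.Agent.Lib.Helper18.CM9
import Groth.Agent.Lib.Helper18.CM3
import Groth.Agent.Lib.Helper21.RegularLocal
import Groth.Agent.Lib.Helper12.IntegralDim

set_option autoImplicit false
universe u

open IsLocalRing

namespace Groth.Agent.Lib.Helper18.CM

section F

variable {A : Type u} [CommRing A] [IsLocalRing A] [IsNoetherianRing A]
  (M : Type u) [AddCommGroup M] [Module A M] [Module.Finite A M]

example (x : A) : IsScalarTower A (A ⧸ Ideal.span {x}) (M ⧸ (Ideal.span {x} • ⊤ : Submodule A M)) :=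
  inferInstance

/-- if `x ∈ 𝔪` is `M`-regular and `M/xM` is free over `A/x`, then `M` is free over `A`. -/
theorem free_of_free_quotient (x : A) (hx : x ∈ maximalIdeal A) (hreg : IsSMulRegular M x)
    [Module.Free (A ⧸ Ideal.span {x}) (M ⧸ (Ideal.span {x} • ⊤ : Submodule A M))] :
    Module.Free A M := by
  classical
  set I : Ideal A := Ideal.span {x} with hI
  have hIjac : I ≤ Ideal.jacobson ⊥ := by
    rw [hI, Ideal.span_singleton_le_iff_mem]
    exact (IsLocalRing.maximalIdeal_le_jacobson _) hx
  have : Module.Finite (A ⧸ I) (M ⧸ (I • ⊤ : Submodule A M)) :=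
    Module.Finite.of_restrictScalars_finite A _ _
  let ι := Module.Free.ChooseBasisIndex (A ⧸ I) (M ⧸ (I • ⊤ : Submodule A M))
  let b : Module.Basis ι (A ⧸ I) (M ⧸ (I • ⊤ : Submodule A M)) := Module.Free.chooseBasis _ _
  have : Fintype ι := inferInstance
  choose e he using fun i => Submodule.Quotient.mk_surjective (I • ⊤ : Submodule A M) (b i)
  let φ : (ι → A) →ₗ[A] M := Fintype.linearCombination A e
  have hφ : ∀ a : ι → A, (I • ⊤ : Submodule A M).mkQ (φ a) =
      ∑ i, Ideal.Quotient.mk I (a i) • b i := by
    intro a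
    simp only [φ, Fintype.linearCombination_apply, map_sum, map_smul, Submodule.mkQ_apply, he]
    rfl
  -- surjectivity
  have hsurj : Function.Surjective φ := by
    rw [← LinearMap.range_eq_top, eq_top_iff]
    refine Submodule.le_of_le_smul_of_le_jacobson_bot (I := I) Module.Finite.fg_top hIjac ?_
    intro m _
    obtain ⟨c, hc⟩ : ∃ c : ι → A, ∀ i, Ideal.Quotient.mk I (c i) = b.repr ((I • ⊤ : Submodule A M).mkQ m) i :=
      ⟨fun i => (Ideal.Quotient.mk_surjective (b.repr ((I • ⊤ : Submodule A M).mkQ m) i)).choose,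
        fun i => (Ideal.Quotient.mk_surjective (b.repr ((I • ⊤ : Submodule A M).mkQ m) i)).choose_spec⟩
    have h1 : (I • ⊤ : Submodule A M).mkQ (m - φ c) = 0 := by
      rw [map_sub, hφ, sub_eq_zero]
      simp_rw [hc]
      exact (b.sum_repr _).symm
    have h2 : m - φ c ∈ (I • ⊤ : Submodule A M) := by
      rwa [Submodule.mkQ_apply, Submodule.Quotient.mk_eq_zero] at h1
    have : m = φ c + (m - φ c) := by abel
    rw [this]
    exact Submodule.add_mem_sup (LinearMap.mem_range_self _ _) h2
  -- injectivity
  have hinj : Function.Injective φ := by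
    rw [← LinearMap.ker_eq_bot]
    refine Submodule.eq_bot_of_le_smul_of_le_jacobson_bot I _ (IsNoetherian.noetherian _) ?_ hIjac
    intro a ha
    rw [LinearMap.mem_ker] at ha
    have h0 : ∑ i, Ideal.Quotient.mk I (a i) • b i = 0 := by rw [← hφ, ha, map_zero]
    have h1 : ∀ i, Ideal.Quotient.mk I (a i) = 0 := by
      have := Fintype.linearIndependent_iff.mp b.linearIndependent _ h0
      exact this
    have h2 : ∀ i, ∃ c : A, a i = x * c := by
      intro i
      have := Ideal.Quotient.eq_zero_iff_mem.mp (h1 i)
      rw [hI, Ideal.mem_span_singleton'] at this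
      obtain ⟨c, hc⟩ := this
      exact ⟨c, by rw [← hc, mul_comm]⟩
    choose c hc using h2
    have hac : a = x • c := by
      funext i
      simp [hc i]
    have hck : c ∈ LinearMap.ker φ := by
      rw [LinearMap.mem_ker]
      apply hreg
      show x • φ c = x • 0
      rw [smul_zero, ← map_smul, ← hac, ha]
    rw [hac]
    exact Submodule.smul_mem_smul (Ideal.subset_span rfl) hck
  exact Module.Free.of_equiv (LinearEquiv.ofBijective φ ⟨hinj, hsurj⟩)

end F

section MCM

open Groth.Agent.Lib.Helper21

theorem free_of_le_depth_aux (n : ℕ) :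
    ∀ (A : Type u) [CommRing A] [IsRegularLocalRing A], ringKrullDim A = n →
      ∀ (M : Type u) [AddCommGroup M] [Module A M] [Module.Finite A M],
        (n : ℕ∞) ≤ LocCoh.depth A M → Module.Free A M := by
  induction n with
  | zero =>
    intro A _ _ hdim M _ _ _ _
    have h2 : ((maximalIdeal A).spanFinrank : WithBot ℕ∞) = ringKrullDim A :=
      IsRegularLocalRing.spanFinrank_maximalIdeal
    rw [hdim] at h2
    have h3 : (maximalIdeal A).spanFinrank = 0 := by exact_mod_cast h2
    have h4 : maximalIdeal A = ⊥ :=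
      (Submodule.spanFinrank_eq_zero_iff_eq_bot (maximalIdeal A).fg_of_isNoetherianRing).mp h3
    have hf : IsField A := IsLocalRing.isField_iff_maximalIdeal_eq.mpr h4
    let := hf.toField
    exact Module.Free.of_divisionRing A M
  | succ n ih =>
    intro A _ _ hdim M _ _ _ hdepth
    cases subsingleton_or_nontrivial M
    · exact Module.Free.of_subsingleton A M
    have hdom : IsDomain A := isDomain_of_isRegularLocalRing A
    have hnot : maximalIdeal A ∉ minimalPrimes A := by
      intro hmin
      have h0 : (maximalIdeal A).height = 0 := Ideal.height_eq_zero_iff.mpr hmin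
      have h1 := IsLocalRing.maximalIdeal_height_eq_ringKrullDim (R := A)
      rw [h0, hdim] at h1
      have : (0 : ℕ) = n + 1 := by exact_mod_cast h1
      omega
    obtain ⟨x, hx, hx2, hxn⟩ := exists_mem_maximalIdeal_notMem_sq_notMem_minimalPrimes hnot
    obtain ⟨hregA', hd⟩ := isRegularLocalRing_quotient_of_notMem_sq hx hx2 hxn
    have hdim' : ringKrullDim (A ⧸ Ideal.span {x}) = n := by
      obtain ⟨m, hm⟩ := exists_nat_eq_ringKrullDim (R := A ⧸ Ideal.span {x})
      rw [hm, hdim] at hd
      have : m + 1 = n + 1 := by exact_mod_cast hd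
      rw [hm]
      have : m = n := by omega
      exact_mod_cast this
    have hx0 : x ≠ 0 := by
      rintro rfl
      exact hx2 (zero_mem _)
    -- `x` is `M`-regular
    have hreg : IsSMulRegular M x := by
      have hass : ∀ p ∈ associatedPrimes A M, p = ⊥ := by
        intro p hp
        by_contra hne
        have hpp : p.IsPrime := IsAssociatedPrime.isPrime hp
        have hlt : (⊥ : Ideal A) < p := bot_lt_iff_ne_bot.mpr hne
        have h1 := depth_le_ringKrullDim_quotient M p hp
        have h2 := ringKrullDim_quotient_succ_le_of_lt hlt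
        rw [ringKrullDim_eq_of_ringEquiv (RingEquiv.quotientBot A), hdim] at h2
        have h3 : (((n + 1 : ℕ) : ℕ∞) : WithBot ℕ∞) ≤ ringKrullDim (A ⧸ p) :=
          (WithBot.coe_le_coe.mpr hdepth).trans h1
        have : IsLocalRing (A ⧸ p) :=
          isLocalRing_quotient_of_le_maximalIdeal (IsLocalRing.le_maximalIdeal hpp.ne_top)
        obtain ⟨m, hm⟩ := exists_nat_eq_ringKrullDim (R := A ⧸ p)
        rw [hm] at h2 h3
        have h2' : m + 1 ≤ n + 1 := by exact_mod_cast h2
        have h3' : n + 1 ≤ m := by exact_mod_cast h3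
        omega
      have hmem : x ∉ ⋃ p ∈ associatedPrimes A M, (p : Set A) := by
        simp only [Set.mem_iUnion, not_exists]
        intro p hp hxp
        rw [hass p hp] at hxp
        exact hx0 hxp
      rw [biUnion_associatedPrimes_eq_compl_regular A M] at hmem
      simpa using hmem
    -- the quotient
    have : IsLocalRing (A ⧸ Ideal.span {x}) := hregA'.toIsLocalRing
    have : IsLocalHom (algebraMap A (A ⧸ Ideal.span {x})) :=
      IsLocalHom.of_surjective _ Ideal.Quotient.mk_surjective
    have hfin' : Module.Finite (A ⧸ Ideal.span {x}) (M ⧸ (Ideal.span {x} • ⊤ : Submodule A M)) :=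
      Module.Finite.of_restrictScalars_finite A _ _
    have hdepth' : (n : ℕ∞) ≤
        LocCoh.depth (A ⧸ Ideal.span {x}) (M ⧸ (Ideal.span {x} • ⊤ : Submodule A M)) := by
      rw [← depth_eq_of_finite (A := A) (B := A ⧸ Ideal.span {x}),
        depth_congr (quotSpanSingletonEquiv x M)]
      have h := depth_quotSMulTop M hx hreg
      rw [← h] at hdepth
      push_cast at hdepth
      exact (ENat.add_le_add_iff_right ENat.one_ne_top).mp hdepth
    have := ih (A ⧸ Ideal.span {x}) hdim' (M ⧸ (Ideal.span {x} • ⊤ : Submodule A M)) hdepth'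
    exact free_of_free_quotient M x hx hreg

/-- a finite module over a regular local ring with `depth M ≥ dim A` is free. -/
theorem free_of_le_depth (A : Type u) [CommRing A] [IsRegularLocalRing A]
    (M : Type u) [AddCommGroup M] [Module A M] [Module.Finite A M]
    (h : ringKrullDim A ≤ ((LocCoh.depth A M : ℕ∞) : WithBot ℕ∞)) : Module.Free A M := by
  obtain ⟨n, hn⟩ := exists_nat_eq_ringKrullDim (R := A)
  refine free_of_le_depth_aux n A hn M ?_
  rw [hn] at h
  exact_mod_cast h

/-- a regular local ring has a regular sequence of length `dim A` in its maximal ideal -/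
theorem exists_isRegular_of_isRegularLocalRing (A : Type u) [CommRing A] [IsRegularLocalRing A]
    (n : ℕ) (hdim : ringKrullDim A = n) :
    ∃ rs : List A, rs.length = n ∧ RingTheory.Sequence.IsRegular A rs ∧
      ∀ r ∈ rs, r ∈ maximalIdeal A := by
  classical
  obtain ⟨s, hcard, hspan⟩ := Submodule.FG.exists_span_finset_card_eq_spanFinrank
    (maximalIdeal A).fg_of_isNoetherianRing
  have h2 : ((maximalIdeal A).spanFinrank : WithBot ℕ∞) = ringKrullDim A :=
    IsRegularLocalRing.spanFinrank_maximalIdeal
  rw [hdim] at h2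
  have h3 : (maximalIdeal A).spanFinrank = n := by exact_mod_cast h2
  rw [h3] at hcard
  let e : Fin n ≃ s := (Fintype.equivFinOfCardEq (by simpa using hcard)).symm
  let x : Fin n → A := fun i => (e i : A)
  have hrange : Set.range x = (s : Set A) := by
    ext y
    constructor
    · rintro ⟨i, rfl⟩
      exact (e i).2
    · intro hy
      exact ⟨e.symm ⟨y, hy⟩, by simp [x]⟩
  have hx : Ideal.span (Set.range x) = maximalIdeal A := by
    rw [hrange]
    exact hspan
  refine ⟨List.ofFn x, List.length_ofFn, isRegular_ofFn_of_span_eq_maximalIdeal n A hdim x hx, ?_⟩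
  intro r hr
  obtain ⟨i, rfl⟩ := (List.mem_ofFn' x r).mp hr
  rw [← hx]
  exact Ideal.subset_span ⟨i, rfl⟩

/-- a nonzero finite free module over a regular local ring has depth at least `dim A` -/
theorem ringKrullDim_le_depth_of_free (A : Type u) [CommRing A] [IsRegularLocalRing A]
    (M : Type u) [AddCommGroup M] [Module A M] [Module.Flat A M] :
    ringKrullDim A ≤ ((LocCoh.depth A M : ℕ∞) : WithBot ℕ∞) := by
  obtain ⟨n, hn⟩ := exists_nat_eq_ringKrullDim (R := A)
  obtain ⟨rs, hlen, hreg, hmem⟩ := exists_isRegular_of_isRegularLocalRing A n hn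
  rw [hn]
  have : (n : ℕ∞) ≤ LocCoh.depth A M := by
    unfold LocCoh.depth LocCoh.idealDepth
    split_ifs with h
    · exact le_top
    · have hw : RingTheory.Sequence.IsWeaklyRegular M rs := by
        have h1 : RingTheory.Sequence.IsWeaklyRegular (TensorProduct A A M) rs :=
          hreg.toIsWeaklyRegular.isWeaklyRegular_rTensor
        exact ((TensorProduct.lid A M).isWeaklyRegular_congr rs).mp h1
      rw [← hlen]
      exact le_iSup₂_of_le rs ⟨hw, hmem⟩ le_rfl
  exact_mod_cast this

end MCM

end Groth.Agent.Lib.Helper18.CM
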