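import Mathlib
import Groth.Agent.Lib.Helper18.SerreReg2
import Groth.Agent.Lib.Helper18.SerreNormal
import Groth.Agent.Lib.Helper18.MCMFree

set_option autoImplicit false
universe u

open IsLocalRing TensorProduct CategoryTheory

namespace Groth.Agent.Lib.Helper18.SerreReg

open Groth.Agent.Lib.Helper18.Serre Groth.Agent.Lib.Helper18.CM

theorem hasRk_of_isRegularLocalRing (k : ℕ) (A : Type u) [CommRing A] [IsRegularLocalRing A] :
    LocCoh.HasRk k A := fun p _ _ => isRegularLocalRing_localization_atPrime A p

theorem hasSk_of_isRegularLocalRing (k : ℕ) (A : Type u) [CommRing A] [IsRegularLocalRing A] :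
    LocCoh.HasSk k A A := by
  rw [hasSk_self_iff]
  intro p _
  have hreg := isRegularLocalRing_localization_atPrime A p
  refine le_trans (min_le_right _ _) ?_
  rw [← IsLocalization.AtPrime.ringKrullDim_eq_height p (Localization.AtPrime p)]
  exact ringKrullDim_le_depth_of_free (Localization.AtPrime p) (Localization.AtPrime p)

/-- a regular local ring is integrally closed -/
theorem isIntegrallyClosed_of_isRegularLocalRing (A : Type u) [CommRing A]
    [IsRegularLocalRing A] : IsIntegrallyClosed A := by
  have := Groth.Agent.Lib.Helper21.isDomain_of_isRegularLocalRing A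
  exact isIntegrallyClosed_of_isDomain_of_R1_S2 (hasRk_of_isRegularLocalRing 1 A)
    (hasSk_of_isRegularLocalRing 2 A)

end Groth.Agent.Lib.Helper18.SerreReg
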