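import Mathlib
import Groth.Prelude.Def_CAlg
import Groth.Prelude.Def_EGA4b
import Groth.Agent.Lib.Helper18.RkOpen
import Groth.Agent.Lib.Helper18.NormalFlat
import Groth.Agent.Lib.Helper18.SerreReg3

set_option autoImplicit false
set_option linter.unusedSectionVars false
universe u

open IsLocalRing Pointwise

namespace Groth.Agent.Lib.Helper18.NorOpen

open Groth.Agent.Lib.Helper18.CM Groth.Agent.Lib.Helper18.Serre Groth.Agent.Lib.Helper18.RkFlat

variable {A : Type u} [CommRing A] [IsNoetherianRing A]

/-- C1 -/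
theorem depth_localization_eq_zero_iff (Q : Ideal A) [Q.IsPrime] :
    LocCoh.depth (Localization.AtPrime Q) (Localization.AtPrime Q) = 0 ↔
      Q ∈ associatedPrimes A A := by
  rw [depth_eq_zero_iff]
  have h := Module.associatedPrimes.preimage_comap_associatedPrimes_eq_associatedPrimes_of_isLocalizedModule
    Q.primeCompl (R' := Localization.AtPrime Q) (Algebra.linearMap A (Localization.AtPrime Q))
  rw [← h, Set.mem_preimage]
  have h3 : (maximalIdeal (Localization.AtPrime Q)).under A = Q :=
    Localization.AtPrime.under_maximalIdeal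
  rw [← Ideal.under_def, h3]

/-- C2 -/
theorem isSMulRegular_localization_of_notMem (Q : Ideal A) [Q.IsPrime] (f : A)
    (hf : ∀ P ∈ associatedPrimes A A, P ≤ Q → f ∉ P) :
    IsSMulRegular (Localization.AtPrime Q) (algebraMap A (Localization.AtPrime Q) f) := by
  by_contra hnreg
  have hmem : algebraMap A (Localization.AtPrime Q) f ∈
      ({r : Localization.AtPrime Q | IsSMulRegular (Localization.AtPrime Q) r}ᶜ : Set _) := hnreg
  rw [← biUnion_associatedPrimes_eq_compl_regular (Localization.AtPrime Q)
    (Localization.AtPrime Q)] at hmem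
  simp only [Set.mem_iUnion, SetLike.mem_coe, exists_prop] at hmem
  obtain ⟨P', hP', hfP'⟩ := hmem
  have h := Module.associatedPrimes.preimage_comap_associatedPrimes_eq_associatedPrimes_of_isLocalizedModule
    Q.primeCompl (R' := Localization.AtPrime Q) (Algebra.linearMap A (Localization.AtPrime Q))
  rw [← h, Set.mem_preimage] at hP'
  have hP'prime : P'.IsPrime := by
    have := IsAssociatedPrime.isPrime hP'
    exact (IsLocalization.isPrime_iff_isPrime_disjoint Q.primeCompl _ P').mpr
      ⟨this, (IsLocalization.disjoint_under_iff Q.primeCompl _ P').mpr (fun htop => by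
        rw [htop, Ideal.comap_top] at this
        exact this.ne_top rfl)⟩
  exact hf _ hP' (comap_le_of_isPrime Q P') hfP'

/-- C3 (KEY) -/
theorem mem_associatedPrimes_quotient_of_depth_eq_one (Q : Ideal A) [Q.IsPrime] (f : A)
    (hfQ : f ∈ Q)
    (hreg : IsSMulRegular (Localization.AtPrime Q) (algebraMap A (Localization.AtPrime Q) f))
    (hd : LocCoh.depth (Localization.AtPrime Q) (Localization.AtPrime Q) = 1) :
    Q ∈ associatedPrimes A (A ⧸ Ideal.span {f}) := by
  set S := Localization.AtPrime Q with hS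
  set f' : S := algebraMap A S f with hf'
  have hf'm : f' ∈ maximalIdeal S := by
    have h3 : (maximalIdeal S).under A = Q := Localization.AtPrime.under_maximalIdeal
    have h4 : f ∈ (maximalIdeal S).under A := by
      rw [h3]
      exact hfQ
    exact h4
  have h1 := depth_quotSMulTop S hf'm hreg
  rw [hd] at h1
  have h2 : LocCoh.depth S (QuotSMulTop f' S) = 0 := by
    have h0 : LocCoh.depth S (QuotSMulTop f' S) + 1 = 0 + 1 := by rw [h1, zero_add]
    exact (ENat.add_left_injective_of_ne_top ENat.one_ne_top) h0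
  have hloc : (Ideal.span {f} : Submodule A A).localized' S Q.primeCompl
      (Algebra.linearMap A S) = (f' • ⊤ : Submodule S S) := by
    change (Submodule.span A {f}).localized' S Q.primeCompl (Algebra.linearMap A S) = _
    rw [Submodule.localized'_span, Set.image_singleton, Algebra.linearMap_apply]
    ext x
    rw [Submodule.mem_span_singleton, Submodule.mem_smul_pointwise_iff_exists]
    constructor
    · rintro ⟨a, rfl⟩
      exact ⟨a, trivial, by rw [smul_eq_mul, smul_eq_mul, mul_comm]⟩
    · rintro ⟨a, -, rfl⟩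
      exact ⟨a, by rw [smul_eq_mul, smul_eq_mul, mul_comm]⟩
  have h3 : LocCoh.depth S (S ⧸ (Ideal.span {f} : Submodule A A).localized' S Q.primeCompl
      (Algebra.linearMap A S)) = 0 := by
    rw [← h2]
    exact depth_congr (Submodule.quotEquivOfEq _ _ hloc)
  rw [depth_eq_zero_iff] at h3
  have h4 := Module.associatedPrimes.comap_mem_associatedPrimes_of_mem_associatedPrimes_of_isLocalizedModule_of_fg
    Q.primeCompl ((Ideal.span {f} : Submodule A A).toLocalizedQuotient' S Q.primeCompl
      (Algebra.linearMap A S)) (maximalIdeal S) h3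
    ((isNoetherianRing_iff_ideal_fg A).mp inferInstance _)
  have h5 : (maximalIdeal S).under A = Q := Localization.AtPrime.under_maximalIdeal
  rw [← Ideal.under_def, h5] at h4
  exact h4

/-- (P1) -/
theorem normal_localization_iff_R1_S2 (p : Ideal A) [p.IsPrime] :
    (IsDomain (Localization.AtPrime p) ∧ IsIntegrallyClosed (Localization.AtPrime p)) ↔
      (LocCoh.HasRk 1 (Localization.AtPrime p) ∧
        LocCoh.HasSk 2 (Localization.AtPrime p) (Localization.AtPrime p)) := by
  constructor
  · rintro ⟨hd, hic⟩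
    apply (serre_criterion_normal (Localization.AtPrime p)).mp
    intro P' _
    exact ⟨IsLocalization.isDomain_of_atPrime _ P',
      isIntegrallyClosed_of_isLocalization _ P'.primeCompl
        (Ideal.primeCompl_le_nonZeroDivisors _)⟩
  · rintro ⟨h1, h2⟩
    have hdom := isDomain_of_isLocalRing_of_R1_S2 h1 h2
    exact ⟨hdom, isIntegrallyClosed_of_isDomain_of_R1_S2 h1 h2⟩

/-- (P3) -/
theorem hasSk_localization_iff (p : Ideal A) [p.IsPrime] (k : ℕ) :
    LocCoh.HasSk k (Localization.AtPrime p) (Localization.AtPrime p) ↔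
      ∀ (Q : Ideal A) [Q.IsPrime], Q ≤ p →
        min (k : WithBot ℕ∞) (Q.height : WithBot ℕ∞) ≤
          ((LocCoh.depth (Localization.AtPrime Q) (Localization.AtPrime Q) : ℕ∞) :
            WithBot ℕ∞) := by
  constructor
  · intro h Q _ hQp
    rw [hasSk_self_iff] at h
    have hP' := isPrime_map_of_le p Q hQp
    have hht := IsLocalization.height_map_of_disjoint (S := Localization.AtPrime p) p.primeCompl Q
      (disjoint_primeCompl_of_le p hQp)
    have h1 := h (Q.map (algebraMap A (Localization.AtPrime p)))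
    obtain ⟨e⟩ := nonempty_locEquiv_of_le p Q hQp
    rw [hht, depth_self_eq_of_ringEquiv e] at h1
    exact h1
  · exact hasSk_localization_of_forall p k

/-- the local condition at `Q` appearing in Serre's criterion -/
def Good (Q : Ideal A) [Q.IsPrime] : Prop :=
  (Q.height ≤ (1 : ℕ) → IsRegularLocalRing (Localization.AtPrime Q)) ∧
    min ((2 : ℕ) : WithBot ℕ∞) (Q.height : WithBot ℕ∞) ≤
      ((LocCoh.depth (Localization.AtPrime Q) (Localization.AtPrime Q) : ℕ∞) : WithBot ℕ∞)

theorem normal_localization_iff_forall_good (p : Ideal A) [p.IsPrime] :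
    (IsDomain (Localization.AtPrime p) ∧ IsIntegrallyClosed (Localization.AtPrime p)) ↔
      ∀ (Q : Ideal A) [Q.IsPrime], Q ≤ p → Good Q := by
  rw [normal_localization_iff_R1_S2, hasRk_localization_iff, hasSk_localization_iff]
  constructor
  · rintro ⟨h1, h2⟩ Q _ hQp
    exact ⟨fun hk => h1 Q hQp hk, h2 Q hQp⟩
  · intro h
    exact ⟨fun Q _ hQp hk => (h Q hQp).1 hk, fun Q _ hQp => (h Q hQp).2⟩

theorem isOpen_norLocus_of_finite (F₀ : Set (Ideal A)) (hF : F₀.Finite)
    (h : ∀ (Q : Ideal A) [Q.IsPrime], ¬ Good Q →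
      ∃ Q₀ ∈ F₀, ∃ _ : Q₀.IsPrime, Q₀ ≤ Q ∧ ¬ Good Q₀) :
    IsOpen (EGA4.norLocus A) := by
  apply isOpen_of_finite_bad {Q₀ | Q₀ ∈ F₀ ∧ ∃ _ : Q₀.IsPrime, ¬ Good Q₀}
    (hF.subset (fun Q hQ => hQ.1))
  intro p
  unfold EGA4.norLocus
  simp only [Set.mem_ofPred_eq]
  rw [normal_localization_iff_forall_good]
  constructor
  · rintro hgood Q₀ ⟨-, hQ₀p, hQ₀bad⟩ hle
    exact hQ₀bad (hgood Q₀ hle)
  · intro hbad Q _ hQp
    by_contra hQbad
    obtain ⟨Q₀, hQ₀F, hQ₀p, hQ₀Q, hQ₀bad⟩ := h Q hQbad
    exact hbad Q₀ ⟨hQ₀F, hQ₀p, hQ₀bad⟩ (hQ₀Q.trans hQp)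

theorem good_of_isRegularLocalRing (Q : Ideal A) [Q.IsPrime]
    (h : IsRegularLocalRing (Localization.AtPrime Q)) : Good Q := by
  refine ⟨fun _ => h, ?_⟩
  have h2 := Groth.Agent.Lib.Helper18.SerreReg.hasSk_of_isRegularLocalRing 2
    (Localization.AtPrime Q)
  have h3 : (maximalIdeal (Localization.AtPrime Q)).under A = Q :=
    Localization.AtPrime.under_maximalIdeal
  rw [hasSk_self_iff] at h2
  have h4 := h2 (maximalIdeal (Localization.AtPrime Q))
  rw [← IsLocalization.height_under Q.primeCompl, h3] at h4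
  have e : LocCoh.depth (Localization.AtPrime (maximalIdeal (Localization.AtPrime Q)))
      (Localization.AtPrime (maximalIdeal (Localization.AtPrime Q))) =
      LocCoh.depth (Localization.AtPrime Q) (Localization.AtPrime Q) := by
    let e0 : Localization.AtPrime Q ≃ₐ[Localization.AtPrime Q]
        (Localization.AtPrime (maximalIdeal (Localization.AtPrime Q))) :=
      IsLocalization.atUnits (Localization.AtPrime Q)
        (maximalIdeal (Localization.AtPrime Q)).primeCompl (fun x ↦ by simpa using! fun a ↦ a)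
    exact (depth_self_eq_of_ringEquiv e0.toRingEquiv).symm
  rw [e] at h4
  exact h4

theorem isOpen_norLocus_of_isOpen_regLocus (h : IsOpen (EGA4.regLocus A)) :
    IsOpen (EGA4.norLocus A) := by
  classical
  set Z : Set (PrimeSpectrum A) := (EGA4.regLocus A)ᶜ with hZ
  have hZc : IsClosed Z := h.isClosed_compl
  set I : Ideal A := PrimeSpectrum.vanishingIdeal Z with hI
  have hZI : PrimeSpectrum.zeroLocus (I : Set A) = Z := by
    rw [hI, PrimeSpectrum.zeroLocus_vanishingIdeal_eq_closure, hZc.closure_eq]
  have hreg_iff : ∀ (Q : Ideal A) [Q.IsPrime],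
      IsRegularLocalRing (Localization.AtPrime Q) ↔ ¬ I ≤ Q := by
    intro Q _
    have h1 : (⟨Q, inferInstance⟩ : PrimeSpectrum A) ∈ Z ↔ I ≤ Q := by
      rw [← hZI, PrimeSpectrum.mem_zeroLocus]
      exact SetLike.coe_subset_coe
    rw [← h1, hZ, Set.mem_compl_iff, not_not]
    rfl
  have hfin : (associatedPrimes A A).Finite := associatedPrimes.finite A A
  -- prime avoidance
  have hex : ∃ f ∈ I, ∀ P ∈ associatedPrimes A A, ¬ I ≤ P → f ∉ P := by
    by_contra hcon
    push Not at hcon
    set s : Finset (Ideal A) := hfin.toFinset.filter (fun P => ¬ I ≤ P) with hs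
    have hsub : ((I : Ideal A) : Set A) ⊆
        ⋃ i ∈ (↑s : Set (Ideal A)), ((id i : Ideal A) : Set A) := by
      intro y hy
      simp only [Set.mem_iUnion, SetLike.mem_coe, exists_prop]
      obtain ⟨P, hP, hIP, hyP⟩ := hcon y hy
      exact ⟨P, by simp [hs, hP, hIP], hyP⟩
    by_cases hne : s.Nonempty
    · obtain ⟨a, ha⟩ := hne
      rw [Ideal.subset_union_prime a a] at hsub
      · obtain ⟨i, hi, hle⟩ := hsub
        simp only [hs, Finset.mem_filter, Set.Finite.mem_toFinset] at hi
        exact hi.2 hle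
      · intro i hi _ _
        simp only [hs, Finset.mem_filter, Set.Finite.mem_toFinset] at hi
        exact IsAssociatedPrime.isPrime hi.1
    · rw [Finset.not_nonempty_iff_eq_empty] at hne
      rw [hne] at hsub
      simp only [Finset.coe_empty, Set.mem_empty_iff_false, Set.iUnion_of_empty,
        Set.iUnion_empty, Set.subset_empty_iff] at hsub
      have : (0 : A) ∈ (I : Set A) := I.zero_mem
      rw [hsub] at this
      exact this
  obtain ⟨f, hfI, hf⟩ := hex
  apply isOpen_norLocus_of_finite
    (associatedPrimes A A ∪ I.minimalPrimes ∪ associatedPrimes A (A ⧸ Ideal.span {f}))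
    ((hfin.union (Ideal.finite_minimalPrimes_of_isNoetherianRing A I)).union
      (associatedPrimes.finite A _))
  intro Q _ hQbad
  by_cases hE : ∃ P ∈ associatedPrimes A A, ∃ _ : P.IsPrime, P ≤ Q ∧ ¬ Good P
  · obtain ⟨P, hP, hPp, hPQ, hPbad⟩ := hE
    exact ⟨P, Or.inl (Or.inl hP), hPp, hPQ, hPbad⟩
  · push Not at hE
    by_cases ha : Q.height ≤ (1 : ℕ) → IsRegularLocalRing (Localization.AtPrime Q)
    · -- (S2) fails
      have hb : ¬ min ((2 : ℕ) : WithBot ℕ∞) (Q.height : WithBot ℕ∞) ≤
          ((LocCoh.depth (Localization.AtPrime Q) (Localization.AtPrime Q) : ℕ∞) :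
            WithBot ℕ∞) := fun hb => hQbad ⟨ha, hb⟩
      by_cases hd0 : LocCoh.depth (Localization.AtPrime Q) (Localization.AtPrime Q) = 0
      · exact ⟨Q, Or.inl (Or.inl ((depth_localization_eq_zero_iff Q).mp hd0)), inferInstance,
          le_rfl, hQbad⟩
      · have hd1 : LocCoh.depth (Localization.AtPrime Q) (Localization.AtPrime Q) = 1 := by
          have e2 : ((2 : ℕ) : WithBot ℕ∞) = ((2 : ℕ∞) : WithBot ℕ∞) := rfl
          rw [e2, ← WithBot.coe_min, WithBot.coe_le_coe, not_le] at hb
          have hlt2 : LocCoh.depth (Localization.AtPrime Q) (Localization.AtPrime Q) < 2 :=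
            lt_of_lt_of_le hb (min_le_left _ _)
          have h1le : 1 ≤ LocCoh.depth (Localization.AtPrime Q) (Localization.AtPrime Q) :=
            Order.one_le_iff_pos.mpr (pos_iff_ne_zero.mpr hd0)
          have h2 : LocCoh.depth (Localization.AtPrime Q) (Localization.AtPrime Q) ≤ 1 := by
            obtain ⟨n, hn⟩ := ENat.ne_top_iff_exists.mp (ne_top_of_lt hlt2)
            rw [← hn] at hlt2 ⊢
            have hn2 : n < 2 := by exact_mod_cast hlt2
            exact_mod_cast (by omega : n ≤ 1)
          exact le_antisymm h2 h1le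
        have hnreg : ¬ IsRegularLocalRing (Localization.AtPrime Q) :=
          fun hreg => hb (good_of_isRegularLocalRing Q hreg).2
        have hIQ : I ≤ Q := by
          by_contra hIQ
          exact hnreg ((hreg_iff Q).mpr hIQ)
        have hfreg : IsSMulRegular (Localization.AtPrime Q)
            (algebraMap A (Localization.AtPrime Q) f) := by
          apply isSMulRegular_localization_of_notMem
          intro P hP hPQ
          have hPp : P.IsPrime := IsAssociatedPrime.isPrime hP
          have hgood := hE P hP hPp hPQ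
          have hdP : LocCoh.depth (Localization.AtPrime P) (Localization.AtPrime P) = 0 :=
            (depth_localization_eq_zero_iff P).mpr hP
          have h2 := hgood.2
          rw [hdP] at h2
          have hht0 : P.height ≤ (1 : ℕ) := by
            have e2 : ((2 : ℕ) : WithBot ℕ∞) = ((2 : ℕ∞) : WithBot ℕ∞) := rfl
            rw [e2, ← WithBot.coe_min, WithBot.coe_le_coe] at h2
            rcases le_total (2 : ℕ∞) P.height with h | h
            · rw [min_eq_left h] at h2
              simp at h2
            · rw [min_eq_right h] at h2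
              exact h2.trans (by simp)
          exact hf P hP ((hreg_iff P).mp (hgood.1 hht0))
        exact ⟨Q, Or.inr (mem_associatedPrimes_quotient_of_depth_eq_one Q f (hIQ hfI) hfreg hd1),
          inferInstance, le_rfl, hQbad⟩
    · -- (R1) fails
      push Not at ha
      obtain ⟨hht, hnreg⟩ := ha
      have hIQ : I ≤ Q := by
        by_contra hIQ
        exact hnreg ((hreg_iff Q).mpr hIQ)
      obtain ⟨Q', hQ'min, hQ'le⟩ := Ideal.exists_minimalPrimes_le hIQ
      have hQ'p : Q'.IsPrime := hQ'min.1.1
      refine ⟨Q', Or.inl (Or.inr hQ'min), hQ'p, hQ'le, ?_⟩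
      intro hgood
      have := hgood.1 ((Ideal.height_mono hQ'le).trans hht)
      exact (hreg_iff Q').mp this hQ'min.1.2

end Groth.Agent.Lib.Helper18.NorOpen
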