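import Mathlib
import Groth.Prelude.Def_CAlg
import Groth.Agent.Lib.Helper18.CM4
import Groth.Agent.Lib.Helper16.ExtVanish

set_option autoImplicit false
set_option linter.unusedSectionVars false
universe u

open IsLocalRing CategoryTheory CategoryTheory.Abelian Pointwise

namespace Groth.Agent.Lib.Helper18.CM

section ischebeck

open Groth.Agent.Lib.Helper16.Depth

variable {A : Type u} [CommRing A] [IsLocalRing A] [IsNoetherianRing A]
  (M : Type u) [AddCommGroup M] [Module A M] [Module.Finite A M]

theorem ischebeck_aux (d : ℕ) (hd : (d : ℕ∞) ≤ LocCoh.depth A M) (r : ℕ) :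
    ∀ (N : Type u) [AddCommGroup N] [Module A N] [Module.Finite A N],
      Module.supportDim A N ≤ (r : WithBot ℕ∞) → ∀ i : ℕ, i + r < d →
      Subsingleton (Ext.{u} (ModuleCat.of A N) (ModuleCat.of A M) i) := by
  induction r using Nat.strong_induction_on with
  | _ r ih =>
    intro N _ _ _ hN i hi
    refine subsingleton_ext_of_forall_prime (ModuleCat.of A M) i (Module.support A N) ?_ N le_rfl
    intro p hp
    have hpdim : ringKrullDim (A ⧸ p.asIdeal) ≤ (r : WithBot ℕ∞) :=
      (ringKrullDim_quotient_le_supportDim_of_mem_support N p hp).trans hN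
    by_cases hpm : p.asIdeal = maximalIdeal A
    · rw [hpm]
      apply subsingleton_ext_of_lt_idealDepth
      refine lt_of_lt_of_le ?_ hd
      exact_mod_cast (by omega : i < d)
    have hlt : p.asIdeal < maximalIdeal A :=
      lt_of_le_of_ne (IsLocalRing.le_maximalIdeal p.isPrime.ne_top) hpm
    obtain ⟨x, hxm, hxp⟩ := Set.exists_of_ssubset hlt
    let L : ModuleCat.{u} A := ModuleCat.of A (A ⧸ p.asIdeal)
    have reg : IsSMulRegular L x := by
      intro a b hab
      have : Ideal.Quotient.mk p.asIdeal x * a = Ideal.Quotient.mk p.asIdeal x * b := hab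
      have hx0 : Ideal.Quotient.mk p.asIdeal x ≠ 0 := by
        rwa [Ne, Ideal.Quotient.eq_zero_iff_mem]
      have hdom : IsDomain (A ⧸ p.asIdeal) := Ideal.Quotient.isDomain p.asIdeal
      exact mul_left_cancel₀ hx0 this
    let S := L.smulShortComplex x
    have hS : S.ShortExact := reg.smulShortComplex_shortExact
    have hfin : Module.Finite A (QuotSMulTop x L) := inferInstance
    have hntL : Nontrivial (A ⧸ p.asIdeal) := Ideal.Quotient.nontrivial_iff.mpr p.isPrime.ne_top
    have hnt : Nontrivial (QuotSMulTop x (A ⧸ p.asIdeal)) := nontrivial_quotSMulTop _ hxm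
    have hdim1 := Module.supportDim_quotSMulTop_succ_eq_supportDim
      (M := A ⧸ p.asIdeal) reg hxm
    rw [Module.supportDim_quotient_eq_ringKrullDim] at hdim1
    obtain ⟨b, hb⟩ := exists_nat_eq_supportDim (R := A) (QuotSMulTop x (A ⧸ p.asIdeal))
    rw [hb] at hdim1
    rw [← hdim1] at hpdim
    have hbr : b + 1 ≤ r := by exact_mod_cast hpdim
    have zero : Subsingleton (Ext S.X₃ (ModuleCat.of A M) (i + 1)) := by
      refine ih (r - 1) (by omega) (QuotSMulTop x (A ⧸ p.asIdeal)) ?_ (i + 1) (by omega)
      rw [hb]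
      exact_mod_cast (by omega : b ≤ r - 1)
    have exac := Ext.contravariant_sequence_exact₁' hS (ModuleCat.of A M) i (i + 1) (add_comm 1 i)
    have epi := exac.epi_f ((@AddCommGrpCat.isZero_of_subsingleton _ zero).eq_zero_of_tgt _)
    have hSf : S.f = x • 𝟙 L := rfl
    simp only [S, hSf, AddCommGrpCat.epi_iff_surjective, AddCommGrpCat.hom_ofHom] at epi
    by_contra! ntr
    have hxj : x ∈ (Module.annihilator A (Ext L (ModuleCat.of A M) i)).jacobson :=
      (IsLocalRing.maximalIdeal_le_jacobson _) hxm
    absurd Submodule.top_ne_pointwise_smul_of_mem_jacobson_annihilator hxj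
    rw [eq_comm, eq_top_iff]
    intro y hy
    have epi' : ∀ y : Ext L (ModuleCat.of A M) i, ∃ z : Ext L (ModuleCat.of A M) i,
        (Ext.mk₀ (x • 𝟙 L)).comp z (zero_add i) = y := fun y => epi y
    rcases epi' y with ⟨z, hz⟩
    have hz' : x • z = y := by
      rw [← hz, Ext.mk₀_smul, Ext.smul_comp, Ext.mk₀_id_comp]
    rw [← hz']
    exact Submodule.smul_mem_pointwise_smul _ _ ⊤ trivial

end ischebeck

end Groth.Agent.Lib.Helper18.CM
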