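import Mathlib
import Groth.Prelude.Def_CAlg
import Groth.Agent.Lib.Helper18.CM5
import Groth.Agent.Lib.Helper18.Ischebeck

set_option autoImplicit false
set_option linter.unusedSectionVars false
universe u

open IsLocalRing CategoryTheory CategoryTheory.Abelian Pointwise RingTheory.Sequence

namespace Groth.Agent.Lib.Helper18.CM

section codepth

open Groth.Agent.Lib.Helper16.Depth

variable {A : Type u} [CommRing A] [IsLocalRing A] [IsNoetherianRing A]
  (M : Type u) [AddCommGroup M] [Module A M] [Module.Finite A M]
  (p : Ideal A) [hp : p.IsPrime]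

/-- grade of `p` on `M` is at most the depth of `M_p` -/
theorem idealDepth_le_depth_localizedModule
    [Nontrivial (LocalizedModule p.primeCompl M)] :
    LocCoh.idealDepth p M ≤
      LocCoh.depth (Localization.AtPrime p) (LocalizedModule p.primeCompl M) := by
  rw [← ENat.forall_natCast_le_iff_le]
  intro n hn
  rw [le_idealDepth_iff] at hn
  unfold LocCoh.depth
  rw [le_idealDepth_iff]
  right
  rcases hn with hn | ⟨rs, hlen, hreg, hmem⟩
  · exfalso
    have hntM : Nontrivial M := by
      by_contra hcon
      rw [not_nontrivial_iff_subsingleton] at hcon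
      have : Subsingleton (LocalizedModule p.primeCompl M) := inferInstance
      exact not_subsingleton _ this
    exact smul_top_ne_top_of_ne_top M p hp.ne_top hn
  · refine ⟨rs.map (algebraMap A (Localization.AtPrime p)), by simpa using hlen, ?_, ?_⟩
    · exact IsWeaklyRegular.of_isLocalizedModule (Localization.AtPrime p) p.primeCompl
        (LocalizedModule.mkLinearMap p.primeCompl M) hreg
    · intro r hr
      obtain ⟨a, ha, rfl⟩ := List.mem_map.mp hr
      exact (IsLocalization.AtPrime.to_map_mem_maximal_iff (Localization.AtPrime p) p a).mpr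
        (hmem a ha)

/-- `dim M_p + dim A/p ≤ dim M` for `p ∈ Supp M` -/
theorem supportDim_localizedModule_add_le
    (hsupp : (⟨p, hp⟩ : PrimeSpectrum A) ∈ Module.support A M) :
    Module.supportDim (Localization.AtPrime p) (LocalizedModule p.primeCompl M) +
      ringKrullDim (A ⧸ p) ≤ Module.supportDim A M := by
  let a : Module.support A M := ⟨⟨p, hp⟩, hsupp⟩
  have : Nonempty (Module.support A M) := ⟨a⟩
  have h1 : ((Order.height a + Order.coheight a : ℕ∞) : WithBot ℕ∞) ≤ Module.supportDim A M := by
    unfold Module.supportDim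
    rw [Order.krullDim_eq_iSup_height_add_coheight_of_nonempty, WithBot.coe_le_coe]
    exact le_iSup (fun a : Module.support A M => Order.height a + Order.coheight a) a
  refine le_trans ?_ h1
  rw [WithBot.coe_add, Order.height_eq_krullDim_Iic, Order.coheight_eq_krullDim_Ici]
  refine add_le_add ?_ ?_
  · -- `Supp M_p → Iic a`
    unfold Module.supportDim
    let f : Module.support (Localization.AtPrime p) (LocalizedModule p.primeCompl M) →
        Set.Iic a := fun Q =>
      ⟨⟨PrimeSpectrum.comap (algebraMap A (Localization.AtPrime p)) Q.1,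
        Module.mem_support_iff_of_finite.mpr
          (annihilator_le_comap_of_mem_support_localizedModule p M Q.1 Q.2)⟩, by
        change (PrimeSpectrum.comap (algebraMap A (Localization.AtPrime p)) Q.1).asIdeal ≤ p
        intro x hx
        by_contra hxp
        have hu : IsUnit (algebraMap A (Localization.AtPrime p) x) :=
          IsLocalization.map_units (Localization.AtPrime p) (⟨x, hxp⟩ : p.primeCompl)
        exact Q.1.isPrime.ne_top (Ideal.eq_top_of_isUnit_mem _ hx hu)⟩
    refine Order.krullDim_le_of_strictMono f ?_
    intro Q Q' hlt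
    have hle : Q.1.asIdeal ≤ Q'.1.asIdeal := (PrimeSpectrum.asIdeal_le_asIdeal _ _).mpr hlt.le
    refine lt_of_le_of_ne ?_ ?_
    · change (PrimeSpectrum.comap _ Q.1).asIdeal ≤ (PrimeSpectrum.comap _ Q'.1).asIdeal
      exact Ideal.comap_mono hle
    · intro heq
      have h2 : PrimeSpectrum.comap (algebraMap A (Localization.AtPrime p)) Q.1 =
          PrimeSpectrum.comap (algebraMap A (Localization.AtPrime p)) Q'.1 := by
        have := congrArg (fun z : Set.Iic a => (z.1.1 : PrimeSpectrum A)) heq
        exact this
      have h3 := PrimeSpectrum.localization_comap_injective (Localization.AtPrime p) p.primeCompl h2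
      exact hlt.ne (Subtype.ext h3)
  · -- `Spec A/p → Ici a`
    unfold ringKrullDim
    let g : PrimeSpectrum (A ⧸ p) → Set.Ici a := fun P =>
      ⟨⟨PrimeSpectrum.comap (Ideal.Quotient.mk p) P, by
        refine Module.mem_support_mono ?_ hsupp
        change p ≤ (PrimeSpectrum.comap (Ideal.Quotient.mk p) P).asIdeal
        intro x hx
        change Ideal.Quotient.mk p x ∈ P.asIdeal
        rw [Ideal.Quotient.eq_zero_iff_mem.mpr hx]
        exact zero_mem _⟩, by
        change p ≤ (PrimeSpectrum.comap (Ideal.Quotient.mk p) P).asIdeal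
        intro x hx
        change Ideal.Quotient.mk p x ∈ P.asIdeal
        rw [Ideal.Quotient.eq_zero_iff_mem.mpr hx]
        exact zero_mem _⟩
    refine Order.krullDim_le_of_strictMono g ?_
    intro P P' hlt
    have hle : P.asIdeal ≤ P'.asIdeal := (PrimeSpectrum.asIdeal_le_asIdeal _ _).mpr hlt.le
    refine lt_of_le_of_ne ?_ ?_
    · change (PrimeSpectrum.comap _ P).asIdeal ≤ (PrimeSpectrum.comap _ P').asIdeal
      exact Ideal.comap_mono hle
    · intro heq
      have h2 : PrimeSpectrum.comap (Ideal.Quotient.mk p) P =
          PrimeSpectrum.comap (Ideal.Quotient.mk p) P' := by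
        have := congrArg (fun z : Set.Ici a => (z.1.1 : PrimeSpectrum A)) heq
        exact this
      have h3 := PrimeSpectrum.comap_injective_of_surjective (Ideal.Quotient.mk p)
        Ideal.Quotient.mk_surjective h2
      exact hlt.ne h3

/-- `depth M ≤ depth M_p + dim A/p` for `p ∈ Supp M` -/
theorem depth_le_depth_localizedModule_add [Nontrivial (LocalizedModule p.primeCompl M)] :
    ((LocCoh.depth A M : ℕ∞) : WithBot ℕ∞) ≤
      ((LocCoh.depth (Localization.AtPrime p) (LocalizedModule p.primeCompl M) : ℕ∞) :
        WithBot ℕ∞) + ringKrullDim (A ⧸ p) := by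
  have hntM : Nontrivial M := by
    by_contra hcon
    rw [not_nontrivial_iff_subsingleton] at hcon
    have : Subsingleton (LocalizedModule p.primeCompl M) := inferInstance
    exact not_subsingleton _ this
  have hloc : IsLocalRing (A ⧸ p) :=
    IsLocalRing.of_surjective' (Ideal.Quotient.mk p) Ideal.Quotient.mk_surjective
  obtain ⟨d, hd⟩ := ENat.ne_top_iff_exists.mp (depth_ne_top (R := A) M)
  obtain ⟨t, ht⟩ := ENat.ne_top_iff_exists.mp
    (depth_ne_top (R := Localization.AtPrime p) (LocalizedModule p.primeCompl M))
  have hntq : Nontrivial (A ⧸ p) := Ideal.Quotient.nontrivial_iff.mpr hp.ne_top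
  obtain ⟨r, hr⟩ := exists_nat_eq_supportDim (R := A) (A ⧸ p)
  rw [Module.supportDim_quotient_eq_ringKrullDim] at hr
  rw [← hd, ← ht, hr]
  have key : ((d - r : ℕ) : ℕ∞) ≤ LocCoh.idealDepth p M := by
    rw [le_idealDepth_iff_ext']
    intro i hi
    refine ischebeck_aux M d hd.le r (A ⧸ p) ?_ i (by omega)
    rw [Module.supportDim_quotient_eq_ringKrullDim, hr]
  have h2 := key.trans (idealDepth_le_depth_localizedModule M p)
  rw [← ht] at h2
  have h3 : d - r ≤ t := by exact_mod_cast h2
  have h4 : d ≤ t + r := by omega
  exact_mod_cast h4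

/-- codepth does not increase under localization (EGA 0_IV 16.4.10) -/
theorem codepth_localizedModule_le [Nontrivial (LocalizedModule p.primeCompl M)] :
    Module.supportDim (Localization.AtPrime p) (LocalizedModule p.primeCompl M) +
        ((LocCoh.depth A M : ℕ∞) : WithBot ℕ∞) ≤
      Module.supportDim A M +
        ((LocCoh.depth (Localization.AtPrime p) (LocalizedModule p.primeCompl M) : ℕ∞) :
          WithBot ℕ∞) := by
  have hsupp : (⟨p, hp⟩ : PrimeSpectrum A) ∈ Module.support A M :=
    Module.mem_support_iff.mpr ‹_›
  have h1 := depth_le_depth_localizedModule_add M p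
  have h2 := supportDim_localizedModule_add_le M p hsupp
  calc Module.supportDim (Localization.AtPrime p) (LocalizedModule p.primeCompl M) +
        ((LocCoh.depth A M : ℕ∞) : WithBot ℕ∞)
      ≤ Module.supportDim (Localization.AtPrime p) (LocalizedModule p.primeCompl M) +
        (((LocCoh.depth (Localization.AtPrime p) (LocalizedModule p.primeCompl M) : ℕ∞) :
        WithBot ℕ∞) + ringKrullDim (A ⧸ p)) := add_le_add le_rfl h1
    _ = (Module.supportDim (Localization.AtPrime p) (LocalizedModule p.primeCompl M) +
        ringKrullDim (A ⧸ p)) +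
        ((LocCoh.depth (Localization.AtPrime p) (LocalizedModule p.primeCompl M) : ℕ∞) :
        WithBot ℕ∞) := by rw [add_assoc, add_comm (ringKrullDim (A ⧸ p))]
    _ ≤ _ := add_le_add h2 le_rfl

end codepth

end Groth.Agent.Lib.Helper18.CM
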