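import Mathlib
import Groth.Prelude.Def_CAlg
import Groth.Agent.Lib.Helper18.NorOpen
import Groth.Agent.Lib.Helper18.Codepth
import Groth.Agent.Lib.Helper18.CM9

set_option autoImplicit false
set_option linter.unusedSectionVars false
universe u

open IsLocalRing Pointwise

namespace Groth.Agent.Lib.Helper18.SkLift

open Groth.Agent.Lib.Helper18.CM Groth.Agent.Lib.Helper18.Serre Groth.Agent.Lib.Helper18.RkFlat
  Groth.Agent.Lib.Helper21

section localstep

variable (R : Type u) [CommRing R] [IsLocalRing R] [IsNoetherianRing R]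

/-- (L) `depth (R/x) + 1 = depth R` -/
theorem depth_quotient_span_singleton_succ {x : R} (hx : x ∈ maximalIdeal R)
    (hreg : IsSMulRegular R x) [IsLocalRing (R ⧸ Ideal.span {x})] :
    LocCoh.depth (R ⧸ Ideal.span {x}) (R ⧸ Ideal.span {x}) + 1 = LocCoh.depth R R := by
  rw [← depth_quotSMulTop R hx hreg]
  congr 1
  have hloc : IsLocalHom (algebraMap R (R ⧸ Ideal.span {x})) :=
    IsLocalHom.of_surjective _ Ideal.Quotient.mk_surjective
  rw [← depth_eq_of_finite (A := R) (B := R ⧸ Ideal.span {x}) (R ⧸ Ideal.span {x})]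
  apply depth_congr
  refine Submodule.quotEquivOfEq _ _ ?_
  ext y
  rw [Submodule.mem_smul_pointwise_iff_exists]
  rw [Ideal.mem_span_singleton']
  constructor
  · rintro ⟨a, rfl⟩
    exact ⟨a, trivial, by rw [smul_eq_mul, mul_comm]⟩
  · rintro ⟨a, -, rfl⟩
    exact ⟨a, by rw [smul_eq_mul, mul_comm]⟩

end localstep

section iso

variable {A : Type u} [CommRing A] (t : A) (p : Ideal A) [hp : p.IsPrime]

theorem isPrime_map_mk (htp : t ∈ p) : (p.map (Ideal.Quotient.mk (Ideal.span {t}))).IsPrime := by
  apply Ideal.map_isPrime_of_surjective Ideal.Quotient.mk_surjective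
  rw [Ideal.mk_ker]
  exact (Ideal.span_singleton_le_iff_mem _).mpr htp

theorem comap_map_mk (htp : t ∈ p) :
    (p.map (Ideal.Quotient.mk (Ideal.span {t}))).comap (Ideal.Quotient.mk (Ideal.span {t})) = p := by
  rw [Ideal.comap_map_of_surjective _ Ideal.Quotient.mk_surjective, ← RingHom.ker_eq_comap_bot,
    Ideal.mk_ker, sup_eq_left]
  exact (Ideal.span_singleton_le_iff_mem _).mpr htp

/-- `(A/t)_{p/t} ≃ A_p/t` -/
theorem nonempty_ringEquiv_quotient_localization (htp : t ∈ p)
    [hp' : (p.map (Ideal.Quotient.mk (Ideal.span {t}))).IsPrime] :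
    Nonempty (Localization.AtPrime (p.map (Ideal.Quotient.mk (Ideal.span {t}))) ≃+*
      (Localization.AtPrime p ⧸ Ideal.span {algebraMap A (Localization.AtPrime p) t})) := by
  have hIp : Ideal.span {t} ≤ p := (Ideal.span_singleton_le_iff_mem _).mpr htp
  have hsub : Algebra.algebraMapSubmonoid (A ⧸ Ideal.span {t}) p.primeCompl =
      (p.map (Ideal.Quotient.mk (Ideal.span {t}))).primeCompl := by
    ext x
    obtain ⟨y, rfl⟩ := Ideal.Quotient.mk_surjective x
    constructor
    · rintro ⟨z, hz, hzy⟩
      change _ ∉ _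
      rw [← hzy]
      change Ideal.Quotient.mk _ z ∉ _
      rw [SetLike.mem_coe, Ideal.mem_quotient_iff_mem hIp]
      exact hz
    · intro hy
      change _ ∉ _ at hy
      rw [SetLike.mem_coe, Ideal.mem_quotient_iff_mem hIp] at hy
      exact ⟨y, hy, rfl⟩
  have inst : IsLocalization (Algebra.algebraMapSubmonoid (A ⧸ Ideal.span {t}) p.primeCompl)
      (Localization.AtPrime p ⧸ (Ideal.span {t}).map (algebraMap A (Localization.AtPrime p))) :=
    inferInstance
  rw [hsub] at inst
  have e1 := (IsLocalization.algEquiv (p.map (Ideal.Quotient.mk (Ideal.span {t}))).primeCompl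
    (Localization.AtPrime (p.map (Ideal.Quotient.mk (Ideal.span {t}))))
    (Localization.AtPrime p ⧸ (Ideal.span {t}).map
      (algebraMap A (Localization.AtPrime p)))).toRingEquiv
  have heq : (Ideal.span {t}).map (algebraMap A (Localization.AtPrime p)) =
      Ideal.span {algebraMap A (Localization.AtPrime p) t} := by
    rw [Ideal.map_span, Set.image_singleton]
  exact ⟨e1.trans (Ideal.quotEquivOfEq heq)⟩

end iso

section main

variable {A : Type u} [CommRing A] [IsNoetherianRing A] (t : A) (p : Ideal A) [hp : p.IsPrime]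

/-- passing to `A/t` at a prime containing the regular element `t` -/
theorem depth_height_localization_of_mem (htp : t ∈ p) (hreg : IsSMulRegular A t)
    [hp' : (p.map (Ideal.Quotient.mk (Ideal.span {t}))).IsPrime] :
    LocCoh.depth (Localization.AtPrime (p.map (Ideal.Quotient.mk (Ideal.span {t}))))
        (Localization.AtPrime (p.map (Ideal.Quotient.mk (Ideal.span {t})))) + 1 =
      LocCoh.depth (Localization.AtPrime p) (Localization.AtPrime p) ∧
    (p.map (Ideal.Quotient.mk (Ideal.span {t}))).height + 1 = p.height := by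
  set S := Localization.AtPrime p with hS
  set t' : S := algebraMap A S t with ht'
  have ht'm : t' ∈ maximalIdeal S := by
    have h3 : (maximalIdeal S).under A = p := Localization.AtPrime.under_maximalIdeal
    have h4 : t ∈ (maximalIdeal S).under A := by
      rw [h3]
      exact htp
    exact h4
  have hreg' : IsSMulRegular S t' := isSMulRegular_algebraMap_localization t hreg p
  have hloc : IsLocalRing (S ⧸ Ideal.span {t'}) :=
    isLocalRing_quotient_of_le_maximalIdeal ((Ideal.span_singleton_le_iff_mem _).mpr ht'm)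
  obtain ⟨e⟩ := nonempty_ringEquiv_quotient_localization t p htp
  constructor
  · rw [depth_self_eq_of_ringEquiv e]
    exact depth_quotient_span_singleton_succ S ht'm hreg'
  · have h1 := IsLocalization.AtPrime.ringKrullDim_eq_height
      (p.map (Ideal.Quotient.mk (Ideal.span {t})))
      (Localization.AtPrime (p.map (Ideal.Quotient.mk (Ideal.span {t}))))
    have h2 := ringKrullDim_eq_of_ringEquiv e
    have h3 := ringKrullDim_quotient_span_singleton_succ_eq_ringKrullDim hreg' ht'm
    have h4 := IsLocalization.AtPrime.ringKrullDim_eq_height p S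
    rw [← h2, h1, h4] at h3
    exact_mod_cast h3

/-- (D) -/
theorem depth_localization_le_succ_of_minimalPrimes (q : Ideal A) [hq : q.IsPrime]
    (hpq : p ≤ q) (hqmin : q ∈ (p ⊔ Ideal.span {t}).minimalPrimes) :
    LocCoh.depth (Localization.AtPrime q) (Localization.AtPrime q) ≤
      LocCoh.depth (Localization.AtPrime p) (Localization.AtPrime p) + 1 := by
  set S := Localization.AtPrime q with hS
  have hP' := isPrime_map_of_le q p hpq
  set P' : Ideal S := p.map (algebraMap A S) with hP'def
  have hnt : Nontrivial (LocalizedModule P'.primeCompl S) :=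
    (locSelfEquiv P').toEquiv.nontrivial
  have h1 := depth_le_depth_localizedModule_add S P'
  rw [depth_localizedModule_self P'] at h1
  obtain ⟨e⟩ := nonempty_locEquiv_of_le q p hpq
  rw [depth_self_eq_of_ringEquiv e] at h1
  have hP'le : P' ≤ maximalIdeal S := IsLocalRing.le_maximalIdeal hP'.ne_top
  have hlocT : IsLocalRing (S ⧸ P') := isLocalRing_quotient_of_le_maximalIdeal hP'le
  have hdim : ringKrullDim (S ⧸ P') ≤ 1 := by
    set J : Ideal A := p ⊔ Ideal.span {t} with hJ
    have hm1 : maximalIdeal S ∈ (J.map (algebraMap A S)).minimalPrimes := by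
      rw [IsLocalization.minimalPrimes_map q.primeCompl S J, Set.mem_preimage]
      have h3 : (maximalIdeal S).under A = q := Localization.AtPrime.under_maximalIdeal
      rw [h3]
      exact hqmin
    have hJmap : J.map (algebraMap A S) = P' ⊔ Ideal.span {algebraMap A S t} := by
      rw [hJ, Ideal.map_sup, Ideal.map_span, Set.image_singleton]
    have hker : RingHom.ker (Ideal.Quotient.mk P') = P' := Ideal.mk_ker
    have hm2 : (maximalIdeal S).map (Ideal.Quotient.mk P') ∈
        ((J.map (algebraMap A S)).map (Ideal.Quotient.mk P')).minimalPrimes := by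
      rw [Ideal.minimalPrimes_map_of_surjective Ideal.Quotient.mk_surjective, hker]
      have : J.map (algebraMap A S) ⊔ P' = J.map (algebraMap A S) := by
        rw [sup_eq_left, hJmap]
        exact le_sup_left
      rw [this]
      exact ⟨_, hm1, rfl⟩
    have hmapJ : (J.map (algebraMap A S)).map (Ideal.Quotient.mk P') =
        Ideal.span {Ideal.Quotient.mk P' (algebraMap A S t)} := by
      rw [hJmap, Ideal.map_sup, Ideal.map_span, Set.image_singleton]
      have : P'.map (Ideal.Quotient.mk P') = ⊥ := by
        rw [Ideal.map_quotient_self]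
      rw [this, bot_sup_eq]
    rw [hmapJ, ← maximalIdeal_quotient_eq_map] at hm2
    have hh := Ideal.height_le_one_of_isPrincipal_of_mem_minimalPrimes _ _ hm2
    rw [← IsLocalRing.maximalIdeal_height_eq_ringKrullDim]
    exact_mod_cast hh
  have h2 : ((LocCoh.depth S S : ℕ∞) : WithBot ℕ∞) ≤
      ((LocCoh.depth (Localization.AtPrime p) (Localization.AtPrime p) : ℕ∞) : WithBot ℕ∞) + 1 :=
    h1.trans (add_le_add le_rfl hdim)
  exact_mod_cast h2

theorem hasSk_of_hasSk_quotient [IsLocalRing A] (k : ℕ) (ht : t ∈ maximalIdeal A)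
    (hreg : IsSMulRegular A t)
    (hS : LocCoh.HasSk k (A ⧸ Ideal.span {t}) (A ⧸ Ideal.span {t})) : LocCoh.HasSk k A A := by
  rw [hasSk_self_iff] at hS ⊢
  -- the case of primes containing `t`
  have hC1 : ∀ (q : Ideal A) [q.IsPrime], t ∈ q →
      min ((k : ℕ∞) + 1) q.height ≤
        LocCoh.depth (Localization.AtPrime q) (Localization.AtPrime q) := by
    intro q _ htq
    have hq' := isPrime_map_mk t q htq
    obtain ⟨hd, hh⟩ := depth_height_localization_of_mem t q htq hreg
    have h1 := hS (q.map (Ideal.Quotient.mk (Ideal.span {t})))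
    have h1' : min (k : ℕ∞) (q.map (Ideal.Quotient.mk (Ideal.span {t}))).height ≤
        LocCoh.depth (Localization.AtPrime (q.map (Ideal.Quotient.mk (Ideal.span {t}))))
          (Localization.AtPrime (q.map (Ideal.Quotient.mk (Ideal.span {t})))) := by
      have ek : ((k : ℕ) : WithBot ℕ∞) = ((k : ℕ∞) : WithBot ℕ∞) := rfl
      rw [ek, ← WithBot.coe_min, WithBot.coe_le_coe] at h1
      exact h1
    rw [← hd, ← hh, min_add_add_right]
    exact add_le_add h1' le_rfl
  intro p _
  have ek : ((k : ℕ) : WithBot ℕ∞) = ((k : ℕ∞) : WithBot ℕ∞) := rfl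
  rw [ek, ← WithBot.coe_min, WithBot.coe_le_coe]
  by_cases htp : t ∈ p
  · refine le_trans ?_ (hC1 p htp)
    exact min_le_min_right _ le_self_add
  · have hJ : p ⊔ Ideal.span {t} ≠ ⊤ := by
      intro htop
      have hle : p ⊔ Ideal.span {t} ≤ maximalIdeal A :=
        sup_le (IsLocalRing.le_maximalIdeal Ideal.IsPrime.ne_top')
          ((Ideal.span_singleton_le_iff_mem _).mpr ht)
      rw [htop] at hle
      exact (maximalIdeal.isMaximal A).ne_top (top_le_iff.mp hle)
    obtain ⟨⟨q, hqmin⟩⟩ := Ideal.nonempty_minimalPrimes hJ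
    have hqp : q.IsPrime := hqmin.1.1
    have hpq : p ≤ q := le_sup_left.trans hqmin.1.2
    have htq : t ∈ q := hqmin.1.2 (le_sup_right (a := p) (Ideal.subset_span rfl))
    have hlt : p < q := lt_of_le_of_ne hpq (fun h => htp (h ▸ htq))
    have h1 := hC1 q htq
    have h2 := depth_localization_le_succ_of_minimalPrimes t p q hpq hqmin
    have h3 : p.height + 1 ≤ q.height := Ideal.height_add_one_le_of_lt_of_isPrime hlt
    have h4 : min (k : ℕ∞) p.height + 1 ≤
        LocCoh.depth (Localization.AtPrime p) (Localization.AtPrime p) + 1 := by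
      rw [← min_add_add_right]
      exact (min_le_min_left _ h3).trans (h1.trans h2)
    exact (ENat.add_le_add_iff_right ENat.one_ne_top).mp h4

end main

end Groth.Agent.Lib.Helper18.SkLift
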