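import Mathlib
import Groth.Agent.Lib.Helper12.CatLocalDim
import Groth.Agent.Lib.Helper18.SkLift
import Groth.Agent.Lib.Helper18.SerreReg2
import Groth.Agent.Lib.Helper18.RkFlat2
import Groth.Agent.Lib.Helper18.NorOpen
import Groth.Prelude.Def_EGA4b

/-!
# Heights in catenary Noetherian local rings; lifting `(R_k)`, domain, equidimensionality
from `A/t` to `A`
-/

universe u

namespace Groth.Agent.Lib.Helper18.CatHt

open Groth.Agent.Lib.Helper12.Codim IsLocalRing

section Poset

variable {P : Type*} [PartialOrder P]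

lemma cd_le_height (a b : P) : cd a b ≤ Order.height b := by
  rw [cd_le_iff]
  intro s _ h2
  exact Order.length_le_height h2

lemma exists_isMin_cd_eq_height (p : P) (hp : Order.height p ≠ ⊤) :
    ∃ m : P, IsMin m ∧ m ≤ p ∧ cd m p = Order.height p := by
  obtain ⟨n, hn⟩ := ENat.ne_top_iff_exists.mp hp
  obtain ⟨s, hs1, hs2⟩ := Order.exists_series_of_le_height p (n := n) (by rw [← hn])
  refine ⟨s.head, ?_, ?_, ?_⟩
  · intro x hx
    by_contra hne
    have hlt : x < s.head := lt_of_le_of_ne hx (fun h => hne (h ▸ le_rfl))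
    have h1 := Order.length_le_height (p := s.cons x hlt) (x := p)
      (by rw [RelSeries.last_cons, hs1])
    rw [RelSeries.cons_length, ← hn, hs2] at h1
    have h2 : n + 1 ≤ n := by exact_mod_cast h1
    omega
  · rw [← hs1]
    exact LTSeries.head_le_last s
  · apply le_antisymm (cd_le_height _ _)
    rw [← hn, ← hs2]
    exact le_cd s rfl hs1.le

lemma cd_add_coheight [OrderTop P] (h : IsCat P) {m p : P} (hmp : m ≤ p) :
    cd m p + Order.coheight p = Order.coheight m := by
  have h1 := (isCat_iff.1 h).2 m p ⊤ hmp le_top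
  rw [cd_top_eq_coheight, cd_top_eq_coheight] at h1
  exact h1.symm

end Poset

section General

/-- `q` minimal over `p + (t)`, `t ∉ p` ⟹ `p ⋖ q` in the prime spectrum. -/
theorem covBy_of_mem_minimalPrimes {R : Type u} [CommRing R] [IsNoetherianRing R] (t : R)
    (p q : Ideal R) [hp : p.IsPrime] [hq : q.IsPrime] (htp : t ∉ p)
    (hqmin : q ∈ (p ⊔ Ideal.span {t}).minimalPrimes) :
    (⟨p, hp⟩ : PrimeSpectrum R) ⋖ ⟨q, hq⟩ := by
  have hpq : p ≤ q := le_sup_left.trans hqmin.1.2
  have htq : t ∈ q := hqmin.1.2 (Ideal.mem_sup_right (Ideal.mem_span_singleton_self t))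
  have hne : p ≠ q := fun h => htp (h ▸ htq)
  refine ⟨lt_of_le_of_ne hpq (fun h => hne (congrArg PrimeSpectrum.asIdeal h)), fun r hpr hrq => ?_⟩
  have hspan : Ideal.span (insert t (p : Set R)) = p ⊔ Ideal.span {t} := by
    rw [Set.insert_eq, Ideal.span_union, Ideal.span_eq, sup_comm]
  have := r.2
  have h1 := Ideal.mem_minimalPrimes_span_of_mem_minimalPrimes_span_insert (q := r.asIdeal) (p := q)
    hrq t (p : Set R) (by rw [hspan]; exact hqmin) (p : Set R) hpr.le
    (fun x hx => Ideal.le_radical (Ideal.subset_span (Set.mem_insert_of_mem _ hx)))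
  rw [Ideal.span_eq, Ideal.minimalPrimes_eq_subsingleton_self, Set.mem_singleton_iff] at h1
  exact hpr.ne (PrimeSpectrum.ext h1.symm)

theorem isEquidim_of_isDomain (R : Type u) [CommRing R] [IsDomain R] : EGA4.IsEquidim R := by
  intro p hp
  rw [IsDomain.minimalPrimes_eq_singleton_bot, Set.mem_singleton_iff] at hp
  subst hp
  exact ringKrullDim_eq_of_ringEquiv (RingEquiv.quotientBot R)

end General

section Ring

variable (A : Type u) [CommRing A] [IsNoetherianRing A] [IsLocalRing A]

theorem coheight_eq (p : Ideal A) [hp : p.IsPrime] :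
    ringKrullDim (A ⧸ p) = ((Order.coheight (⟨p, hp⟩ : PrimeSpectrum A) : ℕ∞) : WithBot ℕ∞) :=
  ringKrullDim_quotient_eq_coheight A ⟨p, hp⟩

/-- In a catenary Noetherian local ring, every prime `p` contains a minimal prime `m` with
`ht p + dim A/p = dim A/m`. -/
theorem exists_minimalPrimes_height_add (hcat : CAlg.IsCatenary A) (p : Ideal A) [hp : p.IsPrime] :
    ∃ m ∈ minimalPrimes A, m ≤ p ∧
      ((p.height : ℕ∞) : WithBot ℕ∞) + ringKrullDim (A ⧸ p) = ringKrullDim (A ⧸ m) := by
  have hcat' : IsCat (PrimeSpectrum A) := isCat_iff_catForm.2 hcat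
  have hfin : Order.height (⟨p, hp⟩ : PrimeSpectrum A) ≠ ⊤ := by
    rw [← PrimeSpectrum.height_eq_orderHeight]
    exact Ideal.height_ne_top hp.ne_top
  obtain ⟨m, hm1, hm2, hm3⟩ := exists_isMin_cd_eq_height (⟨p, hp⟩ : PrimeSpectrum A) hfin
  refine ⟨m.asIdeal, (PrimeSpectrum.isMin_iff).1 hm1, hm2, ?_⟩
  have h1 := cd_add_coheight hcat' hm2
  rw [hm3, ← PrimeSpectrum.height_eq_orderHeight] at h1
  have := m.2
  rw [coheight_eq A p, coheight_eq A m.asIdeal, ← h1]
  rfl

/-- In an equidimensional catenary Noetherian local ring, `ht p + dim A/p = dim A`. -/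
theorem height_add_ringKrullDim_quotient (hcat : CAlg.IsCatenary A) (heq : EGA4.IsEquidim A)
    (p : Ideal A) [hp : p.IsPrime] :
    ((p.height : ℕ∞) : WithBot ℕ∞) + ringKrullDim (A ⧸ p) = ringKrullDim A := by
  obtain ⟨m, hm, _, h⟩ := exists_minimalPrimes_height_add A hcat p
  rw [h, heq m hm]

/-- catenary local: `p ⋖ q ⟹ dim A/p = dim A/q + 1` -/
theorem ringKrullDim_quotient_of_covBy (hcat : CAlg.IsCatenary A) (p q : Ideal A) [hp : p.IsPrime]
    [hq : q.IsPrime] (hcov : (⟨p, hp⟩ : PrimeSpectrum A) ⋖ ⟨q, hq⟩) :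
    ringKrullDim (A ⧸ p) = ringKrullDim (A ⧸ q) + 1 :=
  ((isCatenary_iff_dimFun A).1 hcat _ _ hcov.lt).2 hcov

/-- equidimensional catenary local: `q` minimal over `p + (t)` ⟹ `ht q ≤ ht p + 1` -/
theorem height_le_succ_of_mem_minimalPrimes (hcat : CAlg.IsCatenary A) (heq : EGA4.IsEquidim A)
    (t : A) (p q : Ideal A) [hp : p.IsPrime] [hq : q.IsPrime]
    (hqmin : q ∈ (p ⊔ Ideal.span {t}).minimalPrimes) : q.height ≤ p.height + 1 := by
  by_cases htp : t ∈ p
  · have h0 : p ⊔ Ideal.span {t} = p :=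
      sup_eq_left.2 ((Ideal.span_singleton_le_iff_mem _).2 htp)
    rw [h0, Ideal.minimalPrimes_eq_subsingleton_self, Set.mem_singleton_iff] at hqmin
    rw [hqmin]
    exact le_self_add
  · have hcov := covBy_of_mem_minimalPrimes t p q htp hqmin
    have h1 := ringKrullDim_quotient_of_covBy A hcat p q hcov
    have h2 := height_add_ringKrullDim_quotient A hcat heq p
    have h3 := height_add_ringKrullDim_quotient A hcat heq q
    rw [h1, ← h3, coheight_eq A q] at h2
    obtain ⟨n, hn⟩ := ENat.ne_top_iff_exists.mp (coheight_ne_top A ⟨q, hq⟩)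
    rw [← hn] at h2
    have h4 : p.height + (n + 1) = q.height + n := by exact_mod_cast h2
    have h5 : (p.height + 1) + n = q.height + n := by rw [← h4, add_assoc, add_comm 1]
    have h6 := (ENat.add_left_injective_of_ne_top (ENat.natCast_ne_top n)) h5
    exact h6.symm.le

end Ring

section Lift

open Groth.Agent.Lib.Helper18.SkLift Groth.Agent.Lib.Helper18.RkFlat Groth.Agent.Lib.Helper18.Serre

/-- `t ∈ m` nzd, `A/t` a domain ⟹ `A` a domain. -/
theorem isDomain_of_quotient_isDomain (A : Type u) [CommRing A] [IsNoetherianRing A]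
    [IsLocalRing A] (t : A) (ht : t ∈ maximalIdeal A) (hreg : t ∈ nonZeroDivisors A)
    [IsDomain (A ⧸ Ideal.span {t})] : IsDomain A := by
  have hprime : (Ideal.span {t} : Ideal A).IsPrime := (Ideal.Quotient.isDomain_iff_prime _).1 ‹_›
  obtain ⟨P, hP, hPt⟩ := Ideal.exists_minimalPrimes_le (bot_le : (⊥ : Ideal A) ≤ Ideal.span {t})
  have hPprime : P.IsPrime := hP.1.1
  have htP : t ∉ P := fun h =>
    Set.disjoint_left.1 (Ideal.disjoint_nonZeroDivisors_of_mem_minimalPrimes hP) h hreg
  have hle : P ≤ Ideal.span {t} • P := by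
    intro x hx
    obtain ⟨y, rfl⟩ := Ideal.mem_span_singleton'.1 (hPt hx)
    have hy : y ∈ P := (hPprime.mem_or_mem hx).resolve_right htP
    rw [mul_comm]
    exact Ideal.mul_mem_mul (Ideal.mem_span_singleton_self t) hy
  have hbot : P = ⊥ := Submodule.eq_bot_of_le_smul_of_le_jacobson_bot (Ideal.span {t}) P
    (IsNoetherian.noetherian P) hle (by
      rw [IsLocalRing.jacobson_eq_maximalIdeal ⊥ bot_ne_top]
      exact (Ideal.span_singleton_le_iff_mem _).2 ht)
  rw [hbot] at hPprime
  have hnzd : NoZeroDivisors A := ⟨fun {a b} hab => by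
    have h0 : a * b ∈ (⊥ : Ideal A) := by rw [hab]; exact Ideal.zero_mem _
    rcases hPprime.mem_or_mem h0 with h | h
    · left; simpa using h
    · right; simpa using h⟩
  exact { hnzd with exists_pair_ne := ⟨0, 1, zero_ne_one⟩ }

variable (A : Type u) [CommRing A] [IsNoetherianRing A] [IsLocalRing A]

/-- `x ∈ m` regular, `S/x` regular ⟹ `S` regular -/
theorem isRegularLocalRing_of_quotient (S : Type u) [CommRing S] [IsLocalRing S]
    [IsNoetherianRing S] {x : S} (hxm : x ∈ maximalIdeal S) (hreg : IsSMulRegular S x)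
    (h : IsRegularLocalRing (S ⧸ Ideal.span {x})) : IsRegularLocalRing S := by
  have : IsLocalRing (S ⧸ Ideal.span {x}) := h.toIsLocalRing
  apply IsRegularLocalRing.of_spanFinrank_maximalIdeal_le
  have h1 := Groth.Agent.Lib.Helper18.SerreReg.spanFinrank_maximalIdeal_le_quotient_succ S hxm
  have h2 := h.spanFinrank_maximalIdeal
  have h3 := ringKrullDim_quotient_span_singleton_succ_eq_ringKrullDim hreg hxm
  calc (((maximalIdeal S).spanFinrank : ℕ) : WithBot ℕ∞)
      ≤ (((maximalIdeal (S ⧸ Ideal.span {x})).spanFinrank + 1 : ℕ) : WithBot ℕ∞) := by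
        exact_mod_cast h1
    _ = ringKrullDim (S ⧸ Ideal.span {x}) + 1 := by
        rw [← h2]; push_cast; rfl
    _ = ringKrullDim S := h3

/-- the case `t ∈ p` -/
theorem isRegularLocalRing_localization_of_mem {R : Type u} [CommRing R] [IsNoetherianRing R]
    (t : R) (hreg : IsSMulRegular R t) (k : ℕ)
    (hR : LocCoh.HasRk k (R ⧸ Ideal.span {t})) (p : Ideal R) [hp : p.IsPrime] (htp : t ∈ p)
    (hk : p.height ≤ k + 1) : IsRegularLocalRing (Localization.AtPrime p) := by
  have hp' := isPrime_map_mk t p htp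
  obtain ⟨-, h2⟩ := depth_height_localization_of_mem t p htp hreg
  have h3 : (p.map (Ideal.Quotient.mk (Ideal.span {t}))).height ≤ k := by
    rw [← h2] at hk
    exact (ENat.add_le_add_iff_right ENat.one_ne_top).1 hk
  have h4 := hR _ h3
  obtain ⟨e⟩ := nonempty_ringEquiv_quotient_localization t p htp
  have h5 : IsRegularLocalRing (Localization.AtPrime p ⧸
      Ideal.span {algebraMap R (Localization.AtPrime p) t}) := IsRegularLocalRing.of_ringEquiv e
  refine isRegularLocalRing_of_quotient (Localization.AtPrime p) ?_ ?_ h5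
  · rw [← Localization.AtPrime.map_eq_maximalIdeal]
    exact Ideal.mem_map_of_mem _ htp
  · exact Groth.Agent.Lib.Helper18.Serre.isSMulRegular_algebraMap_localization t hreg p

/-- `(R_k)` lifts from `A/t` to `A` for `A` catenary, equidimensional, local -/
theorem hasRk_of_hasRk_quotient (hcat : CAlg.IsCatenary A) (heq : EGA4.IsEquidim A)
    (t : A) (ht : t ∈ maximalIdeal A) (hreg : IsSMulRegular A t) (k : ℕ)
    (hR : LocCoh.HasRk k (A ⧸ Ideal.span {t})) : LocCoh.HasRk k A := by
  intro p hp hpk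
  by_cases htp : t ∈ p
  · exact isRegularLocalRing_localization_of_mem t hreg k hR p htp
      (hpk.trans (by exact_mod_cast Nat.le_succ k))
  · have hne : p ⊔ Ideal.span {t} ≠ ⊤ := by
      intro h
      have hle : p ⊔ Ideal.span {t} ≤ maximalIdeal A :=
        sup_le (IsLocalRing.le_maximalIdeal hp.ne_top) ((Ideal.span_singleton_le_iff_mem _).2 ht)
      rw [h] at hle
      exact (IsLocalRing.maximalIdeal.isMaximal A).ne_top (top_le_iff.1 hle)
    obtain ⟨q, hq⟩ := Ideal.nonempty_minimalPrimes hne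
    have hqp : q.IsPrime := hq.1.1
    have hpq : p ≤ q := le_sup_left.trans hq.1.2
    have htq : t ∈ q := hq.1.2 (Ideal.mem_sup_right (Ideal.mem_span_singleton_self t))
    have h1 := height_le_succ_of_mem_minimalPrimes A hcat heq t p q hq
    have h2 : q.height ≤ k + 1 := h1.trans (add_le_add hpk le_rfl)
    have h3 := isRegularLocalRing_localization_of_mem t hreg k hR q htq h2
    have hP' := isPrime_map_of_le q p hpq
    obtain ⟨e⟩ := nonempty_locEquiv_of_le q p hpq
    have h4 := Groth.Agent.Lib.Helper18.SerreReg.isRegularLocalRing_localization_atPrime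
      (Localization.AtPrime q) (p.map (algebraMap A (Localization.AtPrime q)))
    exact IsRegularLocalRing.of_ringEquiv e

/-- equidimensionality lifts from `A/t` (with `(S_1)`) to `A` for `A` catenary local -/
theorem isEquidim_of_isEquidim_quotient (hcat : CAlg.IsCatenary A)
    (t : A) (ht : t ∈ maximalIdeal A) (hreg : IsSMulRegular A t)
    (hS1 : LocCoh.HasSk 1 (A ⧸ Ideal.span {t}) (A ⧸ Ideal.span {t}))
    (heq : EGA4.IsEquidim (A ⧸ Ideal.span {t})) : EGA4.IsEquidim A := by
  intro P hP
  have hPp : P.IsPrime := hP.1.1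
  have hPass : P ∈ associatedPrimes A A := by
    apply Module.associatedPrimes.minimalPrimes_annihilator_subset_associatedPrimes A A
    rw [Module.annihilator_eq_bot.2 inferInstance]
    exact hP
  have htP : t ∉ P := by
    intro h
    have h1 : t ∈ ⋃ p ∈ associatedPrimes A A, (p : Set A) := Set.mem_biUnion hPass h
    rw [biUnion_associatedPrimes_eq_compl_regular] at h1
    exact h1 hreg
  have hne : P ⊔ Ideal.span {t} ≠ ⊤ := by
    intro h
    have hle : P ⊔ Ideal.span {t} ≤ maximalIdeal A :=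
      sup_le (IsLocalRing.le_maximalIdeal hPp.ne_top) ((Ideal.span_singleton_le_iff_mem _).2 ht)
    rw [h] at hle
    exact (IsLocalRing.maximalIdeal.isMaximal A).ne_top (top_le_iff.1 hle)
  obtain ⟨q, hq⟩ := Ideal.nonempty_minimalPrimes hne
  have hqp : q.IsPrime := hq.1.1
  have hPq : P ≤ q := le_sup_left.trans hq.1.2
  have htq : t ∈ q := hq.1.2 (Ideal.mem_sup_right (Ideal.mem_span_singleton_self t))
  have hcov := covBy_of_mem_minimalPrimes t P q htP hq
  have h1 := ringKrullDim_quotient_of_covBy A hcat P q hcov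
  -- depth
  have h2 := depth_localization_le_succ_of_minimalPrimes t P q hPq hq
  rw [(Groth.Agent.Lib.Helper18.NorOpen.depth_localization_eq_zero_iff P).2 hPass, zero_add] at h2
  have hq' := isPrime_map_mk t q htq
  obtain ⟨h3, -⟩ := depth_height_localization_of_mem t q htq hreg
  rw [← h3] at h2
  have h4 : LocCoh.depth (Localization.AtPrime (q.map (Ideal.Quotient.mk (Ideal.span {t}))))
      (Localization.AtPrime (q.map (Ideal.Quotient.mk (Ideal.span {t})))) = 0 := by
    have h5 : LocCoh.depth (Localization.AtPrime (q.map (Ideal.Quotient.mk (Ideal.span {t}))))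
      (Localization.AtPrime (q.map (Ideal.Quotient.mk (Ideal.span {t})))) + 1 ≤ 0 + 1 := by
      rw [zero_add]; exact h2
    exact le_antisymm ((ENat.add_le_add_iff_right ENat.one_ne_top).1 h5) zero_le
  have h6 := (hasSk_self_iff 1).1 hS1 (q.map (Ideal.Quotient.mk (Ideal.span {t})))
  rw [h4] at h6
  have h7 : (q.map (Ideal.Quotient.mk (Ideal.span {t}))).height = 0 := by
    have h8 : min (1 : ℕ∞) (q.map (Ideal.Quotient.mk (Ideal.span {t}))).height ≤ 0 := by
      exact_mod_cast h6
    rcases min_le_iff.1 h8 with h | h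
    · simp at h
    · exact le_antisymm h zero_le
  rw [Ideal.height_eq_zero_iff] at h7
  have h9 := heq _ h7
  have hIq : Ideal.span {t} ≤ q := (Ideal.span_singleton_le_iff_mem _).2 htq
  have h10 := ringKrullDim_eq_of_ringEquiv (DoubleQuot.quotQuotEquivQuotOfLE hIq)
  have h11 := ringKrullDim_quotient_span_singleton_succ_eq_ringKrullDim hreg ht
  rw [h1, ← h10, h9, h11]

end Lift

end Groth.Agent.Lib.Helper18.CatHt
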