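import Mathlib
import Groth.Agent.Lib.Helper18.CatHt
import Groth.Agent.Lib.Helper21.RegularLocal
import Groth.Agent.Lib.Helper1.Catenary
import Groth.Agent.Lib.Helper18.FlatLocal

universe u

namespace Groth.Agent.Lib.Helper18.CatFlat

open Groth.Agent.Lib.Helper12.Codim Groth.Agent.Lib.Helper18.CatHt IsLocalRing
  Groth.Agent.Lib.Helper21

section dim

variable (R : Type u) [CommRing R] [IsNoetherianRing R] [IsLocalRing R]

/-- some minimal prime computes the dimension -/
theorem exists_minimalPrimes_ringKrullDim_quotient_eq :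
    ∃ m ∈ minimalPrimes R, ringKrullDim (R ⧸ m) = ringKrullDim R := by
  have hfin : Order.height (⊤ : PrimeSpectrum R) ≠ ⊤ := by
    intro h
    have h1 : ((Order.height (⊤ : PrimeSpectrum R) : ℕ∞) : WithBot ℕ∞) = ringKrullDim R :=
      Order.height_top_eq_krullDim
    rw [h] at h1
    exact ringKrullDim_ne_top h1.symm
  obtain ⟨m, hm1, _, hm3⟩ := exists_isMin_cd_eq_height (⊤ : PrimeSpectrum R) hfin
  refine ⟨m.asIdeal, PrimeSpectrum.isMin_iff.1 hm1, ?_⟩
  have := m.2
  rw [coheight_eq R m.asIdeal]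
  rw [cd_top_eq_coheight] at hm3
  change ((Order.coheight m : ℕ∞) : WithBot ℕ∞) = _
  rw [hm3]
  exact Order.height_top_eq_krullDim

theorem isEquidim_of_forall_eq (d : WithBot ℕ∞)
    (h : ∀ m ∈ minimalPrimes R, ringKrullDim (R ⧸ m) = d) : EGA4.IsEquidim R := by
  obtain ⟨m₀, hm₀, h0⟩ := exists_minimalPrimes_ringKrullDim_quotient_eq R
  intro m hm
  rw [h m hm, ← h m₀ hm₀, h0]

end dim

theorem withBot_enat_add_left_cancel {a : ℕ∞} (ha : a ≠ ⊤) {x y : WithBot ℕ∞}
    (h : (a : WithBot ℕ∞) + x = (a : WithBot ℕ∞) + y) : x = y := by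
  induction x with
  | bot =>
    induction y with
    | bot => rfl
    | coe y =>
      rw [WithBot.add_bot, ← WithBot.coe_add] at h
      exact absurd h.symm (WithBot.coe_ne_bot)
  | coe x =>
    induction y with
    | bot =>
      rw [WithBot.add_bot, ← WithBot.coe_add] at h
      exact absurd h (WithBot.coe_ne_bot)
    | coe y =>
      rw [← WithBot.coe_add, ← WithBot.coe_add, WithBot.coe_inj] at h
      rw [add_comm a x, add_comm a y] at h
      rw [(ENat.add_left_injective_of_ne_top ha) h]

theorem withBot_enat_add_right_cancel {a : ℕ∞} (ha : a ≠ ⊤) {x y : WithBot ℕ∞}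
    (h : x + (a : WithBot ℕ∞) = y + (a : WithBot ℕ∞)) : x = y := by
  rw [add_comm x, add_comm y] at h
  exact withBot_enat_add_left_cancel ha h

section flat

variable (A B : Type u) [CommRing A] [CommRing B] [IsNoetherianRing A] [IsNoetherianRing B]
  [Algebra A B] [Module.Flat A B]

/-- minimal primes over `pB` lie over `p` and have the same height as `p` -/
theorem under_eq_and_height_eq_of_mem_minimalPrimes (p : Ideal A) [hp : p.IsPrime] (P : Ideal B)
    (hP : P ∈ (p.map (algebraMap A B)).minimalPrimes) :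
    P.under A = p ∧ P.height = p.height := by
  have hPp : P.IsPrime := hP.1.1
  have hle : p ≤ P.under A := Ideal.map_le_iff_le_comap.1 hP.1.2
  have hunder : P.under A = p := by
    by_contra hne
    have hlt : p < P.under A := lt_of_le_of_ne hle (fun h => hne h.symm)
    obtain ⟨Q, hQP, hQp, hQl⟩ := Algebra.HasGoingDown.exists_ideal_le_liesOver_of_lt P hlt
    have hQu : Q.under A = p := (hQl.over).symm
    have hpQ : p.map (algebraMap A B) ≤ Q := Ideal.map_le_iff_le_comap.2 (le_of_eq hQu.symm)
    have hPQ : P ≤ Q := hP.2 ⟨hQp, hpQ⟩ hQP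
    have : P = Q := le_antisymm hPQ hQP
    rw [this] at hne
    exact hne hQu
  refine ⟨hunder, ?_⟩
  have hlo : P.LiesOver p := ⟨hunder.symm⟩
  have h1 := Ideal.height_eq_height_add_of_liesOver_of_hasGoingDown p P
  have hprime : (P.map (Ideal.Quotient.mk (p.map (algebraMap A B)))).IsPrime :=
    Ideal.map_isPrime_of_surjective Ideal.Quotient.mk_surjective (by rw [Ideal.mk_ker]; exact hP.1.2)
  have h2 : (P.map (Ideal.Quotient.mk (p.map (algebraMap A B)))).height = 0 := by
    rw [Ideal.height_eq_zero_iff]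
    have h3 := Ideal.minimalPrimes_map_of_surjective
      (f := Ideal.Quotient.mk (p.map (algebraMap A B))) Ideal.Quotient.mk_surjective
      (I := p.map (algebraMap A B))
    rw [Ideal.mk_ker, sup_idem, Ideal.map_quotient_self] at h3
    change _ ∈ (⊥ : Ideal _).minimalPrimes
    rw [h3]
    exact ⟨P, hP, rfl⟩
  rw [h1, h2, add_zero]

variable [IsLocalRing A] [IsLocalRing B] [IsLocalHom (algebraMap A B)]

omit [IsLocalRing A] [IsLocalHom (algebraMap A B)] in
/-- `ht p + dim (B/pB)/m = dim B` for every minimal prime `m` of `B/pB` -/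
theorem height_add_ringKrullDim_quotient_quotient (hcat : CAlg.IsCatenary B)
    (heq : EGA4.IsEquidim B) (p : Ideal A) [hp : p.IsPrime]
    (m : Ideal (B ⧸ p.map (algebraMap A B))) (hm : m ∈ minimalPrimes (B ⧸ p.map (algebraMap A B))) :
    ((p.height : ℕ∞) : WithBot ℕ∞) + ringKrullDim ((B ⧸ p.map (algebraMap A B)) ⧸ m) =
      ringKrullDim B := by
  have hmp : m.IsPrime := hm.1.1
  have hP : m.comap (Ideal.Quotient.mk (p.map (algebraMap A B))) ∈
      (p.map (algebraMap A B)).minimalPrimes := by
    rw [Ideal.minimalPrimes_eq_comap]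
    exact ⟨m, hm, rfl⟩
  have hPp : (m.comap (Ideal.Quotient.mk (p.map (algebraMap A B)))).IsPrime := hP.1.1
  obtain ⟨-, hht⟩ := under_eq_and_height_eq_of_mem_minimalPrimes A B p _ hP
  have h1 := height_add_ringKrullDim_quotient B hcat heq
    (m.comap (Ideal.Quotient.mk (p.map (algebraMap A B))))
  have hmap : (m.comap (Ideal.Quotient.mk (p.map (algebraMap A B)))).map
      (Ideal.Quotient.mk (p.map (algebraMap A B))) = m :=
    Ideal.map_comap_of_surjective _ Ideal.Quotient.mk_surjective m
  have h2 : ringKrullDim ((B ⧸ p.map (algebraMap A B)) ⧸ m) =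
      ringKrullDim (B ⧸ m.comap (Ideal.Quotient.mk (p.map (algebraMap A B)))) := by
    rw [← ringKrullDim_eq_of_ringEquiv (DoubleQuot.quotQuotEquivQuotOfLE hP.1.2)]
    exact ringKrullDim_eq_of_ringEquiv (Ideal.quotEquivOfEq hmap.symm)
  rw [h2, ← hht]
  exact h1

omit [IsNoetherianRing A] [IsNoetherianRing B] [Module.Flat A B] in
theorem isLocalRing_quotient_map (p : Ideal A) (hp : p ≠ ⊤) :
    IsLocalRing (B ⧸ p.map (algebraMap A B)) :=
  isLocalRing_quotient_of_le_maximalIdeal
    ((Ideal.map_mono (IsLocalRing.le_maximalIdeal hp)).trans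
      (IsLocalRing.map_maximalIdeal_le (algebraMap A B)))

/-- `ht p + dim B/pB = dim B` -/
theorem height_add_ringKrullDim_quotient_map (hcat : CAlg.IsCatenary B)
    (heq : EGA4.IsEquidim B) (p : Ideal A) [hp : p.IsPrime] :
    ((p.height : ℕ∞) : WithBot ℕ∞) + ringKrullDim (B ⧸ p.map (algebraMap A B)) =
      ringKrullDim B := by
  have hloc := isLocalRing_quotient_map A B p hp.ne_top
  obtain ⟨m₀, hm₀, h0⟩ :=
    exists_minimalPrimes_ringKrullDim_quotient_eq (B ⧸ p.map (algebraMap A B))
  rw [← h0]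
  exact height_add_ringKrullDim_quotient_quotient A B hcat heq p m₀ hm₀

/-- EGA IV 6.1.? : fibres `B/pB` of a flat local map into an equidimensional catenary ring are
equidimensional -/
theorem isEquidim_quotient_map (hcat : CAlg.IsCatenary B) (heq : EGA4.IsEquidim B)
    (p : Ideal A) [hp : p.IsPrime] : EGA4.IsEquidim (B ⧸ p.map (algebraMap A B)) := by
  have hloc := isLocalRing_quotient_map A B p hp.ne_top
  intro m hm
  have hpfin : p.height ≠ ⊤ := Ideal.height_ne_top hp.ne_top
  exact withBot_enat_add_left_cancel hpfin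
    ((height_add_ringKrullDim_quotient_quotient A B hcat heq p m hm).trans
      (height_add_ringKrullDim_quotient_map A B hcat heq p).symm)

end flat

section quot

variable (A B : Type u) [CommRing A] [CommRing B] [Algebra A B]

/-- T1 -/
theorem flat_quotient_map [Module.Flat A B] (I : Ideal A) :
    Module.Flat (A ⧸ I) (B ⧸ I.map (algebraMap A B)) :=
  Module.Flat.of_linearEquiv (Algebra.TensorProduct.quotIdealMapEquivQuotTensor B I).toLinearEquiv

theorem algebraMap_quotient_mk (I : Ideal A) (a : A) :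
    algebraMap (A ⧸ I) (B ⧸ I.map (algebraMap A B)) (Ideal.Quotient.mk I a) =
      Ideal.Quotient.mk (I.map (algebraMap A B)) (algebraMap A B a) := rfl

variable [IsLocalRing A] [IsLocalRing B] [IsLocalHom (algebraMap A B)]

omit [IsLocalRing A] in
/-- T2 -/
theorem isLocalHom_quotient_map (I : Ideal A)
    [IsLocalRing (B ⧸ I.map (algebraMap A B))] :
    IsLocalHom (algebraMap (A ⧸ I) (B ⧸ I.map (algebraMap A B))) := by
  constructor
  intro x hx
  obtain ⟨a, rfl⟩ := Ideal.Quotient.mk_surjective x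
  rw [algebraMap_quotient_mk] at hx
  have h1 : IsLocalHom (Ideal.Quotient.mk (I.map (algebraMap A B))) :=
    IsLocalHom.of_surjective _ Ideal.Quotient.mk_surjective
  have h2 : IsUnit (algebraMap A B a) := h1.map_nonunit _ hx
  have h3 : IsUnit a := isUnit_of_map_unit (algebraMap A B) a h2
  exact h3.map _

variable [IsNoetherianRing A] [IsNoetherianRing B] [Module.Flat A B]

/-- T3 -/
theorem ringKrullDim_quotient_map_eq (I : Ideal A) (hI : I ≠ ⊤) :
    ringKrullDim (B ⧸ I.map (algebraMap A B)) =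
      ringKrullDim (A ⧸ I) + ringKrullDim (B ⧸ (maximalIdeal A).map (algebraMap A B)) := by
  have hIm : I ≤ maximalIdeal A := IsLocalRing.le_maximalIdeal hI
  have hIBm : I.map (algebraMap A B) ≤ maximalIdeal B :=
    (Ideal.map_mono hIm).trans (IsLocalRing.map_maximalIdeal_le (algebraMap A B))
  have l1 : IsLocalRing (A ⧸ I) := isLocalRing_quotient_of_le_maximalIdeal hIm
  have l2 : IsLocalRing (B ⧸ I.map (algebraMap A B)) := isLocalRing_quotient_of_le_maximalIdeal hIBm
  have hflat := flat_quotient_map A B I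
  have hloc := isLocalHom_quotient_map A B I
  have l3 : IsLocalRing ((B ⧸ I.map (algebraMap A B)) ⧸
      (maximalIdeal (A ⧸ I)).map (algebraMap (A ⧸ I) (B ⧸ I.map (algebraMap A B)))) :=
    isLocalRing_quotient_of_le_maximalIdeal (IsLocalRing.map_maximalIdeal_le _)
  have h := Groth.Agent.Lib.Helper18.FlatLocal.ringKrullDim_eq_add_fibre_of_flat (A ⧸ I)
    (B ⧸ I.map (algebraMap A B))
  have hJ : (maximalIdeal (A ⧸ I)).map (algebraMap (A ⧸ I) (B ⧸ I.map (algebraMap A B))) =
      ((maximalIdeal A).map (algebraMap A B)).map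
        (Ideal.Quotient.mk (I.map (algebraMap A B))) := by
    rw [maximalIdeal_quotient_eq_map, Ideal.map_map, Ideal.map_map]
    congr 1
  have e1 := DoubleQuot.quotQuotEquivQuotOfLE
    (Ideal.map_mono hIm : I.map (algebraMap A B) ≤ (maximalIdeal A).map (algebraMap A B))
  rw [h, ringKrullDim_eq_of_ringEquiv (Ideal.quotEquivOfEq hJ), ringKrullDim_eq_of_ringEquiv e1]

end quot

section descent

variable (A B : Type u) [CommRing A] [CommRing B] [IsNoetherianRing A] [IsNoetherianRing B]
  [Algebra A B] [Module.Flat A B] [IsLocalRing A] [IsLocalRing B] [IsLocalHom (algebraMap A B)]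

/-- T4 -/
theorem height_add_ringKrullDim_quotient_of_flat (hcat : CAlg.IsCatenary B)
    (heq : EGA4.IsEquidim B) (p : Ideal A) [hp : p.IsPrime] :
    ((p.height : ℕ∞) : WithBot ℕ∞) + ringKrullDim (A ⧸ p) = ringKrullDim A := by
  have l : IsLocalRing (B ⧸ (maximalIdeal A).map (algebraMap A B)) :=
    isLocalRing_quotient_map A B _ (maximalIdeal.isMaximal A).ne_top
  obtain ⟨n, hn⟩ := exists_nat_eq_ringKrullDim (R := B ⧸ (maximalIdeal A).map (algebraMap A B))
  have h1 := ringKrullDim_quotient_map_eq A B p hp.ne_top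
  have h2 := Groth.Agent.Lib.Helper18.FlatLocal.ringKrullDim_eq_add_fibre_of_flat A B
  have h3 := height_add_ringKrullDim_quotient_map A B hcat heq p
  rw [h1, h2, hn, ← add_assoc] at h3
  exact withBot_enat_add_right_cancel (a := (n : ℕ∞)) (ENat.natCast_ne_top n) h3

/-- T5 -/
theorem isEquidim_of_flat (hcat : CAlg.IsCatenary B) (heq : EGA4.IsEquidim B) :
    EGA4.IsEquidim A := by
  intro p hp
  have hpp : p.IsPrime := hp.1.1
  have h := height_add_ringKrullDim_quotient_of_flat A B hcat heq p
  rw [Ideal.height_eq_zero_iff.2 hp] at h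
  simpa using h

end descent

section cat

theorem height_map_mk_eq_one_of_covBy {R : Type u} [CommRing R] (p q : Ideal R) [hp : p.IsPrime]
    [hq : q.IsPrime] (hcov : (⟨p, hp⟩ : PrimeSpectrum R) ⋖ ⟨q, hq⟩)
    [hq' : (q.map (Ideal.Quotient.mk p)).IsPrime] : (q.map (Ideal.Quotient.mk p)).height = 1 := by
  have hpq : p ≤ q := hcov.lt.le
  have hcm : ∀ J : Ideal R, p ≤ J → (J.map (Ideal.Quotient.mk p)).comap (Ideal.Quotient.mk p) = J := by
    intro J hJ
    rw [Ideal.comap_map_of_surjective _ Ideal.Quotient.mk_surjective, ← RingHom.ker_eq_comap_bot,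
      Ideal.mk_ker, sup_eq_left.2 hJ]
  apply le_antisymm
  · have h1 : (q.map (Ideal.Quotient.mk p)).height ≤ ((1 : ℕ) : ℕ∞) := by
      rw [Ideal.height_le_iff]
      intro r hr hlt
      have hrp : (r.comap (Ideal.Quotient.mk p)).IsPrime := Ideal.comap_isPrime _ _
      have h2 : p ≤ r.comap (Ideal.Quotient.mk p) := by
        intro x hx
        rw [Ideal.mem_comap, Ideal.Quotient.eq_zero_iff_mem.2 hx]
        exact Ideal.zero_mem _
      have h3 : r.comap (Ideal.Quotient.mk p) ≤ q := by
        rw [← hcm q hpq]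
        exact Ideal.comap_mono hlt.le
      have hmc : (r.comap (Ideal.Quotient.mk p)).map (Ideal.Quotient.mk p) = r :=
        Ideal.map_comap_of_surjective _ Ideal.Quotient.mk_surjective r
      have h4 : r.comap (Ideal.Quotient.mk p) ≠ q := by
        intro h
        rw [← hmc, h] at hlt
        exact lt_irrefl _ hlt
      have h5 : r.comap (Ideal.Quotient.mk p) = p := by
        by_contra hne
        exact hcov.2 (c := ⟨_, hrp⟩)
          (lt_of_le_of_ne h2 (fun h => hne (congrArg PrimeSpectrum.asIdeal h).symm))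
          (lt_of_le_of_ne h3 (fun h => h4 (congrArg PrimeSpectrum.asIdeal h)))
      have h6 : r = ⊥ := by
        rw [← hmc, h5, Ideal.map_quotient_self]
      rw [h6]
      have : Nontrivial (R ⧸ p) := Ideal.Quotient.nontrivial_iff.2 hp.ne_top
      rw [Ideal.height_bot]
      exact_mod_cast zero_lt_one
    exact_mod_cast h1
  · rw [Order.one_le_iff_pos, pos_iff_ne_zero]
    intro h0
    rw [Ideal.height_eq_zero_iff, IsDomain.minimalPrimes_eq_singleton_bot,
      Set.mem_singleton_iff] at h0
    have h1 := hcm q hpq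
    rw [h0, ← RingHom.ker_eq_comap_bot, Ideal.mk_ker] at h1
    exact hcov.lt.ne (PrimeSpectrum.ext h1)

variable (A B : Type u) [CommRing A] [CommRing B] [IsNoetherianRing A] [IsNoetherianRing B]
  [Algebra A B] [Module.Flat A B] [IsLocalRing A] [IsLocalRing B] [IsLocalHom (algebraMap A B)]

/-- T6 -/
theorem isCatenary_of_flat (hcat : CAlg.IsCatenary B) (heq : EGA4.IsEquidim B) :
    CAlg.IsCatenary A := by
  rw [isCatenary_iff_dimFun A]
  intro p q hpq
  have hpp := p.2
  have hqp := q.2
  constructor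
  · have h1 := height_add_ringKrullDim_quotient_of_flat A B hcat heq p.asIdeal
    have h2 := height_add_ringKrullDim_quotient_of_flat A B hcat heq q.asIdeal
    have hlt : p.asIdeal.height < q.asIdeal.height :=
      Ideal.height_strict_mono_of_isPrime_of_isPrime hpq
    have l1 : IsLocalRing (A ⧸ p.asIdeal) :=
      isLocalRing_quotient_of_le_maximalIdeal (IsLocalRing.le_maximalIdeal hpp.ne_top)
    have l2 : IsLocalRing (A ⧸ q.asIdeal) :=
      isLocalRing_quotient_of_le_maximalIdeal (IsLocalRing.le_maximalIdeal hqp.ne_top)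
    obtain ⟨x, hx⟩ := exists_nat_eq_ringKrullDim (R := A ⧸ p.asIdeal)
    obtain ⟨y, hy⟩ := exists_nat_eq_ringKrullDim (R := A ⧸ q.asIdeal)
    obtain ⟨d, hd⟩ := exists_nat_eq_ringKrullDim (R := A)
    obtain ⟨a, ha⟩ := ENat.ne_top_iff_exists.mp (Ideal.height_ne_top hpp.ne_top)
    obtain ⟨b, hb⟩ := ENat.ne_top_iff_exists.mp (Ideal.height_ne_top hqp.ne_top)
    rw [hx, hd, ← ha] at h1
    rw [hy, hd, ← hb] at h2
    rw [← ha, ← hb] at hlt
    rw [hx, hy]
    have h1' : a + x = d := by exact_mod_cast h1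
    have h2' : b + y = d := by exact_mod_cast h2
    have hlt' : a < b := by exact_mod_cast hlt
    have : y < x := by omega
    exact_mod_cast this
  · intro hcov
    have l1 : IsLocalRing (A ⧸ p.asIdeal) :=
      isLocalRing_quotient_of_le_maximalIdeal (IsLocalRing.le_maximalIdeal hpp.ne_top)
    have l2 := isLocalRing_quotient_map A B p.asIdeal hpp.ne_top
    have hflat := flat_quotient_map A B p.asIdeal
    have hloc := isLocalHom_quotient_map A B p.asIdeal
    have hcat₁ : CAlg.IsCatenary (B ⧸ p.asIdeal.map (algebraMap A B)) :=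
      Groth.Agent.Lib.Helper1.Catenary.isCatenary_quotient B _ hcat
    have heq₁ := isEquidim_quotient_map A B hcat heq p.asIdeal
    have hq' : (q.asIdeal.map (Ideal.Quotient.mk p.asIdeal)).IsPrime :=
      Ideal.map_isPrime_of_surjective Ideal.Quotient.mk_surjective
        (by rw [Ideal.mk_ker]; exact hpq.le)
    have h1 := height_add_ringKrullDim_quotient_of_flat (A ⧸ p.asIdeal)
      (B ⧸ p.asIdeal.map (algebraMap A B)) hcat₁ heq₁
      (q.asIdeal.map (Ideal.Quotient.mk p.asIdeal))
    rw [height_map_mk_eq_one_of_covBy p.asIdeal q.asIdeal hcov,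
      ringKrullDim_eq_of_ringEquiv (DoubleQuot.quotQuotEquivQuotOfLE (show p.asIdeal ≤ q.asIdeal from hpq.le))] at h1
    rw [← h1, add_comm]
    rfl

end cat

end Groth.Agent.Lib.Helper18.CatFlat
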