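import Mathlib
import Groth.Prelude.Def_EGA4b
import Groth.Agent.Lib.Helper18.CM5
import Groth.Agent.Lib.Helper18.SerreNormal
import Groth.Agent.Lib.Helper18.CatFlat
import Groth.Agent.Lib.Helper16.DepthLocalize
import Groth.Agent.Lib.Helper18.RkFlat2
import Groth.Agent.Lib.Helper18.CM6

set_option autoImplicit false
set_option linter.unusedSectionVars false
set_option linter.style.haveILetI false
universe u
open IsLocalRing

namespace Groth.Agent.Lib.Helper18.CMCat

open Groth.Agent.Lib.Helper18.CM Groth.Agent.Lib.Helper18.Serre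

variable (R : Type u) [CommRing R] [IsLocalRing R] [IsNoetherianRing R]

/-- in a Cohen–Macaulay local ring `ht p + dim R/p = dim R` -/
theorem height_add_ringKrullDim_quotient (hCM : LocCoh.IsCohenMacaulayModule R R)
    (p : Ideal R) [hp : p.IsPrime] :
    ((p.height : ℕ∞) : WithBot ℕ∞) + ringKrullDim (R ⧸ p) = ringKrullDim R := by
  have hsupp : (⟨p, hp⟩ : PrimeSpectrum R) ∈ Module.support R R := by
    rw [Module.support_eq_zeroLocus, Module.annihilator_eq_bot.mpr inferInstance]
    simp
  obtain ⟨n, -, -, h2, h3⟩ := cm_localization p R hCM hsupp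
  rw [supportDim_localizedModule_self] at h2
  rw [Module.supportDim_self_eq_ringKrullDim] at h3
  rw [h3, h2, add_comm]

theorem isCohenMacaulayModule_localization (hCM : LocCoh.IsCohenMacaulayModule R R)
    (p : Ideal R) [hp : p.IsPrime] :
    LocCoh.IsCohenMacaulayModule (Localization.AtPrime p) (Localization.AtPrime p) := by
  have hsupp : (⟨p, hp⟩ : PrimeSpectrum R) ∈ Module.support R R := by
    rw [Module.support_eq_zeroLocus, Module.annihilator_eq_bot.mpr inferInstance]
    simp
  have h := isCohenMacaulayModule_localizedModule p R hCM hsupp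
  unfold LocCoh.IsCohenMacaulayModule at h ⊢
  rwa [Module.supportDim_eq_of_equiv (locSelfEquiv p), depth_congr (locSelfEquiv p)] at h

theorem isEquidim_of_CM (hCM : LocCoh.IsCohenMacaulayModule R R) : EGA4.IsEquidim R := by
  intro m hm
  have hmp : m.IsPrime := hm.1.1
  have h := height_add_ringKrullDim_quotient R hCM m
  rw [Ideal.height_eq_zero_iff.2 hm] at h
  simpa using h

omit [IsLocalRing R] in
/-- in a ring whose localizations are Cohen–Macaulay, `p ⋖ q` implies `ht q = ht p + 1` -/
theorem height_eq_succ_of_covBy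
    (hCMq : ∀ (q : Ideal R) [q.IsPrime],
      LocCoh.IsCohenMacaulayModule (Localization.AtPrime q) (Localization.AtPrime q))
    (p q : Ideal R) [hp : p.IsPrime] [hq : q.IsPrime]
    (hcov : (⟨p, hp⟩ : PrimeSpectrum R) ⋖ ⟨q, hq⟩) : q.height = p.height + 1 := by
  have hpq : p ≤ q := hcov.lt.le
  have hnoeth : IsNoetherianRing (Localization.AtPrime q) :=
    IsLocalization.isNoetherianRing q.primeCompl _ inferInstance
  haveI hP : (p.map (algebraMap R (Localization.AtPrime q))).IsPrime :=
    Groth.Agent.Lib.Helper18.RkFlat.isPrime_map_of_le q p hpq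
  have h1 := height_add_ringKrullDim_quotient (Localization.AtPrime q) (hCMq q)
    (p.map (algebraMap R (Localization.AtPrime q)))
  have hcm : (p.map (algebraMap R (Localization.AtPrime q))).under R = p :=
    IsLocalization.under_map_of_isPrime_disjoint q.primeCompl (Localization.AtPrime q) hp
      (Groth.Agent.Lib.Helper18.RkFlat.disjoint_primeCompl_of_le q hpq)
  have hht : (p.map (algebraMap R (Localization.AtPrime q))).height = p.height := by
    rw [← IsLocalization.height_under q.primeCompl
      (p.map (algebraMap R (Localization.AtPrime q))), hcm]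
  haveI hq' : (q.map (Ideal.Quotient.mk p)).IsPrime :=
    Ideal.map_isPrime_of_surjective Ideal.Quotient.mk_surjective (by rwa [Ideal.mk_ker])
  rw [hht, Groth.Agent.Lib.Helper16.Depth.ringKrullDim_localization_quotient_map p q hpq,
    Groth.Agent.Lib.Helper18.CatFlat.height_map_mk_eq_one_of_covBy p q hcov,
    IsLocalization.AtPrime.ringKrullDim_eq_height q (Localization.AtPrime q)] at h1
  exact_mod_cast h1.symm

theorem isCatenary_of_CM (hCM : LocCoh.IsCohenMacaulayModule R R) : CAlg.IsCatenary R := by
  rw [Groth.Agent.Lib.Helper12.Codim.isCatenary_iff_dimFun R]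
  intro p q hpq
  have hp := height_add_ringKrullDim_quotient R hCM p.asIdeal
  have hq := height_add_ringKrullDim_quotient R hCM q.asIdeal
  obtain ⟨D, hD⟩ := Groth.Agent.Lib.Helper18.SerreReg.exists_ringKrullDim_eq_nat R
  obtain ⟨x, hx⟩ := exists_nat_eq_ringKrullDim_quotient p.asIdeal
  obtain ⟨y, hy⟩ := exists_nat_eq_ringKrullDim_quotient q.asIdeal
  obtain ⟨a, ha⟩ := ENat.ne_top_iff_exists.mp (Ideal.height_ne_top p.2.ne_top)
  obtain ⟨b, hb⟩ := ENat.ne_top_iff_exists.mp (Ideal.height_ne_top q.2.ne_top)
  rw [hD, hx, ← ha] at hp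
  rw [hD, hy, ← hb] at hq
  rw [hx, hy]
  have hp' : a + x = D := by exact_mod_cast hp
  have hq' : b + y = D := by exact_mod_cast hq
  have hlt : p.asIdeal.height < q.asIdeal.height :=
    Ideal.height_strict_mono_of_isPrime_of_isPrime hpq
  rw [← ha, ← hb] at hlt
  have hlt' : a < b := by exact_mod_cast hlt
  constructor
  · have : y < x := by omega
    exact_mod_cast this
  · intro hcov
    have h1 := height_eq_succ_of_covBy R
      (fun q' _ => isCohenMacaulayModule_localization R hCM q') p.asIdeal q.asIdeal hcov
    rw [← ha, ← hb] at h1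
    have h1' : b = a + 1 := by exact_mod_cast h1
    have : x = y + 1 := by omega
    exact_mod_cast this

end Groth.Agent.Lib.Helper18.CMCat
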