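import Mathlib
import Groth.Prelude.Def_CAlg
import Groth.Agent.Lib.Helper18.FlatDepth
import Groth.Agent.Lib.Helper20.UnramifiedLocusBaseChange

set_option autoImplicit false
set_option linter.unusedSectionVars false
universe u

open IsLocalRing TensorProduct Pointwise

namespace Groth.Agent.Lib.Helper18.CM

section support

theorem nontrivial_tensor_field_iff (K V W : Type*) [Field K] [AddCommGroup V] [Module K V]
    [AddCommGroup W] [Module K W] :
    Nontrivial (V ⊗[K] W) ↔ Nontrivial V ∧ Nontrivial W := by
  constructor
  · intro h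
    constructor
    · by_contra hV
      rw [not_nontrivial_iff_subsingleton] at hV
      exact not_subsingleton (V ⊗[K] W) inferInstance
    · by_contra hW
      rw [not_nontrivial_iff_subsingleton] at hW
      exact not_subsingleton (V ⊗[K] W) inferInstance
  · rintro ⟨hV, hW⟩
    infer_instance

variable {A B : Type u} [CommRing A] [CommRing B] [Algebra A B]
  (M : Type u) [AddCommGroup M] [Module A M] [Module.Finite A M]
  (N : Type u) [AddCommGroup N] [Module B N] [Module A N] [IsScalarTower A B N] [Module.Finite B N]

theorem mem_support_tensorProduct_iff (P Q : Type u) [AddCommGroup P] [Module B P]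
    [Module.Finite B P] [AddCommGroup Q] [Module B Q] [Module.Finite B Q] (q : PrimeSpectrum B) :
    q ∈ Module.support B (P ⊗[B] Q) ↔ q ∈ Module.support B P ∧ q ∈ Module.support B Q := by
  rw [Module.mem_support_iff_nontrivial_residueField_tensorProduct,
    Module.mem_support_iff_nontrivial_residueField_tensorProduct,
    Module.mem_support_iff_nontrivial_residueField_tensorProduct,
    ← nontrivial_tensor_field_iff q.asIdeal.ResidueField]
  exact (AlgebraTensorModule.distribBaseChange B q.asIdeal.ResidueField P Q).nontrivial_congr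

theorem mem_support_tensor_iff (q : PrimeSpectrum B) :
    q ∈ Module.support B (N ⊗[A] M) ↔
      q ∈ Module.support B N ∧ PrimeSpectrum.comap (algebraMap A B) q ∈ Module.support A M := by
  rw [(tensorEquivTensorBaseChange M N).support_eq, mem_support_tensorProduct_iff,
    Groth.Agent.Lib.Helper20.mem_support_baseChange]

end support

section dim

variable {A B : Type u} [CommRing A] [CommRing B] [IsLocalRing A] [IsLocalRing B]
  [IsNoetherianRing A] [IsNoetherianRing B] [Algebra A B] [IsLocalHom (algebraMap A B)]

omit [IsNoetherianRing B] [IsLocalRing B] [IsLocalHom (algebraMap A B)] in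
/-- `Supp (N ⊗ M) = Supp (N/𝔪N)` when `Supp M = {𝔪}` -/
theorem support_tensor_of_supportDim_eq_zero (M : Type u) [AddCommGroup M] [Module A M]
    [Module.Finite A M] (hM : Module.supportDim A M = 0)
    (N : Type u) [AddCommGroup N] [Module B N] [Module A N] [IsScalarTower A B N]
    [Module.Finite B N] :
    Module.support B (N ⊗[A] M) =
      Module.support B (N ⧸ ((maximalIdeal A).map (algebraMap A B) • ⊤ : Submodule B N)) := by
  ext q
  rw [mem_support_tensor_iff, Module.support_quotient, support_of_supportDim_eq_zero A M hM,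
    Set.mem_inter_iff, PrimeSpectrum.mem_zeroLocus, PrimeSpectrum.mem_zeroLocus,
    SetLike.coe_subset_coe, SetLike.coe_subset_coe, Ideal.map_le_iff_le_comap]
  rfl

omit [IsLocalRing B] [IsNoetherianRing B] [Algebra A B] [IsLocalHom (algebraMap A B)] in
theorem exists_mem_maximalIdeal_notMem_minimalPrimes_annihilator (M : Type u) [AddCommGroup M]
    [Module A M] [Module.Finite A M] (h : Module.supportDim A M ≠ 0) (hnt : Nontrivial M) :
    ∃ x ∈ maximalIdeal A, ∀ p ∈ (Module.annihilator A M).minimalPrimes, x ∉ p := by
  classical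
  by_contra hcon
  push Not at hcon
  have hfin : ((Module.annihilator A M).minimalPrimes).Finite :=
    Ideal.finite_minimalPrimes_of_isNoetherianRing A _
  have hsub : ((maximalIdeal A : Ideal A) : Set A) ⊆
      ⋃ i ∈ (↑hfin.toFinset : Set (Ideal A)), ((id i : Ideal A) : Set A) := by
    intro x hx
    simp only [Set.mem_iUnion, SetLike.mem_coe, exists_prop]
    obtain ⟨p, hp, hxp⟩ := hcon x hx
    exact ⟨p, by simp [hp], hxp⟩
  rw [Ideal.subset_union_prime ⊥ ⊥] at hsub
  · obtain ⟨i, hi, hle⟩ := hsub
    simp only [Set.Finite.mem_toFinset] at hi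
    have hip : i.IsPrime := hi.1.1
    have him : i = maximalIdeal A := le_antisymm (IsLocalRing.le_maximalIdeal hip.ne_top) hle
    apply h
    have hsub : ∀ Q ∈ Module.support A M, Q = IsLocalRing.closedPoint A := by
      intro Q hQ
      apply PrimeSpectrum.ext
      change Q.asIdeal = maximalIdeal A
      have h1 : Module.annihilator A M ≤ Q.asIdeal := Module.mem_support_iff_of_finite.mp hQ
      have h2 : Q.asIdeal ≤ i := him ▸ IsLocalRing.le_maximalIdeal Q.2.ne_top
      rw [← him]
      exact le_antisymm h2 (hi.2 ⟨Q.2, h1⟩ h2)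
    have hss : Subsingleton (Module.support A M) := by
      refine ⟨fun a b => Subtype.ext ?_⟩
      rw [hsub a.1 a.2, hsub b.1 b.2]
    have hne : Nonempty (Module.support A M) :=
      (Module.nonempty_support_of_nontrivial).to_subtype
    exact Order.krullDim_eq_zero
  · intro i hi _ _
    simp only [Set.Finite.mem_toFinset] at hi
    exact hi.1.1

/-- `dim (N ⊗ M) ≤ dim M + dim N/𝔪N` -/
theorem supportDim_tensor_le_aux (N : Type u) [AddCommGroup N] [Module B N] [Module A N]
    [IsScalarTower A B N] [Module.Finite B N] (d : ℕ) :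
    ∀ (M : Type u) [AddCommGroup M] [Module A M] [Module.Finite A M],
      Module.supportDim A M = d →
      Module.supportDim B (N ⊗[A] M) ≤ Module.supportDim A M +
        Module.supportDim B (N ⧸ ((maximalIdeal A).map (algebraMap A B) • ⊤ : Submodule B N)) := by
  induction d with
  | zero =>
    intro M _ _ _ hd
    have hd0 : Module.supportDim A M = 0 := by exact_mod_cast hd
    rw [hd0, zero_add]
    unfold Module.supportDim
    rw [support_tensor_of_supportDim_eq_zero M hd0 N]
  | succ d ih =>
    intro M _ _ _ hd
    have hnt : Nontrivial M := by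
      rw [← Module.supportDim_ne_bot_iff_nontrivial A, hd]
      exact WithBot.coe_ne_bot
    have hne0 : Module.supportDim A M ≠ 0 := by
      rw [hd]
      exact_mod_cast (Nat.succ_ne_zero d)
    obtain ⟨x, hxm, hx⟩ := exists_mem_maximalIdeal_notMem_minimalPrimes_annihilator M hne0 hnt
    have h1 := Module.supportDim_quotSMulTop_succ_eq_of_notMem_minimalPrimes_of_mem_maximalIdeal
      hx hxm
    have hd' : Module.supportDim A (QuotSMulTop x M) = d := by
      rw [hd] at h1
      have h2 : Module.supportDim A (QuotSMulTop x M) + 1 =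
          (((d : ℕ∞) + 1 : ℕ∞) : WithBot ℕ∞) := by
        rw [h1]
        push_cast
        rfl
      exact withBot_add_one_cancel (ENat.natCast_ne_top d) h2
    have h3 := ih (QuotSMulTop x M) hd'
    have hxB : algebraMap A B x ∈ maximalIdeal B :=
      (IsLocalRing.map_maximalIdeal_le (algebraMap A B)) (Ideal.mem_map_of_mem _ hxm)
    have h4 := Module.supportDim_le_supportDim_quotSMulTop_succ (M := N ⊗[A] M) hxB
    rw [Module.supportDim_eq_of_equiv (quotSMulTopTensorEquiv₁ M N x)] at h4
    refine h4.trans ?_
    rw [← h1]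
    calc Module.supportDim B (N ⊗[A] QuotSMulTop x M) + 1
        ≤ (Module.supportDim A (QuotSMulTop x M) + Module.supportDim B
            (N ⧸ ((maximalIdeal A).map (algebraMap A B) • ⊤ : Submodule B N))) + 1 :=
          add_le_add_left h3 1
      _ = _ := by
          rw [add_assoc, add_comm _ (1 : WithBot ℕ∞), ← add_assoc]

end dim

section dim2

variable {A B : Type u} [CommRing A] [CommRing B] [IsLocalRing A] [IsLocalRing B]
  [IsNoetherianRing A] [IsNoetherianRing B] [Algebra A B] [IsLocalHom (algebraMap A B)]

omit [IsLocalRing A] [IsNoetherianRing A] [IsLocalRing B] [IsNoetherianRing B] [Algebra A B]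
  [IsLocalHom (algebraMap A B)] in
theorem supportDim_le_of_support_subset {P Q : Type u} [AddCommGroup P] [Module B P]
    [AddCommGroup Q] [Module B Q] (h : Module.support B P ⊆ Module.support B Q) :
    Module.supportDim B P ≤ Module.supportDim B Q :=
  Order.krullDim_le_of_strictMono (Set.inclusion h) (fun _ _ hab => hab)

omit [IsLocalRing B] [IsNoetherianRing B] [Algebra A B] [IsLocalHom (algebraMap A B)] in
/-- there is a prime in the support of `M` with `dim A/p = dim M` -/
theorem exists_mem_support_ringKrullDim_quotient_eq (M : Type u) [AddCommGroup M] [Module A M]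
    [Module.Finite A M] [Nontrivial M] :
    ∃ p ∈ Module.support A M, ringKrullDim (A ⧸ p.asIdeal) = Module.supportDim A M := by
  obtain ⟨d, hd⟩ := exists_nat_eq_supportDim (R := A) M
  have h1 : (d : WithBot ℕ∞) ≤ Order.krullDim (Module.support A M) := hd.ge
  rw [Order.le_krullDim_iff] at h1
  obtain ⟨l, hl⟩ := h1
  refine ⟨l.head.1, l.head.2, le_antisymm
    (ringKrullDim_quotient_le_supportDim_of_mem_support M _ l.head.2) ?_⟩
  rw [hd, ringKrullDim_quotient, Order.le_krullDim_iff]
  have hmem : ∀ i, (l i).1 ∈ PrimeSpectrum.zeroLocus (R := A) (l.head.1.asIdeal : Set A) := by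
    intro i
    rw [PrimeSpectrum.mem_zeroLocus, SetLike.coe_subset_coe]
    have : l.head ≤ l i := LTSeries.head_le l i
    exact this
  refine ⟨⟨l.length, fun i => ⟨(l i).1, hmem i⟩, fun i => ?_⟩, hl⟩
  exact l.step i

/-- `dim M + dim N/𝔪N ≤ dim (N ⊗ M)` for `N` flat over `A` -/
theorem add_le_supportDim_tensor_aux (N : Type u) [AddCommGroup N] [Module B N] [Module A N]
    [IsScalarTower A B N] [Module.Finite B N] [Module.Flat A N] (d : ℕ) :
    ∀ (M : Type u) [AddCommGroup M] [Module A M] [Module.Finite A M],
      Module.supportDim A M = d →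
      Module.supportDim A M +
        Module.supportDim B (N ⧸ ((maximalIdeal A).map (algebraMap A B) • ⊤ : Submodule B N)) ≤
      Module.supportDim B (N ⊗[A] M) := by
  induction d with
  | zero =>
    intro M _ _ _ hd
    have hd0 : Module.supportDim A M = 0 := by exact_mod_cast hd
    rw [hd0, zero_add]
    unfold Module.supportDim
    rw [support_tensor_of_supportDim_eq_zero M hd0 N]
  | succ d ih =>
    intro M _ _ _ hd
    have hnt : Nontrivial M := by
      rw [← Module.supportDim_ne_bot_iff_nontrivial A, hd]
      exact WithBot.coe_ne_bot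
    obtain ⟨p, hp, hpd⟩ := exists_mem_support_ringKrullDim_quotient_eq (A := A) M
    have hpp : p.asIdeal.IsPrime := p.2
    -- `Supp (N ⊗ A/p) ⊆ Supp (N ⊗ M)`
    have hsub : Module.support B (N ⊗[A] (A ⧸ p.asIdeal)) ⊆ Module.support B (N ⊗[A] M) := by
      intro q hq
      rw [mem_support_tensor_iff] at hq ⊢
      refine ⟨hq.1, ?_⟩
      have h2 := hq.2
      rw [Module.support_eq_zeroLocus, Ideal.annihilator_quotient, PrimeSpectrum.mem_zeroLocus,
        SetLike.coe_subset_coe] at h2
      exact Module.mem_support_mono h2 hp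
    refine le_trans ?_ (supportDim_le_of_support_subset hsub)
    have hdimM' : Module.supportDim A (A ⧸ p.asIdeal) = Module.supportDim A M := by
      rw [Module.supportDim_quotient_eq_ringKrullDim, hpd]
    rw [← hdimM']
    -- pick `x ∈ 𝔪 \ p`
    have hpm : p.asIdeal ≠ maximalIdeal A := by
      intro h
      rw [h] at hpd
      have : ringKrullDim (A ⧸ maximalIdeal A) = 0 := ringKrullDim_eq_zero_of_isField
        ((Ideal.Quotient.maximal_ideal_iff_isField_quotient _).mp inferInstance)
      rw [this, hd] at hpd
      exact absurd hpd.symm (by exact_mod_cast Nat.succ_ne_zero d)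
    obtain ⟨x, hxm, hxp⟩ : ∃ x ∈ maximalIdeal A, x ∉ p.asIdeal := by
      by_contra hcon
      push Not at hcon
      exact hpm (le_antisymm (IsLocalRing.le_maximalIdeal hpp.ne_top) hcon)
    have hreg : IsSMulRegular (A ⧸ p.asIdeal) x := by
      intro a b hab
      obtain ⟨a, rfl⟩ := Ideal.Quotient.mk_surjective a
      obtain ⟨b, rfl⟩ := Ideal.Quotient.mk_surjective b
      have h1 : Ideal.Quotient.mk p.asIdeal (x * a) = Ideal.Quotient.mk p.asIdeal (x * b) := hab
      rw [Ideal.Quotient.eq, ← mul_sub] at h1
      rw [Ideal.Quotient.eq]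
      exact (hpp.mem_or_mem h1).resolve_left hxp
    have h1 := Module.supportDim_quotSMulTop_succ_eq_supportDim hreg hxm
    have hd' : Module.supportDim A (QuotSMulTop x (A ⧸ p.asIdeal)) = d := by
      rw [hdimM', hd] at h1
      have h2 : Module.supportDim A (QuotSMulTop x (A ⧸ p.asIdeal)) + 1 =
          (((d : ℕ∞) + 1 : ℕ∞) : WithBot ℕ∞) := by
        rw [h1]
        push_cast
        rfl
      exact withBot_add_one_cancel (ENat.natCast_ne_top d) h2
    have h3 := ih (QuotSMulTop x (A ⧸ p.asIdeal)) hd'
    have hxB : algebraMap A B x ∈ maximalIdeal B :=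
      (IsLocalRing.map_maximalIdeal_le (algebraMap A B)) (Ideal.mem_map_of_mem _ hxm)
    have hregA : IsSMulRegular (N ⊗[A] (A ⧸ p.asIdeal)) x := hreg.lTensor N
    have hregB : IsSMulRegular (N ⊗[A] (A ⧸ p.asIdeal)) (algebraMap A B x) := by
      intro a b hab
      apply hregA
      simpa [algebraMap_smul] using hab
    have h4 := Module.supportDim_quotSMulTop_succ_eq_supportDim hregB hxB
    rw [Module.supportDim_eq_of_equiv (quotSMulTopTensorEquiv₁ (A ⧸ p.asIdeal) N x)] at h4
    rw [← h4, ← h1]
    calc Module.supportDim A (QuotSMulTop x (A ⧸ p.asIdeal)) + 1 + Module.supportDim B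
            (N ⧸ ((maximalIdeal A).map (algebraMap A B) • ⊤ : Submodule B N))
        = (Module.supportDim A (QuotSMulTop x (A ⧸ p.asIdeal)) + Module.supportDim B
            (N ⧸ ((maximalIdeal A).map (algebraMap A B) • ⊤ : Submodule B N))) + 1 := by
          rw [add_assoc, add_comm (1 : WithBot ℕ∞), ← add_assoc]
      _ ≤ _ := add_le_add_left h3 1

/-- the dimension formula for a flat module over a local homomorphism -/
theorem supportDim_tensor_of_flat (M : Type u) [AddCommGroup M] [Module A M] [Module.Finite A M]
    [Nontrivial M] (N : Type u) [AddCommGroup N] [Module B N] [Module A N]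
    [IsScalarTower A B N] [Module.Finite B N] [Module.Flat A N] :
    Module.supportDim B (N ⊗[A] M) = Module.supportDim A M +
      Module.supportDim B (N ⧸ ((maximalIdeal A).map (algebraMap A B) • ⊤ : Submodule B N)) := by
  obtain ⟨d, hd⟩ := exists_nat_eq_supportDim (R := A) M
  exact le_antisymm (supportDim_tensor_le_aux N d M hd) (add_le_supportDim_tensor_aux N d M hd)

end dim2

end Groth.Agent.Lib.Helper18.CM
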