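import Mathlib
import Groth.Prelude.Def_CAlg
import Groth.Prelude.Def_EGA4b
import Groth.Agent.Lib.Helper18.TensorDim

set_option autoImplicit false
set_option linter.unusedSectionVars false
universe u

open IsLocalRing TensorProduct Pointwise

namespace Groth.Agent.Lib.Helper18.CM

section quot

variable {B : Type u} [CommRing B]

/-- the support dimension of a `B/I`-module does not depend on the base ring -/
theorem supportDim_quotient_ring_eq (I : Ideal B) (P : Type u) [AddCommGroup P] [Module B P]
    [Module (B ⧸ I) P] [IsScalarTower B (B ⧸ I) P] [Module.Finite B P] :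
    Module.supportDim (B ⧸ I) P = Module.supportDim B P := by
  have hfin : Module.Finite (B ⧸ I) P := Module.Finite.of_restrictScalars_finite B (B ⧸ I) P
  rw [Module.supportDim_eq_ringKrullDim_quotient_annihilator,
    Module.supportDim_eq_ringKrullDim_quotient_annihilator]
  have hJ : (Module.annihilator (B ⧸ I) P).comap (algebraMap B (B ⧸ I)) =
      Module.annihilator B P := Module.comap_annihilator
  have hI : I ≤ Module.annihilator B P := by
    intro b hb
    rw [Module.mem_annihilator]
    intro p
    rw [← algebraMap_smul (B ⧸ I) b p]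
    have : algebraMap B (B ⧸ I) b = 0 := Ideal.Quotient.eq_zero_iff_mem.mpr hb
    rw [this, zero_smul]
  have hmap : (Module.annihilator B P).map (Ideal.Quotient.mk I) =
      Module.annihilator (B ⧸ I) P := by
    rw [← hJ]
    exact Ideal.map_comap_of_surjective _ Ideal.Quotient.mk_surjective _
  rw [← hmap]
  exact ringKrullDim_eq_of_ringEquiv (DoubleQuot.quotQuotEquivQuotOfLE hI)

end quot

section cm

variable {A B : Type u} [CommRing A] [CommRing B] [IsLocalRing A] [IsLocalRing B]
  [IsNoetherianRing A] [IsNoetherianRing B] [Algebra A B] [IsLocalHom (algebraMap A B)]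
  (M : Type u) [AddCommGroup M] [Module A M] [Module.Finite A M] [Nontrivial M]
  (N : Type u) [AddCommGroup N] [Module B N] [Module A N] [IsScalarTower A B N]
  [Module.Finite B N] [Nontrivial N] [Module.Flat A N]

theorem isCohenMacaulayModule_fibMod_iff :
    LocCoh.IsCohenMacaulayModule (EGA4.FibRing A B) (EGA4.FibMod A B N) ↔
      LocCoh.IsCohenMacaulayModule B (EGA4.FibMod A B N) := by
  have hloc : IsLocalHom (algebraMap B (EGA4.FibRing A B)) :=
    IsLocalHom.of_surjective _ Ideal.Quotient.mk_surjective
  unfold LocCoh.IsCohenMacaulayModule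
  rw [supportDim_quotient_ring_eq, depth_eq_of_finite (A := B) (B := EGA4.FibRing A B)]

theorem isCohenMacaulayModule_tensor_iff :
    LocCoh.IsCohenMacaulayModule B (N ⊗[A] M) ↔
      (LocCoh.IsCohenMacaulayModule A M ∧
        LocCoh.IsCohenMacaulayModule B (EGA4.FibMod A B N)) := by
  have hNbar : Nontrivial (EGA4.FibMod A B N) := nontrivial_fibre A (B := B) N
  unfold LocCoh.IsCohenMacaulayModule
  have hdim : Module.supportDim B (N ⊗[A] M) = Module.supportDim A M +
      Module.supportDim B (EGA4.FibMod A B N) := supportDim_tensor_of_flat M N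
  have hdepth : LocCoh.depth B (N ⊗[A] M) = LocCoh.depth A M +
      LocCoh.depth B (EGA4.FibMod A B N) := depth_tensor_of_flat M N
  rw [hdim, hdepth]
  obtain ⟨a, ha⟩ := exists_nat_eq_supportDim (R := A) M
  obtain ⟨b, hb⟩ := exists_nat_eq_supportDim (R := B) (EGA4.FibMod A B N)
  obtain ⟨r, hr⟩ := ENat.ne_top_iff_exists.mp (depth_ne_top (R := A) M)
  obtain ⟨s, hs⟩ := ENat.ne_top_iff_exists.mp (depth_ne_top (R := B) (EGA4.FibMod A B N))
  have h1 := depth_le_supportDim (R := A) M
  have h2 := depth_le_supportDim (R := B) (EGA4.FibMod A B N)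
  rw [ha, ← hr] at h1
  rw [hb, ← hs] at h2
  rw [ha, hb, ← hr, ← hs]
  have h1' : r ≤ a := by exact_mod_cast h1
  have h2' : s ≤ b := by exact_mod_cast h2
  constructor
  · intro h
    have h' : a + b = r + s := by exact_mod_cast h
    have e1 : a = r := by omega
    have e2 : b = s := by omega
    rw [e1, e2]
    exact ⟨rfl, rfl⟩
  · rintro ⟨e1, e2⟩
    have e1' : a = r := by exact_mod_cast e1
    have e2' : b = s := by exact_mod_cast e2
    rw [e1', e2']
    push_cast
    rfl

end cm

end Groth.Agent.Lib.Helper18.CM
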