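import Mathlib
import Groth.Prelude.Def_EGA4b
import Groth.Agent.Lib.Helper18.CplQuot
import Groth.Agent.Lib.Helper18.CMCat
import Groth.Agent.Lib.Helper18.FlatLocal
import Groth.Agent.Lib.Helper18.CM2
import Groth.Agent.Lib.Helper18.TensorCM
import Groth.Agent.S0547

set_option autoImplicit false
set_option linter.unusedSectionVars false
set_option linter.style.haveILetI false
universe u
open IsLocalRing

namespace Groth.Agent.Lib.Helper18.FormEq

open Groth.Agent.Lib.Helper18.CM Groth.Agent.Lib.Helper18.Serre

section transfer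

variable {R S : Type u} [CommRing R] [CommRing S]

theorem ringKrullDim_quotient_comap_equiv (e : R ≃+* S) (p : Ideal S) :
    ringKrullDim (R ⧸ p.comap (e : R →+* S)) = ringKrullDim (S ⧸ p) := by
  apply ringKrullDim_eq_of_ringEquiv
  refine Ideal.quotientEquiv _ _ e ?_
  exact (Ideal.map_comap_of_surjective (e : R →+* S) e.surjective p).symm

theorem isEquidim_of_ringEquiv (e : R ≃+* S) (h : EGA4.IsEquidim R) : EGA4.IsEquidim S := by
  intro p hp
  have h1 : p.comap (e : R →+* S) ∈ minimalPrimes R := by
    have := Ideal.minimalPrimes_comap_of_surjective (f := (e : R →+* S)) e.surjective hp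
    rwa [Ideal.comap_bot_of_injective (e : R →+* S) e.injective] at this
  rw [← ringKrullDim_quotient_comap_equiv e p, h _ h1, ringKrullDim_eq_of_ringEquiv e]

end transfer

section resfield

variable (B : Type u) [CommRing B] [IsNoetherianRing B] [IsLocalRing B]

theorem nontrivial_quot_maximalIdeal_smul_top :
    Nontrivial (B ⧸ (maximalIdeal B • ⊤ : Submodule B B)) := by
  rw [Submodule.Quotient.nontrivial_iff]
  intro h
  have h1 : (maximalIdeal B • ⊤ : Submodule B B) = maximalIdeal B := by
    simp
  rw [h1] at h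
  exact (IsLocalRing.maximalIdeal.isMaximal B).ne_top h

theorem supportDim_quot_maximalIdeal_smul_top :
    Module.supportDim B (B ⧸ (maximalIdeal B • ⊤ : Submodule B B)) = 0 := by
  have h1 : (maximalIdeal B • ⊤ : Submodule B B) = maximalIdeal B := by
    simp
  rw [Module.supportDim_eq_of_equiv (Submodule.quotEquivOfEq _ _ h1)]
  have h2 := Module.supportDim_quotient_eq_ringKrullDim (maximalIdeal B)
  rw [h2]
  letI : Field (B ⧸ maximalIdeal B) := Ideal.Quotient.field _
  exact ringKrullDim_eq_zero_of_field _

theorem depth_quot_maximalIdeal_smul_top :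
    LocCoh.depth B (B ⧸ (maximalIdeal B • ⊤ : Submodule B B)) = 0 := by
  have hnt := nontrivial_quot_maximalIdeal_smul_top B
  have h := depth_le_supportDim (R := B) (B ⧸ (maximalIdeal B • ⊤ : Submodule B B))
  rw [supportDim_quot_maximalIdeal_smul_top] at h
  have h2 : LocCoh.depth B (B ⧸ (maximalIdeal B • ⊤ : Submodule B B)) ≤ 0 := by
    exact_mod_cast h
  exact le_antisymm h2 zero_le

end resfield

section cpl

variable (A : Type u) [CommRing A] [IsNoetherianRing A] [IsLocalRing A]

theorem ringKrullDim_cpl : ringKrullDim (EGA4.Cpl A) = ringKrullDim A :=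
  Groth.Agent.S0547.result A

theorem map_maximalIdeal_cpl :
    (maximalIdeal A).map (algebraMap A (EGA4.Cpl A)) = maximalIdeal (EGA4.Cpl A) :=
  (AdicCompletion.maximalIdeal_eq_map (R := A)).symm

variable (M : Type u) [AddCommGroup M] [Module A M] [Module.Finite A M]

open TensorProduct

theorem depth_cplTensor :
    LocCoh.depth (EGA4.Cpl A) (EGA4.Cpl A ⊗[A] M) = LocCoh.depth A M := by
  have h := depth_tensor_of_flat (A := A) (B := EGA4.Cpl A) M (EGA4.Cpl A)
  rw [map_maximalIdeal_cpl, depth_quot_maximalIdeal_smul_top, add_zero] at h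
  exact h

theorem supportDim_cplTensor [Nontrivial M] :
    Module.supportDim (EGA4.Cpl A) (EGA4.Cpl A ⊗[A] M) = Module.supportDim A M := by
  have h := supportDim_tensor_of_flat (A := A) (B := EGA4.Cpl A) M (EGA4.Cpl A)
  rw [map_maximalIdeal_cpl, supportDim_quot_maximalIdeal_smul_top, add_zero] at h
  exact h

theorem isCohenMacaulayModule_cplTensor (hCM : LocCoh.IsCohenMacaulayModule A M) :
    LocCoh.IsCohenMacaulayModule (EGA4.Cpl A) (EGA4.Cpl A ⊗[A] M) := by
  have hnt : Nontrivial M := by
    by_contra hcon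
    rw [not_nontrivial_iff_subsingleton] at hcon
    unfold LocCoh.IsCohenMacaulayModule at hCM
    rw [Module.supportDim_eq_bot_of_subsingleton] at hCM
    exact WithBot.coe_ne_bot hCM.symm
  unfold LocCoh.IsCohenMacaulayModule at hCM ⊢
  rw [depth_cplTensor, supportDim_cplTensor, hCM]

theorem depth_cpl : LocCoh.depth (EGA4.Cpl A) (EGA4.Cpl A) = LocCoh.depth A A := by
  rw [← depth_cplTensor A A]
  exact depth_congr (TensorProduct.AlgebraTensorModule.rid A (EGA4.Cpl A) (EGA4.Cpl A)).symm

theorem isCohenMacaulayModule_cpl (hCM : LocCoh.IsCohenMacaulayModule A A) :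
    LocCoh.IsCohenMacaulayModule (EGA4.Cpl A) (EGA4.Cpl A) := by
  unfold LocCoh.IsCohenMacaulayModule at hCM ⊢
  rw [depth_cpl, Module.supportDim_self_eq_ringKrullDim, ringKrullDim_cpl,
    ← Module.supportDim_self_eq_ringKrullDim, hCM]

end cpl

section strict

variable (R : Type u) [CommRing R] [IsNoetherianRing R] [IsLocalRing R]

/-- a Cohen–Macaulay local ring is strictly equidimensional -/
theorem isStrictlyEquidim_of_CM (hCM : LocCoh.IsCohenMacaulayModule R R) :
    EGA4.IsStrictlyEquidim R := by
  intro p hp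
  apply le_antisymm (ringKrullDim_quotient_le p)
  have h := depth_le_ringKrullDim_quotient (R := R) R p hp
  unfold LocCoh.IsCohenMacaulayModule at hCM
  rw [← Module.supportDim_self_eq_ringKrullDim, hCM]
  exact h

/-- a local domain of dimension at most one is Cohen–Macaulay -/
theorem isCohenMacaulayModule_of_isDomain_of_dim_le_one [IsDomain R] (h : ringKrullDim R ≤ 1) :
    LocCoh.IsCohenMacaulayModule R R := by
  unfold LocCoh.IsCohenMacaulayModule
  rw [Module.supportDim_self_eq_ringKrullDim]
  have hle := depth_le_supportDim (R := R) R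
  rw [Module.supportDim_self_eq_ringKrullDim] at hle
  by_cases hm : maximalIdeal R = ⊥
  · have hf : IsField R := IsLocalRing.isField_iff_maximalIdeal_eq.mpr hm
    rw [ringKrullDim_eq_zero_of_isField hf] at hle ⊢
    have h2 : LocCoh.depth R R ≤ 0 := by exact_mod_cast hle
    rw [le_antisymm h2 zero_le]
    rfl
  · obtain ⟨x, hx, hx0⟩ := Submodule.exists_mem_ne_zero_of_ne_bot hm
    have h1 : 1 ≤ LocCoh.depth R R := by
      rw [one_le_depth_iff]
      refine ⟨x, hx, ?_⟩
      intro a b hab
      exact mul_left_cancel₀ hx0 hab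
    have h2 : (1 : WithBot ℕ∞) ≤ ((LocCoh.depth R R : ℕ∞) : WithBot ℕ∞) := by
      exact_mod_cast h1
    exact le_antisymm (h.trans h2) hle

end strict

end Groth.Agent.Lib.Helper18.FormEq
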