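import Mathlib
import Groth.Prelude.Def_EGA4b
import Groth.Prelude.Def_Found
import Groth.Agent.Lib.Helper12.CatRing
import Groth.Agent.Lib.Helper18.CatHt
import Groth.Agent.Lib.Helper18.CatFlat
import Groth.Agent.Lib.Helper18.FormEq
import Groth.Agent.Lib.Helper18.CplQuot

/-!
# Ratliff's theorem, part 1: generic lemmas

* `height_le_two_of_catenary`: in a catenary domain, if `q ⊆ N` are primes with `ht q ≤ 1` and no
  prime strictly between, then `ht N ≤ 2`.
* `exists_kill`: for a minimal prime `P` of a Noetherian ring there are `s ∉ P` and `n` with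
  `s * z ^ n = 0` for all `z ∈ P`.
* `exists_approx`: descent of `m`-torsion classes mod `a` from the completion.
-/

set_option autoImplicit false
set_option linter.unusedSectionVars false
set_option linter.style.haveILetI false
universe u
open IsLocalRing

namespace Groth.Agent.Lib.Helper18.Ratliff

open Groth.Agent.Lib.Helper12.Codim

section G

variable {B : Type u} [CommRing B] [IsDomain B]

theorem height_le_cd_bot (N : PrimeSpectrum B) :
    Order.height N ≤ cd (⟨⊥, Ideal.isPrime_bot⟩ : PrimeSpectrum B) N := by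
  rw [Order.height_le_iff]
  intro s hs
  by_cases h : s.head = ⟨⊥, Ideal.isPrime_bot⟩
  · exact le_cd s h hs
  · have hlt : (⟨⊥, Ideal.isPrime_bot⟩ : PrimeSpectrum B) < s.head := by
      refine lt_of_le_of_ne ?_ (Ne.symm h)
      change (⊥ : Ideal B) ≤ s.head.asIdeal
      exact bot_le
    have h1 := le_cd (a := (⟨⊥, Ideal.isPrime_bot⟩ : PrimeSpectrum B)) (b := N) (s.cons _ hlt)
      (RelSeries.head_cons _ _ _) (by rw [RelSeries.last_cons]; exact hs)
    rw [RelSeries.cons_length] at h1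
    refine le_trans ?_ h1
    exact_mod_cast Nat.le_succ _

theorem height_le_two_of_catenary (hcat : CAlg.IsCatenary B)
    (q N : Ideal B) [hq : q.IsPrime] [hN : N.IsPrime] (hqN : q ≤ N) (hq1 : q.height ≤ 1)
    (hch : ∀ r : Ideal B, r.IsPrime → q ≤ r → r ≤ N → r = q ∨ r = N) : N.height ≤ 2 := by
  have hcat' : IsCat (PrimeSpectrum B) := isCat_iff_catForm.2 hcat
  have hadd := (isCat_iff.1 hcat').2 (⟨⊥, Ideal.isPrime_bot⟩ : PrimeSpectrum B) ⟨q, hq⟩ ⟨N, hN⟩
    (by change (⊥ : Ideal B) ≤ q; exact bot_le) hqN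
  have h1 : cd (⟨⊥, Ideal.isPrime_bot⟩ : PrimeSpectrum B) ⟨q, hq⟩ ≤ 1 := by
    refine le_trans (Groth.Agent.Lib.Helper18.CatHt.cd_le_height _ _) ?_
    rw [← PrimeSpectrum.height_eq_orderHeight]
    exact hq1
  have h2 : cd (⟨q, hq⟩ : PrimeSpectrum B) ⟨N, hN⟩ ≤ 1 := by
    rw [cd_le_iff]
    intro s hs1 hs2
    by_contra hlen
    have hlen2 : 2 ≤ s.length := by
      by_contra h
      apply hlen
      have : s.length ≤ 1 := by omega
      exact_mod_cast this
    have h01 : s ⟨0, by omega⟩ < s ⟨1, by omega⟩ := s.strictMono (by simp [Fin.lt_def])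
    have h12 : s ⟨1, by omega⟩ < s ⟨2, by omega⟩ := s.strictMono (by simp [Fin.lt_def])
    have h2l : s ⟨2, by omega⟩ ≤ s.last := s.monotone (Fin.le_last _)
    have h0 : s ⟨0, by omega⟩ = ⟨q, hq⟩ := hs1
    rw [h0] at h01
    have hr := hch (s ⟨1, by omega⟩).asIdeal (s ⟨1, by omega⟩).2 h01.le
      ((h12.le.trans h2l).trans hs2)
    rcases hr with hr | hr
    · exact h01.ne (PrimeSpectrum.ext hr.symm)
    · have : s ⟨1, by omega⟩ = ⟨N, hN⟩ := PrimeSpectrum.ext hr
      rw [this] at h12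
      exact absurd ((h12.trans_le h2l).trans_le hs2) (lt_irrefl _)
  have h3 : N.height ≤ cd (⟨⊥, Ideal.isPrime_bot⟩ : PrimeSpectrum B) ⟨N, hN⟩ := by
    rw [PrimeSpectrum.height_eq_orderHeight (⟨N, hN⟩ : PrimeSpectrum B)]
    exact height_le_cd_bot _
  rw [hadd] at h3
  calc N.height ≤ _ := h3
    _ ≤ 1 + 1 := add_le_add h1 h2
    _ = 2 := by norm_num

end G

section kill

variable (E : Type u) [CommRing E] [IsNoetherianRing E]

/-- a finitely generated ideal killed in the localization at `P` is killed by some `s ∉ P` -/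
theorem exists_mul_eq_zero_of_map_eq_bot (P : Ideal E) [hP : P.IsPrime] (I : Ideal E)
    (hI : I.map (algebraMap E (Localization.AtPrime P)) = ⊥) :
    ∃ s ∉ P, ∀ w ∈ I, s * w = 0 := by
  classical
  obtain ⟨T, hT⟩ := (IsNoetherian.noetherian I : I.FG)
  have h1 : ∀ t ∈ T, ∃ c : P.primeCompl, (c : E) * t = 0 := by
    intro t ht
    have h2 : algebraMap E (Localization.AtPrime P) t ∈
        I.map (algebraMap E (Localization.AtPrime P)) :=
      Ideal.mem_map_of_mem _ (hT ▸ Ideal.subset_span ht)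
    rw [hI, Ideal.mem_bot] at h2
    exact (IsLocalization.map_eq_zero_iff P.primeCompl (Localization.AtPrime P) t).1 h2
  choose! c hc using h1
  refine ⟨∏ t ∈ T, (c t : E), ?_, ?_⟩
  · have : (∏ t ∈ T, (c t : E)) ∈ P.primeCompl :=
      Submonoid.prod_mem _ (fun t _ => (c t).2)
    exact this
  · intro w hw
    rw [← hT] at hw
    refine Submodule.span_induction ?_ ?_ ?_ ?_ hw
    · intro t ht
      obtain ⟨r, hr⟩ := Finset.dvd_prod_of_mem (fun t => (c t : E)) ht
      rw [hr, mul_comm (c t : E) r, mul_assoc, hc t ht, mul_zero]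
    · exact mul_zero _
    · intro x y _ _ hx hy
      rw [mul_add, hx, hy, add_zero]
    · intro a x _ hx
      rw [smul_eq_mul, mul_left_comm, hx, mul_zero]

theorem exists_kill (P : Ideal E) (hP : P ∈ minimalPrimes E) :
    ∃ s ∉ P, ∃ n : ℕ, ∀ z ∈ P, s * z ^ n = 0 := by
  haveI hPp : P.IsPrime := hP.1.1
  have h1 := IsLocalization.AtPrime.radical_map_of_mem_minimalPrimes
    (A := Localization.AtPrime P) P ⊥ hP
  rw [Ideal.map_bot] at h1
  haveI : IsNoetherianRing (Localization.AtPrime P) :=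
    IsLocalization.isNoetherianRing P.primeCompl _ inferInstance
  obtain ⟨n, hn⟩ := IsNoetherianRing.isNilpotent_nilradical (Localization.AtPrime P)
  have h2 : (P ^ n).map (algebraMap E (Localization.AtPrime P)) = ⊥ := by
    rw [Ideal.map_pow, ← h1]
    exact hn
  obtain ⟨s, hs, hk⟩ := exists_mul_eq_zero_of_map_eq_bot E P (P ^ n) h2
  exact ⟨s, hs, n, fun z hz => hk _ (Ideal.pow_mem_pow hz n)⟩

end kill

section approx

variable (D : Type u) [CommRing D] [IsLocalRing D] [IsNoetherianRing D]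

/-- density of `D` in its completion, modulo any power of the maximal ideal -/
theorem exists_sub_mem_pow (z : EGA4.Cpl D) (r : ℕ) :
    ∃ d : D, z - algebraMap D (EGA4.Cpl D) d ∈
      ((maximalIdeal D).map (algebraMap D (EGA4.Cpl D))) ^ r := by
  obtain ⟨d, hd⟩ := Ideal.Quotient.mk_surjective (AdicCompletion.evalₐ (maximalIdeal D) r z)
  refine ⟨d, ?_⟩
  rw [CplQuot.mem_map_pow_iff_evalₐ _ (IsNoetherian.noetherian _), map_sub, sub_eq_zero, ← hd]
  exact (AdicCompletion.evalₐ_of (maximalIdeal D) r d).symm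

theorem exists_approx (a : D) (j : EGA4.Cpl D) (k : ℕ)
    (hj : ∀ z ∈ (maximalIdeal (EGA4.Cpl D)) ^ k,
      z * j ∈ Ideal.span {algebraMap D (EGA4.Cpl D) a}) :
    ∃ b : D, j - algebraMap D (EGA4.Cpl D) b ∈ Ideal.span {algebraMap D (EGA4.Cpl D) a} := by
  set alg := algebraMap D (EGA4.Cpl D) with halg
  set m := maximalIdeal D with hm
  -- the saturation of `(a)`
  let f : ℕ →o Ideal D :=
    ⟨fun r => (Ideal.span {a} : Ideal D).colon (m ^ r : Ideal D), by
      intro r r' hrr'
      exact Submodule.colon_mono le_rfl (Ideal.pow_le_pow_right hrr')⟩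
  obtain ⟨r0, hr0⟩ := monotone_stabilizes_iff_noetherian.mpr (inferInstance : IsNoetherian D D) f
  set I : Ideal D := f r0 with hI
  have hIa : ∀ i ∈ I, ∀ w ∈ m ^ r0, i * w ∈ Ideal.span {a} := by
    intro i hi w hw
    have := (Submodule.mem_colon.1 hi) w hw
    simpa [smul_eq_mul] using this
  have haI : a ∈ I := by
    refine Submodule.mem_colon.2 (fun w _ => ?_)
    rw [smul_eq_mul]
    exact Ideal.mul_mem_right _ _ (Ideal.mem_span_singleton_self a)
  have hsat : ∀ z : D, (∀ w ∈ m, z * w ∈ I) → z ∈ I := by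
    intro z hz
    have h1 : z ∈ f (r0 + 1) := by
      refine Submodule.mem_colon.2 (fun w hw => ?_)
      rw [smul_eq_mul]
      rw [pow_succ'] at hw
      refine Submodule.mul_induction_on hw ?_ ?_
      · intro u hu v hv
        have := hIa (z * u) (hz u hu) v hv
        rwa [mul_assoc] at this
      · intro x y hx hy
        rw [mul_add]
        exact Ideal.add_mem _ hx hy
    rw [← hr0 (r0 + 1) (Nat.le_succ _)] at h1
    exact h1
  -- a regular element on `D ⧸ I`
  have hsub : Subsingleton ((D ⧸ m) →ₗ[D] (D ⧸ I)) := by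
    refine ⟨fun φ ψ => ?_⟩
    suffices hz : ∀ φ : (D ⧸ m) →ₗ[D] (D ⧸ I), φ = 0 by rw [hz φ, hz ψ]
    intro φ
    obtain ⟨z, hz⟩ := Ideal.Quotient.mk_surjective (φ 1)
    have hzI : z ∈ I := by
      apply hsat
      intro w hw
      have h1 : w • (1 : D ⧸ m) = 0 := by
        rw [Algebra.smul_def, mul_one]
        exact Ideal.Quotient.eq_zero_iff_mem.mpr hw
      have h2 : w • φ 1 = 0 := by rw [← map_smul, h1, map_zero]
      rw [← hz, Algebra.smul_def] at h2
      have h3 : Ideal.Quotient.mk I (w * z) = 0 := by rw [map_mul]; exact h2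
      rw [mul_comm]
      exact Ideal.Quotient.eq_zero_iff_mem.mp h3
    have h1 : φ 1 = 0 := by rw [← hz]; exact Ideal.Quotient.eq_zero_iff_mem.mpr hzI
    apply LinearMap.ext
    intro y
    obtain ⟨r, rfl⟩ := Ideal.Quotient.mk_surjective y
    have h2 : (Ideal.Quotient.mk m) r = r • (1 : D ⧸ m) := by
      rw [Algebra.smul_def, mul_one]; rfl
    rw [h2, map_smul, h1, smul_zero, LinearMap.zero_apply]
  obtain ⟨y, hy, hreg⟩ := IsSMulRegular.subsingleton_linearMap_iff.mp hsub
  rw [Ideal.annihilator_quotient] at hy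
  -- transfer to the completion
  set IE : Ideal (EGA4.Cpl D) := I.map alg with hIE
  haveI : Module.Flat (D ⧸ I) (EGA4.Cpl D ⧸ IE) := CatFlat.flat_quotient_map D (EGA4.Cpl D) I
  have hreg' : IsSMulRegular (D ⧸ I) (Ideal.Quotient.mk I y) := by
    intro u v huv
    apply hreg
    simpa [Algebra.smul_def] using huv
  have hregE := IsSMulRegular.of_flat (S := EGA4.Cpl D ⧸ IE) hreg'
  have hyE : ∀ w : EGA4.Cpl D, alg y * w ∈ IE → w ∈ IE := by
    intro w hw
    have h1 : (algebraMap (D ⧸ I) (EGA4.Cpl D ⧸ IE) (Ideal.Quotient.mk I y)) •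
        (Ideal.Quotient.mk IE w) = (algebraMap (D ⧸ I) (EGA4.Cpl D ⧸ IE) (Ideal.Quotient.mk I y)) • 0 := by
      rw [smul_zero, CatFlat.algebraMap_quotient_mk, smul_eq_mul, ← map_mul]
      exact Ideal.Quotient.eq_zero_iff_mem.mpr hw
    exact Ideal.Quotient.eq_zero_iff_mem.mp (hregE h1)
  have hyEk : ∀ (l : ℕ) (w : EGA4.Cpl D), alg y ^ l * w ∈ IE → w ∈ IE := by
    intro l
    induction l with
    | zero => intro w hw; simpa using hw
    | succ l ih =>
      intro w hw
      apply ih
      apply hyE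
      rwa [← mul_assoc, ← pow_succ']
  have hjIE : j ∈ IE := by
    apply hyEk k
    have h1 : alg y ^ k ∈ (maximalIdeal (EGA4.Cpl D)) ^ k := by
      apply Ideal.pow_mem_pow
      rw [← FormEq.map_maximalIdeal_cpl]
      exact Ideal.mem_map_of_mem _ hy
    have h2 := hj _ h1
    have h3 : Ideal.span {alg a} ≤ IE := by
      rw [Ideal.span_singleton_le_iff_mem]
      exact Ideal.mem_map_of_mem _ haI
    exact h3 h2
  -- approximate
  have hmul : ∀ b ∈ I, ∀ ε ∈ ((maximalIdeal D).map alg) ^ r0, ε * alg b ∈ Ideal.span {alg a} := by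
    intro b hb ε hε
    have h1 : ε * alg b ∈ ((m ^ r0) * Ideal.span {b}).map alg := by
      rw [Ideal.map_mul, Ideal.map_pow]
      exact Ideal.mul_mem_mul hε (Ideal.mem_map_of_mem _ (Ideal.mem_span_singleton_self b))
    have h2 : (m ^ r0) * Ideal.span {b} ≤ Ideal.span {a} := by
      rw [Ideal.mul_le]
      intro v hv c hc
      obtain ⟨t, rfl⟩ := Ideal.mem_span_singleton'.1 hc
      have := hIa b hb v hv
      have h3 : v * (t * b) = t * (b * v) := by ring
      rw [h3]
      exact Ideal.mul_mem_left _ _ this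
    have h3 := Ideal.map_mono (f := alg) h2 h1
    rwa [Ideal.map_span, Set.image_singleton] at h3
  have key : ∀ w ∈ IE, ∃ b ∈ I, w - alg b ∈ Ideal.span {alg a} := by
    intro w hw
    rw [hIE, Ideal.map] at hw
    refine Submodule.span_induction ?_ ?_ ?_ ?_ hw
    · rintro _ ⟨i, hi, rfl⟩
      exact ⟨i, hi, by rw [sub_self]; exact Ideal.zero_mem _⟩
    · exact ⟨0, I.zero_mem, by rw [map_zero, sub_self]; exact Ideal.zero_mem _⟩
    · rintro x x' _ _ ⟨b, hb, hx⟩ ⟨b', hb', hx'⟩
      refine ⟨b + b', I.add_mem hb hb', ?_⟩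
      have : x + x' - alg (b + b') = (x - alg b) + (x' - alg b') := by rw [map_add]; ring
      rw [this]
      exact Ideal.add_mem _ hx hx'
    · rintro z x _ ⟨b, hb, hx⟩
      obtain ⟨d, hd⟩ := exists_sub_mem_pow D z r0
      refine ⟨d * b, I.mul_mem_left d hb, ?_⟩
      have : z • x - alg (d * b) = z * (x - alg b) + (z - alg d) * alg b := by
        rw [map_mul, smul_eq_mul]; ring
      rw [this]
      exact Ideal.add_mem _ (Ideal.mul_mem_left _ _ hx) (hmul b hb _ hd)
  obtain ⟨b, _, hb⟩ := key j hjIE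
  exact ⟨b, hb⟩

end approx

end Groth.Agent.Lib.Helper18.Ratliff
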