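import Mathlib
import Groth.Prelude.Def_Found
import Groth.Agent.Lib.Helper12.UnivCat
import Groth.Agent.Lib.Helper12.CodimEmb
import Groth.Agent.Lib.Helper18.CatHt
import Groth.Agent.Lib.Helper18.Ratliff1

/-!
# The dimension formula (Matsumura 15.5/15.6, EGA IV 5.5.8, 5.6.1), part 1

* `poly_formula`: for a prime `Q` of `R[X]` over `p` (`R` Noetherian):
  `ht Q + trdeg (R/p) (R[X]/Q) = ht p + 1`.
* `single_step`: the dimension inequality for an extension generated by one element, with equality
  under a catenarity-type hypothesis.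
-/

set_option autoImplicit false
set_option linter.unusedSectionVars false
universe u
open Polynomial

namespace Groth.Agent.Lib.Helper18.DimFormula

open Groth.Agent.Lib.Helper12.Codim

section PolyDomain

variable (D : Type u) [CommRing D] [IsDomain D]

attribute [local instance] Polynomial.algebra in
/-- a prime of `D[X]` contracting to `0` has height at most one -/
theorem height_le_one_of_comap_C_eq_bot (Q : Ideal D[X]) [hQ : Q.IsPrime]
    (h : Q.comap (C : D →+* D[X]) = ⊥) : Q.height ≤ 1 := by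
  let K := FractionRing D
  have hloc : IsLocalization ((nonZeroDivisors D).map (C : D →+* D[X])) K[X] :=
    Polynomial.isLocalization (nonZeroDivisors D) K
  have hdisj : Disjoint (((nonZeroDivisors D).map (C : D →+* D[X]) : Submonoid D[X]) : Set D[X])
      (Q : Set D[X]) := by
    rw [Set.disjoint_left]
    rintro _ ⟨d, hd, rfl⟩ hdQ
    have : d ∈ Q.comap (C : D →+* D[X]) := hdQ
    rw [h, Ideal.mem_bot] at this
    exact nonZeroDivisors.ne_zero hd this
  have h1 := IsLocalization.height_map_of_disjoint (S := K[X])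
    ((nonZeroDivisors D).map (C : D →+* D[X])) Q hdisj
  have hprime : (Q.map (algebraMap D[X] K[X])).IsPrime :=
    IsLocalization.isPrime_of_isPrime_disjoint _ K[X] Q hQ hdisj
  rw [← h1]
  have h2 : ((Q.map (algebraMap D[X] K[X])).height : WithBot ℕ∞) ≤ ringKrullDim K[X] :=
    Ideal.height_le_ringKrullDim_of_ne_top hprime.ne_top
  rw [Polynomial.ringKrullDim_of_isNoetherianRing, ringKrullDim_eq_zero_of_field, zero_add] at h2
  exact_mod_cast h2

/-- the quotient of `D[X]` by a nonzero ideal is algebraic over `D` -/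
theorem isAlgebraic_quotient_of_ne_bot (Q : Ideal D[X]) (hQ0 : Q ≠ ⊥) :
    Algebra.IsAlgebraic D (D[X] ⧸ Q) := by
  obtain ⟨f, hfQ, hf0⟩ := Submodule.exists_mem_ne_zero_of_ne_bot hQ0
  have hx : IsAlgebraic D (Ideal.Quotient.mk Q X) := by
    refine ⟨f, hf0, ?_⟩
    have := Polynomial.aeval_algHom_apply (Ideal.Quotient.mkₐ D Q) (X : D[X]) f
    rw [Polynomial.aeval_X_left, AlgHom.id_apply] at this
    rw [show (Ideal.Quotient.mk Q X) = Ideal.Quotient.mkₐ D Q X from rfl, this]
    exact Ideal.Quotient.eq_zero_iff_mem.2 hfQ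
  have htop : Algebra.adjoin D {Ideal.Quotient.mk Q (X : D[X])} = ⊤ := by
    rw [Algebra.adjoin_singleton_eq_range_aeval]
    have : Polynomial.aeval (Ideal.Quotient.mk Q (X : D[X])) = Ideal.Quotient.mkₐ D Q := by
      apply Polynomial.algHom_ext
      simp
    rw [this, AlgHom.range_eq_top]
    exact Ideal.Quotient.mkₐ_surjective D Q
  have h2 := (Algebra.isAlgebraic_adjoin_singleton_iff (R := D)).2 hx
  rw [htop] at h2
  exact ⟨fun y => h2 y Algebra.mem_top⟩

theorem poly_bot_formula [IsNoetherianRing D] (Q : Ideal D[X]) [hQ : Q.IsPrime]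
    (h : Q.comap (C : D →+* D[X]) = ⊥) :
    (Q.height : Cardinal.{u}) + Algebra.trdeg D (D[X] ⧸ Q) = 1 := by
  by_cases hQ0 : Q = ⊥
  · subst hQ0
    rw [Ideal.height_bot, (AlgEquiv.quotientBot D D[X]).trdeg_eq, Polynomial.trdeg_of_isDomain]
    simp
  · have := isAlgebraic_quotient_of_ne_bot D Q hQ0
    rw [trdeg_eq_zero, add_zero]
    have h1 : Q.height = 1 := by
      refine le_antisymm (height_le_one_of_comap_C_eq_bot D Q h) ?_
      rw [Order.one_le_iff_ne_zero, Ne, Ideal.height_eq_zero_iff_eq_bot]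
      exact hQ0
    rw [h1]
    simp

end PolyDomain

section Poly

variable (R : Type u) [CommRing R] [IsNoetherianRing R]

theorem poly_formula (p : Ideal R) [hp : p.IsPrime] (Q : Ideal R[X]) [hQ : Q.IsPrime]
    [hQp : Q.LiesOver p] :
    (Q.height : Cardinal.{u}) + Algebra.trdeg (R ⧸ p) (R[X] ⧸ Q) =
      (p.height : Cardinal.{u}) + 1 := by
  let φ : R[X] →+* (R ⧸ p)[X] := Polynomial.mapRingHom (Ideal.Quotient.mk p)
  have hφ : Function.Surjective φ := Polynomial.map_surjective _ Ideal.Quotient.mk_surjective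
  have hker : RingHom.ker φ = p.map (C : R →+* R[X]) := by
    rw [Polynomial.ker_mapRingHom, Ideal.mk_ker]
  have hpQ : p.map (C : R →+* R[X]) ≤ Q := by
    rw [Ideal.map_le_iff_le_comap]
    exact le_of_eq (hQp.over)
  have hkerQ : RingHom.ker φ ≤ Q := hker ▸ hpQ
  let Q' : Ideal (R ⧸ p)[X] := Q.map φ
  have hQ' : Q'.IsPrime := Ideal.map_isPrime_of_surjective hφ hkerQ
  have hcomap : Q'.comap φ = Q := by
    rw [Ideal.comap_map_of_surjective' φ hφ, sup_eq_left]
    exact hkerQ
  have hbot : Q'.comap (C : (R ⧸ p) →+* (R ⧸ p)[X]) = ⊥ := by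
    rw [eq_bot_iff]
    intro d hd
    obtain ⟨r, rfl⟩ := Ideal.Quotient.mk_surjective d
    have h1 : (C r : R[X]) ∈ Q'.comap φ := by
      rw [Ideal.mem_comap]
      have : φ (C r) = C (Ideal.Quotient.mk p r) := by simp [φ]
      rw [this]
      exact hd
    rw [hcomap] at h1
    have h2 : r ∈ p := by
      rw [hQp.over]
      exact h1
    rw [Ideal.mem_bot]
    exact Ideal.Quotient.eq_zero_iff_mem.2 h2
  have hF := poly_bot_formula (R ⧸ p) Q' hbot
  -- heights
  have hht : Q.height = p.height + Q'.height := by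
    rw [Ideal.height_eq_height_add_of_liesOver_of_hasGoingDown p Q]
    congr 1
    let e : (R[X] ⧸ (p.map (algebraMap R R[X]))) ≃+* (R ⧸ p)[X] :=
      (Ideal.polynomialQuotientEquivQuotientPolynomial p).symm
    have hcomp : (e : (R[X] ⧸ (p.map (algebraMap R R[X]))) →+* (R ⧸ p)[X]).comp
        (Ideal.Quotient.mk (p.map (algebraMap R R[X]))) = φ := by
      apply Polynomial.ringHom_ext
      · intro a
        simp [e, φ]
      · simp [e, φ]
    have key : (Q.map (Ideal.Quotient.mk (p.map (algebraMap R R[X])))).map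
        (e : (R[X] ⧸ (p.map (algebraMap R R[X]))) →+* (R ⧸ p)[X]) = Q' := by
      rw [Ideal.map_map, hcomp]
    rw [← key, Ideal.map_coe]
    exact (e.height_map _).symm
  -- transcendence degrees
  have hle : Q ≤ Q'.comap φ := hcomap.ge
  let ψ : (R[X] ⧸ Q) →ₐ[R ⧸ p] ((R ⧸ p)[X] ⧸ Q') :=
    { Ideal.quotientMap Q' φ hle with
      commutes' := by
        intro d
        obtain ⟨r, rfl⟩ := Ideal.Quotient.mk_surjective d
        change Ideal.quotientMap Q' φ hle (Ideal.Quotient.mk Q (C r)) = _
        rw [Ideal.quotientMap_mk]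
        simp [φ]
        rfl }
  have hψ : Function.Bijective ψ := by
    constructor
    · exact Ideal.quotientMap_injective' (H := hle) hcomap.le
    · exact Ideal.quotientMap_surjective (H := hle) hφ
  have htr : Algebra.trdeg (R ⧸ p) (R[X] ⧸ Q) = Algebra.trdeg (R ⧸ p) ((R ⧸ p)[X] ⧸ Q') :=
    AlgEquiv.trdeg_eq (AlgEquiv.ofBijective ψ hψ)
  rw [htr, hht, Cardinal.ofENat_add, add_assoc, hF]

end Poly

section Transfer

/-- residue transcendence degree is unchanged under pulling back along a surjection -/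
theorem trdeg_quotient_comap {A B C : Type u} [CommRing A] [CommRing B] [CommRing C] [Algebra A B]
    [Algebra A C] (φ : B →ₐ[A] C) (hφ : Function.Surjective φ) (p : Ideal A) (q : Ideal C)
    [q.LiesOver p] :
    Algebra.trdeg (A ⧸ p) (B ⧸ q.comap φ) = Algebra.trdeg (A ⧸ p) (C ⧸ q) := by
  have H : ∀ a : B, a ∈ q.comap φ → ((Ideal.Quotient.mk q).comp (φ : B →+* C)) a = 0 := by
    intro a ha
    exact Ideal.Quotient.eq_zero_iff_mem.2 ha
  let ψ : (B ⧸ q.comap φ) →ₐ[A ⧸ p] (C ⧸ q) :=
    { Ideal.Quotient.lift (q.comap φ) ((Ideal.Quotient.mk q).comp (φ : B →+* C)) H with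
      commutes' := by
        intro d
        obtain ⟨r, rfl⟩ := Ideal.Quotient.mk_surjective d
        change Ideal.Quotient.lift (q.comap φ) ((Ideal.Quotient.mk q).comp (φ : B →+* C)) H
          (Ideal.Quotient.mk (q.comap φ) (algebraMap A B r)) = Ideal.Quotient.mk q (algebraMap A C r)
        rw [Ideal.Quotient.lift_mk]
        simp }
  have hψ : Function.Bijective ψ := by
    constructor
    · apply RingHom.lift_injective_of_ker_le_ideal
      intro a ha
      rw [RingHom.mem_ker, RingHom.comp_apply, Ideal.Quotient.eq_zero_iff_mem] at ha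
      exact ha
    · apply Ideal.Quotient.lift_surjective_of_surjective
      exact Ideal.Quotient.mk_surjective.comp hφ
  exact AlgEquiv.trdeg_eq (AlgEquiv.ofBijective ψ hψ)

end Transfer

section HeightSurj

variable {B S : Type u} [CommRing B] [IsDomain B] [CommRing S] [IsDomain S]

omit [IsDomain B] in
theorem cd_ker_comap (φ : B →+* S) (hφ : Function.Surjective φ) (q : Ideal S) [hq : q.IsPrime] :
    cd (⟨RingHom.ker φ, RingHom.ker_isPrime φ⟩ : PrimeSpectrum B)
      ⟨q.comap φ, Ideal.comap_isPrime φ q⟩ =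
    cd (⟨⊥, Ideal.isPrime_bot⟩ : PrimeSpectrum S) ⟨q, hq⟩ := by
  have hr : (Set.range (comapEmbOfSurjective φ hφ)).OrdConnected := by
    have : Set.range (comapEmbOfSurjective φ hφ) = PrimeSpectrum.zeroLocus (RingHom.ker φ) :=
      range_comap_of_surjective _ φ hφ
    rw [this]
    refine ⟨?_⟩
    intro a ha b _ c hc
    rw [PrimeSpectrum.mem_zeroLocus] at ha ⊢
    exact ha.trans hc.1
  rw [← cd_map (comapEmbOfSurjective φ hφ) hr]
  rfl

/-- for a surjection with nonzero kernel from a domain, heights drop -/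
theorem height_add_one_le_height_comap (φ : B →+* S) (hφ : Function.Surjective φ)
    (hker : RingHom.ker φ ≠ ⊥) (q : Ideal S) [hq : q.IsPrime] :
    q.height + 1 ≤ (q.comap φ).height := by
  have hQ : (q.comap φ).IsPrime := Ideal.comap_isPrime φ q
  by_cases htop : (q.comap φ).height = ⊤
  · rw [htop]
    exact le_top
  obtain ⟨n, hn⟩ := ENat.ne_top_iff_exists.1 htop
  have h1 : q.height ≤ cd (⟨⊥, Ideal.isPrime_bot⟩ : PrimeSpectrum S) ⟨q, hq⟩ := by
    rw [PrimeSpectrum.height_eq_orderHeight (⟨q, hq⟩ : PrimeSpectrum S)]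
    exact Ratliff.height_le_cd_bot _
  rw [← cd_ker_comap φ hφ q] at h1
  have hlt : (⟨⊥, Ideal.isPrime_bot⟩ : PrimeSpectrum B) < ⟨RingHom.ker φ, RingHom.ker_isPrime φ⟩ := by
    refine lt_of_le_of_ne ?_ ?_
    · change (⊥ : Ideal B) ≤ _
      exact bot_le
    · intro h
      exact hker (congrArg PrimeSpectrum.asIdeal h).symm
  have h2 : cd (⟨RingHom.ker φ, RingHom.ker_isPrime φ⟩ : PrimeSpectrum B)
      ⟨q.comap φ, hQ⟩ + 1 ≤ (q.comap φ).height := by
    rw [← hn]
    cases n with
    | zero =>
      exfalso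
      rw [Nat.cast_zero] at hn
      have := (Ideal.height_eq_zero_iff_eq_bot (I := q.comap φ)).1 hn.symm
      have h3 : RingHom.ker φ ≤ q.comap φ := Ideal.comap_mono bot_le
      rw [this] at h3
      exact hker (le_bot_iff.1 h3)
    | succ m =>
      have : cd (⟨RingHom.ker φ, RingHom.ker_isPrime φ⟩ : PrimeSpectrum B)
          ⟨q.comap φ, hQ⟩ ≤ (m : ℕ∞) := by
        rw [cd_le_iff]
        intro s hs1 hs2
        have h4 := Order.length_le_height (p := s.cons _ (hs1 ▸ hlt)) (x := ⟨q.comap φ, hQ⟩)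
          (by rw [RelSeries.last_cons]; exact hs2)
        rw [RelSeries.cons_length, ← PrimeSpectrum.height_eq_orderHeight] at h4
        change _ ≤ (q.comap φ).height at h4
        rw [← hn] at h4
        have : s.length + 1 ≤ m + 1 := by exact_mod_cast h4
        exact_mod_cast (by omega : s.length ≤ m)
      push_cast
      exact add_le_add this le_rfl
  exact le_trans (add_le_add h1 le_rfl) h2

end HeightSurj

end Groth.Agent.Lib.Helper18.DimFormula
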