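import Mathlib
import Groth.Agent.Lib.Helper18.DimFormula1
import Groth.Agent.Lib.Helper1.Catenary

/-!
# The dimension formula (Matsumura 15.5/15.6, EGA IV 5.5.8, 5.6.1), part 2

* `single_step`: one-generator case.
* `trans_le`, `trans_eq`: transitivity in towers.
* `height_comap_le_of_isCatenary_localization`: catenarity gives the height condition.
* `dim_inequality`: `ht q + trdeg (R/p) (S/q) ≤ ht p + trdeg R S` for a finite type extension of
  domains `R ⊆ S`, `R` Noetherian.
* `dim_formula`: equality when `R` is universally catenary.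
-/

set_option autoImplicit false
set_option linter.unusedSectionVars false
set_option linter.style.haveILetI false
universe u
open Polynomial

namespace Groth.Agent.Lib.Helper18.DimFormula

open Groth.Agent.Lib.Helper12.Codim

section Single

variable (R S : Type u) [CommRing R] [IsDomain R] [IsNoetherianRing R] [CommRing S] [IsDomain S]
  [Algebra R S] [FaithfulSMul R S]

/-- The dimension inequality for an extension of domains generated by one element, with equality
when `ht (φ⁻¹ q) ≤ ht (ker φ) + ht q` (which holds when `R[X]` is catenary at `φ⁻¹ q`). -/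
theorem single_step (φ : R[X] →ₐ[R] S) (hφ : Function.Surjective φ) (p : Ideal R) [hp : p.IsPrime]
    (q : Ideal S) [hq : q.IsPrime] [hqp : q.LiesOver p] :
    (q.height : Cardinal.{u}) + Algebra.trdeg (R ⧸ p) (S ⧸ q) ≤
        (p.height : Cardinal.{u}) + Algebra.trdeg R S ∧
    ((q.comap φ).height ≤ (RingHom.ker φ).height + q.height →
      (q.height : Cardinal.{u}) + Algebra.trdeg (R ⧸ p) (S ⧸ q) =
        (p.height : Cardinal.{u}) + Algebra.trdeg R S) := by
  have hQ : (q.comap φ).IsPrime := Ideal.comap_isPrime φ q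
  have hF := poly_formula R p (q.comap φ)
  rw [trdeg_quotient_comap φ hφ p q] at hF
  have hinjRS : Function.Injective (algebraMap R S) := FaithfulSMul.algebraMap_injective R S
  haveI : IsNoetherianRing S := isNoetherianRing_of_surjective R[X] S (φ : R[X] →+* S) hφ
  by_cases hker : RingHom.ker φ = ⊥
  · -- `S ≅ R[X]`
    have hinj : Function.Injective φ := (RingHom.injective_iff_ker_eq_bot (φ : R[X] →+* S)).2 hker
    let e : R[X] ≃ₐ[R] S := AlgEquiv.ofBijective φ ⟨hinj, hφ⟩
    have htr : Algebra.trdeg R S = 1 := by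
      rw [← e.trdeg_eq, Polynomial.trdeg_of_isDomain]
    have hht : (q.comap φ).height = q.height := e.toRingEquiv.height_comap q
    rw [hht] at hF
    rw [htr, hF]
    exact ⟨le_rfl, fun _ => rfl⟩
  · -- `S` algebraic over `R`
    have htr : Algebra.trdeg R S = 0 := by
      have h1 := isAlgebraic_quotient_of_ne_bot R (RingHom.ker φ) hker
      rw [← (Ideal.quotientKerAlgEquivOfSurjective hφ).trdeg_eq]
      exact trdeg_eq_zero
    have h1 : q.height + 1 ≤ (q.comap φ).height :=
      height_add_one_le_height_comap (φ : R[X] →+* S) hφ hker q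
    have hker1 : (RingHom.ker φ).height ≤ 1 := by
      have : (RingHom.ker φ).IsPrime := RingHom.ker_isPrime _
      apply height_le_one_of_comap_C_eq_bot
      rw [eq_bot_iff]
      intro r hr
      rw [Ideal.mem_comap, RingHom.mem_ker] at hr
      have : algebraMap R S r = 0 := by
        rw [← hr]
        exact (φ.commutes r).symm
      rw [Ideal.mem_bot]
      exact hinjRS (by rw [this, map_zero])
    -- finiteness
    have hqfin : q.height ≠ ⊤ := Ideal.height_ne_top hq.ne_top
    have hQfin : (q.comap φ).height ≠ ⊤ := Ideal.height_ne_top hQ.ne_top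
    have hpfin : p.height ≠ ⊤ := Ideal.height_ne_top hp.ne_top
    obtain ⟨a, ha⟩ := ENat.ne_top_iff_exists.1 hqfin
    obtain ⟨b, hb⟩ := ENat.ne_top_iff_exists.1 hQfin
    obtain ⟨c, hc⟩ := ENat.ne_top_iff_exists.1 hpfin
    rw [← ha, ← hb] at h1
    rw [← hb, ← hc] at hF
    rw [Cardinal.ofENat_nat, Cardinal.ofENat_nat] at hF
    have htfin : Algebra.trdeg (R ⧸ p) (S ⧸ q) < Cardinal.aleph0 := by
      refine lt_of_le_of_lt (self_le_add_left _ ((b : ℕ) : Cardinal)) ?_
      rw [hF]
      exact_mod_cast Cardinal.natCast_lt_aleph0 (n := c + 1)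
    obtain ⟨t, ht⟩ := Cardinal.lt_aleph0.1 htfin
    rw [ht] at hF
    have hF' : b + t = c + 1 := by exact_mod_cast hF
    have h1' : a + 1 ≤ b := by exact_mod_cast h1
    rw [htr, ← ha, ← hc, ht, add_zero, Cardinal.ofENat_nat, Cardinal.ofENat_nat]
    constructor
    · exact_mod_cast (by omega : a + t ≤ c)
    · intro h2
      rw [← hb] at h2
      have h3 : (b : ℕ∞) ≤ 1 + a := le_trans h2 (add_le_add hker1 le_rfl)
      have h3' : b ≤ 1 + a := by exact_mod_cast h3
      exact_mod_cast (by omega : a + t = c)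

end Single

section Trans

variable (R R' S : Type u) [CommRing R] [CommRing R'] [CommRing S]
  [Algebra R R'] [Algebra R' S] [Algebra R S] [IsScalarTower R R' S]

instance isScalarTower_quotient (p : Ideal R) (p' : Ideal R') (q : Ideal S)
    [p'.LiesOver p] [q.LiesOver p'] [q.LiesOver p] :
    IsScalarTower (R ⧸ p) (R' ⧸ p') (S ⧸ q) := by
  refine IsScalarTower.of_algebraMap_eq ?_
  intro x
  obtain ⟨r, rfl⟩ := Ideal.Quotient.mk_surjective x
  change Ideal.Quotient.mk q (algebraMap R S r) =
    Ideal.Quotient.mk q (algebraMap R' S (algebraMap R R' r))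
  rw [IsScalarTower.algebraMap_apply R R' S]

variable [IsDomain R] [IsDomain R'] [IsDomain S] [FaithfulSMul R R'] [FaithfulSMul R' S]
  [FaithfulSMul R S]

theorem trdeg_tower (p : Ideal R) (p' : Ideal R') (q : Ideal S) [hp : p.IsPrime] [p'.IsPrime]
    [q.IsPrime] [p'.LiesOver p] [q.LiesOver p'] [q.LiesOver p] :
    Algebra.trdeg (R ⧸ p) (R' ⧸ p') + Algebra.trdeg (R' ⧸ p') (S ⧸ q) =
      Algebra.trdeg (R ⧸ p) (S ⧸ q) :=
  trdeg_add_eq (R ⧸ p) (R' ⧸ p') (A := S ⧸ q)

theorem trans_le (p : Ideal R) (p' : Ideal R') (q : Ideal S) [hp : p.IsPrime] [p'.IsPrime]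
    [q.IsPrime] [p'.LiesOver p] [q.LiesOver p'] [q.LiesOver p]
    (h1 : (p'.height : Cardinal.{u}) + Algebra.trdeg (R ⧸ p) (R' ⧸ p') ≤
      (p.height : Cardinal.{u}) + Algebra.trdeg R R')
    (h2 : (q.height : Cardinal.{u}) + Algebra.trdeg (R' ⧸ p') (S ⧸ q) ≤
      (p'.height : Cardinal.{u}) + Algebra.trdeg R' S) :
    (q.height : Cardinal.{u}) + Algebra.trdeg (R ⧸ p) (S ⧸ q) ≤
      (p.height : Cardinal.{u}) + Algebra.trdeg R S := by
  rw [← trdeg_add_eq R R' (A := S), ← trdeg_tower R R' S p p' q]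
  calc (q.height : Cardinal.{u}) + (Algebra.trdeg (R ⧸ p) (R' ⧸ p') + Algebra.trdeg (R' ⧸ p') (S ⧸ q))
      = ((q.height : Cardinal.{u}) + Algebra.trdeg (R' ⧸ p') (S ⧸ q)) +
          Algebra.trdeg (R ⧸ p) (R' ⧸ p') := by ring
    _ ≤ ((p'.height : Cardinal.{u}) + Algebra.trdeg R' S) + Algebra.trdeg (R ⧸ p) (R' ⧸ p') :=
        add_le_add h2 le_rfl
    _ = ((p'.height : Cardinal.{u}) + Algebra.trdeg (R ⧸ p) (R' ⧸ p')) + Algebra.trdeg R' S := by
        ring
    _ ≤ ((p.height : Cardinal.{u}) + Algebra.trdeg R R') + Algebra.trdeg R' S :=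
        add_le_add h1 le_rfl
    _ = _ := by ring

theorem trans_eq (p : Ideal R) (p' : Ideal R') (q : Ideal S) [hp : p.IsPrime] [p'.IsPrime]
    [q.IsPrime] [p'.LiesOver p] [q.LiesOver p'] [q.LiesOver p]
    (h1 : (p'.height : Cardinal.{u}) + Algebra.trdeg (R ⧸ p) (R' ⧸ p') =
      (p.height : Cardinal.{u}) + Algebra.trdeg R R')
    (h2 : (q.height : Cardinal.{u}) + Algebra.trdeg (R' ⧸ p') (S ⧸ q) =
      (p'.height : Cardinal.{u}) + Algebra.trdeg R' S) :
    (q.height : Cardinal.{u}) + Algebra.trdeg (R ⧸ p) (S ⧸ q) =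
      (p.height : Cardinal.{u}) + Algebra.trdeg R S := by
  rw [← trdeg_add_eq R R' (A := S), ← trdeg_tower R R' S p p' q]
  calc (q.height : Cardinal.{u}) + (Algebra.trdeg (R ⧸ p) (R' ⧸ p') + Algebra.trdeg (R' ⧸ p') (S ⧸ q))
      = ((q.height : Cardinal.{u}) + Algebra.trdeg (R' ⧸ p') (S ⧸ q)) +
          Algebra.trdeg (R ⧸ p) (R' ⧸ p') := by ring
    _ = ((p'.height : Cardinal.{u}) + Algebra.trdeg R' S) + Algebra.trdeg (R ⧸ p) (R' ⧸ p') := by
        rw [h2]
    _ = ((p'.height : Cardinal.{u}) + Algebra.trdeg (R ⧸ p) (R' ⧸ p')) + Algebra.trdeg R' S := by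
        ring
    _ = ((p.height : Cardinal.{u}) + Algebra.trdeg R R') + Algebra.trdeg R' S := by rw [h1]
    _ = _ := by ring

end Trans

section Cat

variable {B S : Type u} [CommRing B] [IsDomain B] [CommRing S] [IsDomain S]

/-- if `B` is catenary at `φ⁻¹ q`, heights are additive along `ker φ ⊆ φ⁻¹ q` -/
theorem height_comap_le_of_isCatenary_localization (φ : B →+* S) (hφ : Function.Surjective φ)
    (q : Ideal S) [hq : q.IsPrime] (T : Type u) [CommRing T] [Algebra B T]
    [hQ : (q.comap φ).IsPrime] [IsLocalization.AtPrime T (q.comap φ)] (hcat : CAlg.IsCatenary T) :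
    (q.comap φ).height ≤ (RingHom.ker φ).height + q.height := by
  let Q0 : PrimeSpectrum B := ⟨RingHom.ker φ, RingHom.ker_isPrime φ⟩
  let Q : PrimeSpectrum B := ⟨q.comap φ, hQ⟩
  let bot : PrimeSpectrum B := ⟨⊥, Ideal.isPrime_bot⟩
  have hQ0Q : Q0 ≤ Q := by
    change RingHom.ker φ ≤ q.comap φ
    exact Ideal.comap_mono bot_le
  have hbotQ0 : bot ≤ Q0 := by
    change (⊥ : Ideal B) ≤ _
    exact bot_le
  let ι := comapEmbOfIsLocalization (B := T) (q.comap φ).primeCompl
  have hrange := range_comapEmbOfIsLocalization (B := T) (q.comap φ).primeCompl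
  have hr : (Set.range ι).OrdConnected := by
    rw [hrange]
    exact ordConnected_disjoint _
  obtain ⟨a0, ha0⟩ : bot ∈ Set.range ι := by
    rw [hrange]
    exact disjoint_primeCompl_of_le _ bot (hbotQ0.trans hQ0Q)
  obtain ⟨a1, ha1⟩ : Q0 ∈ Set.range ι := by
    rw [hrange]
    exact disjoint_primeCompl_of_le _ Q0 hQ0Q
  obtain ⟨a2, ha2⟩ : Q ∈ Set.range ι := by
    rw [hrange]
    exact disjoint_primeCompl_of_le _ Q le_rfl
  have hcat' : IsCat (PrimeSpectrum T) := isCat_iff_catForm.2 hcat
  have h01 : a0 ≤ a1 := by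
    rw [← ι.le_iff_le, ha0, ha1]
    exact hbotQ0
  have h12 : a1 ≤ a2 := by
    rw [← ι.le_iff_le, ha1, ha2]
    exact hQ0Q
  have hadd := (isCat_iff.1 hcat').2 a0 a1 a2 h01 h12
  rw [← cd_map ι hr, ← cd_map ι hr, ← cd_map ι hr, ha0, ha1, ha2] at hadd
  have h1 : (q.comap φ).height ≤ cd bot Q := by
    rw [PrimeSpectrum.height_eq_orderHeight Q]
    exact Ratliff.height_le_cd_bot _
  have h2 : cd bot Q0 ≤ (RingHom.ker φ).height := by
    rw [PrimeSpectrum.height_eq_orderHeight Q0]
    exact CatHt.cd_le_height _ _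
  have h3 : cd Q0 Q ≤ q.height := by
    rw [cd_ker_comap φ hφ q, PrimeSpectrum.height_eq_orderHeight (⟨q, hq⟩ : PrimeSpectrum S)]
    exact CatHt.cd_le_height _ _
  rw [hadd] at h1
  exact h1.trans (add_le_add h2 h3)

theorem height_comap_le_of_isCatenary (φ : B →+* S) (hφ : Function.Surjective φ)
    (q : Ideal S) [hq : q.IsPrime] (hcat : CAlg.IsCatenary B) :
    (q.comap φ).height ≤ (RingHom.ker φ).height + q.height := by
  have hQ : (q.comap φ).IsPrime := Ideal.comap_isPrime φ q
  exact height_comap_le_of_isCatenary_localization φ hφ q (Localization.AtPrime (q.comap φ))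
    (isCatenary_of_isLocalization (q.comap φ).primeCompl hcat)

end Cat

section Main

/-- the one-generator case in the universally catenary situation -/
theorem single_step_uc (R S : Type u) [CommRing R] [IsDomain R] [IsNoetherianRing R] [CommRing S]
    [IsDomain S] [Algebra R S] [FaithfulSMul R S]
    (φ : R[X] →ₐ[R] S) (hφ : Function.Surjective φ) (p : Ideal R) [hp : p.IsPrime]
    (q : Ideal S) [hq : q.IsPrime] [hqp : q.LiesOver p] :
    (q.height : Cardinal.{u}) + Algebra.trdeg (R ⧸ p) (S ⧸ q) ≤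
        (p.height : Cardinal.{u}) + Algebra.trdeg R S ∧
    (CAlg.IsUniversallyCatenary R →
      (q.height : Cardinal.{u}) + Algebra.trdeg (R ⧸ p) (S ⧸ q) =
        (p.height : Cardinal.{u}) + Algebra.trdeg R S) := by
  obtain ⟨h1, h2⟩ := single_step R S φ hφ p q
  refine ⟨h1, fun hUC => h2 ?_⟩
  have hcat : CAlg.IsCatenary R[X] := hUC.2 R[X] inferInstance
  exact height_comap_le_of_isCatenary (φ : R[X] →+* S) hφ q hcat

/-- **The dimension inequality / formula**, by induction on a generating set. -/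
theorem main_aux (S : Type u) [CommRing S] [IsDomain S] (s : Finset S) :
    ∀ (R : Type u) [CommRing R] [IsDomain R] [IsNoetherianRing R] [Algebra R S]
      [FaithfulSMul R S], Algebra.adjoin R (s : Set S) = ⊤ →
      ∀ (p : Ideal R) [p.IsPrime] (q : Ideal S) [q.IsPrime] [q.LiesOver p],
      (q.height : Cardinal.{u}) + Algebra.trdeg (R ⧸ p) (S ⧸ q) ≤
        (p.height : Cardinal.{u}) + Algebra.trdeg R S ∧
      (CAlg.IsUniversallyCatenary R →
        (q.height : Cardinal.{u}) + Algebra.trdeg (R ⧸ p) (S ⧸ q) =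
          (p.height : Cardinal.{u}) + Algebra.trdeg R S) := by
  classical
  induction s using Finset.induction_on with
  | empty =>
    intro R _ _ _ _ _ hs p _ q _ _
    rw [Finset.coe_empty, Algebra.adjoin_empty] at hs
    have hsurj : Function.Surjective (algebraMap R S) := by
      intro y
      have : y ∈ (⊥ : Subalgebra R S) := hs ▸ Algebra.mem_top
      exact Algebra.mem_bot.1 this
    refine single_step_uc R S (Polynomial.aeval (0 : S)) ?_ p q
    intro y
    obtain ⟨r, rfl⟩ := hsurj y
    exact ⟨C r, by simp⟩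
  | insert x s' hx ih =>
    intro R _ _ _ _ _ hs p _ q _ _
    let R' : Subalgebra R S := Algebra.adjoin R {x}
    have hfg : R'.FG := ⟨{x}, by simp [R']⟩
    haveI : Algebra.FiniteType R R' := (Subalgebra.fg_iff_finiteType _).1 hfg
    haveI hR'N : IsNoetherianRing R' := Algebra.FiniteType.isNoetherianRing R R'
    haveI : FaithfulSMul R R' := (faithfulSMul_iff_algebraMap_injective R R').2
      (fun a b h => FaithfulSMul.algebraMap_injective R S (congrArg Subtype.val h))
    have hs' : Algebra.adjoin R' (s' : Set S) = ⊤ := by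
      have h1 := Algebra.adjoin_union_eq_adjoin_adjoin R {x} (s' : Set S)
      rw [Finset.coe_insert, Set.insert_eq] at hs
      rw [hs] at h1
      apply Subalgebra.restrictScalars_injective R
      rw [← h1, Subalgebra.restrictScalars_top]
    let p' : Ideal R' := q.under R'
    haveI : p'.IsPrime := Ideal.comap_isPrime _ q
    obtain ⟨h2le, h2eq⟩ := ih R' hs' p' q
    let x' : R' := ⟨x, Algebra.subset_adjoin (Set.mem_singleton x)⟩
    let φ : R[X] →ₐ[R] R' := Polynomial.aeval x'
    have hφ : Function.Surjective φ := by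
      rintro ⟨y, hy⟩
      have hy' : y ∈ Algebra.adjoin R {x} := hy
      rw [Algebra.adjoin_singleton_eq_range_aeval] at hy'
      obtain ⟨f, hf⟩ := hy'
      refine ⟨f, Subtype.ext ?_⟩
      change ((Polynomial.aeval x' f : R') : S) = y
      rw [← hf]
      exact (Subalgebra.aeval_coe R' x' f).symm
    obtain ⟨h1le, h1eq⟩ := single_step_uc R R' φ hφ p p'
    refine ⟨trans_le R R' S p p' q h1le h2le,
      fun hUC => trans_eq R R' S p p' q (h1eq hUC) (h2eq ?_)⟩
    exact Groth.Agent.Lib.Helper1.Catenary.isUniversallyCatenary_of_essFiniteType R R' hUC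

/-- **Dimension inequality** for a finite type extension of domains over a Noetherian base. -/
theorem dim_inequality (R : Type u) [CommRing R] [IsDomain R] [IsNoetherianRing R] (S : Type u)
    [CommRing S] [IsDomain S] [Algebra R S] [FaithfulSMul R S] [hft : Algebra.FiniteType R S]
    (p : Ideal R) [p.IsPrime] (q : Ideal S) [q.IsPrime] [q.LiesOver p] :
    (q.height : Cardinal.{u}) + Algebra.trdeg (R ⧸ p) (S ⧸ q) ≤
      (p.height : Cardinal.{u}) + Algebra.trdeg R S := by
  obtain ⟨s, hs⟩ := hft.out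
  exact (main_aux S s R hs p q).1

/-- **Dimension formula** for a finite type extension of domains over a universally catenary
base. -/
theorem dim_formula (R : Type u) [CommRing R] [IsDomain R] (hR : CAlg.IsUniversallyCatenary R)
    (S : Type u) [CommRing S] [IsDomain S] [Algebra R S] [FaithfulSMul R S]
    [hft : Algebra.FiniteType R S]
    (p : Ideal R) [p.IsPrime] (q : Ideal S) [q.IsPrime] [q.LiesOver p] :
    (q.height : Cardinal.{u}) + Algebra.trdeg (R ⧸ p) (S ⧸ q) =
      (p.height : Cardinal.{u}) + Algebra.trdeg R S := by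
  haveI := hR.1
  obtain ⟨s, hs⟩ := hft.out
  exact (main_aux S s R hs p q).2 hR

end Main

end Groth.Agent.Lib.Helper18.DimFormula
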