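import Mathlib
import Groth.Agent.Lib.Helper18.DimFormula2

/-!
# The dimension formula, part 3: transport lemmas and the converse

* `trdeg_eq_of_ringEquiv`: transcendence degree is invariant under compatible ring isomorphisms.
* `cd_eq_height_map_mk`: `cd P₁ P₂ = ht (P₂/P₁)`.
* `isUniversallyCatenary_of_dim_formula`: a catenary Noetherian ring for which the dimension formula
  holds with equality (for finite type domains over its integral quotients) is universally catenary.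
-/

set_option autoImplicit false
set_option linter.unusedSectionVars false
set_option linter.style.haveILetI false
universe u v
open Polynomial

namespace Groth.Agent.Lib.Helper18.DimFormula

open Groth.Agent.Lib.Helper12.Codim

section Transport

/-- transcendence degree only depends on the base ring up to isomorphism -/
theorem trdeg_eq_of_base_ringEquiv {R R' : Type u} {A : Type v} [CommRing R] [CommRing R'] [CommRing A]
    [Algebra R A] [Algebra R' A] (f : R ≃+* R')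
    (h : (algebraMap R' A).comp (f : R →+* R') = algebraMap R A) :
    Algebra.trdeg R A = Algebra.trdeg R' A := by
  have key : ∀ s : Set A, AlgebraicIndependent R' ((↑) : s → A) ↔
      AlgebraicIndependent R ((↑) : s → A) := by
    intro s
    have := algebraicIndependent_ringHom_iff_of_comp_eq (x := ((↑) : s → A)) f (RingHom.id A)
      Function.injective_id (by rw [h]; rfl)
    simpa using this
  unfold Algebra.trdeg
  apply le_antisymm
  · refine ciSup_le' fun i => ?_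
    exact le_ciSup_of_le Cardinal.bddAbove_of_small ⟨i.1, (key i.1).2 i.2⟩ le_rfl
  · refine ciSup_le' fun i => ?_
    exact le_ciSup_of_le Cardinal.bddAbove_of_small ⟨i.1, (key i.1).1 i.2⟩ le_rfl

/-- transcendence degree is invariant under a compatible pair of ring isomorphisms -/
theorem trdeg_eq_of_ringEquiv {R R' A A' : Type u} [CommRing R] [CommRing R'] [CommRing A]
    [CommRing A'] [Algebra R A] [Algebra R' A'] (f : R ≃+* R') (g : A ≃+* A')
    (h : (algebraMap R' A').comp (f : R →+* R') = (g : A →+* A').comp (algebraMap R A)) :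
    Algebra.trdeg R A = Algebra.trdeg R' A' := by
  letI : Algebra R A' := ((algebraMap R' A').comp (f : R →+* R')).toAlgebra
  have h1 : Algebra.trdeg R A' = Algebra.trdeg R' A' := trdeg_eq_of_base_ringEquiv f rfl
  let e : A ≃ₐ[R] A' := { g with
    commutes' := by
      intro r
      have := congrArg (fun φ : R →+* A' => φ r) h
      exact this.symm }
  rw [← h1]
  exact e.trdeg_eq

end Transport

section CdQuot

variable {T : Type u} [CommRing T]

/-- in a domain, `cd ⊥ q` is the height of `q` -/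
theorem cd_bot_eq_height {S : Type u} [CommRing S] [IsDomain S] (q : Ideal S) [hq : q.IsPrime] :
    cd (⟨⊥, Ideal.isPrime_bot⟩ : PrimeSpectrum S) ⟨q, hq⟩ = q.height := by
  rw [PrimeSpectrum.height_eq_orderHeight (⟨q, hq⟩ : PrimeSpectrum S)]
  exact le_antisymm (CatHt.cd_le_height _ _) (Ratliff.height_le_cd_bot _)

/-- the codimension of `P₁` in `P₂` is the height of `P₂ / P₁` in `T / P₁` -/
theorem cd_eq_height_map_mk (P₁ P₂ : Ideal T) [h1 : P₁.IsPrime] [h2 : P₂.IsPrime] (h : P₁ ≤ P₂) :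
    cd (⟨P₁, h1⟩ : PrimeSpectrum T) ⟨P₂, h2⟩ = (P₂.map (Ideal.Quotient.mk P₁)).height := by
  have hφ : Function.Surjective (Ideal.Quotient.mk P₁) := Ideal.Quotient.mk_surjective
  haveI hq : (P₂.map (Ideal.Quotient.mk P₁)).IsPrime :=
    Ideal.map_isPrime_of_surjective hφ (by rw [Ideal.mk_ker]; exact h)
  have hcomap : (P₂.map (Ideal.Quotient.mk P₁)).comap (Ideal.Quotient.mk P₁) = P₂ := by
    rw [Ideal.comap_map_of_surjective' _ hφ, Ideal.mk_ker, sup_eq_left]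
    exact h
  have h3 := cd_ker_comap (Ideal.Quotient.mk P₁) hφ (P₂.map (Ideal.Quotient.mk P₁))
  rw [cd_bot_eq_height] at h3
  rw [← h3]
  congr 1
  · exact PrimeSpectrum.ext (Ideal.mk_ker).symm
  · exact PrimeSpectrum.ext hcomap.symm

end CdQuot

section Converse

variable (A : Type u) [CommRing A] (T : Type u) [CommRing T] [Algebra A T]

instance finiteType_quotient_of_liesOver [Algebra.FiniteType A T] (𝔭 : Ideal A) (P : Ideal T)
    [P.LiesOver 𝔭] : Algebra.FiniteType (A ⧸ 𝔭) (T ⧸ P) := by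
  haveI : Algebra.FiniteType A (T ⧸ P) :=
    Algebra.FiniteType.of_surjective (Ideal.Quotient.mkₐ A P) (Ideal.Quotient.mkₐ_surjective A P)
  exact Algebra.FiniteType.of_restrictScalars_finiteType A (A ⧸ 𝔭) (T ⧸ P)

/-- residue transcendence degrees of double quotients -/
theorem trdeg_quotQuot (P₁ P₂ : Ideal T) (h : P₁ ≤ P₂) (𝔭₁ 𝔭₂ : Ideal A) [P₁.LiesOver 𝔭₁]
    [P₂.LiesOver 𝔭₂] (h' : 𝔭₁ ≤ 𝔭₂)
    [(P₂.map (Ideal.Quotient.mk P₁)).LiesOver (𝔭₂.map (Ideal.Quotient.mk 𝔭₁))] :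
    Algebra.trdeg ((A ⧸ 𝔭₁) ⧸ 𝔭₂.map (Ideal.Quotient.mk 𝔭₁))
      ((T ⧸ P₁) ⧸ P₂.map (Ideal.Quotient.mk P₁)) = Algebra.trdeg (A ⧸ 𝔭₂) (T ⧸ P₂) := by
  refine trdeg_eq_of_ringEquiv (DoubleQuot.quotQuotEquivQuotOfLE h')
    (DoubleQuot.quotQuotEquivQuotOfLE h) ?_
  apply Ideal.Quotient.ringHom_ext
  apply Ideal.Quotient.ringHom_ext
  ext a
  rfl


/-- lying over for quotients -/
theorem liesOver_map_mk (P₁ P₂ : Ideal T) (h : P₁ ≤ P₂) (𝔭₁ 𝔭₂ : Ideal A) [P₁.LiesOver 𝔭₁]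
    [P₂.LiesOver 𝔭₂] (h' : 𝔭₁ ≤ 𝔭₂) :
    (P₂.map (Ideal.Quotient.mk P₁)).LiesOver (𝔭₂.map (Ideal.Quotient.mk 𝔭₁)) := by
  constructor
  ext x
  obtain ⟨a, rfl⟩ := Ideal.Quotient.mk_surjective x
  rw [Ideal.under_def, Ideal.mem_comap, Ideal.Quotient.algebraMap_mk_of_liesOver,
    Ideal.mem_quotient_iff_mem h', Ideal.mem_quotient_iff_mem h]
  exact Ideal.mem_of_liesOver P₂ 𝔭₂ a

variable [IsNoetherianRing A] [Algebra.FiniteType A T]

/-- the key relation derived from the dimension formula hypothesis -/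
theorem cd_add_trdeg_eq
    (hdf : ∀ (P : Ideal A) [P.IsPrime] (S : Type u) [CommRing S] [IsDomain S] [Algebra (A ⧸ P) S]
      [FaithfulSMul (A ⧸ P) S] [Algebra.FiniteType (A ⧸ P) S] (p : Ideal (A ⧸ P)) [p.IsPrime]
      (q : Ideal S) [q.IsPrime] [q.LiesOver p],
      (q.height : Cardinal.{u}) + Algebra.trdeg ((A ⧸ P) ⧸ p) (S ⧸ q) =
        (p.height : Cardinal.{u}) + Algebra.trdeg (A ⧸ P) S)
    (P₁ P₂ : Ideal T) [h1 : P₁.IsPrime] [h2 : P₂.IsPrime] (h : P₁ ≤ P₂)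
    (𝔭₁ 𝔭₂ : Ideal A) [hp1 : 𝔭₁.IsPrime] [hp2 : 𝔭₂.IsPrime] [P₁.LiesOver 𝔭₁] [P₂.LiesOver 𝔭₂] :
    ((cd (⟨P₁, h1⟩ : PrimeSpectrum T) ⟨P₂, h2⟩ : ℕ∞) : Cardinal.{u}) +
        Algebra.trdeg (A ⧸ 𝔭₂) (T ⧸ P₂) =
      ((cd (⟨𝔭₁, hp1⟩ : PrimeSpectrum A) ⟨𝔭₂, hp2⟩ : ℕ∞) : Cardinal.{u}) +
        Algebra.trdeg (A ⧸ 𝔭₁) (T ⧸ P₁) := by
  have h' : 𝔭₁ ≤ 𝔭₂ := by
    rw [Ideal.over_def P₁ 𝔭₁, Ideal.over_def P₂ 𝔭₂]
    exact Ideal.comap_mono h
  haveI := liesOver_map_mk A T P₁ P₂ h 𝔭₁ 𝔭₂ h'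
  haveI : (P₂.map (Ideal.Quotient.mk P₁)).IsPrime :=
    Ideal.map_isPrime_of_surjective Ideal.Quotient.mk_surjective (by rw [Ideal.mk_ker]; exact h)
  haveI : (𝔭₂.map (Ideal.Quotient.mk 𝔭₁)).IsPrime :=
    Ideal.map_isPrime_of_surjective Ideal.Quotient.mk_surjective (by rw [Ideal.mk_ker]; exact h')
  have key := hdf 𝔭₁ (T ⧸ P₁) (𝔭₂.map (Ideal.Quotient.mk 𝔭₁)) (P₂.map (Ideal.Quotient.mk P₁))
  rw [trdeg_quotQuot A T P₁ P₂ h 𝔭₁ 𝔭₂ h', ← cd_eq_height_map_mk P₁ P₂ h,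
    ← cd_eq_height_map_mk 𝔭₁ 𝔭₂ h'] at key
  exact key


/-- a finite cardinal version of `cd` bounds -/
theorem cd_ne_top_of_noetherian {B : Type u} [CommRing B] [IsNoetherianRing B]
    (a b : PrimeSpectrum B) : cd a b ≠ ⊤ := by
  have h1 := CatHt.cd_le_height a b
  rw [← PrimeSpectrum.height_eq_orderHeight] at h1
  haveI := b.2
  exact ne_top_of_le_ne_top (Ideal.height_ne_top b.2.ne_top) h1

/-- **c) ⇒ b)**: a catenary Noetherian ring all of whose finite type domain extensions satisfy the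
dimension formula with equality is universally catenary (one algebra at a time). -/
theorem isCatenary_of_dim_formula (hcat : CAlg.IsCatenary A)
    (hdf : ∀ (P : Ideal A) [P.IsPrime] (S : Type u) [CommRing S] [IsDomain S] [Algebra (A ⧸ P) S]
      [FaithfulSMul (A ⧸ P) S] [Algebra.FiniteType (A ⧸ P) S] (p : Ideal (A ⧸ P)) [p.IsPrime]
      (q : Ideal S) [q.IsPrime] [q.LiesOver p],
      (q.height : Cardinal.{u}) + Algebra.trdeg ((A ⧸ P) ⧸ p) (S ⧸ q) =
        (p.height : Cardinal.{u}) + Algebra.trdeg (A ⧸ P) S) :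
    CAlg.IsCatenary T := by
  haveI : IsNoetherianRing T := Algebra.FiniteType.isNoetherianRing A T
  have hcatA := isCat_iff.1 (isCat_iff_catForm.2 hcat)
  refine isCat_iff_catForm.1 (isCat_iff.2 ⟨fun a b _ => cd_ne_top_of_noetherian a b, ?_⟩)
  intro a b c hab hbc
  obtain ⟨P₁, h1⟩ := a
  obtain ⟨P₂, h2⟩ := b
  obtain ⟨P₃, h3⟩ := c
  have hab' : P₁ ≤ P₂ := hab
  have hbc' : P₂ ≤ P₃ := hbc
  have e12 := cd_add_trdeg_eq A T hdf P₁ P₂ hab' (P₁.under A) (P₂.under A)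
  have e23 := cd_add_trdeg_eq A T hdf P₂ P₃ hbc' (P₂.under A) (P₃.under A)
  have e13 := cd_add_trdeg_eq A T hdf P₁ P₃ (hab'.trans hbc') (P₁.under A) (P₃.under A)
  have hA := hcatA.2 (⟨P₁.under A, inferInstance⟩ : PrimeSpectrum A) ⟨P₂.under A, inferInstance⟩
    ⟨P₃.under A, inferInstance⟩ (Ideal.comap_mono hab') (Ideal.comap_mono hbc')
  -- finiteness
  obtain ⟨c12, hc12⟩ := ENat.ne_top_iff_exists.1 (cd_ne_top_of_noetherian
    (⟨P₁, h1⟩ : PrimeSpectrum T) ⟨P₂, h2⟩)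
  obtain ⟨c23, hc23⟩ := ENat.ne_top_iff_exists.1 (cd_ne_top_of_noetherian
    (⟨P₂, h2⟩ : PrimeSpectrum T) ⟨P₃, h3⟩)
  obtain ⟨c13, hc13⟩ := ENat.ne_top_iff_exists.1 (cd_ne_top_of_noetherian
    (⟨P₁, h1⟩ : PrimeSpectrum T) ⟨P₃, h3⟩)
  obtain ⟨a12, ha12⟩ := ENat.ne_top_iff_exists.1 (cd_ne_top_of_noetherian
    (⟨P₁.under A, inferInstance⟩ : PrimeSpectrum A) ⟨P₂.under A, inferInstance⟩)
  obtain ⟨a23, ha23⟩ := ENat.ne_top_iff_exists.1 (cd_ne_top_of_noetherian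
    (⟨P₂.under A, inferInstance⟩ : PrimeSpectrum A) ⟨P₃.under A, inferInstance⟩)
  obtain ⟨a13, ha13⟩ := ENat.ne_top_iff_exists.1 (cd_ne_top_of_noetherian
    (⟨P₁.under A, inferInstance⟩ : PrimeSpectrum A) ⟨P₃.under A, inferInstance⟩)
  obtain ⟨t1, ht1⟩ := Cardinal.lt_aleph0.1
    (trdeg_lt_aleph0_of_finiteType (R := A ⧸ P₁.under A) (S := T ⧸ P₁))
  obtain ⟨t2, ht2⟩ := Cardinal.lt_aleph0.1
    (trdeg_lt_aleph0_of_finiteType (R := A ⧸ P₂.under A) (S := T ⧸ P₂))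
  obtain ⟨t3, ht3⟩ := Cardinal.lt_aleph0.1
    (trdeg_lt_aleph0_of_finiteType (R := A ⧸ P₃.under A) (S := T ⧸ P₃))
  rw [← hc12, ← ha12, ht1, ht2] at e12
  rw [← hc23, ← ha23, ht2, ht3] at e23
  rw [← hc13, ← ha13, ht1, ht3] at e13
  rw [← ha12, ← ha23, ← ha13] at hA
  rw [← hc12, ← hc23, ← hc13]
  have e12' : c12 + t2 = a12 + t1 := by exact_mod_cast e12
  have e23' : c23 + t3 = a23 + t2 := by exact_mod_cast e23
  have e13' : c13 + t3 = a13 + t1 := by exact_mod_cast e13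
  have hA' : a13 = a12 + a23 := by exact_mod_cast hA
  exact_mod_cast (by omega : c13 = c12 + c23)

theorem isUniversallyCatenary_of_dim_formula (hcat : CAlg.IsCatenary A)
    (hdf : ∀ (P : Ideal A) [P.IsPrime] (S : Type u) [CommRing S] [IsDomain S] [Algebra (A ⧸ P) S]
      [FaithfulSMul (A ⧸ P) S] [Algebra.FiniteType (A ⧸ P) S] (p : Ideal (A ⧸ P)) [p.IsPrime]
      (q : Ideal S) [q.IsPrime] [q.LiesOver p],
      (q.height : Cardinal.{u}) + Algebra.trdeg ((A ⧸ P) ⧸ p) (S ⧸ q) =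
        (p.height : Cardinal.{u}) + Algebra.trdeg (A ⧸ P) S) :
    CAlg.IsUniversallyCatenary A :=
  ⟨inferInstance, fun T _ _ hT => by
    haveI := hT
    exact isCatenary_of_dim_formula A T hcat hdf⟩

end Converse

end Groth.Agent.Lib.Helper18.DimFormula
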