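import Mathlib
import Groth.Agent.Lib.Helper18.DimFormula3
import Groth.Agent.Lib.Helper21.ChartPt6
import Groth.Agent.Lib.Helper20.DimTrdeg
import Groth.Agent.Lib.Helper6.Chev6

/-!
# Dimension inequality for schemes locally of finite type over a locally Noetherian base

* `trdeg_eq_of_isFractionRing`: transcendence degree of domains vs. fraction fields.
* `exists_minimalPrimes_dim_inequality`: ring-level core.
* `comap_primeIdealOf`, `trdeg_residueField`: chart dictionary for a morphism `f : X ⟶ S`.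
* `stalk_dim_inequality`: `dim 𝒪_{X,x} + trdeg κ(x)/κ(s) ≤ dim 𝒪_{S,s} + E` (Stacks 02JX).
-/

set_option autoImplicit false
set_option linter.unusedSectionVars false
set_option linter.style.haveILetI false
universe u v
open AlgebraicGeometry CategoryTheory TopologicalSpace

namespace Groth.Agent.Lib.Helper18.SchDim

open Groth.Agent.Lib.Helper12.Codim Groth.Agent.Lib.Helper18.DimFormula
open Groth.Agent.Lib.Helper21.ChartPt Groth.Agent.Lib.Helper20.DimTrdeg

section RingCore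

/-- transcendence degree of an extension of domains equals that of the fraction fields -/
theorem trdeg_eq_of_isFractionRing {A₀ B₀ K L : Type u} [CommRing A₀] [IsDomain A₀] [CommRing B₀]
    [IsDomain B₀] [Field K] [Field L] [Algebra A₀ B₀] [FaithfulSMul A₀ B₀]
    (a : A₀ →+* K) (b : B₀ →+* L) (g : K →+* L)
    (ha : @IsFractionRing A₀ _ K _ a.toAlgebra) (hb : @IsFractionRing B₀ _ L _ b.toAlgebra)
    (hcomm : g.comp a = b.comp (algebraMap A₀ B₀)) :
    @Algebra.trdeg K L _ _ g.toAlgebra = Algebra.trdeg A₀ B₀ := by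
  letI := a.toAlgebra
  letI := b.toAlgebra
  letI := g.toAlgebra
  letI : Algebra A₀ L := (g.comp a).toAlgebra
  haveI : IsScalarTower A₀ K L := IsScalarTower.of_algebraMap_eq (fun _ => rfl)
  haveI : IsScalarTower A₀ B₀ L := IsScalarTower.of_algebraMap_eq (fun x => by
    change (g.comp a) x = (b.comp (algebraMap A₀ B₀)) x
    rw [hcomm])
  haveI : FaithfulSMul A₀ K := (faithfulSMul_iff_algebraMap_injective A₀ K).2
    (IsFractionRing.injective A₀ K)
  haveI : FaithfulSMul B₀ L := (faithfulSMul_iff_algebraMap_injective B₀ L).2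
    (IsFractionRing.injective B₀ L)
  haveI : FaithfulSMul K L := (faithfulSMul_iff_algebraMap_injective K L).2 g.injective
  haveI : Algebra.IsAlgebraic A₀ K := IsLocalization.isAlgebraic K (nonZeroDivisors A₀)
  haveI : Algebra.IsAlgebraic B₀ L := IsLocalization.isAlgebraic L (nonZeroDivisors B₀)
  have h1 := trdeg_add_eq A₀ K (A := L)
  have h2 := trdeg_add_eq A₀ B₀ (A := L)
  rw [trdeg_eq_zero, zero_add] at h1
  rw [trdeg_eq_zero (R := B₀) (A := L), add_zero] at h2
  rw [h1, h2]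


/-- ring-level core of the local dimension inequality (Stacks 02JX): for `B` of finite type over
a Noetherian ring `A` and `q` a prime of `B`, some minimal prime `Q₀ ⊆ q` satisfies
`ht q + trdeg κ(q)/κ(p) ≤ ht p + trdeg κ(Q₀)/κ(P₀)`. -/
theorem exists_minimalPrimes_dim_inequality (A B : Type u) [CommRing A] [IsNoetherianRing A]
    [CommRing B] [Algebra A B] [Algebra.FiniteType A B] (q : Ideal B) [hq : q.IsPrime] :
    ∃ (Q₀ : Ideal B) (_ : Q₀.IsPrime), Q₀ ∈ minimalPrimes B ∧ Q₀ ≤ q ∧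
      (q.height : Cardinal.{u}) + Algebra.trdeg (A ⧸ q.under A) (B ⧸ q) ≤
        ((q.under A).height : Cardinal.{u}) + Algebra.trdeg (A ⧸ Q₀.under A) (B ⧸ Q₀) := by
  haveI : IsNoetherianRing B := Algebra.FiniteType.isNoetherianRing A B
  have hfin : Order.height (⟨q, hq⟩ : PrimeSpectrum B) ≠ ⊤ := by
    rw [← PrimeSpectrum.height_eq_orderHeight]
    exact Ideal.height_ne_top hq.ne_top
  obtain ⟨m, hmin, hmq, hcd⟩ := CatHt.exists_isMin_cd_eq_height (⟨q, hq⟩ : PrimeSpectrum B) hfin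
  obtain ⟨Q₀, hQ₀⟩ := m
  have hle : Q₀ ≤ q := hmq
  refine ⟨Q₀, hQ₀, ⟨⟨hQ₀, bot_le⟩, fun b hb hbQ => ?_⟩, hle, ?_⟩
  · exact hmin (b := (⟨b, hb.1⟩ : PrimeSpectrum B)) hbQ
  have hle' : Q₀.under A ≤ q.under A := Ideal.comap_mono hle
  haveI := liesOver_map_mk A B Q₀ q hle (Q₀.under A) (q.under A) hle'
  haveI : (q.map (Ideal.Quotient.mk Q₀)).IsPrime :=
    Ideal.map_isPrime_of_surjective Ideal.Quotient.mk_surjective (by rw [Ideal.mk_ker]; exact hle)
  haveI : ((q.under A).map (Ideal.Quotient.mk (Q₀.under A))).IsPrime :=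
    Ideal.map_isPrime_of_surjective Ideal.Quotient.mk_surjective (by rw [Ideal.mk_ker]; exact hle')
  have key := dim_inequality (A ⧸ Q₀.under A) (B ⧸ Q₀)
    ((q.under A).map (Ideal.Quotient.mk (Q₀.under A))) (q.map (Ideal.Quotient.mk Q₀))
  rw [trdeg_quotQuot A B Q₀ q hle (Q₀.under A) (q.under A) hle',
    ← cd_eq_height_map_mk Q₀ q hle, hcd, ← PrimeSpectrum.height_eq_orderHeight] at key
  refine key.trans (add_le_add ?_ le_rfl)
  rw [Cardinal.ofENat_le_ofENat, ← cd_eq_height_map_mk (Q₀.under A) (q.under A) hle',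
    PrimeSpectrum.height_eq_orderHeight (⟨q.under A, inferInstance⟩ : PrimeSpectrum A)]
  exact CatHt.cd_le_height _ _

end RingCore

section Chart

variable {X S : Scheme.{u}} (f : X ⟶ S) {U : X.Opens} {V : S.Opens} (hU : IsAffineOpen U)
  (hV : IsAffineOpen V) (e : U ≤ f ⁻¹ᵁ V)

theorem eval_appLE (y : X) (hy : y ∈ U) (a : Γ(S, V)) :
    (f.residueFieldMap y).hom ((S.evaluation V (f y) (e hy)).hom a) =
      (X.evaluation U y hy).hom ((f.appLE V U e).hom a) := by
  have h1 := Scheme.evaluation_naturality_apply f (V := V) y (e hy) a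
  have h2 := congrArg (fun φ => φ.hom ((f.app V).hom a)) (map_evaluation e y hy)
  simp only [CommRingCat.comp_apply] at h2
  rw [Scheme.Hom.appLE, CommRingCat.comp_apply, h2]
  exact h1

/-- the prime of `f y` in the chart `V` is the contraction of the prime of `y` in the chart `U` -/
theorem comap_primeIdealOf (y : X) (hy : y ∈ U) :
    (hU.primeIdealOf ⟨y, hy⟩).asIdeal.comap (f.appLE V U e).hom =
      (hV.primeIdealOf ⟨f y, e hy⟩).asIdeal := by
  ext a
  rw [Ideal.mem_comap, ← ker_evaluation hU y hy, ← ker_evaluation hV (f y) (e hy),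
    RingHom.mem_ker, RingHom.mem_ker, ← eval_appLE f e y hy a]
  exact map_eq_zero_iff _ (f.residueFieldMap y).hom.injective

/-- the evaluation map on the quotient by any ideal equal to the prime of the point -/
noncomputable def evQ' {Y : Scheme.{u}} {W : Y.Opens} (hW : IsAffineOpen W) (y : Y) (hy : y ∈ W)
    (I : Ideal Γ(Y, W)) (hI : I = (hW.primeIdealOf ⟨y, hy⟩).asIdeal) :
    Γ(Y, W) ⧸ I →+* Y.residueField y :=
  Ideal.Quotient.lift I (Y.evaluation W y hy).hom (fun a ha => by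
    rw [hI, ← ker_evaluation hW y hy] at ha
    exact ha)

theorem isFractionRing_evQ' {Y : Scheme.{u}} {W : Y.Opens} (hW : IsAffineOpen W) (y : Y)
    (hy : y ∈ W) (I : Ideal Γ(Y, W)) (hI : I = (hW.primeIdealOf ⟨y, hy⟩).asIdeal) :
    @IsFractionRing (Γ(Y, W) ⧸ I) _ (Y.residueField y) _ (evQ' hW y hy I hI).toAlgebra := by
  subst hI
  exact isFractionRing_evQ hW y hy

include hV in
/-- the residue field extension at `y` has the transcendence degree of the corresponding
extension of domains in a chart -/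
theorem trdeg_residueField (y : X) (hy : y ∈ U) :
    letI := (f.appLE V U e).hom.toAlgebra
    @Algebra.trdeg (S.residueField (f y)) (X.residueField y) _ _
        (f.residueFieldMap y).hom.toAlgebra =
      Algebra.trdeg (Γ(S, V) ⧸ (hU.primeIdealOf ⟨y, hy⟩).asIdeal.under Γ(S, V))
        (Γ(X, U) ⧸ (hU.primeIdealOf ⟨y, hy⟩).asIdeal) := by
  letI := (f.appLE V U e).hom.toAlgebra
  have hI : (hU.primeIdealOf ⟨y, hy⟩).asIdeal.under Γ(S, V) =
      (hV.primeIdealOf ⟨f y, e hy⟩).asIdeal := comap_primeIdealOf f hU hV e y hy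
  haveI : ((hU.primeIdealOf ⟨y, hy⟩).asIdeal.under Γ(S, V)).IsPrime :=
    Ideal.comap_isPrime _ _
  refine trdeg_eq_of_isFractionRing (evQ' hV (f y) (e hy) _ hI) (evQ hU y hy)
    (f.residueFieldMap y).hom (isFractionRing_evQ' hV (f y) (e hy) _ hI)
    (isFractionRing_evQ hU y hy) ?_
  apply Ideal.Quotient.ringHom_ext
  ext a
  exact eval_appLE f e y hy a


end Chart

section Local

variable {X S : Scheme.{u}} [IsLocallyNoetherian S] (f : X ⟶ S) [LocallyOfFiniteType f]

open Groth.Agent.Lib.Helper6.Chev in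
/-- **Local dimension inequality** (Stacks 02JX). -/
theorem stalk_dim_inequality (x : X) (n E : ℕ)
    (hn : @Algebra.trdeg (S.residueField (f x)) (X.residueField x) _ _
      (f.residueFieldMap x).hom.toAlgebra = n)
    (hE : ∀ ξ : X, closure {ξ} ∈ irreducibleComponents ↥X → ξ ⤳ x →
      @Algebra.trdeg (S.residueField (f ξ)) (X.residueField ξ) _ _
        (f.residueFieldMap ξ).hom.toAlgebra ≤ E) :
    ringKrullDim (X.presheaf.stalk x) + n ≤ ringKrullDim (S.presheaf.stalk (f x)) + E := by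
  obtain ⟨V, hV, hxV, -⟩ := Opens.isBasis_iff_nbhd.mp S.isBasis_affineOpens
    (show f x ∈ (⊤ : S.Opens) from trivial)
  have hV : IsAffineOpen V := hV
  obtain ⟨U, hU, hxU, e⟩ := Opens.isBasis_iff_nbhd.mp X.isBasis_affineOpens
    (show x ∈ f ⁻¹ᵁ V from hxV)
  have hU : IsAffineOpen U := hU
  letI alg : Algebra Γ(S, V) Γ(X, U) := (f.appLE V U e).hom.toAlgebra
  haveI : IsNoetherianRing Γ(S, V) := IsLocallyNoetherian.component_noetherian ⟨V, hV⟩
  haveI : Algebra.FiniteType Γ(S, V) Γ(X, U) :=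
    HasRingHomProperty.appLE (P := @LocallyOfFiniteType) f inferInstance ⟨V, hV⟩ ⟨U, hU⟩ e
  obtain ⟨Q₀, hQ₀, hmin, hle, key⟩ := exists_minimalPrimes_dim_inequality Γ(S, V) Γ(X, U)
    (hU.primeIdealOf ⟨x, hxU⟩).asIdeal
  let ξ : X := hU.fromSpec ⟨Q₀, hQ₀⟩
  have hξU : ξ ∈ U := (hU.isoSpec.inv _).2
  have hξ : hU.primeIdealOf ⟨ξ, hξU⟩ = ⟨Q₀, hQ₀⟩ :=
    hU.fromSpec.isOpenEmbedding.injective (hU.fromSpec_primeIdealOf ⟨ξ, hξU⟩)
  have hξ' : (hU.primeIdealOf ⟨ξ, hξU⟩).asIdeal = Q₀ := congrArg PrimeSpectrum.asIdeal hξ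
  have hcomp : closure {ξ} ∈ irreducibleComponents ↥X :=
    closure_mem_irreducibleComponents_of_minimalPrime U hU Q₀ hmin
  have hsp : ξ ⤳ x := (specializes_iff_primeIdealOf_le hU ⟨ξ, hξU⟩ ⟨x, hxU⟩).2 (by
    rw [hξ']; exact hle)
  have hEξ := hE ξ hcomp hsp
  rw [trdeg_residueField f hU hV e ξ hξU] at hEξ
  have hEξ' : Algebra.trdeg (Γ(S, V) ⧸ Q₀.under Γ(S, V)) (Γ(X, U) ⧸ Q₀) ≤ E := by
    have := congrArg (fun I : Ideal Γ(X, U) =>
      Algebra.trdeg (Γ(S, V) ⧸ I.under Γ(S, V)) (Γ(X, U) ⧸ I)) hξ'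
    rw [← this]
    exact hEξ
  rw [trdeg_residueField f hU hV e x hxU] at hn
  rw [hn] at key
  have key2 : ((hU.primeIdealOf ⟨x, hxU⟩).asIdeal.height : Cardinal.{u}) + n ≤
      (((hU.primeIdealOf ⟨x, hxU⟩).asIdeal.under Γ(S, V)).height : Cardinal.{u}) + E :=
    key.trans (add_le_add le_rfl hEξ')
  have key3 : (hU.primeIdealOf ⟨x, hxU⟩).asIdeal.height + (n : ℕ∞) ≤
      ((hU.primeIdealOf ⟨x, hxU⟩).asIdeal.under Γ(S, V)).height + (E : ℕ∞) := by
    have h := key2
    rw [← Cardinal.ofENat_nat n, ← Cardinal.ofENat_nat E, ← Cardinal.ofENat_add,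
      ← Cardinal.ofENat_add, Cardinal.ofENat_le_ofENat] at h
    exact h
  rw [ringKrullDim_stalk_eq_height hU x hxU, ringKrullDim_stalk_eq_height hV (f x) (e hxU),
    ← comap_primeIdealOf f hU hV e x hxU]
  exact_mod_cast key3

end Local

end Groth.Agent.Lib.Helper18.SchDim
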