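import Mathlib
import Groth.Prelude.Def_CAlg
import Groth.Agent.Lib.Helper18.CM5

set_option autoImplicit false
set_option linter.unusedSectionVars false
universe u

open IsLocalRing Pointwise RingTheory.Sequence

namespace Groth.Agent.Lib.Helper18.CM

section grade

open Groth.Agent.Lib.Helper16.Depth

variable {R : Type u} [CommRing R] [IsLocalRing R] [IsNoetherianRing R]

theorem supportDim_quotient_smul_top_quotSMulTop (I : Ideal R) (M : Type u) [AddCommGroup M]
    [Module R M] [Module.Finite R M] {x : R} (hx : x ∈ I) :
    Module.supportDim R (QuotSMulTop x M ⧸ (I • (⊤ : Submodule R (QuotSMulTop x M)))) =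
      Module.supportDim R (M ⧸ (I • (⊤ : Submodule R M))) := by
  unfold Module.supportDim
  rw [Module.support_quotient, Module.support_quotient, Module.support_quotSMulTop]
  have : PrimeSpectrum.zeroLocus (I : Set R) ⊆ PrimeSpectrum.zeroLocus {x} := by
    apply PrimeSpectrum.zeroLocus_anti_mono
    simpa using hx
  rw [Set.inter_assoc, Set.inter_eq_right.mpr this]

theorem supportDim_eq_add_idealDepth_aux (I : Ideal R) (hI : I ≠ ⊤) (n : ℕ) :
    ∀ (M : Type u) [AddCommGroup M] [Module R M] [Module.Finite R M],
      LocCoh.IsCohenMacaulayModule R M → LocCoh.idealDepth I M = n →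
      Module.supportDim R M =
        Module.supportDim R (M ⧸ (I • (⊤ : Submodule R M))) + ((n : ℕ∞) : WithBot ℕ∞) := by
  induction n with
  | zero =>
    intro M _ _ _ hM hgr
    have hnt := nontrivial_of_isCohenMacaulayModule M hM
    have hIM : I • (⊤ : Submodule R M) ≠ ⊤ := smul_top_ne_top_of_ne_top M I hI
    have h1 : ¬ ∃ x ∈ I, IsSMulRegular M x := by
      rw [← one_le_idealDepth_iff I M hIM, hgr]
      simp
    rw [exists_regular_iff] at h1
    push Not at h1
    obtain ⟨q, hq, hIq⟩ := h1
    have hqp : q.IsPrime := IsAssociatedPrime.isPrime hq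
    have hdimq := ringKrullDim_quotient_eq_supportDim_of_isCohenMacaulayModule M hM q hq
    rw [Nat.cast_zero, WithBot.coe_zero, add_zero]
    apply le_antisymm
    · rw [← hdimq]
      have hqsupp : (⟨q, hqp⟩ : PrimeSpectrum R) ∈
          Module.support R (M ⧸ (I • (⊤ : Submodule R M))) := by
        rw [Module.support_quotient]
        refine ⟨?_, hIq⟩
        exact Module.mem_support_iff_of_finite.mpr (annihilator_le_of_mem_associatedPrimes M hq)
      exact ringKrullDim_quotient_le_supportDim_of_mem_support _ ⟨q, hqp⟩ hqsupp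
    · exact Module.supportDim_le_of_surjective _ (Submodule.mkQ_surjective _)
  | succ n ih =>
    intro M _ _ _ hM hgr
    have hnt := nontrivial_of_isCohenMacaulayModule M hM
    have hIM : I • (⊤ : Submodule R M) ≠ ⊤ := smul_top_ne_top_of_ne_top M I hI
    have h1 : 1 ≤ LocCoh.idealDepth I M := by
      rw [hgr]
      simp
    obtain ⟨x, hxI, hreg⟩ := (one_le_idealDepth_iff I M hIM).mp h1
    have hxm : x ∈ maximalIdeal R := IsLocalRing.le_maximalIdeal hI hxI
    have hM' := isCohenMacaulayModule_quotSMulTop M hM hxm hreg
    have hgr' : LocCoh.idealDepth I (QuotSMulTop x M) = n := by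
      have := Groth.Agent.S0320.result R I M hIM x hxI hreg
      rw [hgr] at this
      push_cast at this
      exact ENat.add_left_injective_of_ne_top (n := 1) (by simp) this
    have h2 := ih (QuotSMulTop x M) hM' hgr'
    rw [supportDim_quotient_smul_top_quotSMulTop I M hxI] at h2
    rw [← Module.supportDim_quotSMulTop_succ_eq_supportDim_mem_jacobson hreg
      (mem_jacobson_annihilator M hxm), h2]
    push_cast
    rw [add_assoc]

/-- for a Cohen–Macaulay module, `dim M = dim M/IM + depth_I M` -/
theorem supportDim_eq_add_idealDepth (I : Ideal R) (hI : I ≠ ⊤) (M : Type u) [AddCommGroup M]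
    [Module R M] [Module.Finite R M] (hM : LocCoh.IsCohenMacaulayModule R M) :
    Module.supportDim R M = Module.supportDim R (M ⧸ (I • (⊤ : Submodule R M))) +
      ((LocCoh.idealDepth I M : ℕ∞) : WithBot ℕ∞) := by
  have hnt := nontrivial_of_isCohenMacaulayModule M hM
  obtain ⟨n, hn⟩ := ENat.ne_top_iff_exists.mp (idealDepth_ne_top M I hI)
  rw [← hn]
  exact supportDim_eq_add_idealDepth_aux I hI n M hM hn.symm

end grade

end Groth.Agent.Lib.Helper18.CM
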