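import Mathlib
import Groth.Prelude.Def_CAlg
import Groth.Agent.Lib.Helper18.CM13
import Groth.Agent.Lib.Helper18.FlatDepth

set_option autoImplicit false
set_option linter.unusedSectionVars false
universe u

open IsLocalRing Pointwise RingTheory.Sequence

namespace Groth.Agent.Lib.Helper18.CM

section global

open Groth.Agent.Lib.Helper16.Depth

variable {R : Type u} [CommRing R] [IsNoetherianRing R]

/-- `depth_I (M/xsM) + |xs| = depth_I M` for a weakly regular sequence in `I`, `IM ≠ M` -/
theorem idealDepth_quot_ofList (I : Ideal R) (xs : List R) (hxs : ∀ x ∈ xs, x ∈ I) :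
    ∀ (M : Type u) [AddCommGroup M] [Module R M] [Module.Finite R M],
      I • (⊤ : Submodule R M) ≠ ⊤ → IsWeaklyRegular M xs →
      LocCoh.idealDepth I (M ⧸ (Ideal.ofList xs • ⊤ : Submodule R M)) + xs.length =
        LocCoh.idealDepth I M := by
  induction xs with
  | nil =>
    intro M _ _ _ _ _
    rw [idealDepth_congr (quotOfListNilEquiv M)]
    simp
  | cons x xs ih =>
    intro M _ _ _ hIM hreg
    have hx : x ∈ I := hxs x List.mem_cons_self
    rw [isWeaklyRegular_cons_iff] at hreg
    rw [idealDepth_congr (Submodule.quotOfListConsSMulTopEquivQuotSMulTopInner M x xs),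
      ← Groth.Agent.S0320.result R I M hIM x hx hreg.1,
      ← ih (fun y hy => hxs y (List.mem_cons_of_mem _ hy)) (QuotSMulTop x M)
        (smul_top_quotSMulTop_ne_top hx hIM) hreg.2]
    simp only [List.length_cons, Nat.cast_add, Nat.cast_one]
    rw [add_assoc]

/-- a weakly regular sequence in a prime `P` bounds the depth of `R_P` from below -/
theorem length_le_depth_localization (P : Ideal R) [P.IsPrime] (rs : List R)
    (hreg : IsWeaklyRegular R rs) (hmem : ∀ r ∈ rs, r ∈ P) :
    (rs.length : ℕ∞) ≤ LocCoh.depth (Localization.AtPrime P) (Localization.AtPrime P) := by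
  unfold LocCoh.depth
  rw [le_idealDepth_iff]
  right
  refine ⟨rs.map (algebraMap R (Localization.AtPrime P)), by simp, ?_, ?_⟩
  · exact IsWeaklyRegular.of_isLocalization (Localization.AtPrime P) P.primeCompl hreg
  · intro r hr
    obtain ⟨a, ha, rfl⟩ := List.mem_map.mp hr
    exact (IsLocalization.AtPrime.to_map_mem_maximal_iff (Localization.AtPrime P) P a).mpr
      (hmem a ha)

theorem depth_localization_le_height (P : Ideal R) [P.IsPrime] :
    LocCoh.depth (Localization.AtPrime P) (Localization.AtPrime P) ≤ P.height := by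
  have h := depth_le_supportDim (R := Localization.AtPrime P) (Localization.AtPrime P)
  rw [Module.supportDim_self_eq_ringKrullDim,
    IsLocalization.AtPrime.ringKrullDim_eq_height P (Localization.AtPrime P)] at h
  exact_mod_cast h

/-- grade is at most height -/
theorem idealDepth_le_height (a : Ideal R) (ha : a ≠ ⊤) :
    LocCoh.idealDepth a R ≤ a.height := by
  rw [← ENat.forall_natCast_le_iff_le]
  intro n hn
  rw [le_idealDepth_iff] at hn
  rcases hn with hn | ⟨rs, hlen, hreg, hmem⟩
  · exfalso
    rw [smul_eq_mul, Ideal.mul_top] at hn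
    exact ha hn
  · rw [Ideal.height_eq_inf_minimalPrimes]
    refine le_iInf₂ fun J hJ => ?_
    have hJp : J.IsPrime := hJ.1.1
    have h1 := length_le_depth_localization J rs hreg (fun r hr => hJ.1.2 (hmem r hr))
    rw [hlen] at h1
    exact h1.trans (depth_localization_le_height J)

theorem isCohenMacaulayLocalRing_localization_of_idealDepth_eq_height
    (h : ∀ a : Ideal R, a ≠ ⊤ → LocCoh.idealDepth a R = a.height) (P : Ideal R) [hP : P.IsPrime] :
    LocCoh.IsCohenMacaulayLocalRing (Localization.AtPrime P) := by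
  refine { supportDim_eq_depth := ?_ }
  rw [Module.supportDim_self_eq_ringKrullDim,
    IsLocalization.AtPrime.ringKrullDim_eq_height P (Localization.AtPrime P)]
  have h1 := h P hP.ne_top
  obtain ⟨n, hn⟩ := ENat.ne_top_iff_exists.mp (Ideal.height_ne_top hP.ne_top)
  rw [← hn] at h1 ⊢
  have h2 : (n : ℕ∞) ≤ LocCoh.idealDepth P R := h1.ge
  rw [le_idealDepth_iff] at h2
  rcases h2 with h2 | ⟨rs, hlen, hreg, hmem⟩
  · exfalso
    rw [smul_eq_mul, Ideal.mul_top] at h2
    exact hP.ne_top h2
  · have h3 := length_le_depth_localization P rs hreg hmem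
    rw [hlen] at h3
    have h4 := depth_localization_le_height P
    rw [← hn] at h4
    rw [le_antisymm h4 h3]

theorem height_le_idealDepth_of_isCohenMacaulayRing [hR : LocCoh.IsCohenMacaulayRing R]
    (a : Ideal R) (ha : a ≠ ⊤) : a.height ≤ LocCoh.idealDepth a R := by
  have hfin : LocCoh.idealDepth a R ≠ ⊤ := by
    intro htop
    have := idealDepth_le_height a ha
    rw [htop, top_le_iff] at this
    exact Ideal.height_ne_top ha this
  obtain ⟨g, hg⟩ := ENat.ne_top_iff_exists.mp hfin
  have haR : a • (⊤ : Submodule R R) ≠ ⊤ := by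
    rw [smul_eq_mul, Ideal.mul_top]
    exact ha
  have h1 : (g : ℕ∞) ≤ LocCoh.idealDepth a R := hg.le
  rw [le_idealDepth_iff] at h1
  rcases h1 with h1 | ⟨rs, hlen, hreg, hmem⟩
  · exact absurd h1 haR
  set J : Ideal R := Ideal.ofList rs with hJ
  have hJa : J ≤ a := by
    rw [hJ, Ideal.ofList, Ideal.span_le]
    intro r hr
    exact hmem r hr
  have hJtop : (J • ⊤ : Submodule R R) = J := by rw [smul_eq_mul, Ideal.mul_top]
  -- `M' = R/J`
  have haM' : a • (⊤ : Submodule R (R ⧸ (J • ⊤ : Submodule R R))) ≠ ⊤ := by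
    intro htop
    apply ha
    rw [Ideal.eq_top_iff_one]
    have h1 : (Submodule.Quotient.mk (1 : R) : R ⧸ (J • ⊤ : Submodule R R)) ∈
        a • (⊤ : Submodule R (R ⧸ (J • ⊤ : Submodule R R))) := by
      rw [htop]
      exact Submodule.mem_top
    have h2 : ∀ y ∈ a • (⊤ : Submodule R (R ⧸ (J • ⊤ : Submodule R R))),
        ∃ r ∈ a, Submodule.Quotient.mk r = y := by
      intro y hy
      induction hy using Submodule.smul_induction_on' with
      | smul r hr n _ =>
        obtain ⟨n', rfl⟩ := Submodule.Quotient.mk_surjective _ n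
        exact ⟨r * n', Ideal.mul_mem_right _ _ hr, rfl⟩
      | add x _ y _ hx hy =>
        obtain ⟨r, hr, rfl⟩ := hx
        obtain ⟨r', hr', rfl⟩ := hy
        exact ⟨r + r', add_mem hr hr', rfl⟩
    obtain ⟨r, hr, hr1⟩ := h2 _ h1
    have h3 : r - 1 ∈ (J • ⊤ : Submodule R R) := (Submodule.Quotient.eq _).mp hr1
    rw [hJtop] at h3
    have : (1 : R) = r - (r - 1) := by ring
    rw [this]
    exact sub_mem hr (hJa h3)
  have h2 := idealDepth_quot_ofList a rs hmem R haR hreg
  rw [← hg, hlen] at h2
  have h3 : LocCoh.idealDepth a (R ⧸ (J • ⊤ : Submodule R R)) = 0 := by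
    have : LocCoh.idealDepth a (R ⧸ (J • ⊤ : Submodule R R)) + (g : ℕ∞) = 0 + (g : ℕ∞) := by
      rw [h2, zero_add]
    exact ENat.add_left_injective_of_ne_top (ENat.natCast_ne_top g) this
  have h4 : ¬ ∃ x ∈ a, IsSMulRegular (R ⧸ (J • ⊤ : Submodule R R)) x := by
    rw [← one_le_idealDepth_iff a _ haM', h3]
    simp
  rw [exists_regular_iff] at h4
  push Not at h4
  obtain ⟨P, hP, haP⟩ := h4
  have hPp : P.IsPrime := IsAssociatedPrime.isPrime hP
  obtain ⟨-, zbar, hz⟩ := isAssociatedPrime_iff.mp hP
  obtain ⟨z, rfl⟩ := Submodule.Quotient.mk_surjective _ zbar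
  have hPz : ∀ r : R, r ∈ P ↔ r * z ∈ J := by
    intro r
    rw [hz, Submodule.mem_colon_singleton, Submodule.mem_bot, ← Submodule.Quotient.mk_smul,
      Submodule.Quotient.mk_eq_zero, hJtop, smul_eq_mul]
  -- localize at `P`
  let A := Localization.AtPrime P
  have hAcm : LocCoh.IsCohenMacaulayLocalRing A := hR.isCohenMacaulayLocalRing_localization P
  have hregA : IsWeaklyRegular A (rs.map (algebraMap R A)) :=
    IsWeaklyRegular.of_isLocalization A P.primeCompl hreg
  have hmemA : ∀ r ∈ rs.map (algebraMap R A), r ∈ maximalIdeal A := by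
    intro r hr
    obtain ⟨b, hb, rfl⟩ := List.mem_map.mp hr
    exact (IsLocalization.AtPrime.to_map_mem_maximal_iff A P b).mpr (haP (hmem b hb))
  have h5 := depth_quot_ofList (rs.map (algebraMap R A)) hmemA A hregA
  rw [← Ideal.map_ofList, List.length_map, hlen] at h5
  have hJAtop : ((J.map (algebraMap R A)) • ⊤ : Submodule A A) = J.map (algebraMap R A) := by
    rw [smul_eq_mul, Ideal.mul_top]
  have h6 : LocCoh.depth A (A ⧸ ((J.map (algebraMap R A)) • ⊤ : Submodule A A)) = 0 := by
    rw [depth_eq_zero_iff_exists_socle]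
    refine ⟨Submodule.Quotient.mk (algebraMap R A z), ?_, ?_⟩
    · intro h0
      rw [Submodule.Quotient.mk_eq_zero, hJAtop,
        IsLocalization.mem_map_algebraMap_iff P.primeCompl] at h0
      obtain ⟨⟨j, s⟩, hjs⟩ := h0
      rw [← map_mul] at hjs
      obtain ⟨c, hc⟩ := (IsLocalization.eq_iff_exists P.primeCompl A).mp hjs
      have h7 : (c * s : R) * z ∈ J := by
        have : (c : R) * (z * s) = (c * s : R) * z := by ring
        rw [← this, hc]
        exact Ideal.mul_mem_left _ _ j.2
      have h8 := (hPz _).mpr h7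
      rcases hPp.mem_or_mem h8 with h9 | h9
      · exact c.2 h9
      · exact s.2 h9
    · intro b hb
      rw [← Submodule.Quotient.mk_smul, Submodule.Quotient.mk_eq_zero, hJAtop, smul_eq_mul]
      obtain ⟨r, s, rfl⟩ := IsLocalization.exists_mk'_eq P.primeCompl b
      have hr : r ∈ P := by
        have := (IsLocalization.AtPrime.mk'_mem_maximal_iff A P r s).mp hb
        exact this
      have h7 : r * z ∈ J := (hPz r).mp hr
      have h8 : IsLocalization.mk' A r s * algebraMap R A z =
          IsLocalization.mk' A (1 : R) s * algebraMap R A (r * z) := by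
        rw [IsLocalization.mk'_eq_mul_mk'_one (M := P.primeCompl) (S := A) r s, map_mul]
        ring
      rw [h8]
      exact Ideal.mul_mem_left _ _ (Ideal.mem_map_of_mem _ h7)
  rw [h6, zero_add] at h5
  have h9 := hAcm.supportDim_eq_depth
  rw [Module.supportDim_self_eq_ringKrullDim,
    IsLocalization.AtPrime.ringKrullDim_eq_height P A, ← h5] at h9
  have h10 : P.height = g := by exact_mod_cast h9
  rw [← hg, ← h10]
  exact Ideal.height_mono haP

end global

end Groth.Agent.Lib.Helper18.CM
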