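import Mathlib
import Groth.Prelude.Def_EGA4b
import Groth.Agent.Lib.Helper18.FormFib
import Groth.Agent.Lib.Helper18.NormalFlat

set_option linter.style.haveILetI false
set_option linter.unusedSectionVars false

open TensorProduct IsLocalRing

universe u

namespace Groth.Agent.Lib.Helper18.PMor

open Groth.Agent.Lib.Helper18.FormFib

section fib

variable {B : Type u} [CommRing B] (C : Type u) [CommRing C] [Algebra B C]

/-- for a field `L` over `κ(q)`: `L ⊗_{κ(q)} (κ(q) ⊗_B C) ≃ L ⊗_B C`. -/
noncomputable def fibEquiv (q : Ideal B) [q.IsPrime] (L : Type u) [CommRing L] [Algebra B L]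
    [Algebra q.ResidueField L] [IsScalarTower B q.ResidueField L] :
    L ⊗[q.ResidueField] (q.Fiber C) ≃ₐ[L] L ⊗[B] C :=
  Algebra.TensorProduct.cancelBaseChange B q.ResidueField L L C

variable (B' : Type u) [CommRing B'] [Algebra B B']

/-- the fibre of a base change, after extension of the residue field -/
theorem nonempty_ringEquiv_fiber_baseChange (q' : Ideal B') [q'.IsPrime]
    (q : Ideal B) [q.IsPrime] [q'.LiesOver q]
    [Algebra q.ResidueField q'.ResidueField] [IsScalarTower B q.ResidueField q'.ResidueField]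
    (L : Type u) [CommRing L] [Algebra q'.ResidueField L]
    [Algebra q.ResidueField L] [IsScalarTower q.ResidueField q'.ResidueField L] :
    Nonempty (L ⊗[q'.ResidueField] (q'.Fiber (B' ⊗[B] C)) ≃+* L ⊗[q.ResidueField] (q.Fiber C)) := by
  letI : Algebra B' L :=
    ((algebraMap q'.ResidueField L).comp (algebraMap B' q'.ResidueField)).toAlgebra
  haveI : IsScalarTower B' q'.ResidueField L := IsScalarTower.of_algebraMap_eq (fun _ => rfl)
  letI : Algebra B L := ((algebraMap B' L).comp (algebraMap B B')).toAlgebra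
  haveI : IsScalarTower B B' L := IsScalarTower.of_algebraMap_eq (fun _ => rfl)
  haveI : IsScalarTower B q.ResidueField L := by
    refine IsScalarTower.of_algebraMap_eq (fun b => ?_)
    change algebraMap q'.ResidueField L (algebraMap B' q'.ResidueField (algebraMap B B' b)) = _
    rw [IsScalarTower.algebraMap_apply q.ResidueField q'.ResidueField L,
      ← IsScalarTower.algebraMap_apply B q.ResidueField q'.ResidueField,
      ← IsScalarTower.algebraMap_apply B B' q'.ResidueField]
  let e1 := (fibEquiv (B := B') (B' ⊗[B] C) q' L).toRingEquiv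
  let e2 := (Algebra.TensorProduct.cancelBaseChange B B' L L C).toRingEquiv
  let e3 := (fibEquiv C q L).toRingEquiv
  exact ⟨e1.trans (e2.trans e3.symm)⟩

end fib


section baseChange

variable {B : Type u} [CommRing B] (C : Type u) [CommRing C] [Algebra B C]
  (B' : Type u) [CommRing B'] [Algebra B B'] [Algebra.QuasiFinite B B']

theorem isGeomNormal_fiber_baseChange
    (h : ∀ (q : Ideal B) [q.IsPrime], EGA4.IsGeomNormal q.ResidueField (q.Fiber C))
    (q' : Ideal B') [q'.IsPrime] :
    EGA4.IsGeomNormal q'.ResidueField (q'.Fiber (B' ⊗[B] C)) := by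
  intro L _ _ hfin
  let q := q'.under B
  letI := Localization.AtPrime.algebraOfLiesOver q q'
  letI : Algebra q.ResidueField L :=
    ((algebraMap q'.ResidueField L).comp (algebraMap q.ResidueField q'.ResidueField)).toAlgebra
  haveI : IsScalarTower q.ResidueField q'.ResidueField L :=
    IsScalarTower.of_algebraMap_eq (fun _ => rfl)
  haveI : Module.Finite q.ResidueField L := Module.Finite.trans q'.ResidueField L
  obtain ⟨e⟩ := nonempty_ringEquiv_fiber_baseChange C B' q' q L
  exact isNormalRing_of_ringEquiv e.symm (h q L inferInstance)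

theorem isGeometricallyRegular_fiber_baseChange
    (h : ∀ (q : Ideal B) [q.IsPrime], CAlg.IsGeometricallyRegular q.ResidueField (q.Fiber C))
    (q' : Ideal B') [q'.IsPrime] :
    CAlg.IsGeometricallyRegular q'.ResidueField (q'.Fiber (B' ⊗[B] C)) := by
  intro L _ _ hfin
  let q := q'.under B
  letI := Localization.AtPrime.algebraOfLiesOver q q'
  letI : Algebra q.ResidueField L :=
    ((algebraMap q'.ResidueField L).comp (algebraMap q.ResidueField q'.ResidueField)).toAlgebra
  haveI : IsScalarTower q.ResidueField q'.ResidueField L :=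
    IsScalarTower.of_algebraMap_eq (fun _ => rfl)
  haveI : Module.Finite q.ResidueField L := Module.Finite.trans q'.ResidueField L
  obtain ⟨e⟩ := nonempty_ringEquiv_fiber_baseChange C B' q' q L
  haveI := h q L inferInstance
  exact @IsRegularRing.of_ringEquiv (L ⊗[q.ResidueField] q.Fiber C) _ _ _ e.symm _

theorem isGeometricallyReduced_fiber_baseChange
    (h : ∀ (q : Ideal B) [q.IsPrime], Algebra.IsGeometricallyReduced q.ResidueField (q.Fiber C))
    (q' : Ideal B') [q'.IsPrime] :
    Algebra.IsGeometricallyReduced q'.ResidueField (q'.Fiber (B' ⊗[B] C)) := by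
  rw [Algebra.isGeometricallyReduced_field_iff]
  let q := q'.under B
  letI := Localization.AtPrime.algebraOfLiesOver q q'
  haveI : Algebra.IsAlgebraic q.ResidueField (AlgebraicClosure q'.ResidueField) :=
    Algebra.IsAlgebraic.trans q.ResidueField q'.ResidueField _
  obtain ⟨e⟩ := nonempty_ringEquiv_fiber_baseChange C B' q' q (AlgebraicClosure q'.ResidueField)
  haveI := h q
  exact isReduced_of_injective e.toRingHom e.injective

theorem isNoetherianRing_fiber_baseChange
    (h : ∀ (q : Ideal B) [q.IsPrime], IsNoetherianRing (q.Fiber C))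
    (q' : Ideal B') [q'.IsPrime] :
    IsNoetherianRing (q'.Fiber (B' ⊗[B] C)) := by
  let q := q'.under B
  letI := Localization.AtPrime.algebraOfLiesOver q q'
  obtain ⟨e⟩ := nonempty_ringEquiv_fiber_baseChange C B' q' q q'.ResidueField
  have e0 := (Algebra.TensorProduct.lid q'.ResidueField (q'.Fiber (B' ⊗[B] C))).toRingEquiv
  have e1 := (Algebra.TensorProduct.comm q.ResidueField q'.ResidueField (q.Fiber C)).toRingEquiv
  haveI := h q
  haveI : IsNoetherianRing ((q.Fiber C) ⊗[q.ResidueField] q'.ResidueField) :=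
    Algebra.FiniteType.isNoetherianRing (q.Fiber C) ((q.Fiber C) ⊗[q.ResidueField] q'.ResidueField)
  exact isNoetherianRing_of_ringEquiv _ ((e0.symm.trans e).trans e1).symm

theorem isNormalHom_baseChange (h : EGA4.IsNormalHom B C) : EGA4.IsNormalHom B' (B' ⊗[B] C) := by
  haveI := h.1
  exact ⟨inferInstance, fun q' _ => isGeomNormal_fiber_baseChange C B' (fun q _ => h.2 q) q'⟩

theorem isRegularHom_baseChange (h : CAlg.IsRegularHom B C) : CAlg.IsRegularHom B' (B' ⊗[B] C) := by
  haveI := h.1
  exact ⟨inferInstance, fun q' _ =>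
    ⟨isNoetherianRing_fiber_baseChange C B' (fun q _ => (h.2 q).1) q',
      isGeometricallyRegular_fiber_baseChange C B' (fun q _ => (h.2 q).2) q'⟩⟩

end baseChange

section fibloc

open Groth.Agent.Lib.Helper18.FibBridge

variable (A B : Type u) [CommRing A] [CommRing B] [Algebra A B]

theorem regular_fibLocRing_congr {r q : Ideal B} [r.IsPrime] [q.IsPrime] (h : r = q) :
    IsRegularLocalRing (EGA4.FibLocRing A B r) → IsRegularLocalRing (EGA4.FibLocRing A B q) := by
  subst h
  exact id

theorem regular_fibLocRing_of_isRegularRing_fiber (q : Ideal B) [q.IsPrime]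
    (h : IsRegularRing ((q.comap (algebraMap A B)).Fiber B)) :
    IsRegularLocalRing (EGA4.FibLocRing A B q) := by
  obtain ⟨Q', hQ', hctr⟩ := exists_prime_of_comap_eq (q.comap (algebraMap A B)) q rfl
  obtain ⟨e⟩ := nonempty_ringEquiv (q.comap (algebraMap A B)) Q'
  apply regular_fibLocRing_congr A B hctr
  haveI := h.isRegularLocalRing_localization Q'
  exact @IsRegularLocalRing.of_ringEquiv (Localization.AtPrime Q') _ _ _ _ e

end fibloc

section comp

variable (A B C : Type u) [CommRing A] [CommRing B] [CommRing C] [Algebra A B] [Algebra B C]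
  [Algebra A C] [IsScalarTower A B C]
  (p : Ideal A) [p.IsPrime] (K : Type u) [CommRing K] [Algebra p.ResidueField K]
  [Algebra A K] [IsScalarTower A p.ResidueField K]

/-- `B ⊗_A K ≃ K ⊗_{κ(p)} (κ(p) ⊗_A B)` -/
noncomputable def eB : B ⊗[A] K ≃+* K ⊗[p.ResidueField] (p.Fiber B) :=
  (Algebra.TensorProduct.comm A B K).toRingEquiv.trans
    (Algebra.TensorProduct.cancelBaseChange A p.ResidueField K K B).toRingEquiv.symm

/-- `(B ⊗_A K) ⊗_B C ≃ K ⊗_{κ(p)} (κ(p) ⊗_A C)` -/
noncomputable def eC : (B ⊗[A] K) ⊗[B] C ≃+* K ⊗[p.ResidueField] (p.Fiber C) :=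
  (Algebra.TensorProduct.comm B (B ⊗[A] K) C).toRingEquiv.trans
    ((Algebra.TensorProduct.cancelBaseChange A B C C K).toRingEquiv.trans (eB A C p K))

end comp

section field

theorem quasiFinite_of_finite_residueField (A : Type u) [CommRing A] (p : Ideal A) [p.IsPrime]
    (K : Type u) [CommRing K] [Algebra p.ResidueField K] [Algebra A K]
    [IsScalarTower A p.ResidueField K] [Module.Finite p.ResidueField K] :
    Algebra.QuasiFinite A K :=
  Algebra.QuasiFinite.trans A p.ResidueField K

theorem essFiniteType_of_finite_residueField (A : Type u) [CommRing A] (p : Ideal A) [p.IsPrime]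
    (K : Type u) [CommRing K] [Algebra p.ResidueField K] [Algebra A K]
    [IsScalarTower A p.ResidueField K] [Module.Finite p.ResidueField K] :
    Algebra.EssFiniteType A K :=
  Algebra.EssFiniteType.comp A p.ResidueField K

end field

section ascent

open Groth.Agent.Lib.Helper18.RkFlat

variable (B' C' : Type u) [CommRing B'] [CommRing C'] [IsNoetherianRing B'] [IsNoetherianRing C']
  [Algebra B' C'] [Module.Flat B' C']

theorem isNormalRing_of_flat_of_fibres (hB' : EGA4.IsNormalRing B')
    (hfib : ∀ (q' : Ideal B') [q'.IsPrime], EGA4.IsNormalRing (q'.Fiber C')) :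
    EGA4.IsNormalRing C' := by
  intro Q _
  have hf : ∀ (q : Ideal C') [q.IsPrime], IsDomain (EGA4.FibLocRing B' C' q) ∧
      IsIntegrallyClosed (EGA4.FibLocRing B' C' q) := fun q _ =>
    normal_fibLocRing_of_isNormalRing_fiber B' C' q (hfib _)
  obtain ⟨h1, h2⟩ := hB' (Q.comap (algebraMap B' C'))
  exact normal_of_fibres_of_flat B' C' Q hf

theorem isRegularRing_of_flat_of_fibres (hB' : IsRegularRing B')
    (hfib : ∀ (q' : Ideal B') [q'.IsPrime], IsRegularRing (q'.Fiber C')) :
    IsRegularRing C' := by
  rw [isRegularRing_iff]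
  intro Q _
  exact isRegularLocalRing_of_fibLocRing B' C' Q
    (hB'.isRegularLocalRing_localization _)
    (regular_fibLocRing_of_isRegularRing_fiber B' C' Q (hfib _))

end ascent

section comp2

variable (A B C : Type u) [CommRing A] [CommRing B] [CommRing C] [Algebra A B] [Algebra B C]
  [Algebra A C] [IsScalarTower A B C] [IsNoetherianRing B] [IsNoetherianRing C]

theorem isNormalHom_comp (hAB : EGA4.IsNormalHom A B) (hBC : EGA4.IsNormalHom B C) :
    EGA4.IsNormalHom A C := by
  haveI := hAB.1
  haveI := hBC.1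
  refine ⟨Module.Flat.trans A B C, ?_⟩
  intro p _ K _ _ hfin
  letI : Algebra A K :=
    ((algebraMap p.ResidueField K).comp (algebraMap A p.ResidueField)).toAlgebra
  haveI : IsScalarTower A p.ResidueField K := IsScalarTower.of_algebraMap_eq (fun _ => rfl)
  haveI := quasiFinite_of_finite_residueField A p K
  haveI := essFiniteType_of_finite_residueField A p K
  haveI : IsNoetherianRing (B ⊗[A] K) := Algebra.EssFiniteType.isNoetherianRing B (B ⊗[A] K)
  haveI : IsNoetherianRing (C ⊗[A] K) := Algebra.EssFiniteType.isNoetherianRing C (C ⊗[A] K)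
  have hB' : EGA4.IsNormalRing (B ⊗[A] K) :=
    isNormalRing_of_ringEquiv (eB A B p K).symm (hAB.2 p K hfin)
  have eC' : (B ⊗[A] K) ⊗[B] C ≃+* C ⊗[A] K :=
    (Algebra.TensorProduct.comm B (B ⊗[A] K) C).toRingEquiv.trans
      (Algebra.TensorProduct.cancelBaseChange A B C C K).toRingEquiv
  haveI : IsNoetherianRing ((B ⊗[A] K) ⊗[B] C) := isNoetherianRing_of_ringEquiv _ eC'.symm
  have hnh := isNormalHom_baseChange C (B ⊗[A] K) hBC
  have hC' : EGA4.IsNormalRing ((B ⊗[A] K) ⊗[B] C) :=
    isNormalRing_of_flat_of_fibres (B ⊗[A] K) ((B ⊗[A] K) ⊗[B] C) hB'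
      (fun q' _ => isNormalRing_of_isGeomNormal (hnh.2 q'))
  exact isNormalRing_of_ringEquiv (eC A B C p K) hC'

end comp2

end Groth.Agent.Lib.Helper18.PMor


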