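import Mathlib
import Groth.Prelude.Def_EGA4b
import Groth.Agent.Lib.Helper18.PMor

set_option linter.style.haveILetI false
set_option linter.unusedSectionVars false

open TensorProduct IsLocalRing

universe u

namespace Groth.Agent.Lib.Helper18.PMor

open Groth.Agent.Lib.Helper18.FormFib

theorem isRegularRing_of_isGeometricallyRegular {k S : Type u} [Field k] [CommRing S] [Algebra k S]
    (h : CAlg.IsGeometricallyRegular k S) : IsRegularRing S := by
  haveI := h k inferInstance
  exact @IsRegularRing.of_ringEquiv (k ⊗[k] S) _ _ _ (Algebra.TensorProduct.lid k S).toRingEquiv _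

section comp3

variable (A B C : Type u) [CommRing A] [CommRing B] [CommRing C] [Algebra A B] [Algebra B C]
  [Algebra A C] [IsScalarTower A B C] [IsNoetherianRing B] [IsNoetherianRing C]

theorem isRegularHom_comp (hAB : CAlg.IsRegularHom A B) (hBC : CAlg.IsRegularHom B C) :
    CAlg.IsRegularHom A C := by
  haveI := hAB.1
  haveI := hBC.1
  refine ⟨Module.Flat.trans A B C, fun p _ => ⟨inferInstance, ?_⟩⟩
  intro K _ _ hfin
  letI : Algebra A K :=
    ((algebraMap p.ResidueField K).comp (algebraMap A p.ResidueField)).toAlgebra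
  haveI : IsScalarTower A p.ResidueField K := IsScalarTower.of_algebraMap_eq (fun _ => rfl)
  haveI := quasiFinite_of_finite_residueField A p K
  haveI := essFiniteType_of_finite_residueField A p K
  haveI : IsNoetherianRing (B ⊗[A] K) := Algebra.EssFiniteType.isNoetherianRing B (B ⊗[A] K)
  haveI : IsNoetherianRing (C ⊗[A] K) := Algebra.EssFiniteType.isNoetherianRing C (C ⊗[A] K)
  have hB' : IsRegularRing (B ⊗[A] K) := by
    haveI := (hAB.2 p).2 K hfin
    exact @IsRegularRing.of_ringEquiv (K ⊗[p.ResidueField] (p.Fiber B)) _ _ _ (eB A B p K).symm _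
  have eC' : (B ⊗[A] K) ⊗[B] C ≃+* C ⊗[A] K :=
    (Algebra.TensorProduct.comm B (B ⊗[A] K) C).toRingEquiv.trans
      (Algebra.TensorProduct.cancelBaseChange A B C C K).toRingEquiv
  haveI : IsNoetherianRing ((B ⊗[A] K) ⊗[B] C) := isNoetherianRing_of_ringEquiv _ eC'.symm
  have hnh := isRegularHom_baseChange C (B ⊗[A] K) hBC
  have hC' : IsRegularRing ((B ⊗[A] K) ⊗[B] C) :=
    isRegularRing_of_flat_of_fibres (B ⊗[A] K) ((B ⊗[A] K) ⊗[B] C) hB'
      (fun q' _ => isRegularRing_of_isGeometricallyRegular (hnh.2 q').2)
  exact @IsRegularRing.of_ringEquiv ((B ⊗[A] K) ⊗[B] C) _ _ _ (eC A B C p K) hC'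

end comp3

section comp4

variable (A B C : Type u) [CommRing A] [CommRing B] [CommRing C] [Algebra A B] [Algebra B C]
  [Algebra A C] [IsScalarTower A B C] [IsNoetherianRing B] [IsNoetherianRing C]
  [Module.Flat A B] [Module.Flat B C]

theorem isReduced_tensor_of_finite
    (hBC : ∀ (q : Ideal B) [q.IsPrime], Algebra.IsGeometricallyReduced q.ResidueField (q.Fiber C))
    (p : Ideal A) [p.IsPrime] (K : Type u) [CommRing K] [Algebra p.ResidueField K]
    [Module.Finite p.ResidueField K]
    (hK : IsReduced (K ⊗[p.ResidueField] (p.Fiber B))) :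
    IsReduced (K ⊗[p.ResidueField] (p.Fiber C)) := by
  letI : Algebra A K :=
    ((algebraMap p.ResidueField K).comp (algebraMap A p.ResidueField)).toAlgebra
  haveI : IsScalarTower A p.ResidueField K := IsScalarTower.of_algebraMap_eq (fun _ => rfl)
  haveI := quasiFinite_of_finite_residueField A p K
  haveI := essFiniteType_of_finite_residueField A p K
  haveI : IsNoetherianRing (B ⊗[A] K) := Algebra.EssFiniteType.isNoetherianRing B (B ⊗[A] K)
  haveI hB' : IsReduced (B ⊗[A] K) :=
    isReduced_of_injective (eB A B p K).toRingHom (eB A B p K).injective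
  have hC' : IsReduced ((B ⊗[A] K) ⊗[B] C) := by
    apply isReduced_of_flat_of_reduced_fibres (B ⊗[A] K) ((B ⊗[A] K) ⊗[B] C)
    intro q' _ _
    haveI := isGeometricallyReduced_fiber_baseChange C (B ⊗[A] K) hBC q'
    exact Algebra.isReduced_of_isGeometricallyReduced (A := q'.Fiber ((B ⊗[A] K) ⊗[B] C)) q'.ResidueField
  exact isReduced_of_injective (eC A B C p K).symm.toRingHom (eC A B C p K).symm.injective

theorem isGeometricallyReduced_fiber_comp
    (hAB : ∀ (p : Ideal A) [p.IsPrime], Algebra.IsGeometricallyReduced p.ResidueField (p.Fiber B))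
    (hBC : ∀ (q : Ideal B) [q.IsPrime], Algebra.IsGeometricallyReduced q.ResidueField (q.Fiber C))
    (p : Ideal A) [p.IsPrime] :
    Algebra.IsGeometricallyReduced p.ResidueField (p.Fiber C) := by
  rw [Algebra.isGeometricallyReduced_field_iff]
  have h1 : IsReduced ((p.Fiber C) ⊗[p.ResidueField] (AlgebraicClosure p.ResidueField)) := by
    apply IsReduced.tensorProduct_of_flat_of_forall_fg
    intro K' hK'
    haveI : Algebra.FiniteType p.ResidueField K' := (Subalgebra.fg_iff_finiteType K').mp hK'
    haveI : Algebra.IsIntegral p.ResidueField K' :=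
      Algebra.IsIntegral.of_injective K'.val Subtype.val_injective
    haveI : Module.Finite p.ResidueField K' := Algebra.IsIntegral.finite
    have hBK : IsReduced (K' ⊗[p.ResidueField] (p.Fiber B)) := by
      haveI := hAB p
      have hinj : Function.Injective (Algebra.TensorProduct.map K'.val
          (AlgHom.id p.ResidueField (p.Fiber B))) :=
        Module.Flat.rTensor_preserves_injective_linearMap K'.val.toLinearMap Subtype.val_injective
      exact isReduced_of_injective _ hinj
    have := isReduced_tensor_of_finite A B C hBC p K' hBK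
    exact isReduced_of_injective
      (Algebra.TensorProduct.comm p.ResidueField (p.Fiber C) K').toRingEquiv.toRingHom
      (Algebra.TensorProduct.comm p.ResidueField (p.Fiber C) K').injective
  exact isReduced_of_injective
    (Algebra.TensorProduct.comm p.ResidueField (AlgebraicClosure p.ResidueField)
      (p.Fiber C)).toRingEquiv.toRingHom
    (Algebra.TensorProduct.comm p.ResidueField (AlgebraicClosure p.ResidueField)
      (p.Fiber C)).injective

end comp4

end Groth.Agent.Lib.Helper18.PMor

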