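import Mathlib
import Groth.Prelude.Def_EGA4b
import Groth.Agent.Lib.Helper18.PMor2
import Groth.Agent.Lib.Helper18.ICFlat
import Groth.Agent.Lib.Helper18.SerreReg2
import Groth.Agent.Lib.Helper18.FibBridge
import Groth.Agent.S4753

set_option linter.style.haveILetI false
set_option linter.unusedSectionVars false
set_option linter.overlappingInstances false

open TensorProduct IsLocalRing

universe u

namespace Groth.Agent.Lib.Helper18.PMor

open Groth.Agent.Lib.Helper18.FormFib Groth.Agent.Lib.Helper18.FibBridge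

section descentRing

variable (B' C' : Type u) [CommRing B'] [CommRing C'] [IsNoetherianRing B'] [IsNoetherianRing C']
  [Algebra B' C'] [Module.FaithfullyFlat B' C']

theorem normal_congr {q₁ q₂ : Ideal B'} [q₁.IsPrime] [q₂.IsPrime] (h : q₁ = q₂) :
    (IsDomain (Localization.AtPrime q₁) ∧ IsIntegrallyClosed (Localization.AtPrime q₁)) →
      (IsDomain (Localization.AtPrime q₂) ∧ IsIntegrallyClosed (Localization.AtPrime q₂)) := by
  subst h
  exact id

theorem regular_congr {q₁ q₂ : Ideal B'} [q₁.IsPrime] [q₂.IsPrime] (h : q₁ = q₂) :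
    IsRegularLocalRing (Localization.AtPrime q₁) → IsRegularLocalRing (Localization.AtPrime q₂) := by
  subst h
  exact id

theorem isNormalRing_of_faithfullyFlat (h : EGA4.IsNormalRing C') : EGA4.IsNormalRing B' := by
  intro q _
  obtain ⟨Q, hQ⟩ := PrimeSpectrum.comap_surjective_of_faithfullyFlat (B := C') ⟨q, inferInstance⟩
  have hQ' : Q.asIdeal.comap (algebraMap B' C') = q := congrArg PrimeSpectrum.asIdeal hQ
  obtain ⟨h1, h2⟩ := h Q.asIdeal
  exact normal_congr B' hQ' (ICFlat.normal_comap_of_flat B' C' Q.asIdeal)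

theorem isRegularRing_of_faithfullyFlat (h : IsRegularRing C') : IsRegularRing B' := by
  rw [isRegularRing_iff]
  intro q _
  obtain ⟨Q, hQ⟩ := PrimeSpectrum.comap_surjective_of_faithfullyFlat (B := C') ⟨q, inferInstance⟩
  have hQ' : Q.asIdeal.comap (algebraMap B' C') = q := congrArg PrimeSpectrum.asIdeal hQ
  apply regular_congr B' hQ'
  have hlo : Q.asIdeal.LiesOver (Q.asIdeal.comap (algebraMap B' C')) := ⟨rfl⟩
  let := Localization.AtPrime.algebraOfLiesOver (Q.asIdeal.comap (algebraMap B' C')) Q.asIdeal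
  have : IsLocalHom (algebraMap (Localization.AtPrime (Q.asIdeal.comap (algebraMap B' C')))
      (Localization.AtPrime Q.asIdeal)) :=
    Localization.isLocalHom_localRingHom (Q.asIdeal.comap (algebraMap B' C')) Q.asIdeal
      (algebraMap B' C') Ideal.LiesOver.over
  haveI : IsNoetherianRing (Localization.AtPrime (Q.asIdeal.comap (algebraMap B' C'))) :=
    IsLocalization.isNoetherianRing (Q.asIdeal.comap (algebraMap B' C')).primeCompl _ inferInstance
  haveI := h.isRegularLocalRing_localization Q.asIdeal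
  exact SerreReg.isRegularLocalRing_of_flat_of_isLocalHom
    (Localization.AtPrime (Q.asIdeal.comap (algebraMap B' C'))) (Localization.AtPrime Q.asIdeal)

end descentRing

section descentHom

variable (A B C : Type u) [CommRing A] [CommRing B] [CommRing C] [Algebra A B] [Algebra B C]
  [Algebra A C] [IsScalarTower A B C] [IsNoetherianRing B] [IsNoetherianRing C]
  [Module.FaithfullyFlat B C]

theorem isNormalHom_of_comp_of_faithfullyFlat (h : EGA4.IsNormalHom A C) :
    EGA4.IsNormalHom A B := by
  haveI := h.1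
  refine ⟨flat_of_faithfullyFlat_comp A B C, ?_⟩
  intro p _ K _ _ hfin
  letI : Algebra A K :=
    ((algebraMap p.ResidueField K).comp (algebraMap A p.ResidueField)).toAlgebra
  haveI : IsScalarTower A p.ResidueField K := IsScalarTower.of_algebraMap_eq (fun _ => rfl)
  haveI := essFiniteType_of_finite_residueField A p K
  haveI : IsNoetherianRing (B ⊗[A] K) := Algebra.EssFiniteType.isNoetherianRing B (B ⊗[A] K)
  haveI : IsNoetherianRing (C ⊗[A] K) := Algebra.EssFiniteType.isNoetherianRing C (C ⊗[A] K)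
  have eC' : (B ⊗[A] K) ⊗[B] C ≃+* C ⊗[A] K :=
    (Algebra.TensorProduct.comm B (B ⊗[A] K) C).toRingEquiv.trans
      (Algebra.TensorProduct.cancelBaseChange A B C C K).toRingEquiv
  haveI : IsNoetherianRing ((B ⊗[A] K) ⊗[B] C) := isNoetherianRing_of_ringEquiv _ eC'.symm
  have hC' : EGA4.IsNormalRing ((B ⊗[A] K) ⊗[B] C) :=
    isNormalRing_of_ringEquiv (eC A B C p K).symm (h.2 p K hfin)
  have hB' := isNormalRing_of_faithfullyFlat (B ⊗[A] K) ((B ⊗[A] K) ⊗[B] C) hC'
  exact isNormalRing_of_ringEquiv (eB A B p K) hB'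

theorem isRegularHom_of_comp_of_faithfullyFlat (h : CAlg.IsRegularHom A C) :
    CAlg.IsRegularHom A B := by
  haveI := h.1
  refine ⟨flat_of_faithfullyFlat_comp A B C, fun p _ => ⟨inferInstance, ?_⟩⟩
  intro K _ _ hfin
  letI : Algebra A K :=
    ((algebraMap p.ResidueField K).comp (algebraMap A p.ResidueField)).toAlgebra
  haveI : IsScalarTower A p.ResidueField K := IsScalarTower.of_algebraMap_eq (fun _ => rfl)
  haveI := essFiniteType_of_finite_residueField A p K
  haveI : IsNoetherianRing (B ⊗[A] K) := Algebra.EssFiniteType.isNoetherianRing B (B ⊗[A] K)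
  haveI : IsNoetherianRing (C ⊗[A] K) := Algebra.EssFiniteType.isNoetherianRing C (C ⊗[A] K)
  have eC' : (B ⊗[A] K) ⊗[B] C ≃+* C ⊗[A] K :=
    (Algebra.TensorProduct.comm B (B ⊗[A] K) C).toRingEquiv.trans
      (Algebra.TensorProduct.cancelBaseChange A B C C K).toRingEquiv
  haveI : IsNoetherianRing ((B ⊗[A] K) ⊗[B] C) := isNoetherianRing_of_ringEquiv _ eC'.symm
  have hC' : IsRegularRing ((B ⊗[A] K) ⊗[B] C) := by
    haveI := (h.2 p).2 K hfin
    exact @IsRegularRing.of_ringEquiv (K ⊗[p.ResidueField] (p.Fiber C)) _ _ _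
      (eC A B C p K).symm _
  have hB' := isRegularRing_of_faithfullyFlat (B ⊗[A] K) ((B ⊗[A] K) ⊗[B] C) hC'
  exact @IsRegularRing.of_ringEquiv (B ⊗[A] K) _ _ _ (eB A B p K) hB'

end descentHom

section reducedDescent

variable (A B C : Type u) [CommRing A] [CommRing B] [CommRing C] [Algebra A B] [Algebra B C]
  [Algebra A C] [IsScalarTower A B C] [Module.FaithfullyFlat B C]

theorem isGeometricallyReduced_fiber_of_comp_of_faithfullyFlat
    (p : Ideal A) [p.IsPrime]
    (hAC : Algebra.IsGeometricallyReduced p.ResidueField (p.Fiber C)) :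
    Algebra.IsGeometricallyReduced p.ResidueField (p.Fiber B) := by
  rw [Algebra.isGeometricallyReduced_field_iff]
  have hC := (Algebra.isGeometricallyReduced_field_iff p.ResidueField (p.Fiber C)).mp hAC
  let eC := (Algebra.TensorProduct.cancelBaseChange A p.ResidueField
    (AlgebraicClosure p.ResidueField) (AlgebraicClosure p.ResidueField) C).toRingEquiv.trans
    (Algebra.TensorProduct.comm A (AlgebraicClosure p.ResidueField) C).toRingEquiv
  let eB := (Algebra.TensorProduct.cancelBaseChange A p.ResidueField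
    (AlgebraicClosure p.ResidueField) (AlgebraicClosure p.ResidueField) B).toRingEquiv.trans
    (Algebra.TensorProduct.comm A (AlgebraicClosure p.ResidueField) B).toRingEquiv
  have hC' : IsReduced (TensorProduct A C (AlgebraicClosure p.ResidueField)) :=
    isReduced_of_injective eC.symm.toRingHom eC.symm.injective
  let Ψ : TensorProduct A B (AlgebraicClosure p.ResidueField) →ₐ[A]
      TensorProduct A C (AlgebraicClosure p.ResidueField) :=
    Algebra.TensorProduct.map (IsScalarTower.toAlgHom A B C)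
      (AlgHom.id A (AlgebraicClosure p.ResidueField))
  have hΨ : Function.Injective Ψ := by
    have h := Groth.Agent.S4753.rTensor_injective_of_faithfullyFlat A B C
      (AlgebraicClosure p.ResidueField)
    intro x y hxy
    apply h
    exact hxy
  have hB' : IsReduced (TensorProduct A B (AlgebraicClosure p.ResidueField)) :=
    isReduced_of_injective Ψ hΨ
  exact isReduced_of_injective eB.toRingHom eB.injective

end reducedDescent

section CM

open Groth.Agent.Lib.Helper18.RkFlat

variable (A B C : Type u) [CommRing A] [CommRing B] [CommRing C] [Algebra A B] [Algebra B C]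
  [Algebra A C] [IsScalarTower A B C] [IsNoetherianRing A] [IsNoetherianRing B] [IsNoetherianRing C]
  [Module.Flat A B] [Module.Flat B C] [Module.Flat A C]

theorem isCohenMacaulayRing_fiber_comp
    (hAB : ∀ (p : Ideal A) [p.IsPrime], LocCoh.IsCohenMacaulayRing (p.Fiber B))
    (hBC : ∀ (q : Ideal B) [q.IsPrime], LocCoh.IsCohenMacaulayRing (q.Fiber C))
    (p : Ideal A) [p.IsPrime] : LocCoh.IsCohenMacaulayRing (p.Fiber C) := by
  rw [isCohenMacaulayRing_fiber_iff]
  intro r _ _ hr
  haveI l2 := isLocalRing_fibLocRing B C r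
  haveI l3 := isLocalRing_fibLocRing A B (r.comap (algebraMap B C))
  rw [ringKrullDim_fibLocRing_comp A B C r, depth_fibLocRing_comp A B C r]
  have h1 := (isCohenMacaulayRing_fiber_iff ((r.comap (algebraMap B C)).comap (algebraMap A B))).mp
    (hAB _) (r.comap (algebraMap B C)) rfl
  have h2 := (isCohenMacaulayRing_fiber_iff (r.comap (algebraMap B C))).mp (hBC _) r rfl
  rw [h1, h2]
  push_cast
  rfl

theorem depth_le_ringKrullDim_self (R : Type u) [CommRing R] [IsLocalRing R] [IsNoetherianRing R] :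
    ((LocCoh.depth R R : ℕ∞) : WithBot ℕ∞) ≤ ringKrullDim R := by
  have := CM.depth_le_supportDim (R := R) R
  rwa [Module.supportDim_self_eq_ringKrullDim] at this

theorem isCohenMacaulayRing_fiber_of_comp_of_faithfullyFlat [Module.FaithfullyFlat B C]
    (hAC : ∀ (p : Ideal A) [p.IsPrime], LocCoh.IsCohenMacaulayRing (p.Fiber C))
    (p : Ideal A) [p.IsPrime] : LocCoh.IsCohenMacaulayRing (p.Fiber B) := by
  rw [isCohenMacaulayRing_fiber_iff]
  intro r _ _ hr
  obtain ⟨Q, hQ⟩ := PrimeSpectrum.comap_surjective_of_faithfullyFlat (B := C) ⟨r, inferInstance⟩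
  have hQ' : Q.asIdeal.comap (algebraMap B C) = r := congrArg PrimeSpectrum.asIdeal hQ
  subst hQ'
  haveI l1 := isLocalRing_fibLocRing A C Q.asIdeal
  haveI l2 := isLocalRing_fibLocRing B C Q.asIdeal
  have hd := ringKrullDim_fibLocRing_comp A B C Q.asIdeal
  have hdep := depth_fibLocRing_comp A B C Q.asIdeal
  have hCM := (isCohenMacaulayRing_fiber_iff (Q.asIdeal.comap (algebraMap A C))).mp (hAC _)
    Q.asIdeal rfl
  have le1 := depth_le_ringKrullDim_self (EGA4.FibLocRing A B (Q.asIdeal.comap (algebraMap B C)))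
  have le2 := depth_le_ringKrullDim_self (EGA4.FibLocRing B C Q.asIdeal)
  obtain ⟨n1, hn1⟩ := SerreReg.exists_ringKrullDim_eq_nat
    (EGA4.FibLocRing A B (Q.asIdeal.comap (algebraMap B C)))
  obtain ⟨n2, hn2⟩ := SerreReg.exists_ringKrullDim_eq_nat (EGA4.FibLocRing B C Q.asIdeal)
  obtain ⟨m1, hm1⟩ := ENat.ne_top_iff_exists.mp (CM.depth_ne_top
    (R := EGA4.FibLocRing A B (Q.asIdeal.comap (algebraMap B C)))
    (EGA4.FibLocRing A B (Q.asIdeal.comap (algebraMap B C))))
  obtain ⟨m2, hm2⟩ := ENat.ne_top_iff_exists.mp (CM.depth_ne_top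
    (R := EGA4.FibLocRing B C Q.asIdeal) (EGA4.FibLocRing B C Q.asIdeal))
  rw [hd, hdep, hn1, hn2, ← hm1, ← hm2] at hCM
  rw [hn1, ← hm1] at le1 ⊢
  rw [hn2, ← hm2] at le2
  have e1 : m1 ≤ n1 := by exact_mod_cast le1
  have e2 : m2 ≤ n2 := by exact_mod_cast le2
  have e3 : n1 + n2 = m1 + m2 := by exact_mod_cast hCM
  have : n1 = m1 := by omega
  rw [this]
  rfl

end CM

end Groth.Agent.Lib.Helper18.PMor

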