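import Mathlib
import Groth.Prelude.Def_EGA4b
import Groth.Agent.Lib.Helper18.PMor3
import Groth.Agent.Lib.Helper18.SerreReg3
import Groth.Agent.Lib.Helper18.MCMFree

set_option linter.style.haveILetI false
set_option linter.unusedSectionVars false

open TensorProduct IsLocalRing

universe u

namespace Groth.Agent.Lib.Helper18.PMor

open Groth.Agent.Lib.Helper18.FormFib

section conv

variable {S : Type u} [CommRing S]

theorem isNormalRing_of_isRegularRing (h : IsRegularRing S) : EGA4.IsNormalRing S := by
  intro p _
  haveI := h.isRegularLocalRing_localization p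
  exact ⟨Groth.Agent.Lib.Helper21.isDomain_of_isRegularLocalRing _,
    SerreReg.isIntegrallyClosed_of_isRegularLocalRing _⟩

theorem isReduced_of_isRegularRing (h : IsRegularRing S) : IsReduced S := by
  apply isReduced_ofLocalizationMaximal
  intro m hm
  haveI := h.isRegularLocalRing_localization m
  haveI := Groth.Agent.Lib.Helper21.isDomain_of_isRegularLocalRing (Localization.AtPrime m)
  infer_instance

theorem isCohenMacaulayRing_of_isRegularRing (h : IsRegularRing S) :
    LocCoh.IsCohenMacaulayRing S := by
  haveI : IsNoetherianRing S := inferInstance
  refine ⟨fun p _ => ?_⟩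
  haveI := h.isRegularLocalRing_localization p
  haveI : IsNoetherianRing (Localization.AtPrime p) :=
    IsLocalization.isNoetherianRing p.primeCompl _ inferInstance
  refine ⟨?_⟩
  rw [Module.supportDim_self_eq_ringKrullDim]
  exact le_antisymm
    (CM.ringKrullDim_le_depth_of_free (Localization.AtPrime p) (Localization.AtPrime p))
    (depth_le_ringKrullDim_self _)

end conv

section convHom

variable {k S : Type u} [Field k] [CommRing S] [Algebra k S]

theorem isGeomNormal_of_isGeometricallyRegular (h : CAlg.IsGeometricallyRegular k S) :
    EGA4.IsGeomNormal k S :=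
  fun k' _ _ hfin => isNormalRing_of_isRegularRing (h k' hfin)

theorem isGeometricallyReduced_of_forall_finite
    (h : ∀ (k' : Type u) [Field k'] [Algebra k k'], Module.Finite k k' → IsReduced (k' ⊗[k] S)) :
    Algebra.IsGeometricallyReduced k S := by
  rw [Algebra.isGeometricallyReduced_field_iff]
  have h1 : IsReduced (S ⊗[k] (AlgebraicClosure k)) := by
    apply IsReduced.tensorProduct_of_flat_of_forall_fg
    intro K' hK'
    haveI : Algebra.FiniteType k K' := (Subalgebra.fg_iff_finiteType K').mp hK'
    haveI : Algebra.IsIntegral k K' :=
      Algebra.IsIntegral.of_injective K'.val Subtype.val_injective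
    haveI : Module.Finite k K' := Algebra.IsIntegral.finite
    letI : Field K' := (Subalgebra.isField_of_algebraic K').toField
    have := h K' inferInstance
    exact isReduced_of_injective
      (Algebra.TensorProduct.comm k S K').toRingEquiv.toRingHom
      (Algebra.TensorProduct.comm k S K').injective
  exact isReduced_of_injective
    (Algebra.TensorProduct.comm k (AlgebraicClosure k) S).toRingEquiv.toRingHom
    (Algebra.TensorProduct.comm k (AlgebraicClosure k) S).injective

theorem isGeometricallyReduced_of_isGeometricallyRegular (h : CAlg.IsGeometricallyRegular k S) :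
    Algebra.IsGeometricallyReduced k S :=
  isGeometricallyReduced_of_forall_finite (fun k' _ _ hfin => isReduced_of_isRegularRing (h k' hfin))

end convHom

theorem isNormalHom_of_isRegularHom {A B : Type u} [CommRing A] [CommRing B] [Algebra A B]
    (h : CAlg.IsRegularHom A B) : EGA4.IsNormalHom A B :=
  ⟨h.1, fun p _ => isGeomNormal_of_isGeometricallyRegular (h.2 p).2⟩

end Groth.Agent.Lib.Helper18.PMor
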