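import Mathlib
import Groth.Prelude.Def_CAlg
import Groth.Prelude.Def_EGA4b
import Groth.Agent.Lib.Helper18.PMor4
import Groth.Agent.Lib.Helper18.CMCat
import Groth.Agent.Lib.Helper12.UnivCat
import Groth.Agent.Lib.Helper23.RegularHom

set_option autoImplicit false
set_option linter.style.haveILetI false
set_option linter.unusedSectionVars false
set_option linter.overlappingInstances false
universe u

open IsLocalRing TensorProduct

namespace Groth.Agent.Lib.Helper18.UCat

open Groth.Agent.Lib.Helper18.RkFlat Groth.Agent.Lib.Helper18.FibBridge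
  Groth.Agent.Lib.Helper18.PMor

section ascent

variable (A B : Type u) [CommRing A] [CommRing B] [Algebra A B]
  [IsNoetherianRing A] [IsNoetherianRing B]

/-- Cohen–Macaulayness ascends along flat maps with CM fibres -/
theorem isCohenMacaulayRing_of_flat_of_fibres [Module.Flat A B]
    [hA : LocCoh.IsCohenMacaulayRing A]
    (hf : ∀ (p : Ideal A) [p.IsPrime], LocCoh.IsCohenMacaulayRing (p.Fiber B)) :
    LocCoh.IsCohenMacaulayRing B := by
  refine ⟨fun Q _ => ?_⟩
  haveI : IsNoetherianRing (Localization.AtPrime Q) :=
    IsLocalization.isNoetherianRing Q.primeCompl _ inferInstance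
  refine ⟨?_⟩
  haveI l1 := isLocalRing_fibLocRing A B Q
  have h1 := height_eq_add_fibLocRing A B Q
  have h2 := depth_eq_add_fibLocRing A B Q
  have h3 := (isCohenMacaulayRing_fiber_iff (Q.comap (algebraMap A B))).mp (hf _) Q rfl
  have h4 := (hA.isCohenMacaulayLocalRing_localization
    (Q.comap (algebraMap A B))).supportDim_eq_depth
  rw [Module.supportDim_self_eq_ringKrullDim,
    IsLocalization.AtPrime.ringKrullDim_eq_height (Q.comap (algebraMap A B))
      (Localization.AtPrime (Q.comap (algebraMap A B)))] at h4
  rw [Module.supportDim_self_eq_ringKrullDim,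
    IsLocalization.AtPrime.ringKrullDim_eq_height Q (Localization.AtPrime Q), h1, h2, h3, h4]
  push_cast
  rfl

end ascent


section poly

open Groth.Agent.Lib.Helper23 Groth.Agent.Lib.Helper23.RegularHom

/-- a smooth algebra over a Cohen–Macaulay ring is Cohen–Macaulay -/
theorem isCohenMacaulayRing_of_smooth (R S : Type u) [CommRing R] [CommRing S] [Algebra R S]
    [hR : LocCoh.IsCohenMacaulayRing R] [Algebra.Smooth R S] : LocCoh.IsCohenMacaulayRing S := by
  haveI : IsNoetherianRing S := Algebra.FiniteType.isNoetherianRing R S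
  haveI : Module.Flat R S := Algebra.Smooth.flat R S
  apply isCohenMacaulayRing_of_flat_of_fibres R S
  intro p _
  haveI : Algebra.Smooth p.ResidueField (p.Fiber S) := inferInstance
  haveI : IsRegularRing p.ResidueField := inferInstance
  exact isCohenMacaulayRing_of_isRegularRing (isRegularRing_of_smooth p.ResidueField (p.Fiber S))

theorem isCatenary_of_isCohenMacaulayRing (R : Type u) [CommRing R]
    [hR : LocCoh.IsCohenMacaulayRing R] : CAlg.IsCatenary R := by
  rw [Groth.Agent.Lib.Helper12.Codim.isCatenary_iff_localization_maximal]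
  intro m _
  haveI := hR.isCohenMacaulayLocalRing_localization m
  haveI : IsNoetherianRing (Localization.AtPrime m) :=
    IsLocalization.isNoetherianRing m.primeCompl _ inferInstance
  exact Groth.Agent.Lib.Helper18.CMCat.isCatenary_of_CM _
    (hR.isCohenMacaulayLocalRing_localization m).supportDim_eq_depth

/-- a Cohen–Macaulay ring is universally catenary -/
theorem isUniversallyCatenary_of_isCohenMacaulayRing (R : Type u) [CommRing R]
    [hR : LocCoh.IsCohenMacaulayRing R] : CAlg.IsUniversallyCatenary R := by
  refine ⟨inferInstance, ?_⟩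
  intro S _ _ hft
  obtain ⟨n, f, hf⟩ := Algebra.FiniteType.iff_quotient_mvPolynomial''.mp hft
  haveI : Algebra.FinitePresentation R (MvPolynomial (Fin n) R) := inferInstance
  haveI : Algebra.Smooth R (MvPolynomial (Fin n) R) := ⟨inferInstance, inferInstance⟩
  haveI : LocCoh.IsCohenMacaulayRing (MvPolynomial (Fin n) R) :=
    isCohenMacaulayRing_of_smooth R _
  exact Groth.Agent.Lib.Helper12.Codim.isCatenary_of_surjective f.toRingHom hf
    (isCatenary_of_isCohenMacaulayRing _)

end poly

end Groth.Agent.Lib.Helper18.UCat
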