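import Mathlib
import Groth.Agent.Lib.Helper18.UCat
import Groth.Agent.Lib.Helper18.FibQuot
import Groth.Agent.Lib.Helper18.PMor4

set_option autoImplicit false
set_option linter.unusedSectionVars false
set_option linter.style.haveILetI false
universe u

open IsLocalRing TensorProduct

namespace Groth.Agent.Lib.Helper18.FTCM

open Groth.Agent.Lib.Helper18.CM Groth.Agent.Lib.Helper18.FibQuot

/-- a Noetherian ring of dimension zero is Cohen–Macaulay -/
theorem isCohenMacaulayRing_of_krullDimLE_zero (C : Type u) [CommRing C] [IsNoetherianRing C]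
    [Ring.KrullDimLE 0 C] : LocCoh.IsCohenMacaulayRing C := by
  refine ⟨fun Q hQ => ?_⟩
  haveI : IsNoetherianRing (Localization.AtPrime Q) :=
    IsLocalization.isNoetherianRing Q.primeCompl _ inferInstance
  refine ⟨?_⟩
  have h0 : Q.height = 0 :=
    Ideal.height_eq_zero_iff.mpr (Ideal.mem_minimalPrimes_of_krullDimLE_zero Q)
  have h1 : Module.supportDim (Localization.AtPrime Q) (Localization.AtPrime Q) = 0 := by
    rw [Module.supportDim_self_eq_ringKrullDim,
      IsLocalization.AtPrime.ringKrullDim_eq_height Q (Localization.AtPrime Q), h0]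
    rfl
  have h2 := depth_le_supportDim (R := Localization.AtPrime Q) (Localization.AtPrime Q)
  rw [h1] at h2 ⊢
  have h3 : LocCoh.depth (Localization.AtPrime Q) (Localization.AtPrime Q) ≤ 0 := by
    exact_mod_cast h2
  rw [le_antisymm h3 zero_le]
  rfl

/-- a localization of a Cohen–Macaulay ring is Cohen–Macaulay -/
theorem isCohenMacaulayRing_of_isLocalization {A : Type u} [CommRing A] (M : Submonoid A)
    (B : Type u) [CommRing B] [Algebra A B] [IsLocalization M B]
    [hA : LocCoh.IsCohenMacaulayRing A] : LocCoh.IsCohenMacaulayRing B := by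
  haveI : IsNoetherianRing B := IsLocalization.isNoetherianRing M B inferInstance
  refine ⟨fun Q hQ => ?_⟩
  haveI := hA.isCohenMacaulayLocalRing_localization (Q.comap (algebraMap A B))
  haveI : IsLocalization.AtPrime (Localization.AtPrime Q) (Q.comap (algebraMap A B)) :=
    IsLocalization.isLocalization_isLocalization_atPrime_isLocalization M (Localization.AtPrime Q) Q
  exact isCohenMacaulayLocalRing_of_ringEquiv
    (IsLocalization.algEquiv (Q.comap (algebraMap A B)).primeCompl
      (Localization.AtPrime (Q.comap (algebraMap A B))) (Localization.AtPrime Q)).toRingEquiv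

/-- a finite flat algebra over a Cohen–Macaulay ring is Cohen–Macaulay -/
theorem isCohenMacaulayRing_of_finite_flat (R T : Type u) [CommRing R] [CommRing T] [Algebra R T]
    [hR : LocCoh.IsCohenMacaulayRing R] [Module.Finite R T] [Module.Flat R T] :
    LocCoh.IsCohenMacaulayRing T := by
  haveI : IsNoetherianRing R := inferInstance
  haveI : IsNoetherianRing T := IsNoetherianRing.of_finite R T
  apply Groth.Agent.Lib.Helper18.UCat.isCohenMacaulayRing_of_flat_of_fibres R T
  intro p _
  haveI : Module.Finite p.ResidueField (p.Fiber T) := inferInstance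
  haveI : IsArtinianRing (p.Fiber T) := IsArtinianRing.of_finite p.ResidueField (p.Fiber T)
  haveI : IsNoetherianRing (p.Fiber T) := inferInstance
  exact isCohenMacaulayRing_of_krullDimLE_zero (p.Fiber T)

section loc

variable (k P F L : Type u) [CommRing k] [CommRing P] [CommRing F] [CommRing L]
  [Algebra k P] [Algebra k F] [Algebra P F] [IsScalarTower k P F] [Algebra k L]

/-- `F ⊗ L` is Cohen–Macaulay when `F` is a localization of `P` and `P ⊗ L` is Cohen–Macaulay -/
theorem isCohenMacaulayRing_tensor_of_isLocalization (M : Submonoid P) [IsLocalization M F]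
    [hP : LocCoh.IsCohenMacaulayRing (P ⊗[k] L)] : LocCoh.IsCohenMacaulayRing (F ⊗[k] L) := by
  letI alg : Algebra (P ⊗[k] L) (F ⊗[k] L) :=
    (Algebra.TensorProduct.map (IsScalarTower.toAlgHom k P F) (AlgHom.id k L)).toRingHom.toAlgebra
  haveI : IsScalarTower P (P ⊗[k] L) (F ⊗[k] L) := by
    refine IsScalarTower.of_algebraMap_eq fun p => ?_
    change (algebraMap P F p) ⊗ₜ[k] (1 : L) =
      (Algebra.TensorProduct.map (IsScalarTower.toAlgHom k P F) (AlgHom.id k L)) (p ⊗ₜ[k] 1)
    rw [Algebra.TensorProduct.map_tmul]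
    rfl
  have H : (algebraMap (P ⊗[k] L) (F ⊗[k] L)).comp
      (Algebra.TensorProduct.includeRight (R := k) (A := P) (B := L)).toRingHom =
      (Algebra.TensorProduct.includeRight (R := k) (A := F) (B := L)).toRingHom := by
    ext x
    change (Algebra.TensorProduct.map (IsScalarTower.toAlgHom k P F) (AlgHom.id k L))
      ((1 : P) ⊗ₜ[k] x) = (1 : F) ⊗ₜ[k] x
    rw [Algebra.TensorProduct.map_tmul, map_one]
    rfl
  haveI := IsLocalization.tensorProduct_tensorProduct k L M F H
  exact isCohenMacaulayRing_of_isLocalization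
    (Algebra.algebraMapSubmonoid (P ⊗[k] L) M) (F ⊗[k] L)

end loc

section finiteExt

variable (k F K L : Type u) [CommRing k] [CommRing F] [CommRing K] [CommRing L]
  [Algebra k F] [Algebra k K] [Algebra F K] [IsScalarTower k F K] [Algebra k L]

/-- `K ⊗ L` is Cohen–Macaulay when `K` is finite flat over `F` and `F ⊗ L` is Cohen–Macaulay -/
theorem isCohenMacaulayRing_tensor_of_finite [Module.Finite F K] [Module.Flat F K]
    [hF : LocCoh.IsCohenMacaulayRing (F ⊗[k] L)] : LocCoh.IsCohenMacaulayRing (K ⊗[k] L) := by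
  haveI : LocCoh.IsCohenMacaulayRing ((F ⊗[k] L) ⊗[F] K) :=
    isCohenMacaulayRing_of_finite_flat (F ⊗[k] L) ((F ⊗[k] L) ⊗[F] K)
  let e1 : ((F ⊗[k] L) ⊗[F] K) ≃+* (K ⊗[F] (F ⊗[k] L)) :=
    (Algebra.TensorProduct.comm F (F ⊗[k] L) K).toRingEquiv
  let e2 : (K ⊗[F] (F ⊗[k] L)) ≃+* (K ⊗[k] L) :=
    (Algebra.TensorProduct.cancelBaseChange k F F K L).toRingEquiv
  exact isCohenMacaulayRing_of_ringEquiv (e1.trans e2)

end finiteExt

section fields

open scoped IntermediateField.algebraAdjoinAdjoin

variable (k K L : Type u) [Field k] [Field K] [Field L] [Algebra k K] [Algebra k L]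

/-- `K ⊗_k L` is Cohen–Macaulay for a finitely generated field extension `K/k` -/
theorem isCohenMacaulayRing_tensor_of_essFiniteType [Algebra.EssFiniteType k K] :
    LocCoh.IsCohenMacaulayRing (K ⊗[k] L) := by
  classical
  obtain ⟨s, hs⟩ := exists_isTranscendenceBasis k K
  haveI hfin : Finite s := finite_of_isTranscendenceBasis hs
  -- the polynomial ring over `L` is Cohen–Macaulay
  haveI hreg : IsRegularRing (MvPolynomial s L) := inferInstance
  haveI hCM0 : LocCoh.IsCohenMacaulayRing (MvPolynomial s L) :=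
    Groth.Agent.Lib.Helper18.PMor.isCohenMacaulayRing_of_isRegularRing hreg
  let e₀ : MvPolynomial s k ≃ₐ[k] Algebra.adjoin k (Set.range (Subtype.val : s → K)) :=
    hs.1.aevalEquiv
  let e₁ : (Algebra.adjoin k (Set.range (Subtype.val : s → K))) ⊗[k] L ≃ₐ[k]
      (MvPolynomial s k) ⊗[k] L :=
    Algebra.TensorProduct.congr e₀.symm AlgEquiv.refl
  let e₂ : (MvPolynomial s k) ⊗[k] L ≃ₐ[k] L ⊗[k] (MvPolynomial s k) :=
    Algebra.TensorProduct.comm k _ _
  let e₃ : L ⊗[k] (MvPolynomial s k) ≃ₐ[L] MvPolynomial s L :=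
    MvPolynomial.algebraTensorAlgEquiv k L
  haveI hCM1 : LocCoh.IsCohenMacaulayRing
      ((Algebra.adjoin k (Set.range (Subtype.val : s → K))) ⊗[k] L) :=
    isCohenMacaulayRing_of_ringEquiv
      ((e₁.toRingEquiv.trans e₂.toRingEquiv).trans e₃.toRingEquiv).symm
  -- pass to the fraction field
  haveI hCM2 : LocCoh.IsCohenMacaulayRing
      ((IntermediateField.adjoin k (Set.range (Subtype.val : s → K))) ⊗[k] L) :=
    isCohenMacaulayRing_tensor_of_isLocalization k
      (Algebra.adjoin k (Set.range (Subtype.val : s → K)))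
      (IntermediateField.adjoin k (Set.range (Subtype.val : s → K))) L
      (nonZeroDivisors (Algebra.adjoin k (Set.range (Subtype.val : s → K))))
  -- finite extension
  haveI halg : Algebra.IsAlgebraic
      (IntermediateField.adjoin k (Set.range (Subtype.val : s → K))) K := hs.isAlgebraic_field
  haveI : Algebra.EssFiniteType (IntermediateField.adjoin k (Set.range (Subtype.val : s → K))) K :=
    Algebra.EssFiniteType.of_comp k _ K
  haveI : Module.Finite (IntermediateField.adjoin k (Set.range (Subtype.val : s → K))) K :=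
    Algebra.finite_of_essFiniteType_of_isAlgebraic
  exact isCohenMacaulayRing_tensor_of_finite k
    (IntermediateField.adjoin k (Set.range (Subtype.val : s → K))) K L

end fields

end Groth.Agent.Lib.Helper18.FTCM
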