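import Mathlib
import Groth.Agent.Lib.Helper16.DepthExt
import Groth.Agent.Lib.Helper18.CM1

set_option autoImplicit false
universe u

open IsLocalRing CategoryTheory

namespace Groth.Agent.Lib.Helper18.FamCyc

open Groth.Agent.Lib.Helper16.Depth Groth.Agent.Lib.Helper18.CM

section depthLemma

variable {R : Type u} [CommRing R] [IsLocalRing R] [IsNoetherianRing R]
  {X₁ X₂ X₃ : Type u} [AddCommGroup X₁] [Module R X₁] [AddCommGroup X₂] [Module R X₂]
  [AddCommGroup X₃] [Module R X₃] [Module.Finite R X₁] [Module.Finite R X₂] [Module.Finite R X₃]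
  (f : X₁ →ₗ[R] X₂) (g : X₂ →ₗ[R] X₃) (hf : Function.Injective f) (hg : Function.Surjective g)
  (hfg : Function.Exact f g)

include hf hg hfg

/-- depth lemma (a): `depth X₃ ≥ min (depth X₂) (depth X₁ - 1)` -/
theorem le_depth_X₃ (n : ℕ) (h2 : (n : ℕ∞) ≤ LocCoh.depth R X₂)
    (h1 : ((n + 1 : ℕ) : ℕ∞) ≤ LocCoh.depth R X₁) : (n : ℕ∞) ≤ LocCoh.depth R X₃ := by
  unfold LocCoh.depth at *
  rw [le_idealDepth_iff_ext'] at *
  intro i hi
  have hS := shortExact_of_linearMaps f g hf hg hfg
  exact ext_X₃ hS _ i (h2 i hi) (h1 (i + 1) (by omega))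

/-- depth lemma (b): `depth X₂ ≥ min (depth X₁) (depth X₃)` -/
theorem le_depth_X₂ (n : ℕ) (h1 : (n : ℕ∞) ≤ LocCoh.depth R X₁)
    (h3 : (n : ℕ∞) ≤ LocCoh.depth R X₃) : (n : ℕ∞) ≤ LocCoh.depth R X₂ := by
  unfold LocCoh.depth at *
  rw [le_idealDepth_iff_ext'] at *
  intro i hi
  have hS := shortExact_of_linearMaps f g hf hg hfg
  exact ext_X₂ hS _ i (h1 i hi) (h3 i hi)

end depthLemma

section ass

variable {B : Type u} [CommRing B] [IsNoetherianRing B]
  (X : Type u) [AddCommGroup X] [Module B X] [Module.Finite B X]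

/-- (F0) -/
theorem depth_localizedModule_eq_zero_iff (p : Ideal B) [p.IsPrime] :
    LocCoh.depth (Localization.AtPrime p) (LocalizedModule p.primeCompl X) = 0 ↔
      p ∈ associatedPrimes B X := by
  rw [depth_eq_zero_iff]
  have h := Module.associatedPrimes.preimage_comap_associatedPrimes_eq_associatedPrimes_of_isLocalizedModule
    p.primeCompl (Localization.AtPrime p) (LocalizedModule.mkLinearMap p.primeCompl X)
  rw [← h, Set.mem_preimage]
  have h3 : (maximalIdeal (Localization.AtPrime p)).under B = p :=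
    Localization.AtPrime.under_maximalIdeal
  rw [← Ideal.under_def, h3]

/-- (F0') -/
theorem one_le_depth_localizedModule_of_notMem (p : Ideal B) [p.IsPrime]
    (hp : p ∉ associatedPrimes B X) :
    (1 : ℕ∞) ≤ LocCoh.depth (Localization.AtPrime p) (LocalizedModule p.primeCompl X) := by
  rw [Order.one_le_iff_ne_zero]
  intro h
  exact hp ((depth_localizedModule_eq_zero_iff X p).1 h)

omit [Module.Finite B X] in
/-- (F1') an element which vanishes at all primes of height `≤ 1` of a module without associated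
primes of height `≥ 2` is zero -/
theorem eq_zero_of_forall_height_le_one (hX : ∀ p ∈ associatedPrimes B X, p.height ≤ 1) (x : X)
    (hx : ∀ (p : Ideal B) [p.IsPrime], p.height ≤ 1 → ∃ s : B, s ∉ p ∧ s • x = 0) : x = 0 := by
  by_contra hne
  have hnt : Nontrivial (Submodule.span B {x}) := by
    refine ⟨⟨⟨x, Submodule.mem_span_singleton_self x⟩, 0, ?_⟩⟩
    intro h
    exact hne (congrArg Subtype.val h)
  obtain ⟨p, hp⟩ := associatedPrimes.nonempty B (Submodule.span B {x})
  have hpX : p ∈ associatedPrimes B X :=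
    associatedPrimes.subset_of_injective (f := (Submodule.span B {x}).subtype)
      (Submodule.injective_subtype _) hp
  have hpp : p.IsPrime := hp.isPrime
  obtain ⟨s, hsp, hsx⟩ := hx p (hX p hpX)
  apply hsp
  apply IsAssociatedPrime.annihilator_le hp
  rw [Submodule.mem_annihilator]
  rintro ⟨y, hy⟩ -
  obtain ⟨c, rfl⟩ := Submodule.mem_span_singleton.1 hy
  apply Subtype.ext
  change s • c • x = 0
  rw [smul_comm, hsx, smul_zero]

end ass

section locDepth

variable {B : Type u} [CommRing B] [IsNoetherianRing B]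
  {X₁ X₂ X₃ : Type u} [AddCommGroup X₁] [Module B X₁] [AddCommGroup X₂] [Module B X₂]
  [AddCommGroup X₃] [Module B X₃] [Module.Finite B X₁] [Module.Finite B X₂] [Module.Finite B X₃]
  (f : X₁ →ₗ[B] X₂) (g : X₂ →ₗ[B] X₃) (hf : Function.Injective f) (hg : Function.Surjective g)
  (hfg : Function.Exact f g) (p : Ideal B) [p.IsPrime]

include hf hg hfg

theorem le_depth_localizedModule_X₃ (n : ℕ)
    (h2 : (n : ℕ∞) ≤ LocCoh.depth (Localization.AtPrime p) (LocalizedModule p.primeCompl X₂))
    (h1 : ((n + 1 : ℕ) : ℕ∞) ≤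
      LocCoh.depth (Localization.AtPrime p) (LocalizedModule p.primeCompl X₁)) :
    (n : ℕ∞) ≤ LocCoh.depth (Localization.AtPrime p) (LocalizedModule p.primeCompl X₃) :=
  le_depth_X₃ (R := Localization.AtPrime p) (LocalizedModule.map p.primeCompl f)
    (LocalizedModule.map p.primeCompl g) (LocalizedModule.map_injective _ f hf)
    (LocalizedModule.map_surjective _ g hg) (LocalizedModule.map_exact p.primeCompl f g hfg) n h2 h1

theorem le_depth_localizedModule_X₂ (n : ℕ)
    (h1 : (n : ℕ∞) ≤ LocCoh.depth (Localization.AtPrime p) (LocalizedModule p.primeCompl X₁))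
    (h3 : (n : ℕ∞) ≤ LocCoh.depth (Localization.AtPrime p) (LocalizedModule p.primeCompl X₃)) :
    (n : ℕ∞) ≤ LocCoh.depth (Localization.AtPrime p) (LocalizedModule p.primeCompl X₂) :=
  le_depth_X₂ (R := Localization.AtPrime p) (LocalizedModule.map p.primeCompl f)
    (LocalizedModule.map p.primeCompl g) (LocalizedModule.map_injective _ f hf)
    (LocalizedModule.map_surjective _ g hg) (LocalizedModule.map_exact p.primeCompl f g hfg) n h1 h3

end locDepth

end Groth.Agent.Lib.Helper18.FamCyc
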