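import Mathlib
import Groth.Agent.Lib.Helper18.FamCyc1
import Groth.Agent.Lib.Helper18.CM3

set_option autoImplicit false
universe u

open IsLocalRing

namespace Groth.Agent.Lib.Helper18.FamCyc

open Groth.Agent.Lib.Helper18.CM

section congr

variable {B : Type u} [CommRing B] [IsNoetherianRing B]
  {X Y : Type u} [AddCommGroup X] [Module B X] [AddCommGroup Y] [Module B Y]

theorem depth_localizedModule_congr (e : X ≃ₗ[B] Y) (p : Ideal B) [p.IsPrime] :
    LocCoh.depth (Localization.AtPrime p) (LocalizedModule p.primeCompl X) =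
      LocCoh.depth (Localization.AtPrime p) (LocalizedModule p.primeCompl Y) :=
  depth_congr (IsLocalizedModule.mapEquiv p.primeCompl (LocalizedModule.mkLinearMap p.primeCompl X)
    (LocalizedModule.mkLinearMap p.primeCompl Y) (Localization.AtPrime p) e)

end congr

variable (A : Type u) [CommRing A] [IsLocalRing A] (B : Type u) [CommRing B] [Algebra A B]

/-- the depth-2 condition in codimension `≥ 2` -/
def D2 (X : Type u) [AddCommGroup X] [Module B X] : Prop :=
  ∀ (p : Ideal B) [p.IsPrime], 2 ≤ p.height →
    (2 : ℕ∞) ≤ LocCoh.depth (Localization.AtPrime p) (LocalizedModule p.primeCompl X)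

/-- the abstract hypotheses -/
structure Hyp : Prop where
  h1 : ∀ p ∈ associatedPrimes B B, p.height ≤ 1
  h2 : ∀ p ∈ associatedPrimes B (B ⧸ nilradical B), p.height ≤ 1
  h3 : D2 B (B ⧸ nilradical B)
  h4 : ∀ (p : Ideal B) [p.IsPrime], p.height ≤ 1 → ∀ (I : Ideal A) (a : A) (b : B),
    algebraMap A B a * b ∈ I.map (algebraMap A B) →
      ∃ s : B, s ∉ p ∧ s * b ∈ (I.colon {a}).map (algebraMap A B)
  h5 : ∀ (p : Ideal B) [p.IsPrime], p.height ≤ 1 → ∀ n ∈ nilradical B,
    ∃ s : B, s ∉ p ∧ s * n ∈ (maximalIdeal A).map (algebraMap A B)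

variable {A B}

theorem map_maximalIdeal_le_nilradical [IsArtinianRing A] :
    (maximalIdeal A).map (algebraMap A B) ≤ nilradical B := by
  rw [Ideal.map_le_iff_le_comap]
  intro x hx
  have h1 : IsNilpotent (Ideal.jacobson (⊥ : Ideal A)) := IsArtinianRing.isNilpotent_jacobson_bot
  rw [IsLocalRing.jacobson_eq_maximalIdeal ⊥ bot_ne_top] at h1
  obtain ⟨n, hn⟩ := h1
  have h2 : x ^ n ∈ maximalIdeal A ^ n := Ideal.pow_mem_pow hx n
  rw [hn] at h2
  have h3 : x ^ n = 0 := by simpa using h2
  rw [Ideal.mem_comap, mem_nilradical]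
  exact ⟨n, by rw [← map_pow, h3, map_zero]⟩

variable [IsNoetherianRing B]

/-- (G) -/
theorem height_le_one_of_mem_associatedPrimes_quotient (H : Hyp A B) (J : Ideal B)
    (hJ : D2 B J) : ∀ p ∈ associatedPrimes B (B ⧸ J), p.height ≤ 1 := by
  intro p hp
  have hpp : p.IsPrime := hp.isPrime
  by_contra hcon
  have h2 : (2 : ℕ∞) ≤ p.height := by
    have h3 : (1 : ℕ∞) < p.height := not_le.1 hcon
    have h4 := Order.add_one_le_of_lt h3
    have h5 : (1 : ℕ∞) + 1 = 2 := by norm_num
    rwa [h5] at h4
  have h0 := (depth_localizedModule_eq_zero_iff (B ⧸ J) p).2 hp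
  have hB : p ∉ associatedPrimes B B := fun h => hcon (H.h1 p h)
  have h1 := one_le_depth_localizedModule_of_notMem B p hB
  have h3 := le_depth_localizedModule_X₃ (Submodule.subtype J) (Submodule.mkQ J)
    (Submodule.injective_subtype J) (Submodule.mkQ_surjective J)
    (LinearMap.exact_subtype_mkQ J) p 1 (by exact_mod_cast h1) (by exact_mod_cast hJ p h2)
  rw [h0] at h3
  simp at h3

/-- (ii) -/
theorem mem_nilradical_of_mul_mem [IsArtinianRing A] (H : Hyp A B) (I' : Ideal A) (a : A)
    (ha : a ∉ I') (b : B) (hb : algebraMap A B a * b ∈ I'.map (algebraMap A B)) :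
    b ∈ nilradical B := by
  have h0 : Ideal.Quotient.mk (nilradical B) b = 0 := by
    apply eq_zero_of_forall_height_le_one (B ⧸ nilradical B) H.h2
    intro p _ hp
    obtain ⟨s, hs, hsb⟩ := H.h4 p hp I' a b hb
    refine ⟨s, hs, ?_⟩
    have hcol : I'.colon {a} ≤ maximalIdeal A := by
      apply IsLocalRing.le_maximalIdeal
      intro htop
      have h1 : (1 : A) ∈ I'.colon {a} := by rw [htop]; trivial
      rw [Submodule.mem_colon_singleton] at h1
      exact ha (by simpa using h1)
    have h2 : s * b ∈ nilradical B :=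
      map_maximalIdeal_le_nilradical (Ideal.map_mono hcol hsb)
    change s • Ideal.Quotient.mk (nilradical B) b = 0
    rw [Algebra.smul_def]
    change Ideal.Quotient.mk (nilradical B) s * Ideal.Quotient.mk (nilradical B) b = 0
    rw [← map_mul]
    exact Ideal.Quotient.eq_zero_iff_mem.2 h2
  exact Ideal.Quotient.eq_zero_iff_mem.1 h0

omit [IsNoetherianRing B] in
theorem mul_mem_map_of_mem_map_maximalIdeal (I' : Ideal A) (a : A)
    (ham : ∀ x ∈ maximalIdeal A, x * a ∈ I') (y : B)
    (hy : y ∈ (maximalIdeal A).map (algebraMap A B)) :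
    algebraMap A B a * y ∈ I'.map (algebraMap A B) := by
  have h1 : Ideal.span {a} * maximalIdeal A ≤ I' := by
    rw [Ideal.mul_le]
    intro r hr x hx
    obtain ⟨c, rfl⟩ := Ideal.mem_span_singleton'.1 hr
    have := I'.mul_mem_left c (ham x hx)
    have e : c * a * x = c * (x * a) := by ring
    rw [e]
    exact this
  have h2 := Ideal.map_mono (f := algebraMap A B) h1
  rw [Ideal.map_mul] at h2
  apply h2
  exact Ideal.mul_mem_mul (Ideal.mem_map_of_mem _ (Ideal.subset_span rfl)) hy

/-- (i') -/
theorem mul_mem_of_mem_nilradical (H : Hyp A B) (I' : Ideal A) (a : A)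
    (ham : ∀ x ∈ maximalIdeal A, x * a ∈ I') (hD : D2 B (I'.map (algebraMap A B)))
    (n : B) (hn : n ∈ nilradical B) : algebraMap A B a * n ∈ I'.map (algebraMap A B) := by
  have h0 : Ideal.Quotient.mk (I'.map (algebraMap A B)) (algebraMap A B a * n) = 0 := by
    apply eq_zero_of_forall_height_le_one (B ⧸ I'.map (algebraMap A B))
      (height_le_one_of_mem_associatedPrimes_quotient H _ hD)
    intro p _ hp
    obtain ⟨s, hs, hsn⟩ := H.h5 p hp n hn
    refine ⟨s, hs, ?_⟩
    change s • Ideal.Quotient.mk _ (algebraMap A B a * n) = 0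
    rw [Algebra.smul_def]
    change Ideal.Quotient.mk _ s * Ideal.Quotient.mk _ (algebraMap A B a * n) = 0
    rw [← map_mul]
    apply Ideal.Quotient.eq_zero_iff_mem.2
    have e : s * (algebraMap A B a * n) = algebraMap A B a * (s * n) := by ring
    rw [e]
    exact mul_mem_map_of_mem_map_maximalIdeal I' a ham _ hsn
  exact Ideal.Quotient.eq_zero_iff_mem.1 h0

/-- the induction step for `D2` -/
theorem d2_step [IsArtinianRing A] (H : Hyp A B) (I' I : Ideal A) (a : A) (haI : a ∈ I)
    (ha : a ∉ I') (hI : I = I' ⊔ Ideal.span {a}) (ham : ∀ x ∈ maximalIdeal A, x * a ∈ I')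
    (hD : D2 B (I'.map (algebraMap A B))) : D2 B (I.map (algebraMap A B)) := by
  set J' : Ideal B := I'.map (algebraMap A B) with hJ'
  set J : Ideal B := I.map (algebraMap A B) with hJ
  have hle : J' ≤ J := Ideal.map_mono (by rw [hI]; exact le_sup_left)
  have hJeq : J = J' ⊔ Ideal.span {algebraMap A B a} := by
    rw [hJ, hI, Ideal.map_sup, Ideal.map_span, Set.image_singleton]
  let ι : J' →ₗ[B] J := Submodule.inclusion hle
  have hι : Function.Injective ι := Submodule.inclusion_injective hle
  let Q : Submodule B J := LinearMap.range ι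
  let g : J →ₗ[B] (J ⧸ Q) := Q.mkQ
  have hg : Function.Surjective g := Q.mkQ_surjective
  have hex : Function.Exact ι g := LinearMap.exact_map_mkQ_range ι
  have hQ : ∀ x : J, x ∈ Q ↔ (x : B) ∈ J' := by
    intro x
    change x ∈ LinearMap.range (Submodule.inclusion hle) ↔ _
    rw [Submodule.range_inclusion]
    simp
  let α : J := ⟨algebraMap A B a, Ideal.mem_map_of_mem _ haI⟩
  let ψ : B →ₗ[B] (J ⧸ Q) := LinearMap.toSpanSingleton B (J ⧸ Q) (g α)
  have hψ : ∀ b : B, ψ b = g (b • α) := by
    intro b
    change b • g α = g (b • α)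
    rw [map_smul]
  have hsurj : Function.Surjective ψ := by
    intro y
    obtain ⟨x, rfl⟩ := hg y
    have hx : (x : B) ∈ J' ⊔ Ideal.span {algebraMap A B a} := by rw [← hJeq]; exact x.2
    obtain ⟨y', hy', z, hz, hyz⟩ := Submodule.mem_sup.1 hx
    obtain ⟨c, rfl⟩ := Ideal.mem_span_singleton'.1 hz
    refine ⟨c, ?_⟩
    rw [hψ]
    have hsub : x - c • α ∈ Q := by
      rw [hQ]
      have : ((x - c • α : J) : B) = y' := by
        change (x : B) - c * algebraMap A B a = y'
        rw [← hyz]; ring
      rw [this]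
      exact hy'
    have : g (x - c • α) = 0 := (Submodule.Quotient.mk_eq_zero Q).2 hsub
    rw [map_sub, sub_eq_zero] at this
    exact this.symm
  have hker : LinearMap.ker ψ = nilradical B := by
    ext b
    rw [LinearMap.mem_ker, hψ]
    change Submodule.Quotient.mk (b • α) = 0 ↔ _
    rw [Submodule.Quotient.mk_eq_zero, hQ]
    have e : ((b • α : J) : B) = algebraMap A B a * b := by
      change b * algebraMap A B a = _
      ring
    rw [e]
    constructor
    · intro h
      exact mem_nilradical_of_mul_mem H I' a ha b h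
    · intro h
      exact mul_mem_of_mem_nilradical H I' a ham hD b h
  let e : (B ⧸ nilradical B) ≃ₗ[B] (J ⧸ Q) :=
    (Submodule.quotEquivOfEq _ _ hker.symm).trans (ψ.quotKerEquivOfSurjective hsurj)
  intro p _ hp2
  refine le_depth_localizedModule_X₂ ι g hι hg hex p 2 (hD p hp2) ?_
  rw [← depth_localizedModule_congr e p]
  exact H.h3 p hp2

omit [Algebra A B] [IsNoetherianRing B] in
/-- decomposition of a nonzero ideal of an Artinian local ring -/
theorem exists_covBy_decomp [IsArtinianRing A] (I : Ideal A) (hI : I ≠ ⊥) :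
    ∃ (I' : Ideal A) (a : A), I' < I ∧ a ∈ I ∧ a ∉ I' ∧ I = I' ⊔ Ideal.span {a} ∧
      ∀ x ∈ maximalIdeal A, x * a ∈ I' := by
  have hmin : ¬ IsMin I := by rwa [isMin_iff_eq_bot]
  obtain ⟨I', hI'⟩ := exists_covBy_of_wellFoundedGT hmin
  obtain ⟨a, haI, ha⟩ := SetLike.exists_of_lt hI'.lt
  have hsup : I = I' ⊔ Ideal.span {a} := by
    have h1 : I' < I' ⊔ Ideal.span {a} := by
      refine lt_of_le_of_ne le_sup_left ?_
      intro h
      apply ha
      rw [h]
      exact Ideal.mem_sup_right (Ideal.subset_span rfl)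
    have h2 : I' ⊔ Ideal.span {a} ≤ I :=
      sup_le hI'.le ((Ideal.span_singleton_le_iff_mem _).2 haI)
    rcases hI'.eq_or_eq h1.le h2 with h | h
    · exact absurd h h1.ne'
    · exact h.symm
  refine ⟨I', a, hI'.lt, haI, ha, hsup, ?_⟩
  intro x hx
  by_contra hxa
  have h1 : I' < I' ⊔ Ideal.span {x * a} := by
    refine lt_of_le_of_ne le_sup_left ?_
    intro h
    apply hxa
    rw [h]
    exact Ideal.mem_sup_right (Ideal.subset_span rfl)
  have h2 : I' ⊔ Ideal.span {x * a} ≤ I :=
    sup_le hI'.le ((Ideal.span_singleton_le_iff_mem _).2 (I.mul_mem_left x haI))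
  rcases hI'.eq_or_eq h1.le h2 with h | h
  · exact absurd h h1.ne'
  · have h3 : a ∈ I' ⊔ Ideal.span {x * a} := by rw [h]; exact haI
    obtain ⟨y, hy, z, hz, hyz⟩ := Submodule.mem_sup.1 h3
    obtain ⟨c, rfl⟩ := Ideal.mem_span_singleton'.1 hz
    have h4 : (1 - c * x) * a = y := by linear_combination -hyz
    have hu : IsUnit (1 - c * x) := by
      have h5 : c * x ∈ maximalIdeal A := Ideal.mul_mem_left _ c hx
      by_contra hnu
      have h6 : 1 - c * x ∈ maximalIdeal A := (IsLocalRing.mem_maximalIdeal _).2 hnu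
      have h7 : (1 : A) ∈ maximalIdeal A := by
        have := Ideal.add_mem _ h6 h5
        simp at this
      exact (Ideal.ne_top_iff_one _).1 (maximalIdeal.isMaximal A).ne_top h7
    apply ha
    obtain ⟨u, hu'⟩ := hu
    have h8 : a = (↑u⁻¹ : A) * y := by
      rw [← h4, ← hu', ← mul_assoc, Units.inv_mul, one_mul]
    rw [h8]
    exact I'.mul_mem_left _ hy

/-- (C1) -/
theorem d2_map [IsArtinianRing A] (H : Hyp A B) (I : Ideal A) : D2 B (I.map (algebraMap A B)) := by
  induction I using WellFoundedLT.induction with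
  | ind I ih =>
    by_cases hI : I = ⊥
    · intro p _ _
      have hsub : Subsingleton ((I.map (algebraMap A B) : Ideal B)) := by
        rw [hI, Ideal.map_bot]
        infer_instance
      rw [depth_eq_top_of_subsingleton]
      exact le_top
    · obtain ⟨I', a, hlt, haI, ha, hsup, ham⟩ := exists_covBy_decomp I hI
      exact d2_step H I' I a haI ha hsup ham (ih I' hlt)

/-- (C2) -/
theorem nilradical_eq_map_maximalIdeal [IsArtinianRing A] (H : Hyp A B) :
    nilradical B = (maximalIdeal A).map (algebraMap A B) := by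
  apply le_antisymm _ map_maximalIdeal_le_nilradical
  intro n hn
  have h0 : Ideal.Quotient.mk ((maximalIdeal A).map (algebraMap A B)) n = 0 := by
    apply eq_zero_of_forall_height_le_one (B ⧸ (maximalIdeal A).map (algebraMap A B))
      (height_le_one_of_mem_associatedPrimes_quotient H _ (d2_map H _))
    intro p _ hp
    obtain ⟨s, hs, hsn⟩ := H.h5 p hp n hn
    refine ⟨s, hs, ?_⟩
    change s • Ideal.Quotient.mk _ n = 0
    rw [Algebra.smul_def]
    change Ideal.Quotient.mk _ s * Ideal.Quotient.mk _ n = 0
    rw [← map_mul]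
    exact Ideal.Quotient.eq_zero_iff_mem.2 hsn
  exact Ideal.Quotient.eq_zero_iff_mem.1 h0

open TensorProduct in
/-- (C3) -/
theorem rTensor_injective [IsArtinianRing A] (H : Hyp A B) (I : Ideal A) :
    Function.Injective (LinearMap.rTensor B I.subtype) := by
  induction I using WellFoundedLT.induction with
  | ind I ih =>
    by_cases hI : I = ⊥
    · have hz : ∀ z : I ⊗[A] B, z = 0 := by
        intro z
        induction z using TensorProduct.induction_on with
        | zero => rfl
        | tmul x y =>
          have hx : x = 0 := by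
            apply Subtype.ext
            have h0 : (x : A) ∈ (⊥ : Ideal A) := hI ▸ x.2
            simpa using h0
          rw [hx, TensorProduct.zero_tmul]
        | add x y hx hy => rw [hx, hy, add_zero]
      intro z w _
      rw [hz z, hz w]
    · obtain ⟨I', a, hlt, haI, ha, hsup, ham⟩ := exists_covBy_decomp I hI
      have hle : I' ≤ I := hlt.le
      let ι : I' ⊗[A] B →ₗ[A] I ⊗[A] B := LinearMap.rTensor B (Submodule.inclusion hle)
      let α : I := ⟨a, haI⟩
      have hι : ∀ w : I' ⊗[A] B, LinearMap.rTensor B I.subtype (ι w) =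
          LinearMap.rTensor B I'.subtype w := by
        intro w
        change LinearMap.rTensor B I.subtype (LinearMap.rTensor B (Submodule.inclusion hle) w) = _
        rw [← LinearMap.rTensor_comp_apply]
        rfl
      have claim1 : ∀ z : I ⊗[A] B, ∃ (z' : I' ⊗[A] B) (b : B), z = ι z' + α ⊗ₜ[A] b := by
        intro z
        induction z using TensorProduct.induction_on with
        | zero => exact ⟨0, 0, by simp⟩
        | tmul i b =>
          have hi : (i : A) ∈ I' ⊔ Ideal.span {a} := by rw [← hsup]; exact i.2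
          obtain ⟨y, hy, z, hz, hyz⟩ := Submodule.mem_sup.1 hi
          obtain ⟨c, rfl⟩ := Ideal.mem_span_singleton'.1 hz
          refine ⟨(⟨y, hy⟩ : I') ⊗ₜ[A] b, c • b, ?_⟩
          have e : i = Submodule.inclusion hle ⟨y, hy⟩ + c • α := by
            apply Subtype.ext
            change (i : A) = y + c * a
            exact hyz.symm
          rw [e, TensorProduct.add_tmul, TensorProduct.smul_tmul]
          rfl
        | add x y hx hy =>
          obtain ⟨x', b, rfl⟩ := hx
          obtain ⟨y', c, rfl⟩ := hy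
          refine ⟨x' + y', b + c, ?_⟩
          rw [map_add, TensorProduct.tmul_add]
          abel
      have claim3 : ∀ w : I' ⊗[A] B,
          TensorProduct.lid A B (LinearMap.rTensor B I'.subtype w) ∈ I'.map (algebraMap A B) := by
        intro w
        induction w using TensorProduct.induction_on with
        | zero => simp
        | tmul i b =>
          rw [LinearMap.rTensor_tmul, TensorProduct.lid_tmul, Algebra.smul_def]
          exact Ideal.mul_mem_right _ _ (Ideal.mem_map_of_mem _ i.2)
        | add x y hx hy =>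
          rw [map_add, map_add]
          exact Ideal.add_mem _ hx hy
      have claim4 : ∀ b ∈ (maximalIdeal A).map (algebraMap A B), ∀ c : B,
          ∃ w : I' ⊗[A] B, α ⊗ₜ[A] (c * b) = ι w := by
        intro b hb
        refine Submodule.span_induction (p := fun b _ => ∀ c : B,
          ∃ w : I' ⊗[A] B, α ⊗ₜ[A] (c * b) = ι w) ?_ ?_ ?_ ?_ hb
        · rintro _ ⟨x, hx, rfl⟩ c
          refine ⟨(⟨x * a, ham x hx⟩ : I') ⊗ₜ[A] c, ?_⟩
          have e1 : c * algebraMap A B x = x • c := by rw [Algebra.smul_def, mul_comm]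
          rw [e1, ← TensorProduct.smul_tmul]
          rfl
        · intro c
          exact ⟨0, by simp⟩
        · intro u v _ _ hu hv c
          obtain ⟨w₁, h₁⟩ := hu c
          obtain ⟨w₂, h₂⟩ := hv c
          exact ⟨w₁ + w₂, by rw [mul_add, TensorProduct.tmul_add, h₁, h₂, map_add]⟩
        · intro r u _ hu c
          obtain ⟨w, hw⟩ := hu (c * r)
          exact ⟨w, by rw [smul_eq_mul, ← mul_assoc, hw]⟩
      rw [injective_iff_map_eq_zero]
      intro z hz
      obtain ⟨z', b, rfl⟩ := claim1 z
      rw [map_add, hι] at hz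
      have h1 : TensorProduct.lid A B (LinearMap.rTensor B I'.subtype z') +
          algebraMap A B a * b = 0 := by
        have := congrArg (TensorProduct.lid A B) hz
        rw [map_add, map_zero, LinearMap.rTensor_tmul, TensorProduct.lid_tmul,
          Algebra.smul_def] at this
        exact this
      have h2 : algebraMap A B a * b ∈ I'.map (algebraMap A B) := by
        have h3 : algebraMap A B a * b =
            -(TensorProduct.lid A B (LinearMap.rTensor B I'.subtype z')) := by
          linear_combination h1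
        rw [h3]
        exact Ideal.neg_mem_iff _ |>.2 (claim3 z')
      have h3 : b ∈ (maximalIdeal A).map (algebraMap A B) := by
        rw [← nilradical_eq_map_maximalIdeal H]
        exact mem_nilradical_of_mul_mem H I' a ha b h2
      obtain ⟨w, hw⟩ := claim4 b h3 1
      rw [one_mul] at hw
      rw [hw, ← map_add]
      rw [hw, hι, ← map_add] at hz
      have h4 : z' + w = 0 := by
        apply ih I' hlt
        rw [hz, map_zero]
      rw [h4, map_zero]

/-- flatness -/
theorem flat_of_hyp [IsArtinianRing A] (H : Hyp A B) : Module.Flat A B :=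
  Module.Flat.iff_rTensor_injective'.2 (rTensor_injective H)

/-- reduced fibre -/
theorem isReduced_of_hyp [IsArtinianRing A] (H : Hyp A B) :
    IsReduced (B ⧸ (maximalIdeal A).map (algebraMap A B)) := by
  rw [← Ideal.isRadical_iff_quotient_reduced, ← nilradical_eq_map_maximalIdeal H]
  exact Ideal.radical_isRadical ⊥

end Groth.Agent.Lib.Helper18.FamCyc
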