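import Mathlib
import Groth.Agent.Lib.Helper18.FamCyc2
import Groth.Prelude.Def_FlatCA
import Groth.Prelude.Def_EGA4b

set_option autoImplicit false
universe u v

open IsLocalRing TensorProduct

namespace Groth.Agent.Lib.Helper18.QGor

open Groth.Agent.Lib.Helper18.FamCyc

section core

variable {A : Type u} [CommRing A] [IsLocalRing A] [IsArtinianRing A]
  {M : Type v} [AddCommGroup M] [Module A M]

/-- flatness over an Artinian local ring from the colon condition `(K)` -/
theorem rTensor_injective_of_colon
    (K : ∀ (I' : Ideal A) (a : A), a ∉ I' → ∀ x : M, a • x ∈ I' • (⊤ : Submodule A M) →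
      x ∈ maximalIdeal A • (⊤ : Submodule A M)) (I : Ideal A) :
    Function.Injective (LinearMap.rTensor M I.subtype) := by
  induction I using WellFoundedLT.induction with
  | ind I ih =>
    by_cases hI : I = ⊥
    · have hz : ∀ z : I ⊗[A] M, z = 0 := by
        intro z
        induction z using TensorProduct.induction_on with
        | zero => rfl
        | tmul x y =>
          have hx : x = 0 := by
            apply Subtype.ext
            have h0 : (x : A) ∈ (⊥ : Ideal A) := hI ▸ x.2
            simpa using h0
          rw [hx, TensorProduct.zero_tmul]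
        | add x y hx hy => rw [hx, hy, add_zero]
      intro z w _
      rw [hz z, hz w]
    · obtain ⟨I', a, hlt, haI, ha, hsup, ham⟩ := exists_covBy_decomp I hI
      have hle : I' ≤ I := hlt.le
      let ι : I' ⊗[A] M →ₗ[A] I ⊗[A] M := LinearMap.rTensor M (Submodule.inclusion hle)
      let α : I := ⟨a, haI⟩
      have hι : ∀ w : I' ⊗[A] M, LinearMap.rTensor M I.subtype (ι w) =
          LinearMap.rTensor M I'.subtype w := by
        intro w
        change LinearMap.rTensor M I.subtype (LinearMap.rTensor M (Submodule.inclusion hle) w) = _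
        rw [← LinearMap.rTensor_comp_apply]
        rfl
      have claim1 : ∀ z : I ⊗[A] M, ∃ (z' : I' ⊗[A] M) (b : M), z = ι z' + α ⊗ₜ[A] b := by
        intro z
        induction z using TensorProduct.induction_on with
        | zero => exact ⟨0, 0, by simp⟩
        | tmul i b =>
          have hi : (i : A) ∈ I' ⊔ Ideal.span {a} := by rw [← hsup]; exact i.2
          obtain ⟨y, hy, z, hz, hyz⟩ := Submodule.mem_sup.1 hi
          obtain ⟨c, rfl⟩ := Ideal.mem_span_singleton'.1 hz
          refine ⟨(⟨y, hy⟩ : I') ⊗ₜ[A] b, c • b, ?_⟩
          have e : i = Submodule.inclusion hle ⟨y, hy⟩ + c • α := by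
            apply Subtype.ext
            change (i : A) = y + c * a
            exact hyz.symm
          rw [e, TensorProduct.add_tmul, TensorProduct.smul_tmul]
          rfl
        | add x y hx hy =>
          obtain ⟨x', b, rfl⟩ := hx
          obtain ⟨y', c, rfl⟩ := hy
          refine ⟨x' + y', b + c, ?_⟩
          rw [map_add, TensorProduct.tmul_add]
          abel
      have claim3 : ∀ w : I' ⊗[A] M,
          TensorProduct.lid A M (LinearMap.rTensor M I'.subtype w) ∈
            I' • (⊤ : Submodule A M) := by
        intro w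
        induction w using TensorProduct.induction_on with
        | zero => simp
        | tmul i b =>
          rw [LinearMap.rTensor_tmul, TensorProduct.lid_tmul]
          exact Submodule.smul_mem_smul i.2 Submodule.mem_top
        | add x y hx hy =>
          rw [map_add, map_add]
          exact Submodule.add_mem _ hx hy
      have claim4 : ∀ b ∈ maximalIdeal A • (⊤ : Submodule A M),
          ∃ w : I' ⊗[A] M, α ⊗ₜ[A] b = ι w := by
        intro b hb
        induction hb using Submodule.smul_induction_on' with
        | smul r hr y _ =>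
          refine ⟨(⟨r * a, ham r hr⟩ : I') ⊗ₜ[A] y, ?_⟩
          rw [← TensorProduct.smul_tmul]
          rfl
        | add u _ v _ hu hv =>
          obtain ⟨w₁, h₁⟩ := hu
          obtain ⟨w₂, h₂⟩ := hv
          exact ⟨w₁ + w₂, by rw [TensorProduct.tmul_add, h₁, h₂, map_add]⟩
      rw [injective_iff_map_eq_zero]
      intro z hz
      obtain ⟨z', b, rfl⟩ := claim1 z
      rw [map_add, hι] at hz
      have h1 : TensorProduct.lid A M (LinearMap.rTensor M I'.subtype z') + a • b = 0 := by
        have := congrArg (TensorProduct.lid A M) hz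
        rw [map_add, map_zero, LinearMap.rTensor_tmul, TensorProduct.lid_tmul] at this
        exact this
      have h2 : a • b ∈ I' • (⊤ : Submodule A M) := by
        have h3 : a • b = -(TensorProduct.lid A M (LinearMap.rTensor M I'.subtype z')) := by
          rw [eq_neg_iff_add_eq_zero, add_comm]
          exact h1
        rw [h3]
        exact Submodule.neg_mem _ (claim3 z')
      have h3 : b ∈ maximalIdeal A • (⊤ : Submodule A M) := K I' a ha b h2
      obtain ⟨w, hw⟩ := claim4 b h3
      rw [hw, ← map_add]
      rw [hw, hι, ← map_add] at hz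
      have h4 : z' + w = 0 := by
        apply ih I' hlt
        rw [hz, map_zero]
      rw [h4, map_zero]

theorem flat_of_colon
    (K : ∀ (I' : Ideal A) (a : A), a ∉ I' → ∀ x : M, a • x ∈ I' • (⊤ : Submodule A M) →
      x ∈ maximalIdeal A • (⊤ : Submodule A M)) : Module.Flat A M :=
  Module.Flat.iff_rTensor_injective'.2 (rTensor_injective_of_colon K)

end core

section flatColon

variable {A : Type u} [CommRing A] {M : Type v} [AddCommGroup M] [Module A M]

/-- (FC) flatness commutes with colons by an element, module version -/
theorem mem_colon_smul_top_of_flat [Module.Flat A M] (I : Ideal A) (a : A) (x : M)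
    (hx : a • x ∈ I • (⊤ : Submodule A M)) : x ∈ (I.colon {a}) • (⊤ : Submodule A M) := by
  have htop : (⊤ : Submodule A M) = Submodule.span A (Set.range (id : M → M)) := by
    rw [Set.range_id, Submodule.span_univ]
  rw [htop, Submodule.mem_ideal_smul_span_iff_exists_sum] at hx
  obtain ⟨c, hc, hsum⟩ := hx
  let f : Option c.support → A := fun o => Option.elim o a (fun y => - c y.1)
  let X : Option c.support → M := fun o => Option.elim o x (fun y => y.1)
  have hrel : ∑ o, f o • X o = 0 := by
    rw [Fintype.sum_option]
    change a • x + ∑ y : c.support, (- c y.1) • (y.1 : M) = 0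
    have h1 : ∑ y : c.support, (- c y.1) • (y.1 : M) = - ∑ y ∈ c.support, c y • y := by
      rw [← Finset.sum_neg_distrib, ← Finset.sum_coe_sort c.support]
      apply Finset.sum_congr rfl
      intro y _
      rw [neg_smul]
    rw [h1]
    have h2 : ∑ y ∈ c.support, c y • y = a • x := hsum
    rw [h2, add_neg_cancel]
  obtain ⟨k, α, y, hy1, hy2⟩ := Module.Flat.isTrivialRelation_of_sum_smul_eq_zero hrel
  have hx' : x = ∑ l, α none l • y l := hy1 none
  rw [hx']
  apply Submodule.sum_mem
  intro l _
  apply Submodule.smul_mem_smul _ Submodule.mem_top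
  rw [Submodule.mem_colon_singleton]
  have h2 := hy2 l
  rw [Fintype.sum_option] at h2
  change a * α none l + ∑ j : c.support, (- c j.1) * α (some j) l = 0 at h2
  have h3 : α none l • a = ∑ j : c.support, c j.1 * α (some j) l := by
    rw [smul_eq_mul, mul_comm]
    have : ∑ j : c.support, (- c j.1) * α (some j) l =
        - ∑ j : c.support, c j.1 * α (some j) l := by
      rw [← Finset.sum_neg_distrib]
      apply Finset.sum_congr rfl
      intro j _
      ring
    rw [this] at h2
    linear_combination h2
  rw [h3]
  apply Ideal.sum_mem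
  intro j _
  exact Ideal.mul_mem_right _ _ (hc j.1)

end flatColon

section descent

variable {A : Type u} [CommRing A] {B : Type u} [CommRing B] [Algebra A B]
  {M : Type u} [AddCommGroup M] [Module B M] [Module A M] [IsScalarTower A B M]

/-- `B` acts on `I M` -/
theorem smul_mem_ideal_smul_top (I : Ideal A) (b : B) (z : M)
    (hz : z ∈ I • (⊤ : Submodule A M)) : b • z ∈ I • (⊤ : Submodule A M) := by
  induction hz using Submodule.smul_induction_on' with
  | smul r hr y _ =>
    rw [smul_comm]
    exact Submodule.smul_mem_smul hr Submodule.mem_top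
  | add u _ v _ hu hv =>
    rw [smul_add]
    exact Submodule.add_mem _ hu hv

/-- (L_eq) -/
theorem mem_map_smul_top_iff (I : Ideal A) (x : M) :
    x ∈ (I.map (algebraMap A B)) • (⊤ : Submodule B M) ↔ x ∈ I • (⊤ : Submodule A M) := by
  constructor
  · intro hx
    induction hx using Submodule.smul_induction_on' with
    | smul b hb y _ =>
      induction hb using Submodule.span_induction with
      | mem b hb =>
        obtain ⟨i, hi, rfl⟩ := hb
        rw [algebraMap_smul]
        exact Submodule.smul_mem_smul hi Submodule.mem_top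
      | zero => rw [zero_smul]; exact Submodule.zero_mem _
      | add u v _ _ hu hv => rw [add_smul]; exact Submodule.add_mem _ hu hv
      | smul c u _ hu =>
        rw [smul_eq_mul, mul_smul]
        exact smul_mem_ideal_smul_top I c _ hu
    | add u _ v _ hu hv => exact Submodule.add_mem _ hu hv
  · intro hx
    induction hx using Submodule.smul_induction_on' with
    | smul r hr y _ =>
      rw [← algebraMap_smul B r y]
      exact Submodule.smul_mem_smul (Ideal.mem_map_of_mem _ hr) Submodule.mem_top
    | add u _ v _ hu hv => exact Submodule.add_mem _ hu hv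

/-- descent of membership in `I M` from a localization -/
theorem exists_smul_mem_of_mk_mem (S : Submonoid B) (I : Ideal A) (x : M)
    (hx : LocalizedModule.mk x (1 : S) ∈ I • (⊤ : Submodule A (LocalizedModule S M))) :
    ∃ s ∈ S, s • x ∈ I • (⊤ : Submodule A M) := by
  have key : ∀ z ∈ I • (⊤ : Submodule A (LocalizedModule S M)),
      ∃ s : S, ∃ w ∈ I • (⊤ : Submodule A M), (s : B) • z = LocalizedModule.mk w (1 : S) := by
    intro z hz
    induction hz using Submodule.smul_induction_on' with
    | smul r hr y _ =>
      induction y using LocalizedModule.induction_on with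
      | h y t =>
        refine ⟨t, r • y, Submodule.smul_mem_smul hr Submodule.mem_top, ?_⟩
        rw [LocalizedModule.smul'_mk, LocalizedModule.smul'_mk]
        exact LocalizedModule.mk_cancel t (r • y)
    | add u _ v _ hu hv =>
      obtain ⟨s₁, w₁, hw₁, h₁⟩ := hu
      obtain ⟨s₂, w₂, hw₂, h₂⟩ := hv
      refine ⟨s₁ * s₂, (s₂ : B) • w₁ + (s₁ : B) • w₂,
        Submodule.add_mem _ (smul_mem_ideal_smul_top I _ _ hw₁)
          (smul_mem_ideal_smul_top I _ _ hw₂), ?_⟩
      rw [smul_add, Submonoid.coe_mul]
      have e1 : ((s₁ : B) * (s₂ : B)) • u = (s₂ : B) • ((s₁ : B) • u) := by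
        rw [← mul_smul, mul_comm]
      have e2 : ((s₁ : B) * (s₂ : B)) • v = (s₁ : B) • ((s₂ : B) • v) := by
        rw [← mul_smul]
      rw [e1, e2, h₁, h₂, LocalizedModule.smul'_mk, LocalizedModule.smul'_mk,
        LocalizedModule.mk_add_mk]
      simp
  obtain ⟨s, w, hw, hsw⟩ := key _ hx
  rw [LocalizedModule.smul'_mk, LocalizedModule.mk_eq] at hsw
  obtain ⟨t, ht⟩ := hsw
  refine ⟨(t : B) * (s : B), S.mul_mem t.2 s.2, ?_⟩
  have h1 : ((t : B) * (s : B)) • x = (t : B) • w := by
    have := ht
    simp only [one_smul, Submonoid.smul_def] at this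
    rw [mul_smul]
    exact this
  rw [h1]
  exact smul_mem_ideal_smul_top I _ _ hw

end descent

section KA

variable {A : Type u} [CommRing A] [IsLocalRing A] {B : Type u} [CommRing B] [Algebra A B]
  (J : Ideal B) {M : Type u} [AddCommGroup M] [Module B M] [Module A M] [IsScalarTower A B M]

/-- (K_A) -/
theorem colon_of_flatAt
    (hU : ∀ q : PrimeSpectrum B, ¬ J ≤ q.asIdeal → FlatCA.FlatAt A q.asIdeal M)
    (hP : ∀ y : EGA4.FibMod A B M, (∀ j ∈ J, ∃ N : ℕ, j ^ N • y = 0) → y = 0)
    (I' : Ideal A) (a : A) (ha : a ∉ I') (x : M) (hx : a • x ∈ I' • (⊤ : Submodule A M)) :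
    x ∈ maximalIdeal A • (⊤ : Submodule A M) := by
  have hcol : I'.colon {a} ≤ maximalIdeal A := by
    apply IsLocalRing.le_maximalIdeal
    intro htop
    have h1 : (1 : A) ∈ I'.colon {a} := by rw [htop]; trivial
    rw [Submodule.mem_colon_singleton] at h1
    exact ha (by simpa using h1)
  -- step 1
  have step1 : ∀ q : PrimeSpectrum B, ¬ J ≤ q.asIdeal →
      ∃ s : B, s ∉ q.asIdeal ∧ s • x ∈ maximalIdeal A • (⊤ : Submodule A M) := by
    intro q hq
    have hflat : Module.Flat A (LocalizedModule q.asIdeal.primeCompl M) := hU q hq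
    have h1 : a • (LocalizedModule.mk x (1 : q.asIdeal.primeCompl)) ∈
        I' • (⊤ : Submodule A (LocalizedModule q.asIdeal.primeCompl M)) := by
      have h2 : ∀ z ∈ I' • (⊤ : Submodule A M),
          LocalizedModule.mk z (1 : q.asIdeal.primeCompl) ∈
            I' • (⊤ : Submodule A (LocalizedModule q.asIdeal.primeCompl M)) := by
        intro z hz
        induction hz using Submodule.smul_induction_on' with
        | smul r hr y _ =>
          rw [← LocalizedModule.smul'_mk]
          exact Submodule.smul_mem_smul hr Submodule.mem_top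
        | add u _ v _ hu hv =>
          have : LocalizedModule.mk (u + v) (1 : q.asIdeal.primeCompl) =
              LocalizedModule.mk u 1 + LocalizedModule.mk v 1 := by
            rw [LocalizedModule.mk_add_mk]; simp
          rw [this]
          exact Submodule.add_mem _ hu hv
      rw [LocalizedModule.smul'_mk]
      exact h2 _ hx
    have h3 := mem_colon_smul_top_of_flat I' a _ h1
    have h4 : LocalizedModule.mk x (1 : q.asIdeal.primeCompl) ∈
        maximalIdeal A • (⊤ : Submodule A (LocalizedModule q.asIdeal.primeCompl M)) :=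
      Submodule.smul_mono_left hcol h3
    obtain ⟨s, hs, hsx⟩ := exists_smul_mem_of_mk_mem q.asIdeal.primeCompl (maximalIdeal A) x h4
    exact ⟨s, hs, hsx⟩
  -- step 2
  set y : EGA4.FibMod A B M := Submodule.Quotient.mk x with hy
  have hy0 : y = 0 := by
    apply hP
    intro j hj
    let 𝔞 : Ideal B := Submodule.colon (⊥ : Submodule B (EGA4.FibMod A B M)) {y}
    have hrad : J ≤ 𝔞.radical := by
      rw [Ideal.radical_eq_sInf]
      apply le_sInf
      rintro P ⟨hP1, hP2⟩
      by_contra hJP
      obtain ⟨s, hs, hsx⟩ := step1 ⟨P, hP2⟩ hJP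
      apply hs
      apply hP1
      rw [Submodule.mem_colon_singleton, Submodule.mem_bot, hy, ← Submodule.Quotient.mk_smul,
        Submodule.Quotient.mk_eq_zero]
      exact (mem_map_smul_top_iff (maximalIdeal A) _).2 hsx
    obtain ⟨N, hN⟩ := hrad hj
    refine ⟨N, ?_⟩
    rw [Submodule.mem_colon_singleton, Submodule.mem_bot] at hN
    exact hN
  rw [hy, Submodule.Quotient.mk_eq_zero] at hy0
  exact (mem_map_smul_top_iff (maximalIdeal A) _).1 hy0

end KA

end Groth.Agent.Lib.Helper18.QGor
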