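import Mathlib
import Groth.Agent.Lib.Helper18.QGor1
import Groth.Agent.Lib.Helper9.FlatCrit2
import Groth.Agent.Lib.Helper21.RegularLocal
import Groth.Agent.Lib.Helper18.CM1

set_option autoImplicit false
universe u v

open IsLocalRing TensorProduct

namespace Groth.Agent.Lib.Helper18.QGor

open Groth.Agent.Lib.Helper18.FamCyc Groth.Agent.Lib.Helper18.CM Groth.Agent.Lib.Helper21

section quot

variable {A : Type u} [CommRing A] [IsLocalRing A] [IsNoetherianRing A]
  {M : Type u} [AddCommGroup M] [Module A M]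

theorem isArtinianRing_quotient_pow (n : ℕ) (hn : 0 < n) :
    ∃ (_ : IsLocalRing (A ⧸ maximalIdeal A ^ n)), IsArtinianRing (A ⧸ maximalIdeal A ^ n) ∧
      maximalIdeal (A ⧸ maximalIdeal A ^ n) =
        (maximalIdeal A).map (Ideal.Quotient.mk (maximalIdeal A ^ n)) := by
  have hle : maximalIdeal A ^ n ≤ maximalIdeal A := Ideal.pow_le_self hn.ne'
  have hloc : IsLocalRing (A ⧸ maximalIdeal A ^ n) := isLocalRing_quotient_of_le_maximalIdeal hle
  refine ⟨hloc, ?_, maximalIdeal_quotient_eq_map _⟩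
  rw [isArtinianRing_iff_isNilpotent_maximalIdeal]
  refine ⟨n, ?_⟩
  rw [maximalIdeal_quotient_eq_map, ← Ideal.map_pow, Ideal.zero_eq_bot, Ideal.map_quotient_self]

theorem flat_quotient_pow
    (K : ∀ (I' : Ideal A) (a : A), a ∉ I' → ∀ x : M, a • x ∈ I' • (⊤ : Submodule A M) →
      x ∈ maximalIdeal A • (⊤ : Submodule A M)) (n : ℕ) (hn : 0 < n) :
    Module.Flat (A ⧸ maximalIdeal A ^ n) (M ⧸ (maximalIdeal A ^ n • ⊤ : Submodule A M)) := by
  obtain ⟨hloc, hart, hmax⟩ := isArtinianRing_quotient_pow (A := A) n hn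
  set 𝔫 : Ideal A := maximalIdeal A ^ n with h𝔫
  apply flat_of_colon
  intro I' a' ha' x' hx'
  obtain ⟨a, rfl⟩ := Ideal.Quotient.mk_surjective a'
  obtain ⟨x, rfl⟩ := Submodule.Quotient.mk_surjective _ x'
  set I : Ideal A := I'.comap (Ideal.Quotient.mk 𝔫) with hI
  have h𝔫I : 𝔫 ≤ I := by
    intro r hr
    rw [hI, Ideal.mem_comap, Ideal.Quotient.eq_zero_iff_mem.2 hr]
    exact Ideal.zero_mem _
  have Q1 : ∀ z' ∈ I' • (⊤ : Submodule (A ⧸ 𝔫) (M ⧸ (𝔫 • ⊤ : Submodule A M))),
      ∃ w ∈ I • (⊤ : Submodule A M), Submodule.Quotient.mk w = z' := by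
    intro z' hz'
    induction hz' using Submodule.smul_induction_on' with
    | smul r' hr' y' _ =>
      obtain ⟨r, rfl⟩ := Ideal.Quotient.mk_surjective r'
      obtain ⟨y, rfl⟩ := Submodule.Quotient.mk_surjective _ y'
      exact ⟨r • y, Submodule.smul_mem_smul hr' Submodule.mem_top, rfl⟩
    | add u _ v _ hu hv =>
      obtain ⟨w₁, hw₁, rfl⟩ := hu
      obtain ⟨w₂, hw₂, rfl⟩ := hv
      exact ⟨w₁ + w₂, Submodule.add_mem _ hw₁ hw₂, rfl⟩
  obtain ⟨w, hw, hwx⟩ := Q1 _ hx'
  have h1 : a • x ∈ I • (⊤ : Submodule A M) := by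
    have h2 : (Submodule.Quotient.mk (a • x - w) : M ⧸ (𝔫 • ⊤ : Submodule A M)) = 0 := by
      rw [Submodule.Quotient.mk_sub, hwx, sub_eq_zero]
      rfl
    rw [Submodule.Quotient.mk_eq_zero] at h2
    have h3 : a • x - w ∈ I • (⊤ : Submodule A M) := Submodule.smul_mono_left h𝔫I h2
    have := Submodule.add_mem _ h3 hw
    simpa using this
  have h2 : a ∉ I := ha'
  have h3 := K I a h2 x h1
  rw [hmax]
  have Q2 : ∀ z ∈ maximalIdeal A • (⊤ : Submodule A M),
      (Submodule.Quotient.mk z : M ⧸ (𝔫 • ⊤ : Submodule A M)) ∈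
        (maximalIdeal A).map (Ideal.Quotient.mk 𝔫) •
          (⊤ : Submodule (A ⧸ 𝔫) (M ⧸ (𝔫 • ⊤ : Submodule A M))) := by
    intro z hz
    induction hz using Submodule.smul_induction_on' with
    | smul r hr y _ =>
      have : (Submodule.Quotient.mk (r • y) : M ⧸ (𝔫 • ⊤ : Submodule A M)) =
          Ideal.Quotient.mk 𝔫 r • Submodule.Quotient.mk y := rfl
      rw [this]
      exact Submodule.smul_mem_smul (Ideal.mem_map_of_mem _ hr) Submodule.mem_top
    | add u _ v _ hu hv =>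
      rw [Submodule.Quotient.mk_add]
      exact Submodule.add_mem _ hu hv
  exact Q2 x h3

end quot

section localCrit

variable {A : Type u} [CommRing A] [IsLocalRing A] [IsNoetherianRing A]

/-- flatness over a Noetherian local ring from the colon condition `(K)` -/
theorem flat_of_colon_of_isLocalHom
    (B : Type u) [CommRing B] [IsLocalRing B] [IsNoetherianRing B] [Algebra A B]
    [IsLocalHom (algebraMap A B)]
    {M : Type u} [AddCommGroup M] [Module B M] [Module A M] [IsScalarTower A B M]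
    [Module.Finite B M]
    (K : ∀ (I' : Ideal A) (a : A), a ∉ I' → ∀ x : M, a • x ∈ I' • (⊤ : Submodule A M) →
      x ∈ maximalIdeal A • (⊤ : Submodule A M)) : Module.Flat A M := by
  have hIS : (maximalIdeal A).map (algebraMap A B) ≤ Ideal.jacobson ⊥ := by
    rw [IsLocalRing.jacobson_eq_maximalIdeal ⊥ bot_ne_top]
    exact IsLocalRing.map_maximalIdeal_le _
  refine Groth.Agent.Lib.Helper9.flat_of_injOnTorsion_pow (R := A) (S := B) (M := M)
    (maximalIdeal A) hIS ?_
  intro n hn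
  have hflat := flat_quotient_pow K n hn
  let e : (A ⧸ maximalIdeal A ^ n) ⊗[A] M ≃ₗ[A ⧸ maximalIdeal A ^ n]
      (M ⧸ (maximalIdeal A ^ n • ⊤ : Submodule A M)) :=
    LinearEquiv.extendScalarsOfSurjective Ideal.Quotient.mk_surjective
      (TensorProduct.quotTensorEquivQuotSMul M (maximalIdeal A ^ n))
  have : Module.Flat (A ⧸ maximalIdeal A ^ n) ((A ⧸ maximalIdeal A ^ n) ⊗[A] M) :=
    Module.Flat.of_linearEquiv e
  exact Groth.Agent.Lib.Helper9.injOnTorsion_of_flat

end localCrit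

section PJ

variable {B : Type u} [CommRing B] [IsNoetherianRing B]
  (J : Ideal B) (F : Type u) [AddCommGroup F] [Module B F] [Module.Finite B F]

/-- `(P_J)`: `H⁰_J(F) = 0` when `depth_J F ≥ 1` -/
theorem eq_zero_of_forall_pow_smul_eq_zero (h1 : 1 ≤ LocCoh.idealDepth J F) (y : F)
    (hy : ∀ j ∈ J, ∃ N : ℕ, j ^ N • y = 0) : y = 0 := by
  by_cases hJ : J • (⊤ : Submodule B F) = ⊤
  · obtain ⟨r, hr1, hr0⟩ := Submodule.exists_sub_one_mem_and_smul_eq_zero_of_fg_of_le_smul J
      (⊤ : Submodule B F) Module.Finite.fg_top hJ.ge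
    have h2 : (1 - r) • y = y := by
      rw [sub_smul, one_smul, hr0 y trivial, sub_zero]
    have h3 : 1 - r ∈ J := by
      have := J.neg_mem hr1
      simpa using this
    obtain ⟨N, hN⟩ := hy _ h3
    have h4 : ∀ k : ℕ, (1 - r) ^ k • y = y := by
      intro k
      induction k with
      | zero => simp
      | succ k ih => rw [pow_succ, mul_smul, h2, ih]
    rw [← h4 N, hN]
  · obtain ⟨t, htJ, ht⟩ := (one_le_idealDepth_iff J F hJ).1 h1
    obtain ⟨N, hN⟩ := hy t htJ
    have := (ht.pow N)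
    exact this (show t ^ N • y = t ^ N • 0 by rw [hN, smul_zero])

end PJ

end Groth.Agent.Lib.Helper18.QGor
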