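import Mathlib
import Groth.Agent.Lib.Helper18.QGor2

set_option autoImplicit false
universe u v

open IsLocalRing TensorProduct CategoryTheory Pointwise

namespace Groth.Agent.Lib.Helper18.QGor

open Groth.Agent.Lib.Helper18.FamCyc Groth.Agent.Lib.Helper18.CM Groth.Agent.Lib.Helper21
  Groth.Agent.Lib.Helper16.Depth

section depthLemma

variable {R : Type u} [CommRing R] [IsNoetherianRing R] (I : Ideal R)
  {X₁ X₂ X₃ : Type u} [AddCommGroup X₁] [Module R X₁] [AddCommGroup X₂] [Module R X₂]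
  [AddCommGroup X₃] [Module R X₃] [Module.Finite R X₁] [Module.Finite R X₂] [Module.Finite R X₃]
  (f : X₁ →ₗ[R] X₂) (g : X₂ →ₗ[R] X₃) (hf : Function.Injective f) (hg : Function.Surjective g)
  (hfg : Function.Exact f g)

include hf hg hfg

theorem le_idealDepth_X₃ (n : ℕ) (h2 : (n : ℕ∞) ≤ LocCoh.idealDepth I X₂)
    (h1 : ((n + 1 : ℕ) : ℕ∞) ≤ LocCoh.idealDepth I X₁) : (n : ℕ∞) ≤ LocCoh.idealDepth I X₃ := by
  rw [le_idealDepth_iff_ext'] at *
  intro i hi
  have hS := shortExact_of_linearMaps f g hf hg hfg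
  exact ext_X₃ hS _ i (h2 i hi) (h1 (i + 1) (by omega))

theorem le_idealDepth_X₂ (n : ℕ) (h1 : (n : ℕ∞) ≤ LocCoh.idealDepth I X₁)
    (h3 : (n : ℕ∞) ≤ LocCoh.idealDepth I X₃) : (n : ℕ∞) ≤ LocCoh.idealDepth I X₂ := by
  rw [le_idealDepth_iff_ext'] at *
  intro i hi
  have hS := shortExact_of_linearMaps f g hf hg hfg
  exact ext_X₂ hS _ i (h1 i hi) (h3 i hi)

theorem le_idealDepth_X₁ (n : ℕ) (h2 : ((n + 1 : ℕ) : ℕ∞) ≤ LocCoh.idealDepth I X₂)
    (h3 : (n : ℕ∞) ≤ LocCoh.idealDepth I X₃) :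
    ((n + 1 : ℕ) : ℕ∞) ≤ LocCoh.idealDepth I X₁ := by
  rw [le_idealDepth_iff_ext'] at *
  intro i hi
  have hS := shortExact_of_linearMaps f g hf hg hfg
  cases i with
  | zero => exact ext_X₁_zero hS _ (h2 0 (by omega))
  | succ j => exact ext_X₁_succ hS _ j (h3 j (by omega)) (h2 (j + 1) hi)

end depthLemma

section socle

variable {A : Type u} [CommRing A] [IsLocalRing A]

theorem exists_socle_elt (I : Ideal A) (N : ℕ) (hN : maximalIdeal A ^ N ≤ I)
    (hI : I < maximalIdeal A) :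
    ∃ a ∈ maximalIdeal A, a ∉ I ∧ ∀ x ∈ maximalIdeal A, x * a ∈ I := by
  classical
  have hex : ∃ k, maximalIdeal A ^ k ≤ I := ⟨N, hN⟩
  set k₀ := Nat.find hex with hk₀
  have hk₀le : maximalIdeal A ^ k₀ ≤ I := Nat.find_spec hex
  have h0 : k₀ ≠ 0 := by
    intro h
    rw [h, pow_zero, Ideal.one_eq_top, top_le_iff] at hk₀le
    rw [hk₀le] at hI
    exact (lt_irrefl _ (lt_of_lt_of_le hI le_top))
  have h1 : k₀ ≠ 1 := by
    intro h
    rw [h, pow_one] at hk₀le
    exact (lt_irrefl _ (lt_of_lt_of_le hI hk₀le))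
  obtain ⟨k, hk⟩ : ∃ k, k₀ = k + 1 := Nat.exists_eq_succ_of_ne_zero h0
  have hk1 : k ≠ 0 := by
    intro h
    rw [h] at hk
    exact h1 hk
  have hnot : ¬ maximalIdeal A ^ k ≤ I := Nat.find_min hex (by omega)
  obtain ⟨a, hak, haI⟩ := SetLike.not_le_iff_exists.1 hnot
  refine ⟨a, Ideal.pow_le_self hk1 hak, haI, ?_⟩
  intro x hx
  apply hk₀le
  rw [hk, pow_succ']
  exact Ideal.mul_mem_mul hx hak

end socle

section step

variable {A : Type u} [CommRing A] [IsLocalRing A]
  {B : Type u} [CommRing B] [IsNoetherianRing B] [Algebra A B]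
  (J : Ideal B)
  {M : Type u} [AddCommGroup M] [Module B M] [Module A M] [IsScalarTower A B M] [Module.Finite B M]

variable (B M) in
/-- the `B`-submodule `I M` -/
abbrev SM (I : Ideal A) : Submodule B M := (I.map (algebraMap A B)) • (⊤ : Submodule B M)

omit [IsLocalRing A] [IsNoetherianRing B] [Module A M] [IsScalarTower A B M] [Module.Finite B M] in
theorem sm_mono {I I' : Ideal A} (h : I ≤ I') : SM B M I ≤ SM B M I' :=
  Submodule.smul_mono_left (Ideal.map_mono h)

/-- the step: `depth_J (M/IM) ≥ min (depth_J (M/mM)) (depth_J (M/(I+a)M))` -/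
theorem two_le_idealDepth_step
    (K : ∀ (I' : Ideal A) (a : A), a ∉ I' → ∀ x : M, a • x ∈ I' • (⊤ : Submodule A M) →
      x ∈ maximalIdeal A • (⊤ : Submodule A M))
    (I : Ideal A) (a : A) (ha : a ∉ I) (ham : ∀ x ∈ maximalIdeal A, x * a ∈ I) (n : ℕ)
    (h2 : (n : ℕ∞) ≤ LocCoh.idealDepth J (M ⧸ SM B M (maximalIdeal A)))
    (h3 : (n : ℕ∞) ≤ LocCoh.idealDepth J (M ⧸ SM B M (I ⊔ Ideal.span {a}))) :
    (n : ℕ∞) ≤ LocCoh.idealDepth J (M ⧸ SM B M I) := by
  set α : B := algebraMap A B a with hα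
  let ℓ : M →ₗ[B] M := LinearMap.lsmul B M α
  have hℓ : SM B M (maximalIdeal A) ≤ (SM B M I).comap ℓ := by
    intro x hx
    rw [Submodule.mem_comap]
    change α • x ∈ SM B M I
    induction hx using Submodule.smul_induction_on' with
    | smul b hb y _ =>
      rw [← mul_smul]
      exact Submodule.smul_mem_smul (mul_mem_map_of_mem_map_maximalIdeal I a ham b hb)
        Submodule.mem_top
    | add u _ v _ hu hv =>
      rw [smul_add]
      exact Submodule.add_mem _ hu hv
  let φ : (M ⧸ SM B M (maximalIdeal A)) →ₗ[B] (M ⧸ SM B M I) :=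
    Submodule.mapQ _ _ ℓ hℓ
  have hle : SM B M I ≤ SM B M (I ⊔ Ideal.span {a}) := sm_mono le_sup_left
  let g : (M ⧸ SM B M I) →ₗ[B] (M ⧸ SM B M (I ⊔ Ideal.span {a})) :=
    Submodule.mapQ _ _ LinearMap.id hle
  have hφ : Function.Injective φ := by
    rw [injective_iff_map_eq_zero]
    intro y hy
    obtain ⟨x, rfl⟩ := Submodule.Quotient.mk_surjective _ y
    change Submodule.Quotient.mk (α • x) = 0 at hy
    rw [Submodule.Quotient.mk_eq_zero] at hy ⊢
    have h1 : a • x ∈ I • (⊤ : Submodule A M) := by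
      rw [← mem_map_smul_top_iff (B := B), ← algebraMap_smul B a x]
      exact hy
    exact (mem_map_smul_top_iff (maximalIdeal A) x).2 (K I a ha x h1)
  have hg : Function.Surjective g := by
    intro y
    obtain ⟨x, rfl⟩ := Submodule.Quotient.mk_surjective _ y
    exact ⟨Submodule.Quotient.mk x, rfl⟩
  have hex : Function.Exact φ g := by
    intro z
    constructor
    · intro hz
      obtain ⟨x, rfl⟩ := Submodule.Quotient.mk_surjective _ z
      change Submodule.Quotient.mk x = 0 at hz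
      rw [Submodule.Quotient.mk_eq_zero] at hz
      have h1 : SM B M (I ⊔ Ideal.span {a}) = SM B M I ⊔ α • (⊤ : Submodule B M) := by
        change (Ideal.map (algebraMap A B) (I ⊔ Ideal.span {a})) • ⊤ = _
        rw [Ideal.map_sup, Ideal.map_span, Set.image_singleton, Submodule.sup_smul,
          Submodule.ideal_span_singleton_smul]
      rw [h1] at hz
      obtain ⟨w, hw, v, hv, hwv⟩ := Submodule.mem_sup.1 hz
      obtain ⟨y, -, rfl⟩ := (Submodule.mem_smul_pointwise_iff_exists _ _ _).1 hv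
      refine ⟨Submodule.Quotient.mk y, ?_⟩
      change Submodule.Quotient.mk (α • y) = Submodule.Quotient.mk x
      rw [Submodule.Quotient.eq, ← hwv]
      have : α • y - (w + α • y) = -w := by abel
      rw [this]
      exact Submodule.neg_mem _ hw
    · rintro ⟨y, rfl⟩
      obtain ⟨x, rfl⟩ := Submodule.Quotient.mk_surjective _ y
      change Submodule.Quotient.mk (α • x) = 0
      rw [Submodule.Quotient.mk_eq_zero]
      exact Submodule.smul_mem_smul (Ideal.mem_map_of_mem _
        (Ideal.mem_sup_right (Ideal.subset_span rfl))) Submodule.mem_top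
  exact le_idealDepth_X₂ J φ g hφ hg hex n h2 h3

/-- `depth_J (M/IM) ≥ n` for every `m`-primary ideal `I ⊆ m` when `depth_J (M/mM) ≥ n` -/
theorem le_idealDepth_quotient_of_primary [IsNoetherianRing A]
    (K : ∀ (I' : Ideal A) (a : A), a ∉ I' → ∀ x : M, a • x ∈ I' • (⊤ : Submodule A M) →
      x ∈ maximalIdeal A • (⊤ : Submodule A M)) (n : ℕ)
    (h2 : (n : ℕ∞) ≤ LocCoh.idealDepth J (M ⧸ SM B M (maximalIdeal A)))
    (I : Ideal A) (N : ℕ) (hN : maximalIdeal A ^ N ≤ I) (hI : I ≤ maximalIdeal A) :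
    (n : ℕ∞) ≤ LocCoh.idealDepth J (M ⧸ SM B M I) := by
  induction I using WellFoundedGT.induction with
  | ind I ih =>
    by_cases hIm : I = maximalIdeal A
    · rw [hIm]
      exact h2
    · have hlt : I < maximalIdeal A := lt_of_le_of_ne hI hIm
      obtain ⟨a, ham, haI, hmul⟩ := exists_socle_elt I N hN hlt
      have hlt' : I < I ⊔ Ideal.span {a} := by
        refine lt_of_le_of_ne le_sup_left ?_
        intro h
        apply haI
        rw [h]
        exact Ideal.mem_sup_right (Ideal.subset_span rfl)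
      have h3 := ih (I ⊔ Ideal.span {a}) hlt' (hN.trans le_sup_left)
        (sup_le hI ((Ideal.span_singleton_le_iff_mem _).2 ham))
      exact two_le_idealDepth_step J K I a haI hmul n h2 h3

end step

end Groth.Agent.Lib.Helper18.QGor
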