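import Mathlib
import Groth.Agent.Lib.Helper18.QGor3

set_option autoImplicit false
universe u v

open IsLocalRing TensorProduct CategoryTheory Pointwise

namespace Groth.Agent.Lib.Helper18.QGor

open Groth.Agent.Lib.Helper18.FamCyc Groth.Agent.Lib.Helper18.CM Groth.Agent.Lib.Helper21
  Groth.Agent.Lib.Helper16.Depth

section flatLoc

variable {A : Type u} [CommRing A] {B : Type u} [CommRing B] [Algebra A B]
  {M : Type u} [AddCommGroup M] [Module B M] [Module A M] [IsScalarTower A B M]

open IsLocalizedModule LocalizedModule LinearMap in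
/-- localizing a `B`-module at a submonoid of `B` preserves flatness over `A` -/
theorem flat_localizedModule (S : Submonoid B) [hM : Module.Flat A M] :
    Module.Flat A (LocalizedModule S M) := by
  rw [Module.Flat.iff_lTensor_injectiveₛ] at hM ⊢
  intro P _ _ N
  have h := hM N
  rw [← AlgebraTensorModule.coe_lTensor (A := B)] at h ⊢
  have h2 := IsLocalizedModule.map_injective S
    (AlgebraTensorModule.rTensor A N (mkLinearMap S M))
    (AlgebraTensorModule.rTensor A P (mkLinearMap S M)) _ h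
  simpa [IsLocalizedModule.map_lTensor] using h2

end flatLoc

section ses

variable {A : Type u} [CommRing A]
  {X₁ X₂ X₃ : Type u} [AddCommGroup X₁] [Module A X₁] [AddCommGroup X₂] [Module A X₂]
  [AddCommGroup X₃] [Module A X₃]
  (ι : X₁ →ₗ[A] X₂) (π : X₂ →ₗ[A] X₃) (hι : Function.Injective ι) (hπ : Function.Surjective π)
  (hex : Function.Exact ι π)

include hι hπ hex

/-- (a) the kernel of a surjection of flat modules is flat -/
theorem flat_of_exact_of_flat [Module.Flat A X₂] [Module.Flat A X₃] : Module.Flat A X₁ := by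
  rw [Module.Flat.iff_rTensor_injective']
  intro I
  have h1 : Function.Injective (ι.lTensor I) :=
    LinearMap.lTensor_injective_of_exact_of_flat π hπ ι hι hex I
  have h2 : Function.Injective (LinearMap.rTensor X₂ I.subtype) :=
    Module.Flat.iff_rTensor_injective'.1 inferInstance I
  have h3 : (ι.lTensor A) ∘ₗ (LinearMap.rTensor X₁ I.subtype) =
      (LinearMap.rTensor X₂ I.subtype) ∘ₗ (ι.lTensor I) := by
    rw [LinearMap.lTensor_comp_rTensor, LinearMap.rTensor_comp_lTensor]
  have h4 : Function.Injective ((ι.lTensor A) ∘ₗ (LinearMap.rTensor X₁ I.subtype)) := by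
    rw [h3]
    exact h2.comp h1
  exact Function.Injective.of_comp h4

/-- (INT) if `X₃` is flat then `ι⁻¹(I X₂) = I X₁` -/
theorem mem_smul_top_of_flat [Module.Flat A X₃] (I : Ideal A) (x : X₁)
    (hx : ι x ∈ I • (⊤ : Submodule A X₂)) : x ∈ I • (⊤ : Submodule A X₁) := by
  have h1 : Function.Injective (ι.lTensor (A ⧸ I)) :=
    LinearMap.lTensor_injective_of_exact_of_flat π hπ ι hι hex (A ⧸ I)
  have h2 : (1 : A ⧸ I) ⊗ₜ[A] x = 0 := by
    apply h1
    rw [LinearMap.lTensor_tmul, map_zero]
    apply (TensorProduct.quotTensorEquivQuotSMul X₂ I).injective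
    rw [TensorProduct.quotTensorEquivQuotSMul_mk_one_tmul, map_zero,
      Submodule.Quotient.mk_eq_zero]
    exact hx
  have h3 := congrArg (TensorProduct.quotTensorEquivQuotSMul X₁ I) h2
  rw [TensorProduct.quotTensorEquivQuotSMul_mk_one_tmul, map_zero,
    Submodule.Quotient.mk_eq_zero] at h3
  exact h3

end ses

section mu

variable {A : Type u} [CommRing A] (I : Ideal A) (X : Type u) [AddCommGroup X] [Module A X]

/-- the multiplication map `I ⊗ X → X` -/
noncomputable def mu : I ⊗[A] X →ₗ[A] X :=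
  (TensorProduct.lid A X).toLinearMap ∘ₗ (LinearMap.rTensor X I.subtype)

@[simp] theorem mu_tmul (r : I) (x : X) : mu I X (r ⊗ₜ x) = (r : A) • x := by
  simp [mu]

theorem mu_mem (w : I ⊗[A] X) : mu I X w ∈ I • (⊤ : Submodule A X) := by
  induction w using TensorProduct.induction_on with
  | zero => simp
  | tmul r x => rw [mu_tmul]; exact Submodule.smul_mem_smul r.2 Submodule.mem_top
  | add x y hx hy => rw [map_add]; exact Submodule.add_mem _ hx hy

theorem exists_mu_eq {x : X} (hx : x ∈ I • (⊤ : Submodule A X)) : ∃ w, mu I X w = x := by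
  induction hx using Submodule.smul_induction_on' with
  | smul r hr y _ => exact ⟨(⟨r, hr⟩ : I) ⊗ₜ y, by simp⟩
  | add u _ v _ hu hv =>
    obtain ⟨w₁, h₁⟩ := hu
    obtain ⟨w₂, h₂⟩ := hv
    exact ⟨w₁ + w₂, by rw [map_add, h₁, h₂]⟩

theorem mu_injective_iff :
    Function.Injective (mu I X) ↔ Function.Injective (LinearMap.rTensor X I.subtype) := by
  unfold mu
  rw [LinearMap.coe_comp, LinearEquiv.coe_coe]
  exact (TensorProduct.lid A X).injective.of_comp_iff _

variable {X} {Y : Type u} [AddCommGroup Y] [Module A Y]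

theorem mu_naturality (f : X →ₗ[A] Y) (w : I ⊗[A] X) : f (mu I X w) = mu I Y (f.lTensor I w) := by
  induction w using TensorProduct.induction_on with
  | zero => simp
  | tmul r x => simp
  | add x y hx hy => simp only [map_add, hx, hy]

end mu

section LC

variable {A : Type u} [CommRing A] [IsLocalRing A] [IsNoetherianRing A]

/-- (LC) local criterion for a cokernel -/
theorem flat_of_exact_of_inter (B : Type u) [CommRing B] [IsLocalRing B] [IsNoetherianRing B]
    [Algebra A B] [IsLocalHom (algebraMap A B)]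
    {X₁ X₂ X₃ : Type u} [AddCommGroup X₁] [Module A X₁] [AddCommGroup X₂] [Module A X₂]
    [AddCommGroup X₃] [Module A X₃] [Module B X₃] [IsScalarTower A B X₃] [Module.Finite B X₃]
    (ι : X₁ →ₗ[A] X₂) (π : X₂ →ₗ[A] X₃) (hπ : Function.Surjective π)
    (hex : Function.Exact ι π) [Module.Flat A X₂]
    (hint : ∀ x : X₁, ι x ∈ maximalIdeal A • (⊤ : Submodule A X₂) →
      x ∈ maximalIdeal A • (⊤ : Submodule A X₁)) : Module.Flat A X₃ := by
  have hIS : (maximalIdeal A).map (algebraMap A B) ≤ Ideal.jacobson ⊥ := by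
    rw [IsLocalRing.jacobson_eq_maximalIdeal ⊥ bot_ne_top]
    exact IsLocalRing.map_maximalIdeal_le _
  have hfield : Module.Flat (A ⧸ maximalIdeal A) ((A ⧸ maximalIdeal A) ⊗[A] X₃) := by
    let _ : Field (A ⧸ maximalIdeal A) := Ideal.Quotient.field _
    infer_instance
  refine Groth.Agent.Lib.Helper9.flat_of_rTensor_injective_of_le_jacobson (R := A) (S := B)
    (M := X₃) (maximalIdeal A) hIS ?_
  rw [← mu_injective_iff]
  have hX₂ : Function.Injective (mu (maximalIdeal A) X₂) :=
    (mu_injective_iff _ _).2 (Module.Flat.iff_rTensor_injective'.1 inferInstance _)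
  rw [injective_iff_map_eq_zero]
  intro z hz
  obtain ⟨z', rfl⟩ := LinearMap.lTensor_surjective (maximalIdeal A) hπ z
  set e := mu (maximalIdeal A) X₂ z' with he
  have hπe : π e = 0 := by rw [he, mu_naturality, hz]
  obtain ⟨x, hx⟩ := (hex e).1 hπe
  have hxm : x ∈ maximalIdeal A • (⊤ : Submodule A X₁) := by
    apply hint
    rw [hx]
    exact mu_mem _ _ _
  obtain ⟨w, hw⟩ := exists_mu_eq _ _ hxm
  have h1 : ι.lTensor (maximalIdeal A) w = z' := by
    apply hX₂
    rw [← mu_naturality, hw, hx]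
  rw [← h1, ← LinearMap.lTensor_comp_apply]
  have h2 : π ∘ₗ ι = 0 := hex.linearMap_comp_eq_zero
  rw [h2, LinearMap.lTensor_zero, LinearMap.zero_apply]

end LC

section TORS

variable {A : Type u} [CommRing A] [IsLocalRing A] {B : Type u} [CommRing B] [Algebra A B]
  (J : Ideal B) {M : Type u} [AddCommGroup M] [Module B M] [Module A M] [IsScalarTower A B M]

/-- (TORS) -/
theorem mem_of_forall_exists_smul_mem
    (hP : ∀ y : EGA4.FibMod A B M, (∀ j ∈ J, ∃ N : ℕ, j ^ N • y = 0) → y = 0) (x : M)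
    (step1 : ∀ q : PrimeSpectrum B, ¬ J ≤ q.asIdeal →
      ∃ s : B, s ∉ q.asIdeal ∧ s • x ∈ maximalIdeal A • (⊤ : Submodule A M)) :
    x ∈ maximalIdeal A • (⊤ : Submodule A M) := by
  set y : EGA4.FibMod A B M := Submodule.Quotient.mk x with hy
  have hy0 : y = 0 := by
    apply hP
    intro j hj
    let 𝔞 : Ideal B := Submodule.colon (⊥ : Submodule B (EGA4.FibMod A B M)) {y}
    have hrad : J ≤ 𝔞.radical := by
      rw [Ideal.radical_eq_sInf]
      apply le_sInf
      rintro P ⟨hP1, hP2⟩
      by_contra hJP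
      obtain ⟨s, hs, hsx⟩ := step1 ⟨P, hP2⟩ hJP
      apply hs
      apply hP1
      rw [Submodule.mem_colon_singleton, Submodule.mem_bot, hy, ← Submodule.Quotient.mk_smul,
        Submodule.Quotient.mk_eq_zero]
      exact (mem_map_smul_top_iff (maximalIdeal A) _).2 hsx
    obtain ⟨N, hN⟩ := hrad hj
    refine ⟨N, ?_⟩
    rw [Submodule.mem_colon_singleton, Submodule.mem_bot] at hN
    exact hN
  rw [hy, Submodule.Quotient.mk_eq_zero] at hy0
  exact (mem_map_smul_top_iff (maximalIdeal A) _).1 hy0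

omit [IsLocalRing A] in
theorem mk_mem_smul_top (S : Submonoid B) (I : Ideal A) {z : M}
    (hz : z ∈ I • (⊤ : Submodule A M)) :
    LocalizedModule.mk z (1 : S) ∈ I • (⊤ : Submodule A (LocalizedModule S M)) := by
  induction hz using Submodule.smul_induction_on' with
  | smul r hr y _ =>
    rw [← LocalizedModule.smul'_mk]
    exact Submodule.smul_mem_smul hr Submodule.mem_top
  | add u _ v _ hu hv =>
    have : LocalizedModule.mk (u + v) (1 : S) =
        LocalizedModule.mk u 1 + LocalizedModule.mk v 1 := by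
      rw [LocalizedModule.mk_add_mk]; simp
    rw [this]
    exact Submodule.add_mem _ hu hv

variable {X₁ X₂ X₃ : Type u} [AddCommGroup X₁] [Module B X₁] [Module A X₁] [IsScalarTower A B X₁]
  [AddCommGroup X₂] [Module B X₂] [Module A X₂] [IsScalarTower A B X₂]
  [AddCommGroup X₃] [Module B X₃] [Module A X₃] [IsScalarTower A B X₃]
  (ι : X₁ →ₗ[B] X₂) (π : X₂ →ₗ[B] X₃) (hι : Function.Injective ι) (hπ : Function.Surjective π)
  (hex : Function.Exact ι π)

include hι hπ hex in
/-- (LT) -/
theorem mem_of_flatAt_of_depth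
    (hU : ∀ q : PrimeSpectrum B, ¬ J ≤ q.asIdeal → FlatCA.FlatAt A q.asIdeal X₃)
    (hP : ∀ y : EGA4.FibMod A B X₁, (∀ j ∈ J, ∃ N : ℕ, j ^ N • y = 0) → y = 0)
    (x : X₁) (hx : ι x ∈ maximalIdeal A • (⊤ : Submodule A X₂)) :
    x ∈ maximalIdeal A • (⊤ : Submodule A X₁) := by
  apply mem_of_forall_exists_smul_mem J hP
  intro q hq
  have hflat : Module.Flat A (LocalizedModule q.asIdeal.primeCompl X₃) := hU q hq
  set S := q.asIdeal.primeCompl
  have h1 := mem_smul_top_of_flat
    ((LocalizedModule.map S ι).restrictScalars A) ((LocalizedModule.map S π).restrictScalars A)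
    (LocalizedModule.map_injective S ι hι) (LocalizedModule.map_surjective S π hπ)
    (LocalizedModule.map_exact S ι π hex) (maximalIdeal A) (LocalizedModule.mk x (1 : S))
    (by
      change LocalizedModule.map S ι (LocalizedModule.mk x 1) ∈ _
      rw [LocalizedModule.map_mk]
      exact mk_mem_smul_top S _ hx)
  obtain ⟨s, hs, hsx⟩ := exists_smul_mem_of_mk_mem S (maximalIdeal A) x h1
  exact ⟨s, hs, hsx⟩

end TORS

section QX

variable {A : Type u} [CommRing A] [IsLocalRing A] {B : Type u} [CommRing B] [Algebra A B]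
  {X₁ X₂ X₃ : Type u} [AddCommGroup X₁] [Module B X₁] [Module A X₁] [IsScalarTower A B X₁]
  [AddCommGroup X₂] [Module B X₂] [Module A X₂] [IsScalarTower A B X₂]
  [AddCommGroup X₃] [Module B X₃] [Module A X₃] [IsScalarTower A B X₃]

omit [IsLocalRing A] [Module A X₁] [IsScalarTower A B X₁] [Module A X₂] [IsScalarTower A B X₂] in
theorem sm_le_comap (I : Ideal A) (ι : X₁ →ₗ[B] X₂) : SM B X₁ I ≤ (SM B X₂ I).comap ι := by
  intro x hx
  rw [Submodule.mem_comap]
  induction hx using Submodule.smul_induction_on' with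
  | smul b hb y _ =>
    rw [map_smul]
    exact Submodule.smul_mem_smul hb Submodule.mem_top
  | add u _ v _ hu hv =>
    rw [map_add]
    exact Submodule.add_mem _ hu hv

/-- the induced map on closed fibres -/
noncomputable def fibMap (ι : X₁ →ₗ[B] X₂) : EGA4.FibMod A B X₁ →ₗ[B] EGA4.FibMod A B X₂ :=
  Submodule.mapQ _ _ ι (sm_le_comap (maximalIdeal A) ι)

omit [Module A X₁] [IsScalarTower A B X₁] [Module A X₂] [IsScalarTower A B X₂] in
theorem fibMap_mk (ι : X₁ →ₗ[B] X₂) (x : X₁) :
    fibMap (A := A) ι (Submodule.Quotient.mk x) = Submodule.Quotient.mk (ι x) := rfl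

variable (ι : X₁ →ₗ[B] X₂) (π : X₂ →ₗ[B] X₃) (hπ : Function.Surjective π)
  (hex : Function.Exact ι π)

theorem fibMap_injective
    (hint : ∀ x : X₁, ι x ∈ maximalIdeal A • (⊤ : Submodule A X₂) →
      x ∈ maximalIdeal A • (⊤ : Submodule A X₁)) :
    Function.Injective (fibMap (A := A) ι) := by
  rw [injective_iff_map_eq_zero]
  intro y hy
  obtain ⟨x, rfl⟩ := Submodule.Quotient.mk_surjective _ y
  rw [fibMap_mk, Submodule.Quotient.mk_eq_zero] at hy
  rw [Submodule.Quotient.mk_eq_zero]
  exact (mem_map_smul_top_iff (maximalIdeal A) x).2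
    (hint x ((mem_map_smul_top_iff (maximalIdeal A) _).1 hy))

include hπ in
omit [Module A X₂] [IsScalarTower A B X₂] [Module A X₃] [IsScalarTower A B X₃] in
theorem fibMap_surjective : Function.Surjective (fibMap (A := A) π) := by
  intro y
  obtain ⟨x, rfl⟩ := Submodule.Quotient.mk_surjective _ y
  obtain ⟨x', rfl⟩ := hπ x
  exact ⟨Submodule.Quotient.mk x', rfl⟩

include hπ hex in
omit [Module A X₁] [IsScalarTower A B X₁] [Module A X₂] [IsScalarTower A B X₂] [Module A X₃]
  [IsScalarTower A B X₃] in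
theorem fibMap_exact : Function.Exact (fibMap (A := A) ι) (fibMap (A := A) π) := by
  intro y
  obtain ⟨x, rfl⟩ := Submodule.Quotient.mk_surjective _ y
  constructor
  · intro h
    rw [fibMap_mk, Submodule.Quotient.mk_eq_zero] at h
    -- π x ∈ mB • ⊤, lift
    have key : ∀ z ∈ SM B X₃ (maximalIdeal A), ∃ w ∈ SM B X₂ (maximalIdeal A), π w = z := by
      intro z hz
      induction hz using Submodule.smul_induction_on' with
      | smul b hb y _ =>
        obtain ⟨y', rfl⟩ := hπ y
        exact ⟨b • y', Submodule.smul_mem_smul hb Submodule.mem_top, map_smul _ _ _⟩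
      | add u _ v _ hu hv =>
        obtain ⟨w₁, hw₁, h₁⟩ := hu
        obtain ⟨w₂, hw₂, h₂⟩ := hv
        exact ⟨w₁ + w₂, Submodule.add_mem _ hw₁ hw₂, by rw [map_add, h₁, h₂]⟩
    obtain ⟨w, hw, hwx⟩ := key _ h
    have h1 : π (x - w) = 0 := by rw [map_sub, hwx, sub_self]
    obtain ⟨x₁, hx₁⟩ := (hex (x - w)).1 h1
    refine ⟨Submodule.Quotient.mk x₁, ?_⟩
    rw [fibMap_mk, hx₁, Submodule.Quotient.eq]
    have : x - w - x = -w := by abel
    rw [this]
    exact Submodule.neg_mem _ hw
  · rintro ⟨y₁, hy₁⟩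
    obtain ⟨x₁, rfl⟩ := Submodule.Quotient.mk_surjective _ y₁
    rw [fibMap_mk] at hy₁
    rw [← hy₁, fibMap_mk, (hex (ι x₁)).2 ⟨x₁, rfl⟩]
    rfl

end QX

end Groth.Agent.Lib.Helper18.QGor
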