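import Mathlib
import Groth.Prelude.Def_EGA4b
import Groth.Agent.Lib.Helper18.TensorCM
import Groth.Agent.Lib.Helper18.QGor4

set_option autoImplicit false
set_option linter.unusedSectionVars false
set_option linter.style.haveILetI false
universe u
open IsLocalRing TensorProduct

namespace Groth.Agent.Lib.Helper18.ModFib

section abstract

variable {A B A' B' : Type u} [CommRing A] [CommRing B] [CommRing A'] [CommRing B']
  [Algebra A B] [Algebra A A'] [Algebra B B'] [Algebra A' B'] [Algebra A B']
  [IsScalarTower A A' B'] [IsScalarTower A B B']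
  {E E' F F' : Type u} [AddCommGroup E] [Module A E]
  [AddCommGroup E'] [Module A E'] [Module A' E'] [IsScalarTower A A' E']
  [AddCommGroup F] [Module A F] [Module B F] [IsScalarTower A B F]
  [AddCommGroup F'] [Module A F'] [Module B F'] [Module A' F'] [Module B' F']
  [IsScalarTower B B' F'] [IsScalarTower A' B' F'] [IsScalarTower A A' F']
  [IsScalarTower A B' F']
  (g : E →ₗ[A] E') (hg : IsBaseChange A' g) (f : F →ₗ[B] F') (hf : IsBaseChange B' f)

noncomputable def tensorEquiv : F' ⊗[A'] E' ≃ₗ[B'] B' ⊗[B] (F ⊗[A] E) :=
  (AlgebraTensorModule.congr (LinearEquiv.refl B' F') hg.equiv.symm) ≪≫ₗ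
  (AlgebraTensorModule.cancelBaseChange A A' B' F' E) ≪≫ₗ
  (AlgebraTensorModule.congr hf.equiv.symm (LinearEquiv.refl A E)) ≪≫ₗ
  (AlgebraTensorModule.assoc A B B' B' F E)

end abstract

section concrete

open Groth.Agent.Lib.Helper18.CM

variable (A B : Type u) [CommRing A] [CommRing B] [Algebra A B] (Q : Ideal B) [Q.IsPrime]
  (E : Type u) [AddCommGroup E] [Module A E]
  (F : Type u) [AddCommGroup F] [Module B F] [Module A F] [IsScalarTower A B F]

theorem depth_quot_smul_top_of_eq {R : Type u} [CommRing R] [IsLocalRing R] {N : Type u}
    [AddCommGroup N] [Module R N] {I J : Ideal R} (h : I = J) :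
    LocCoh.depth R (N ⧸ (I • ⊤ : Submodule R N)) = LocCoh.depth R (N ⧸ (J • ⊤ : Submodule R N)) := by
  subst h; rfl

theorem supportDim_quot_smul_top_of_eq {R : Type u} [CommRing R] {N : Type u}
    [AddCommGroup N] [Module R N] {I J : Ideal R} (h : I = J) :
    Module.supportDim R (N ⧸ (I • ⊤ : Submodule R N)) =
      Module.supportDim R (N ⧸ (J • ⊤ : Submodule R N)) := by
  subst h; rfl

variable [IsNoetherianRing A] [IsNoetherianRing B] [Module.Finite A E] [Module.Finite B F]
  [Module.Flat A F]

theorem depth_and_supportDim_localizedModule_tensor :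
    LocCoh.depth (Localization.AtPrime Q) (LocalizedModule Q.primeCompl (F ⊗[A] E)) =
      LocCoh.depth (Localization.AtPrime (Q.comap (algebraMap A B)))
        (LocalizedModule (Q.comap (algebraMap A B)).primeCompl E) +
      LocCoh.depth (Localization.AtPrime Q) (EGA4.FibLocMod A B Q F) ∧
    Module.supportDim (Localization.AtPrime Q) (LocalizedModule Q.primeCompl (F ⊗[A] E)) =
      Module.supportDim (Localization.AtPrime (Q.comap (algebraMap A B)))
        (LocalizedModule (Q.comap (algebraMap A B)).primeCompl E) +
      Module.supportDim (Localization.AtPrime Q) (EGA4.FibLocMod A B Q F) := by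
  have hlo : Q.LiesOver (Q.comap (algebraMap A B)) := ⟨rfl⟩
  letI alg := Localization.AtPrime.algebraOfLiesOver (Q.comap (algebraMap A B)) Q
  have hloc : IsLocalHom (algebraMap (Localization.AtPrime (Q.comap (algebraMap A B)))
      (Localization.AtPrime Q)) :=
    Localization.isLocalHom_localRingHom (Q.comap (algebraMap A B)) Q (algebraMap A B)
      Ideal.LiesOver.over
  letI modF : Module (Localization.AtPrime (Q.comap (algebraMap A B)))
      (LocalizedModule Q.primeCompl F) :=
    Module.compHom _ (algebraMap (Localization.AtPrime (Q.comap (algebraMap A B)))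
      (Localization.AtPrime Q))
  haveI t1 : IsScalarTower (Localization.AtPrime (Q.comap (algebraMap A B)))
      (Localization.AtPrime Q) (LocalizedModule Q.primeCompl F) :=
    IsScalarTower.of_algebraMap_smul (fun r x => rfl)
  haveI t2 : IsScalarTower A (Localization.AtPrime Q) (LocalizedModule Q.primeCompl F) := by
    apply IsScalarTower.of_algebraMap_smul
    intro a x
    rw [IsScalarTower.algebraMap_apply A B (Localization.AtPrime Q), algebraMap_smul,
      algebraMap_smul]
  haveI t3 : IsScalarTower A (Localization.AtPrime (Q.comap (algebraMap A B)))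
      (LocalizedModule Q.primeCompl F) := by
    apply IsScalarTower.of_algebraMap_smul
    intro a x
    change (algebraMap (Localization.AtPrime (Q.comap (algebraMap A B)))
      (Localization.AtPrime Q) (algebraMap A _ a)) • x = a • x
    rw [← IsScalarTower.algebraMap_apply A (Localization.AtPrime (Q.comap (algebraMap A B)))
      (Localization.AtPrime Q), algebraMap_smul]
  haveI hfl0 : Module.Flat A (LocalizedModule Q.primeCompl F) :=
    Groth.Agent.Lib.Helper18.QGor.flat_localizedModule Q.primeCompl
  haveI hfl : Module.Flat (Localization.AtPrime (Q.comap (algebraMap A B)))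
      (LocalizedModule Q.primeCompl F) :=
    (Module.flat_iff_of_isLocalization (Localization.AtPrime (Q.comap (algebraMap A B)))
      (Q.comap (algebraMap A B)).primeCompl _).2 hfl0
  let e := tensorEquiv (A := A) (B := B) (A' := Localization.AtPrime (Q.comap (algebraMap A B)))
    (B' := Localization.AtPrime Q)
    (LocalizedModule.mkLinearMap (Q.comap (algebraMap A B)).primeCompl E)
    (IsLocalizedModule.isBaseChange (Q.comap (algebraMap A B)).primeCompl _ _)
    (LocalizedModule.mkLinearMap Q.primeCompl F)
    (IsLocalizedModule.isBaseChange Q.primeCompl _ _)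
  let e5 := (IsLocalizedModule.isBaseChange Q.primeCompl (Localization.AtPrime Q)
    (LocalizedModule.mkLinearMap Q.primeCompl (F ⊗[A] E))).equiv
  have hK : (maximalIdeal (Localization.AtPrime (Q.comap (algebraMap A B)))).map
      (algebraMap (Localization.AtPrime (Q.comap (algebraMap A B))) (Localization.AtPrime Q)) =
      (Q.comap (algebraMap A B)).map (algebraMap A (Localization.AtPrime Q)) := by
    rw [← Localization.AtPrime.map_eq_maximalIdeal, Ideal.map_map,
      ← IsScalarTower.algebraMap_eq]
  constructor
  · have h := depth_tensor_of_flat (A := Localization.AtPrime (Q.comap (algebraMap A B)))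
      (B := Localization.AtPrime Q) (LocalizedModule (Q.comap (algebraMap A B)).primeCompl E)
      (LocalizedModule Q.primeCompl F)
    rw [depth_congr (e ≪≫ₗ e5)] at h
    rw [h]
    congr 1
    exact depth_quot_smul_top_of_eq hK
  · rw [← Module.supportDim_eq_of_equiv (e ≪≫ₗ e5)]
    cases subsingleton_or_nontrivial (LocalizedModule (Q.comap (algebraMap A B)).primeCompl E)
    · rw [Module.supportDim_eq_bot_of_subsingleton, Module.supportDim_eq_bot_of_subsingleton,
        WithBot.bot_add]
    · have h := supportDim_tensor_of_flat (A := Localization.AtPrime (Q.comap (algebraMap A B)))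
        (B := Localization.AtPrime Q) (LocalizedModule (Q.comap (algebraMap A B)).primeCompl E)
        (LocalizedModule Q.primeCompl F)
      rw [h]
      congr 1
      exact supportDim_quot_smul_top_of_eq hK

theorem depth_localizedModule_tensor :
    LocCoh.depth (Localization.AtPrime Q) (LocalizedModule Q.primeCompl (F ⊗[A] E)) =
      LocCoh.depth (Localization.AtPrime (Q.comap (algebraMap A B)))
        (LocalizedModule (Q.comap (algebraMap A B)).primeCompl E) +
      LocCoh.depth (Localization.AtPrime Q) (EGA4.FibLocMod A B Q F) :=
  (depth_and_supportDim_localizedModule_tensor A B Q E F).1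

theorem supportDim_localizedModule_tensor :
    Module.supportDim (Localization.AtPrime Q) (LocalizedModule Q.primeCompl (F ⊗[A] E)) =
      Module.supportDim (Localization.AtPrime (Q.comap (algebraMap A B)))
        (LocalizedModule (Q.comap (algebraMap A B)).primeCompl E) +
      Module.supportDim (Localization.AtPrime Q) (EGA4.FibLocMod A B Q F) :=
  (depth_and_supportDim_localizedModule_tensor A B Q E F).2

end concrete

end Groth.Agent.Lib.Helper18.ModFib
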