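import Mathlib
import Groth.Prelude.Def_EGA4b
import Groth.Agent.Lib.Helper18.FormEq
import Groth.Agent.Lib.Helper18.ModFib
import Groth.Agent.Lib.Helper18.CM5
import Groth.Agent.Lib.Helper18.FamCyc1

set_option autoImplicit false
set_option linter.unusedSectionVars false
set_option linter.style.haveILetI false
universe u
open IsLocalRing TensorProduct

namespace Groth.Agent.Lib.Helper18.FormEq

open Groth.Agent.Lib.Helper18.CM Groth.Agent.Lib.Helper18.Serre

section assFlat

variable {A B : Type u} [CommRing A] [CommRing B] [Algebra A B] [IsNoetherianRing B]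
  [Module.Flat A B]

/-- associated primes of `B/pB` lie over `p` (flatness) -/
theorem comap_eq_of_mem_associatedPrimes_tensor (p : Ideal A) [hp : p.IsPrime] (Q : Ideal B)
    (hQ : Q ∈ associatedPrimes B (B ⊗[A] (A ⧸ p))) : Q.comap (algebraMap A B) = p := by
  rw [AssociatedPrimes.mem_iff, isAssociatedPrime_iff] at hQ
  obtain ⟨hQp, x, hx⟩ := hQ
  have hmem : ∀ b : B, b ∈ Q ↔ b • x = 0 := by
    intro b
    rw [hx, Submodule.mem_colon_singleton, Submodule.mem_bot]
  have hx0 : x ≠ 0 := by
    intro h0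
    apply hQp.ne_top
    rw [Ideal.eq_top_iff_one, hmem, h0, smul_zero]
  apply le_antisymm
  · intro a ha
    by_contra hap
    rw [Ideal.mem_comap, hmem, algebraMap_smul] at ha
    have hreg : IsSMulRegular (A ⧸ p) a := by
      intro y z hyz
      obtain ⟨y, rfl⟩ := Ideal.Quotient.mk_surjective y
      obtain ⟨z, rfl⟩ := Ideal.Quotient.mk_surjective z
      have h1 : Ideal.Quotient.mk p (a * (y - z)) = 0 := by
        have : a • Ideal.Quotient.mk p y = a • Ideal.Quotient.mk p z := hyz
        rw [mul_sub, map_sub, sub_eq_zero]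
        simpa [Algebra.smul_def] using this
      rw [Ideal.Quotient.eq_zero_iff_mem] at h1
      rcases hp.mem_or_mem h1 with h2 | h2
      · exact absurd h2 hap
      · rw [← sub_eq_zero, ← map_sub, Ideal.Quotient.eq_zero_iff_mem]
        exact h2
    have hreg' : IsSMulRegular (B ⊗[A] (A ⧸ p)) a := IsSMulRegular.lTensor B hreg
    apply hx0
    apply hreg'
    show a • x = a • 0
    rw [smul_zero]
    exact ha
  · intro a ha
    rw [Ideal.mem_comap, hmem, algebraMap_smul]
    have hkill : ∀ x : B ⊗[A] (A ⧸ p), a • x = 0 := by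
      intro x
      induction x using TensorProduct.induction_on with
      | zero => rw [smul_zero]
      | tmul b c =>
        rw [TensorProduct.smul_tmul', TensorProduct.smul_tmul, Algebra.smul_def]
        have : (algebraMap A (A ⧸ p)) a = 0 := Ideal.Quotient.eq_zero_iff_mem.mpr ha
        rw [this, zero_mul, TensorProduct.tmul_zero]
      | add y z hy hz => rw [smul_add, hy, hz, add_zero]
    exact hkill x

end assFlat

section key

theorem depth_localizedModule_of_eq {R : Type u} [CommRing R] (N : Type u) [AddCommGroup N]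
    [Module R N] {P p : Ideal R} [P.IsPrime] [p.IsPrime] (h : P = p) :
    LocCoh.depth (Localization.AtPrime P) (LocalizedModule P.primeCompl N) =
      LocCoh.depth (Localization.AtPrime p) (LocalizedModule p.primeCompl N) := by
  subst h; rfl

variable (A : Type u) [CommRing A] [IsNoetherianRing A] [IsLocalRing A]
  (M : Type u) [AddCommGroup M] [Module A M] [Module.Finite A M]

theorem ringKrullDim_quotient_of_mem_associatedPrimes_cplTensor
    (hCM : LocCoh.IsCohenMacaulayModule A M) (p : Ideal A) [hp : p.IsPrime]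
    (hsupp : (⟨p, hp⟩ : PrimeSpectrum A) ∈ Module.support A M)
    (Q : Ideal (EGA4.Cpl A)) (hQ : Q ∈ associatedPrimes (EGA4.Cpl A) (EGA4.Cpl A ⊗[A] (A ⧸ p))) :
    ringKrullDim (EGA4.Cpl A ⧸ Q) = ringKrullDim (A ⧸ p) := by
  have hQp : Q.IsPrime := IsAssociatedPrime.isPrime hQ
  have hcomap : Q.comap (algebraMap A (EGA4.Cpl A)) = p :=
    comap_eq_of_mem_associatedPrimes_tensor p Q hQ
  obtain ⟨n, -, hn1, -, hn3⟩ := cm_localization p M hCM hsupp
  have hCM' := isCohenMacaulayModule_cplTensor A M hCM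
  have hnt : Nontrivial M := nontrivial_of_isCohenMacaulayModule M hCM
  have hsupp' : (⟨Q, hQp⟩ : PrimeSpectrum (EGA4.Cpl A)) ∈
      Module.support (EGA4.Cpl A) (EGA4.Cpl A ⊗[A] M) := by
    rw [mem_support_tensor_iff]
    refine ⟨?_, ?_⟩
    · rw [Module.support_eq_zeroLocus, Module.annihilator_eq_bot.mpr inferInstance]
      simp
    · have : PrimeSpectrum.comap (algebraMap A (EGA4.Cpl A)) ⟨Q, hQp⟩ = ⟨p, hp⟩ := by
        apply PrimeSpectrum.ext
        exact hcomap
      rw [this]
      exact hsupp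
  obtain ⟨n', -, hn'1, -, hn'3⟩ := cm_localization Q (EGA4.Cpl A ⊗[A] M) hCM' hsupp'
  -- the depth formula
  have hd1 := ModFib.depth_localizedModule_tensor A (EGA4.Cpl A) Q M (EGA4.Cpl A)
  have hd2 := ModFib.depth_localizedModule_tensor A (EGA4.Cpl A) Q (A ⧸ p) (EGA4.Cpl A)
  have h0 : LocCoh.depth (Localization.AtPrime Q)
      (LocalizedModule Q.primeCompl (EGA4.Cpl A ⊗[A] (A ⧸ p))) = 0 :=
    (Groth.Agent.Lib.Helper18.FamCyc.depth_localizedModule_eq_zero_iff _ Q).mpr hQ
  rw [h0] at hd2
  have hfib : LocCoh.depth (Localization.AtPrime Q)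
      (EGA4.FibLocMod A (EGA4.Cpl A) Q (EGA4.Cpl A)) = 0 := by
    have := hd2.symm
    rw [add_eq_zero] at this
    exact this.2
  rw [hfib, add_zero, hn'1, depth_localizedModule_of_eq M hcomap, hn1] at hd1
  have hnn : n' = n := by exact_mod_cast hd1
  rw [supportDim_cplTensor, hn3, hnn] at hn'3
  have hfin : ((n : ℕ∞)) ≠ ⊤ := ENat.natCast_ne_top n
  exact (Groth.Agent.Lib.Helper18.CatFlat.withBot_enat_add_right_cancel hfin
    (by exact_mod_cast hn'3)).symm

end key

section surj

variable {R S : Type u} [CommRing R] [CommRing S] [IsNoetherianRing R] [IsNoetherianRing S]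
  (φ : R →+* S) (hφ : Function.Surjective φ)

include hφ

theorem comap_mem_associatedPrimes_of_surjective (q : Ideal S) (hq : q ∈ associatedPrimes S S) :
    q.comap φ ∈ associatedPrimes R (R ⧸ RingHom.ker φ) := by
  rw [AssociatedPrimes.mem_iff, isAssociatedPrime_iff] at hq ⊢
  obtain ⟨hqp, y, hy⟩ := hq
  obtain ⟨x, rfl⟩ := hφ y
  refine ⟨Ideal.comap_isPrime φ q, Ideal.Quotient.mk _ x, ?_⟩
  ext r
  rw [Ideal.mem_comap, hy, Submodule.mem_colon_singleton, Submodule.mem_colon_singleton,
    Submodule.mem_bot, Submodule.mem_bot, smul_eq_mul, ← map_mul]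
  have : r • (Ideal.Quotient.mk (RingHom.ker φ)) x = Ideal.Quotient.mk (RingHom.ker φ) (r * x) := by
    rfl
  rw [this, Ideal.Quotient.eq_zero_iff_mem, RingHom.mem_ker]

theorem ringKrullDim_quotient_comap_of_surjective (q : Ideal S) :
    ringKrullDim (R ⧸ q.comap φ) = ringKrullDim (S ⧸ q) := by
  apply ringKrullDim_eq_of_ringEquiv
  exact RingEquiv.ofBijective (Ideal.quotientMap q φ le_rfl)
    ⟨Ideal.quotientMap_injective, Ideal.quotientMap_surjective hφ⟩

end surj

section strictCat

variable (A : Type u) [CommRing A] [IsNoetherianRing A] [IsLocalRing A]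
  (M : Type u) [AddCommGroup M] [Module A M] [Module.Finite A M]

theorem isStrictlyEquidim_cpl_quotient (hCM : LocCoh.IsCohenMacaulayModule A M)
    (p : Ideal A) [hp : p.IsPrime]
    (hsupp : (⟨p, hp⟩ : PrimeSpectrum A) ∈ Module.support A M) :
    EGA4.IsStrictlyEquidim (EGA4.Cpl (A ⧸ p)) := by
  intro q hq
  have hs : Function.Surjective (algebraMap A (A ⧸ p)) := Ideal.Quotient.mk_surjective
  have hloc := CplQuot.isLocalHom_of_surjective A (A ⧸ p) hs
  have hφ := CplQuot.cplMap_surjective A (A ⧸ p) hs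
  have hker := CplQuot.ker_cplMap A (A ⧸ p) hs
  have hkp : RingHom.ker (algebraMap A (A ⧸ p)) = p := by
    rw [Ideal.Quotient.algebraMap_eq, Ideal.mk_ker]
  rw [hkp] at hker
  have h1 := comap_mem_associatedPrimes_of_surjective _ hφ q hq
  let e : (EGA4.Cpl A ⧸ RingHom.ker (CplQuot.cplMap A (A ⧸ p))) ≃ₗ[EGA4.Cpl A]
      EGA4.Cpl A ⊗[A] (A ⧸ p) :=
    (Submodule.quotEquivOfEq _ _ hker) ≪≫ₗ
      (Algebra.TensorProduct.quotIdealMapEquivTensorQuot (EGA4.Cpl A) p).toLinearEquiv
  rw [LinearEquiv.AssociatedPrimes.eq e] at h1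
  have h2 := ringKrullDim_quotient_of_mem_associatedPrimes_cplTensor A M hCM p hsupp _ h1
  rw [ringKrullDim_quotient_comap_of_surjective _ hφ] at h2
  rw [h2, ringKrullDim_cpl]

end strictCat

section equidimModule

theorem supportDim_eq_ringKrullDim_of_support_eq_univ {R : Type u} [CommRing R] {N : Type u}
    [AddCommGroup N] [Module R N] (hsupp : Module.support R N = Set.univ) :
    Module.supportDim R N = ringKrullDim R := by
  unfold Module.supportDim ringKrullDim
  rw [hsupp]
  exact Order.krullDim_eq_of_orderIso (OrderIso.Set.univ)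

variable (R : Type u) [CommRing R] [IsNoetherianRing R] [IsLocalRing R]
  (N : Type u) [AddCommGroup N] [Module R N] [Module.Finite R N]

/-- a local ring with a Cohen–Macaulay module of full support is equidimensional -/
theorem isEquidim_of_CM_module (hCM : LocCoh.IsCohenMacaulayModule R N)
    (hsupp : Module.support R N = Set.univ) : EGA4.IsEquidim R := by
  intro Q hQ
  have hQp : Q.IsPrime := hQ.1.1
  have hmem : (⟨Q, hQp⟩ : PrimeSpectrum R) ∈ Module.support R N := by
    rw [hsupp]; trivial
  obtain ⟨n, -, -, h2, h3⟩ := cm_localization Q N hCM hmem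
  have h4 := Module.supportDim_le_ringKrullDim (Localization.AtPrime Q)
    (LocalizedModule Q.primeCompl N)
  rw [IsLocalization.AtPrime.ringKrullDim_eq_height Q (Localization.AtPrime Q),
    Ideal.height_eq_zero_iff.mpr hQ, h2] at h4
  have hn : n = 0 := by
    have : ((n : ℕ∞) : WithBot ℕ∞) ≤ ((0 : ℕ∞) : WithBot ℕ∞) := h4
    have h5 : (n : ℕ∞) ≤ 0 := WithBot.coe_le_coe.mp this
    have h6 : n ≤ 0 := by exact_mod_cast h5
    omega
  rw [hn, supportDim_eq_ringKrullDim_of_support_eq_univ hsupp] at h3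
  rw [h3]
  simp

end equidimModule

section formallyEquidim

variable (A : Type u) [CommRing A] [IsNoetherianRing A] [IsLocalRing A]
  (M : Type u) [AddCommGroup M] [Module A M] [Module.Finite A M]

theorem support_cplTensor_eq_univ (hsupp : Module.support A M = Set.univ) :
    Module.support (EGA4.Cpl A) (EGA4.Cpl A ⊗[A] M) = Set.univ := by
  rw [Set.eq_univ_iff_forall]
  intro Q
  rw [mem_support_tensor_iff]
  refine ⟨?_, ?_⟩
  · rw [Module.support_eq_zeroLocus, Module.annihilator_eq_bot.mpr inferInstance]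
    simp
  · rw [hsupp]; trivial

theorem isFormallyEquidim_of_CM_module (hCM : LocCoh.IsCohenMacaulayModule A M)
    (hsupp : Module.support A M = Set.univ) : EGA4.IsFormallyEquidim A :=
  isEquidim_of_CM_module (EGA4.Cpl A) (EGA4.Cpl A ⊗[A] M)
    (isCohenMacaulayModule_cplTensor A M hCM) (support_cplTensor_eq_univ A M hsupp)

end formallyEquidim

end Groth.Agent.Lib.Helper18.FormEq
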