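import Mathlib
import Groth.Agent.Lib.Helper18.QGor4

set_option autoImplicit false
universe u v

open IsLocalRing TensorProduct CategoryTheory Pointwise

namespace Groth.Agent.Lib.Helper18.QGor

open Groth.Agent.Lib.Helper18.FamCyc Groth.Agent.Lib.Helper18.CM Groth.Agent.Lib.Helper21
  Groth.Agent.Lib.Helper16.Depth

section Kflat

variable {A : Type u} [CommRing A] [IsLocalRing A] {M : Type u} [AddCommGroup M] [Module A M]

theorem colon_of_flat [Module.Flat A M] (I' : Ideal A) (a : A) (ha : a ∉ I') (x : M)
    (hx : a • x ∈ I' • (⊤ : Submodule A M)) : x ∈ maximalIdeal A • (⊤ : Submodule A M) := by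
  have hcol : I'.colon {a} ≤ maximalIdeal A := by
    apply IsLocalRing.le_maximalIdeal
    intro htop
    have h1 : (1 : A) ∈ I'.colon {a} := by rw [htop]; trivial
    rw [Submodule.mem_colon_singleton] at h1
    exact ha (by simpa using h1)
  exact Submodule.smul_mono_left hcol (mem_colon_smul_top_of_flat I' a x hx)

end Kflat

section main

variable {A B : Type u} [CommRing A] [CommRing B]
  [IsNoetherianRing A] [IsNoetherianRing B] [IsLocalRing A] [IsLocalRing B] [Algebra A B]
  [IsLocalHom (algebraMap A B)] (J : Ideal B)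
  {F E0 E1 G : Type u} [AddCommGroup F] [Module B F] [Module A F] [IsScalarTower A B F]
  [Module.Finite B F]
  [AddCommGroup E0] [Module B E0] [Module A E0] [IsScalarTower A B E0] [Module.Finite B E0]
  [Module.Flat A E0]
  [AddCommGroup E1] [Module B E1] [Module A E1] [IsScalarTower A B E1] [Module.Finite B E1]
  [Module.Flat A E1]
  [AddCommGroup G] [Module B G] [Module A G] [IsScalarTower A B G] [Module.Finite B G]
  (f : F →ₗ[B] E0) (u : E0 →ₗ[B] E1) (v : E1 →ₗ[B] G)
  (hf : Function.Injective f) (hfu : Function.Exact f u) (huv : Function.Exact u v)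
  (hv : Function.Surjective v)

omit [IsNoetherianRing A] [IsNoetherianRing B] [IsLocalRing A] [IsLocalRing B]
  [IsLocalHom (algebraMap A B)] [Module.Finite B F] [Module.Finite B E0] [Module.Finite B E1]
  [Module.Finite B G] [Module.Flat A E0] [Module.Flat A E1] [Module A F] [IsScalarTower A B F]
  [Module A E0] [IsScalarTower A B E0] [Module A E1] [IsScalarTower A B E1]
  [Module A G] [IsScalarTower A B G] [Algebra A B] in
include hfu in
theorem exact_rangeRestrict : Function.Exact f u.rangeRestrict := by
  intro y
  rw [← hfu y]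
  constructor
  · intro h
    have := congrArg Subtype.val h
    simpa using this
  · intro h
    apply Subtype.ext
    simpa using h

omit [IsNoetherianRing A] [IsNoetherianRing B] [IsLocalRing A] [IsLocalRing B]
  [IsLocalHom (algebraMap A B)] [Module.Finite B F] [Module.Finite B E0] [Module.Finite B E1]
  [Module.Finite B G] [Module.Flat A E0] [Module.Flat A E1] [Module A F] [IsScalarTower A B F]
  [Module A E0] [IsScalarTower A B E0] [Module A E1] [IsScalarTower A B E1]
  [Module A G] [IsScalarTower A B G] [Algebra A B] in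
include huv in
theorem exact_subtype_range : Function.Exact (LinearMap.range u).subtype v := by
  intro z
  rw [huv z]
  constructor
  · rintro ⟨y, rfl⟩
    exact ⟨⟨u y, ⟨y, rfl⟩⟩, rfl⟩
  · rintro ⟨⟨_, ⟨y, rfl⟩⟩, rfl⟩
    exact ⟨y, rfl⟩

omit [IsNoetherianRing A] [IsNoetherianRing B] [IsLocalRing A] [IsLocalRing B]
  [IsLocalHom (algebraMap A B)] [Module.Finite B E0] [Module.Finite B E1]
  [Module.Finite B G] [Module.Flat A E0] [Module A E0] [IsScalarTower A B E0] in
include huv hv in
theorem flat_range_of_flat [Module.Flat A G] : Module.Flat A (LinearMap.range u) :=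
  flat_of_exact_of_flat ((LinearMap.range u).subtype.restrictScalars A) (v.restrictScalars A)
    (Submodule.injective_subtype _) hv (exact_subtype_range u v huv)

omit [IsNoetherianRing A] [IsNoetherianRing B] [IsLocalRing A] [IsLocalRing B]
  [IsLocalHom (algebraMap A B)] [Module.Finite B F] [Module.Finite B E0] [Module.Finite B E1]
  [Module.Finite B G] in
include hf hfu huv hv in
theorem flat_F_of_flat [Module.Flat A G] : Module.Flat A F := by
  have hQ : Module.Flat A (LinearMap.range u) := flat_range_of_flat u v huv hv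
  exact flat_of_exact_of_flat (f.restrictScalars A) (u.rangeRestrict.restrictScalars A)
    hf (LinearMap.surjective_rangeRestrict u) (exact_rangeRestrict f u hfu)

include hf hfu huv hv in
theorem two_le_of_flat [Module.Flat A G]
    (h0 : 2 ≤ LocCoh.idealDepth J (EGA4.FibMod A B E0))
    (h1 : 1 ≤ LocCoh.idealDepth J (EGA4.FibMod A B E1)) :
    2 ≤ LocCoh.idealDepth J (EGA4.FibMod A B F) := by
  have hQ : Module.Flat A (LinearMap.range u) := flat_range_of_flat u v huv hv
  have hfinQ : Module.Finite B (EGA4.FibMod A B (LinearMap.range u)) :=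
    Module.Finite.of_surjective (Submodule.mkQ _) (Submodule.mkQ_surjective _)
  have hfinF : Module.Finite B (EGA4.FibMod A B F) :=
    Module.Finite.of_surjective (Submodule.mkQ _) (Submodule.mkQ_surjective _)
  have hfinE0 : Module.Finite B (EGA4.FibMod A B E0) :=
    Module.Finite.of_surjective (Submodule.mkQ _) (Submodule.mkQ_surjective _)
  have hfinE1 : Module.Finite B (EGA4.FibMod A B E1) :=
    Module.Finite.of_surjective (Submodule.mkQ _) (Submodule.mkQ_surjective _)
  have hfinG : Module.Finite B (EGA4.FibMod A B G) :=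
    Module.Finite.of_surjective (Submodule.mkQ _) (Submodule.mkQ_surjective _)
  have hintQ : ∀ y : LinearMap.range u,
      (LinearMap.range u).subtype y ∈ maximalIdeal A • (⊤ : Submodule A E1) →
        y ∈ maximalIdeal A • (⊤ : Submodule A (LinearMap.range u)) :=
    mem_smul_top_of_flat ((LinearMap.range u).subtype.restrictScalars A) (v.restrictScalars A)
      (Submodule.injective_subtype _) hv (exact_subtype_range u v huv) (maximalIdeal A)
  have hintF : ∀ x : F, f x ∈ maximalIdeal A • (⊤ : Submodule A E0) →
      x ∈ maximalIdeal A • (⊤ : Submodule A F) :=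
    mem_smul_top_of_flat (f.restrictScalars A) (u.rangeRestrict.restrictScalars A)
      hf (LinearMap.surjective_rangeRestrict u) (exact_rangeRestrict f u hfu) (maximalIdeal A)
  have hdQ : ((0 + 1 : ℕ) : ℕ∞) ≤ LocCoh.idealDepth J (EGA4.FibMod A B (LinearMap.range u)) :=
    le_idealDepth_X₁ J (fibMap (A := A) (LinearMap.range u).subtype) (fibMap (A := A) v)
      (fibMap_injective _ hintQ) (fibMap_surjective v hv)
      (fibMap_exact _ v hv (exact_subtype_range u v huv)) 0 (by exact_mod_cast h1) (zero_le)
  have hdF : ((1 + 1 : ℕ) : ℕ∞) ≤ LocCoh.idealDepth J (EGA4.FibMod A B F) :=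
    le_idealDepth_X₁ J (fibMap (A := A) f) (fibMap (A := A) u.rangeRestrict)
      (fibMap_injective _ hintF) (fibMap_surjective _ (LinearMap.surjective_rangeRestrict u))
      (fibMap_exact _ _ (LinearMap.surjective_rangeRestrict u) (exact_rangeRestrict f u hfu)) 1
      (by exact_mod_cast h0) (by exact_mod_cast hdQ)
  exact_mod_cast hdF

include hf hfu huv hv in
theorem flat_of_two_le
    (hGU : ∀ q : PrimeSpectrum B, ¬ J ≤ q.asIdeal → FlatCA.FlatAt A q.asIdeal G)
    (h0 : 2 ≤ LocCoh.idealDepth J (EGA4.FibMod A B E0))
    (h1 : 1 ≤ LocCoh.idealDepth J (EGA4.FibMod A B E1))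
    (h2 : 2 ≤ LocCoh.idealDepth J (EGA4.FibMod A B F)) : Module.Flat A G := by
  have hfinQ : Module.Finite B (EGA4.FibMod A B (LinearMap.range u)) :=
    Module.Finite.of_surjective (Submodule.mkQ _) (Submodule.mkQ_surjective _)
  have hfinF : Module.Finite B (EGA4.FibMod A B F) :=
    Module.Finite.of_surjective (Submodule.mkQ _) (Submodule.mkQ_surjective _)
  have hfinE0 : Module.Finite B (EGA4.FibMod A B E0) :=
    Module.Finite.of_surjective (Submodule.mkQ _) (Submodule.mkQ_surjective _)
  have hfinE1 : Module.Finite B (EGA4.FibMod A B E1) :=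
    Module.Finite.of_surjective (Submodule.mkQ _) (Submodule.mkQ_surjective _)
  -- `Q` is flat off `V(J)`
  have hQU : ∀ q : PrimeSpectrum B, ¬ J ≤ q.asIdeal →
      FlatCA.FlatAt A q.asIdeal (LinearMap.range u) := by
    intro q hq
    have hG : Module.Flat A (LocalizedModule q.asIdeal.primeCompl G) := hGU q hq
    have hE1 : Module.Flat A (LocalizedModule q.asIdeal.primeCompl E1) :=
      flat_localizedModule q.asIdeal.primeCompl
    exact flat_of_exact_of_flat
      ((LocalizedModule.map q.asIdeal.primeCompl (LinearMap.range u).subtype).restrictScalars A)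
      ((LocalizedModule.map q.asIdeal.primeCompl v).restrictScalars A)
      (LocalizedModule.map_injective _ _ (Submodule.injective_subtype _))
      (LocalizedModule.map_surjective _ v hv)
      (LocalizedModule.map_exact _ _ v (exact_subtype_range u v huv))
  -- Step A
  have hF1 : (1 : ℕ∞) ≤ LocCoh.idealDepth J (EGA4.FibMod A B F) := le_trans (by norm_num) h2
  have hintF : ∀ x : F, f x ∈ maximalIdeal A • (⊤ : Submodule A E0) →
      x ∈ maximalIdeal A • (⊤ : Submodule A F) :=
    mem_of_flatAt_of_depth J f u.rangeRestrict hf (LinearMap.surjective_rangeRestrict u)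
      (exact_rangeRestrict f u hfu) hQU
      (fun y hy => eq_zero_of_forall_pow_smul_eq_zero J _ hF1 y hy)
  have hQ : Module.Flat A (LinearMap.range u) :=
    flat_of_exact_of_inter B (f.restrictScalars A) (u.rangeRestrict.restrictScalars A)
      (LinearMap.surjective_rangeRestrict u) (exact_rangeRestrict f u hfu) hintF
  -- Step B
  have hdQ : ((1 : ℕ) : ℕ∞) ≤ LocCoh.idealDepth J (EGA4.FibMod A B (LinearMap.range u)) :=
    le_idealDepth_X₃ J (fibMap (A := A) f) (fibMap (A := A) u.rangeRestrict)
      (fibMap_injective _ hintF) (fibMap_surjective _ (LinearMap.surjective_rangeRestrict u))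
      (fibMap_exact _ _ (LinearMap.surjective_rangeRestrict u) (exact_rangeRestrict f u hfu)) 1
      (le_trans (by norm_num) h0) (by exact_mod_cast h2)
  -- Step C
  have hintQ : ∀ y : LinearMap.range u,
      (LinearMap.range u).subtype y ∈ maximalIdeal A • (⊤ : Submodule A E1) →
        y ∈ maximalIdeal A • (⊤ : Submodule A (LinearMap.range u)) :=
    mem_of_flatAt_of_depth J (LinearMap.range u).subtype v (Submodule.injective_subtype _) hv
      (exact_subtype_range u v huv) hGU
      (fun y hy => eq_zero_of_forall_pow_smul_eq_zero J _ (by exact_mod_cast hdQ) y hy)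
  exact flat_of_exact_of_inter B ((LinearMap.range u).subtype.restrictScalars A)
    (v.restrictScalars A) hv (exact_subtype_range u v huv) hintQ

end main

end Groth.Agent.Lib.Helper18.QGor
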