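import Mathlib
import Groth.Agent.Lib.Helper18.QGor5
import Groth.Agent.Lib.Helper16.FinDimLe2

set_option autoImplicit false
universe u v

open IsLocalRing TensorProduct CategoryTheory Pointwise RingTheory.Sequence

namespace Groth.Agent.Lib.Helper18.QGor

open Groth.Agent.Lib.Helper18.FamCyc Groth.Agent.Lib.Helper18.CM Groth.Agent.Lib.Helper21
  Groth.Agent.Lib.Helper16.Depth Groth.Agent.Lib.Helper16.LC

section loc

variable {A : Type u} [CommRing A] [IsNoetherianRing A] (I : Ideal A)
  (M : Type u) [AddCommGroup M] [Module A M] [Module.Finite A M]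

/-- `depth_I M ≤ depth M_p` for every prime `p ⊇ I` (with `depth 0 = ⊤`). -/
theorem idealDepth_le_depth_localizedModule_of_le (p : Ideal A) [hp : p.IsPrime] (hIp : I ≤ p) :
    LocCoh.idealDepth I M ≤
      LocCoh.depth (Localization.AtPrime p) (LocalizedModule p.primeCompl M) := by
  rw [← ENat.forall_natCast_le_iff_le]
  intro n hn
  rw [le_idealDepth_iff] at hn
  unfold LocCoh.depth
  rw [le_idealDepth_iff]
  rcases hn with hn | ⟨rs, hlen, hreg, hmem⟩
  · left
    rw [eq_top_iff]
    rintro z -
    induction z using LocalizedModule.induction_on with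
    | h m s =>
      have hm : m ∈ I • (⊤ : Submodule A M) := by rw [hn]; exact Submodule.mem_top
      induction hm using Submodule.smul_induction_on' with
      | smul r hr x hx =>
        have : LocalizedModule.mk (r • x) s =
            (algebraMap A (Localization.AtPrime p) r) • LocalizedModule.mk x s := by
          rw [algebraMap_smul, LocalizedModule.smul'_mk]
        rw [this]
        exact Submodule.smul_mem_smul
          ((IsLocalization.AtPrime.to_map_mem_maximal_iff (Localization.AtPrime p) p r).mpr
            (hIp hr)) Submodule.mem_top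
      | add x hx y hy hx' hy' =>
        have : LocalizedModule.mk (x + y) s = LocalizedModule.mk x s + LocalizedModule.mk y s := by
          rw [LocalizedModule.mk_add_mk]
          rw [LocalizedModule.mk_eq]
          refine ⟨1, ?_⟩
          simp only [one_smul, smul_add, mul_smul, Submonoid.smul_def]
        rw [this]
        exact Submodule.add_mem _ hx' hy'
  · right
    refine ⟨rs.map (algebraMap A (Localization.AtPrime p)), by simpa using hlen, ?_, ?_⟩
    · exact IsWeaklyRegular.of_isLocalizedModule (Localization.AtPrime p) p.primeCompl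
        (LocalizedModule.mkLinearMap p.primeCompl M) hreg
    · intro r hr
      obtain ⟨a, ha, rfl⟩ := List.mem_map.mp hr
      exact (IsLocalization.AtPrime.to_map_mem_maximal_iff (Localization.AtPrime p) p a).mpr
        (hIp (hmem a ha))

/-- one step: regular element -/
theorem succ_le_idealDepth_of_quotSMulTop {x : A} (hxI : x ∈ I) (hx : IsSMulRegular M x) (n : ℕ)
    (h : (n : ℕ∞) ≤ LocCoh.idealDepth I (QuotSMulTop x M)) :
    ((n + 1 : ℕ) : ℕ∞) ≤ LocCoh.idealDepth I M := by
  rw [le_idealDepth_iff] at h ⊢
  rcases h with h | h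
  · left
    rw [eq_top_iff]
    rintro m -
    have hm : Submodule.Quotient.mk m ∈ I • (⊤ : Submodule A (QuotSMulTop x M)) :=
      by rw [h]; exact Submodule.mem_top
    have hmap : I • (⊤ : Submodule A (QuotSMulTop x M)) =
        (I • (⊤ : Submodule A M)).map (x • (⊤ : Submodule A M)).mkQ := by
      rw [Submodule.map_smul'', Submodule.map_top, Submodule.range_mkQ]
    rw [hmap] at hm
    obtain ⟨m', hm', hmm'⟩ := hm
    have hd : m' - m ∈ x • (⊤ : Submodule A M) := by
      rw [← Submodule.Quotient.eq]
      exact hmm'
    obtain ⟨y, -, hy⟩ := (Submodule.mem_smul_pointwise_iff_exists _ _ _).mp hd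
    have : m = m' - x • y := by
      rw [hy]; abel
    rw [this]
    exact Submodule.sub_mem _ hm' (Submodule.smul_mem_smul hxI Submodule.mem_top)
  · right
    exact HasRegSeq.cons hxI hx h

/-- `depth_I M = inf_{p ⊇ I} depth M_p`: the nontrivial inequality. -/
theorem le_idealDepth_of_forall_le_depth : ∀ (n : ℕ) (M : Type u) [AddCommGroup M] [Module A M]
    [Module.Finite A M],
    (∀ (p : Ideal A) [p.IsPrime], I ≤ p → (n : ℕ∞) ≤
      LocCoh.depth (Localization.AtPrime p) (LocalizedModule p.primeCompl M)) →
    (n : ℕ∞) ≤ LocCoh.idealDepth I M := by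
  intro n
  induction n with
  | zero => intro M _ _ _ _; simp
  | succ n ih =>
    intro M _ _ _ h
    have hass : ∀ Q ∈ associatedPrimes A M, ¬ I ≤ Q := by
      intro Q hQ hIQ
      have hQp : Q.IsPrime := hQ.isPrime
      have h0 := (depth_localizedModule_eq_zero_iff M Q).mpr hQ
      have := h Q hIQ
      rw [h0] at this
      simp at this
    obtain ⟨x, hxI, hx⟩ := exists_mem_isSMulRegular_of_forall_not_le I M hass
    apply succ_le_idealDepth_of_quotSMulTop I M hxI hx n
    apply ih
    intro p hp hIp
    have h1 := depth_localization_quotSMulTop p M x (hIp hxI) hx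
    have h2 := h p hIp
    rw [← h1] at h2
    push_cast at h2
    exact (ENat.add_le_add_iff_right (by simp)).mp h2

theorem le_idealDepth_iff_forall_le_depth (n : ℕ) :
    (n : ℕ∞) ≤ LocCoh.idealDepth I M ↔
    (∀ (p : Ideal A) [p.IsPrime], I ≤ p → (n : ℕ∞) ≤
      LocCoh.depth (Localization.AtPrime p) (LocalizedModule p.primeCompl M)) :=
  ⟨fun h p _ hIp => h.trans (idealDepth_le_depth_localizedModule_of_le I M p hIp),
    le_idealDepth_of_forall_le_depth I n M⟩

end loc

end Groth.Agent.Lib.Helper18.QGor
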