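import Mathlib
import Groth.Agent.Lib.Helper18.QGor6
import Groth.Agent.Lib.Helper18.TensorDim

set_option autoImplicit false
universe u v

open IsLocalRing TensorProduct CategoryTheory Pointwise RingTheory.Sequence

namespace Groth.Agent.Lib.Helper18.QGor

open Groth.Agent.Lib.Helper18.FamCyc Groth.Agent.Lib.Helper18.CM Groth.Agent.Lib.Helper21
  Groth.Agent.Lib.Helper16.Depth Groth.Agent.Lib.Helper16.LC

section order

theorem wb_two_le {n : ℕ∞} : (2 : WithBot ℕ∞) ≤ (n : WithBot ℕ∞) ↔ 2 ≤ n := by
  have : ((2 : ℕ∞) : WithBot ℕ∞) ≤ (n : WithBot ℕ∞) ↔ 2 ≤ n := WithBot.coe_le_coe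
  exact this

theorem wb_one_le {n : ℕ∞} : (1 : WithBot ℕ∞) ≤ (n : WithBot ℕ∞) ↔ 1 ≤ n := by
  have : ((1 : ℕ∞) : WithBot ℕ∞) ≤ (n : WithBot ℕ∞) ↔ 1 ≤ n := WithBot.coe_le_coe
  exact this

theorem wb_zero_le (n : ℕ∞) : (0 : WithBot ℕ∞) ≤ (n : WithBot ℕ∞) := by
  exact_mod_cast (zero_le (a := n))

theorem sk_aux1 (s : WithBot ℕ∞) (d : ℕ∞) (h : 1 ≤ s → 1 ≤ d) :
    min (1 : WithBot ℕ∞) s ≤ (d : WithBot ℕ∞) := by
  induction s using WithBot.recBotCoe with
  | bot => simp
  | coe n =>
    by_cases hn : 1 ≤ n
    · have := h (wb_one_le.mpr hn)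
      exact (min_le_left _ _).trans (wb_one_le.mpr this)
    · have hn0 : n = 0 := by
        rw [not_le, Order.lt_one_iff] at hn
        exact hn
      subst hn0
      exact (min_le_right _ _).trans (wb_zero_le d)

theorem sk_aux2 (s : WithBot ℕ∞) (d : ℕ∞) (h1 : 1 ≤ s → 1 ≤ d) (h2 : 2 ≤ s → 2 ≤ d) :
    min (2 : WithBot ℕ∞) s ≤ (d : WithBot ℕ∞) := by
  induction s using WithBot.recBotCoe with
  | bot => simp
  | coe n =>
    by_cases hn : 2 ≤ n
    · have := h2 (wb_two_le.mpr hn)
      exact (min_le_left _ _).trans (wb_two_le.mpr this)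
    · rw [not_le] at hn
      have hn' : n ≠ ⊤ := ne_top_of_lt hn
      obtain ⟨k, rfl⟩ := ENat.ne_top_iff_exists.mp hn'
      have hk : k < 2 := by exact_mod_cast hn
      refine (min_le_right _ _).trans ?_
      interval_cases k
      · exact wb_zero_le d
      · have := h1 (wb_one_le.mpr (by norm_num))
        exact wb_one_le.mpr this

theorem one_le_of_min_le {k : ℕ} (hk : 1 ≤ k) {s : WithBot ℕ∞} {d : ℕ∞}
    (h : min (k : WithBot ℕ∞) s ≤ (d : WithBot ℕ∞)) (hs : 1 ≤ s) : 1 ≤ d := by
  have h1 : (1 : WithBot ℕ∞) ≤ (k : WithBot ℕ∞) := by exact_mod_cast hk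
  exact wb_one_le.mp ((le_min h1 hs).trans h)

theorem two_le_of_min_le {s : WithBot ℕ∞} {d : ℕ∞}
    (h : min (2 : WithBot ℕ∞) s ≤ (d : WithBot ℕ∞)) (hs : 2 ≤ s) : 2 ≤ d :=
  wb_two_le.mp ((le_min le_rfl hs).trans h)

end order

section supp

variable {A : Type u} [CommRing A] (p : Ideal A) [hp : p.IsPrime]
  (M : Type u) [AddCommGroup M] [Module A M]

theorem mem_support_localizedModule_iff (Q : PrimeSpectrum (Localization.AtPrime p)) :
    Q ∈ Module.support (Localization.AtPrime p) (LocalizedModule p.primeCompl M) ↔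
      PrimeSpectrum.comap (algebraMap A (Localization.AtPrime p)) Q ∈ Module.support A M := by
  have hQp : ∀ t : A, t ∉ p → algebraMap A (Localization.AtPrime p) t ∉ Q.asIdeal := by
    intro t ht htQ
    have hu : IsUnit (algebraMap A (Localization.AtPrime p) t) :=
      IsLocalization.map_units (Localization.AtPrime p) (⟨t, ht⟩ : p.primeCompl)
    exact Q.isPrime.ne_top (Ideal.eq_top_of_isUnit_mem _ htQ hu)
  rw [Module.mem_support_iff_exists_annihilator, Module.mem_support_iff_exists_annihilator]
  constructor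
  · rintro ⟨z, hz⟩
    induction z using LocalizedModule.induction_on with
    | h m s =>
      refine ⟨m, ?_⟩
      intro a ha
      change algebraMap A (Localization.AtPrime p) a ∈ Q.asIdeal
      apply hz
      rw [Submodule.mem_annihilator_span_singleton] at ha ⊢
      rw [algebraMap_smul, LocalizedModule.smul'_mk, ha, LocalizedModule.zero_mk]
  · rintro ⟨m, hm⟩
    refine ⟨LocalizedModule.mk m 1, ?_⟩
    intro x hx
    obtain ⟨a, s, rfl⟩ := IsLocalization.exists_mk'_eq p.primeCompl x
    rw [Submodule.mem_annihilator_span_singleton] at hx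
    have h1 : algebraMap A (Localization.AtPrime p) a • LocalizedModule.mk m (1 : p.primeCompl)
        = 0 := by
      have : algebraMap A (Localization.AtPrime p) a =
          algebraMap A (Localization.AtPrime p) s * IsLocalization.mk' _ a s := by
        rw [IsLocalization.mul_mk'_eq_mk'_of_mul, IsLocalization.mk'_mul_cancel_left]
      rw [this, mul_smul, hx, smul_zero]
    rw [algebraMap_smul, LocalizedModule.smul'_mk, ← LocalizedModule.zero_mk (1 : p.primeCompl),
      LocalizedModule.mk_eq] at h1
    obtain ⟨t, ht⟩ := h1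
    simp only [one_smul, smul_zero] at ht
    have hta : (t : A) * a ∈ (PrimeSpectrum.comap (algebraMap A (Localization.AtPrime p)) Q).asIdeal := by
      apply hm
      rw [Submodule.mem_annihilator_span_singleton, mul_smul]
      exact ht
    change algebraMap A (Localization.AtPrime p) ((t : A) * a) ∈ Q.asIdeal at hta
    rw [map_mul] at hta
    have ha : algebraMap A (Localization.AtPrime p) a ∈ Q.asIdeal :=
      (Q.isPrime.mem_or_mem hta).resolve_left (hQp t t.2)
    rw [IsLocalization.mk'_eq_mul_mk'_one]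
    exact Ideal.mul_mem_right _ _ ha

theorem supportDim_localizedModule_le_of_support_subset
    (N : Type u) [AddCommGroup N] [Module A N]
    (h : Module.support A M ⊆ Module.support A N) :
    Module.supportDim (Localization.AtPrime p) (LocalizedModule p.primeCompl M) ≤
      Module.supportDim (Localization.AtPrime p) (LocalizedModule p.primeCompl N) := by
  apply supportDim_le_of_support_subset
  intro Q hQ
  rw [mem_support_localizedModule_iff] at hQ ⊢
  exact h hQ

end supp

section localSk

variable {R : Type u} [CommRing R] [IsLocalRing R] [IsNoetherianRing R]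
  {N M Q M' : Type u} [AddCommGroup N] [Module R N] [Module.Finite R N]
  [AddCommGroup M] [Module R M] [Module.Finite R M]
  [AddCommGroup Q] [Module R Q] [Module.Finite R Q]
  [AddCommGroup M'] [Module R M'] [Module.Finite R M']

theorem one_le_depth_of_injective (f : N →ₗ[R] M) (hf : Function.Injective f)
    (hM : 1 ≤ LocCoh.depth R M) : 1 ≤ LocCoh.depth R N := by
  have := le_idealDepth_X₁ (maximalIdeal R) f (LinearMap.range f).mkQ hf
    (Submodule.mkQ_surjective _) (LinearMap.exact_map_mkQ_range f) 0 (by simpa [LocCoh.depth] using hM) (by simp)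
  simpa [LocCoh.depth] using this

theorem sk_one_of_injective (f : N →ₗ[R] M) (hf : Function.Injective f)
    (hM : min (1 : WithBot ℕ∞) (Module.supportDim R M) ≤
      ((LocCoh.depth R M : ℕ∞) : WithBot ℕ∞)) :
    min (1 : WithBot ℕ∞) (Module.supportDim R N) ≤ ((LocCoh.depth R N : ℕ∞) : WithBot ℕ∞) := by
  apply sk_aux1
  intro hs
  have hsM : 1 ≤ Module.supportDim R M := hs.trans (Module.supportDim_le_of_injective f hf)
  have hdM : 1 ≤ LocCoh.depth R M :=
    one_le_of_min_le (k := 1) le_rfl (by simpa using hM) hsM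
  exact one_le_depth_of_injective f hf hdM

theorem sk_two_of_exact (f : N →ₗ[R] M) (g : M →ₗ[R] Q) (j : Q →ₗ[R] M')
    (hf : Function.Injective f) (hg : Function.Surjective g) (hfg : Function.Exact f g)
    (hj : Function.Injective j)
    (hM : min (2 : WithBot ℕ∞) (Module.supportDim R M) ≤
      ((LocCoh.depth R M : ℕ∞) : WithBot ℕ∞))
    (hM' : min (1 : WithBot ℕ∞) (Module.supportDim R M') ≤
      ((LocCoh.depth R M' : ℕ∞) : WithBot ℕ∞))
    (hsupp : 2 ≤ Module.supportDim R N → 1 ≤ Module.supportDim R M') :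
    min (2 : WithBot ℕ∞) (Module.supportDim R N) ≤ ((LocCoh.depth R N : ℕ∞) : WithBot ℕ∞) := by
  apply sk_aux2
  · intro hs
    have hsM : 1 ≤ Module.supportDim R M := hs.trans (Module.supportDim_le_of_injective f hf)
    have hdM : 1 ≤ LocCoh.depth R M :=
      one_le_of_min_le (k := 2) (by norm_num) (by simpa using hM) hsM
    exact one_le_depth_of_injective f hf hdM
  · intro hs
    have hsM : 2 ≤ Module.supportDim R M := hs.trans (Module.supportDim_le_of_injective f hf)
    have hdM : 2 ≤ LocCoh.depth R M := two_le_of_min_le hM hsM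
    have hdM' : 1 ≤ LocCoh.depth R M' :=
      one_le_of_min_le (k := 1) le_rfl (by simpa using hM') (hsupp hs)
    have hdQ : 1 ≤ LocCoh.depth R Q := one_le_depth_of_injective j hj hdM'
    have := le_idealDepth_X₁ (maximalIdeal R) f g hf hg hfg 1 (by simpa [LocCoh.depth] using hdM)
      (by simpa [LocCoh.depth] using hdQ)
    simpa [LocCoh.depth] using this

end localSk

section kerSk

variable {A : Type u} [CommRing A] [IsNoetherianRing A]
  {E0 E1 : Type u} [AddCommGroup E0] [Module A E0] [Module.Finite A E0] [AddCommGroup E1]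
  [Module A E1] [Module.Finite A E1] (u : E0 →ₗ[A] E1)

theorem hasSk_one_ker (h : LocCoh.HasSk 1 A E0) : LocCoh.HasSk 1 A (LinearMap.ker u) := by
  intro p hp
  have hnoeth : IsNoetherianRing (Localization.AtPrime p) :=
    IsLocalization.isNoetherianRing p.primeCompl _ inferInstance
  have h0 := h p
  simp only [Nat.cast_one] at h0 ⊢
  exact sk_one_of_injective (LocalizedModule.map p.primeCompl (LinearMap.ker u).subtype)
    (LocalizedModule.map_injective _ _ (Submodule.injective_subtype _)) h0

theorem hasSk_two_ker (hsupp : Module.support A (LinearMap.ker u) ⊆ Module.support A E1)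
    (h1 : LocCoh.HasSk 1 A E1) (h0 : LocCoh.HasSk 2 A E0) :
    LocCoh.HasSk 2 A (LinearMap.ker u) := by
  intro p hp
  have hnoeth : IsNoetherianRing (Localization.AtPrime p) :=
    IsLocalization.isNoetherianRing p.primeCompl _ inferInstance
  have h0' := h0 p
  have h1' := h1 p
  simp only [Nat.cast_one, Nat.cast_ofNat] at h0' h1' ⊢
  refine sk_two_of_exact (LocalizedModule.map p.primeCompl (LinearMap.ker u).subtype)
    (LocalizedModule.map p.primeCompl u.rangeRestrict)
    (LocalizedModule.map p.primeCompl (LinearMap.range u).subtype)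
    (LocalizedModule.map_injective _ _ (Submodule.injective_subtype _))
    (LocalizedModule.map_surjective _ _ u.surjective_rangeRestrict)
    (LocalizedModule.map_exact _ _ _
      (exact_rangeRestrict (LinearMap.ker u).subtype u (LinearMap.exact_subtype_ker_map u)))
    (LocalizedModule.map_injective _ _ (Submodule.injective_subtype _)) h0' h1' ?_
  intro h2
  have := supportDim_localizedModule_le_of_support_subset p (LinearMap.ker u) E1 hsupp
  exact le_trans (le_trans (by norm_num) h2) this

end kerSk

end Groth.Agent.Lib.Helper18.QGor
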