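import Mathlib
import Groth.Prelude.Def_EGA4b
import Groth.Agent.Lib.Helper16.DepthLocalize
import Groth.Agent.Lib.Helper18.QGor7
import Groth.Agent.Lib.Helper18.FamCyc1

set_option autoImplicit false
set_option linter.unusedSectionVars false
set_option linter.style.haveILetI false
universe u
open IsLocalRing

namespace Groth.Agent.Lib.Helper18.SkAt

open Groth.Agent.Lib.Helper18.QGor

variable {A : Type u} [CommRing A] (p : Ideal A) [hp : p.IsPrime]
  (M : Type u) [AddCommGroup M] [Module A M]

theorem comap_le_of_prime (Q : PrimeSpectrum (Localization.AtPrime p)) :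
    (PrimeSpectrum.comap (algebraMap A (Localization.AtPrime p)) Q).asIdeal ≤ p := by
  intro x hxQ
  by_contra hxp
  have hu : IsUnit (algebraMap A (Localization.AtPrime p) x) :=
    IsLocalization.map_units (Localization.AtPrime p) (⟨x, hxp⟩ : p.primeCompl)
  exact Q.isPrime.ne_top (Ideal.eq_top_of_isUnit_mem _ hxQ hu)

/-- primes of `Supp M_p` below `Q'` correspond to primes of `Supp M` below `Q' ∩ A` -/
noncomputable def iicOrderIso (P : Ideal (Localization.AtPrime p)) [hP : P.IsPrime] :
    {Q'' : Module.support (Localization.AtPrime p) (LocalizedModule p.primeCompl M) //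
        Q''.1.asIdeal ≤ P} ≃o
      {Q : Module.support A M //
        Q.1.asIdeal ≤ P.comap (algebraMap A (Localization.AtPrime p))} where
  toFun Q'' := ⟨⟨PrimeSpectrum.comap (algebraMap A (Localization.AtPrime p)) Q''.1.1,
      (mem_support_localizedModule_iff p M Q''.1.1).mp Q''.1.2⟩,
    Ideal.comap_mono Q''.2⟩
  invFun Q :=
    have hdisj : Disjoint (p.primeCompl : Set A) (Q.1.1.asIdeal : Set A) := by
      rw [Set.disjoint_left]
      intro x hx hxQ
      exact hx (comap_le_of_prime p ⟨P, hP⟩ (Q.2 hxQ))
    have hprime : (Q.1.1.asIdeal.map (algebraMap A (Localization.AtPrime p))).IsPrime :=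
      IsLocalization.isPrime_of_isPrime_disjoint p.primeCompl (Localization.AtPrime p) _
        Q.1.1.isPrime hdisj
    have hcm : (Q.1.1.asIdeal.map (algebraMap A (Localization.AtPrime p))).comap
        (algebraMap A (Localization.AtPrime p)) = Q.1.1.asIdeal :=
      IsLocalization.under_map_of_isPrime_disjoint p.primeCompl (Localization.AtPrime p)
        Q.1.1.isPrime hdisj
    ⟨⟨⟨Q.1.1.asIdeal.map (algebraMap A (Localization.AtPrime p)), hprime⟩, by
      rw [mem_support_localizedModule_iff]
      have : PrimeSpectrum.comap (algebraMap A (Localization.AtPrime p))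
          ⟨Q.1.1.asIdeal.map (algebraMap A (Localization.AtPrime p)), hprime⟩ = Q.1.1 := by
        ext1
        exact hcm
      rw [this]
      exact Q.1.2⟩, by
      change Q.1.1.asIdeal.map (algebraMap A (Localization.AtPrime p)) ≤ P
      rw [Ideal.map_le_iff_le_comap]
      exact Q.2⟩
  left_inv Q'' := by
    apply Subtype.ext
    apply Subtype.ext
    ext1
    exact IsLocalization.map_under p.primeCompl (Localization.AtPrime p) Q''.1.1.asIdeal
  right_inv Q := by
    apply Subtype.ext
    apply Subtype.ext
    ext1
    have hdisj : Disjoint (p.primeCompl : Set A) (Q.1.1.asIdeal : Set A) := by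
      rw [Set.disjoint_left]
      intro x hx hxQ
      exact hx (comap_le_of_prime p ⟨P, hP⟩ (Q.2 hxQ))
    exact IsLocalization.under_map_of_isPrime_disjoint p.primeCompl (Localization.AtPrime p)
      Q.1.1.isPrime hdisj
  map_rel_iff' := by
    intro Q₁ Q₂
    constructor
    · intro h
      have h' : Ideal.comap (algebraMap A (Localization.AtPrime p)) Q₁.1.1.asIdeal ≤
          Ideal.comap (algebraMap A (Localization.AtPrime p)) Q₂.1.1.asIdeal := h
      change Q₁.1.1.asIdeal ≤ Q₂.1.1.asIdeal
      rw [← IsLocalization.map_under p.primeCompl (Localization.AtPrime p) Q₁.1.1.asIdeal,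
        ← IsLocalization.map_under p.primeCompl (Localization.AtPrime p) Q₂.1.1.asIdeal]
      exact Ideal.map_mono h'
    · intro h
      have h' : Q₁.1.1.asIdeal ≤ Q₂.1.1.asIdeal := h
      exact Ideal.comap_mono h'

/-- `dim M_p` is the Krull dimension of the set of primes of `Supp M` contained in `p` -/
theorem supportDim_localizedModule_eq_krullDim :
    Module.supportDim (Localization.AtPrime p) (LocalizedModule p.primeCompl M) =
      Order.krullDim {Q : Module.support A M // Q.1.asIdeal ≤ p} := by
  have h1 := Order.krullDim_eq_of_orderIso (iicOrderIso p M (maximalIdeal (Localization.AtPrime p)))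
  have hc : (maximalIdeal (Localization.AtPrime p)).comap (algebraMap A (Localization.AtPrime p)) = p :=
    IsLocalization.AtPrime.under_maximalIdeal (Localization.AtPrime p) p
  rw [hc] at h1
  rw [← h1]
  unfold Module.supportDim
  let e : Module.support (Localization.AtPrime p) (LocalizedModule p.primeCompl M) ≃o
      {Q'' : Module.support (Localization.AtPrime p) (LocalizedModule p.primeCompl M) //
        Q''.1.asIdeal ≤ maximalIdeal (Localization.AtPrime p)} :=
    { toFun := fun Q => ⟨Q, IsLocalRing.le_maximalIdeal Q.1.isPrime.ne_top⟩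
      invFun := fun Q => Q.1
      left_inv := fun _ => rfl
      right_inv := fun _ => rfl
      map_rel_iff' := Iff.rfl }
  exact Order.krullDim_eq_of_orderIso e

/-- `dim (M_p)_P = dim M_{P ∩ A}` -/
theorem supportDim_localization_localization (P : Ideal (Localization.AtPrime p)) [P.IsPrime] :
    Module.supportDim (Localization.AtPrime P)
        (LocalizedModule P.primeCompl (LocalizedModule p.primeCompl M)) =
      Module.supportDim (Localization.AtPrime (P.comap (algebraMap A (Localization.AtPrime p))))
        (LocalizedModule (P.comap (algebraMap A (Localization.AtPrime p))).primeCompl M) := by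
  rw [supportDim_localizedModule_eq_krullDim, supportDim_localizedModule_eq_krullDim]
  exact Order.krullDim_eq_of_orderIso (iicOrderIso p M P)

section sk

variable [IsNoetherianRing A] [Module.Finite A M]

/-- the local `(S_k)` inequality at a prime -/
def SkIneq (k : ℕ) (P : Ideal A) [P.IsPrime] : Prop :=
  min (k : WithBot ℕ∞)
      (Module.supportDim (Localization.AtPrime P) (LocalizedModule P.primeCompl M)) ≤
    ((LocCoh.depth (Localization.AtPrime P) (LocalizedModule P.primeCompl M) : ℕ∞) : WithBot ℕ∞)

theorem skIneq_congr (k : ℕ) {P P' : Ideal A} [P.IsPrime] [P'.IsPrime] (h : P = P') :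
    SkIneq M k P ↔ SkIneq M k P' := by
  subst h
  rfl

theorem hasSk_iff_skIneq (k : ℕ) :
    LocCoh.HasSk k A M ↔ ∀ (P : Ideal A) [P.IsPrime], SkIneq M k P := Iff.rfl

/-- `(S_k)` at `p` means the `(S_k)` inequality at all generizations of `p` -/
theorem hasSkAt_iff (k : ℕ) :
    EGA4.HasSkAt k A M p ↔ ∀ (P : Ideal A) [P.IsPrime], P ≤ p → SkIneq M k P := by
  unfold EGA4.HasSkAt LocCoh.HasSk
  constructor
  · intro h P hP hPp
    have hdisj : Disjoint (p.primeCompl : Set A) (P : Set A) := by
      rw [Set.disjoint_left]
      intro x hx hxP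
      exact hx (hPp hxP)
    have hprime : (P.map (algebraMap A (Localization.AtPrime p))).IsPrime :=
      IsLocalization.isPrime_of_isPrime_disjoint p.primeCompl (Localization.AtPrime p) _ hP hdisj
    have hcm : (P.map (algebraMap A (Localization.AtPrime p))).comap
        (algebraMap A (Localization.AtPrime p)) = P :=
      IsLocalization.under_map_of_isPrime_disjoint p.primeCompl (Localization.AtPrime p) hP hdisj
    have h1 := h (P.map (algebraMap A (Localization.AtPrime p)))
    rw [supportDim_localization_localization,
      Groth.Agent.Lib.Helper16.Depth.depth_localization_localization] at h1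
    exact (skIneq_congr M k hcm).mp h1
  · intro h Q' _
    rw [supportDim_localization_localization,
      Groth.Agent.Lib.Helper16.Depth.depth_localization_localization]
    exact h _ (comap_le_of_prime p ⟨Q', inferInstance⟩)

omit [Module.Finite A M] in
theorem mem_support_of_mem_associatedPrimes {P : Ideal A} [hP : P.IsPrime]
    (h : P ∈ associatedPrimes A M) : (⟨P, hP⟩ : PrimeSpectrum A) ∈ Module.support A M := by
  rw [Module.mem_support_iff_exists_annihilator]
  obtain ⟨_, m, hm⟩ := (isAssociatedPrime_iff).mp h
  refine ⟨m, ?_⟩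
  intro a ha
  change a ∈ P
  rw [hm, Submodule.mem_colon_singleton, Submodule.mem_bot]
  exact (Submodule.mem_annihilator_span_singleton _ _).mp ha

/-- `dim M_P ≤ 0` iff `P` is minimal among the primes of `Supp M` below it -/
theorem supportDim_localizedModule_le_zero_iff (P : Ideal A) [hP : P.IsPrime]
    (hPs : (⟨P, hP⟩ : PrimeSpectrum A) ∈ Module.support A M) :
    Module.supportDim (Localization.AtPrime P) (LocalizedModule P.primeCompl M) ≤ 0 ↔
      ∀ Q : Module.support A M, Q.1.asIdeal ≤ P → P ≤ Q.1.asIdeal := by
  rw [supportDim_localizedModule_eq_krullDim, Order.krullDim_nonpos_iff_forall_isMin]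
  constructor
  · intro h Q hQ
    have h1 := h ⟨⟨⟨P, hP⟩, hPs⟩, le_rfl⟩
    have h2 : (⟨Q, hQ⟩ : {Q : Module.support A M // Q.1.asIdeal ≤ P}) ≤ ⟨⟨⟨P, hP⟩, hPs⟩, le_rfl⟩ := hQ
    exact h1 h2
  · intro h x y hyx
    have h1 : y.1.1.asIdeal ≤ x.1.1.asIdeal := hyx
    have h2 := h y.1 y.2
    have h3 : x.1.1.asIdeal ≤ y.1.1.asIdeal := le_trans x.2 h2
    exact h3

/-- `(S_1)` at a prime: an associated prime must be minimal in the support -/
theorem skIneq_one_iff (P : Ideal A) [hP : P.IsPrime] :
    SkIneq M 1 P ↔ (P ∈ associatedPrimes A M →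
      ∀ Q : Module.support A M, Q.1.asIdeal ≤ P → P ≤ Q.1.asIdeal) := by
  unfold SkIneq
  constructor
  · intro h hass
    have hPs : (⟨P, hP⟩ : PrimeSpectrum A) ∈ Module.support A M :=
      mem_support_of_mem_associatedPrimes M hass
    rw [← supportDim_localizedModule_le_zero_iff M P hPs]
    rw [(Groth.Agent.Lib.Helper18.FamCyc.depth_localizedModule_eq_zero_iff M P).mpr hass] at h
    rw [min_le_iff] at h
    rcases h with h | h
    · exfalso
      have : (1 : ℕ∞) ≤ 0 := by exact_mod_cast h
      simp at this
    · exact_mod_cast h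
  · intro h
    by_cases hd : LocCoh.depth (Localization.AtPrime P) (LocalizedModule P.primeCompl M) = 0
    · have hass := (Groth.Agent.Lib.Helper18.FamCyc.depth_localizedModule_eq_zero_iff M P).mp hd
      have hPs : (⟨P, hP⟩ : PrimeSpectrum A) ∈ Module.support A M :=
        mem_support_of_mem_associatedPrimes M hass
      have h1 := (supportDim_localizedModule_le_zero_iff M P hPs).mpr (h hass)
      rw [hd]
      exact le_trans (min_le_right _ _) (by exact_mod_cast h1)
    · have h1 : (1 : ℕ∞) ≤ LocCoh.depth (Localization.AtPrime P)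
          (LocalizedModule P.primeCompl M) := Order.one_le_iff_ne_zero.mpr hd
      refine le_trans (min_le_left _ _) ?_
      exact_mod_cast h1

end sk

end Groth.Agent.Lib.Helper18.SkAt
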