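import Mathlib
import Groth.Prelude.Def_EGA4b
import Groth.Agent.Lib.Helper18.ModFib
import Groth.Agent.Lib.Helper18.SkAt
import Groth.Agent.Lib.Helper18.FibBridge
import Groth.Agent.Lib.Helper18.CM9
import Groth.Agent.Lib.Helper16.DepthLocalize
import Groth.Agent.Lib.Helper18.CM5
import Groth.Agent.Lib.Helper18.FamCyc1
import Groth.Agent.Lib.Helper18.TensorCM

set_option autoImplicit false
set_option linter.unusedSectionVars false
set_option linter.style.haveILetI false
universe u
open IsLocalRing TensorProduct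

namespace Groth.Agent.Lib.Helper18.SkMod

open Groth.Agent.Lib.Helper18.CM Groth.Agent.Lib.Helper18.SkAt

section numeric

theorem sk_add_gen {n : ℕ} {a b : WithBot ℕ∞} {x y : ℕ∞}
    (ha : a ≠ ((⊤ : ℕ∞) : WithBot ℕ∞)) (hb : b ≠ ((⊤ : ℕ∞) : WithBot ℕ∞))
    (h1 : min (n : WithBot ℕ∞) a ≤ ((x : ℕ∞) : WithBot ℕ∞))
    (h2 : min (n : WithBot ℕ∞) b ≤ ((y : ℕ∞) : WithBot ℕ∞)) :
    min (n : WithBot ℕ∞) (a + b) ≤ (((x + y : ℕ∞)) : WithBot ℕ∞) := by
  induction a with
  | bot => simp
  | coe a =>
    induction b with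
    | bot => simp
    | coe b =>
      have ha' : a ≠ ⊤ := fun h => ha (by rw [h])
      have hb' : b ≠ ⊤ := fun h => hb (by rw [h])
      obtain ⟨a, rfl⟩ := ENat.ne_top_iff_exists.mp ha'
      obtain ⟨b, rfl⟩ := ENat.ne_top_iff_exists.mp hb'
      exact Groth.Agent.Lib.Helper18.FibBridge.sk_add h1 h2

end numeric

section selfLoc

variable (R : Type u) [CommRing R] [IsNoetherianRing R] [IsLocalRing R]
  (N : Type u) [AddCommGroup N] [Module R N] [Module.Finite R N]

theorem depth_localizedModule_maximalIdeal :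
    LocCoh.depth (Localization.AtPrime (maximalIdeal R))
      (LocalizedModule (maximalIdeal R).primeCompl N) = LocCoh.depth R N := by
  haveI : IsLocalization.AtPrime R (maximalIdeal R) := by
    apply IsLocalization.self
    intro x hx
    exact (IsLocalRing.notMem_maximalIdeal.mp hx)
  haveI : IsLocalizedModule (maximalIdeal R).primeCompl (LinearMap.id : N →ₗ[R] N) :=
    isLocalizedModule_id _ N R
  exact (Groth.Agent.Lib.Helper16.Depth.depth_eq_of_isLocalizedModule (maximalIdeal R) N R N
    LinearMap.id).symm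

theorem supportDim_localizedModule_maximalIdeal :
    Module.supportDim (Localization.AtPrime (maximalIdeal R))
      (LocalizedModule (maximalIdeal R).primeCompl N) = Module.supportDim R N := by
  rw [supportDim_localizedModule_eq_krullDim]
  unfold Module.supportDim
  let e : {Q : Module.support R N // Q.1.asIdeal ≤ maximalIdeal R} ≃o Module.support R N :=
    { toFun := fun Q => Q.1
      invFun := fun Q => ⟨Q, IsLocalRing.le_maximalIdeal Q.1.2.ne_top⟩
      left_inv := fun Q => rfl
      right_inv := fun Q => rfl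
      map_rel_iff' := Iff.rfl }
  exact Order.krullDim_eq_of_orderIso e

end selfLoc

section fib

variable (A B : Type u) [CommRing A] [CommRing B] [IsNoetherianRing B] [Algebra A B]
  (Q : Ideal B) [Q.IsPrime] (F : Type u) [AddCommGroup F] [Module B F] [Module.Finite B F]

theorem isLocalRing_fibLocRing : IsLocalRing (EGA4.FibLocRing A B Q) := by
  apply Groth.Agent.Lib.Helper21.isLocalRing_quotient_of_le_maximalIdeal
  rw [Ideal.map_le_iff_le_comap]
  intro x hx
  rw [Ideal.mem_comap, IsScalarTower.algebraMap_apply A B (Localization.AtPrime Q)]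
  have h3 : (maximalIdeal (Localization.AtPrime Q)).under B = Q :=
    Localization.AtPrime.under_maximalIdeal
  have h4 : algebraMap A B x ∈ (maximalIdeal (Localization.AtPrime Q)).under B := by
    rw [h3]; exact hx
  exact h4

/-- `(S_k)` of the fibre module over the fibre ring, read over `B_Q` -/
theorem skIneq_fibLocMod (k : ℕ)
    (h : LocCoh.HasSk k (EGA4.FibLocRing A B Q) (EGA4.FibLocMod A B Q F)) :
    min (k : WithBot ℕ∞) (Module.supportDim (Localization.AtPrime Q) (EGA4.FibLocMod A B Q F)) ≤
      ((LocCoh.depth (Localization.AtPrime Q) (EGA4.FibLocMod A B Q F) : ℕ∞) : WithBot ℕ∞) := by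
  haveI hloc := isLocalRing_fibLocRing A B Q
  haveI : IsNoetherianRing (Localization.AtPrime Q) :=
    IsLocalization.isNoetherianRing Q.primeCompl _ inferInstance
  haveI : IsLocalHom (algebraMap (Localization.AtPrime Q) (EGA4.FibLocRing A B Q)) :=
    IsLocalHom.of_surjective _ Ideal.Quotient.mk_surjective
  haveI hfin : Module.Finite (Localization.AtPrime Q) (EGA4.FibLocMod A B Q F) := inferInstance
  haveI : Module.Finite (EGA4.FibLocRing A B Q) (EGA4.FibLocMod A B Q F) :=
    Module.Finite.of_restrictScalars_finite (Localization.AtPrime Q) _ _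
  have h1 := h (maximalIdeal (EGA4.FibLocRing A B Q))
  rw [depth_localizedModule_maximalIdeal, supportDim_localizedModule_maximalIdeal] at h1
  rw [supportDim_quotient_ring_eq] at h1
  rw [← depth_eq_of_finite (A := Localization.AtPrime Q) (B := EGA4.FibLocRing A B Q)] at h1
  exact h1

end fib

section ascent

variable (k : ℕ) (A B : Type u) [CommRing A] [CommRing B] [IsNoetherianRing A]
  [IsNoetherianRing B] [Algebra A B]
  (E : Type u) [AddCommGroup E] [Module A E] [Module.Finite A E]
  (F : Type u) [AddCommGroup F] [Module B F] [Module A F] [IsScalarTower A B F]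
  [Module.Finite B F] [Module.Flat A F]

instance finite_tensor' : Module.Finite B (F ⊗[A] E) :=
  Module.Finite.of_surjective
    (TensorProduct.AlgebraTensorModule.cancelBaseChange A B B F E).toLinearMap
    (TensorProduct.AlgebraTensorModule.cancelBaseChange A B B F E).surjective

theorem supportDim_ne_top' {R : Type u} [CommRing R] [IsNoetherianRing R] [IsLocalRing R]
    (N : Type u) [AddCommGroup N] [Module R N] :
    Module.supportDim R N ≠ ((⊤ : ℕ∞) : WithBot ℕ∞) := by
  intro h
  have h1 := Module.supportDim_le_ringKrullDim R N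
  rw [h] at h1
  exact absurd (lt_of_le_of_lt h1 ringKrullDim_lt_top) (lt_irrefl _)

theorem skIneq_tensor (Q : Ideal B) [Q.IsPrime]
    (hfib : LocCoh.HasSk k (EGA4.FibLocRing A B Q) (EGA4.FibLocMod A B Q F))
    (hE : SkIneq E k (Q.comap (algebraMap A B))) : SkIneq (F ⊗[A] E) k Q := by
  unfold SkIneq at hE ⊢
  rw [ModFib.supportDim_localizedModule_tensor, ModFib.depth_localizedModule_tensor]
  have hf := skIneq_fibLocMod A B Q F k hfib
  haveI : IsNoetherianRing (Localization.AtPrime Q) :=
    IsLocalization.isNoetherianRing Q.primeCompl _ inferInstance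
  haveI : IsNoetherianRing (Localization.AtPrime (Q.comap (algebraMap A B))) :=
    IsLocalization.isNoetherianRing (Q.comap (algebraMap A B)).primeCompl _ inferInstance
  exact sk_add_gen (supportDim_ne_top' _) (supportDim_ne_top' _) hE hf

theorem hasSkAt_tensor
    (hfib : ∀ (q : Ideal B) [q.IsPrime],
      LocCoh.HasSk k (EGA4.FibLocRing A B q) (EGA4.FibLocMod A B q F))
    (q : Ideal B) [q.IsPrime] (hE : EGA4.HasSkAt k A E (q.comap (algebraMap A B))) :
    EGA4.HasSkAt k B (F ⊗[A] E) q := by
  rw [hasSkAt_iff] at hE ⊢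
  intro Q' hQ' hle
  exact skIneq_tensor k A B E F Q' (hfib Q') (hE (Q'.comap (algebraMap A B)) (Ideal.comap_mono hle))

end ascent

section descent

variable (k : ℕ) (A B : Type u) [CommRing A] [CommRing B] [IsNoetherianRing A]
  [IsNoetherianRing B] [Algebra A B]
  (E : Type u) [AddCommGroup E] [Module A E] [Module.Finite A E]
  (F : Type u) [AddCommGroup F] [Module B F] [Module A F] [IsScalarTower A B F]
  [Module.Finite B F] [Module.Flat A F]

/-- associated primes of `F/pF` lie over `p` (flatness) -/
theorem comap_eq_of_mem_associatedPrimes_tensor (p : Ideal A) [hp : p.IsPrime] (Q : Ideal B)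
    (hQ : Q ∈ associatedPrimes B (F ⊗[A] (A ⧸ p))) : Q.comap (algebraMap A B) = p := by
  rw [AssociatedPrimes.mem_iff, isAssociatedPrime_iff] at hQ
  obtain ⟨hQp, x, hx⟩ := hQ
  have hmem : ∀ b : B, b ∈ Q ↔ b • x = 0 := by
    intro b
    rw [hx, Submodule.mem_colon_singleton, Submodule.mem_bot]
  have hx0 : x ≠ 0 := by
    intro h0
    apply hQp.ne_top
    rw [Ideal.eq_top_iff_one, hmem, h0, smul_zero]
  apply le_antisymm
  · intro a ha
    by_contra hap
    rw [Ideal.mem_comap, hmem, algebraMap_smul] at ha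
    have hreg : IsSMulRegular (A ⧸ p) a := by
      intro y z hyz
      obtain ⟨y, rfl⟩ := Ideal.Quotient.mk_surjective y
      obtain ⟨z, rfl⟩ := Ideal.Quotient.mk_surjective z
      have h1 : Ideal.Quotient.mk p (a * (y - z)) = 0 := by
        have : a • Ideal.Quotient.mk p y = a • Ideal.Quotient.mk p z := hyz
        rw [mul_sub, map_sub, sub_eq_zero]
        simpa [Algebra.smul_def] using this
      rw [Ideal.Quotient.eq_zero_iff_mem] at h1
      rcases hp.mem_or_mem h1 with h2 | h2
      · exact absurd h2 hap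
      · rw [← sub_eq_zero, ← map_sub, Ideal.Quotient.eq_zero_iff_mem]
        exact h2
    have hreg' : IsSMulRegular (F ⊗[A] (A ⧸ p)) a := IsSMulRegular.lTensor F hreg
    apply hx0
    apply hreg'
    show a • x = a • 0
    rw [smul_zero]
    exact ha
  · intro a ha
    rw [Ideal.mem_comap, hmem, algebraMap_smul]
    have hkill : ∀ x : F ⊗[A] (A ⧸ p), a • x = 0 := by
      intro x
      induction x using TensorProduct.induction_on with
      | zero => rw [smul_zero]
      | tmul b c =>
        rw [TensorProduct.smul_tmul', TensorProduct.smul_tmul, Algebra.smul_def]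
        have : (algebraMap A (A ⧸ p)) a = 0 := Ideal.Quotient.eq_zero_iff_mem.mpr ha
        rw [this, zero_mul, TensorProduct.tmul_zero]
      | add y z hy hz => rw [smul_add, hy, hz, add_zero]
    exact hkill x

theorem withBot_add_eq_zero {a b : WithBot ℕ∞} (h : a + b = 0) : a = 0 ∧ b = 0 := by
  induction a with
  | bot => simp at h
  | coe a =>
    induction b with
    | bot => simp at h
    | coe b =>
      have h' : a + b = 0 := by exact_mod_cast h
      rw [add_eq_zero] at h'
      exact ⟨by rw [h'.1]; rfl, by rw [h'.2]; rfl⟩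

/-- over every generization `P'` of `q ∩ A` there is a generization `Q'` of `q` whose fibre module
has dimension and depth zero -/
theorem exists_prime_fib_zero (q : Ideal B) [hq : q.IsPrime]
    (hqF : (⟨q, hq⟩ : PrimeSpectrum B) ∈ Module.support B F)
    (P' : Ideal A) [hP' : P'.IsPrime] (hle : P' ≤ q.comap (algebraMap A B)) :
    ∃ (Q' : Ideal B) (_ : Q'.IsPrime), Q' ≤ q ∧ Q'.comap (algebraMap A B) = P' ∧
      Module.supportDim (Localization.AtPrime Q') (EGA4.FibLocMod A B Q' F) = 0 ∧
      LocCoh.depth (Localization.AtPrime Q') (EGA4.FibLocMod A B Q' F) = 0 := by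
  have hqG : (⟨q, hq⟩ : PrimeSpectrum B) ∈ Module.support B (F ⊗[A] (A ⧸ P')) := by
    rw [mem_support_tensor_iff]
    refine ⟨hqF, ?_⟩
    rw [Module.support_eq_zeroLocus, Ideal.annihilator_quotient]
    exact hle
  rw [Module.support_eq_zeroLocus] at hqG
  obtain ⟨Q', hQ'min, hQ'q⟩ := Ideal.exists_minimalPrimes_le (J := q) hqG
  have hQ'p : Q'.IsPrime := hQ'min.1.1
  have hass : Q' ∈ associatedPrimes B (F ⊗[A] (A ⧸ P')) :=
    Module.associatedPrimes.minimalPrimes_annihilator_subset_associatedPrimes B _ hQ'min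
  have hcomap := comap_eq_of_mem_associatedPrimes_tensor A B F P' Q' hass
  have hdim := supportDim_localizedModule_eq_zero_of_mem_minimalPrimes Q' (F ⊗[A] (A ⧸ P')) hQ'min
  have hdep := (Groth.Agent.Lib.Helper18.FamCyc.depth_localizedModule_eq_zero_iff
    (F ⊗[A] (A ⧸ P')) Q').mpr hass
  rw [ModFib.supportDim_localizedModule_tensor] at hdim
  rw [ModFib.depth_localizedModule_tensor] at hdep
  refine ⟨Q', hQ'p, hQ'q, hcomap, (withBot_add_eq_zero hdim).2, ?_⟩
  rw [add_eq_zero] at hdep
  exact hdep.2

theorem hasSkAt_of_hasSkAt_tensor (q : PrimeSpectrum B) (hq : q ∈ Module.support B F)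
    (h : EGA4.HasSkAt k B (F ⊗[A] E) q.asIdeal) :
    EGA4.HasSkAt k A E (q.asIdeal.comap (algebraMap A B)) := by
  rw [hasSkAt_iff] at h ⊢
  intro P' hP' hle
  obtain ⟨Q', hQ'p, hQ'q, hcomap, hdim, hdep⟩ := exists_prime_fib_zero A B F q.asIdeal hq P' hle
  have h1 := h Q' hQ'q
  unfold SkIneq at h1
  rw [ModFib.supportDim_localizedModule_tensor, ModFib.depth_localizedModule_tensor, hdim, hdep,
    add_zero, add_zero] at h1
  exact (skIneq_congr E k hcomap).mp h1

end descent

end Groth.Agent.Lib.Helper18.SkMod
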