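import Mathlib
import Groth.Prelude.Def_EGA4b
import Groth.Agent.Lib.Helper18.FormEq2
import Groth.Agent.Lib.Helper18.FibBridge2
import Groth.Agent.Lib.Helper18.FibQuot
import Groth.Agent.Lib.Helper18.SkMod

set_option autoImplicit false
set_option linter.unusedSectionVars false
set_option linter.style.haveILetI false
universe u
open IsLocalRing TensorProduct

namespace Groth.Agent.Lib.Helper18.FormFibCM

open Groth.Agent.Lib.Helper18.CM Groth.Agent.Lib.Helper18.Serre
  Groth.Agent.Lib.Helper18.FormEq

section fibSelf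

variable (A B : Type u) [CommRing A] [CommRing B] [IsNoetherianRing B] [Algebra A B]
  (r : Ideal B) [r.IsPrime]

/-- the fibre module of `B` itself is the fibre ring -/
noncomputable def fibLocModSelfEquiv :
    EGA4.FibLocMod A B r B ≃ₗ[Localization.AtPrime r] EGA4.FibLocRing A B r :=
  Submodule.Quotient.equiv _ _ (locSelfEquiv r) (by
    rw [Submodule.map_smul'', Submodule.map_top, LinearEquiv.range]
    simp)

theorem supportDim_fibLocMod_self :
    Module.supportDim (Localization.AtPrime r) (EGA4.FibLocMod A B r B) =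
      ringKrullDim (EGA4.FibLocRing A B r) := by
  rw [Module.supportDim_eq_of_equiv (fibLocModSelfEquiv A B r)]
  exact Module.supportDim_quotient_eq_ringKrullDim _

theorem depth_fibLocMod_self [IsLocalRing (EGA4.FibLocRing A B r)] :
    LocCoh.depth (Localization.AtPrime r) (EGA4.FibLocMod A B r B) =
      LocCoh.depth (EGA4.FibLocRing A B r) (EGA4.FibLocRing A B r) := by
  haveI : IsNoetherianRing (Localization.AtPrime r) :=
    IsLocalization.isNoetherianRing r.primeCompl _ inferInstance
  haveI : IsLocalHom (algebraMap (Localization.AtPrime r) (EGA4.FibLocRing A B r)) :=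
    IsLocalHom.of_surjective _ Ideal.Quotient.mk_surjective
  rw [depth_congr (fibLocModSelfEquiv A B r)]
  exact depth_eq_of_finite (A := Localization.AtPrime r) (B := EGA4.FibLocRing A B r) _

end fibSelf

section main

variable (A : Type u) [CommRing A] [IsNoetherianRing A] [IsLocalRing A]
  (M : Type u) [AddCommGroup M] [Module A M] [Module.Finite A M]

/-- the formal fibres of a local ring with a Cohen–Macaulay module of full support are
Cohen–Macaulay -/
theorem isCohenMacaulayRing_formalFibre (hCM : LocCoh.IsCohenMacaulayModule A M)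
    (hsupp : Module.support A M = Set.univ) (P : Ideal A) [hP : P.IsPrime] :
    LocCoh.IsCohenMacaulayRing (EGA4.formalFibre A P) := by
  rw [Groth.Agent.Lib.Helper18.FibBridge.isCohenMacaulayRing_fiber_iff]
  intro r hr hloc hrP
  have hsupp' := support_cplTensor_eq_univ A M hsupp
  have hCM' := isCohenMacaulayModule_cplTensor A M hCM
  have hmem' : (⟨r, hr⟩ : PrimeSpectrum (EGA4.Cpl A)) ∈
      Module.support (EGA4.Cpl A) (EGA4.Cpl A ⊗[A] M) := by
    rw [hsupp']; trivial
  have hmem : (⟨r.comap (algebraMap A (EGA4.Cpl A)), inferInstance⟩ : PrimeSpectrum A) ∈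
      Module.support A M := by
    rw [hsupp]; trivial
  obtain ⟨n', -, hn'1, hn'2, -⟩ := cm_localization r (EGA4.Cpl A ⊗[A] M) hCM' hmem'
  obtain ⟨n, -, hn1, hn2, -⟩ := cm_localization (r.comap (algebraMap A (EGA4.Cpl A))) M hCM hmem
  have hd := ModFib.depth_localizedModule_tensor A (EGA4.Cpl A) r M (EGA4.Cpl A)
  have hs := ModFib.supportDim_localizedModule_tensor A (EGA4.Cpl A) r M (EGA4.Cpl A)
  rw [hn'1, hn1, depth_fibLocMod_self] at hd
  rw [hn'2, hn2, supportDim_fibLocMod_self] at hs
  have hfin : ((n : ℕ∞)) ≠ ⊤ := ENat.natCast_ne_top n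
  have h1 : ((n : ℕ∞) : WithBot ℕ∞) + ringKrullDim (EGA4.FibLocRing A (EGA4.Cpl A) r) =
      ((n : ℕ∞) : WithBot ℕ∞) + ((LocCoh.depth (EGA4.FibLocRing A (EGA4.Cpl A) r)
        (EGA4.FibLocRing A (EGA4.Cpl A) r) : ℕ∞) : WithBot ℕ∞) := by
    rw [← WithBot.coe_add, ← hd]
    exact hs.symm
  exact Groth.Agent.Lib.Helper18.CatFlat.withBot_enat_add_left_cancel hfin h1

end main

end Groth.Agent.Lib.Helper18.FormFibCM
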