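import Mathlib
import Groth.Prelude.Def_EGA4b
import Groth.Agent.Lib.Helper18.FibBridge2
import Groth.Agent.Lib.Helper18.FormFibCM
import Groth.Agent.Lib.Helper18.SkMod
import Groth.Agent.Lib.Helper18.FTCM

set_option autoImplicit false
set_option linter.unusedSectionVars false
set_option linter.style.haveILetI false
universe u
open IsLocalRing TensorProduct

namespace Groth.Agent.Lib.Helper18.CMFib

open Groth.Agent.Lib.Helper18.CM Groth.Agent.Lib.Helper18.Serre Groth.Agent.Lib.Helper18.RkFlat
  Groth.Agent.Lib.Helper18.FibBridge Groth.Agent.Lib.Helper18.SkAt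

section general

variable (A B : Type u) [CommRing A] [CommRing B] [Algebra A B]
  [IsNoetherianRing A] [IsNoetherianRing B] [Module.Flat A B]

/-- dimension and depth of `B_Q` for a flat map with Cohen–Macaulay fibres: both increase by the
same finite number `d`. -/
theorem exists_dim_depth_add
    (hf : ∀ (p : Ideal A) [p.IsPrime], LocCoh.IsCohenMacaulayRing (p.Fiber B))
    (Q : Ideal B) [Q.IsPrime] :
    ∃ d : ℕ, (Q.height : WithBot ℕ∞) = ((Q.comap (algebraMap A B)).height : WithBot ℕ∞) + (d : ℕ) ∧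
      LocCoh.depth (Localization.AtPrime Q) (Localization.AtPrime Q) =
        LocCoh.depth (Localization.AtPrime (Q.comap (algebraMap A B)))
          (Localization.AtPrime (Q.comap (algebraMap A B))) + (d : ℕ∞) := by
  have l1 := RkFlat.isLocalRing_fibLocRing A B Q
  have h1 := height_eq_add_fibLocRing A B Q
  have h2 := depth_eq_add_fibLocRing A B Q
  have h3 := (isCohenMacaulayRing_fiber_iff (Q.comap (algebraMap A B))).mp (hf _) Q rfl
  obtain ⟨b, hb⟩ := SerreReg.exists_ringKrullDim_eq_nat (EGA4.FibLocRing A B Q)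
  rw [hb] at h1 h3
  have h4 : LocCoh.depth (EGA4.FibLocRing A B Q) (EGA4.FibLocRing A B Q) = (b : ℕ∞) := by
    have : ((b : ℕ∞) : WithBot ℕ∞) = ((LocCoh.depth (EGA4.FibLocRing A B Q)
      (EGA4.FibLocRing A B Q) : ℕ∞) : WithBot ℕ∞) := by exact_mod_cast h3
    exact (WithBot.coe_injective this).symm
  rw [h4] at h2
  exact ⟨b, h1, h2⟩

/-- the codepth is preserved along flat maps with Cohen–Macaulay fibres -/
theorem codepth_eq_of_cm_fibres
    (hf : ∀ (p : Ideal A) [p.IsPrime], LocCoh.IsCohenMacaulayRing (p.Fiber B))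
    (Q : Ideal B) [Q.IsPrime] :
    ringKrullDim (Localization.AtPrime (Q.comap (algebraMap A B))) +
        ((LocCoh.depth (Localization.AtPrime Q) (Localization.AtPrime Q) : ℕ∞) : WithBot ℕ∞) =
      ringKrullDim (Localization.AtPrime Q) +
        ((LocCoh.depth (Localization.AtPrime (Q.comap (algebraMap A B)))
          (Localization.AtPrime (Q.comap (algebraMap A B))) : ℕ∞) : WithBot ℕ∞) := by
  obtain ⟨d, h1, h2⟩ := exists_dim_depth_add A B hf Q
  rw [IsLocalization.AtPrime.ringKrullDim_eq_height Q (Localization.AtPrime Q),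
    IsLocalization.AtPrime.ringKrullDim_eq_height (Q.comap (algebraMap A B))
      (Localization.AtPrime (Q.comap (algebraMap A B))), h1, h2]
  push_cast
  abel

theorem sk_add_nat {n d : ℕ} {a : ℕ∞} {x : ℕ∞}
    (h1 : min (n : WithBot ℕ∞) ((a : ℕ∞) : WithBot ℕ∞) ≤ ((x : ℕ∞) : WithBot ℕ∞)) :
    min (n : WithBot ℕ∞) (((a : ℕ∞) : WithBot ℕ∞) + (d : ℕ)) ≤
      (((x + (d : ℕ∞) : ℕ∞)) : WithBot ℕ∞) := by
  have e1 : (((a : ℕ∞) : WithBot ℕ∞) + ((d : ℕ) : WithBot ℕ∞)) = ((a + (d : ℕ∞) : ℕ∞) : WithBot ℕ∞) := by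
    push_cast; rfl
  have e2 : ((n : ℕ) : WithBot ℕ∞) = (((n : ℕ∞)) : WithBot ℕ∞) := rfl
  rw [e1, e2, ← WithBot.coe_min, WithBot.coe_le_coe]
  rw [e2, ← WithBot.coe_min, WithBot.coe_le_coe] at h1
  rw [min_le_iff] at h1 ⊢
  rcases h1 with h | h
  · left; exact le_trans h le_self_add
  · right; exact add_le_add h le_rfl

/-- `(S_n)` at a prime is preserved and reflected along flat maps with Cohen–Macaulay fibres -/
theorem hasSkAt_iff_of_cm_fibres
    (hf : ∀ (p : Ideal A) [p.IsPrime], LocCoh.IsCohenMacaulayRing (p.Fiber B))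
    (n : ℕ) (Q : Ideal B) [hQ : Q.IsPrime] :
    EGA4.HasSkAt n A A (Q.comap (algebraMap A B)) ↔ EGA4.HasSkAt n B B Q := by
  rw [hasSkAt_iff, hasSkAt_iff]
  constructor
  · intro h Q' hQ' hle
    have h0 := h (Q'.comap (algebraMap A B)) (Ideal.comap_mono hle)
    unfold SkIneq at h0 ⊢
    rw [depth_localizedModule_self, supportDim_localizedModule_self] at h0 ⊢
    obtain ⟨d, h1, h2⟩ := exists_dim_depth_add A B hf Q'
    rw [h1, h2]
    exact sk_add_nat h0
  · intro h P hP hle
    have hqF : (⟨Q, hQ⟩ : PrimeSpectrum B) ∈ Module.support B B := by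
      rw [Module.mem_support_iff_of_finite]
      have : Module.annihilator B B = ⊥ := by
        rw [eq_bot_iff]
        intro x hx
        have := Module.mem_annihilator.mp hx 1
        simpa using this
      rw [this]
      exact bot_le
    obtain ⟨Q', hQ'p, hQ'q, hcomap, hdim, hdep⟩ :=
      SkMod.exists_prime_fib_zero A B B Q hqF P hle
    have h0 := h Q' hQ'q
    subst hcomap
    unfold SkIneq at h0 ⊢
    rw [depth_localizedModule_self, supportDim_localizedModule_self] at h0 ⊢
    have l1 := RkFlat.isLocalRing_fibLocRing A B Q'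
    have h1 := height_eq_add_fibLocRing A B Q'
    have h2 := depth_eq_add_fibLocRing A B Q'
    rw [FormFibCM.supportDim_fibLocMod_self] at hdim
    rw [FormFibCM.depth_fibLocMod_self] at hdep
    rw [hdim, add_zero] at h1
    rw [hdep, add_zero] at h2
    rw [h1, h2] at h0
    exact h0

end general

section field

variable (k S k' : Type u) [Field k] [CommRing S] [Algebra k S] [Field k'] [Algebra k k']

/-- the fibres of `S → S ⊗[k] k'` are Cohen–Macaulay when `S` is of finite type over `k` or
`k'` is a finitely generated field extension -/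
theorem isCohenMacaulayRing_fiber_tensor
    (hft : Algebra.FiniteType k S ∨ Algebra.EssFiniteType k k')
    (p : Ideal S) [p.IsPrime] : LocCoh.IsCohenMacaulayRing (p.Fiber (S ⊗[k] k')) := by
  let e := Algebra.TensorProduct.cancelBaseChange k S S p.ResidueField k'
  haveI hcm : LocCoh.IsCohenMacaulayRing (p.ResidueField ⊗[k] k') := by
    rcases hft with h | h
    · haveI : Algebra.EssFiniteType k p.ResidueField :=
        Algebra.EssFiniteType.comp k S p.ResidueField
      exact FTCM.isCohenMacaulayRing_tensor_of_essFiniteType k p.ResidueField k'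
    · haveI := FTCM.isCohenMacaulayRing_tensor_of_essFiniteType k k' p.ResidueField
      exact FibQuot.isCohenMacaulayRing_of_ringEquiv
        (Algebra.TensorProduct.comm k k' p.ResidueField).toRingEquiv
  exact FibQuot.isCohenMacaulayRing_of_ringEquiv e.symm.toRingEquiv

end field

end Groth.Agent.Lib.Helper18.CMFib
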