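import Mathlib
import Groth.Prelude.Def_EGA41
import Groth.Agent.Lib.Helper23.CohenRingExist
import Groth.Agent.Lib.Helper23.CohenRing
import Groth.Agent.Lib.Helper1.ArtFunObsProrep
import Groth.Agent.Lib.Helper21.AdicNoetherian

set_option autoImplicit false
set_option linter.unusedSectionVars false
set_option linter.style.haveILetI false
universe u
open IsLocalRing

namespace Groth.Agent.Lib.Helper18.CST

section pres

variable {W R : Type u} [CommRing W] [IsLocalRing W] [IsNoetherianRing W]
  [hcW : IsAdicComplete (maximalIdeal W) W]
  [CommRing R] [IsLocalRing R] [IsNoetherianRing R] [hcR : IsAdicComplete (maximalIdeal R) R]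

/-- a complete Noetherian local ring `R` receiving a map from a complete Noetherian local ring
`W` which is surjective on residue fields is a quotient of a power series ring over `W`. -/
theorem exists_surjective_mvPowerSeries (v : W →+* R)
    (hsurj : Function.Surjective ((residue R).comp v)) :
    ∃ (n : ℕ) (f : MvPowerSeries (Fin n) W →+* R), Function.Surjective f ∧
      ∀ w, f (MvPowerSeries.C w) = v w := by
  letI : Algebra W (ResidueField R) := ((residue R).comp v).toAlgebra
  letI : Algebra W R := v.toAlgebra
  let RW : ArtFun.CRing W (ResidueField R) :=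
    { carrier := W
      res := Algebra.ofId W (ResidueField R)
      res_surjective := hsurj
      isAdicComplete := hcW }
  let SR : ArtFun.CRing W (ResidueField R) :=
    { carrier := R
      res := { residue R with commutes' := fun w => rfl }
      res_surjective := residue_surjective
      isAdicComplete := hcR }
  let u : RW.carrier →ₐ[W] SR.carrier := Algebra.ofId W R
  have hu : SR.res.comp u = RW.res := by
    apply AlgHom.ext
    intro w
    rfl
  obtain ⟨n, f, -, hfC, hfs, -⟩ := Groth.Agent.Lib.Helper1.ArtFunLib.exists_ps_presentation u hu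
  exact ⟨n, (f : MvPowerSeries (Fin n) W →+* R), hfs, fun w => hfC w⟩

end pres

section cohen

variable (R : Type u) [CommRing R] [IsLocalRing R] [IsNoetherianRing R]
  [hcR : IsAdicComplete (maximalIdeal R) R]

/-- every complete Noetherian local ring receives a local homomorphism from a Cohen ring
inducing an isomorphism on residue fields -/
theorem exists_cohenRing_hom :
    ∃ (W : Type u) (_ : CommRing W) (_ : IsLocalRing W) (v : W →+* R),
      EGA41.IsCohenRingEGA W ∧ IsNoetherianRing W ∧ IsAdicComplete (maximalIdeal W) W ∧
      IsLocalHom v ∧ Function.Surjective ((residue R).comp v) := by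
  obtain ⟨W, _, _, hW, hWn, hWc, ⟨e⟩⟩ :=
    Groth.Agent.Lib.Helper23.CohenRingExist.exists_cohenRing (ResidueField R)
  let u : W →+* R ⧸ maximalIdeal R := (e : ResidueField W →+* ResidueField R).comp (residue W)
  haveI : IsLocalRing (R ⧸ maximalIdeal R) := inferInstanceAs (IsLocalRing (ResidueField R))
  haveI : IsLocalHom u := by
    refine ⟨fun a ha => ?_⟩
    have h1 : IsUnit (e (residue W a)) := ha
    have h2 : IsUnit (residue W a) := by
      have := h1.map (e.symm : ResidueField R →+* ResidueField W)
      simpa using this
    exact (IsLocalHom.map_nonunit (f := residue W) a h2)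
  obtain ⟨v, hvloc, hv⟩ := Groth.Agent.Lib.Helper23.CohenRing.t2456main hW (maximalIdeal R)
    (Ideal.IsPrime.ne_top inferInstance) u
  refine ⟨W, inferInstance, inferInstance, v, hW, hWn, hWc, hvloc, ?_⟩
  intro x
  obtain ⟨y, hy⟩ := e.surjective x
  obtain ⟨w, hw⟩ := residue_surjective y
  refine ⟨w, ?_⟩
  have : (Ideal.Quotient.mk (maximalIdeal R)) (v w) = u w := congrArg (fun g => g w) hv
  change (Ideal.Quotient.mk (maximalIdeal R)) (v w) = x
  rw [this]
  change e (residue W w) = x
  rw [hw, hy]

/-- **Cohen structure theorem**: a complete Noetherian local ring is a quotient of a power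
series ring over a Cohen ring (field of characteristic zero or complete `p`-ring) -/
theorem exists_cohen_presentation :
    ∃ (W : Type u) (_ : CommRing W) (_ : IsLocalRing W) (n : ℕ)
      (f : MvPowerSeries (Fin n) W →+* R),
      EGA41.IsCohenRingEGA W ∧ IsNoetherianRing W ∧ IsAdicComplete (maximalIdeal W) W ∧
      Function.Surjective f ∧ IsLocalHom (f.comp MvPowerSeries.C) ∧
      Function.Surjective ((residue R).comp (f.comp MvPowerSeries.C)) := by
  obtain ⟨W, _, _, v, hW, hWn, hWc, hvloc, hvs⟩ := exists_cohenRing_hom R
  obtain ⟨n, f, hf, hfC⟩ := exists_surjective_mvPowerSeries v hvs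
  have hcomp : f.comp MvPowerSeries.C = v := RingHom.ext hfC
  refine ⟨W, inferInstance, inferInstance, n, f, hW, hWn, hWc, hf, ?_, ?_⟩
  · rw [hcomp]; exact hvloc
  · rw [hcomp]; exact hvs

end cohen

end Groth.Agent.Lib.Helper18.CST
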