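import Mathlib
import Groth.Agent.Lib.Helper18.CST1

set_option autoImplicit false
set_option linter.unusedSectionVars false
set_option linter.style.haveILetI false
universe u
open IsLocalRing MvPowerSeries

namespace Groth.Agent.Lib.Helper18.CST

section reg

variable (W : Type u) [CommRing W]

theorem add_le_ringKrullDim_mvPowerSeries [Nontrivial W] (n : ℕ) :
    ringKrullDim W + (n : WithBot ℕ∞) ≤ ringKrullDim (MvPowerSeries (Fin n) W) := by
  induction n with
  | zero =>
    rw [Nat.cast_zero, add_zero]
    exact le_of_eq (ringKrullDim_eq_of_ringEquiv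
      (MvPowerSeries.isEmptyEquiv (Fin 0) W).toRingEquiv).symm
  | succ n ih =>
    rw [ringKrullDim_eq_of_ringEquiv (MvPowerSeries.finSuccEquiv W n).toRingEquiv]
    refine le_trans ?_ ringKrullDim_succ_le_ringKrullDim_powerseries
    rw [Nat.cast_add, Nat.cast_one, ← add_assoc]
    exact add_le_add ih le_rfl

end reg

section reg2

variable (W : Type u) [CommRing W] [hW : IsRegularLocalRing W]

open Groth.Agent.Lib.Helper1.ArtFunLib

theorem spanFinrank_maximalIdeal_mvPowerSeries_le (n : ℕ) :
    (maximalIdeal (MvPowerSeries (Fin n) W)).spanFinrank ≤ (maximalIdeal W).spanFinrank + n := by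
  classical
  obtain ⟨s, hs1, hs2⟩ := Submodule.FG.exists_span_finset_card_eq_spanFinrank
    (IsNoetherian.noetherian (maximalIdeal W))
  have hmax : maximalIdeal (MvPowerSeries (Fin n) W) =
      Ideal.span (((s.image (C : W → MvPowerSeries (Fin n) W)) ∪
        (Finset.univ.image (X : Fin n → MvPowerSeries (Fin n) W)) : Finset _) : Set _) := by
    rw [PS.maximalIdeal_eq_sup, Finset.coe_union, Ideal.span_union, Finset.coe_image,
      Finset.coe_image, Finset.coe_univ, Set.image_univ]
    congr 1
    have h3 : maximalIdeal W = Ideal.span (s : Set W) := hs2.symm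
    rw [h3, Ideal.map_span]
  rw [hmax]
  refine le_trans (Submodule.spanFinrank_span_le_ncard_of_finite (Finset.finite_toSet _)) ?_
  rw [Set.ncard_coe_finset]
  refine le_trans (Finset.card_union_le _ _) ?_
  refine add_le_add (le_trans Finset.card_image_le (le_of_eq hs1)) ?_
  exact le_trans Finset.card_image_le (by rw [Finset.card_univ, Fintype.card_fin])

/-- power series rings over regular local rings are regular local rings -/
theorem isRegularLocalRing_mvPowerSeries (n : ℕ) :
    IsRegularLocalRing (MvPowerSeries (Fin n) W) := by
  apply IsRegularLocalRing.of_spanFinrank_maximalIdeal_le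
  refine le_trans ?_ (add_le_ringKrullDim_mvPowerSeries W n)
  rw [← hW.spanFinrank_maximalIdeal]
  exact_mod_cast spanFinrank_maximalIdeal_mvPowerSeries_le W n

end reg2

section quot

theorem isRegularLocalRing_of_isCohenRingEGA {W : Type u} [CommRing W] [IsLocalRing W]
    (hW : EGA41.IsCohenRingEGA W) : IsRegularLocalRing W := by
  rcases hW with ⟨hF, -⟩ | ⟨hdom, hdvr, -⟩
  · letI := hF.toField
    have h1 : IsDomain W := inferInstance
    have h2 : IsPrincipalIdealRing W := inferInstance
    infer_instance
  · infer_instance

variable (R : Type u) [CommRing R] [IsLocalRing R] [IsNoetherianRing R]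
  [hcR : IsAdicComplete (maximalIdeal R) R]

/-- a complete Noetherian local ring is a quotient of a regular local ring -/
theorem exists_regular_presentation :
    ∃ (S : Type u) (_ : CommRing S) (_ : IsRegularLocalRing S) (f : S →+* R),
      Function.Surjective f := by
  obtain ⟨W, _, _, n, f, hW, -, -, hf, -, -⟩ := exists_cohen_presentation R
  haveI := isRegularLocalRing_of_isCohenRingEGA hW
  exact ⟨MvPowerSeries (Fin n) W, inferInstance, isRegularLocalRing_mvPowerSeries W n, f, hf⟩

end quot

end Groth.Agent.Lib.Helper18.CST
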