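import Mathlib
import Groth.Prelude.Def_CAlg
import Groth.Agent.Lib.Helper18.CM7
import Groth.Agent.S0321

/-!
# The acyclicity lemma (Peskine–Szpiro) (helper18)
* `one_le_depth_submodule`, `depth_lemma₃`
* `le_depth_range_d`, `acyclicity_lemma` (S2064)
-/

set_option autoImplicit false
set_option linter.unusedSectionVars false
universe u

open CategoryTheory RingTheory.Sequence IsLocalRing Pointwise
open Groth.Agent.Lib.Helper16.Depth

namespace Groth.Agent.Lib.Helper18.CM

section acyclicity

variable {R : Type u} [CommRing R] [IsLocalRing R] [IsNoetherianRing R]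

/-- a submodule of a module of positive depth has positive depth -/
theorem one_le_depth_submodule {X : Type u} [AddCommGroup X] [Module R X] [Module.Finite R X]
    (h : 1 ≤ LocCoh.depth R X) (N : Submodule R X) : 1 ≤ LocCoh.depth R N := by
  cases subsingleton_or_nontrivial N
  · rw [depth_eq_top_of_subsingleton]
    exact le_top
  · have hX : Nontrivial X := by
      obtain ⟨a, b, hab⟩ := exists_pair_ne N
      exact ⟨⟨a.1, b.1, fun h => hab (Subtype.ext h)⟩⟩
    obtain ⟨x, hx, hreg⟩ := (one_le_depth_iff X).mp h
    rw [one_le_depth_iff]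
    exact ⟨x, hx, hreg.submodule N⟩

/-- the depth lemma, second inequality, in the form used below -/
theorem depth_lemma₃ {N' N N'' : Type u} [AddCommGroup N'] [Module R N'] [Module.Finite R N']
    [AddCommGroup N] [Module R N] [Module.Finite R N] [AddCommGroup N''] [Module R N'']
    [Module.Finite R N''] (f : N' →ₗ[R] N) (g : N →ₗ[R] N'') (hf : Function.Injective f)
    (hg : Function.Surjective g) (hfg : Function.Exact f g) :
    min (LocCoh.depth R N) (LocCoh.depth R N' - 1) ≤ LocCoh.depth R N'' :=
  (Groth.Agent.S0321.result R (maximalIdeal R) N' N N'' f g hf hg hfg).2.1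

variable (C : ChainComplex (ModuleCat.{u} R) ℕ)

theorem function_exact_of_exactAt (j : ℕ) (h : C.ExactAt (j + 1)) :
    Function.Exact (C.d (j + 2) (j + 1)).hom (C.d (j + 1) j).hom := by
  rw [C.exactAt_iff' (j + 2) (j + 1) j (by simp) (by simp)] at h
  exact (ShortComplex.ShortExact.moduleCat_exact_iff_function_exact _).mp h

theorem le_depth_range_d (e : ℕ) (hzero : ∀ j, e < j → Limits.IsZero (C.X j))
    (hfin : ∀ j, Module.Finite R (C.X j))
    (hdepth : ∀ j, j ≤ e → (j : ℕ∞) ≤ LocCoh.depth R (C.X j))
    (i : ℕ) (habove : ∀ j, i < j → C.ExactAt j) (n : ℕ) :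
    ∀ j, i ≤ j → e ≤ j + n →
      ((j + 1 : ℕ) : ℕ∞) ≤ LocCoh.depth R (LinearMap.range (C.d (j + 1) j).hom) := by
  have hbase : ∀ j, e ≤ j →
      ((j + 1 : ℕ) : ℕ∞) ≤ LocCoh.depth R (LinearMap.range (C.d (j + 1) j).hom) := by
    intro j hj
    have hsub : Subsingleton (C.X (j + 1)) :=
      ModuleCat.subsingleton_of_isZero (hzero (j + 1) (by omega))
    have : Subsingleton (LinearMap.range (C.d (j + 1) j).hom) := by
      refine ⟨fun a b => Subtype.ext ?_⟩
      obtain ⟨a', ha'⟩ := a.2
      obtain ⟨b', hb'⟩ := b.2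
      rw [← ha', ← hb', Subsingleton.elim a' b']
    rw [depth_eq_top_of_subsingleton]
    exact le_top
  induction n with
  | zero =>
    intro j _ hj
    exact hbase j (by omega)
  | succ n ih =>
    intro j hij hj
    by_cases hje : e ≤ j
    · exact hbase j hje
    · have hj1 : j + 1 ≤ e := by omega
      have ih' := ih (j + 1) (by omega) (by omega)
      have hex := function_exact_of_exactAt C j (habove (j + 1) (by omega))
      have := hfin (j + 1)
      have := hfin j
      have := hfin (j + 2)
      have h3 := depth_lemma₃ (R := R)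
        (LinearMap.range (C.d (j + 2) (j + 1)).hom).subtype
        (C.d (j + 1) j).hom.rangeRestrict
        (Submodule.subtype_injective _)
        (LinearMap.surjective_rangeRestrict _)
        (by
          intro x
          rw [Submodule.coe_subtype, Subtype.range_coe_subtype]
          change _ ↔ x ∈ LinearMap.range (C.d (j + 2) (j + 1)).hom
          constructor
          · intro hx
            have : (C.d (j + 1) j).hom x = 0 := congrArg Subtype.val hx
            exact (hex x).mp this
          · intro hx
            apply Subtype.ext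
            exact (hex x).mpr hx)
      refine le_trans (le_min (hdepth (j + 1) hj1) ?_) h3
      have h4 : ((j + 1 : ℕ) : ℕ∞) + 1 ≤
          LocCoh.depth R (LinearMap.range (C.d (j + 2) (j + 1)).hom) := by
        exact_mod_cast ih'
      exact ENat.le_sub_of_add_le_right (by simp) h4

theorem range_d_eq (i k : ℕ) (hk : k = i + 1) :
    LinearMap.range (C.d k i).hom = LinearMap.range (C.d (i + 1) i).hom := by
  subst hk
  rfl

theorem acyclicity_lemma (e : ℕ) (hzero : ∀ j, e < j → Limits.IsZero (C.X j))
    (hfin : ∀ j, Module.Finite R (C.X j))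
    (hdepth : ∀ j, j ≤ e → (j : ℕ∞) ≤ LocCoh.depth R (C.X j))
    (i : ℕ) (hi : 0 < i) (hnot : ¬ C.ExactAt i) (habove : ∀ j, i < j → C.ExactAt j) :
    1 ≤ LocCoh.depth R (C.homology i) := by
  have hie : i ≤ e := by
    by_contra hcon
    exact hnot (HomologicalComplex.ExactAt.of_isZero (hzero i (by omega)))
  have hfi : Module.Finite R (C.X i) := hfin i
  have hfi' : Module.Finite R ((C.sc i).X₂) := hfin i
  have hfi1 : Module.Finite R (C.X (i + 1)) := hfin (i + 1)
  have hiso := (C.sc i).moduleCatHomologyIso
  rw [show C.homology i = (C.sc i).homology from rfl, depth_congr hiso.toLinearEquiv]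
  change 1 ≤ LocCoh.depth R (LinearMap.ker (C.sc i).g.hom ⧸
    LinearMap.range (C.sc i).moduleCatToCycles)
  have hle : LinearMap.range (C.sc i).f.hom ≤ LinearMap.ker (C.sc i).g.hom := by
    rintro _ ⟨x, rfl⟩
    exact (C.sc i).moduleCat_zero_apply x
  have h3 := depth_lemma₃ (R := R) (Submodule.inclusion hle)
    (LinearMap.range (C.sc i).moduleCatToCycles).mkQ
    (Submodule.inclusion_injective hle) (Submodule.mkQ_surjective _)
    (by
      intro x
      rw [← LinearMap.mem_ker, Submodule.ker_mkQ]
      constructor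
      · rintro ⟨y, hy⟩
        refine ⟨⟨(C.sc i).f.hom y, ⟨y, rfl⟩⟩, ?_⟩
        apply Subtype.ext
        rw [← hy]
        rfl
      · rintro ⟨⟨_, ⟨y, rfl⟩⟩, hy⟩
        refine ⟨y, ?_⟩
        rw [← hy]
        rfl)
  refine le_trans (le_min ?_ ?_) h3
  · apply one_le_depth_submodule
    refine le_trans ?_ (hdepth i hie)
    exact_mod_cast hi
  · have hr : LinearMap.range (C.sc i).f.hom = LinearMap.range (C.d (i + 1) i).hom :=
      range_d_eq C i _ (ChainComplex.prev ℕ i)
    have h5 := le_depth_range_d C e hzero hfin hdepth i habove e i le_rfl (by omega)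
    have hdc := depth_congr (R := R) (LinearEquiv.ofEq _ _ hr)
    have h5' : ((i + 1 : ℕ) : ℕ∞) ≤ LocCoh.depth R (LinearMap.range (C.sc i).f.hom) :=
      h5.trans (le_of_eq hdc.symm)
    have h6 : (1 : ℕ∞) + 1 ≤ LocCoh.depth R (LinearMap.range (C.sc i).f.hom) := by
      refine le_trans ?_ h5'
      have : 1 + 1 ≤ i + 1 := by omega
      exact_mod_cast this
    exact ENat.le_sub_of_add_le_right (by simp) h6

end acyclicity


end Groth.Agent.Lib.Helper18.CM
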