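import Mathlib
import Groth.Prelude.Def_CAlg
import Groth.Prelude.Def_EGA4b
import Groth.Agent.Lib.Helper18.CM11

set_option autoImplicit false
set_option linter.unusedSectionVars false
set_option linter.style.haveILetI false
universe u

open IsLocalRing

namespace Groth.Agent.Lib.Helper18.NFlat

open Groth.Agent.Lib.Helper18.CM

section good

variable {R : Type u} [CommRing R] [IsLocalRing R] [IsNoetherianRing R]

/-- a module is `d`-good if it is zero or has depth `d` -/
def Good (d : ℕ∞) (N : Type u) [AddCommGroup N] [Module R N] : Prop :=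
  Subsingleton N ∨ LocCoh.depth R N = d

theorem good_congr {d : ℕ∞} {N N' : Type u} [AddCommGroup N] [Module R N] [AddCommGroup N']
    [Module R N'] (e : N ≃ₗ[R] N') (h : Good (R := R) d N) : Good (R := R) d N' := by
  rcases h with h | h
  · exact Or.inl e.symm.toEquiv.subsingleton
  · exact Or.inr ((depth_congr e).symm.trans h)

theorem good_of_exact {d : ℕ∞} (hd : d ≠ ⊤) {N' N N'' : Type u} [AddCommGroup N'] [Module R N']
    [Module.Finite R N'] [AddCommGroup N] [Module R N] [Module.Finite R N] [AddCommGroup N'']
    [Module R N''] [Module.Finite R N''] (f : N' →ₗ[R] N) (g : N →ₗ[R] N'')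
    (hf : Function.Injective f) (hg : Function.Surjective g) (hfg : Function.Exact f g)
    (h' : Good (R := R) d N') (h'' : Good (R := R) d N'') : Good (R := R) d N := by
  rcases h' with h' | h'
  · -- `g` is bijective
    have hginj : Function.Injective g := by
      rw [injective_iff_map_eq_zero]
      intro x hx
      obtain ⟨y, rfl⟩ := (hfg x).mp hx
      rw [Subsingleton.elim y 0, map_zero]
    exact good_congr (LinearEquiv.ofBijective g ⟨hginj, hg⟩).symm h''
  rcases h'' with h'' | h''
  · have hfsurj : Function.Surjective f := by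
      intro x
      exact (hfg x).mp (Subsingleton.elim _ _)
    exact good_congr (LinearEquiv.ofBijective f ⟨hf, hfsurj⟩) (Or.inr h')
  · right
    obtain ⟨h1, -, h3⟩ := Groth.Agent.S0321.result R (maximalIdeal R) N' N N'' f g hf hg hfg
    change min (LocCoh.depth R N') (LocCoh.depth R N'') ≤ LocCoh.depth R N at h1
    change min (LocCoh.depth R N) (LocCoh.depth R N'' + 1) ≤ LocCoh.depth R N' at h3
    rw [h', h''] at h1
    rw [h', h''] at h3
    rw [min_self] at h1
    refine le_antisymm ?_ h1
    by_contra hlt
    rw [not_le] at hlt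
    have h4 : d + 1 ≤ LocCoh.depth R N := Order.add_one_le_of_lt hlt
    have h5 : d + 1 ≤ d := (le_min h4 le_rfl).trans h3
    obtain ⟨k, rfl⟩ := ENat.ne_top_iff_exists.mp hd
    have : k + 1 ≤ k := by exact_mod_cast h5
    omega

theorem good_pi_fin {d : ℕ∞} (hd : d ≠ ⊤) (X : Type u) [AddCommGroup X] [Module R X]
    [Module.Finite R X] (hX : Good (R := R) d X) (r : ℕ) : Good (R := R) d (Fin r → X) := by
  induction r with
  | zero => exact Or.inl inferInstance
  | succ r ih =>
    refine good_congr (Fin.consLinearEquiv R (fun _ : Fin (r + 1) => X)) ?_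
    exact good_of_exact hd (LinearMap.inl R X (Fin r → X)) (LinearMap.snd R X (Fin r → X))
      LinearMap.inl_injective LinearMap.snd_surjective Function.Exact.inl_snd hX ih

end good

end Groth.Agent.Lib.Helper18.NFlat
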