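import Mathlib
import Groth.Prelude.Def_CAlg
import Groth.Agent.Lib.Helper18.CM13
import Groth.Agent.Lib.Helper18.FlatDepth

set_option autoImplicit false
set_option linter.unusedSectionVars false
universe u

open IsLocalRing Pointwise RingTheory.Sequence TensorProduct

namespace Groth.Agent.Lib.Helper18.CM

section liftdepth

open Groth.Agent.Lib.Helper16.Depth

variable {A B : Type u} [CommRing A] [CommRing B] [IsLocalRing A] [IsLocalRing B]
  [IsNoetherianRing A] [IsNoetherianRing B] [Algebra A B] [IsLocalHom (algebraMap A B)]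

/-- `y` regular on the closed fibre of a flat module is regular on the module -/
theorem isSMulRegular_of_isSMulRegular_fibre
    (N : Type u) [AddCommGroup N] [Module B N] [Module A N] [IsScalarTower A B N]
    [Module.Finite B N] [Module.Flat A N] {y : B}
    (hreg : IsSMulRegular (N ⧸ ((maximalIdeal A).map (algebraMap A B) • ⊤ : Submodule B N)) y) :
    IsSMulRegular N y := by
  have h := isSMulRegular_tensor_of_isSMulRegular_fibre A N hreg
  let e : N ⊗[A] A ≃ₗ[B] N := TensorProduct.AlgebraTensorModule.rid A B N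
  intro a b hab
  have h1 : y • e.symm a = y • e.symm b := by
    rw [← map_smul, ← map_smul]
    exact congrArg e.symm hab
  exact e.symm.injective (h h1)

theorem le_idealDepth_of_le_idealDepth_fibre (I : Ideal B) (hI : I ≠ ⊤) (n : ℕ) :
    ∀ (N : Type u) [AddCommGroup N] [Module B N] [Module A N] [IsScalarTower A B N]
      [Module.Finite B N] [Module.Flat A N],
      (n : ℕ∞) ≤ LocCoh.idealDepth I
        (N ⧸ ((maximalIdeal A).map (algebraMap A B) • ⊤ : Submodule B N)) →
      (n : ℕ∞) ≤ LocCoh.idealDepth I N := by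
  induction n with
  | zero => intro N _ _ _ _ _ _ _; simp
  | succ n ih =>
    intro N _ _ _ _ _ _ h
    cases subsingleton_or_nontrivial N
    · rw [idealDepth_eq_top_of_smul_top_eq_top I N (Subsingleton.elim _ _)]
      exact le_top
    have hNbar := nontrivial_fibre A (B := B) N
    have hIN : I • (⊤ : Submodule B N) ≠ ⊤ := smul_top_ne_top_of_ne_top N I hI
    have hINbar : I • (⊤ : Submodule B
        (N ⧸ ((maximalIdeal A).map (algebraMap A B) • ⊤ : Submodule B N))) ≠ ⊤ :=
      smul_top_ne_top_of_ne_top _ I hI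
    have h1 : 1 ≤ LocCoh.idealDepth I
        (N ⧸ ((maximalIdeal A).map (algebraMap A B) • ⊤ : Submodule B N)) := by
      refine le_trans ?_ h
      push_cast
      exact le_add_self
    obtain ⟨y, hyI, hreg⟩ := (one_le_idealDepth_iff I _ hINbar).mp h1
    have hregN := isSMulRegular_of_isSMulRegular_fibre (A := A) N hreg
    have hflat := flat_quotSMulTop_of_isSMulRegular_fibre (A := A) N hreg
    have e1 := Groth.Agent.S0320.result B I _ hINbar y hyI hreg
    have e2 := Groth.Agent.S0320.result B I N hIN y hyI hregN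
    rw [idealDepth_congr (quotSMulTopQuotEquiv N ((maximalIdeal A).map (algebraMap A B)) y) I]
      at e1
    have h2 : (n : ℕ∞) ≤ LocCoh.idealDepth I ((QuotSMulTop y N) ⧸
        ((maximalIdeal A).map (algebraMap A B) • ⊤ : Submodule B (QuotSMulTop y N))) := by
      rw [← e1] at h
      push_cast at h
      exact (ENat.add_le_add_iff_right ENat.one_ne_top).mp h
    have h3 := ih (QuotSMulTop y N) h2
    rw [← e2]
    push_cast
    exact add_le_add h3 le_rfl

theorem idealDepth_fibre_le (I : Ideal B) (hI : I ≠ ⊤)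
    (N : Type u) [AddCommGroup N] [Module B N] [Module A N] [IsScalarTower A B N]
    [Module.Finite B N] [Module.Flat A N] :
    LocCoh.idealDepth I (N ⧸ ((maximalIdeal A).map (algebraMap A B) • ⊤ : Submodule B N)) ≤
      LocCoh.idealDepth I N := by
  rw [← ENat.forall_natCast_le_iff_le]
  intro n hn
  exact le_idealDepth_of_le_idealDepth_fibre I hI n N hn

/-- EGA-style bound: flat local `A → B` with Cohen–Macaulay closed fibre `F`:
`dim F ≤ dim B/(𝔪_A B + I) + depth_I B`. -/
theorem ringKrullDim_fibre_le_add_idealDepth [Module.Flat A B]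
    (hCM : LocCoh.IsCohenMacaulayLocalRing (B ⧸ (maximalIdeal A).map (algebraMap A B)))
    (I : Ideal B) (hI : I ≠ ⊤) :
    ringKrullDim (B ⧸ (maximalIdeal A).map (algebraMap A B)) ≤
      ringKrullDim (B ⧸ ((maximalIdeal A).map (algebraMap A B) ⊔ I)) +
        ((LocCoh.idealDepth I B : ℕ∞) : WithBot ℕ∞) := by
  set K : Ideal B := (maximalIdeal A).map (algebraMap A B) with hK
  have hloc : IsLocalHom (algebraMap B (B ⧸ K)) :=
    IsLocalHom.of_surjective _ Ideal.Quotient.mk_surjective
  -- `F = B/K` is a Cohen–Macaulay `B`-module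
  have hF : LocCoh.IsCohenMacaulayModule B (B ⧸ K) := by
    unfold LocCoh.IsCohenMacaulayModule
    rw [Module.supportDim_quotient_eq_ringKrullDim,
      depth_eq_of_finite (A := B) (B := B ⧸ K) (B ⧸ K), ← hCM.supportDim_eq_depth,
      Module.supportDim_self_eq_ringKrullDim]
  have h1 := supportDim_eq_add_idealDepth I hI (B ⧸ K) hF
  rw [Module.supportDim_quotient_eq_ringKrullDim] at h1
  have h2 : Module.supportDim B ((B ⧸ K) ⧸ (I • (⊤ : Submodule B (B ⧸ K)))) =
      ringKrullDim (B ⧸ (K ⊔ I)) := by
    rw [← Module.supportDim_quotient_eq_ringKrullDim]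
    unfold Module.supportDim
    have hsets : PrimeSpectrum.zeroLocus (↑K : Set B) ∩ PrimeSpectrum.zeroLocus (↑I : Set B) =
        PrimeSpectrum.zeroLocus (↑(K ⊔ I) : Set B) := by
      rw [← PrimeSpectrum.zeroLocus_union, ← PrimeSpectrum.zeroLocus_span (↑K ∪ ↑I : Set B),
        Ideal.span_union, Ideal.span_eq, Ideal.span_eq]
    rw [Module.support_quotient, Module.support_eq_zeroLocus, Module.support_eq_zeroLocus,
      Ideal.annihilator_quotient, Ideal.annihilator_quotient, hsets]
  rw [h2] at h1
  rw [h1]
  refine add_le_add le_rfl ?_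
  have h3 := idealDepth_fibre_le (A := A) I hI B
  have hKtop : (K • ⊤ : Submodule B B) = K := by
    rw [smul_eq_mul, Ideal.mul_top]
  rw [idealDepth_congr (Submodule.quotEquivOfEq _ _ hKtop) I] at h3
  exact_mod_cast h3

end liftdepth

end Groth.Agent.Lib.Helper18.CM
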