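import Mathlib
import Groth.Prelude.Def_EGA4b
import Groth.Agent.Lib.Helper18.QGor7
import Groth.Agent.Lib.Helper18.FlatDepth2

set_option autoImplicit false
set_option linter.style.haveILetI false
universe u v

open IsLocalRing TensorProduct CategoryTheory Pointwise RingTheory.Sequence

namespace Groth.Agent.Lib.Helper18.QGor

open Groth.Agent.Lib.Helper18.FamCyc Groth.Agent.Lib.Helper18.CM Groth.Agent.Lib.Helper21
  Groth.Agent.Lib.Helper16.Depth Groth.Agent.Lib.Helper16.LC

section surj

variable {C D : Type u} [CommRing C] [CommRing D] [Algebra C D]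

theorem exists_lift_list (hsurj : Function.Surjective (algebraMap C D)) (I : Ideal C) :
    ∀ rs : List D, (∀ r ∈ rs, r ∈ I.map (algebraMap C D)) →
      ∃ cs : List C, cs.map (algebraMap C D) = rs ∧ ∀ c ∈ cs, c ∈ I := by
  intro rs
  induction rs with
  | nil => intro _; exact ⟨[], rfl, by simp⟩
  | cons r rs ih =>
    intro h
    obtain ⟨cs, hcs, hI⟩ := ih (fun x hx => h x (List.mem_cons_of_mem _ hx))
    obtain ⟨c, hc, hcr⟩ := (Ideal.mem_map_iff_of_surjective _ hsurj).mp (h r List.mem_cons_self)
    refine ⟨c :: cs, by simp [hcs, hcr], ?_⟩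
    intro x hx
    rcases List.mem_cons.mp hx with rfl | hx
    · exact hc
    · exact hI x hx

theorem le_idealDepth_of_le_idealDepth_map (hsurj : Function.Surjective (algebraMap C D))
    (I : Ideal C) (Y : Type u) [AddCommGroup Y] [Module D Y] [Module C Y] [IsScalarTower C D Y]
    (n : ℕ) (h : (n : ℕ∞) ≤ LocCoh.idealDepth (I.map (algebraMap C D)) Y) :
    (n : ℕ∞) ≤ LocCoh.idealDepth I Y := by
  rw [le_idealDepth_iff] at h ⊢
  rcases h with h | ⟨rs, hlen, hreg, hmem⟩
  · left
    rw [eq_top_iff]
    rintro y -
    have hy : y ∈ (I.map (algebraMap C D)) • (⊤ : Submodule D Y) := by rw [h]; trivial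
    induction hy using Submodule.smul_induction_on' with
    | smul r hr x hx =>
      obtain ⟨c, hc, rfl⟩ := (Ideal.mem_map_iff_of_surjective _ hsurj).mp hr
      rw [algebraMap_smul]
      exact Submodule.smul_mem_smul hc Submodule.mem_top
    | add x hx y hy hx' hy' => exact Submodule.add_mem _ hx' hy'
  · right
    obtain ⟨cs, rfl, hcs⟩ := exists_lift_list hsurj I rs hmem
    exact ⟨cs, by simpa using hlen, (isWeaklyRegular_map_algebraMap_iff D Y cs).mp hreg, hcs⟩

end surj

section fib

variable (A B : Type u) [CommRing A] [CommRing B] [IsNoetherianRing A] [IsNoetherianRing B]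
  [Algebra A B] (q : Ideal B) [hq : q.IsPrime]
  (E : Type u) [AddCommGroup E] [Module B E] [Module A E] [IsScalarTower A B E]
  [Module.Finite B E] [Module.Flat A E]

/-- fibrewise depth bounds the depth of the stalk of a flat module from below -/
theorem le_depth_of_le_idealDepth_fibLocMod (n : ℕ)
    (h : (n : ℕ∞) ≤ LocCoh.idealDepth (q.map (algebraMap B (EGA4.FibLocRing A B q)))
      (EGA4.FibLocMod A B q E)) :
    (n : ℕ∞) ≤ LocCoh.depth (Localization.AtPrime q) (LocalizedModule q.primeCompl E) := by
  set p : Ideal A := q.comap (algebraMap A B) with hp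
  have hpp : p.IsPrime := Ideal.comap_isPrime _ _
  set P : Ideal (Localization.AtPrime q) := p.map (algebraMap A (Localization.AtPrime q)) with hP
  have hnC : IsNoetherianRing (Localization.AtPrime q) :=
    IsLocalization.isNoetherianRing q.primeCompl _ inferInstance
  have hnA : IsNoetherianRing (Localization.AtPrime p) :=
    IsLocalization.isNoetherianRing p.primeCompl _ inferInstance
  -- Step 1
  have hmapq : q.map (algebraMap B (EGA4.FibLocRing A B q)) =
      (maximalIdeal (Localization.AtPrime q)).map
        (algebraMap (Localization.AtPrime q) (Localization.AtPrime q ⧸ P)) := by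
    rw [← Localization.AtPrime.map_eq_maximalIdeal, Ideal.map_map]
    rfl
  rw [hmapq] at h
  have h1 : (n : ℕ∞) ≤ LocCoh.idealDepth (maximalIdeal (Localization.AtPrime q))
      (EGA4.FibLocMod A B q E) :=
    le_idealDepth_of_le_idealDepth_map Ideal.Quotient.mk_surjective _ _ n h
  -- Step 2
  let φ : Localization.AtPrime p →+* Localization.AtPrime q :=
    Localization.localRingHom p q (algebraMap A B) rfl
  letI : Algebra (Localization.AtPrime p) (Localization.AtPrime q) := φ.toAlgebra
  haveI : IsLocalHom (algebraMap (Localization.AtPrime p) (Localization.AtPrime q)) :=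
    Localization.isLocalHom_localRingHom p q (algebraMap A B) rfl
  letI : Module (Localization.AtPrime p) (LocalizedModule q.primeCompl E) :=
    Module.compHom (LocalizedModule q.primeCompl E) φ
  haveI : IsScalarTower (Localization.AtPrime p) (Localization.AtPrime q)
      (LocalizedModule q.primeCompl E) := ⟨fun a c x => by
    change (φ a * c) • x = φ a • c • x
    rw [mul_smul]⟩
  have hφ : ∀ a : A, φ (algebraMap A (Localization.AtPrime p) a) =
      algebraMap A (Localization.AtPrime q) a := by
    intro a
    rw [Localization.localRingHom_to_map, ← IsScalarTower.algebraMap_apply]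
  haveI : IsScalarTower A (Localization.AtPrime p) (LocalizedModule q.primeCompl E) :=
    ⟨fun a r x => by
      change φ (a • r) • x = a • (φ r • x)
      rw [Algebra.smul_def, map_mul, hφ, mul_smul, algebraMap_smul]⟩
  haveI : Module.Flat A (LocalizedModule q.primeCompl E) := flat_localizedModule q.primeCompl
  haveI : Module.Flat (Localization.AtPrime p) (LocalizedModule q.primeCompl E) :=
    (Module.flat_iff_of_isLocalization (Localization.AtPrime p) p.primeCompl
      (LocalizedModule q.primeCompl E)).mpr inferInstance
  -- Step 3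
  have hPeq : (maximalIdeal (Localization.AtPrime p)).map
      (algebraMap (Localization.AtPrime p) (Localization.AtPrime q)) = P := by
    rw [← Localization.AtPrime.map_eq_maximalIdeal, Ideal.map_map]
    congr 1
    exact RingHom.ext hφ
  have hne : maximalIdeal (Localization.AtPrime q) ≠ ⊤ := (maximalIdeal.isMaximal _).ne_top
  apply le_idealDepth_of_le_idealDepth_fibre (A := Localization.AtPrime p)
    (maximalIdeal (Localization.AtPrime q)) hne n (LocalizedModule q.primeCompl E)
  rw [idealDepth_congr (Submodule.quotEquivOfEq _ _ (by rw [hPeq])) _]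
  exact h1

end fib

end Groth.Agent.Lib.Helper18.QGor
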