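import Mathlib
import Groth.Agent.Lib.Helper18.QGor8
import Groth.Agent.Lib.Helper18.SerreNormal

set_option autoImplicit false
set_option linter.style.haveILetI false
universe u v

open IsLocalRing TensorProduct CategoryTheory Pointwise RingTheory.Sequence

namespace Groth.Agent.Lib.Helper18.QGor

open Groth.Agent.Lib.Helper18.FamCyc Groth.Agent.Lib.Helper18.CM Groth.Agent.Lib.Helper21
  Groth.Agent.Lib.Helper16.Depth Groth.Agent.Lib.Helper16.LC

section free

variable {R : Type u} [CommRing R] [IsNoetherianRing R] (I : Ideal R)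

theorem le_idealDepth_prod (n : ℕ) (M N : Type u) [AddCommGroup M] [Module R M] [Module.Finite R M]
    [AddCommGroup N] [Module R N] [Module.Finite R N]
    (hM : (n : ℕ∞) ≤ LocCoh.idealDepth I M) (hN : (n : ℕ∞) ≤ LocCoh.idealDepth I N) :
    (n : ℕ∞) ≤ LocCoh.idealDepth I (M × N) :=
  le_idealDepth_X₂ I (LinearMap.inl R M N) (LinearMap.snd R M N) LinearMap.inl_injective
    LinearMap.snd_surjective Function.Exact.inl_snd n hM hN

theorem le_idealDepth_of_subsingleton (n : ℕ) (M : Type u) [AddCommGroup M] [Module R M]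
    [Subsingleton M] : (n : ℕ∞) ≤ LocCoh.idealDepth I M := by
  rw [idealDepth_eq_top_of_smul_top_eq_top I M (Subsingleton.elim _ _)]
  exact le_top

theorem le_idealDepth_pi_fin (n : ℕ) (h : (n : ℕ∞) ≤ LocCoh.idealDepth I R) (r : ℕ) :
    (n : ℕ∞) ≤ LocCoh.idealDepth I (Fin r → R) := by
  induction r with
  | zero => exact le_idealDepth_of_subsingleton I n _
  | succ r ih =>
    rw [← idealDepth_congr (Fin.consLinearEquiv R (fun _ : Fin (r + 1) => R)) I]
    exact le_idealDepth_prod I n R (Fin r → R) h ih

theorem le_idealDepth_of_free (n : ℕ) (h : (n : ℕ∞) ≤ LocCoh.idealDepth I R)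
    (F : Type u) [AddCommGroup F] [Module R F] [Module.Finite R F] [Module.Free R F] :
    (n : ℕ∞) ≤ LocCoh.idealDepth I F := by
  let e : F ≃ₗ[R] (Fin (Fintype.card (Module.Free.ChooseBasisIndex R F)) → R) :=
    ((Module.Free.chooseBasis R F).reindex (Fintype.equivFin _)).equivFun
  rw [idealDepth_congr e I]
  exact le_idealDepth_pi_fin I n h _

end free

section freeSk

variable {A : Type u} [CommRing A] [IsNoetherianRing A]

theorem depth_le_depth_of_free [IsLocalRing A] (F : Type u) [AddCommGroup F] [Module A F]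
    [Module.Finite A F] [Module.Free A F] : LocCoh.depth A A ≤ LocCoh.depth A F := by
  rw [← ENat.forall_natCast_le_iff_le]
  intro n hn
  exact le_idealDepth_of_free (maximalIdeal A) n hn F

theorem hasSk_of_free (k : ℕ) (h : LocCoh.HasSk k A A) (F : Type u) [AddCommGroup F] [Module A F]
    [Module.Finite A F] [Module.Free A F] : LocCoh.HasSk k A F := by
  rw [Groth.Agent.Lib.Helper18.Serre.hasSk_self_iff] at h
  intro p hp
  have hnoeth : IsNoetherianRing (Localization.AtPrime p) :=
    IsLocalization.isNoetherianRing p.primeCompl _ inferInstance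
  haveI : Module.Free (Localization.AtPrime p) (LocalizedModule p.primeCompl F) :=
    Module.free_of_isLocalizedModule p.primeCompl (LocalizedModule.mkLinearMap p.primeCompl F)
  have h1 : Module.supportDim (Localization.AtPrime p) (LocalizedModule p.primeCompl F) ≤
      (p.height : WithBot ℕ∞) := by
    refine (Module.supportDim_le_ringKrullDim _ _).trans ?_
    rw [IsLocalization.AtPrime.ringKrullDim_eq_height p (Localization.AtPrime p)]
  have h2 := depth_le_depth_of_free (A := Localization.AtPrime p)
    (LocalizedModule p.primeCompl F)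
  exact (min_le_min_left _ h1).trans ((h p).trans (WithBot.coe_le_coe.mpr h2))

end freeSk

section dual

variable {A : Type u} [CommRing A]
  {M1 M2 M3 : Type u} [AddCommGroup M1] [Module A M1] [AddCommGroup M2] [Module A M2]
  [AddCommGroup M3] [Module A M3]

/-- left exactness of the dual -/
theorem dualMap_exact (f : M1 →ₗ[A] M2) (g : M2 →ₗ[A] M3) (hfg : Function.Exact f g)
    (hg : Function.Surjective g) : Function.Exact g.dualMap f.dualMap := by
  intro φ
  constructor
  · intro h
    have hker : LinearMap.ker g ≤ LinearMap.ker φ := by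
      intro x hx
      obtain ⟨y, rfl⟩ := (hfg x).mp hx
      have := LinearMap.congr_fun h y
      simpa using this
    let e := g.quotKerEquivOfSurjective hg
    refine ⟨((LinearMap.ker g).liftQ φ hker) ∘ₗ e.symm.toLinearMap, ?_⟩
    ext x
    simp only [LinearMap.dualMap_apply, LinearMap.coe_comp, LinearEquiv.coe_coe,
      Function.comp_apply]
    have : e.symm (g x) = Submodule.Quotient.mk x := by
      rw [LinearEquiv.symm_apply_eq]
      rfl
    rw [this]
    rfl
  · rintro ⟨ψ, rfl⟩
    ext x
    simp only [LinearMap.dualMap_apply, LinearMap.zero_apply]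
    rw [hfg.apply_apply_eq_zero, map_zero]

end dual

section refl

variable {A : Type u} [CommRing A] [IsNoetherianRing A]
  (G : Type u) [AddCommGroup G] [Module A G] [Module.Finite A G]

theorem finite_dual : Module.Finite A (Module.Dual A G) := by
  obtain ⟨n, π, hπ⟩ := Module.Finite.exists_fin' A G
  exact Module.Finite.of_injective π.dualMap (LinearMap.dualMap_injective_of_surjective hπ)

theorem exists_presentation_succ : ∃ (n m : ℕ) (h : (Fin (m + 1) → A) →ₗ[A] (Fin n → A))
    (π : (Fin n → A) →ₗ[A] G), Function.Surjective π ∧ Function.Exact h π := by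
  obtain ⟨n, π, hπ⟩ := Module.Finite.exists_fin' A G
  obtain ⟨m, ρ, hρ⟩ := Module.Finite.exists_fin' A (LinearMap.ker π)
  have hproj : Function.Surjective (LinearMap.funLeft A A (Fin.castSucc : Fin m → Fin (m + 1))) :=
    LinearMap.funLeft_surjective_of_injective A A _ (Fin.castSucc_injective m)
  refine ⟨n, m, (LinearMap.ker π).subtype ∘ₗ ρ ∘ₗ
    LinearMap.funLeft A A (Fin.castSucc : Fin m → Fin (m + 1)), π, hπ, ?_⟩
  rw [LinearMap.exact_iff]
  rw [LinearMap.range_comp, LinearMap.range_comp,
    LinearMap.range_eq_top.mpr hproj, Submodule.map_top, LinearMap.range_eq_top.mpr hρ,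
    Submodule.map_top, Submodule.range_subtype]

theorem exists_ker_repr_of_isReflexive [Module.IsReflexive A G] :
    ∃ (n m : ℕ) (u : Module.Dual A (Fin n → A) →ₗ[A] Module.Dual A (Fin (m + 1) → A)),
      Nonempty (G ≃ₗ[A] LinearMap.ker u) := by
  haveI : Module.Finite A (Module.Dual A G) := finite_dual (A := A) G
  obtain ⟨n, m, h, π, hπ, hex⟩ := exists_presentation_succ (A := A) (Module.Dual A G)
  refine ⟨n, m, h.dualMap, ⟨?_⟩⟩
  have hinj : Function.Injective π.dualMap := LinearMap.dualMap_injective_of_surjective hπ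
  have hrange : LinearMap.range π.dualMap = LinearMap.ker h.dualMap :=
    ((LinearMap.exact_iff).mp (dualMap_exact h π hex hπ)).symm
  exact (Module.evalEquiv A G) ≪≫ₗ (LinearEquiv.ofInjective π.dualMap hinj) ≪≫ₗ
    (LinearEquiv.ofEq _ _ hrange)

omit [IsNoetherianRing A] in
theorem support_dual_pi_succ (m : ℕ) :
    Module.support A (Module.Dual A (Fin (m + 1) → A)) = Set.univ := by
  rw [Set.eq_univ_iff_forall]
  intro p
  let ev0 : Module.Dual A (Fin (m + 1) → A) →ₗ[A] A :=
    LinearMap.applyₗ (Pi.single (0 : Fin (m + 1)) (1 : A))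
  have hsurj : Function.Surjective ev0 := by
    intro a
    refine ⟨a • LinearMap.proj 0, ?_⟩
    simp [ev0]
  apply Module.support_subset_of_surjective ev0 hsurj
  rw [Module.mem_support_iff_exists_annihilator]
  refine ⟨1, ?_⟩
  intro a ha
  rw [Submodule.mem_annihilator_span_singleton] at ha
  simp only [smul_eq_mul, mul_one] at ha
  rw [ha]
  exact zero_mem _

end refl

section congr

variable {A : Type u} [CommRing A]
  {M N : Type u} [AddCommGroup M] [Module A M] [AddCommGroup N] [Module A N]

noncomputable def localizedModuleEquiv (p : Ideal A) [p.IsPrime] (e : M ≃ₗ[A] N) :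
    LocalizedModule p.primeCompl M ≃ₗ[Localization.AtPrime p] LocalizedModule p.primeCompl N :=
  LinearEquiv.ofBijective (LocalizedModule.map p.primeCompl e.toLinearMap)
    ⟨LocalizedModule.map_injective _ _ e.injective, LocalizedModule.map_surjective _ _ e.surjective⟩

theorem hasSk_of_linearEquiv (k : ℕ) (e : M ≃ₗ[A] N) (h : LocCoh.HasSk k A M) :
    LocCoh.HasSk k A N := by
  intro p hp
  have := h p
  rwa [Module.supportDim_eq_of_equiv (localizedModuleEquiv p e),
    depth_congr (localizedModuleEquiv p e)] at this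

end congr

section kerDepth

variable {A : Type u} [CommRing A] [IsNoetherianRing A] (I : Ideal A)
  {E0 E1 : Type u} [AddCommGroup E0] [Module A E0] [Module.Finite A E0] [AddCommGroup E1]
  [Module A E1] [Module.Finite A E1] (u : E0 →ₗ[A] E1)

theorem one_le_idealDepth_of_injective {N M : Type u} [AddCommGroup N] [Module A N]
    [Module.Finite A N] [AddCommGroup M] [Module A M] [Module.Finite A M]
    (f : N →ₗ[A] M) (hf : Function.Injective f)
    (hM : 1 ≤ LocCoh.idealDepth I M) : 1 ≤ LocCoh.idealDepth I N := by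
  have := le_idealDepth_X₁ I f (LinearMap.range f).mkQ hf
    (Submodule.mkQ_surjective _) (LinearMap.exact_map_mkQ_range f) 0 (by simpa using hM) (by simp)
  simpa using this

theorem one_le_idealDepth_ker (h0 : 1 ≤ LocCoh.idealDepth I E0) :
    1 ≤ LocCoh.idealDepth I (LinearMap.ker u) :=
  one_le_idealDepth_of_injective I (LinearMap.ker u).subtype (Submodule.injective_subtype _) h0

theorem two_le_idealDepth_ker (h0 : 2 ≤ LocCoh.idealDepth I E0) (h1 : 1 ≤ LocCoh.idealDepth I E1) :
    2 ≤ LocCoh.idealDepth I (LinearMap.ker u) := by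
  have hR := one_le_idealDepth_of_injective I (LinearMap.range u).subtype
    (Submodule.injective_subtype _) h1
  have := le_idealDepth_X₁ I (LinearMap.ker u).subtype
      u.rangeRestrict (Submodule.injective_subtype _) u.surjective_rangeRestrict
      (exact_rangeRestrict (LinearMap.ker u).subtype u (LinearMap.exact_subtype_ker_map u)) 1
      (by simpa using h0) (by simpa using hR)
  simpa using this

end kerDepth

section reflMain

variable {A : Type u} [CommRing A] [IsNoetherianRing A] (I : Ideal A)
  (G : Type u) [AddCommGroup G] [Module A G] [Module.Finite A G] [Module.IsReflexive A G]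

theorem one_le_idealDepth_of_isReflexive (h : 1 ≤ LocCoh.idealDepth I A) :
    1 ≤ LocCoh.idealDepth I G := by
  obtain ⟨n, m, u, ⟨e⟩⟩ := exists_ker_repr_of_isReflexive (A := A) G
  rw [idealDepth_congr (M := G) (M' := LinearMap.ker u) e I]
  apply one_le_idealDepth_ker I u
  have := le_idealDepth_of_free I 1 (by simpa using h) (Module.Dual A (Fin n → A))
  simpa using this

theorem two_le_idealDepth_of_isReflexive (h : 2 ≤ LocCoh.idealDepth I A) :
    2 ≤ LocCoh.idealDepth I G := by
  obtain ⟨n, m, u, ⟨e⟩⟩ := exists_ker_repr_of_isReflexive (A := A) G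
  rw [idealDepth_congr (M := G) (M' := LinearMap.ker u) e I]
  apply two_le_idealDepth_ker I u
  · have := le_idealDepth_of_free I 2 (by simpa using h) (Module.Dual A (Fin n → A))
    simpa using this
  · have h1 : ((1 : ℕ) : ℕ∞) ≤ LocCoh.idealDepth I A := le_trans (by norm_num) h
    have := le_idealDepth_of_free I 1 h1 (Module.Dual A (Fin (m + 1) → A))
    simpa using this

theorem hasSk_one_of_isReflexive (h : LocCoh.HasSk 1 A A) : LocCoh.HasSk 1 A G := by
  obtain ⟨n, m, u, ⟨e⟩⟩ := exists_ker_repr_of_isReflexive (A := A) G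
  apply hasSk_of_linearEquiv (M := LinearMap.ker u) (N := G) 1 e.symm
  exact hasSk_one_ker u (hasSk_of_free 1 h _)

theorem hasSk_two_of_isReflexive (h : LocCoh.HasSk 2 A A) : LocCoh.HasSk 2 A G := by
  obtain ⟨n, m, u, ⟨e⟩⟩ := exists_ker_repr_of_isReflexive (A := A) G
  apply hasSk_of_linearEquiv (M := LinearMap.ker u) (N := G) 2 e.symm
  refine hasSk_two_ker u ?_ (hasSk_of_free 1 (Groth.Agent.Lib.Helper18.Serre.hasSk_mono (by norm_num) h) _)
    (hasSk_of_free 2 h _)
  rw [support_dual_pi_succ]
  exact Set.subset_univ _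

end reflMain

end Groth.Agent.Lib.Helper18.QGor
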