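import Mathlib
import Groth.Prelude.Def_CAlg
import Groth.Agent.Lib.Helper16.FinDimLe2
import Groth.Agent.Lib.Helper18.QGor7
import Groth.Agent.Lib.Helper18.QGor9

set_option autoImplicit false
set_option linter.unusedSectionVars false
set_option linter.style.haveILetI false
universe u
open IsLocalRing

namespace Groth.Agent.Lib.Helper18.SkQuot

open Groth.Agent.Lib.Helper16.LC Groth.Agent.Lib.Helper18.QGor

variable {R : Type u} [CommRing R] [IsNoetherianRing R] (P : Ideal R) [P.IsPrime]
  (M : Type u) [AddCommGroup M] [Module R M] [Module.Finite R M]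

/-- `(M/rM)_P ≃ M_P / r M_P` -/
theorem nonempty_equiv_quotSMulTop (r : R) :
    Nonempty (LocalizedModule P.primeCompl (QuotSMulTop r M) ≃ₗ[Localization.AtPrime P]
      QuotSMulTop ((algebraMap R (Localization.AtPrime P)) r)
        (LocalizedModule P.primeCompl M)) := by
  have hf : IsBaseChange (Localization.AtPrime P) (LocalizedModule.mkLinearMap P.primeCompl M) :=
    IsLocalizedModule.isBaseChange P.primeCompl (Localization.AtPrime P) _
  let e := (QuotSMulTop.algebraMapTensorEquivTensorQuotSMulTop r M
      (Localization.AtPrime P)).symm ≪≫ₗ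
    QuotSMulTop.congr ((algebraMap R (Localization.AtPrime P)) r) hf.equiv
  have hg : IsBaseChange (Localization.AtPrime P)
      (e.toLinearMap.restrictScalars R ∘ₗ
        TensorProduct.mk R (Localization.AtPrime P) (QuotSMulTop r M) 1) :=
    IsBaseChange.of_equiv e (fun _ => by simp)
  have hloc : IsLocalizedModule P.primeCompl
      (e.toLinearMap.restrictScalars R ∘ₗ
        TensorProduct.mk R (Localization.AtPrime P) (QuotSMulTop r M) 1) :=
    (isLocalizedModule_iff_isBaseChange P.primeCompl (Localization.AtPrime P) _).mpr hg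
  let e1 := IsLocalizedModule.iso P.primeCompl
    (e.toLinearMap.restrictScalars R ∘ₗ
        TensorProduct.mk R (Localization.AtPrime P) (QuotSMulTop r M) 1)
  exact ⟨LinearEquiv.extendScalarsOfIsLocalization P.primeCompl (Localization.AtPrime P) e1⟩

/-- `dim (M/rM)_P + 1 = dim M_P` for `r ∈ P` regular on `M`. -/
theorem supportDim_localization_quotSMulTop (r : R) (hrP : r ∈ P) (hreg : IsSMulRegular M r) :
    Module.supportDim (Localization.AtPrime P)
        (LocalizedModule P.primeCompl (QuotSMulTop r M)) + 1 =
      Module.supportDim (Localization.AtPrime P) (LocalizedModule P.primeCompl M) := by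
  have hnoeth : IsNoetherianRing (Localization.AtPrime P) :=
    IsLocalization.isNoetherianRing P.primeCompl _ inferInstance
  obtain ⟨e⟩ := nonempty_equiv_quotSMulTop P M r
  rw [Module.supportDim_eq_of_equiv e]
  have hf : IsBaseChange (Localization.AtPrime P) (LocalizedModule.mkLinearMap P.primeCompl M) :=
    IsLocalizedModule.isBaseChange P.primeCompl (Localization.AtPrime P) _
  have hflat : Module.Flat R (Localization.AtPrime P) := IsLocalization.flat _ P.primeCompl
  have hx : algebraMap R (Localization.AtPrime P) r ∈ maximalIdeal (Localization.AtPrime P) :=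
    (IsLocalization.AtPrime.to_map_mem_maximal_iff (Localization.AtPrime P) P r).mpr hrP
  have hreg' : IsSMulRegular (LocalizedModule P.primeCompl M)
      (algebraMap R (Localization.AtPrime P) r) := hreg.of_flat_of_isBaseChange hf
  exact Module.supportDim_quotSMulTop_succ_eq_supportDim hreg' hx

theorem sk_pred (s : WithBot ℕ∞) (e : ℕ∞) (k : ℕ)
    (h : min (((k + 1 : ℕ) : ℕ∞) : WithBot ℕ∞) (s + 1) ≤ ((e + 1 : ℕ∞) : WithBot ℕ∞)) :
    min ((k : ℕ∞) : WithBot ℕ∞) s ≤ (e : WithBot ℕ∞) := by
  induction s with
  | bot => simp
  | coe t =>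
    induction e with
    | top => simp
    | coe j =>
      rw [min_le_iff] at h ⊢
      induction t with
      | top =>
        left
        rcases h with h | h
        · have : k + 1 ≤ j + 1 := by exact_mod_cast h
          have : k ≤ j := by omega
          exact_mod_cast this
        · exfalso
          have h' : ((⊤ : ℕ∞) : WithBot ℕ∞) + 1 = ((⊤ : ℕ∞) : WithBot ℕ∞) := by
            rw [← WithBot.coe_one, ← WithBot.coe_add, top_add]
          rw [h'] at h
          have : (⊤ : ℕ∞) ≤ ((j + 1 : ℕ) : ℕ∞) := by exact_mod_cast h
          simp at this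
      | coe i =>
        rcases h with h | h
        · left
          have : k + 1 ≤ j + 1 := by exact_mod_cast h
          have : k ≤ j := by omega
          exact_mod_cast this
        · right
          have : i + 1 ≤ j + 1 := by exact_mod_cast h
          have : i ≤ j := by omega
          exact_mod_cast this

/-- if `M` has `(S_{k+1})` and `r` is `M`-regular then `M/rM` has `(S_k)` -/
theorem hasSk_quotSMulTop (k : ℕ) (r : R) (hreg : IsSMulRegular M r)
    (h : LocCoh.HasSk (k + 1) R M) : LocCoh.HasSk k R (QuotSMulTop r M) := by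
  intro P _
  by_cases hrP : r ∈ P
  · have h1 := depth_localization_quotSMulTop P M r hrP hreg
    have h2 := supportDim_localization_quotSMulTop P M r hrP hreg
    have h3 := h P
    rw [← h1, ← h2] at h3
    have h4 := sk_pred _ _ k (by exact_mod_cast h3)
    exact_mod_cast h4
  · have hsub : Subsingleton (LocalizedModule P.primeCompl (QuotSMulTop r M)) := by
      rw [LocalizedModule.subsingleton_iff]
      intro m
      refine ⟨r, hrP, ?_⟩
      induction m using Submodule.Quotient.induction_on with
      | H x =>
        rw [← Submodule.Quotient.mk_smul]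
        exact (Submodule.Quotient.mk_eq_zero _).mpr (Submodule.smul_mem_pointwise_smul x r ⊤ trivial)
    rw [Module.supportDim_eq_bot_of_subsingleton]
    simp

/-- if `M` has `(S_k)` and `rs` is an `M`-regular sequence of length `≤ k` then `M/(rs)M` has
`(S_{k - |rs|})` (EGA IV 5.7.?) -/
theorem hasSk_quot_ofList (rs : List R) :
    ∀ (k : ℕ) (M : Type u) [AddCommGroup M] [Module R M] [Module.Finite R M],
      LocCoh.HasSk k R M → RingTheory.Sequence.IsWeaklyRegular M rs → rs.length ≤ k →
      LocCoh.HasSk (k - rs.length) R (M ⧸ (Ideal.ofList rs • (⊤ : Submodule R M))) := by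
  induction rs with
  | nil =>
    intro k M _ _ _ h _ _
    have e : M ≃ₗ[R] (M ⧸ (Ideal.ofList ([] : List R) • (⊤ : Submodule R M))) := by
      refine (Submodule.quotEquivOfEqBot _ ?_).symm
      rw [Ideal.ofList_nil, Submodule.bot_smul]
    simpa using hasSk_of_linearEquiv k e h
  | cons r rs ih =>
    intro k M _ _ _ h hreg hlen
    rw [RingTheory.Sequence.isWeaklyRegular_cons_iff] at hreg
    rw [List.length_cons] at hlen ⊢
    obtain ⟨k', rfl⟩ : ∃ k', k = k' + 1 := ⟨k - 1, by omega⟩
    have h1 := hasSk_quotSMulTop M k' r hreg.1 h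
    have h2 := ih k' (QuotSMulTop r M) h1 hreg.2 (by omega)
    have e := Submodule.quotOfListConsSMulTopEquivQuotSMulTopInner M r rs
    have h3 := hasSk_of_linearEquiv _ e.symm h2
    have : k' + 1 - (rs.length + 1) = k' - rs.length := by omega
    rw [this]
    exact h3

end Groth.Agent.Lib.Helper18.SkQuot
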