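import Mathlib
import Groth.Prelude.Def_CAlg
import Groth.Prelude.Def_EGA4b
import Groth.Agent.Lib.Helper16.LocCohGrothVanish
import Groth.Agent.Lib.Helper16.FinDimLe2
import Groth.Agent.Lib.Helper18.NFlat4
import Groth.Agent.Lib.Helper18.SkQuot
import Groth.Agent.Lib.Helper18.SkAt

set_option autoImplicit false
set_option linter.unusedSectionVars false
set_option linter.style.haveILetI false
universe u

open IsLocalRing

namespace Groth.Agent.Lib.Helper18.GenAdd

open Groth.Agent.Lib.Helper18.CM Groth.Agent.Lib.Helper18.NFlat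

variable {A : Type u} [CommRing A]

/-- dimension of the localization of `M` at `q` -/
noncomputable abbrev dm (M : Type u) [AddCommGroup M] [Module A M] (q : Ideal A) [q.IsPrime] :
    WithBot ℕ∞ :=
  Module.supportDim (Localization.AtPrime q) (LocalizedModule q.primeCompl M)

/-- depth of the localization of `M` at `q` -/
noncomputable abbrev dp (M : Type u) [AddCommGroup M] [Module A M] (q : Ideal A) [q.IsPrime] :
    ℕ∞ :=
  LocCoh.depth (Localization.AtPrime q) (LocalizedModule q.primeCompl M)

/-- a property of primes holds generically along `V(p)` -/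
def Gen (p : Ideal A) (Φ : ∀ (q : Ideal A) [q.IsPrime], Prop) : Prop :=
  ∃ f : A, f ∉ p ∧ ∀ (q : Ideal A) [q.IsPrime], p ≤ q → f ∉ q → Φ q

theorem Gen.of_forall (p : Ideal A) [hp : p.IsPrime] {Φ : ∀ (q : Ideal A) [q.IsPrime], Prop}
    (h : ∀ (q : Ideal A) [q.IsPrime], p ≤ q → Φ q) : Gen p Φ :=
  ⟨1, fun h1 => hp.ne_top ((Ideal.eq_top_iff_one p).mpr h1), fun q _ hpq _ => h q hpq⟩

theorem Gen.and {p : Ideal A} [hp : p.IsPrime] {Φ Ψ : ∀ (q : Ideal A) [q.IsPrime], Prop}
    (h1 : Gen p Φ) (h2 : Gen p Ψ) : Gen p (fun q _ => Φ q ∧ Ψ q) := by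
  obtain ⟨f, hf, hΦ⟩ := h1
  obtain ⟨g, hg, hΨ⟩ := h2
  refine ⟨f * g, fun h => (hp.mem_or_mem h).elim hf hg, fun q _ hpq hfg => ⟨?_, ?_⟩⟩
  · exact hΦ q hpq (fun h => hfg (Ideal.mul_mem_right _ _ h))
  · exact hΨ q hpq (fun h => hfg (Ideal.mul_mem_left _ _ h))

theorem Gen.mono {p : Ideal A} {Φ Ψ : ∀ (q : Ideal A) [q.IsPrime], Prop}
    (h1 : Gen p Φ) (h : ∀ (q : Ideal A) [q.IsPrime], p ≤ q → Φ q → Ψ q) : Gen p Ψ := by
  obtain ⟨f, hf, hΦ⟩ := h1
  exact ⟨f, hf, fun q _ hpq hfq => h q hpq (hΦ q hpq hfq)⟩

/-- localization of a linear equivalence -/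
noncomputable def locEquiv (S : Submonoid A) {N N' : Type u} [AddCommGroup N] [Module A N]
    [AddCommGroup N'] [Module A N'] (e : N ≃ₗ[A] N') :
    LocalizedModule S N ≃ₗ[Localization S] LocalizedModule S N' :=
  LinearEquiv.ofBijective (LocalizedModule.map S e.toLinearMap)
    ⟨LocalizedModule.map_injective S _ e.injective, LocalizedModule.map_surjective S _ e.surjective⟩

section basic

variable (p : Ideal A) [hp : p.IsPrime] (M : Type u) [AddCommGroup M] [Module A M]
  [Module.Finite A M]

/-- vanishing at `p` spreads out -/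
theorem gen_subsingleton (h : Subsingleton (LocalizedModule p.primeCompl M)) :
    Gen p (fun q _ => Subsingleton (LocalizedModule q.primeCompl M)) := by
  have hns : (⟨p, hp⟩ : PrimeSpectrum A) ∉ Module.support A M := Module.notMem_support_iff.mpr h
  rw [Module.mem_support_iff_of_finite, SetLike.not_le_iff_exists] at hns
  obtain ⟨f, hfa, hfp⟩ := hns
  refine ⟨f, hfp, fun q hq _ hfq => ?_⟩
  have : (⟨q, hq⟩ : PrimeSpectrum A) ∉ Module.support A M := by
    rw [Module.mem_support_iff_of_finite]
    intro hle
    exact hfq (hle hfa)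
  exact Module.notMem_support_iff.mp this

omit [Module.Finite A M] in
theorem nontrivial_of_le {q : Ideal A} [hq : q.IsPrime] (hpq : p ≤ q)
    (h : Nontrivial (LocalizedModule p.primeCompl M)) :
    Nontrivial (LocalizedModule q.primeCompl M) := by
  have h1 : (⟨p, hp⟩ : PrimeSpectrum A) ∈ Module.support A M := Module.mem_support_iff.mpr h
  have h2 : (⟨q, hq⟩ : PrimeSpectrum A) ∈ Module.support A M :=
    Module.mem_support_mono (p := ⟨p, hp⟩) (q := ⟨q, hq⟩) hpq h1
  exact Module.mem_support_iff.mp h2

omit [Module.Finite A M] in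
theorem subsingleton_of_smul_eq_zero {q : Ideal A} [hq : q.IsPrime] {f : A} (hfq : f ∉ q)
    (hf : ∀ m : M, f • m = 0) : Subsingleton (LocalizedModule q.primeCompl M) :=
  LocalizedModule.subsingleton_iff.mpr fun m => ⟨f, hfq, hf m⟩

theorem nontrivial_quot_of_le {q : Ideal A} [hq : q.IsPrime] (hpq : p ≤ q) :
    Nontrivial (LocalizedModule q.primeCompl (A ⧸ p)) := by
  have h2 : (⟨q, hq⟩ : PrimeSpectrum A) ∈ Module.support A (A ⧸ p) := by
    rw [Module.mem_support_iff_of_finite, Ideal.annihilator_quotient]
    exact hpq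
  exact Module.mem_support_iff.mp h2

end basic

section noeth

variable [IsNoetherianRing A] (p : Ideal A) [hp : p.IsPrime]

theorem dp_quot_ne_top {q : Ideal A} [hq : q.IsPrime] (hpq : p ≤ q) : dp (A ⧸ p) q ≠ ⊤ := by
  haveI := nontrivial_quot_of_le p hpq
  haveI : IsNoetherianRing (Localization.AtPrime q) :=
    IsLocalization.isNoetherianRing q.primeCompl _ inferInstance
  exact depth_ne_top (R := Localization.AtPrime q) (LocalizedModule q.primeCompl (A ⧸ p))

/-- localized short exact sequences preserve goodness -/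
theorem good_localized_of_exact {q : Ideal A} [hq : q.IsPrime] {d : ℕ∞} (hd : d ≠ ⊤)
    {N' N N'' : Type u} [AddCommGroup N'] [Module A N']
    [Module.Finite A N'] [AddCommGroup N] [Module A N] [Module.Finite A N] [AddCommGroup N'']
    [Module A N''] [Module.Finite A N''] (f : N' →ₗ[A] N) (g : N →ₗ[A] N'')
    (hf : Function.Injective f) (hg : Function.Surjective g) (hfg : Function.Exact f g)
    (h' : Good (R := Localization.AtPrime q) d (LocalizedModule q.primeCompl N'))
    (h'' : Good (R := Localization.AtPrime q) d (LocalizedModule q.primeCompl N'')) :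
    Good (R := Localization.AtPrime q) d (LocalizedModule q.primeCompl N) := by
  haveI : IsNoetherianRing (Localization.AtPrime q) :=
    IsLocalization.isNoetherianRing q.primeCompl _ inferInstance
  exact good_of_exact hd (LocalizedModule.map q.primeCompl f) (LocalizedModule.map q.primeCompl g)
    (LocalizedModule.map_injective _ f hf) (LocalizedModule.map_surjective _ g hg)
    (LocalizedModule.map_exact _ f g hfg) h' h''

/-- a finite module supported in `V(p)` has generically the depth of `A/p` along `V(p)` -/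
theorem gen_good (N : Type u) [AddCommGroup N] [Module A N] [hN : Module.Finite A N]
    (hsupp : Module.support A N ⊆ PrimeSpectrum.zeroLocus (p : Set A)) :
    Gen p (fun q _ => Good (R := Localization.AtPrime q) (dp (A ⧸ p) q)
      (LocalizedModule q.primeCompl N)) := by
  revert hsupp
  induction hN using IsNoetherianRing.induction_on_isQuotientEquivQuotientPrime A with
  | subsingleton N =>
    intro _
    refine Gen.of_forall p fun q _ _ => Or.inl ?_
    exact LocalizedModule.subsingleton_iff.mpr fun m => ⟨1, Submonoid.one_mem _, by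
      rw [Subsingleton.elim m 0, smul_zero]⟩
  | quotient N P e =>
    intro hsupp
    have hPs : P ∈ Module.support A N := by
      rw [e.support_eq, Module.mem_support_iff_of_finite, Ideal.annihilator_quotient]
    have hpP : p ≤ P.asIdeal := (PrimeSpectrum.mem_zeroLocus _ _).mp (hsupp hPs)
    by_cases hPp : P.asIdeal ≤ p
    · have hPeq : P.asIdeal = p := le_antisymm hPp hpP
      refine Gen.of_forall p fun q _ _ => Or.inr ?_
      let e' : N ≃ₗ[A] A ⧸ p := e ≪≫ₗ Submodule.quotEquivOfEq _ _ hPeq
      exact depth_congr (locEquiv q.primeCompl e')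
    · obtain ⟨f, hfP, hfp⟩ := SetLike.not_le_iff_exists.mp hPp
      refine ⟨f, hfp, fun q _ _ hfq => Or.inl ?_⟩
      refine subsingleton_of_smul_eq_zero N hfq fun m => ?_
      apply e.injective
      rw [map_smul, map_zero]
      obtain ⟨a, ha⟩ := Ideal.Quotient.mk_surjective (e m)
      rw [← ha, Algebra.smul_def, Ideal.Quotient.algebraMap_eq, ← map_mul,
        Ideal.Quotient.eq_zero_iff_mem]
      exact Ideal.mul_mem_right _ _ hfP
  | exact N₁ N₂ N₃ f g hf hg hfg ih1 ih3 =>
    intro hsupp
    have h1 := ih1 ((Module.support_subset_of_injective f hf).trans hsupp)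
    have h3 := ih3 ((Module.support_subset_of_surjective g hg).trans hsupp)
    refine (h1.and h3).mono fun q _ hpq h => ?_
    exact good_localized_of_exact (dp_quot_ne_top p hpq) f g hf hg hfg h.1 h.2

end noeth

end Groth.Agent.Lib.Helper18.GenAdd
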