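import Mathlib
import Groth.Agent.Lib.Helper18.GenAdd1

set_option autoImplicit false
set_option linter.unusedSectionVars false
set_option linter.style.haveILetI false
universe u

open IsLocalRing

namespace Groth.Agent.Lib.Helper18.GenAdd

open Groth.Agent.Lib.Helper18.CM Groth.Agent.Lib.Helper18.NFlat
open Groth.Agent.Lib.Helper16.LC

section local_

variable {R : Type u} [CommRing R] [IsLocalRing R] [IsNoetherianRing R]

/-- depth of the middle term of a short exact sequence whose right term is deeper -/
theorem depth_mid {a : ℕ∞} (ha : a ≠ ⊤) {N' N N'' : Type u} [AddCommGroup N'] [Module R N']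
    [Module.Finite R N'] [AddCommGroup N] [Module R N] [Module.Finite R N] [AddCommGroup N'']
    [Module R N''] [Module.Finite R N''] (f : N' →ₗ[R] N) (g : N →ₗ[R] N'')
    (hf : Function.Injective f) (hg : Function.Surjective g) (hfg : Function.Exact f g)
    (h' : LocCoh.depth R N' = a) (h'' : a + 1 ≤ LocCoh.depth R N'') : LocCoh.depth R N = a := by
  obtain ⟨h1, -, h3⟩ := Groth.Agent.S0321.result R (maximalIdeal R) N' N N'' f g hf hg hfg
  change min (LocCoh.depth R N') (LocCoh.depth R N'') ≤ LocCoh.depth R N at h1
  change min (LocCoh.depth R N) (LocCoh.depth R N'' + 1) ≤ LocCoh.depth R N' at h3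
  rw [h'] at h1 h3
  have hle : a ≤ LocCoh.depth R N'' := le_trans le_self_add h''
  rw [min_eq_left hle] at h1
  refine le_antisymm ?_ h1
  by_contra hlt
  rw [not_le] at hlt
  have h4 : a + 1 ≤ LocCoh.depth R N := Order.add_one_le_of_lt hlt
  have h5 : a + 1 ≤ LocCoh.depth R N'' + 1 := le_trans h'' le_self_add
  have h6 : a + 1 ≤ a := (le_min h4 h5).trans h3
  obtain ⟨k, rfl⟩ := ENat.ne_top_iff_exists.mp ha
  have : k + 1 ≤ k := by exact_mod_cast h6
  omega

end local_

variable {A : Type u} [CommRing A] [IsNoetherianRing A] (p : Ideal A) [hp : p.IsPrime]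

/-- generic additivity of depth along `V(p)` -/
def DepthAdd (M : Type u) [AddCommGroup M] [Module A M] : Prop :=
  Gen p (fun q _ => dp M q = dp M p + dp (A ⧸ p) q)

section steps

variable (M : Type u) [AddCommGroup M] [Module A M] [Module.Finite A M]

theorem depthAdd_of_subsingleton (h : Subsingleton (LocalizedModule p.primeCompl M)) :
    DepthAdd p M := by
  refine (gen_subsingleton p M h).mono fun q _ _ hq => ?_
  haveI := hq
  haveI : IsNoetherianRing (Localization.AtPrime q) :=
    IsLocalization.isNoetherianRing q.primeCompl _ inferInstance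
  haveI : IsNoetherianRing (Localization.AtPrime p) :=
    IsLocalization.isNoetherianRing p.primeCompl _ inferInstance
  change LocCoh.depth (Localization.AtPrime q) (LocalizedModule q.primeCompl M) =
    LocCoh.depth (Localization.AtPrime p) (LocalizedModule p.primeCompl M) + _
  rw [depth_eq_top_of_subsingleton, depth_eq_top_of_subsingleton, top_add]

theorem depthAdd_of_quotSMulTop (y : A) (hy : y ∈ p) (hreg : IsSMulRegular M y)
    (h : DepthAdd p (QuotSMulTop y M)) : DepthAdd p M := by
  refine h.mono fun q _ hpq hq => ?_
  have h1 := Groth.Agent.Lib.Helper16.LC.depth_localization_quotSMulTop q M y (hpq hy) hreg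
  have h2 := Groth.Agent.Lib.Helper16.LC.depth_localization_quotSMulTop p M y hy hreg
  change dp (QuotSMulTop y M) q + 1 = dp M q at h1
  change dp (QuotSMulTop y M) p + 1 = dp M p at h2
  rw [← h1, ← h2, hq, add_right_comm]

end steps

section torsion

variable (M : Type u) [AddCommGroup M] [Module A M] [Module.Finite A M]

omit [IsNoetherianRing A] [Module.Finite A M] in
theorem support_torsionSub_subset :
    Module.support A (DRing.torsionSub p M) ⊆ PrimeSpectrum.zeroLocus (p : Set A) := by
  intro Q hQ
  rw [Module.mem_support_iff_exists_annihilator] at hQ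
  obtain ⟨⟨m, k, hk⟩, hm⟩ := hQ
  rw [PrimeSpectrum.mem_zeroLocus]
  have h1 : p ^ (k + 1) ≤ Q.asIdeal := by
    intro a ha
    apply hm
    rw [Submodule.mem_annihilator_span_singleton]
    apply Subtype.ext
    exact hk a (Ideal.pow_le_pow_right (Nat.le_succ k) ha)
  exact Q.2.le_of_pow_le h1

/-- a nonzero localization of a module supported in `V(p)` has depth zero at `p` -/
theorem dp_eq_zero_of_support_subset (N : Type u) [AddCommGroup N] [Module A N]
    [Module.Finite A N]
    (hsupp : Module.support A N ⊆ PrimeSpectrum.zeroLocus (p : Set A))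
    (hN : Nontrivial (LocalizedModule p.primeCompl N)) : dp N p = 0 := by
  haveI : IsNoetherianRing (Localization.AtPrime p) :=
    IsLocalization.isNoetherianRing p.primeCompl _ inferInstance
  have hPs : (⟨p, hp⟩ : PrimeSpectrum A) ∈ Module.support A N := Module.mem_support_iff.mpr hN
  have h1 : Module.supportDim (Localization.AtPrime p) (LocalizedModule p.primeCompl N) ≤ 0 := by
    rw [Groth.Agent.Lib.Helper18.SkAt.supportDim_localizedModule_le_zero_iff N p hPs]
    intro Q _
    exact (PrimeSpectrum.mem_zeroLocus _ _).mp (hsupp Q.2)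
  have h2 := depth_le_supportDim (R := Localization.AtPrime p) (LocalizedModule p.primeCompl N)
  have h3 := h2.trans h1
  have h4 : dp N p ≤ 0 := by exact_mod_cast h3
  exact le_antisymm h4 zero_le

omit [IsNoetherianRing A] [Module.Finite A M] in
/-- localizing kills a submodule whose localization vanishes -/
noncomputable def locQuotEquiv (S : Submonoid A) (H : Submodule A M)
    (h : Subsingleton (LocalizedModule S H)) :
    LocalizedModule S M ≃ₗ[Localization S] LocalizedModule S (M ⧸ H) :=
  LinearEquiv.ofBijective (LocalizedModule.map S H.mkQ) ⟨by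
    rw [injective_iff_map_eq_zero]
    intro x hx
    obtain ⟨y, rfl⟩ := (LocalizedModule.map_exact S H.subtype H.mkQ
      (LinearMap.exact_subtype_mkQ H) x).mp hx
    rw [Subsingleton.elim y 0, map_zero],
    LocalizedModule.map_surjective S _ (Submodule.mkQ_surjective H)⟩

theorem depthAdd_of_quotient_torsionSub (h : DepthAdd p (M ⧸ DRing.torsionSub p M)) :
    DepthAdd p M := by
  have hsupp := support_torsionSub_subset p M
  have hgood := gen_good p (DRing.torsionSub p M) hsupp
  haveI : IsNoetherianRing (Localization.AtPrime p) :=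
    IsLocalization.isNoetherianRing p.primeCompl _ inferInstance
  by_cases hHp : Subsingleton (LocalizedModule p.primeCompl (DRing.torsionSub p M))
  · have hgen := gen_subsingleton p (DRing.torsionSub p M) hHp
    refine (hgen.and h).mono fun q _ hpq hq => ?_
    obtain ⟨hq1, hq2⟩ := hq
    haveI : IsNoetherianRing (Localization.AtPrime q) :=
      IsLocalization.isNoetherianRing q.primeCompl _ inferInstance
    have e1 := locQuotEquiv M q.primeCompl (DRing.torsionSub p M) hq1
    have e2 := locQuotEquiv M p.primeCompl (DRing.torsionSub p M) hHp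
    change LocCoh.depth _ _ = LocCoh.depth _ _ + _
    rw [depth_congr e1, depth_congr e2]
    exact hq2
  · rw [not_subsingleton_iff_nontrivial] at hHp
    obtain ⟨y, hyp, hyreg⟩ := exists_isSMulRegular_of_torsionSub_eq_bot p
      (M ⧸ DRing.torsionSub p M) (torsionSub_quotient_torsionSub p M)
    have hone : ∀ (q : Ideal A) [q.IsPrime], p ≤ q → 1 ≤ dp (M ⧸ DRing.torsionSub p M) q := by
      intro q _ hpq
      have h1 := depth_localization_quotSMulTop q (M ⧸ DRing.torsionSub p M) y (hpq hyp) hyreg
      change _ + 1 = dp (M ⧸ DRing.torsionSub p M) q at h1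
      rw [← h1]
      exact le_add_self
    have hp0 : dp (DRing.torsionSub p M) p = 0 :=
      dp_eq_zero_of_support_subset p (DRing.torsionSub p M) hsupp hHp
    have hMp : dp M p = 0 :=
      depth_mid (a := 0) (by simp)
        (LocalizedModule.map p.primeCompl (DRing.torsionSub p M).subtype)
        (LocalizedModule.map p.primeCompl (DRing.torsionSub p M).mkQ)
        (LocalizedModule.map_injective _ _ (Submodule.injective_subtype _))
        (LocalizedModule.map_surjective _ _ (Submodule.mkQ_surjective _))
        (LocalizedModule.map_exact _ _ _ (LinearMap.exact_subtype_mkQ _)) hp0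
        (by rw [zero_add]; exact hone p le_rfl)
    refine (hgood.and h).mono fun q _ hpq hq => ?_
    obtain ⟨hq1, hq2⟩ := hq
    haveI : IsNoetherianRing (Localization.AtPrime q) :=
      IsLocalization.isNoetherianRing q.primeCompl _ inferInstance
    haveI := nontrivial_of_le p (DRing.torsionSub p M) hpq hHp
    have hHq : dp (DRing.torsionSub p M) q = dp (A ⧸ p) q := by
      rcases hq1 with hq1 | hq1
      · exact absurd hq1 (not_subsingleton _)
      · exact hq1
    have hMq : dp M q = dp (A ⧸ p) q :=
      depth_mid (dp_quot_ne_top p hpq)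
        (LocalizedModule.map q.primeCompl (DRing.torsionSub p M).subtype)
        (LocalizedModule.map q.primeCompl (DRing.torsionSub p M).mkQ)
        (LocalizedModule.map_injective _ _ (Submodule.injective_subtype _))
        (LocalizedModule.map_surjective _ _ (Submodule.mkQ_surjective _))
        (LocalizedModule.map_exact _ _ _ (LinearMap.exact_subtype_mkQ _)) hHq
        (by
          change _ ≤ dp (M ⧸ DRing.torsionSub p M) q
          rw [hq2, add_comm]
          exact add_le_add_left (hone p le_rfl) _)
    rw [hMq, hMp, zero_add]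

end torsion

section main

theorem withBot_lt_of_add_one_lt (x : WithBot ℕ∞) (n : ℕ)
    (h : x + 1 < ((n + 1 : ℕ) : WithBot ℕ∞)) : x < (n : WithBot ℕ∞) := by
  induction x with
  | bot => exact WithBot.bot_lt_coe _
  | coe d =>
    induction d with
    | top =>
      exfalso
      have h2 : ((⊤ : ℕ∞) : WithBot ℕ∞) + 1 = ((⊤ : ℕ∞) : WithBot ℕ∞) := by
        rw [← WithBot.coe_one, ← WithBot.coe_add, top_add]
      rw [h2] at h
      have h3 : ((⊤ : ℕ∞) : WithBot ℕ∞) < (((n + 1 : ℕ) : ℕ∞) : WithBot ℕ∞) := h
      rw [WithBot.coe_lt_coe] at h3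
      exact absurd h3 (not_lt.mpr le_top)
    | coe k =>
      have h3 : (((k + 1 : ℕ) : ℕ∞) : WithBot ℕ∞) < (((n + 1 : ℕ) : ℕ∞) : WithBot ℕ∞) := by
        push_cast
        exact h
      rw [WithBot.coe_lt_coe, Nat.cast_lt] at h3
      have : k < n := by omega
      exact_mod_cast this

theorem depthAdd_aux (n : ℕ) :
    ∀ (M : Type u) [AddCommGroup M] [Module A M] [Module.Finite A M],
      dm M p < (n : WithBot ℕ∞) → DepthAdd p M := by
  induction n with
  | zero =>
    intro M _ _ _ h
    apply depthAdd_of_subsingleton
    have hbot : dm M p = ⊥ := by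
      by_contra hne
      obtain ⟨d, hd⟩ := WithBot.ne_bot_iff_exists.mp hne
      rw [← hd] at h
      have h2 : (d : WithBot ℕ∞) < ((0 : ℕ∞) : WithBot ℕ∞) := by exact_mod_cast h
      exact absurd (WithBot.coe_lt_coe.mp h2) (not_lt.mpr zero_le)
    exact (Module.supportDim_eq_bot_iff_subsingleton _ _).mp hbot
  | succ n ih =>
    have stepA : ∀ (M : Type u) [AddCommGroup M] [Module A M] [Module.Finite A M],
        DRing.torsionSub p M = ⊥ → dm M p < ((n + 1 : ℕ) : WithBot ℕ∞) → DepthAdd p M := by
      intro M _ _ _ htf hlt
      obtain ⟨y, hyp, hyreg⟩ := exists_isSMulRegular_of_torsionSub_eq_bot p M htf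
      apply depthAdd_of_quotSMulTop p M y hyp hyreg
      apply ih
      have h1 : dm (QuotSMulTop y M) p + 1 = dm M p :=
        Groth.Agent.Lib.Helper18.SkQuot.supportDim_localization_quotSMulTop p M y hyp hyreg
      rw [← h1] at hlt
      exact withBot_lt_of_add_one_lt _ n hlt
    intro M _ _ _ hlt
    apply depthAdd_of_quotient_torsionSub
    apply stepA _ (torsionSub_quotient_torsionSub p M)
    refine lt_of_le_of_lt ?_ hlt
    exact Module.supportDim_le_of_surjective
      (LocalizedModule.map p.primeCompl (DRing.torsionSub p M).mkQ)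
      (LocalizedModule.map_surjective _ _ (Submodule.mkQ_surjective _))

/-- **Generic additivity of depth** along `V(p)`: there is `f ∉ p` such that
`depth M_q = depth M_p + depth (A/p)_q` for all primes `q ⊇ p` with `f ∉ q`. -/
theorem depthAdd (M : Type u) [AddCommGroup M] [Module A M] [Module.Finite A M] :
    DepthAdd p M := by
  haveI : IsNoetherianRing (Localization.AtPrime p) :=
    IsLocalization.isNoetherianRing p.primeCompl _ inferInstance
  by_cases hsub : Subsingleton (LocalizedModule p.primeCompl M)
  · exact depthAdd_of_subsingleton p M hsub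
  · rw [not_subsingleton_iff_nontrivial] at hsub
    obtain ⟨d, hd⟩ := exists_nat_eq_supportDim (R := Localization.AtPrime p)
      (LocalizedModule p.primeCompl M)
    apply depthAdd_aux p (d + 1) M
    change Module.supportDim _ _ < _
    rw [hd]
    exact_mod_cast Nat.lt_succ_self d

end main

end Groth.Agent.Lib.Helper18.GenAdd
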