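import Mathlib

set_option autoImplicit false
set_option linter.unusedSectionVars false
set_option linter.style.haveILetI false
universe u

namespace Groth.Agent.Lib.Helper18.GenAdd

section surj

variable {R S : Type u} [CommRing R] [CommRing S] (φ : R →+* S) (hφ : Function.Surjective φ)

include hφ in
theorem map_lt_map_of_ker_le {P Q : Ideal R} (hPQ : P < Q) (hP : RingHom.ker φ ≤ P) :
    P.map φ < Q.map φ := by
  refine lt_of_le_of_ne (Ideal.map_mono hPQ.le) fun heq => ?_
  have h1 : (P.map φ).comap φ = (Q.map φ).comap φ := by rw [heq]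
  rw [Ideal.comap_map_of_surjective φ hφ, Ideal.comap_map_of_surjective φ hφ] at h1
  have hk : Ideal.comap φ ⊥ = RingHom.ker φ := rfl
  rw [hk, sup_eq_left.mpr hP, sup_eq_left.mpr (hP.trans hPQ.le)] at h1
  exact hPQ.ne h1

include hφ in
/-- if the kernel of a surjection is contained in all primes below `Q`, heights below `Q` are
bounded by heights of the images -/
theorem height_le_height_map_aux (Q : Ideal R)
    (hker : ∀ (P : Ideal R) [P.IsPrime], P ≤ Q → RingHom.ker φ ≤ P) (n : ℕ) :
    ∀ (P : Ideal R) [P.IsPrime], P ≤ Q → (P.map φ).height ≤ n → P.height ≤ n := by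
  induction n with
  | zero =>
    intro P hP hPQ hn
    have hPm : (P.map φ).IsPrime := Ideal.map_isPrime_of_surjective hφ (hker P hPQ)
    rw [Nat.cast_zero] at hn ⊢
    rw [show (0 : ℕ∞) = ((0 : ℕ) : ℕ∞) from rfl, Ideal.height_le_iff] at hn ⊢
    intro P' hP' hlt
    have hP'm : (P'.map φ).IsPrime :=
      Ideal.map_isPrime_of_surjective hφ (hker P' (hlt.le.trans hPQ))
    have := hn (P'.map φ) hP'm (map_lt_map_of_ker_le φ hφ hlt (hker P' (hlt.le.trans hPQ)))
    exact absurd this (by simp)
  | succ n ih =>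
    intro P hP hPQ hn
    have hPm : (P.map φ).IsPrime := Ideal.map_isPrime_of_surjective hφ (hker P hPQ)
    rw [Ideal.height_le_iff] at hn ⊢
    intro P' hP' hlt
    have hP'm : (P'.map φ).IsPrime :=
      Ideal.map_isPrime_of_surjective hφ (hker P' (hlt.le.trans hPQ))
    have h1 := hn (P'.map φ) hP'm (map_lt_map_of_ker_le φ hφ hlt (hker P' (hlt.le.trans hPQ)))
    have h2 : (P'.map φ).height ≤ n := by
      have : (P'.map φ).height < (n : ℕ∞) + 1 := by exact_mod_cast h1
      exact (ENat.lt_add_one_iff (ENat.natCast_ne_top n)).mp this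
    have h3 := ih P' (hlt.le.trans hPQ) h2
    exact lt_of_le_of_lt h3 (by exact_mod_cast Nat.lt_succ_self n)

include hφ in
theorem height_le_height_map (Q : Ideal R) [Q.IsPrime]
    (hker : ∀ (P : Ideal R) [P.IsPrime], P ≤ Q → RingHom.ker φ ≤ P) :
    Q.height ≤ (Q.map φ).height := by
  by_cases htop : (Q.map φ).height = ⊤
  · rw [htop]; exact le_top
  · obtain ⟨n, hn⟩ := ENat.ne_top_iff_exists.mp htop
    rw [← hn]
    exact height_le_height_map_aux φ hφ Q hker n Q le_rfl (by rw [← hn])

end surj

section add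

variable {B : Type u} [CommRing B] (p : Ideal B) [hp : p.IsPrime]

theorem height_add_le_aux (n : ℕ) :
    ∀ (q : Ideal B) [q.IsPrime], p ≤ q → (n : ℕ∞) ≤ (q.map (Ideal.Quotient.mk p)).height →
      p.height + n ≤ q.height := by
  induction n with
  | zero =>
    intro q _ hpq _
    rw [Nat.cast_zero, add_zero]
    exact Ideal.height_mono hpq
  | succ n ih =>
    intro q hq hpq hn
    have hqm : (q.map (Ideal.Quotient.mk p)).IsPrime :=
      Ideal.map_isPrime_of_surjective Ideal.Quotient.mk_surjective (by rwa [Ideal.mk_ker])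
    have hnot : ¬ (q.map (Ideal.Quotient.mk p)).height ≤ n := by
      intro hle
      have : ((n + 1 : ℕ) : ℕ∞) ≤ n := hn.trans hle
      have : n + 1 ≤ n := by exact_mod_cast this
      omega
    rw [Ideal.height_le_iff] at hnot
    push Not at hnot
    obtain ⟨Q', hQ', hlt, hQn⟩ := hnot
    have hQc : (Q'.comap (Ideal.Quotient.mk p)).IsPrime := Ideal.comap_isPrime _ _
    have hpQ : p ≤ Q'.comap (Ideal.Quotient.mk p) := by
      intro x hx
      rw [Ideal.mem_comap, Ideal.Quotient.eq_zero_iff_mem.mpr hx]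
      exact Q'.zero_mem
    have hQq : Q'.comap (Ideal.Quotient.mk p) < q := by
      have hqc : (q.map (Ideal.Quotient.mk p)).comap (Ideal.Quotient.mk p) = q := by
        rw [Ideal.comap_map_of_surjective _ Ideal.Quotient.mk_surjective]
        have hk : Ideal.comap (Ideal.Quotient.mk p) ⊥ = p := by
          rw [← RingHom.ker_eq_comap_bot, Ideal.mk_ker]
        rw [hk, sup_eq_left.mpr hpq]
      refine lt_of_le_of_ne ?_ fun heq => ?_
      · rw [← hqc]
        exact Ideal.comap_mono hlt.le
      · have : Q' = q.map (Ideal.Quotient.mk p) := by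
          rw [← heq, Ideal.map_comap_of_surjective _ Ideal.Quotient.mk_surjective]
        exact hlt.ne this
    have hQm : (Q'.comap (Ideal.Quotient.mk p)).map (Ideal.Quotient.mk p) = Q' :=
      Ideal.map_comap_of_surjective _ Ideal.Quotient.mk_surjective _
    have h1 := ih (Q'.comap (Ideal.Quotient.mk p)) hpQ (by rw [hQm]; exact hQn)
    have h2 := Ideal.height_add_one_le_of_lt_of_isPrime hQq
    calc p.height + ((n + 1 : ℕ) : ℕ∞) = (p.height + n) + 1 := by push_cast; rw [add_assoc]
      _ ≤ (Q'.comap (Ideal.Quotient.mk p)).height + 1 := add_le_add h1 le_rfl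
      _ ≤ q.height := h2

/-- `ht p + ht (q/p) ≤ ht q` -/
theorem height_add_le (q : Ideal B) [q.IsPrime] (hpq : p ≤ q) :
    p.height + (q.map (Ideal.Quotient.mk p)).height ≤ q.height := by
  by_cases htop : (q.map (Ideal.Quotient.mk p)).height = ⊤
  · rw [htop, add_top, ← ENat.forall_natCast_le_iff_le]
    intro a _
    have := height_add_le_aux p a q hpq (by rw [htop]; exact le_top)
    exact le_trans le_add_self this
  · obtain ⟨n, hn⟩ := ENat.ne_top_iff_exists.mp htop
    rw [← hn]
    exact height_add_le_aux p n q hpq (by rw [hn])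

variable [IsNoetherianRing B]

/-- **generic height bound**: there is `f ∉ p` with `ht q ≤ ht p + ht (q/p)` for all primes
`q ⊇ p` not containing `f` -/
theorem exists_height_le_add : ∃ f : B, f ∉ p ∧ ∀ (q : Ideal B) [q.IsPrime], p ≤ q → f ∉ q →
    q.height ≤ p.height + (q.map (Ideal.Quotient.mk p)).height := by
  classical
  obtain ⟨s, hps, hs⟩ := p.exists_finset_card_eq_height_of_isNoetherianRing
  set I : Ideal B := Ideal.span (s : Set B) with hI
  have hIp : I ≤ p := hps.1.2
  have hfin : I.minimalPrimes.Finite := Ideal.finite_minimalPrimes_of_isNoetherianRing B I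
  have hex : ∀ P ∈ I.minimalPrimes, P ≠ p → ∃ x ∈ P, x ∉ p := by
    intro P hP hne
    by_contra hcon
    push Not at hcon
    have hPp : P ≤ p := hcon
    have := hps.2 ⟨hP.1.1, hP.1.2⟩ hPp
    exact hne (le_antisymm hPp this)
  choose! x hxP hxp using hex
  let T : Finset (Ideal B) := hfin.toFinset.erase p
  have hT : ∀ P, P ∈ T ↔ P ∈ I.minimalPrimes ∧ P ≠ p := by
    intro P
    simp only [T, Finset.mem_erase, Set.Finite.mem_toFinset]
    tauto
  refine ⟨∏ P ∈ T, x P, ?_, ?_⟩
  · intro hmem
    rw [Ideal.IsPrime.prod_mem_iff] at hmem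
    obtain ⟨P, hPT, hxPp⟩ := hmem
    have hP := (hT P).mp hPT
    exact hxp P hP.1 hP.2 hxPp
  · intro q hq hpq hfq
    have hIq : I ≤ q := hIp.trans hpq
    have h1 := Ideal.height_le_height_add_spanFinrank_of_le hIq
    have h2 : (I.spanFinrank : ℕ∞) ≤ p.height := by
      rw [← hs]
      have := Submodule.spanFinrank_span_le_ncard_of_finite (R := B) (s := (s : Set B))
        s.finite_toSet
      rw [Set.ncard_coe_finset] at this
      exact_mod_cast this
    let φ : B ⧸ I →+* B ⧸ p := Ideal.Quotient.factor hIp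
    have hφ : Function.Surjective φ := Ideal.Quotient.factor_surjective hIp
    have hqI : (q.map (Ideal.Quotient.mk I)).IsPrime :=
      Ideal.map_isPrime_of_surjective Ideal.Quotient.mk_surjective (by rwa [Ideal.mk_ker])
    have hmapmap : (q.map (Ideal.Quotient.mk I)).map φ = q.map (Ideal.Quotient.mk p) := by
      rw [Ideal.map_map, Ideal.Quotient.factor_comp_mk]
    have hqc : (q.map (Ideal.Quotient.mk I)).comap (Ideal.Quotient.mk I) = q := by
      rw [Ideal.comap_map_of_surjective _ Ideal.Quotient.mk_surjective]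
      have hk : Ideal.comap (Ideal.Quotient.mk I) ⊥ = I := by
        rw [← RingHom.ker_eq_comap_bot, Ideal.mk_ker]
      rw [hk, sup_eq_left.mpr hIq]
    have hker : ∀ (P' : Ideal (B ⧸ I)) [P'.IsPrime], P' ≤ q.map (Ideal.Quotient.mk I) →
        RingHom.ker φ ≤ P' := by
      intro P' hP' hle y hy
      obtain ⟨b, rfl⟩ := Ideal.Quotient.mk_surjective y
      rw [RingHom.mem_ker, Ideal.Quotient.factor_mk, Ideal.Quotient.eq_zero_iff_mem] at hy
      have hQprime : (P'.comap (Ideal.Quotient.mk I)).IsPrime := Ideal.comap_isPrime _ _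
      have hIQ : I ≤ P'.comap (Ideal.Quotient.mk I) := by
        intro z hz
        rw [Ideal.mem_comap, Ideal.Quotient.eq_zero_iff_mem.mpr hz]
        exact P'.zero_mem
      have hQq : P'.comap (Ideal.Quotient.mk I) ≤ q := by
        rw [← hqc]
        exact Ideal.comap_mono hle
      obtain ⟨P, hPmin, hPQ⟩ := Ideal.exists_minimalPrimes_le hIQ
      have hPeq : P = p := by
        by_contra hne
        have hPT : P ∈ T := (hT P).mpr ⟨hPmin, hne⟩
        have hmem : ∏ P ∈ T, x P ∈ P := by
          obtain ⟨c, hc⟩ := Finset.dvd_prod_of_mem x hPT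
          rw [hc]
          exact Ideal.mul_mem_right _ _ (hxP P hPmin hne)
        exact hfq (hQq (hPQ hmem))
      rw [hPeq] at hPQ
      exact hPQ hy
    have h3 := height_le_height_map φ hφ (q.map (Ideal.Quotient.mk I)) hker
    rw [hmapmap] at h3
    calc q.height ≤ (q.map (Ideal.Quotient.mk I)).height + I.spanFinrank := h1
      _ ≤ (q.map (Ideal.Quotient.mk p)).height + p.height := add_le_add h3 h2
      _ = _ := add_comm _ _

/-- **generic additivity of heights** along `V(p)` -/
theorem exists_height_eq_add : ∃ f : B, f ∉ p ∧ ∀ (q : Ideal B) [q.IsPrime], p ≤ q → f ∉ q →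
    q.height = p.height + (q.map (Ideal.Quotient.mk p)).height := by
  obtain ⟨f, hf, h⟩ := exists_height_le_add p
  exact ⟨f, hf, fun q _ hpq hfq => le_antisymm (h q hpq hfq) (height_add_le p q hpq)⟩

end add

end Groth.Agent.Lib.Helper18.GenAdd
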