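import Mathlib
import Groth.Agent.Lib.Helper18.GenAdd2
import Groth.Agent.Lib.Helper18.GenAdd3

set_option autoImplicit false
set_option linter.unusedSectionVars false
set_option linter.style.haveILetI false
universe u

open IsLocalRing

namespace Groth.Agent.Lib.Helper18.GenAdd

open Groth.Agent.Lib.Helper18.CM

variable {A : Type u} [CommRing A]

/-- `dim (A_q / J A_q) = ht (q/J)` for an ideal `J ≤ q` (after helper16) -/
theorem ringKrullDim_localization_quotient_map (J q : Ideal A) [q.IsPrime] (hJq : J ≤ q) :
    ringKrullDim (Localization.AtPrime q ⧸ J.map (algebraMap A (Localization.AtPrime q))) =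
      ((q.map (Ideal.Quotient.mk J)).height : WithBot ℕ∞) := by
  have hprime : (q.map (Ideal.Quotient.mk J)).IsPrime :=
    Ideal.map_isPrime_of_surjective Ideal.Quotient.mk_surjective (by rwa [Ideal.mk_ker])
  have hsub : Algebra.algebraMapSubmonoid (A ⧸ J) q.primeCompl =
      (q.map (Ideal.Quotient.mk J)).primeCompl := by
    ext x
    obtain ⟨r, rfl⟩ := Ideal.Quotient.mk_surjective x
    constructor
    · rintro ⟨t, ht, hrt⟩ hmem
      apply ht
      have h1 : (Ideal.Quotient.mk J) t ∈ q.map (Ideal.Quotient.mk J) := by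
        have : (algebraMap A (A ⧸ J)) t = (Ideal.Quotient.mk J) r := hrt
        rw [← this] at hmem
        exact hmem
      obtain ⟨t', ht', hEq⟩ :=
        (Ideal.mem_map_iff_of_surjective _ Ideal.Quotient.mk_surjective).mp h1
      have h2 : t - t' ∈ J := by
        rw [← Ideal.Quotient.eq]
        exact hEq.symm
      have h3 : t = (t - t') + t' := by ring
      rw [h3]
      exact q.add_mem (hJq h2) ht'
    · intro hr
      refine ⟨r, ?_, rfl⟩
      intro hrs
      exact hr (Ideal.mem_map_of_mem _ hrs)
  have hloc : IsLocalization.AtPrime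
      (Localization.AtPrime q ⧸ J.map (algebraMap A (Localization.AtPrime q)))
      (q.map (Ideal.Quotient.mk J)) := by
    unfold IsLocalization.AtPrime
    rw [← hsub]
    infer_instance
  exact IsLocalization.AtPrime.ringKrullDim_eq_height (q.map (Ideal.Quotient.mk J)) _

/-- `(A/J)_q ≃ A_q / J A_q` -/
theorem nonempty_locQuotIdealEquiv (q : Ideal A) [q.IsPrime] (J : Ideal A) :
    Nonempty (LocalizedModule q.primeCompl (A ⧸ J) ≃ₗ[Localization.AtPrime q]
      (Localization.AtPrime q ⧸ J.map (algebraMap A (Localization.AtPrime q)))) := by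
  let ψ₀ : (A ⧸ J) →ₗ[A]
      (Localization.AtPrime q ⧸ Submodule.localized' (Localization.AtPrime q) q.primeCompl
        (Algebra.linearMap A (Localization.AtPrime q)) J) :=
    Submodule.toLocalizedQuotient' (Localization.AtPrime q) q.primeCompl
      (Algebra.linearMap A (Localization.AtPrime q)) J
  let e : (Localization.AtPrime q ⧸ Submodule.localized' (Localization.AtPrime q) q.primeCompl
        (Algebra.linearMap A (Localization.AtPrime q)) J) ≃ₗ[A]
      (Localization.AtPrime q ⧸ J.map (algebraMap A (Localization.AtPrime q))) :=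
    (Submodule.quotEquivOfEq _ _ (Ideal.localized'_eq_map (Localization.AtPrime q) q.primeCompl
      J)).restrictScalars A
  let ψ : (A ⧸ J) →ₗ[A] (Localization.AtPrime q ⧸ J.map (algebraMap A (Localization.AtPrime q))) :=
    e.toLinearMap ∘ₗ ψ₀
  haveI : IsLocalizedModule q.primeCompl ψ := IsLocalizedModule.of_linearEquiv _ ψ₀ e
  exact ⟨LinearEquiv.extendScalarsOfIsLocalization q.primeCompl (Localization.AtPrime q)
    (IsLocalizedModule.iso q.primeCompl ψ)⟩

theorem dm_quot_eq_height (J q : Ideal A) [q.IsPrime] (hJq : J ≤ q) :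
    dm (A ⧸ J) q = ((q.map (Ideal.Quotient.mk J)).height : WithBot ℕ∞) := by
  obtain ⟨e⟩ := nonempty_locQuotIdealEquiv q J
  change Module.supportDim _ _ = _
  rw [Module.supportDim_eq_of_equiv e, Module.supportDim_quotient_eq_ringKrullDim,
    ringKrullDim_localization_quotient_map J q hJq]

theorem krullDim_congr_set {S T : Set (PrimeSpectrum A)} (h : S = T) (q : Ideal A) :
    Order.krullDim {Q : S // Q.1.asIdeal ≤ q} = Order.krullDim {Q : T // Q.1.asIdeal ≤ q} := by
  subst h
  rfl

theorem dm_eq_of_support_eq {M N : Type u} [AddCommGroup M] [Module A M] [AddCommGroup N]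
    [Module A N] (h : Module.support A M = Module.support A N) (q : Ideal A) [q.IsPrime] :
    dm M q = dm N q := by
  change Module.supportDim _ _ = Module.supportDim _ _
  rw [Groth.Agent.Lib.Helper18.SkAt.supportDim_localizedModule_eq_krullDim,
    Groth.Agent.Lib.Helper18.SkAt.supportDim_localizedModule_eq_krullDim]
  exact krullDim_congr_set h q

theorem dm_eq_height (M : Type u) [AddCommGroup M] [Module A M] [Module.Finite A M]
    (q : Ideal A) [q.IsPrime] (hq : Module.annihilator A M ≤ q) :
    dm M q = ((q.map (Ideal.Quotient.mk (Module.annihilator A M))).height : WithBot ℕ∞) := by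
  rw [← dm_quot_eq_height _ q hq]
  apply dm_eq_of_support_eq
  rw [Module.support_eq_zeroLocus, Module.support_eq_zeroLocus, Ideal.annihilator_quotient]

section dimAdd

variable [IsNoetherianRing A] (p : Ideal A) [hp : p.IsPrime]
  (M : Type u) [AddCommGroup M] [Module A M] [Module.Finite A M]

theorem comap_map_mk_of_le {J q : Ideal A} (hJq : J ≤ q) :
    (q.map (Ideal.Quotient.mk J)).comap (Ideal.Quotient.mk J) = q := by
  rw [Ideal.comap_map_of_surjective _ Ideal.Quotient.mk_surjective]
  have hk : Ideal.comap (Ideal.Quotient.mk J) ⊥ = J := by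
    rw [← RingHom.ker_eq_comap_bot, Ideal.mk_ker]
  rw [hk, sup_eq_left.mpr hJq]

theorem height_map_map_mk {J p q : Ideal A} (hJp : J ≤ p) :
    ((q.map (Ideal.Quotient.mk J)).map (Ideal.Quotient.mk (p.map (Ideal.Quotient.mk J)))).height =
      (q.map (Ideal.Quotient.mk p)).height := by
  have h1 : q.map (Ideal.Quotient.mk p) = (q.map (DoubleQuot.quotQuotMk J p)).map
      ((DoubleQuot.quotQuotEquivQuotOfLE hJp : _ ≃+* _) : _ →+* _) := by
    rw [Ideal.map_map, DoubleQuot.quotQuotEquivQuotOfLE_comp_quotQuotMk]
  have h2 : q.map (DoubleQuot.quotQuotMk J p) =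
      (q.map (Ideal.Quotient.mk J)).map (Ideal.Quotient.mk (p.map (Ideal.Quotient.mk J))) := by
    rw [Ideal.map_map]
    rfl
  rw [h1, ← h2]
  exact (RingEquiv.height_map (DoubleQuot.quotQuotEquivQuotOfLE hJp) _).symm

/-- **Generic additivity of dimension** along `V(p)`: there is `f ∉ p` such that
`dim M_q = dim M_p + ht (q/p)` for all primes `q ⊇ p` with `f ∉ q`. -/
theorem dimAdd :
    Gen p (fun q _ => dm M q = dm M p + ((q.map (Ideal.Quotient.mk p)).height : WithBot ℕ∞)) := by
  by_cases hsub : Subsingleton (LocalizedModule p.primeCompl M)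
  · refine (gen_subsingleton p M hsub).mono fun q _ _ hq => ?_
    have h1 : dm M q = ⊥ := (Module.supportDim_eq_bot_iff_subsingleton _ _).mpr hq
    have h2 : dm M p = ⊥ := (Module.supportDim_eq_bot_iff_subsingleton _ _).mpr hsub
    rw [h1, h2, WithBot.bot_add]
  · rw [not_subsingleton_iff_nontrivial] at hsub
    have hps : (⟨p, hp⟩ : PrimeSpectrum A) ∈ Module.support A M := Module.mem_support_iff.mpr hsub
    have hJp : Module.annihilator A M ≤ p := Module.mem_support_iff_of_finite.mp hps
    have hpm : (p.map (Ideal.Quotient.mk (Module.annihilator A M))).IsPrime :=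
      Ideal.map_isPrime_of_surjective Ideal.Quotient.mk_surjective (by rwa [Ideal.mk_ker])
    obtain ⟨f', hf', h⟩ := exists_height_eq_add (p.map (Ideal.Quotient.mk (Module.annihilator A M)))
    obtain ⟨f, rfl⟩ := Ideal.Quotient.mk_surjective f'
    refine ⟨f, fun hfp => hf' (Ideal.mem_map_of_mem _ hfp), fun q hq hpq hfq => ?_⟩
    have hJq : Module.annihilator A M ≤ q := hJp.trans hpq
    have hqm : (q.map (Ideal.Quotient.mk (Module.annihilator A M))).IsPrime :=
      Ideal.map_isPrime_of_surjective Ideal.Quotient.mk_surjective (by rwa [Ideal.mk_ker])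
    have hfq' : (Ideal.Quotient.mk (Module.annihilator A M)) f ∉
        q.map (Ideal.Quotient.mk (Module.annihilator A M)) := by
      intro hmem
      apply hfq
      rw [← comap_map_mk_of_le hJq]
      exact hmem
    have h1 := h (q.map (Ideal.Quotient.mk (Module.annihilator A M))) (Ideal.map_mono hpq) hfq'
    rw [height_map_map_mk hJp] at h1
    change dm M q = dm M p + _
    rw [dm_eq_height M q hJq, dm_eq_height M p hJp, h1, WithBot.coe_add]

end dimAdd

end Groth.Agent.Lib.Helper18.GenAdd
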