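import Mathlib
import Groth.Agent.Lib.Helper18.GenAdd4
import Groth.Agent.Lib.Helper16.DepthLocalize

set_option autoImplicit false
set_option linter.unusedSectionVars false
set_option linter.style.haveILetI false
universe u

open IsLocalRing

namespace Groth.Agent.Lib.Helper18.GenAdd

open Groth.Agent.Lib.Helper18.CM

variable {A : Type u} [CommRing A] [IsNoetherianRing A]

/-- **Pointwise Nagata criterion.** Let `G` be a set of primes of a Noetherian ring such that,
whenever all generizations of `w` lie in `G`, the set `G` contains `V(w) ∩ D(f)` for some `f ∉ w`.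
Then the set of primes all of whose generizations lie in `G` is open. -/
theorem isOpen_of_pointwise (G : Set (PrimeSpectrum A))
    (h : ∀ w : PrimeSpectrum A, (∀ y, y ≤ w → y ∈ G) → ∃ f : A, f ∉ w.asIdeal ∧
      ∀ q : PrimeSpectrum A, w ≤ q → f ∉ q.asIdeal → q ∈ G) :
    IsOpen {x : PrimeSpectrum A | ∀ y, y ≤ x → y ∈ G} := by
  classical
  rw [← isClosed_compl_iff]
  set I : Ideal A := PrimeSpectrum.vanishingIdeal Gᶜ with hI
  have hIz : ∀ z ∈ Gᶜ, I ≤ z.asIdeal := fun z hz =>
    PrimeSpectrum.subset_zeroLocus_vanishingIdeal Gᶜ hz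
  have hEq : {x : PrimeSpectrum A | ∀ y, y ≤ x → y ∈ G}ᶜ = PrimeSpectrum.zeroLocus (I : Set A) := by
    ext x
    rw [Set.mem_compl_iff, Set.mem_ofPred_eq, PrimeSpectrum.mem_zeroLocus, SetLike.coe_subset_coe]
    constructor
    · intro hx
      push Not at hx
      obtain ⟨y, hyx, hyG⟩ := hx
      exact (hIz y hyG).trans hyx
    · intro hIx hcon
      obtain ⟨w, hwmin, hwx⟩ := Ideal.exists_minimalPrimes_le hIx
      have hwprime : w.IsPrime := hwmin.1.1
      obtain ⟨f, hfw, hf⟩ := h ⟨w, hwprime⟩ (fun y hy => hcon y (hy.trans hwx))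
      have hfin : I.minimalPrimes.Finite := Ideal.finite_minimalPrimes_of_isNoetherianRing A I
      have hex : ∀ P ∈ I.minimalPrimes, P ≠ w → ∃ x ∈ P, x ∉ w := by
        intro P hP hne
        by_contra hc
        push Not at hc
        have hPw : P ≤ w := hc
        have := hwmin.2 ⟨hP.1.1, hP.1.2⟩ hPw
        exact hne (le_antisymm hPw this)
      choose! c hcP hcw using hex
      let T : Finset (Ideal A) := hfin.toFinset.erase w
      have hT : ∀ P, P ∈ T ↔ P ∈ I.minimalPrimes ∧ P ≠ w := by
        intro P
        simp only [T, Finset.mem_erase, Set.Finite.mem_toFinset]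
        tauto
      have hgw : ∏ P ∈ T, c P ∉ w := by
        intro hmem
        rw [Ideal.IsPrime.prod_mem_iff] at hmem
        obtain ⟨P, hPT, hcPw⟩ := hmem
        have hP := (hT P).mp hPT
        exact hcw P hP.1 hP.2 hcPw
      have hfg : f * ∏ P ∈ T, c P ∈ I := by
        rw [hI, PrimeSpectrum.mem_vanishingIdeal]
        intro z hz
        obtain ⟨P, hPmin, hPz⟩ := Ideal.exists_minimalPrimes_le (hIz z hz)
        by_cases hPw : P = w
        · by_contra hfgz
          have hfz : f ∉ z.asIdeal := fun hf' => hfgz (Ideal.mul_mem_right _ _ hf')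
          have hwz : (⟨w, hwprime⟩ : PrimeSpectrum A) ≤ z := by
            change w ≤ z.asIdeal
            rw [← hPw]
            exact hPz
          exact hz (hf z hwz hfz)
        · have hPT : P ∈ T := (hT P).mpr ⟨hPmin, hPw⟩
          have hmem : ∏ P ∈ T, c P ∈ P := by
            obtain ⟨d, hd⟩ := Finset.dvd_prod_of_mem c hPT
            rw [hd]
            exact Ideal.mul_mem_right _ _ (hcP P hPmin hPw)
          exact Ideal.mul_mem_left _ _ (hPz hmem)
      rcases hwprime.mem_or_mem (hwmin.1.2 hfg) with h1 | h1
      · exact hfw h1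
      · exact hgw h1
  rw [hEq]
  exact PrimeSpectrum.isClosed_zeroLocus _

section congr

variable (M : Type u) [AddCommGroup M] [Module A M]

omit [IsNoetherianRing A] in
theorem dm_congr {p p' : Ideal A} [p.IsPrime] [p'.IsPrime] (h : p' = p) : dm M p' = dm M p := by
  subst h
  rfl

omit [IsNoetherianRing A] in
theorem dp_congr {p p' : Ideal A} [p.IsPrime] [p'.IsPrime] (h : p' = p) : dp M p' = dp M p := by
  subst h
  rfl

end congr

section semicont

variable (M : Type u) [AddCommGroup M] [Module A M] [Module.Finite A M]

/-- codepth does not increase under generization -/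
theorem codepth_le_of_le {x y : Ideal A} [hx : x.IsPrime] [hy : y.IsPrime] (hxy : x ≤ y)
    (hnt : Nontrivial (LocalizedModule x.primeCompl M)) :
    dm M x + ((dp M y : ℕ∞) : WithBot ℕ∞) ≤ dm M y + ((dp M x : ℕ∞) : WithBot ℕ∞) := by
  haveI : IsNoetherianRing (Localization.AtPrime y) :=
    IsLocalization.isNoetherianRing y.primeCompl _ inferInstance
  have hdisj : Disjoint (y.primeCompl : Set A) x := by
    rw [Set.disjoint_left]
    intro a ha hax
    exact ha (hxy hax)
  haveI hP : (x.map (algebraMap A (Localization.AtPrime y))).IsPrime :=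
    IsLocalization.isPrime_of_isPrime_disjoint y.primeCompl _ x hx hdisj
  have hc : (x.map (algebraMap A (Localization.AtPrime y))).comap
      (algebraMap A (Localization.AtPrime y)) = x :=
    IsLocalization.comap_map_of_isPrime_disjoint y.primeCompl _ hx hdisj
  have h1 := Groth.Agent.Lib.Helper18.SkAt.supportDim_localization_localization y M
    (x.map (algebraMap A (Localization.AtPrime y)))
  have h2 := Groth.Agent.Lib.Helper16.Depth.depth_localization_localization y M
    (x.map (algebraMap A (Localization.AtPrime y)))
  have h1' : Module.supportDim (Localization.AtPrime (x.map (algebraMap A (Localization.AtPrime y))))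
      (LocalizedModule (x.map (algebraMap A (Localization.AtPrime y))).primeCompl
        (LocalizedModule y.primeCompl M)) = dm M x := h1.trans (dm_congr M hc)
  have h2' : LocCoh.depth (Localization.AtPrime (x.map (algebraMap A (Localization.AtPrime y))))
      (LocalizedModule (x.map (algebraMap A (Localization.AtPrime y))).primeCompl
        (LocalizedModule y.primeCompl M)) = dp M x := h2.trans (dp_congr M hc)
  haveI : Nontrivial (LocalizedModule (x.map (algebraMap A (Localization.AtPrime y))).primeCompl
      (LocalizedModule y.primeCompl M)) := by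
    rw [← Module.supportDim_ne_bot_iff_nontrivial
      (Localization.AtPrime (x.map (algebraMap A (Localization.AtPrime y)))), h1']
    exact (Module.supportDim_ne_bot_iff_nontrivial _ _).mpr hnt
  have h3 := codepth_localizedModule_le (A := Localization.AtPrime y)
    (LocalizedModule y.primeCompl M) (x.map (algebraMap A (Localization.AtPrime y)))
  rw [h1', h2'] at h3
  exact h3

end semicont

end Groth.Agent.Lib.Helper18.GenAdd
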