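import Mathlib
import Groth.Agent.Lib.Helper18.GenAdd5
import Groth.Agent.Lib.Helper16.DepthQuotient
import Groth.Agent.Lib.Helper18.SerreNormal

set_option autoImplicit false
set_option linter.unusedSectionVars false
set_option linter.style.haveILetI false
universe u

open IsLocalRing

namespace Groth.Agent.Lib.Helper18.GenAdd

open Groth.Agent.Lib.Helper18.CM

variable {A : Type u} [CommRing A] [IsNoetherianRing A] (w : Ideal A) [hw : w.IsPrime]

/-- a nonempty open subset of `Spec (A/w)` contains the image of `V(w) ∩ D(g)` for some `g ∉ w` -/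
theorem gen_of_open (U : Set (PrimeSpectrum (A ⧸ w))) (hU : IsOpen U) (hne : U.Nonempty) :
    Gen w (fun q _ => ∀ h : (q.map (Ideal.Quotient.mk w)).IsPrime,
      (⟨q.map (Ideal.Quotient.mk w), h⟩ : PrimeSpectrum (A ⧸ w)) ∈ U) := by
  obtain ⟨u, hu⟩ := hne
  obtain ⟨_, ⟨g', rfl⟩, hgu, hgU⟩ :=
    PrimeSpectrum.isTopologicalBasis_basic_opens.exists_subset_of_mem_open hu hU
  obtain ⟨g, rfl⟩ := Ideal.Quotient.mk_surjective g'
  refine ⟨g, fun hgw => ?_, fun q hq hwq hgq hprime => ?_⟩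
  · have : (Ideal.Quotient.mk w) g = 0 := Ideal.Quotient.eq_zero_iff_mem.mpr hgw
    rw [this] at hgu
    exact hgu (Ideal.zero_mem _)
  · apply hgU
    change (Ideal.Quotient.mk w) g ∉ q.map (Ideal.Quotient.mk w)
    intro hmem
    apply hgq
    rw [← comap_map_mk_of_le hwq]
    exact hmem

/-- depth of `(A/w)_q` over `A_q` equals depth of the local ring of `A/w` at `q/w` -/
theorem dp_quot_eq (q : Ideal A) [hq : q.IsPrime] (hwq : w ≤ q)
    [hq' : (q.map (Ideal.Quotient.mk w)).IsPrime] :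
    LocCoh.depth (Localization.AtPrime (q.map (Ideal.Quotient.mk w)))
        (LocalizedModule (q.map (Ideal.Quotient.mk w)).primeCompl (A ⧸ w)) = dp (A ⧸ w) q := by
  have h1 := Groth.Agent.Lib.Helper16.Depth.depth_localization_comap_of_surjective
    (A := A) (B := A ⧸ w) Ideal.Quotient.mk_surjective (A ⧸ w) (q.map (Ideal.Quotient.mk w))
  rw [h1]
  exact dp_congr (A ⧸ w) (comap_map_mk_of_le hwq)

omit [IsNoetherianRing A] in
theorem min_add_le (n : ℕ) (a : WithBot ℕ∞) (b : ℕ∞) :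
    min (n : WithBot ℕ∞) (a + (b : WithBot ℕ∞)) ≤
      min (n : WithBot ℕ∞) a + min (n : WithBot ℕ∞) (b : WithBot ℕ∞) := by
  induction a with
  | bot => simp
  | coe a =>
    have h1 : min (n : WithBot ℕ∞) ((a : WithBot ℕ∞) + (b : WithBot ℕ∞)) =
        ((min (n : ℕ∞) (a + b) : ℕ∞) : WithBot ℕ∞) := by
      rw [← WithBot.coe_add, WithBot.coe_min]
      rfl
    have h2 : min (n : WithBot ℕ∞) (a : WithBot ℕ∞) + min (n : WithBot ℕ∞) (b : WithBot ℕ∞) =
        ((min (n : ℕ∞) a + min (n : ℕ∞) b : ℕ∞) : WithBot ℕ∞) := by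
      rw [WithBot.coe_add, WithBot.coe_min, WithBot.coe_min]
      rfl
    rw [h1, h2, WithBot.coe_le_coe]
    rcases le_total (n : ℕ∞) a with h | h
    · rw [min_eq_left h]
      exact (min_le_left _ _).trans le_self_add
    · rcases le_total (n : ℕ∞) b with h' | h'
      · rw [min_eq_left h']
        exact (min_le_left _ _).trans le_add_self
      · rw [min_eq_right h, min_eq_right h']
        exact min_le_right _ _

/-- the generic Cohen–Macaulay condition on `A/w` at `q` -/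
def CMq (q : Ideal A) [q.IsPrime] : Prop :=
  (q.map (Ideal.Quotient.mk w)).height = dp (A ⧸ w) q

/-- the generic `(S_n)` inequality on `A/w` at `q` -/
def Snq (n : ℕ) (q : Ideal A) [q.IsPrime] : Prop :=
  min (n : ℕ∞) (q.map (Ideal.Quotient.mk w)).height ≤ dp (A ⧸ w) q

omit [IsNoetherianRing A] hw in
theorem snq_of_cmq (n : ℕ) (q : Ideal A) [q.IsPrime] (h : CMq w q) : Snq w n q := by
  unfold Snq
  rw [← h]
  exact min_le_right _ _

section consequences

variable (M : Type u) [AddCommGroup M] [Module A M] [Module.Finite A M] (n : ℕ)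

theorem gen_codepth_le (hMw : dm M w ≤ ((dp M w : ℕ∞) : WithBot ℕ∞) + n)
    (hCM : Gen w (fun q _ => CMq w q)) :
    Gen w (fun q _ => dm M q ≤ ((dp M q : ℕ∞) : WithBot ℕ∞) + n) := by
  refine (((dimAdd w M).and (depthAdd w M)).and hCM).mono fun q _ _ h => ?_
  obtain ⟨⟨h1, h2⟩, h3⟩ := h
  unfold CMq at h3
  rw [h1, h2, h3]
  push_cast
  calc dm M w + ((dp (A ⧸ w) q : ℕ∞) : WithBot ℕ∞)
      ≤ (((dp M w : ℕ∞) : WithBot ℕ∞) + n) + ((dp (A ⧸ w) q : ℕ∞) : WithBot ℕ∞) :=
        add_le_add hMw le_rfl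
    _ = _ := by rw [add_right_comm]

theorem gen_skIneq (hMw : Groth.Agent.Lib.Helper18.SkAt.SkIneq M n w)
    (hSn : Gen w (fun q _ => Snq w n q)) :
    Gen w (fun q _ => Groth.Agent.Lib.Helper18.SkAt.SkIneq M n q) := by
  refine (((dimAdd w M).and (depthAdd w M)).and hSn).mono fun q _ _ h => ?_
  obtain ⟨⟨h1, h2⟩, h3⟩ := h
  unfold Snq at h3
  unfold Groth.Agent.Lib.Helper18.SkAt.SkIneq at hMw ⊢
  change min (n : WithBot ℕ∞) (dm M q) ≤ ((dp M q : ℕ∞) : WithBot ℕ∞)
  change min (n : WithBot ℕ∞) (dm M w) ≤ ((dp M w : ℕ∞) : WithBot ℕ∞) at hMw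
  rw [h1, h2]
  refine (min_add_le n _ _).trans ?_
  push_cast
  refine add_le_add hMw ?_
  have : ((min (n : ℕ∞) (q.map (Ideal.Quotient.mk w)).height : ℕ∞) : WithBot ℕ∞) ≤
      ((dp (A ⧸ w) q : ℕ∞) : WithBot ℕ∞) := WithBot.coe_le_coe.mpr h3
  rw [WithBot.coe_min] at this
  exact this

end consequences

section bridge

theorem cmq_of_isCohenMacaulayLocalRing (q : Ideal A) [hq : q.IsPrime] (hwq : w ≤ q)
    [hq' : (q.map (Ideal.Quotient.mk w)).IsPrime]
    (h : LocCoh.IsCohenMacaulayLocalRing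
      (Localization.AtPrime (q.map (Ideal.Quotient.mk w)))) : CMq w q := by
  unfold CMq
  rw [← dp_quot_eq w q hwq]
  have h1 := h.supportDim_eq_depth
  rw [Module.supportDim_self_eq_ringKrullDim,
    IsLocalization.AtPrime.ringKrullDim_eq_height (q.map (Ideal.Quotient.mk w))
      (Localization.AtPrime (q.map (Ideal.Quotient.mk w))),
    ← Groth.Agent.Lib.Helper18.Serre.depth_localizedModule_self] at h1
  exact WithBot.coe_inj.mp h1

theorem snq_of_hasSkAt (n : ℕ) (q : Ideal A) [hq : q.IsPrime] (hwq : w ≤ q)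
    [hq' : (q.map (Ideal.Quotient.mk w)).IsPrime]
    (h : EGA4.HasSkAt n (A ⧸ w) (A ⧸ w) (q.map (Ideal.Quotient.mk w))) : Snq w n q := by
  unfold Snq
  rw [← dp_quot_eq w q hwq]
  have h1 := (Groth.Agent.Lib.Helper18.SkAt.hasSkAt_iff (q.map (Ideal.Quotient.mk w)) (A ⧸ w)
    n).mp h (q.map (Ideal.Quotient.mk w)) le_rfl
  unfold Groth.Agent.Lib.Helper18.SkAt.SkIneq at h1
  rw [Groth.Agent.Lib.Helper18.Serre.supportDim_localizedModule_self] at h1
  have h2 : ((min (n : ℕ∞) (q.map (Ideal.Quotient.mk w)).height : ℕ∞) : WithBot ℕ∞) ≤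
      ((LocCoh.depth (Localization.AtPrime (Ideal.map (Ideal.Quotient.mk w) q))
        (LocalizedModule (Ideal.map (Ideal.Quotient.mk w) q).primeCompl (A ⧸ w)) : ℕ∞) :
          WithBot ℕ∞) := by
    rw [WithBot.coe_min]
    exact h1
  exact WithBot.coe_le_coe.mp h2

theorem gen_cmq_of_open (h : ∃ U : Set (PrimeSpectrum (A ⧸ w)), IsOpen U ∧ U.Nonempty ∧
    ∀ q ∈ U, LocCoh.IsCohenMacaulayLocalRing (Localization.AtPrime q.asIdeal)) :
    Gen w (fun q _ => CMq w q) := by
  obtain ⟨U, hU, hne, hCM⟩ := h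
  refine (gen_of_open w U hU hne).mono fun q _ hwq hq => ?_
  have hprime : (q.map (Ideal.Quotient.mk w)).IsPrime :=
    Ideal.map_isPrime_of_surjective Ideal.Quotient.mk_surjective (by rwa [Ideal.mk_ker])
  exact cmq_of_isCohenMacaulayLocalRing w q hwq (hCM _ (hq hprime))

theorem gen_snq_of_open (n : ℕ) (h : ∃ U : Set (PrimeSpectrum (A ⧸ w)), IsOpen U ∧ U.Nonempty ∧
    ∀ q ∈ U, EGA4.HasSkAt n (A ⧸ w) (A ⧸ w) q.asIdeal) :
    Gen w (fun q _ => Snq w n q) := by
  obtain ⟨U, hU, hne, hS⟩ := h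
  refine (gen_of_open w U hU hne).mono fun q _ hwq hq => ?_
  have hprime : (q.map (Ideal.Quotient.mk w)).IsPrime :=
    Ideal.map_isPrime_of_surjective Ideal.Quotient.mk_surjective (by rwa [Ideal.mk_ker])
  exact snq_of_hasSkAt w n q hwq (hS _ (hq hprime))

end bridge

section opens

omit [IsNoetherianRing A] in
theorem withBot_cancel (a b : WithBot ℕ∞) (k : ℕ)
    (h : a + ((k : ℕ∞) : WithBot ℕ∞) ≤ b + ((k : ℕ∞) : WithBot ℕ∞)) : a ≤ b := by
  induction a with
  | bot => exact bot_le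
  | coe a =>
    induction b with
    | bot =>
      exfalso
      rw [WithBot.bot_add, ← WithBot.coe_add] at h
      exact absurd h (by simp)
    | coe b =>
      rw [← WithBot.coe_add, ← WithBot.coe_add, WithBot.coe_le_coe] at h
      rw [WithBot.coe_le_coe]
      exact (ENat.add_le_add_iff_right (ENat.natCast_ne_top k)).mp h

variable (M : Type u) [AddCommGroup M] [Module A M] [Module.Finite A M] (n : ℕ)

/-- the locus where the codepth is at most `n` is stable under generization -/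
theorem codepth_le_of_le' {x y : Ideal A} [hx : x.IsPrime] [hy : y.IsPrime] (hyx : y ≤ x)
    (hx' : dm M x ≤ ((dp M x : ℕ∞) : WithBot ℕ∞) + n) :
    dm M y ≤ ((dp M y : ℕ∞) : WithBot ℕ∞) + n := by
  by_cases hnt : Subsingleton (LocalizedModule y.primeCompl M)
  · change Module.supportDim _ _ ≤ _
    rw [(Module.supportDim_eq_bot_iff_subsingleton _ _).mpr hnt]
    exact bot_le
  · rw [not_subsingleton_iff_nontrivial] at hnt
    have h1 := codepth_le_of_le M hyx hnt
    haveI := nontrivial_of_le y M hyx hnt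
    haveI : IsNoetherianRing (Localization.AtPrime x) :=
      IsLocalization.isNoetherianRing x.primeCompl _ inferInstance
    have hfin : dp M x ≠ ⊤ :=
      depth_ne_top (R := Localization.AtPrime x) (LocalizedModule x.primeCompl M)
    obtain ⟨k, hk⟩ := ENat.ne_top_iff_exists.mp hfin
    rw [← hk] at h1 hx'
    apply withBot_cancel _ _ k
    calc dm M y + ((k : ℕ∞) : WithBot ℕ∞) ≤ dm M x + ((dp M y : ℕ∞) : WithBot ℕ∞) := h1
      _ ≤ (((k : ℕ∞) : WithBot ℕ∞) + n) + ((dp M y : ℕ∞) : WithBot ℕ∞) := add_le_add hx' le_rfl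
      _ = _ := by rw [add_comm, ← add_assoc, add_right_comm]

/-- openness of the locus of codepth at most `n`, given generic Cohen–Macaulayness of all
integral quotients -/
theorem isOpen_codepth_le (hCM : ∀ (w : Ideal A) [w.IsPrime], Gen w (fun q _ => CMq w q)) :
    IsOpen {p : PrimeSpectrum A |
      dm M p.asIdeal ≤ ((dp M p.asIdeal : ℕ∞) : WithBot ℕ∞) + n} := by
  have hEq : {p : PrimeSpectrum A | dm M p.asIdeal ≤ ((dp M p.asIdeal : ℕ∞) : WithBot ℕ∞) + n} =
      {x | ∀ y, y ≤ x → y ∈ {p : PrimeSpectrum A |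
        dm M p.asIdeal ≤ ((dp M p.asIdeal : ℕ∞) : WithBot ℕ∞) + n}} := by
    ext x
    constructor
    · intro hx y hyx
      exact codepth_le_of_le' M n hyx hx
    · intro h
      exact h x le_rfl
  rw [hEq]
  apply isOpen_of_pointwise
  intro w hw
  have hMw := hw w le_rfl
  obtain ⟨f, hf, h⟩ := gen_codepth_le w.asIdeal M n hMw (hCM w.asIdeal)
  exact ⟨f, hf, fun q hwq hfq => h q.asIdeal hwq hfq⟩

/-- openness of the `(S_n)` locus, given generic `(S_n)` of all integral quotients -/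
theorem isOpen_hasSkAt (hSn : ∀ (w : Ideal A) [w.IsPrime], Gen w (fun q _ => Snq w n q)) :
    IsOpen {p : PrimeSpectrum A | EGA4.HasSkAt n A M p.asIdeal} := by
  have hEq : {p : PrimeSpectrum A | EGA4.HasSkAt n A M p.asIdeal} =
      {x | ∀ y, y ≤ x → y ∈ {p : PrimeSpectrum A |
        Groth.Agent.Lib.Helper18.SkAt.SkIneq M n p.asIdeal}} := by
    ext x
    rw [Set.mem_ofPred_eq, Groth.Agent.Lib.Helper18.SkAt.hasSkAt_iff]
    constructor
    · intro h y hyx
      exact h y.asIdeal hyx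
    · intro h P hP hPx
      exact h ⟨P, hP⟩ hPx
  rw [hEq]
  apply isOpen_of_pointwise
  intro w hw
  have hMw := hw w le_rfl
  obtain ⟨f, hf, h⟩ := gen_skIneq w.asIdeal M n hMw (hSn w.asIdeal)
  exact ⟨f, hf, fun q hwq hfq => h q.asIdeal hwq hfq⟩

end opens

end Groth.Agent.Lib.Helper18.GenAdd
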