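import Mathlib
import Groth.Agent.Lib.Helper18.GenAdd6
import Groth.Agent.Lib.Helper16.DepthQuotient

set_option autoImplicit false
set_option linter.unusedSectionVars false
set_option linter.style.haveILetI false
universe u

open IsLocalRing

namespace Groth.Agent.Lib.Helper18.GenAdd

open Groth.Agent.Lib.Helper18.CM

section cm

variable {R : Type u} [CommRing R] [IsNoetherianRing R]

theorem dm_self_eq_dp_self [hR : LocCoh.IsCohenMacaulayRing R] (Q : Ideal R) [Q.IsPrime] :
    dm R Q = ((dp R Q : ℕ∞) : WithBot ℕ∞) := by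
  have h := (hR.isCohenMacaulayLocalRing_localization Q).supportDim_eq_depth
  have h1 : dm R Q = ((Q.height : ℕ∞) : WithBot ℕ∞) :=
    Groth.Agent.Lib.Helper18.Serre.supportDim_localizedModule_self Q
  have h2 : dp R Q = LocCoh.depth (Localization.AtPrime Q) (Localization.AtPrime Q) :=
    Groth.Agent.Lib.Helper18.Serre.depth_localizedModule_self Q
  rw [h1, h2, ← h, Module.supportDim_self_eq_ringKrullDim,
    IsLocalization.AtPrime.ringKrullDim_eq_height Q (Localization.AtPrime Q)]

/-- over a Cohen–Macaulay ring every integral quotient is generically Cohen–Macaulay -/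
theorem gen_cmq_of_isCohenMacaulayRing [hR : LocCoh.IsCohenMacaulayRing R] (W : Ideal R)
    [hW : W.IsPrime] : Gen W (fun Q _ => CMq W Q) := by
  refine ((dimAdd W R).and (depthAdd W R)).mono fun Q _ hWQ h => ?_
  obtain ⟨h1, h2⟩ := h
  unfold CMq
  haveI : IsNoetherianRing (Localization.AtPrime W) :=
    IsLocalization.isNoetherianRing W.primeCompl _ inferInstance
  haveI : Nontrivial (LocalizedModule W.primeCompl R) :=
    (Groth.Agent.Lib.Helper18.Serre.locSelfEquiv W).toEquiv.nontrivial
  have hfin : dp R W ≠ ⊤ :=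
    depth_ne_top (R := Localization.AtPrime W) (LocalizedModule W.primeCompl R)
  rw [dm_self_eq_dp_self Q, dm_self_eq_dp_self W, h2, ← WithBot.coe_add, WithBot.coe_inj] at h1
  exact (ENat.add_right_injective_of_ne_top hfin h1).symm

end cm

section surj

variable {R A : Type u} [CommRing R] [CommRing A] [IsNoetherianRing R] [IsNoetherianRing A]
  [Algebra R A] (hs : Function.Surjective (algebraMap R A))

include hs in
/-- generic Cohen–Macaulayness of integral quotients passes to quotient rings -/
theorem gen_cmq_of_surjective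
    (hR : ∀ (W : Ideal R) [W.IsPrime], Gen W (fun Q _ => CMq W Q)) (w : Ideal A) [hw : w.IsPrime] :
    Gen w (fun q _ => CMq w q) := by
  haveI hWp : (w.comap (algebraMap R A)).IsPrime := Ideal.comap_isPrime _ _
  obtain ⟨g, hg, h⟩ := hR (w.comap (algebraMap R A))
  refine ⟨algebraMap R A g, fun hgw => hg (Ideal.mem_comap.mpr hgw), fun q hq hwq hgq => ?_⟩
  haveI hQp : (q.comap (algebraMap R A)).IsPrime := Ideal.comap_isPrime _ _
  have hWQ : w.comap (algebraMap R A) ≤ q.comap (algebraMap R A) := Ideal.comap_mono hwq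
  have h0 := h (q.comap (algebraMap R A)) hWQ (fun hmem => hgq (Ideal.mem_comap.mp hmem))
  unfold CMq at h0 ⊢
  -- heights
  have h1 := Groth.Agent.Lib.Helper16.Depth.height_map_comap_of_surjective hs
    (q.comap (algebraMap R A)) w
  rw [sup_eq_left.mpr hWQ, Ideal.map_comap_of_surjective _ hs, sup_eq_left.mpr hwq] at h1
  -- depths
  haveI : Module.Finite R (A ⧸ w) :=
    Module.Finite.of_surjective (Algebra.linearMap R (A ⧸ w)) (by
      intro x
      obtain ⟨a, rfl⟩ := Ideal.Quotient.mk_surjective x
      obtain ⟨r, rfl⟩ := hs a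
      exact ⟨r, rfl⟩)
  have h2 := Groth.Agent.Lib.Helper16.Depth.depth_localization_comap_of_surjective hs (A ⧸ w) q
  -- the isomorphism `R/W ≃ A/w`
  let φ : R →ₐ[R] A ⧸ w := Algebra.ofId R (A ⧸ w)
  have hφ : Function.Surjective φ := by
    intro x
    obtain ⟨a, rfl⟩ := Ideal.Quotient.mk_surjective x
    obtain ⟨r, rfl⟩ := hs a
    exact ⟨r, rfl⟩
  have hker : RingHom.ker φ.toRingHom = w.comap (algebraMap R A) := by
    ext r
    rw [RingHom.mem_ker, Ideal.mem_comap]
    change (Ideal.Quotient.mk w) (algebraMap R A r) = 0 ↔ _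
    exact Ideal.Quotient.eq_zero_iff_mem
  let e : (R ⧸ w.comap (algebraMap R A)) ≃ₗ[R] (A ⧸ w) :=
    ((Ideal.quotientEquivAlgOfEq R hker.symm).trans
      (Ideal.quotientKerAlgEquivOfSurjective hφ)).toLinearEquiv
  haveI : IsNoetherianRing (Localization.AtPrime (q.comap (algebraMap R A))) :=
    IsLocalization.isNoetherianRing (q.comap (algebraMap R A)).primeCompl _ inferInstance
  have h3 : dp (R ⧸ w.comap (algebraMap R A)) (q.comap (algebraMap R A)) =
      dp (A ⧸ w) (q.comap (algebraMap R A)) :=
    depth_congr (locEquiv (q.comap (algebraMap R A)).primeCompl e)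
  change _ = LocCoh.depth _ _
  rw [h2, ← h1, h0, h3]

end surj

end Groth.Agent.Lib.Helper18.GenAdd
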