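import Mathlib
import Groth.Prelude.Def_EGA4b
import Groth.Agent.Lib.Helper18.GenAdd7
import Groth.Agent.Lib.Helper18.CMCat
import Groth.Agent.Lib.Helper18.CMFib
import Groth.Agent.Lib.Helper18.CST2
import Groth.Agent.Lib.Helper16.RegularDim

set_option autoImplicit false
set_option linter.unusedSectionVars false
set_option linter.style.haveILetI false
universe u
open IsLocalRing

namespace Groth.Agent.Lib.Helper18.CMOpen

open Groth.Agent.Lib.Helper18.GenAdd Groth.Agent.Lib.Helper18.CM

section local_

/-- a Cohen–Macaulay local ring is a Cohen–Macaulay ring -/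
theorem isCohenMacaulayRing_of_isCohenMacaulayModule (R : Type u) [CommRing R] [IsLocalRing R]
    [IsNoetherianRing R] (h : LocCoh.IsCohenMacaulayModule R R) : LocCoh.IsCohenMacaulayRing R := by
  refine ⟨fun p hp => ?_⟩
  haveI : IsNoetherianRing (Localization.AtPrime p) :=
    IsLocalization.isNoetherianRing p.primeCompl _ inferInstance
  exact { supportDim_eq_depth := Groth.Agent.Lib.Helper18.CMCat.isCohenMacaulayModule_localization R h p }

theorem isCohenMacaulayRing_of_isRegularLocalRing (R : Type u) [CommRing R]
    [IsRegularLocalRing R] : LocCoh.IsCohenMacaulayRing R :=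
  isCohenMacaulayRing_of_isCohenMacaulayModule R
    (Groth.Agent.Lib.Helper16.PDR.isCohenMacaulayModule_self_of_isRegularLocalRing R)

end local_

section open_

variable (A : Type u) [CommRing A] [IsNoetherianRing A]

/-- the Cohen–Macaulay locus as the locus of codepth `≤ 0` -/
theorem cmLocus_eq :
    {q : PrimeSpectrum A | LocCoh.IsCohenMacaulayLocalRing (Localization.AtPrime q.asIdeal)} =
      {p : PrimeSpectrum A | dm A p.asIdeal ≤ ((dp A p.asIdeal : ℕ∞) : WithBot ℕ∞) + (0 : ℕ)} := by
  ext q
  haveI : IsNoetherianRing (Localization.AtPrime q.asIdeal) :=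
    IsLocalization.isNoetherianRing q.asIdeal.primeCompl _ inferInstance
  have h1 : dm A q.asIdeal = ((q.asIdeal.height : ℕ∞) : WithBot ℕ∞) :=
    Groth.Agent.Lib.Helper18.Serre.supportDim_localizedModule_self q.asIdeal
  have h2 : dp A q.asIdeal =
      LocCoh.depth (Localization.AtPrime q.asIdeal) (Localization.AtPrime q.asIdeal) :=
    Groth.Agent.Lib.Helper18.Serre.depth_localizedModule_self q.asIdeal
  have h3 : Module.supportDim (Localization.AtPrime q.asIdeal) (Localization.AtPrime q.asIdeal) =
      ((q.asIdeal.height : ℕ∞) : WithBot ℕ∞) := by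
    rw [Module.supportDim_self_eq_ringKrullDim,
      IsLocalization.AtPrime.ringKrullDim_eq_height q.asIdeal (Localization.AtPrime q.asIdeal)]
  rw [Set.mem_ofPred_eq, Set.mem_ofPred_eq, h1, h2, Nat.cast_zero, add_zero, ← h3]
  constructor
  · intro hc
    exact hc.supportDim_eq_depth.le
  · intro hle
    have hge := depth_le_supportDim (R := Localization.AtPrime q.asIdeal)
      (Localization.AtPrime q.asIdeal)
    exact { supportDim_eq_depth := le_antisymm hle hge }

theorem isOpen_cmLocus_of_gen
    (hCM : ∀ (w : Ideal A) [w.IsPrime], Gen w (fun q _ => CMq w q)) :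
    IsOpen {q : PrimeSpectrum A |
      LocCoh.IsCohenMacaulayLocalRing (Localization.AtPrime q.asIdeal)} := by
  rw [cmLocus_eq]
  exact isOpen_codepth_le A 0 hCM

/-- the Cohen–Macaulay locus of a quotient of a Cohen–Macaulay ring is open -/
theorem isOpen_cmLocus_of_surjective {R : Type u} [CommRing R] [hR : LocCoh.IsCohenMacaulayRing R]
    (f : R →+* A) (hf : Function.Surjective f) :
    IsOpen {q : PrimeSpectrum A |
      LocCoh.IsCohenMacaulayLocalRing (Localization.AtPrime q.asIdeal)} := by
  letI : Algebra R A := f.toAlgebra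
  apply isOpen_cmLocus_of_gen
  intro w _
  exact gen_cmq_of_surjective (R := R) (A := A) hf
    (fun W _ => gen_cmq_of_isCohenMacaulayRing W) w

end open_

section formal

open Groth.Agent.Lib.Helper18.CMFib

/-- for a flat map with Cohen–Macaulay fibres, `B_Q` is CM iff `A_{Q ∩ A}` is -/
theorem cm_iff_of_cm_fibres (A B : Type u) [CommRing A] [CommRing B] [Algebra A B]
    [IsNoetherianRing A] [IsNoetherianRing B] [Module.Flat A B]
    (hf : ∀ (p : Ideal A) [p.IsPrime], LocCoh.IsCohenMacaulayRing (p.Fiber B))
    (Q : Ideal B) [Q.IsPrime] :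
    LocCoh.IsCohenMacaulayLocalRing (Localization.AtPrime Q) ↔
      LocCoh.IsCohenMacaulayLocalRing (Localization.AtPrime (Q.comap (algebraMap A B))) := by
  haveI : IsNoetherianRing (Localization.AtPrime Q) :=
    IsLocalization.isNoetherianRing Q.primeCompl _ inferInstance
  haveI : IsNoetherianRing (Localization.AtPrime (Q.comap (algebraMap A B))) :=
    IsLocalization.isNoetherianRing (Q.comap (algebraMap A B)).primeCompl _ inferInstance
  obtain ⟨d, h1, h2⟩ := exists_dim_depth_add A B hf Q
  have e1 : Module.supportDim (Localization.AtPrime Q) (Localization.AtPrime Q) =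
      ((Q.height : ℕ∞) : WithBot ℕ∞) := by
    rw [Module.supportDim_self_eq_ringKrullDim,
      IsLocalization.AtPrime.ringKrullDim_eq_height Q (Localization.AtPrime Q)]
  have e2 : Module.supportDim (Localization.AtPrime (Q.comap (algebraMap A B)))
      (Localization.AtPrime (Q.comap (algebraMap A B))) =
      (((Q.comap (algebraMap A B)).height : ℕ∞) : WithBot ℕ∞) := by
    rw [Module.supportDim_self_eq_ringKrullDim,
      IsLocalization.AtPrime.ringKrullDim_eq_height (Q.comap (algebraMap A B))
        (Localization.AtPrime (Q.comap (algebraMap A B)))]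
  have h1' : Q.height = (Q.comap (algebraMap A B)).height + (d : ℕ∞) := by
    have : ((Q.height : ℕ∞) : WithBot ℕ∞) =
        (((Q.comap (algebraMap A B)).height + (d : ℕ∞) : ℕ∞) : WithBot ℕ∞) := by
      rw [h1]; push_cast; rfl
    exact WithBot.coe_injective this
  constructor
  · intro h
    have h3 := h.supportDim_eq_depth
    rw [e1, WithBot.coe_inj, h1', h2] at h3
    refine { supportDim_eq_depth := ?_ }
    rw [e2, WithBot.coe_inj]
    exact ENat.add_left_injective_of_ne_top (ENat.natCast_ne_top d) h3
  · intro h
    have h3 := h.supportDim_eq_depth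
    rw [e2, WithBot.coe_inj] at h3
    refine { supportDim_eq_depth := ?_ }
    rw [e1, WithBot.coe_inj, h1', h2, h3]

/-- **EGA IV 7.x**: a Noetherian local ring with Cohen–Macaulay formal fibres has open
Cohen–Macaulay locus -/
theorem isOpen_cmLocus_of_hasCMFormalFibres (A : Type u) [CommRing A] [IsNoetherianRing A]
    [IsLocalRing A] (hA : EGA4.HasCMFormalFibres A) :
    IsOpen {p : PrimeSpectrum A |
      LocCoh.IsCohenMacaulayLocalRing (Localization.AtPrime p.asIdeal)} := by
  have hfg : (maximalIdeal A).FG := IsNoetherian.noetherian _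
  haveI : IsAdicComplete (maximalIdeal (EGA4.Cpl A)) (EGA4.Cpl A) := by
    rw [AdicCompletion.maximalIdeal_eq_map]
    exact AdicCompletion.isAdicComplete_self _ hfg
  obtain ⟨S, _, hS, f, hf⟩ := Groth.Agent.Lib.Helper18.CST.exists_regular_presentation (EGA4.Cpl A)
  haveI := isCohenMacaulayRing_of_isRegularLocalRing S
  have hopenB := isOpen_cmLocus_of_surjective (EGA4.Cpl A) f hf
  have hq : Topology.IsQuotientMap (PrimeSpectrum.comap (algebraMap A (EGA4.Cpl A))) := by
    apply PrimeSpectrum.isQuotientMap_of_generalizingMap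
    · exact PrimeSpectrum.comap_surjective_of_faithfullyFlat
    · exact RingHom.Flat.generalizingMap_comap
        (RingHom.flat_algebraMap_iff.mpr inferInstance)
  rw [← hq.isOpen_preimage]
  convert hopenB using 1
  ext Q
  exact (cm_iff_of_cm_fibres A (EGA4.Cpl A) hA Q.asIdeal).symm

end formal

end Groth.Agent.Lib.Helper18.CMOpen
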