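import Mathlib
import Groth.Agent.Lib.Helper18.FlF

/-!
# Flat locus along a tower `A → B → C` (helper18)
-/

set_option autoImplicit false
set_option linter.unusedSectionVars false

namespace Groth.Agent.Lib.Helper18.Fl

open TensorProduct Function

universe u

section LocPrimes

variable {A C M : Type*} [CommRing A] [CommRing C] [Algebra A C] [AddCommGroup M] [Module A M]
  [Module C M] [IsScalarTower A C M]

theorem flat_localizedModule_iff_forall_prime (T : Submonoid C) :
    Module.Flat A (LocalizedModule T M) ↔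
      ∀ (Q : Ideal C) [Q.IsPrime], Disjoint (Q : Set C) (T : Set C) →
        Module.Flat A (LocalizedModule Q.primeCompl M) := by
  constructor
  · intro h Q _ hQ
    exact flat_localizedModule_of_le (S := T) (S' := Q.primeCompl)
      (fun t ht htQ => Set.disjoint_left.mp hQ htQ ht)
  · intro H
    rw [Module.Flat.iff_lTensor_injective']
    intro I
    rw [lTensor_localizedModule_injective_iff]
    intro ξ hξ
    by_contra hcon
    push Not at hcon
    obtain ⟨𝔟, h𝔟⟩ : ∃ 𝔟 : Ideal C, ∀ c, c ∈ 𝔟 ↔ c • ξ = 0 :=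
      ⟨LinearMap.ker (LinearMap.toSpanSingleton C _ ξ), fun c => by
        rw [LinearMap.mem_ker, LinearMap.toSpanSingleton_apply]⟩
    have hdis : Disjoint (𝔟 : Set C) (T : Set C) := by
      rw [Set.disjoint_left]
      intro c hc hcT
      exact hcon ⟨c, hcT⟩ ((h𝔟 c).mp hc)
    obtain ⟨Q, hQprime, h𝔟Q, hQT⟩ := Ideal.exists_le_prime_disjoint 𝔟 T hdis
    haveI := hQprime
    have hfl := H Q hQT
    rw [Module.Flat.iff_lTensor_injective'] at hfl
    obtain ⟨s, hs⟩ := (lTensor_localizedModule_injective_iff Q.primeCompl I).mp (hfl I) ξ hξ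
    exact s.2 (h𝔟Q ((h𝔟 _).mpr hs))

end LocPrimes

section Tower

variable {A B C : Type*} [CommRing A] [CommRing B] [CommRing C]
  [Algebra A B] [Algebra B C] [Algebra A C] [IsScalarTower A B C]
  {M : Type*} [AddCommGroup M] [Module C M] [Module B M] [Module A M]
  [IsScalarTower B C M] [IsScalarTower A C M] [IsScalarTower A B M]

theorem flat_localizedModule_tower_iff (q : Ideal B) [q.IsPrime] :
    Module.Flat A (LocalizedModule q.primeCompl M) ↔
      ∀ (Q : Ideal C) [Q.IsPrime], Q.comap (algebraMap B C) ≤ q →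
        Module.Flat A (LocalizedModule Q.primeCompl M) := by
  haveI : IsLocalizedModule q.primeCompl
      ((LocalizedModule.mkLinearMap (Algebra.algebraMapSubmonoid C q.primeCompl) M).restrictScalars
        B) := IsLocalizedModule.restrictScalars _ _
  have e := IsLocalizedModule.iso q.primeCompl
      ((LocalizedModule.mkLinearMap (Algebra.algebraMapSubmonoid C q.primeCompl) M).restrictScalars
        B)
  have h1 : Module.Flat A (LocalizedModule q.primeCompl M) ↔
      Module.Flat A (LocalizedModule (Algebra.algebraMapSubmonoid C q.primeCompl) M) :=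
    ⟨fun h => Module.Flat.of_linearEquiv (e.restrictScalars A).symm,
      fun h => Module.Flat.of_linearEquiv (e.restrictScalars A)⟩
  rw [h1, flat_localizedModule_iff_forall_prime]
  have h2 : ∀ Q : Ideal C, Disjoint (Q : Set C)
      (Algebra.algebraMapSubmonoid C q.primeCompl : Set C) ↔ Q.comap (algebraMap B C) ≤ q := by
    intro Q
    rw [Set.disjoint_left]
    constructor
    · intro h b hb
      by_contra hbq
      exact h hb ⟨b, hbq, rfl⟩
    · rintro h _ hc ⟨b, hb, rfl⟩
      exact hb (h hc)
  constructor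
  · intro H Q _ hQ
    exact H Q ((h2 Q).mpr hQ)
  · intro H Q _ hQ
    exact H Q ((h2 Q).mp hQ)

end Tower

section Main

theorem isOpen_flatLocus_tower {A B : Type u} (C : Type u) [CommRing A] [CommRing B] [CommRing C]
    [Algebra A B] [Algebra B C] [Algebra A C] [IsScalarTower A B C]
    [Algebra.FinitePresentation A B] [Algebra.FinitePresentation B C]
    (M : Type u) [AddCommGroup M] [Module C M] [Module B M] [Module A M]
    [IsScalarTower B C M] [IsScalarTower A C M] [IsScalarTower A B M]
    [Module.FinitePresentation C M] :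
    IsOpen {q : PrimeSpectrum B | Module.Flat A (LocalizedModule q.asIdeal.primeCompl M)} := by
  haveI : Algebra.FinitePresentation A C := Algebra.FinitePresentation.trans A B C
  have hU : IsOpen {Q : PrimeSpectrum C |
      Module.Flat A (LocalizedModule Q.asIdeal.primeCompl M)} :=
    isOpen_flatLocus (R := A) (S := C) (M := M)
  have hZ := hU.isClosed_compl
  obtain ⟨I, hI⟩ : ∃ I : Ideal C, I = PrimeSpectrum.vanishingIdeal
      {Q : PrimeSpectrum C | Module.Flat A (LocalizedModule Q.asIdeal.primeCompl M)}ᶜ := ⟨_, rfl⟩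
  have hZI : {Q : PrimeSpectrum C | Module.Flat A (LocalizedModule Q.asIdeal.primeCompl M)}ᶜ =
      PrimeSpectrum.zeroLocus (I : Set C) := by
    rw [hI, PrimeSpectrum.zeroLocus_vanishingIdeal_eq_closure, hZ.closure_eq]
  rw [← isClosed_compl_iff]
  have : {q : PrimeSpectrum B | Module.Flat A (LocalizedModule q.asIdeal.primeCompl M)}ᶜ =
      PrimeSpectrum.zeroLocus ((I.comap (algebraMap B C) : Ideal B) : Set B) := by
    ext q
    rw [Set.mem_compl_iff, Set.mem_ofPred_eq, flat_localizedModule_tower_iff (C := C),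
      PrimeSpectrum.mem_zeroLocus, SetLike.coe_subset_coe]
    constructor
    · intro h
      push Not at h
      obtain ⟨Q, hQprime, hQq, hQ⟩ := h
      have hQZ : (⟨Q, hQprime⟩ : PrimeSpectrum C) ∈ PrimeSpectrum.zeroLocus (I : Set C) := by
        rw [← hZI]; exact hQ
      rw [PrimeSpectrum.mem_zeroLocus, SetLike.coe_subset_coe] at hQZ
      exact (Ideal.comap_mono hQZ).trans hQq
    · intro h hall
      obtain ⟨q₀, hq₀, hq₀q⟩ := Ideal.exists_minimalPrimes_le h
      obtain ⟨Q, hQprime, hIQ, hQq₀⟩ :=
        Ideal.exists_comap_eq_of_mem_minimalPrimes (algebraMap B C) q₀ hq₀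
      haveI := hQprime
      have hQZ : (⟨Q, hQprime⟩ : PrimeSpectrum C) ∈ PrimeSpectrum.zeroLocus (I : Set C) := by
        rw [PrimeSpectrum.mem_zeroLocus, SetLike.coe_subset_coe]; exact hIQ
      rw [← hZI] at hQZ
      exact hQZ (hall Q (hQq₀.le.trans hq₀q))
  rw [this]
  exact PrimeSpectrum.isClosed_zeroLocus _

end Main

end Groth.Agent.Lib.Helper18.Fl
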