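import Mathlib
import Groth.Agent.Lib.Helper8.FlatAffine
import Groth.Agent.Lib.Helper29.QCohPullback

/-!
# Flatness of a pulled-back module over an affine chart of a fibre product, in ring terms
-/

set_option backward.isDefEq.respectTransparency.types false
set_option autoImplicit false
set_option linter.style.haveILetI false

namespace Groth.Agent.Lib.Helper18.GFl

open TensorProduct Function AlgebraicGeometry CategoryTheory CategoryTheory.Limits
open Groth.Agent.Lib.Helper29.QCoh Groth.Agent.Lib.Helper8.FlatAffine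

universe u

variable {X S T Y : Scheme.{u}} {f : X ⟶ S} {g : T ⟶ S} {p : Y ⟶ X} {q : Y ⟶ T}

theorem isAffineOpen_of_isPullback (H : IsPullback p q f g)
    {US : S.Opens} {UT : T.Opens} {W : X.Opens} (hUS : IsAffineOpen US)
    (hUT : IsAffineOpen UT) (hW : IsAffineOpen W)
    (hUST : UT ≤ g ⁻¹ᵁ US) (hUSX : W ≤ f ⁻¹ᵁ US) {UY : Y.Opens}
    (hUY : UY = p ⁻¹ᵁ W ⊓ q ⁻¹ᵁ UT) : IsAffineOpen UY := by
  have : IsAffine _ := hUS
  have : IsAffine _ := hUT
  have : IsAffine _ := hW
  exact .of_isIso (Scheme.Hom.isPullback_resLE H hUST hUSX hUY).isoPullback.hom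

theorem isPushout_appLE_of_isPullback (H : IsPullback p q f g)
    {US : S.Opens} {UT : T.Opens} {W : X.Opens} (hUS : IsAffineOpen US)
    (hUT : IsAffineOpen UT) (hW : IsAffineOpen W)
    (hUST : UT ≤ g ⁻¹ᵁ US) (hUSX : W ≤ f ⁻¹ᵁ US) {UY : Y.Opens}
    (hUY : UY = p ⁻¹ᵁ W ⊓ q ⁻¹ᵁ UT) :
    IsPushout (f.appLE US W hUSX) (g.appLE US UT hUST)
      (p.appLE W UY (by rw [hUY]; exact inf_le_left))
      (q.appLE UT UY (by rw [hUY]; exact inf_le_right)) := by
  have h1 := isIso_pushoutSection_of_isAffineOpen H hUST hUSX hUY hUS hUT hW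
  exact (isIso_pushoutSection_iff H hUST hUSX hUY).mp h1

end Groth.Agent.Lib.Helper18.GFl
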