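import Mathlib
import Groth.Agent.Lib.Helper18.SchDim1
import Groth.Agent.Lib.Helper14.SchemeDim

set_option autoImplicit false
set_option linter.unusedSectionVars false
set_option linter.style.haveILetI false
universe u v
open AlgebraicGeometry CategoryTheory TopologicalSpace

namespace Groth.Agent.Lib.Helper18.SchDim

open Groth.Agent.Lib.Helper12.Codim Groth.Agent.Lib.Helper18.DimFormula
open Groth.Agent.Lib.Helper21.ChartPt Groth.Agent.Lib.Helper20.DimTrdeg

section Global

variable {X S : Scheme.{u}} [IsLocallyNoetherian S] (f : X ⟶ S) [LocallyOfFiniteType f]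

/-- residue field extensions of a morphism locally of finite type have finite transcendence
degree -/
theorem exists_nat_trdeg_residueField (x : X) :
    ∃ n : ℕ, @Algebra.trdeg (S.residueField (f x)) (X.residueField x) _ _
      (f.residueFieldMap x).hom.toAlgebra = n := by
  obtain ⟨V, hV, hxV, -⟩ := Opens.isBasis_iff_nbhd.mp S.isBasis_affineOpens
    (show f x ∈ (⊤ : S.Opens) from trivial)
  have hV : IsAffineOpen V := hV
  obtain ⟨U, hU, hxU, e⟩ := Opens.isBasis_iff_nbhd.mp X.isBasis_affineOpens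
    (show x ∈ f ⁻¹ᵁ V from hxV)
  have hU : IsAffineOpen U := hU
  letI alg : Algebra Γ(S, V) Γ(X, U) := (f.appLE V U e).hom.toAlgebra
  haveI : Algebra.FiniteType Γ(S, V) Γ(X, U) :=
    HasRingHomProperty.appLE (P := @LocallyOfFiniteType) f inferInstance ⟨V, hV⟩ ⟨U, hU⟩ e
  rw [trdeg_residueField f hU hV e x hxU]
  haveI : ((hU.primeIdealOf ⟨x, hxU⟩).asIdeal.under Γ(S, V)).IsPrime := Ideal.comap_isPrime _ _
  obtain ⟨n, hn⟩ := Cardinal.lt_aleph0.1 (trdeg_lt_aleph0_of_finiteType
    (R := Γ(S, V) ⧸ (hU.primeIdealOf ⟨x, hxU⟩).asIdeal.under Γ(S, V))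
    (S := Γ(X, U) ⧸ (hU.primeIdealOf ⟨x, hxU⟩).asIdeal))
  exact ⟨n, hn⟩

open Groth.Agent.Lib.Helper14.AS in
/-- **Global dimension inequality** (Stacks 0BAG-type): `dim X ≤ dim S + E`. -/
theorem topologicalKrullDim_le_add (E : ℕ)
    (hE : ∀ ξ : X, closure {ξ} ∈ irreducibleComponents ↥X →
      @Algebra.trdeg (S.residueField (f ξ)) (X.residueField ξ) _ _
        (f.residueFieldMap ξ).hom.toAlgebra ≤ E) :
    topologicalKrullDim ↥X ≤ topologicalKrullDim ↥S + E := by
  rw [topologicalKrullDim_eq_iSup_stalk X]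
  refine iSup_le fun x => ?_
  obtain ⟨n, hn⟩ := exists_nat_trdeg_residueField f x
  have h1 := stalk_dim_inequality f x n E hn (fun ξ hξ _ => hE ξ hξ)
  have h2 : ringKrullDim (S.presheaf.stalk (f x)) ≤ topologicalKrullDim ↥S := by
    rw [topologicalKrullDim_eq_iSup_stalk S]
    exact le_iSup (fun y => ringKrullDim (S.presheaf.stalk y)) (f x)
  calc ringKrullDim (X.presheaf.stalk x) ≤ ringKrullDim (X.presheaf.stalk x) + n :=
        le_add_of_nonneg_right (by exact_mod_cast zero_le)
    _ ≤ ringKrullDim (S.presheaf.stalk (f x)) + E := h1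
    _ ≤ topologicalKrullDim ↥S + E := add_le_add h2 le_rfl

end Global

end Groth.Agent.Lib.Helper18.SchDim
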