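import Mathlib
import Groth.Prelude.Def_CAlgX

/-!
# Quasi-regular sequences: transport along ring isomorphisms and localization
-/

set_option autoImplicit false

universe u

namespace Groth.Agent.Lib.Helper18.QRF

open CAlgX MvPolynomial

/-- quasi-regularity transports along ring isomorphisms -/
theorem isQuasiRegular_ringEquiv {R R' : Type u} [CommRing R] [CommRing R'] (e : R ≃+* R') {c : ℕ}
    (f : Fin c → R) (hq : IsQuasiRegular f) : IsQuasiRegular (fun i => e (f i)) := by
  intro n P hP hmem d
  have hspan : Ideal.span (Set.range fun i => e (f i)) =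
      (Ideal.span (Set.range f)).map (e : R →+* R') := by
    rw [Ideal.map_span, ← Set.range_comp]; rfl
  rw [hspan] at hmem ⊢
  rw [← Ideal.map_pow] at hmem
  set P₀ : MvPolynomial (Fin c) R := MvPolynomial.map (e.symm : R' →+* R) P with hP₀
  have hP₀h : P₀.IsHomogeneous n := hP.map _
  have hev : MvPolynomial.eval f P₀ = e.symm (MvPolynomial.eval (fun i => e (f i)) P) := by
    rw [hP₀, MvPolynomial.eval_map]
    have := MvPolynomial.eval₂_comp_left (e.symm : R' →+* R) (RingHom.id R') (fun i => e (f i)) P
    rw [show (e.symm : R' →+* R) (MvPolynomial.eval₂ (RingHom.id R') (fun i => e (f i)) P) =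
      e.symm (MvPolynomial.eval (fun i => e (f i)) P) from rfl] at this
    rw [this]
    congr 1
    funext i
    simp
  obtain ⟨x, hx, hxy⟩ := (Ideal.mem_map_of_equiv e _).mp hmem
  have hx' : MvPolynomial.eval f P₀ ∈ Ideal.span (Set.range f) ^ (n + 1) := by
    rw [hev, ← hxy]; simpa using hx
  have hc := hq n P₀ hP₀h hx' d
  rw [hP₀, MvPolynomial.coeff_map] at hc
  have : P.coeff d = e (e.symm (P.coeff d)) := by simp
  rw [this]
  exact Ideal.mem_map_of_mem _ hc

/-- quasi-regularity passes to localizations -/
theorem isQuasiRegular_localization {R R' : Type u} [CommRing R] [CommRing R'] [Algebra R R']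
    (M : Submonoid R) [IsLocalization M R'] {c : ℕ}
    (f : Fin c → R) (hq : IsQuasiRegular f) :
    IsQuasiRegular (fun i => algebraMap R R' (f i)) := by
  classical
  intro n P hP hmem d
  have hspan : Ideal.span (Set.range fun i => algebraMap R R' (f i)) =
      (Ideal.span (Set.range f)).map (algebraMap R R') := by
    rw [Ideal.map_span, ← Set.range_comp]; rfl
  rw [hspan] at hmem ⊢
  rw [← Ideal.map_pow] at hmem
  -- common denominator
  obtain ⟨b, hb⟩ := IsLocalization.exist_integer_multiples_of_finset M (P.support.image P.coeff)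
  have hb' : ∀ e ∈ P.support, ∃ c₀ : R, algebraMap R R' c₀ = (b : R) • P.coeff e := by
    intro e he
    exact hb _ (Finset.mem_image_of_mem _ he)
  choose! cf hcf using hb'
  set P₀ : MvPolynomial (Fin c) R := ∑ e ∈ P.support, MvPolynomial.monomial e (cf e) with hP₀
  have hP₀h : P₀.IsHomogeneous n := by
    rw [hP₀]
    refine MvPolynomial.IsHomogeneous.sum _ _ _ (fun e he => ?_)
    by_cases h0 : cf e = 0
    · rw [h0, MvPolynomial.monomial_zero]; exact MvPolynomial.isHomogeneous_zero _ _ _
    · refine MvPolynomial.isHomogeneous_monomial _ ?_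
      rw [Finsupp.degree_eq_weight_one]
      exact hP (MvPolynomial.mem_support_iff.mp he)
  have hmap : MvPolynomial.map (algebraMap R R') P₀ = MvPolynomial.C (algebraMap R R' b) * P := by
    rw [hP₀, map_sum]
    conv_rhs => rw [P.as_sum, Finset.mul_sum]
    refine Finset.sum_congr rfl (fun e he => ?_)
    rw [MvPolynomial.map_monomial, hcf e he, MvPolynomial.C_mul_monomial, Algebra.smul_def]
  have hev : algebraMap R R' (MvPolynomial.eval f P₀) =
      algebraMap R R' b * MvPolynomial.eval (fun i => algebraMap R R' (f i)) P := by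
    have h1 := MvPolynomial.eval₂_comp_left (algebraMap R R') (RingHom.id R) f P₀
    have h2 : MvPolynomial.eval (fun i => algebraMap R R' (f i))
        (MvPolynomial.map (algebraMap R R') P₀) =
        MvPolynomial.eval₂ (algebraMap R R') (fun i => algebraMap R R' (f i)) P₀ :=
      MvPolynomial.eval_map _ _ _
    rw [hmap, map_mul, MvPolynomial.eval_C] at h2
    rw [h2]
    rw [show MvPolynomial.eval f P₀ = MvPolynomial.eval₂ (RingHom.id R) f P₀ from rfl, h1]
    rw [RingHom.comp_id]
    rfl
  have hmem2 : algebraMap R R' (MvPolynomial.eval f P₀) ∈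
      (Ideal.span (Set.range f) ^ (n + 1)).map (algebraMap R R') := by
    rw [hev]; exact Ideal.mul_mem_left _ _ hmem
  obtain ⟨⟨a, m⟩, ham⟩ := (IsLocalization.mem_map_algebraMap_iff M R').mp hmem2
  simp only at ham
  rw [← map_mul] at ham
  obtain ⟨m', hm'⟩ := (IsLocalization.eq_iff_exists M R').mp ham
  set t : R := (m' : R) * (m : R) with ht
  have htM : t ∈ M := M.mul_mem m'.2 m.2
  have hQ : (MvPolynomial.C t * P₀).IsHomogeneous n := by
    have := (MvPolynomial.isHomogeneous_C (Fin c) t).mul hP₀h
    simpa using this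
  have hQev : MvPolynomial.eval f (MvPolynomial.C t * P₀) ∈ Ideal.span (Set.range f) ^ (n + 1) := by
    rw [map_mul, MvPolynomial.eval_C, ht]
    have : (m' : R) * (m : R) * MvPolynomial.eval f P₀ = (m' : R) * (a : R) := by
      rw [← hm']; ring
    rw [this]
    exact Ideal.mul_mem_left _ _ a.2
  have hc := hq n _ hQ hQev d
  rw [MvPolynomial.coeff_C_mul] at hc
  by_cases hd : d ∈ P.support
  · have hcoef : P₀.coeff d = cf d := by
      rw [hP₀, MvPolynomial.coeff_sum]
      simp only [MvPolynomial.coeff_monomial]
      rw [Finset.sum_ite_eq' P.support d]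
      simp [hd]
    rw [hcoef] at hc
    have h3 : algebraMap R R' (t * cf d) ∈ (Ideal.span (Set.range f)).map (algebraMap R R') :=
      Ideal.mem_map_of_mem _ hc
    rw [map_mul, hcf d hd, Algebra.smul_def, ← mul_assoc, ← map_mul] at h3
    have hu : IsUnit (algebraMap R R' (t * (b : R))) :=
      IsLocalization.map_units R' ⟨t * b, M.mul_mem htM b.2⟩
    exact (Ideal.unit_mul_mem_iff_mem _ hu).mp h3
  · rw [MvPolynomial.notMem_support_iff.mp hd]; exact zero_mem _

end Groth.Agent.Lib.Helper18.QRF
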