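import Mathlib
import Groth.Agent.Lib.Helper18.FlF

/-!
# Openness of the flat locus, scheme form (helper18)
-/

set_option autoImplicit false
set_option linter.unusedSectionVars false

namespace Groth.Agent.Lib.Helper18.Fl

open TensorProduct Function

universe u

section Ring

variable {A B : Type*} [CommRing A] [CommRing B] [Algebra A B]

theorem localRingHom_flat_iff (q : Ideal B) [q.IsPrime] (p : Ideal A) [p.IsPrime]
    (hpq : p = q.comap (algebraMap A B)) :
    (Localization.localRingHom p q (algebraMap A B) hpq).Flat ↔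
      Module.Flat A (LocalizedModule q.primeCompl B) := by
  subst hpq
  algebraize [Localization.localRingHom (q.comap (algebraMap A B)) q (algebraMap A B) rfl]
  have : IsScalarTower A (Localization.AtPrime (q.comap (algebraMap A B)))
      (Localization.AtPrime q) :=
    .of_algebraMap_eq fun x => by
      rw [RingHom.algebraMap_toAlgebra, Localization.localRingHom_to_map,
        ← IsScalarTower.algebraMap_apply]
  rw [RingHom.Flat, Module.flat_iff_of_isLocalization
    (S := (Localization.AtPrime (q.comap (algebraMap A B))))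
    (p := (q.comap (algebraMap A B)).primeCompl)]

end Ring

section Scheme

open AlgebraicGeometry CategoryTheory

theorem isOpen_flatLocus_scheme {X S : Scheme.{u}} (f : X ⟶ S) [LocallyOfFinitePresentation f] :
    IsOpen {x : X | (f.stalkMap x).hom.Flat} := by
  rw [isOpen_iff_forall_mem_open]
  intro x hx
  obtain ⟨⟨U, hU⟩, hfxU⟩ : ∃ U : S.affineOpens, f x ∈ U.1 := by
    obtain ⟨_, ⟨U, hU : IsAffineOpen U, rfl⟩, hxU, -⟩ :=
      S.isBasis_affineOpens.exists_subset_of_mem_open (Set.mem_univ (f x)) isOpen_univ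
    exact ⟨⟨U, hU⟩, hxU⟩
  obtain ⟨⟨V, hV⟩, hxV, hVU⟩ : ∃ V : X.affineOpens, x ∈ V.1 ∧ V.1 ≤ f ⁻¹ᵁ U := by
    obtain ⟨_, ⟨V, hV : IsAffineOpen V, rfl⟩, hxV, hVU⟩ :=
      X.isBasis_affineOpens.exists_subset_of_mem_open (show x ∈ (f ⁻¹ᵁ U : Set X) from hfxU)
        (f ⁻¹ᵁ U).isOpen
    exact ⟨⟨V, hV⟩, hxV, hVU⟩
  have hfp : RingHom.FinitePresentation (f.appLE U V hVU).hom :=
    HasRingHomProperty.appLE (P := @LocallyOfFinitePresentation) f inferInstance ⟨U, hU⟩ ⟨V, hV⟩
      hVU
  algebraize [(f.appLE U V hVU).hom]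
  have hO : IsOpen {q : PrimeSpectrum Γ(X, V) |
      Module.Flat Γ(S, U) (LocalizedModule q.asIdeal.primeCompl Γ(X, V))} :=
    isOpen_flatLocus (R := Γ(S, U)) (S := Γ(X, V)) (M := Γ(X, V))
  have key : ∀ (y : X) (hy : y ∈ V), (f.stalkMap y).hom.Flat ↔
      Module.Flat Γ(S, U)
        (LocalizedModule (hV.primeIdealOf ⟨y, hy⟩).asIdeal.primeCompl Γ(X, V)) := by
    intro y hy
    rw [RingHom.Flat.respectsIso.arrow_mk_iso_iff (IsAffineOpen.arrowStalkMapIso f U hU V hV hVU hy)]
    exact localRingHom_flat_iff (A := Γ(S, U)) (B := Γ(X, V)) _ _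
      (congr($(IsAffineOpen.comap_primeIdealOf_appLE U hU V hV hVU hy).1).symm)
  refine ⟨Subtype.val '' ((fun y : V => hV.primeIdealOf y) ⁻¹'
    {q : PrimeSpectrum Γ(X, V) |
      Module.Flat Γ(S, U) (LocalizedModule q.asIdeal.primeCompl Γ(X, V))}), ?_, ?_, ?_⟩
  · rintro _ ⟨⟨y, hy⟩, hyO, rfl⟩
    exact (key y hy).mpr hyO
  · refine V.isOpen.isOpenMap_subtype_val _ (hO.preimage ?_)
    exact hV.isoSpec.hom.continuous
  · exact ⟨⟨x, hxV⟩, (key x hxV).mp hx, rfl⟩

end Scheme

end Groth.Agent.Lib.Helper18.Fl
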