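import Mathlib
import Groth.Prelude.Def_EGA4b
import Groth.Agent.Lib.Helper18.FormEq
import Groth.Agent.Lib.Helper18.CatFlat

set_option autoImplicit false
set_option linter.unusedSectionVars false
set_option linter.style.haveILetI false
universe u
open IsLocalRing TensorProduct

namespace Groth.Agent.Lib.Helper18.FormEq

open Groth.Agent.Lib.Helper18.CatFlat

section quot

variable {R : Type u} [CommRing R] (I : Ideal R)

theorem ringKrullDim_quotient_quotient_eq (m : Ideal (R ⧸ I)) :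
    ringKrullDim ((R ⧸ I) ⧸ m) = ringKrullDim (R ⧸ m.comap (Ideal.Quotient.mk I)) := by
  have hle : I ≤ m.comap (Ideal.Quotient.mk I) := by
    intro x hx
    rw [Ideal.mem_comap, Ideal.Quotient.eq_zero_iff_mem.mpr hx]
    exact m.zero_mem
  have hmap : (m.comap (Ideal.Quotient.mk I)).map (Ideal.Quotient.mk I) = m :=
    Ideal.map_comap_of_surjective _ Ideal.Quotient.mk_surjective m
  rw [← ringKrullDim_eq_of_ringEquiv (DoubleQuot.quotQuotEquivQuotOfLE hle)]
  exact ringKrullDim_eq_of_ringEquiv (Ideal.quotEquivOfEq hmap.symm)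

theorem isEquidim_quotient_iff :
    EGA4.IsEquidim (R ⧸ I) ↔
      ∀ Q ∈ I.minimalPrimes, ringKrullDim (R ⧸ Q) = ringKrullDim (R ⧸ I) := by
  constructor
  · intro h Q hQ
    rw [Ideal.minimalPrimes_eq_comap] at hQ
    obtain ⟨m, hm, rfl⟩ := hQ
    rw [← ringKrullDim_quotient_quotient_eq]
    exact h m hm
  · intro h m hm
    rw [ringKrullDim_quotient_quotient_eq]
    apply h
    rw [Ideal.minimalPrimes_eq_comap]
    exact ⟨m, hm, rfl⟩

end quot

section flatMin

variable (A B : Type u) [CommRing A] [CommRing B] [IsNoetherianRing A] [IsNoetherianRing B]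
  [Algebra A B] [Module.Flat A B]

/-- minimal primes of a flat algebra contract to minimal primes -/
theorem comap_mem_minimalPrimes_of_flat (Q : Ideal B) (hQ : Q ∈ minimalPrimes B) :
    Q.comap (algebraMap A B) ∈ minimalPrimes A ∧
      Q ∈ ((Q.comap (algebraMap A B)).map (algebraMap A B)).minimalPrimes := by
  have hQp : Q.IsPrime := hQ.1.1
  refine ⟨⟨⟨Ideal.comap_isPrime _ _, bot_le⟩, ?_⟩, ⟨⟨hQp, Ideal.map_comap_le⟩, ?_⟩⟩
  · intro p' ⟨hp', _⟩ hle
    by_contra hne
    have hlt : p' < Q.under A := lt_of_le_of_ne hle (fun h => hne h.ge)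
    obtain ⟨Q', hQ'Q, hQ'p, hQ'l⟩ := Algebra.HasGoingDown.exists_ideal_le_liesOver_of_lt Q hlt
    have h1 : Q ≤ Q' := hQ.2 ⟨hQ'p, bot_le⟩ hQ'Q
    have h2 : Q' = Q := le_antisymm hQ'Q h1
    have h3 : Q'.under A = p' := (hQ'l.over).symm
    rw [h2] at h3
    exact hne (h3 ▸ le_rfl)
  · intro Q' ⟨hQ'p, _⟩ hQ'Q
    exact hQ.2 ⟨hQ'p, bot_le⟩ hQ'Q

/-- minimal primes over `pB`, `p` minimal, are minimal primes of `B` -/
theorem mem_minimalPrimes_of_mem_minimalPrimes_map (p : Ideal A) [hp : p.IsPrime]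
    (hpmin : p ∈ minimalPrimes A) (Q : Ideal B)
    (hQ : Q ∈ (p.map (algebraMap A B)).minimalPrimes) : Q ∈ minimalPrimes B := by
  have hQp : Q.IsPrime := hQ.1.1
  obtain ⟨-, hht⟩ := under_eq_and_height_eq_of_mem_minimalPrimes A B p Q hQ
  rw [Ideal.height_eq_zero_iff.mpr hpmin] at hht
  exact Ideal.height_eq_zero_iff.mp hht

end flatMin

section main

variable (A : Type u) [CommRing A] [IsNoetherianRing A] [IsLocalRing A]

theorem ringKrullDim_cpl_quotient_map (p : Ideal A) [hp : p.IsPrime] :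
    ringKrullDim (EGA4.Cpl A ⧸ p.map (algebraMap A (EGA4.Cpl A))) = ringKrullDim (A ⧸ p) := by
  have hs : Function.Surjective (algebraMap A (A ⧸ p)) := Ideal.Quotient.mk_surjective
  have hloc := CplQuot.isLocalHom_of_surjective A (A ⧸ p) hs
  obtain ⟨e⟩ := CplQuot.nonempty_ringEquiv A (A ⧸ p) hs
  have hkp : RingHom.ker (algebraMap A (A ⧸ p)) = p := by
    rw [Ideal.Quotient.algebraMap_eq, Ideal.mk_ker]
  rw [hkp] at e
  rw [ringKrullDim_eq_of_ringEquiv e, ringKrullDim_cpl]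

theorem isFormallyEquidim_quotient_iff (p : Ideal A) [hp : p.IsPrime] :
    EGA4.IsFormallyEquidim (A ⧸ p) ↔
      ∀ Q ∈ (p.map (algebraMap A (EGA4.Cpl A))).minimalPrimes,
        ringKrullDim (EGA4.Cpl A ⧸ Q) = ringKrullDim (A ⧸ p) := by
  have hs : Function.Surjective (algebraMap A (A ⧸ p)) := Ideal.Quotient.mk_surjective
  have hloc := CplQuot.isLocalHom_of_surjective A (A ⧸ p) hs
  obtain ⟨e⟩ := CplQuot.nonempty_ringEquiv A (A ⧸ p) hs
  have hkp : RingHom.ker (algebraMap A (A ⧸ p)) = p := by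
    rw [Ideal.Quotient.algebraMap_eq, Ideal.mk_ker]
  rw [hkp] at e
  have h1 : EGA4.IsFormallyEquidim (A ⧸ p) ↔
      EGA4.IsEquidim (EGA4.Cpl A ⧸ p.map (algebraMap A (EGA4.Cpl A))) :=
    ⟨fun h => isEquidim_of_ringEquiv e.symm h, fun h => isEquidim_of_ringEquiv e h⟩
  rw [h1, isEquidim_quotient_iff, ringKrullDim_cpl_quotient_map]

theorem isFormallyEquidim_iff :
    EGA4.IsFormallyEquidim A ↔
      (EGA4.IsEquidim A ∧ ∀ (p : Ideal A) [p.IsPrime], p ∈ minimalPrimes A →
        EGA4.IsFormallyEquidim (A ⧸ p)) := by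
  constructor
  · intro h
    have key : ∀ (p : Ideal A) [p.IsPrime], p ∈ minimalPrimes A →
        ∀ Q ∈ (p.map (algebraMap A (EGA4.Cpl A))).minimalPrimes,
          ringKrullDim (EGA4.Cpl A ⧸ Q) = ringKrullDim A := by
      intro p hp hpmin Q hQ
      rw [h Q (mem_minimalPrimes_of_mem_minimalPrimes_map A (EGA4.Cpl A) p hpmin Q hQ),
        ringKrullDim_cpl]
    have heq : ∀ (p : Ideal A) [p.IsPrime], p ∈ minimalPrimes A →
        ringKrullDim (A ⧸ p) = ringKrullDim A := by
      intro p hp hpmin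
      apply le_antisymm (ringKrullDim_quotient_le p)
      have hne : p.map (algebraMap A (EGA4.Cpl A)) ≠ ⊤ := by
        intro htop
        have h1 := Ideal.comap_map_eq_self_of_faithfullyFlat (B := EGA4.Cpl A) p
        rw [htop, Ideal.comap_top] at h1
        exact hp.ne_top h1.symm
      obtain ⟨Q, hQ⟩ := Ideal.nonempty_minimalPrimes hne
      rw [← key p hpmin Q hQ, ← ringKrullDim_cpl_quotient_map A p]
      exact ringKrullDim_le_of_surjective (Ideal.Quotient.factor hQ.1.2)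
        (Ideal.Quotient.factor_surjective hQ.1.2)
    refine ⟨fun p hp => @heq p hp.1.1 hp, ?_⟩
    intro p hp hpmin
    rw [isFormallyEquidim_quotient_iff]
    intro Q hQ
    rw [key p hpmin Q hQ, heq p hpmin]
  · rintro ⟨heq, hf⟩ Q hQ
    obtain ⟨hpmin, hQmin⟩ := comap_mem_minimalPrimes_of_flat A (EGA4.Cpl A) Q hQ
    have hpp : (Q.comap (algebraMap A (EGA4.Cpl A))).IsPrime := hpmin.1.1
    have h1 := (isFormallyEquidim_quotient_iff A _).mp (hf _ hpmin) Q hQmin
    rw [h1, heq _ hpmin, ringKrullDim_cpl]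

end main

end Groth.Agent.Lib.Helper18.FormEq
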