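import Mathlib
import Groth.Prelude.Def_EGA4b
import Groth.Prelude.Def_FSch3
import Groth.Agent.Lib.Helper14.ComplFlat
import Groth.Agent.Lib.Helper21.CompleteFlat
import Groth.Agent.Lib.Helper21.AdicNoetherian
import Groth.Agent.S0546
import Groth.Agent.Lib.Helper18.FibBridge2

set_option linter.style.haveILetI false
set_option linter.unusedSectionVars false

open TensorProduct IsLocalRing

universe u

namespace Groth.Agent.Lib.Helper18.CplFlat

open Groth.Agent.Lib.Helper21 Groth.Agent.Lib.Helper14

/-- flatness of the induced map of completions, for arbitrary ideals `I.map g ≤ K` -/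
theorem flat_complMap' {B C : Type u} [CommRing B] [CommRing C] [IsNoetherianRing B]
    [IsNoetherianRing C] (I : Ideal B) (K : Ideal C) (g : B →+* C) (hgf : g.Flat)
    (h : I.map g ≤ K) : (FSch.complMap I K g h).Flat := by
  letI : Algebra B C := g.toAlgebra
  have : Module.Flat B C := hgf
  letI : Algebra (AdicCompletion I B) (AdicCompletion K C) := (FSch.complMap I K g h).toAlgebra
  show Module.Flat (AdicCompletion I B) (AdicCompletion K C)
  have hIfg : I.FG := IsNoetherian.noetherian I
  have hKfg : K.FG := IsNoetherian.noetherian K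
  have hsq : ∀ b : B, algebraMap (AdicCompletion I B) (AdicCompletion K C)
      (algebraMap B (AdicCompletion I B) b) = algebraMap B (AdicCompletion K C) b := by
    intro b
    exact complMap_of I K g h b
  have : IsScalarTower B C (AdicCompletion K C) :=
    IsScalarTower.of_algebraMap_eq (fun _ => rfl)
  have : IsScalarTower B (AdicCompletion I B) (AdicCompletion K C) :=
    IsScalarTower.of_algebraMap_eq (fun b => (hsq b).symm)
  have : IsNoetherianRing (AdicCompletion I B) := isNoetherianRing_adicCompletion_of_fg I hIfg
  have : Module.Flat B (AdicCompletion K C) := Module.Flat.trans B C (AdicCompletion K C)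
  have : IsAdicComplete (I.map (algebraMap B (AdicCompletion I B))) (AdicCompletion K C) := by
    rw [← IsAdicComplete.map_algebraMap_iff (S := AdicCompletion K C)]
    have hle : (I.map (algebraMap B (AdicCompletion I B))).map
        (algebraMap (AdicCompletion I B) (AdicCompletion K C)) ≤
        K.map (algebraMap C (AdicCompletion K C)) := by
      rw [Ideal.map_map, ← IsScalarTower.algebraMap_eq,
        IsScalarTower.algebraMap_eq B C (AdicCompletion K C), ← Ideal.map_map]
      exact Ideal.map_mono h
    haveI : IsAdicComplete (K.map (algebraMap C (AdicCompletion K C))) (AdicCompletion K C) :=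
      AdicCompletion.isAdicComplete_self K hKfg
    exact Groth.Agent.S0546.result _ _ _ hle
      ((Ideal.FG.map hIfg _).map _) _
  apply flat_of_isAdicComplete_of_quotFlat (I.map (algebraMap B (AdicCompletion I B)))
  intro m
  rw [← Ideal.map_pow]
  refine QuotFlat.of_dense (I ^ m)
    (LinearMap.id : AdicCompletion K C →ₗ[B] AdicCompletion K C) ?_ ?_ ?_
    (quotFlat_of_flat (I ^ m))
  · intro r'
    obtain ⟨r, hr⟩ := exists_of_sub_mem_pow_smul_top I hIfg m r'
    exact ⟨r, (mem_map_iff_mem_smul_top _ _).mpr hr⟩
  · intro m'
    exact ⟨m', by simp⟩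
  · intro c hc
    exact (mem_map_smul_top_iff _ _).mp hc

section loc

variable (A A' : Type u) [CommRing A] [CommRing A'] [IsNoetherianRing A] [IsNoetherianRing A']
  [IsLocalRing A] [IsLocalRing A'] [Algebra A A'] [IsLocalHom (algebraMap A A')]

theorem map_maximalIdeal_le : (maximalIdeal A).map (algebraMap A A') ≤ maximalIdeal A' :=
  ((IsLocalRing.local_hom_TFAE (algebraMap A A')).out 0 2).mp ‹_›

/-- the map of completions induced by a local homomorphism -/
noncomputable def cplMap : EGA4.Cpl A →+* EGA4.Cpl A' :=
  FSch.complMap (maximalIdeal A) (maximalIdeal A') (algebraMap A A') (map_maximalIdeal_le A A')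

theorem cplMap_of (a : A) :
    cplMap A A' (algebraMap A (EGA4.Cpl A) a) = algebraMap A' (EGA4.Cpl A') (algebraMap A A' a) :=
  complMap_of _ _ _ _ a

theorem flat_cplMap [Module.Flat A A'] : (cplMap A A').Flat :=
  flat_complMap' _ _ _ (RingHom.flat_algebraMap_iff.mpr inferInstance) _

theorem isLocalHom_cplMap : IsLocalHom (cplMap A A') := by
  apply ((IsLocalRing.local_hom_TFAE (cplMap A A')).out 0 2).mpr
  rw [AdicCompletion.maximalIdeal_eq_map, AdicCompletion.maximalIdeal_eq_map, Ideal.map_map]
  have h1 : (cplMap A A').comp (algebraMap A (AdicCompletion (maximalIdeal A) A)) =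
      (algebraMap A' (AdicCompletion (maximalIdeal A') A')).comp (algebraMap A A') := by
    apply RingHom.ext
    intro a
    exact cplMap_of A A' a
  rw [h1, ← Ideal.map_map]
  exact Ideal.map_mono (map_maximalIdeal_le A A')

end loc

end Groth.Agent.Lib.Helper18.CplFlat

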