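import Mathlib
import Groth.Prelude.Def_EGA4b
import Groth.Agent.Lib.Helper18.PMor4

set_option linter.style.haveILetI false
set_option linter.unusedSectionVars false

open TensorProduct IsLocalRing

universe u

namespace Groth.Agent.Lib.Helper18.LocHom

open Groth.Agent.Lib.Helper18.PMor Groth.Agent.Lib.Helper18.FormFib

section LL

variable {R : Type u} [CommRing R] (S : Submonoid R) (T : Type u) [CommRing T] [Algebra R T]
  [IsLocalization S T]

/-- localization of a localization at a prime -/
theorem exists_prime_ringEquiv_atPrime (Q : Ideal R) [hQ : Q.IsPrime]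
    (hd : Disjoint (S : Set R) (Q : Set R)) :
    ∃ (Q' : Ideal T) (_ : Q'.IsPrime),
      Nonempty (Localization.AtPrime Q ≃+* Localization.AtPrime Q') := by
  have hQ' : (Q.map (algebraMap R T)).IsPrime :=
    IsLocalization.isPrime_of_isPrime_disjoint S T Q hQ hd
  refine ⟨Q.map (algebraMap R T), hQ', ?_⟩
  have hc : (Q.map (algebraMap R T)).comap (algebraMap R T) = Q :=
    IsLocalization.under_map_of_isPrime_disjoint S T hQ hd
  have h1 : IsLocalization.AtPrime (Localization.AtPrime (Q.map (algebraMap R T)))
      ((Q.map (algebraMap R T)).comap (algebraMap R T)) :=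
    IsLocalization.isLocalization_isLocalization_atPrime_isLocalization S
      (Localization.AtPrime (Q.map (algebraMap R T))) (Q.map (algebraMap R T))
  have h2 : IsLocalization.AtPrime (Localization.AtPrime (Q.map (algebraMap R T))) Q := by
    convert h1
    exact hc.symm
  exact ⟨(IsLocalization.algEquiv Q.primeCompl (Localization.AtPrime Q)
    (Localization.AtPrime (Q.map (algebraMap R T)))).toRingEquiv⟩

end LL

section LOC

variable (A B : Type u) [CommRing A] [CommRing B] [Algebra A B]
  (K : Type u) [CommRing K] [Algebra A K]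

/-- `(B ⊗_A K) ⊗_B B_n ≃ B_n ⊗_A K` -/
noncomputable def eLoc (n : Ideal B) [n.IsPrime] :
    (B ⊗[A] K) ⊗[B] (Localization.AtPrime n) ≃+* (Localization.AtPrime n) ⊗[A] K :=
  (Algebra.TensorProduct.comm B (B ⊗[A] K) (Localization.AtPrime n)).toRingEquiv.trans
    (Algebra.TensorProduct.cancelBaseChange A B (Localization.AtPrime n)
      (Localization.AtPrime n) K).toRingEquiv

theorem exists_maximal_prime_ringEquiv (Q : Ideal (B ⊗[A] K)) [hQ : Q.IsPrime] :
    ∃ (n : Ideal B) (_ : n.IsMaximal) (Q' : Ideal ((B ⊗[A] K) ⊗[B] (Localization.AtPrime n)))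
      (_ : Q'.IsPrime), Nonempty (Localization.AtPrime Q ≃+* Localization.AtPrime Q') := by
  have hq : Q.comap (algebraMap B (B ⊗[A] K)) ≠ ⊤ := (Ideal.comap_isPrime _ Q).ne_top
  obtain ⟨n, hn, hle⟩ := Ideal.exists_le_maximal _ hq
  haveI := hn
  have hd : Disjoint ((Algebra.algebraMapSubmonoid (B ⊗[A] K) n.primeCompl : Submonoid _) :
      Set (B ⊗[A] K)) (Q : Set (B ⊗[A] K)) := by
    rw [Set.disjoint_left]
    rintro x ⟨b, hb, rfl⟩ hxQ
    exact hb (hle hxQ)
  obtain ⟨Q', hQ', e⟩ := exists_prime_ringEquiv_atPrime
    (Algebra.algebraMapSubmonoid (B ⊗[A] K) n.primeCompl)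
    ((B ⊗[A] K) ⊗[B] (Localization.AtPrime n)) Q hd
  exact ⟨n, hn, Q', hQ', e⟩

end LOC

section LOCa

variable (A B : Type u) [CommRing A] [CommRing B] [Algebra A B]

theorem isNormalHom_of_forall_maximal (hflat : Module.Flat A B)
    (h : ∀ (n : Ideal B) [n.IsMaximal], EGA4.IsNormalHom A (Localization.AtPrime n)) :
    EGA4.IsNormalHom A B := by
  refine ⟨hflat, ?_⟩
  intro p _ K _ _ hfin
  letI : Algebra A K :=
    ((algebraMap p.ResidueField K).comp (algebraMap A p.ResidueField)).toAlgebra
  haveI : IsScalarTower A p.ResidueField K := IsScalarTower.of_algebraMap_eq (fun _ => rfl)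
  apply isNormalRing_of_ringEquiv (eB A B p K)
  intro Q _
  obtain ⟨n, hn, Q', hQ', ⟨e⟩⟩ := exists_maximal_prime_ringEquiv A B K Q
  have h1 := (h n).2 p K hfin
  have h2 : EGA4.IsNormalRing ((Localization.AtPrime n) ⊗[A] K) :=
    isNormalRing_of_ringEquiv (eB A (Localization.AtPrime n) p K).symm h1
  have h3 : EGA4.IsNormalRing ((B ⊗[A] K) ⊗[B] (Localization.AtPrime n)) :=
    isNormalRing_of_ringEquiv (eLoc A B K n).symm h2
  obtain ⟨d, ic⟩ := h3 Q'
  exact ⟨MulEquiv.isDomain _ e.toMulEquiv,
    @IsIntegrallyClosed.of_equiv (Localization.AtPrime Q') _ _ _ e.symm ic⟩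

theorem isRegularHom_of_forall_maximal [IsNoetherianRing B] (hflat : Module.Flat A B)
    (h : ∀ (n : Ideal B) [n.IsMaximal], CAlg.IsRegularHom A (Localization.AtPrime n)) :
    CAlg.IsRegularHom A B := by
  refine ⟨hflat, fun p _ => ⟨inferInstance, ?_⟩⟩
  intro K _ _ hfin
  letI : Algebra A K :=
    ((algebraMap p.ResidueField K).comp (algebraMap A p.ResidueField)).toAlgebra
  haveI : IsScalarTower A p.ResidueField K := IsScalarTower.of_algebraMap_eq (fun _ => rfl)
  haveI := essFiniteType_of_finite_residueField A p K
  haveI : IsNoetherianRing (B ⊗[A] K) := Algebra.EssFiniteType.isNoetherianRing B (B ⊗[A] K)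
  have hR : IsRegularRing (B ⊗[A] K) := by
    rw [isRegularRing_iff]
    intro Q _
    obtain ⟨n, hn, Q', hQ', ⟨e⟩⟩ := exists_maximal_prime_ringEquiv A B K Q
    haveI h1 := ((h n).2 p).2 K hfin
    have h2 : IsRegularRing ((Localization.AtPrime n) ⊗[A] K) :=
      @IsRegularRing.of_ringEquiv (K ⊗[p.ResidueField] (p.Fiber (Localization.AtPrime n))) _ _ _
        (eB A (Localization.AtPrime n) p K).symm h1
    have h3 : IsRegularRing ((B ⊗[A] K) ⊗[B] (Localization.AtPrime n)) :=
      @IsRegularRing.of_ringEquiv ((Localization.AtPrime n) ⊗[A] K) _ _ _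
        (eLoc A B K n).symm h2
    haveI := h3.isRegularLocalRing_localization Q'
    exact @IsRegularLocalRing.of_ringEquiv (Localization.AtPrime Q') _ _ _ _ e.symm
  exact @IsRegularRing.of_ringEquiv (B ⊗[A] K) _ _ _ (eB A B p K) hR

theorem isGeometricallyReduced_fiber_of_forall_maximal
    (p : Ideal A) [p.IsPrime]
    (h : ∀ (n : Ideal B) [n.IsMaximal],
      Algebra.IsGeometricallyReduced p.ResidueField (p.Fiber (Localization.AtPrime n))) :
    Algebra.IsGeometricallyReduced p.ResidueField (p.Fiber B) := by
  apply isGeometricallyReduced_of_forall_finite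
  intro K _ _ hfin
  letI : Algebra A K :=
    ((algebraMap p.ResidueField K).comp (algebraMap A p.ResidueField)).toAlgebra
  haveI : IsScalarTower A p.ResidueField K := IsScalarTower.of_algebraMap_eq (fun _ => rfl)
  have hR : IsReduced (B ⊗[A] K) := by
    apply isReduced_ofLocalizationMaximal
    intro Q hQm
    obtain ⟨n, hn, Q', hQ', ⟨e⟩⟩ := exists_maximal_prime_ringEquiv A B K Q
    haveI := h n
    have h1 : IsReduced (K ⊗[p.ResidueField] (p.Fiber (Localization.AtPrime n))) := inferInstance
    have h2 : IsReduced ((Localization.AtPrime n) ⊗[A] K) :=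
      @isReduced_of_injective ((Localization.AtPrime n) ⊗[A] K)
        (K ⊗[p.ResidueField] (p.Fiber (Localization.AtPrime n))) _ _ _ _ _
        (eB A (Localization.AtPrime n) p K).toRingHom
        (eB A (Localization.AtPrime n) p K).injective h1
    haveI h3 : IsReduced ((B ⊗[A] K) ⊗[B] (Localization.AtPrime n)) :=
      isReduced_of_injective (eLoc A B K n).toRingHom (eLoc A B K n).injective
    haveI : IsReduced (Localization.AtPrime Q') := inferInstance
    exact isReduced_of_injective e.toRingHom e.injective
  exact isReduced_of_injective (eB A B p K).symm.toRingHom (eB A B p K).symm.injective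

end LOCa

section fieldLoc

theorem isNormalRing_field (K : Type u) [Field K] : EGA4.IsNormalRing K := by
  intro p _
  exact ⟨inferInstance, isIntegrallyClosed_of_isLocalization (Localization.AtPrime p)
    p.primeCompl p.primeCompl_le_nonZeroDivisors⟩

theorem isNormalRing_of_subsingleton (R : Type u) [CommRing R] [Subsingleton R] :
    EGA4.IsNormalRing R := by
  intro p hp
  exact absurd (Subsingleton.elim _ _) hp.ne_top

theorem isRegularRing_of_subsingleton (R : Type u) [CommRing R] [Subsingleton R] :
    IsRegularRing R := by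
  haveI : IsNoetherianRing R := inferInstance
  rw [isRegularRing_iff]
  intro p hp
  exact absurd (Subsingleton.elim _ _) hp.ne_top

variable (K : Type u) [Field K] (M : Submonoid K) (T : Type u) [CommRing T] [Algebra K T]
  [IsLocalization M T]

include M

theorem subsingleton_or_bijective : Subsingleton T ∨ Function.Bijective (algebraMap K T) := by
  by_cases h0 : (0 : K) ∈ M
  · left
    exact IsLocalization.subsingleton (M := M) h0
  · right
    have hu : ∀ x ∈ M, IsUnit x := fun x hx => by
      rw [isUnit_iff_ne_zero]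
      rintro rfl
      exact h0 hx
    exact (IsLocalization.atUnits K M (S := T) hu).bijective

theorem isNormalRing_fieldLoc : EGA4.IsNormalRing T := by
  rcases subsingleton_or_bijective K M T with h | h
  · exact isNormalRing_of_subsingleton T
  · exact isNormalRing_of_ringEquiv (RingEquiv.ofBijective (algebraMap K T) h)
      (isNormalRing_field K)

theorem isRegularRing_fieldLoc : IsRegularRing T := by
  rcases subsingleton_or_bijective K M T with h | h
  · exact isRegularRing_of_subsingleton T
  · exact @IsRegularRing.of_ringEquiv K _ _ _ (RingEquiv.ofBijective (algebraMap K T) h)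
      inferInstance

theorem isReduced_fieldLoc : IsReduced T := by
  rcases subsingleton_or_bijective K M T with h | h
  · infer_instance
  · exact isReduced_of_injective (RingEquiv.ofBijective (algebraMap K T) h).symm.toRingHom
      (RingEquiv.ofBijective (algebraMap K T) h).symm.injective

end fieldLoc

section locSelf

variable (A : Type u) [CommRing A] (S : Submonoid A) (A' : Type u) [CommRing A'] [Algebra A A']
  [IsLocalization S A']

include S

theorem isNormalHom_of_isLocalization : EGA4.IsNormalHom A A' := by
  refine ⟨IsLocalization.flat A' S, ?_⟩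
  intro p _ K _ _ hfin
  letI : Algebra A K :=
    ((algebraMap p.ResidueField K).comp (algebraMap A p.ResidueField)).toAlgebra
  haveI : IsScalarTower A p.ResidueField K := IsScalarTower.of_algebraMap_eq (fun _ => rfl)
  have h1 : EGA4.IsNormalRing (K ⊗[A] A') :=
    isNormalRing_fieldLoc K (Algebra.algebraMapSubmonoid K S) (K ⊗[A] A')
  exact isNormalRing_of_ringEquiv
    ((Algebra.TensorProduct.comm A K A').toRingEquiv.trans (eB A A' p K)) h1

theorem isRegularHom_of_isLocalization [IsNoetherianRing A] : CAlg.IsRegularHom A A' := by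
  haveI : IsNoetherianRing A' := IsLocalization.isNoetherianRing S A' inferInstance
  refine ⟨IsLocalization.flat A' S, fun p _ => ⟨inferInstance, ?_⟩⟩
  intro K _ _ hfin
  letI : Algebra A K :=
    ((algebraMap p.ResidueField K).comp (algebraMap A p.ResidueField)).toAlgebra
  haveI : IsScalarTower A p.ResidueField K := IsScalarTower.of_algebraMap_eq (fun _ => rfl)
  have h1 : IsRegularRing (K ⊗[A] A') :=
    isRegularRing_fieldLoc K (Algebra.algebraMapSubmonoid K S) (K ⊗[A] A')
  exact @IsRegularRing.of_ringEquiv (K ⊗[A] A') _ _ _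
    ((Algebra.TensorProduct.comm A K A').toRingEquiv.trans (eB A A' p K)) h1

theorem isGeometricallyReduced_fiber_of_isLocalization (p : Ideal A) [p.IsPrime] :
    Algebra.IsGeometricallyReduced p.ResidueField (p.Fiber A') := by
  apply isGeometricallyReduced_of_forall_finite
  intro K _ _ hfin
  letI : Algebra A K :=
    ((algebraMap p.ResidueField K).comp (algebraMap A p.ResidueField)).toAlgebra
  haveI : IsScalarTower A p.ResidueField K := IsScalarTower.of_algebraMap_eq (fun _ => rfl)
  have h1 : IsReduced (K ⊗[A] A') :=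
    isReduced_fieldLoc K (Algebra.algebraMapSubmonoid K S) (K ⊗[A] A')
  exact isReduced_of_injective
    ((Algebra.TensorProduct.comm A K A').toRingEquiv.trans (eB A A' p K)).symm.toRingHom
    ((Algebra.TensorProduct.comm A K A').toRingEquiv.trans (eB A A' p K)).symm.injective

end locSelf

end Groth.Agent.Lib.Helper18.LocHom



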