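import Mathlib
import Groth.Prelude.Def_EGA4b
import Groth.Agent.Lib.Helper18.PMor4
import Groth.Agent.Lib.Helper21.AdicNoetherian

set_option linter.style.haveILetI false
set_option linter.unusedSectionVars false

open TensorProduct IsLocalRing

universe u

namespace Groth.Agent.Lib.Helper18.OnePlus

open Groth.Agent.Lib.Helper18.PMor Groth.Agent.Lib.Helper18.FormFib

section transfer

theorem isNormalHom_of_algEquiv {R S T : Type u} [CommRing R] [CommRing S] [CommRing T]
    [Algebra R S] [Algebra R T] (e : S ≃ₐ[R] T) (h : EGA4.IsNormalHom R S) :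
    EGA4.IsNormalHom R T := by
  haveI := h.1
  refine ⟨Module.Flat.of_linearEquiv e.toLinearEquiv.symm, ?_⟩
  intro p _ K _ _ hfin
  have e1 : p.Fiber S ≃ₐ[p.ResidueField] p.Fiber T :=
    Algebra.TensorProduct.congr AlgEquiv.refl e
  have e2 : K ⊗[p.ResidueField] (p.Fiber S) ≃ₐ[K] K ⊗[p.ResidueField] (p.Fiber T) :=
    Algebra.TensorProduct.congr AlgEquiv.refl e1
  exact isNormalRing_of_ringEquiv e2.toRingEquiv (h.2 p K hfin)

theorem isRegularHom_of_algEquiv {R S T : Type u} [CommRing R] [CommRing S] [CommRing T]
    [Algebra R S] [Algebra R T] (e : S ≃ₐ[R] T) (h : CAlg.IsRegularHom R S) :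
    CAlg.IsRegularHom R T := by
  haveI := h.1
  refine ⟨Module.Flat.of_linearEquiv e.toLinearEquiv.symm, fun p _ => ?_⟩
  have e1 : p.Fiber S ≃ₐ[p.ResidueField] p.Fiber T :=
    Algebra.TensorProduct.congr AlgEquiv.refl e
  haveI := (h.2 p).1
  refine ⟨isNoetherianRing_of_ringEquiv _ e1.toRingEquiv, ?_⟩
  intro K _ _ hfin
  have e2 : K ⊗[p.ResidueField] (p.Fiber S) ≃ₐ[K] K ⊗[p.ResidueField] (p.Fiber T) :=
    Algebra.TensorProduct.congr AlgEquiv.refl e1
  haveI := (h.2 p).2 K hfin
  exact @IsRegularRing.of_ringEquiv (K ⊗[p.ResidueField] (p.Fiber S)) _ _ _ e2.toRingEquiv _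

theorem isNormalHom_localization (A B : Type u) [CommRing A] [CommRing B] [Algebra A B]
    (S : Submonoid A)
    (A' B' : Type u) [CommRing A'] [CommRing B'] [Algebra A A'] [Algebra B B'] [Algebra A' B']
    [Algebra A B'] [IsScalarTower A A' B'] [IsScalarTower A B B'] [IsLocalization S A']
    [IsLocalization (Algebra.algebraMapSubmonoid B S) B']
    (h : EGA4.IsNormalHom A B) : EGA4.IsNormalHom A' B' := by
  haveI : Algebra.QuasiFinite A A' := Algebra.QuasiFinite.of_isLocalization (R := A) (S := A) S
  have h1 := isNormalHom_baseChange B A' h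
  haveI : Algebra.IsPushout A B A' B' := Algebra.isPushout_of_isLocalization S A' B B'
  haveI : Algebra.IsPushout A A' B B' := Algebra.IsPushout.symm inferInstance
  exact isNormalHom_of_algEquiv (Algebra.IsPushout.equiv A A' B B') h1

theorem isRegularHom_localization (A B : Type u) [CommRing A] [CommRing B] [Algebra A B]
    (S : Submonoid A)
    (A' B' : Type u) [CommRing A'] [CommRing B'] [Algebra A A'] [Algebra B B'] [Algebra A' B']
    [Algebra A B'] [IsScalarTower A A' B'] [IsScalarTower A B B'] [IsLocalization S A']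
    [IsLocalization (Algebra.algebraMapSubmonoid B S) B']
    (h : CAlg.IsRegularHom A B) : CAlg.IsRegularHom A' B' := by
  haveI : Algebra.QuasiFinite A A' := Algebra.QuasiFinite.of_isLocalization (R := A) (S := A) S
  have h1 := isRegularHom_baseChange B A' h
  haveI : Algebra.IsPushout A B A' B' := Algebra.isPushout_of_isLocalization S A' B B'
  haveI : Algebra.IsPushout A A' B B' := Algebra.IsPushout.symm inferInstance
  exact isRegularHom_of_algEquiv (Algebra.IsPushout.equiv A A' B B') h1

end transfer

section onePlus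

variable (A : Type u) [CommRing A] [IsNoetherianRing A] (J : Ideal A)

/-- `T = 1 + J` -/
abbrev T : Submonoid A := MonoidHom.mker (Ideal.Quotient.mk J)

theorem mem_T_iff (t : A) : t ∈ T A J ↔ t - 1 ∈ J := by
  rw [MonoidHom.mem_mker, ← Ideal.Quotient.eq, map_one]

theorem isUnit_algebraMap_of_mem_T (t : A) (ht : t ∈ T A J) :
    IsUnit (algebraMap A (AdicCompletion J A) t) := by
  have hJfg : J.FG := IsNoetherian.noetherian J
  haveI : IsAdicComplete (J.map (algebraMap A (AdicCompletion J A))) (AdicCompletion J A) :=
    AdicCompletion.isAdicComplete_self J hJfg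
  have h1 : algebraMap A (AdicCompletion J A) (t - 1) ∈
      (⊥ : Ideal (AdicCompletion J A)).jacobson :=
    IsAdicComplete.le_jacobson_bot (J.map (algebraMap A (AdicCompletion J A)))
      (Ideal.mem_map_of_mem _ ((mem_T_iff A J t).mp ht))
  have h2 := Ideal.mem_jacobson_bot.mp h1 1
  have h3 : algebraMap A (AdicCompletion J A) (t - 1) * 1 + 1 =
      algebraMap A (AdicCompletion J A) t := by
    rw [mul_one, map_sub, map_one]
    ring
  rwa [h3] at h2

noncomputable instance algLoc : Algebra (Localization (T A J)) (AdicCompletion J A) :=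
  (IsLocalization.lift (M := T A J) (g := algebraMap A (AdicCompletion J A))
    (fun t => isUnit_algebraMap_of_mem_T A J t.1 t.2)).toAlgebra

instance : IsScalarTower A (Localization (T A J)) (AdicCompletion J A) :=
  IsScalarTower.of_algebraMap_eq (fun a => (IsLocalization.lift_eq _ a).symm)

instance : IsLocalization (Algebra.algebraMapSubmonoid (AdicCompletion J A) (T A J))
    (AdicCompletion J A) := by
  apply IsLocalization.self
  rintro s ⟨t, ht, rfl⟩
  exact isUnit_algebraMap_of_mem_T A J t ht

instance : IsNoetherianRing (AdicCompletion J A) :=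
  Groth.Agent.Lib.Helper21.isNoetherianRing_adicCompletion_of_fg J (IsNoetherian.noetherian J)

instance : IsNoetherianRing (Localization (T A J)) :=
  IsLocalization.isNoetherianRing (T A J) _ inferInstance

theorem isNormalHom_loc (h : EGA4.IsNormalHom A (AdicCompletion J A)) :
    EGA4.IsNormalHom (Localization (T A J)) (AdicCompletion J A) :=
  isNormalHom_localization A (AdicCompletion J A) (T A J) (Localization (T A J))
    (AdicCompletion J A) h

theorem isRegularHom_loc (h : CAlg.IsRegularHom A (AdicCompletion J A)) :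
    CAlg.IsRegularHom (Localization (T A J)) (AdicCompletion J A) :=
  isRegularHom_localization A (AdicCompletion J A) (T A J) (Localization (T A J))
    (AdicCompletion J A) h

end onePlus

section ff

variable (A : Type u) [CommRing A] [IsNoetherianRing A] (J : Ideal A)

theorem J_le_of_isMaximal (m : Ideal (Localization (T A J))) [hm : m.IsMaximal] :
    J.map (algebraMap A (Localization (T A J))) ≤ m := by
  rw [Ideal.map_le_iff_le_comap]
  intro j hj
  by_contra hjm
  rw [Ideal.mem_comap] at hjm
  obtain ⟨a, y, hy, hay⟩ := hm.exists_inv hjm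
  obtain ⟨a₀, t, rfl⟩ := IsLocalization.exists_mk'_eq (T A J) a
  have h1 : algebraMap A (Localization (T A J)) (t.1 - a₀ * j) =
      algebraMap A (Localization (T A J)) t.1 * y := by
    have hy' : y = 1 - IsLocalization.mk' (Localization (T A J)) a₀ t *
        algebraMap A (Localization (T A J)) j := by
      rw [← hay]; ring
    rw [hy', mul_sub, mul_one, ← mul_assoc, IsLocalization.mk'_spec', map_sub, map_mul]
  have h2 : t.1 - a₀ * j ∈ T A J := by
    rw [mem_T_iff]
    have h3 : t.1 - a₀ * j - 1 = (t.1 - 1) - a₀ * j := by ring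
    rw [h3]
    exact J.sub_mem ((mem_T_iff A J t.1).mp t.2) (J.mul_mem_left _ hj)
  have h4 : IsUnit (algebraMap A (Localization (T A J)) (t.1 - a₀ * j)) :=
    IsLocalization.map_units _ (⟨_, h2⟩ : T A J)
  rw [h1] at h4
  exact hm.ne_top (Ideal.eq_top_of_isUnit_mem _ (m.mul_mem_left _ hy) h4)

theorem flat_loc [Module.Flat A (AdicCompletion J A)] :
    Module.Flat (Localization (T A J)) (AdicCompletion J A) :=
  (Module.flat_iff_of_isLocalization (Localization (T A J)) (T A J) (AdicCompletion J A)).mpr
    inferInstance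

theorem faithfullyFlat_loc :
    Module.FaithfullyFlat (Localization (T A J)) (AdicCompletion J A) := by
  haveI := flat_loc A J
  refine ⟨fun m hm htop => ?_⟩
  let ψ : A ⧸ J →+* (Localization (T A J)) ⧸ m :=
    Ideal.Quotient.lift J ((Ideal.Quotient.mk m).comp (algebraMap A (Localization (T A J))))
      (fun j hj => by
        rw [RingHom.comp_apply, Ideal.Quotient.eq_zero_iff_mem]
        exact J_le_of_isMaximal A J m (Ideal.mem_map_of_mem _ hj))
  let χ : AdicCompletion J A →+* (Localization (T A J)) ⧸ m :=
    ψ.comp (AdicCompletion.evalOneₐ J).toRingHom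
  have hχ : χ.comp (algebraMap (Localization (T A J)) (AdicCompletion J A)) =
      Ideal.Quotient.mk m := by
    apply IsLocalization.ringHom_ext (T A J)
    apply RingHom.ext
    intro a
    simp only [RingHom.comp_apply]
    rw [← IsScalarTower.algebraMap_apply A (Localization (T A J)) (AdicCompletion J A)]
    change ψ (AdicCompletion.evalOneₐ J (algebraMap A (AdicCompletion J A) a)) = _
    have : AdicCompletion.evalOneₐ J (algebraMap A (AdicCompletion J A) a) =
        Ideal.Quotient.mk J a := AdicCompletion.evalOneₐ_of J a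
    rw [this]
    rfl
  have hzero : ∀ x ∈ (m • ⊤ : Submodule (Localization (T A J)) (AdicCompletion J A)),
      χ x = 0 := by
    intro x hx
    induction hx using Submodule.smul_induction_on' with
    | smul r hr n _ =>
      rw [Algebra.smul_def, map_mul]
      have : χ (algebraMap (Localization (T A J)) (AdicCompletion J A) r) =
          Ideal.Quotient.mk m r := by
        rw [← hχ]; rfl
      rw [this, Ideal.Quotient.eq_zero_iff_mem.mpr hr, zero_mul]
    | add x _ y _ hx hy => rw [map_add, hx, hy, add_zero]
  have h1 : χ 1 = 0 := hzero 1 (by rw [htop]; exact Submodule.mem_top)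
  rw [map_one] at h1
  haveI : Nontrivial ((Localization (T A J)) ⧸ m) := Ideal.Quotient.nontrivial_iff.mpr hm.ne_top
  exact one_ne_zero h1

end ff

end Groth.Agent.Lib.Helper18.OnePlus

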