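import Mathlib
import Groth.Prelude.Def_EGA4b
import Groth.Agent.Lib.Helper18.LocHom
import Groth.Agent.Lib.Helper18.CplFlat
import Groth.Agent.Lib.Helper18.OnePlus

set_option linter.style.haveILetI false
set_option linter.unusedSectionVars false

open TensorProduct IsLocalRing

universe u

namespace Groth.Agent.Lib.Helper18.AdicHom

open Groth.Agent.Lib.Helper18.PMor Groth.Agent.Lib.Helper18.FormFib
  Groth.Agent.Lib.Helper18.LocHom Groth.Agent.Lib.Helper18.CplFlat

variable (A : Type u) [CommRing A] [IsNoetherianRing A] (I : Ideal A)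

section max

variable (n : Ideal (AdicCompletion I A)) [hn : n.IsMaximal]

theorem map_le_maximal : I.map (algebraMap A (AdicCompletion I A)) ≤ n := by
  have hIfg : I.FG := IsNoetherian.noetherian I
  haveI : IsAdicComplete (I.map (algebraMap A (AdicCompletion I A))) (AdicCompletion I A) :=
    AdicCompletion.isAdicComplete_self I hIfg
  have h1 := IsAdicComplete.le_jacobson_bot (I.map (algebraMap A (AdicCompletion I A)))
  have h2 : (⊥ : Ideal (AdicCompletion I A)).jacobson ≤ n := by
    have := Ideal.jacobson_mono (bot_le : (⊥ : Ideal (AdicCompletion I A)) ≤ n)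
    rwa [Ideal.jacobson_eq_self_of_isMaximal (I := n)] at this
  exact h1.trans h2

theorem exists_sub_mem (b : AdicCompletion I A) :
    ∃ a : A, b - algebraMap A (AdicCompletion I A) a ∈
      I.map (algebraMap A (AdicCompletion I A)) := by
  have hIfg : I.FG := IsNoetherian.noetherian I
  obtain ⟨a, ha⟩ := Ideal.Quotient.mk_surjective (AdicCompletion.evalOneₐ I b)
  refine ⟨a, ?_⟩
  rw [← AdicCompletion.ker_evalOneₐ_eq_map I hIfg, RingHom.mem_ker]
  change AdicCompletion.evalOneₐ I (b - algebraMap A (AdicCompletion I A) a) = 0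
  rw [map_sub, sub_eq_zero, ← ha]
  exact (AdicCompletion.evalOneₐ_of I a).symm

theorem le_comap : I ≤ n.comap (algebraMap A (AdicCompletion I A)) := by
  intro a ha
  exact map_le_maximal A I n (Ideal.mem_map_of_mem _ ha)

instance comap_isMaximal : (n.comap (algebraMap A (AdicCompletion I A))).IsMaximal := by
  let f : A →+* (AdicCompletion I A ⧸ n) :=
    (Ideal.Quotient.mk n).comp (algebraMap A (AdicCompletion I A))
  have hf : Function.Surjective f := by
    intro x
    obtain ⟨b, rfl⟩ := Ideal.Quotient.mk_surjective x
    obtain ⟨a, ha⟩ := exists_sub_mem A I b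
    refine ⟨a, ?_⟩
    change Ideal.Quotient.mk n (algebraMap A (AdicCompletion I A) a) = Ideal.Quotient.mk n b
    rw [eq_comm, Ideal.Quotient.eq]
    exact map_le_maximal A I n ha
  letI : Field (AdicCompletion I A ⧸ n) := Ideal.Quotient.field n
  have h1 := RingHom.ker_isMaximal_of_surjective f hf
  have h2 : RingHom.ker f = n.comap (algebraMap A (AdicCompletion I A)) := by
    ext a
    rw [RingHom.mem_ker, Ideal.mem_comap]
    change Ideal.Quotient.mk n (algebraMap A (AdicCompletion I A) a) = 0 ↔ _
    rw [Ideal.Quotient.eq_zero_iff_mem]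
  rwa [h2] at h1

theorem eq_map_comap :
    n = (n.comap (algebraMap A (AdicCompletion I A))).map (algebraMap A (AdicCompletion I A)) := by
  apply le_antisymm _ Ideal.map_comap_le
  intro b hb
  obtain ⟨a, ha⟩ := exists_sub_mem A I b
  have h1 : algebraMap A (AdicCompletion I A) a ∈ n := by
    have : algebraMap A (AdicCompletion I A) a = b - (b - algebraMap A (AdicCompletion I A) a) := by
      ring
    rw [this]
    exact n.sub_mem hb (map_le_maximal A I n ha)
  have h2 : b = algebraMap A (AdicCompletion I A) a + (b - algebraMap A (AdicCompletion I A) a) := by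
    ring
  rw [h2]
  exact Ideal.add_mem _ (Ideal.mem_map_of_mem _ h1) (Ideal.map_mono (le_comap A I n) ha)

end max

section gmap

variable (n : Ideal (AdicCompletion I A)) [hn : n.IsMaximal]

/-- the contraction of `n` to `A` -/
noncomputable abbrev mm : Ideal A := n.comap (algebraMap A (AdicCompletion I A))

theorem map_le_maximalIdeal :
    I.map (algebraMap A (Localization.AtPrime (mm A I n))) ≤
      maximalIdeal (Localization.AtPrime (mm A I n)) := by
  rw [← Localization.AtPrime.map_eq_maximalIdeal]
  exact Ideal.map_mono (le_comap A I n)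

/-- `Â_I → (A_m)^` -/
noncomputable def g₀ : AdicCompletion I A →+* EGA4.Cpl (Localization.AtPrime (mm A I n)) :=
  FSch.complMap I (maximalIdeal (Localization.AtPrime (mm A I n)))
    (algebraMap A (Localization.AtPrime (mm A I n))) (map_le_maximalIdeal A I n)

theorem g₀_of (a : A) :
    g₀ A I n (algebraMap A (AdicCompletion I A) a) =
      algebraMap (Localization.AtPrime (mm A I n)) (EGA4.Cpl (Localization.AtPrime (mm A I n)))
        (algebraMap A (Localization.AtPrime (mm A I n)) a) :=
  Groth.Agent.Lib.Helper14.complMap_of _ _ _ _ a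

theorem flat_g₀ : (g₀ A I n).Flat :=
  flat_complMap' I _ _ (RingHom.flat_algebraMap_iff.mpr inferInstance) _

theorem comap_g₀ :
    (maximalIdeal (EGA4.Cpl (Localization.AtPrime (mm A I n)))).comap (g₀ A I n) = n := by
  have h0 : (mm A I n).map (algebraMap A (AdicCompletion I A)) ≤
      (maximalIdeal (EGA4.Cpl (Localization.AtPrime (mm A I n)))).comap (g₀ A I n) := by
    rw [Ideal.map_le_iff_le_comap]
    intro a ha
    rw [Ideal.mem_comap, Ideal.mem_comap, g₀_of, AdicCompletion.maximalIdeal_eq_map]
    apply Ideal.mem_map_of_mem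
    have hmax : maximalIdeal (Localization.AtPrime (mm A I n)) =
        (mm A I n).map (algebraMap A (Localization.AtPrime (mm A I n))) :=
      (Localization.AtPrime.map_eq_maximalIdeal).symm
    rw [hmax]
    exact Ideal.mem_map_of_mem _ ha
  have h1 : n ≤ (maximalIdeal (EGA4.Cpl (Localization.AtPrime (mm A I n)))).comap (g₀ A I n) := by
    intro b hb
    apply h0
    rw [← eq_map_comap A I n]
    exact hb
  have h2 : (maximalIdeal (EGA4.Cpl (Localization.AtPrime (mm A I n)))).comap (g₀ A I n) ≠ ⊤ :=
    (Ideal.comap_isPrime _ _).ne_top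
  exact (hn.eq_of_le h2 h1).symm

theorem isUnit_g₀ (y : n.primeCompl) : IsUnit (g₀ A I n y) := by
  by_contra hy
  have h1 : g₀ A I n y ∈ maximalIdeal (EGA4.Cpl (Localization.AtPrime (mm A I n))) :=
    (IsLocalRing.mem_maximalIdeal _).mpr hy
  have h2 : (y : AdicCompletion I A) ∈
      (maximalIdeal (EGA4.Cpl (Localization.AtPrime (mm A I n)))).comap (g₀ A I n) := h1
  rw [comap_g₀] at h2
  exact y.2 h2

/-- `(Â_I)_n → (A_m)^` -/
noncomputable def g : Localization.AtPrime n →+* EGA4.Cpl (Localization.AtPrime (mm A I n)) :=
  IsLocalization.lift (M := n.primeCompl) (g := g₀ A I n) (isUnit_g₀ A I n)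

theorem g_algebraMap' (b : AdicCompletion I A) :
    g A I n (algebraMap (AdicCompletion I A) (Localization.AtPrime n) b) = g₀ A I n b :=
  IsLocalization.lift_eq _ b

theorem flat_g : (g A I n).Flat := by
  letI : Algebra (AdicCompletion I A) (EGA4.Cpl (Localization.AtPrime (mm A I n))) :=
    (g₀ A I n).toAlgebra
  letI : Algebra (Localization.AtPrime n) (EGA4.Cpl (Localization.AtPrime (mm A I n))) :=
    (g A I n).toAlgebra
  haveI : IsScalarTower (AdicCompletion I A) (Localization.AtPrime n)
      (EGA4.Cpl (Localization.AtPrime (mm A I n))) :=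
    IsScalarTower.of_algebraMap_eq (fun b => (g_algebraMap' A I n b).symm)
  haveI : Module.Flat (AdicCompletion I A) (EGA4.Cpl (Localization.AtPrime (mm A I n))) :=
    flat_g₀ A I n
  exact (Module.flat_iff_of_isLocalization (Localization.AtPrime n) n.primeCompl
    (EGA4.Cpl (Localization.AtPrime (mm A I n)))).mpr inferInstance

theorem isLocalHom_g : IsLocalHom (g A I n) := by
  apply ((IsLocalRing.local_hom_TFAE (g A I n)).out 0 2).mpr
  have hmax : maximalIdeal (Localization.AtPrime n) =
      n.map (algebraMap (AdicCompletion I A) (Localization.AtPrime n)) :=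
    (Localization.AtPrime.map_eq_maximalIdeal).symm
  rw [hmax, Ideal.map_map, Ideal.map_le_iff_le_comap]
  intro b hb
  rw [Ideal.mem_comap, RingHom.comp_apply, g_algebraMap']
  have : b ∈ (maximalIdeal (EGA4.Cpl (Localization.AtPrime (mm A I n)))).comap (g₀ A I n) := by
    rw [comap_g₀]; exact hb
  exact this

theorem g_algebraMap (a : A) :
    g A I n (algebraMap A (Localization.AtPrime n) a) =
      algebraMap A (EGA4.Cpl (Localization.AtPrime (mm A I n))) a := by
  rw [IsScalarTower.algebraMap_apply A (AdicCompletion I A) (Localization.AtPrime n),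
    g_algebraMap', g₀_of]
  rfl

end gmap

section main

theorem isNormalHom_adicCompletion
    (hA : ∀ (p : Ideal A) [p.IsPrime], EGA4.HasGeomNormalFormalFibres (Localization.AtPrime p)) :
    EGA4.IsNormalHom A (AdicCompletion I A) := by
  apply isNormalHom_of_forall_maximal A (AdicCompletion I A) inferInstance
  intro n hn
  letI : Algebra (Localization.AtPrime n) (EGA4.Cpl (Localization.AtPrime (mm A I n))) :=
    (g A I n).toAlgebra
  haveI : IsScalarTower A (Localization.AtPrime n) (EGA4.Cpl (Localization.AtPrime (mm A I n))) :=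
    IsScalarTower.of_algebraMap_eq (fun a => (g_algebraMap A I n a).symm)
  haveI : IsScalarTower A (Localization.AtPrime (mm A I n))
      (EGA4.Cpl (Localization.AtPrime (mm A I n))) :=
    IsScalarTower.of_algebraMap_eq (fun _ => rfl)
  haveI : Module.Flat (Localization.AtPrime n) (EGA4.Cpl (Localization.AtPrime (mm A I n))) :=
    flat_g A I n
  haveI : IsLocalHom (algebraMap (Localization.AtPrime n)
      (EGA4.Cpl (Localization.AtPrime (mm A I n)))) := isLocalHom_g A I n
  haveI : Module.FaithfullyFlat (Localization.AtPrime n)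
      (EGA4.Cpl (Localization.AtPrime (mm A I n))) := Module.FaithfullyFlat.of_flat_of_isLocalHom
  haveI : IsNoetherianRing (Localization.AtPrime n) :=
    IsLocalization.isNoetherianRing n.primeCompl _ inferInstance
  haveI : IsNoetherianRing (Localization.AtPrime (mm A I n)) :=
    IsLocalization.isNoetherianRing (mm A I n).primeCompl _ inferInstance
  have h1 : EGA4.IsNormalHom (Localization.AtPrime (mm A I n))
      (EGA4.Cpl (Localization.AtPrime (mm A I n))) := ⟨inferInstance, hA (mm A I n)⟩
  have h2 : EGA4.IsNormalHom A (Localization.AtPrime (mm A I n)) :=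
    isNormalHom_of_isLocalization A (mm A I n).primeCompl _
  have h3 := isNormalHom_comp A (Localization.AtPrime (mm A I n))
    (EGA4.Cpl (Localization.AtPrime (mm A I n))) h2 h1
  exact isNormalHom_of_comp_of_faithfullyFlat A (Localization.AtPrime n)
    (EGA4.Cpl (Localization.AtPrime (mm A I n))) h3

theorem isRegularHom_adicCompletion
    (hA : ∀ (p : Ideal A) [p.IsPrime], CAlg.IsRegularHom (Localization.AtPrime p)
      (EGA4.Cpl (Localization.AtPrime p))) :
    CAlg.IsRegularHom A (AdicCompletion I A) := by
  apply isRegularHom_of_forall_maximal A (AdicCompletion I A) inferInstance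
  intro n hn
  letI : Algebra (Localization.AtPrime n) (EGA4.Cpl (Localization.AtPrime (mm A I n))) :=
    (g A I n).toAlgebra
  haveI : IsScalarTower A (Localization.AtPrime n) (EGA4.Cpl (Localization.AtPrime (mm A I n))) :=
    IsScalarTower.of_algebraMap_eq (fun a => (g_algebraMap A I n a).symm)
  haveI : IsScalarTower A (Localization.AtPrime (mm A I n))
      (EGA4.Cpl (Localization.AtPrime (mm A I n))) :=
    IsScalarTower.of_algebraMap_eq (fun _ => rfl)
  haveI : Module.Flat (Localization.AtPrime n) (EGA4.Cpl (Localization.AtPrime (mm A I n))) :=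
    flat_g A I n
  haveI : IsLocalHom (algebraMap (Localization.AtPrime n)
      (EGA4.Cpl (Localization.AtPrime (mm A I n)))) := isLocalHom_g A I n
  haveI : Module.FaithfullyFlat (Localization.AtPrime n)
      (EGA4.Cpl (Localization.AtPrime (mm A I n))) := Module.FaithfullyFlat.of_flat_of_isLocalHom
  haveI : IsNoetherianRing (Localization.AtPrime n) :=
    IsLocalization.isNoetherianRing n.primeCompl _ inferInstance
  haveI : IsNoetherianRing (Localization.AtPrime (mm A I n)) :=
    IsLocalization.isNoetherianRing (mm A I n).primeCompl _ inferInstance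
  have h2 : CAlg.IsRegularHom A (Localization.AtPrime (mm A I n)) :=
    isRegularHom_of_isLocalization A (mm A I n).primeCompl _
  have h3 := isRegularHom_comp A (Localization.AtPrime (mm A I n))
    (EGA4.Cpl (Localization.AtPrime (mm A I n))) h2 (hA (mm A I n))
  exact isRegularHom_of_comp_of_faithfullyFlat A (Localization.AtPrime n)
    (EGA4.Cpl (Localization.AtPrime (mm A I n))) h3

theorem isGeometricallyReduced_fiber_adicCompletion
    (hA : ∀ (p : Ideal A) [p.IsPrime], EGA4.HasGeomReducedFormalFibres (Localization.AtPrime p))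
    (p : Ideal A) [p.IsPrime] :
    Algebra.IsGeometricallyReduced p.ResidueField (p.Fiber (AdicCompletion I A)) := by
  apply isGeometricallyReduced_fiber_of_forall_maximal A (AdicCompletion I A) p
  intro n hn
  letI : Algebra (Localization.AtPrime n) (EGA4.Cpl (Localization.AtPrime (mm A I n))) :=
    (g A I n).toAlgebra
  haveI : IsScalarTower A (Localization.AtPrime n) (EGA4.Cpl (Localization.AtPrime (mm A I n))) :=
    IsScalarTower.of_algebraMap_eq (fun a => (g_algebraMap A I n a).symm)
  haveI : IsScalarTower A (Localization.AtPrime (mm A I n))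
      (EGA4.Cpl (Localization.AtPrime (mm A I n))) :=
    IsScalarTower.of_algebraMap_eq (fun _ => rfl)
  haveI : Module.Flat (Localization.AtPrime n) (EGA4.Cpl (Localization.AtPrime (mm A I n))) :=
    flat_g A I n
  haveI : IsLocalHom (algebraMap (Localization.AtPrime n)
      (EGA4.Cpl (Localization.AtPrime (mm A I n)))) := isLocalHom_g A I n
  haveI : Module.FaithfullyFlat (Localization.AtPrime n)
      (EGA4.Cpl (Localization.AtPrime (mm A I n))) := Module.FaithfullyFlat.of_flat_of_isLocalHom
  haveI : IsNoetherianRing (Localization.AtPrime (mm A I n)) :=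
    IsLocalization.isNoetherianRing (mm A I n).primeCompl _ inferInstance
  haveI : Module.Flat A (Localization.AtPrime (mm A I n)) :=
    IsLocalization.flat _ (mm A I n).primeCompl
  have h3 := isGeometricallyReduced_fiber_comp A (Localization.AtPrime (mm A I n))
    (EGA4.Cpl (Localization.AtPrime (mm A I n)))
    (fun p' _ => isGeometricallyReduced_fiber_of_isLocalization A (mm A I n).primeCompl _ p')
    (hA (mm A I n)) p
  exact isGeometricallyReduced_fiber_of_comp_of_faithfullyFlat A (Localization.AtPrime n)
    (EGA4.Cpl (Localization.AtPrime (mm A I n))) p h3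

end main

end Groth.Agent.Lib.Helper18.AdicHom


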