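import Mathlib
import Groth.Prelude.Def_EGA4b
import Groth.Agent.Lib.Helper18.AdicHom

set_option autoImplicit false
set_option linter.style.haveILetI false
set_option linter.unusedSectionVars false

open TensorProduct IsLocalRing

universe u

namespace Groth.Agent.Lib.Helper18.CplIso

open Groth.Agent.Lib.Helper18.CplFlat

section

variable (B C : Type u) [CommRing B] [CommRing C] [IsNoetherianRing B] [IsNoetherianRing C]
  [IsLocalRing B] [IsLocalRing C] [Algebra B C] [IsLocalHom (algebraMap B C)]

theorem map_cplMap_maximalIdeal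
    (hm : (maximalIdeal B).map (algebraMap B C) = maximalIdeal C) :
    (maximalIdeal (EGA4.Cpl B)).map (cplMap B C) = maximalIdeal (EGA4.Cpl C) := by
  rw [AdicCompletion.maximalIdeal_eq_map, AdicCompletion.maximalIdeal_eq_map, Ideal.map_map]
  have h1 : (cplMap B C).comp (algebraMap B (AdicCompletion (maximalIdeal B) B)) =
      (algebraMap C (AdicCompletion (maximalIdeal C) C)).comp (algebraMap B C) := by
    apply RingHom.ext
    intro a
    exact cplMap_of B C a
  rw [h1, ← Ideal.map_map, hm]

/-- a flat local homomorphism with `m_B C = m_C` and trivial residue field extension induces an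
isomorphism of completions -/
theorem cplMap_bijective [Module.Flat B C]
    (hm : (maximalIdeal B).map (algebraMap B C) = maximalIdeal C)
    (hres : Function.Surjective ((Ideal.Quotient.mk (maximalIdeal C)).comp (algebraMap B C))) :
    Function.Bijective (cplMap B C) := by
  constructor
  · letI : Algebra (EGA4.Cpl B) (EGA4.Cpl C) := (cplMap B C).toAlgebra
    haveI : Module.Flat (EGA4.Cpl B) (EGA4.Cpl C) := flat_cplMap B C
    haveI : IsLocalHom (algebraMap (EGA4.Cpl B) (EGA4.Cpl C)) := isLocalHom_cplMap B C
    haveI : Module.FaithfullyFlat (EGA4.Cpl B) (EGA4.Cpl C) :=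
      Module.FaithfullyFlat.of_flat_of_isLocalHom
    exact FaithfulSMul.algebraMap_injective (EGA4.Cpl B) (EGA4.Cpl C)
  · have hfgB : (maximalIdeal B).FG := IsNoetherian.noetherian _
    have hfgC : (maximalIdeal C).FG := IsNoetherian.noetherian _
    haveI : IsAdicComplete (maximalIdeal (EGA4.Cpl B)) (EGA4.Cpl B) := by
      rw [AdicCompletion.maximalIdeal_eq_map]
      exact AdicCompletion.isAdicComplete_self _ hfgB
    haveI : IsAdicComplete (maximalIdeal (EGA4.Cpl C)) (EGA4.Cpl C) := by
      rw [AdicCompletion.maximalIdeal_eq_map]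
      exact AdicCompletion.isAdicComplete_self _ hfgC
    haveI : IsHausdorff ((maximalIdeal (EGA4.Cpl B)).map (cplMap B C)) (EGA4.Cpl C) := by
      rw [map_cplMap_maximalIdeal B C hm]
      infer_instance
    refine surjective_of_mk_map_comp_surjective (I := maximalIdeal (EGA4.Cpl B)) (cplMap B C) ?_
    intro z
    obtain ⟨c', rfl⟩ := Ideal.Quotient.mk_surjective z
    obtain ⟨c, hc⟩ := Groth.Agent.Lib.Helper18.AdicHom.exists_sub_mem C (maximalIdeal C) c'
    obtain ⟨b, hb⟩ := hres (Ideal.Quotient.mk _ c)
    refine ⟨algebraMap B (EGA4.Cpl B) b, ?_⟩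
    rw [RingHom.comp_apply, cplMap_of, eq_comm, Ideal.Quotient.eq, map_cplMap_maximalIdeal B C hm,
      AdicCompletion.maximalIdeal_eq_map]
    have h2 : c - algebraMap B C b ∈ maximalIdeal C := by
      rw [← Ideal.Quotient.eq, ← hb]
      rfl
    have h3 : c' - algebraMap C (EGA4.Cpl C) (algebraMap B C b) =
        (c' - algebraMap C (EGA4.Cpl C) c) + algebraMap C (EGA4.Cpl C) (c - algebraMap B C b) := by
      rw [map_sub]; ring
    rw [h3]
    exact Ideal.add_mem _ hc (Ideal.mem_map_of_mem _ h2)

theorem nonempty_ringEquiv_cpl [Module.Flat B C]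
    (hm : (maximalIdeal B).map (algebraMap B C) = maximalIdeal C)
    (hres : Function.Surjective ((Ideal.Quotient.mk (maximalIdeal C)).comp (algebraMap B C))) :
    Nonempty (EGA4.Cpl B ≃+* EGA4.Cpl C) :=
  ⟨RingEquiv.ofBijective (cplMap B C) (cplMap_bijective B C hm hres)⟩

end

section loc

variable (B R : Type u) [CommRing B] [CommRing R] [IsNoetherianRing B] [IsNoetherianRing R]
  [IsLocalRing B] [Algebra B R] [Module.Flat B R] (n' : Ideal R) [n'.IsPrime]

/-- if `R = B + m_B R` and `n'` is a prime of `R` over `m_B`, then `B` and `R_{n'}` have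
isomorphic completions -/
theorem nonempty_ringEquiv_cpl_localization
    (h1 : n'.comap (algebraMap B R) = maximalIdeal B)
    (ha : ∀ x : R, ∃ b : B, x - algebraMap B R b ∈ (maximalIdeal B).map (algebraMap B R)) :
    Nonempty (EGA4.Cpl B ≃+* EGA4.Cpl (Localization.AtPrime n')) := by
  obtain ⟨J, hJ⟩ : ∃ J : Ideal R, J = (maximalIdeal B).map (algebraMap B R) := ⟨_, rfl⟩
  rw [← hJ] at ha
  have hJn : J ≤ n' := by
    rw [hJ, Ideal.map_le_iff_le_comap, h1]
  have hmem : ∀ b : B, algebraMap B R b ∈ n' ↔ b ∈ maximalIdeal B := by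
    intro b
    rw [← h1, Ideal.mem_comap]
  have hnJ : n' = J := by
    refine le_antisymm ?_ hJn
    intro x hx
    obtain ⟨b, hb⟩ := ha x
    have h3 : algebraMap B R b ∈ n' := by
      have := Ideal.sub_mem _ hx (hJn hb)
      rwa [sub_sub_cancel] at this
    have h4 : algebraMap B R b ∈ J := by
      rw [hJ]
      exact Ideal.mem_map_of_mem _ ((hmem b).mp h3)
    have := Ideal.add_mem _ hb h4
    rwa [sub_add_cancel] at this
  have hmC : (maximalIdeal B).map (algebraMap B (Localization.AtPrime n')) =
      maximalIdeal (Localization.AtPrime n') := by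
    rw [← Localization.AtPrime.map_eq_maximalIdeal, IsScalarTower.algebraMap_eq B R
      (Localization.AtPrime n'), ← Ideal.map_map, ← hJ, ← hnJ]
  haveI : IsLocalHom (algebraMap B (Localization.AtPrime n')) :=
    ((IsLocalRing.local_hom_TFAE (algebraMap B (Localization.AtPrime n'))).out 0 2).mpr hmC.le
  haveI : Module.Flat B (Localization.AtPrime n') := Module.Flat.trans B R _
  refine nonempty_ringEquiv_cpl B (Localization.AtPrime n') hmC ?_
  intro z
  obtain ⟨c, rfl⟩ := Ideal.Quotient.mk_surjective z
  obtain ⟨⟨x, s⟩, hxs⟩ := IsLocalization.surj n'.primeCompl c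
  obtain ⟨bx, hbx⟩ := ha x
  obtain ⟨bs, hbs⟩ := ha s.1
  have hbs' : bs ∉ maximalIdeal B := by
    intro h
    have h4 : algebraMap B R bs ∈ n' := (hmem bs).mpr h
    have := Ideal.add_mem _ (hJn hbs) h4
    rw [sub_add_cancel] at this
    exact s.2 this
  have hunit : IsUnit bs := by
    by_contra h
    exact hbs' ((IsLocalRing.mem_maximalIdeal bs).mpr h)
  obtain ⟨u, rfl⟩ := hunit
  refine ⟨bx * ((u⁻¹ : Bˣ) : B), ?_⟩
  rw [RingHom.comp_apply, Ideal.Quotient.eq]
  have hmapJ : ∀ y ∈ J, algebraMap R (Localization.AtPrime n') y ∈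
      maximalIdeal (Localization.AtPrime n') := by
    intro y hy
    rw [← Localization.AtPrime.map_eq_maximalIdeal]
    exact Ideal.mem_map_of_mem _ (hJn hy)
  have e1 := hmapJ _ hbx
  have e2 := hmapJ _ hbs
  rw [map_sub, ← IsScalarTower.algebraMap_apply] at e1 e2
  have hu : IsUnit (algebraMap B (Localization.AtPrime n') (u : B)) := (u.isUnit).map _
  have key : (algebraMap B (Localization.AtPrime n') (bx * ((u⁻¹ : Bˣ) : B)) - c) *
      algebraMap B (Localization.AtPrime n') (u : B) ∈
      maximalIdeal (Localization.AtPrime n') := by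
    have : (algebraMap B (Localization.AtPrime n') (bx * ((u⁻¹ : Bˣ) : B)) - c) *
        algebraMap B (Localization.AtPrime n') (u : B) =
        - (algebraMap R (Localization.AtPrime n') x - algebraMap B (Localization.AtPrime n') bx)
        + c * (algebraMap R (Localization.AtPrime n') s.1 -
            algebraMap B (Localization.AtPrime n') (u : B)) := by
      have h5 : algebraMap B (Localization.AtPrime n') (bx * ((u⁻¹ : Bˣ) : B)) *
          algebraMap B (Localization.AtPrime n') (u : B) =
          algebraMap B (Localization.AtPrime n') bx := by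
        rw [← map_mul, mul_assoc, Units.inv_mul, mul_one]
      have h6 : c * algebraMap R (Localization.AtPrime n') s.1 =
          algebraMap R (Localization.AtPrime n') x := hxs
      linear_combination h5 - h6
    rw [this]
    exact Ideal.add_mem _ (neg_mem e1) (Ideal.mul_mem_left _ _ e2)
  exact (Ideal.IsPrime.mem_or_mem (Ideal.IsMaximal.isPrime' _) key).resolve_right
    (fun h => (IsLocalRing.mem_maximalIdeal _).mp h hu)

end loc

end Groth.Agent.Lib.Helper18.CplIso
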