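import Mathlib
import Groth.Agent.Lib.Helper18.CatFlat

universe u

namespace Groth.Agent.Lib.Helper18.CatFlat

open IsLocalRing

theorem isEquidim_quotient_iff {R : Type u} [CommRing R] (I : Ideal R) :
    EGA4.IsEquidim (R ⧸ I) ↔
      ∀ P ∈ I.minimalPrimes, ringKrullDim (R ⧸ P) = ringKrullDim (R ⧸ I) := by
  have key : ∀ m : Ideal (R ⧸ I), I ≤ m.comap (Ideal.Quotient.mk I) →
      ringKrullDim ((R ⧸ I) ⧸ m) = ringKrullDim (R ⧸ m.comap (Ideal.Quotient.mk I)) := by
    intro m hm
    have hmap : (m.comap (Ideal.Quotient.mk I)).map (Ideal.Quotient.mk I) = m :=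
      Ideal.map_comap_of_surjective _ Ideal.Quotient.mk_surjective m
    rw [← ringKrullDim_eq_of_ringEquiv (DoubleQuot.quotQuotEquivQuotOfLE hm)]
    exact ringKrullDim_eq_of_ringEquiv (Ideal.quotEquivOfEq hmap.symm)
  have hle : ∀ m : Ideal (R ⧸ I), I ≤ m.comap (Ideal.Quotient.mk I) := by
    intro m x hx
    rw [Ideal.mem_comap, Ideal.Quotient.eq_zero_iff_mem.2 hx]
    exact Ideal.zero_mem _
  constructor
  · intro h P hP
    rw [Ideal.minimalPrimes_eq_comap] at hP
    obtain ⟨m, hm, rfl⟩ := hP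
    rw [← key m (hle m)]
    exact h m hm
  · intro h m hm
    rw [key m (hle m)]
    apply h
    rw [Ideal.minimalPrimes_eq_comap]
    exact ⟨m, hm, rfl⟩

section

variable (A B : Type u) [CommRing A] [CommRing B] [IsNoetherianRing A] [IsNoetherianRing B]
  [Algebra A B] [Module.Flat A B]

omit [IsNoetherianRing A] [IsNoetherianRing B] in
/-- minimal primes over `aB` contract to minimal primes over `a` -/
theorem under_mem_minimalPrimes (a : Ideal A) (P : Ideal B)
    (hP : P ∈ (a.map (algebraMap A B)).minimalPrimes) :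
    P.under A ∈ a.minimalPrimes ∧ P ∈ ((P.under A).map (algebraMap A B)).minimalPrimes := by
  have hPp : P.IsPrime := hP.1.1
  have hle : a ≤ P.under A := Ideal.map_le_iff_le_comap.1 hP.1.2
  refine ⟨⟨⟨Ideal.IsPrime.under A P, hle⟩, ?_⟩, ⟨⟨hPp, Ideal.map_comap_le⟩, ?_⟩⟩
  · rintro q₀ ⟨hq₀, haq₀⟩ hq₀q
    by_contra hne
    have hlt : q₀ < P.under A := lt_of_le_of_ne hq₀q (fun h => hne (h ▸ le_rfl))
    obtain ⟨Q, hQP, hQp, hQl⟩ := Algebra.HasGoingDown.exists_ideal_le_liesOver_of_lt P hlt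
    have hQu : Q.under A = q₀ := (hQl.over).symm
    have haQ : a.map (algebraMap A B) ≤ Q :=
      Ideal.map_le_iff_le_comap.2 (haq₀.trans (le_of_eq hQu.symm))
    have hPQ : P ≤ Q := hP.2 ⟨hQp, haQ⟩ hQP
    have : P = Q := le_antisymm hPQ hQP
    rw [this, hQu] at hne
    exact hne le_rfl
  · rintro P'' ⟨hP''p, hP''⟩ hP''P
    exact hP.2 ⟨hP''p, (Ideal.map_mono hle).trans hP''⟩ hP''P

variable [IsLocalRing A] [IsLocalRing B] [IsLocalHom (algebraMap A B)]

theorem isEquidim_quotient_map_iff (hcat : CAlg.IsCatenary B) (heq : EGA4.IsEquidim B)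
    (h0 : ringKrullDim (B ⧸ (maximalIdeal A).map (algebraMap A B)) = 0) (a : Ideal A) :
    EGA4.IsEquidim (B ⧸ a.map (algebraMap A B)) ↔ EGA4.IsEquidim (A ⧸ a) := by
  by_cases ha : a = ⊤
  · subst ha
    have h1 : EGA4.IsEquidim (A ⧸ (⊤ : Ideal A)) := by
      intro p hp
      have : Subsingleton (A ⧸ (⊤ : Ideal A)) := Ideal.Quotient.subsingleton_iff.2 rfl
      exact absurd (Subsingleton.elim p ⊤) hp.1.1.ne_top
    have h2 : EGA4.IsEquidim (B ⧸ (⊤ : Ideal A).map (algebraMap A B)) := by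
      intro p hp
      have : Subsingleton (B ⧸ (⊤ : Ideal A).map (algebraMap A B)) :=
        Ideal.Quotient.subsingleton_iff.2 (Ideal.map_top _)
      exact absurd (Subsingleton.elim p ⊤) hp.1.1.ne_top
    exact ⟨fun _ => h1, fun _ => h2⟩
  · -- F1
    have F1 : ∀ I : Ideal A, I ≠ ⊤ →
        ringKrullDim (B ⧸ I.map (algebraMap A B)) = ringKrullDim (A ⧸ I) := by
      intro I hI
      rw [ringKrullDim_quotient_map_eq A B I hI, h0, add_zero]
    -- F2
    have F2 : ∀ (q : Ideal A) [q.IsPrime], ∀ P ∈ (q.map (algebraMap A B)).minimalPrimes,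
        ringKrullDim (B ⧸ P) = ringKrullDim (A ⧸ q) := by
      intro q hq P hP
      rw [← F1 q hq.ne_top]
      exact (isEquidim_quotient_iff _).1 (isEquidim_quotient_map A B hcat heq q) P hP
    rw [isEquidim_quotient_iff, isEquidim_quotient_iff, F1 a ha]
    constructor
    · intro h q hq
      have hqp : q.IsPrime := hq.1.1
      have hne : q.map (algebraMap A B) ≠ ⊤ := by
        intro htop
        have hle : q.map (algebraMap A B) ≤ maximalIdeal B :=
          (Ideal.map_mono (IsLocalRing.le_maximalIdeal hqp.ne_top)).trans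
            (IsLocalRing.map_maximalIdeal_le (algebraMap A B))
        rw [htop] at hle
        exact (maximalIdeal.isMaximal B).ne_top (top_le_iff.1 hle)
      obtain ⟨P, hP⟩ := Ideal.nonempty_minimalPrimes hne
      have hPp : P.IsPrime := hP.1.1
      obtain ⟨hPu, -⟩ := under_eq_and_height_eq_of_mem_minimalPrimes A B q P hP
      have hPa : P ∈ (a.map (algebraMap A B)).minimalPrimes := by
        refine ⟨⟨hPp, (Ideal.map_mono hq.1.2).trans hP.1.2⟩, ?_⟩
        rintro P'' ⟨hP''p, hP''⟩ hP''P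
        have h1 : a ≤ P''.under A := Ideal.map_le_iff_le_comap.1 hP''
        have h2 : P''.under A ≤ q := hPu ▸ Ideal.comap_mono hP''P
        have h3 : q ≤ P''.under A := hq.2 ⟨Ideal.IsPrime.under A P'', h1⟩ h2
        exact hP.2 ⟨hP''p, Ideal.map_le_iff_le_comap.2 h3⟩ hP''P
      rw [← F2 q P hP]
      exact h P hPa
    · intro h P hP
      obtain ⟨h1, h2⟩ := under_mem_minimalPrimes A B a P hP
      have : (P.under A).IsPrime := h1.1.1
      rw [F2 (P.under A) P h2]
      exact h _ h1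

end

end Groth.Agent.Lib.Helper18.CatFlat
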