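import Mathlib
import Groth.Prelude.Def_EGA4b
import Groth.Agent.Lib.Helper18.CMOpen
import Groth.Agent.Lib.Helper18.CatFlat2
import Groth.Agent.Lib.Helper18.CplQuot
import Groth.Agent.Lib.Helper18.FormEq
import Groth.Agent.Lib.Helper18.UCat
import Groth.Agent.Lib.Helper18.GenAdd4
import Groth.Agent.Lib.Helper1.Catenary
import Groth.Agent.Lib.Helper18.CplFlat
import Groth.Agent.Lib.Helper18.FibBridge2
import Groth.Agent.Lib.Helper18.CMCat
import Groth.Agent.Lib.Helper18.SkMod

set_option autoImplicit false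
set_option linter.unusedSectionVars false
set_option linter.style.haveILetI false
universe u
open IsLocalRing

namespace Groth.Agent.Lib.Helper18.FormEquid

open Groth.Agent.Lib.Helper18.CatHt Groth.Agent.Lib.Helper18.CatFlat

section complete

variable (R : Type u) [CommRing R] [IsLocalRing R] [IsNoetherianRing R]

instance isAdicComplete_cpl : IsAdicComplete (maximalIdeal (EGA4.Cpl R)) (EGA4.Cpl R) := by
  have hfg : (maximalIdeal R).FG := IsNoetherian.noetherian _
  rw [AdicCompletion.maximalIdeal_eq_map]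
  exact AdicCompletion.isAdicComplete_self _ hfg

/-- L1: a complete Noetherian local ring is catenary -/
theorem isCatenary_of_isAdicComplete [IsAdicComplete (maximalIdeal R) R] : CAlg.IsCatenary R := by
  obtain ⟨S, _, hS, f, hf⟩ := CST.exists_regular_presentation R
  haveI := CMOpen.isCohenMacaulayRing_of_isRegularLocalRing S
  have hcatS := UCat.isCatenary_of_isCohenMacaulayRing S
  exact Groth.Agent.Lib.Helper1.Catenary.isCatenary_of_surjective f hf hcatS

theorem isCatenary_cpl : CAlg.IsCatenary (EGA4.Cpl R) :=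
  isCatenary_of_isAdicComplete (EGA4.Cpl R)

end complete

section loc

variable (R : Type u) [CommRing R] [IsLocalRing R] [IsNoetherianRing R]

/-- L2: localizations of an equidimensional catenary local ring are equidimensional -/
theorem isEquidim_localization (hcat : CAlg.IsCatenary R) (heq : EGA4.IsEquidim R)
    (Q : Ideal R) [hQ : Q.IsPrime] : EGA4.IsEquidim (Localization.AtPrime Q) := by
  intro P' hP'
  have hP'p : P'.IsPrime := hP'.1.1
  -- the contraction is a minimal prime of R
  have hmin : P'.comap (algebraMap R (Localization.AtPrime Q)) ∈ minimalPrimes R := by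
    have h1 := IsLocalization.minimalPrimes_map Q.primeCompl (Localization.AtPrime Q) (⊥ : Ideal R)
    rw [Ideal.map_bot] at h1
    have h2 : P' ∈ (⊥ : Ideal (Localization.AtPrime Q)).minimalPrimes := hP'
    rw [h1] at h2
    exact h2
  obtain ⟨P, hP⟩ : ∃ P : Ideal R, P = P'.comap (algebraMap R (Localization.AtPrime Q)) := ⟨_, rfl⟩
  rw [← hP] at hmin
  haveI hPp : P.IsPrime := hmin.1.1
  have hPQ : P ≤ Q := by
    rw [hP]
    intro x hx
    by_contra hxQ
    have hu : IsUnit (algebraMap R (Localization.AtPrime Q) x) :=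
      IsLocalization.map_units (Localization.AtPrime Q) (⟨x, hxQ⟩ : Q.primeCompl)
    exact hP'p.ne_top (Ideal.eq_top_of_isUnit_mem _ hx hu)
  have hP'eq : P' = P.map (algebraMap R (Localization.AtPrime Q)) := by
    rw [hP]
    exact (IsLocalization.map_under Q.primeCompl (Localization.AtPrime Q) P').symm
  rw [hP'eq, GenAdd.ringKrullDim_localization_quotient_map P Q hPQ,
    IsLocalization.AtPrime.ringKrullDim_eq_height Q (Localization.AtPrime Q)]
  -- heights
  haveI hprime : (Q.map (Ideal.Quotient.mk P)).IsPrime :=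
    Ideal.map_isPrime_of_surjective Ideal.Quotient.mk_surjective (by rwa [Ideal.mk_ker])
  haveI : IsLocalRing (R ⧸ P) :=
    Groth.Agent.Lib.Helper21.isLocalRing_quotient_of_le_maximalIdeal
      (IsLocalRing.le_maximalIdeal hPp.ne_top)
  have hcatP : CAlg.IsCatenary (R ⧸ P) :=
    Groth.Agent.Lib.Helper1.Catenary.isCatenary_quotient R P hcat
  have heqP : EGA4.IsEquidim (R ⧸ P) := isEquidim_of_isDomain (R ⧸ P)
  have h1 := height_add_ringKrullDim_quotient (R ⧸ P) hcatP heqP (Q.map (Ideal.Quotient.mk P))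
  have h2 := height_add_ringKrullDim_quotient R hcat heq Q
  have h3 : ringKrullDim ((R ⧸ P) ⧸ Q.map (Ideal.Quotient.mk P)) = ringKrullDim (R ⧸ Q) :=
    ringKrullDim_eq_of_ringEquiv (DoubleQuot.quotQuotEquivQuotOfLE hPQ)
  rw [h3, heq P hmin, ← h2] at h1
  haveI : IsLocalRing (R ⧸ Q) :=
    Groth.Agent.Lib.Helper21.isLocalRing_quotient_of_le_maximalIdeal
      (IsLocalRing.le_maximalIdeal hQ.ne_top)
  obtain ⟨n, hn⟩ := Groth.Agent.Lib.Helper18.SerreReg.exists_ringKrullDim_eq_nat (R ⧸ Q)
  rw [hn] at h1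
  exact withBot_enat_add_right_cancel (a := (n : ℕ∞)) (ENat.natCast_ne_top n) h1

end loc

section lemmaE

variable (B : Type u) [CommRing B] [IsLocalRing B] [IsNoetherianRing B]

/-- the contraction of a minimal prime of the completion is a minimal prime -/
theorem comap_mem_minimalPrimes_of_flat {A C : Type u} [CommRing A] [CommRing C] [Algebra A C]
    [IsNoetherianRing A] [IsNoetherianRing C] [Module.Flat A C]
    (Q' : Ideal C) (hQ' : Q' ∈ minimalPrimes C) :
    Q'.comap (algebraMap A C) ∈ minimalPrimes A := by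
  haveI : Q'.IsPrime := hQ'.1.1
  have h1 := Groth.Agent.Lib.Helper18.RkFlat.height_eq_add_fibLocRing A C Q'
  rw [Ideal.height_eq_zero_iff.2 hQ'] at h1
  have h2 := (Groth.Agent.Lib.Helper18.SkMod.withBot_add_eq_zero h1.symm).1
  have h3 : (Q'.comap (algebraMap A C)).height = 0 := by exact_mod_cast h2
  exact Ideal.height_eq_zero_iff.1 h3

/-- L3 (Lemma E): a formally catenary equidimensional local ring is formally equidimensional -/
theorem isFormallyEquidim_of_isFormallyCatenary (hfc : EGA4.IsFormallyCatenary B)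
    (heq : EGA4.IsEquidim B) : EGA4.IsFormallyEquidim B := by
  intro Q' hQ'
  haveI hQ'p : Q'.IsPrime := hQ'.1.1
  obtain ⟨q, hq⟩ : ∃ q : Ideal B, q = Q'.comap (algebraMap B (EGA4.Cpl B)) := ⟨_, rfl⟩
  have hqmin : q ∈ minimalPrimes B := by
    rw [hq]; exact comap_mem_minimalPrimes_of_flat Q' hQ'
  haveI hqp : q.IsPrime := hqmin.1.1
  have hs : Function.Surjective (algebraMap B (B ⧸ q)) := Ideal.Quotient.mk_surjective
  haveI hloc := CplQuot.isLocalHom_of_surjective B (B ⧸ q) hs
  obtain ⟨e⟩ := CplQuot.nonempty_ringEquiv B (B ⧸ q) hs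
  have hker : RingHom.ker (algebraMap B (B ⧸ q)) = q := Ideal.mk_ker
  rw [hker] at e
  have h2 : EGA4.IsEquidim (EGA4.Cpl B ⧸ q.map (algebraMap B (EGA4.Cpl B))) :=
    FormEq.isEquidim_of_ringEquiv e.symm (hfc q)
  have hle : q.map (algebraMap B (EGA4.Cpl B)) ≤ Q' := by
    rw [hq]; exact Ideal.map_comap_le
  have hQ'min : Q' ∈ (q.map (algebraMap B (EGA4.Cpl B))).minimalPrimes :=
    ⟨⟨hQ'p, hle⟩, fun J hJ hJQ' => hQ'.2 ⟨hJ.1, bot_le⟩ hJQ'⟩
  have hQ''min : Q'.map (Ideal.Quotient.mk (q.map (algebraMap B (EGA4.Cpl B)))) ∈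
      minimalPrimes (EGA4.Cpl B ⧸ q.map (algebraMap B (EGA4.Cpl B))) := by
    have h3 := Ideal.minimalPrimes_map_of_surjective
      (f := Ideal.Quotient.mk (q.map (algebraMap B (EGA4.Cpl B)))) Ideal.Quotient.mk_surjective
      (⊥ : Ideal (EGA4.Cpl B))
    rw [Ideal.map_bot, bot_sup_eq, Ideal.mk_ker] at h3
    change _ ∈ (⊥ : Ideal _).minimalPrimes
    rw [h3]
    exact ⟨Q', hQ'min, rfl⟩
  have h4 := h2 _ hQ''min
  rw [ringKrullDim_eq_of_ringEquiv (DoubleQuot.quotQuotEquivQuotOfLE hle),
    ringKrullDim_eq_of_ringEquiv e, FormEq.ringKrullDim_cpl (B ⧸ q), heq q hqmin,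
    ← FormEq.ringKrullDim_cpl B] at h4
  exact h4

end lemmaE

section quotCM

/-- S2635 as a library lemma: quotients of Cohen–Macaulay local rings are formally catenary -/
theorem isFormallyCatenary_of_surjective (A : Type u) [CommRing A]
    [LocCoh.IsCohenMacaulayLocalRing A]
    (B : Type u) [CommRing B] [IsNoetherianRing B] [IsLocalRing B] [Algebra A B]
    (hs : Function.Surjective (algebraMap A B)) : EGA4.IsFormallyCatenary B := by
  intro p hp
  have hA : LocCoh.IsCohenMacaulayModule A A :=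
    LocCoh.IsCohenMacaulayLocalRing.supportDim_eq_depth
  have hs' : Function.Surjective (algebraMap A (B ⧸ p)) := by
    intro x
    obtain ⟨b, rfl⟩ := Ideal.Quotient.mk_surjective x
    obtain ⟨a, rfl⟩ := hs b
    exact ⟨a, rfl⟩
  have hloc := Groth.Agent.Lib.Helper18.CplQuot.isLocalHom_of_surjective A (B ⧸ p) hs'
  obtain ⟨e⟩ := Groth.Agent.Lib.Helper18.CplQuot.nonempty_ringEquiv A (B ⧸ p) hs'
  have hP : (RingHom.ker (algebraMap A (B ⧸ p))).IsPrime := RingHom.ker_isPrime _
  have hCM := Groth.Agent.Lib.Helper18.FormEq.isCohenMacaulayModule_cpl A hA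
  have hcat := Groth.Agent.Lib.Helper18.CMCat.isCatenary_of_CM (EGA4.Cpl A) hCM
  have heq := Groth.Agent.Lib.Helper18.CMCat.isEquidim_of_CM (EGA4.Cpl A) hCM
  have h1 := Groth.Agent.Lib.Helper18.CatFlat.isEquidim_quotient_map A (EGA4.Cpl A) hcat heq
    (RingHom.ker (algebraMap A (B ⧸ p)))
  exact Groth.Agent.Lib.Helper18.FormEq.isEquidim_of_ringEquiv e h1

/-- the local rings of a quotient of a Cohen–Macaulay ring are formally catenary -/
theorem isFormallyCatenary_localization_of_surjective {S D : Type u} [CommRing S]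
    [hS : LocCoh.IsCohenMacaulayRing S] [CommRing D] [IsNoetherianRing D]
    (f : S →+* D) (hf : Function.Surjective f) (Q : Ideal D) [hQ : Q.IsPrime] :
    EGA4.IsFormallyCatenary (Localization.AtPrime Q) := by
  haveI : (Q.comap f).IsPrime := Ideal.comap_isPrime f Q
  haveI := hS.isCohenMacaulayLocalRing_localization (Q.comap f)
  haveI : IsNoetherianRing (Localization.AtPrime Q) :=
    IsLocalization.isNoetherianRing Q.primeCompl _ inferInstance
  letI : Algebra (Localization.AtPrime (Q.comap f)) (Localization.AtPrime Q) :=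
    (Localization.localRingHom (Q.comap f) Q f rfl).toAlgebra
  apply isFormallyCatenary_of_surjective (Localization.AtPrime (Q.comap f))
  intro y
  obtain ⟨⟨d, t⟩, rfl⟩ := IsLocalization.mk'_surjective Q.primeCompl y
  obtain ⟨s, rfl⟩ := hf d
  obtain ⟨t', ht'⟩ := hf t.1
  have ht'mem : t' ∈ (Q.comap f).primeCompl := by
    intro h
    apply t.2
    rw [← ht']
    exact h
  refine ⟨IsLocalization.mk' _ s (⟨t', ht'mem⟩ : (Q.comap f).primeCompl), ?_⟩
  change Localization.localRingHom (Q.comap f) Q f rfl _ = _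
  rw [Localization.localRingHom_mk']
  congr 1
  exact Subtype.ext ht'

end quotCM

section L6

variable (D : Type u) [CommRing D] [IsLocalRing D] [IsNoetherianRing D]

theorem isFormallyEquidim_localization_comap (h : EGA4.IsFormallyEquidim D)
    (Q : Ideal (EGA4.Cpl D)) [hQ : Q.IsPrime] :
    EGA4.IsFormallyEquidim (Localization.AtPrime (Q.comap (algebraMap D (EGA4.Cpl D)))) := by
  have hcat : CAlg.IsCatenary (EGA4.Cpl D) := isCatenary_cpl D
  have heq : EGA4.IsEquidim (EGA4.Cpl D) := h
  haveI : IsNoetherianRing (Localization.AtPrime Q) :=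
    IsLocalization.isNoetherianRing Q.primeCompl _ inferInstance
  haveI : IsNoetherianRing (Localization.AtPrime (Q.comap (algebraMap D (EGA4.Cpl D)))) :=
    IsLocalization.isNoetherianRing (Q.comap (algebraMap D (EGA4.Cpl D))).primeCompl _ inferInstance
  have hBeq : EGA4.IsEquidim (Localization.AtPrime Q) :=
    isEquidim_localization (EGA4.Cpl D) hcat heq Q
  obtain ⟨S, _, hS, f, hf⟩ := CST.exists_regular_presentation (EGA4.Cpl D)
  haveI := CMOpen.isCohenMacaulayRing_of_isRegularLocalRing S
  have hBfc : EGA4.IsFormallyCatenary (Localization.AtPrime Q) :=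
    isFormallyCatenary_localization_of_surjective f hf Q
  have hBfe : EGA4.IsFormallyEquidim (Localization.AtPrime Q) :=
    isFormallyEquidim_of_isFormallyCatenary _ hBfc hBeq
  have hlo : Q.LiesOver (Q.comap (algebraMap D (EGA4.Cpl D))) := ⟨rfl⟩
  letI := Localization.AtPrime.algebraOfLiesOver (Q.comap (algebraMap D (EGA4.Cpl D))) Q
  haveI : IsLocalHom (algebraMap (Localization.AtPrime (Q.comap (algebraMap D (EGA4.Cpl D))))
      (Localization.AtPrime Q)) :=
    Localization.isLocalHom_localRingHom (Q.comap (algebraMap D (EGA4.Cpl D))) Q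
      (algebraMap D (EGA4.Cpl D)) Ideal.LiesOver.over
  haveI : Module.Flat (Localization.AtPrime (Q.comap (algebraMap D (EGA4.Cpl D))))
      (Localization.AtPrime Q) := inferInstance
  letI : Algebra (EGA4.Cpl (Localization.AtPrime (Q.comap (algebraMap D (EGA4.Cpl D)))))
      (EGA4.Cpl (Localization.AtPrime Q)) :=
    (CplFlat.cplMap (Localization.AtPrime (Q.comap (algebraMap D (EGA4.Cpl D))))
      (Localization.AtPrime Q)).toAlgebra
  haveI : Module.Flat (EGA4.Cpl (Localization.AtPrime (Q.comap (algebraMap D (EGA4.Cpl D)))))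
      (EGA4.Cpl (Localization.AtPrime Q)) :=
    CplFlat.flat_cplMap (Localization.AtPrime (Q.comap (algebraMap D (EGA4.Cpl D))))
      (Localization.AtPrime Q)
  haveI : IsLocalHom (algebraMap (EGA4.Cpl (Localization.AtPrime (Q.comap (algebraMap D (EGA4.Cpl D)))))
      (EGA4.Cpl (Localization.AtPrime Q))) :=
    CplFlat.isLocalHom_cplMap (Localization.AtPrime (Q.comap (algebraMap D (EGA4.Cpl D))))
      (Localization.AtPrime Q)
  exact CatFlat.isEquidim_of_flat (EGA4.Cpl (Localization.AtPrime (Q.comap (algebraMap D (EGA4.Cpl D)))))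
    (EGA4.Cpl (Localization.AtPrime Q)) (isCatenary_cpl (Localization.AtPrime Q)) hBfe

/-- L6: localizations of formally equidimensional local rings are formally equidimensional -/
theorem isFormallyEquidim_localization (h : EGA4.IsFormallyEquidim D) (q : Ideal D)
    [hq : q.IsPrime] : EGA4.IsFormallyEquidim (Localization.AtPrime q) := by
  obtain ⟨Q, hQ⟩ := PrimeSpectrum.comap_surjective_of_faithfullyFlat (A := D) (B := EGA4.Cpl D)
    ⟨q, hq⟩
  have hQq : Q.asIdeal.comap (algebraMap D (EGA4.Cpl D)) = q :=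
    congrArg PrimeSpectrum.asIdeal hQ
  subst hQq
  exact isFormallyEquidim_localization_comap D h Q.asIdeal

end L6

end Groth.Agent.Lib.Helper18.FormEquid
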