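import Mathlib
import Groth.Prelude.Def_EGA4b
import Groth.Agent.Lib.Helper18.FormEquid1
import Groth.Agent.Lib.Helper18.CplIso

set_option autoImplicit false
set_option linter.unusedSectionVars false
set_option linter.style.haveILetI false
universe u
open IsLocalRing

namespace Groth.Agent.Lib.Helper18.FormEquid

open Groth.Agent.Lib.Helper18.CatHt Groth.Agent.Lib.Helper18.CatFlat

section iso

variable {R R' : Type u} [CommRing R] [CommRing R'] [IsLocalRing R] [IsLocalRing R']
  [IsNoetherianRing R] [IsNoetherianRing R']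

/-- T0: formal equidimensionality is invariant under ring isomorphisms -/
theorem isFormallyEquidim_of_ringEquiv (e : R ≃+* R') (h : EGA4.IsFormallyEquidim R) :
    EGA4.IsFormallyEquidim R' := by
  letI : Algebra R R' := (e : R →+* R').toAlgebra
  haveI : IsLocalHom (algebraMap R R') := by
    refine ⟨fun a ha => ?_⟩
    have h1 := ha.map (e.symm : R' →+* R)
    have h2 : (e.symm : R' →+* R) (algebraMap R R' a) = a := e.symm_apply_apply a
    rwa [h2] at h1
  haveI : Module.Flat R R' := by
    apply Module.Flat.of_linearEquiv (R := R) (M := R) (N := R')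
    exact { e.symm.toAddEquiv with
      map_smul' := fun r x => by
        change e.symm (algebraMap R R' r * x) = r * e.symm x
        rw [map_mul]
        congr 1
        exact e.symm_apply_apply r }
  have hm : (maximalIdeal R).map (algebraMap R R') = maximalIdeal R' := by
    apply le_antisymm
    · exact IsLocalRing.map_maximalIdeal_le (algebraMap R R')
    · intro x hx
      have h1 : e.symm x ∈ maximalIdeal R := by
        rw [IsLocalRing.mem_maximalIdeal] at hx ⊢
        intro hu
        apply hx
        have h1 := hu.map (e : R →+* R')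
        have h2 : (e : R →+* R') (e.symm x) = x := e.apply_symm_apply x
        rwa [h2] at h1
      have h2 := Ideal.mem_map_of_mem (algebraMap R R') h1
      have h3 : algebraMap R R' (e.symm x) = x := e.apply_symm_apply x
      rwa [h3] at h2
  have hres : Function.Surjective ((Ideal.Quotient.mk (maximalIdeal R')).comp (algebraMap R R')) := by
    intro y
    obtain ⟨x, rfl⟩ := Ideal.Quotient.mk_surjective y
    exact ⟨e.symm x, by
      rw [RingHom.comp_apply]
      congr 1
      exact e.apply_symm_apply x⟩
  have hbij := CplIso.cplMap_bijective R R' hm hres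
  exact FormEq.isEquidim_of_ringEquiv (RingEquiv.ofBijective (CplFlat.cplMap R R') hbij) h

end iso

section basics

variable (R : Type u) [CommRing R] [IsLocalRing R] [IsNoetherianRing R]

/-- F1 (second part of S2632) -/
theorem isEquidim_quotient_iff_isFormallyEquidim (h : EGA4.IsFormallyEquidim R) (a : Ideal R)
    [Nontrivial (R ⧸ a)] : EGA4.IsEquidim (R ⧸ a) ↔ EGA4.IsFormallyEquidim (R ⧸ a) := by
  have hcat : CAlg.IsCatenary (EGA4.Cpl R) := isCatenary_cpl R
  have heq : EGA4.IsEquidim (EGA4.Cpl R) := h
  have h0 : ringKrullDim (EGA4.FibRing R (EGA4.Cpl R)) = 0 := by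
    have hm : EGA4.mB R (EGA4.Cpl R) = maximalIdeal (EGA4.Cpl R) :=
      (AdicCompletion.maximalIdeal_eq_map (R := R)).symm
    unfold EGA4.FibRing
    rw [hm]
    exact ringKrullDim_eq_zero_of_field (ResidueField (EGA4.Cpl R))
  have h1 := CatFlat.isEquidim_quotient_map_iff R (EGA4.Cpl R) hcat heq h0 a
  have hs : Function.Surjective (algebraMap R (R ⧸ a)) := Ideal.Quotient.mk_surjective
  haveI hloc := CplQuot.isLocalHom_of_surjective R (R ⧸ a) hs
  obtain ⟨e⟩ := CplQuot.nonempty_ringEquiv R (R ⧸ a) hs
  have hker : RingHom.ker (algebraMap R (R ⧸ a)) = a := Ideal.mk_ker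
  rw [hker] at e
  rw [← h1]
  exact ⟨fun h2 => FormEq.isEquidim_of_ringEquiv e h2,
    fun h2 => FormEq.isEquidim_of_ringEquiv e.symm h2⟩

/-- formally equidimensional ⇒ catenary and equidimensional -/
theorem isCatenary_of_isFormallyEquidim (h : EGA4.IsFormallyEquidim R) : CAlg.IsCatenary R :=
  CatFlat.isCatenary_of_flat R (EGA4.Cpl R) (isCatenary_cpl R) h

theorem isEquidim_of_isFormallyEquidim (h : EGA4.IsFormallyEquidim R) : EGA4.IsEquidim R :=
  CatFlat.isEquidim_of_flat R (EGA4.Cpl R) (isCatenary_cpl R) h

/-- formally equidimensional ⇒ formally catenary -/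
theorem isFormallyCatenary_of_isFormallyEquidim (h : EGA4.IsFormallyEquidim R) :
    EGA4.IsFormallyCatenary R := by
  intro p hp
  exact (isEquidim_quotient_iff_isFormallyEquidim R h p).mp (isEquidim_of_isDomain (R ⧸ p))

/-- formally catenary ⇒ catenary -/
theorem isCatenary_of_isFormallyCatenary (h : EGA4.IsFormallyCatenary R) : CAlg.IsCatenary R := by
  rw [Groth.Agent.Lib.Helper1.Catenary.isCatenary_iff_forall_quotient_minimalPrimes]
  intro p hp
  haveI : p.IsPrime := hp.1.1
  exact isCatenary_of_isFormallyEquidim (R ⧸ p) (h p)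

/-- formally equidimensional domains: `R ⧸ ⊥` -/
theorem isFormallyEquidim_of_isFormallyCatenary_of_isDomain [IsDomain R]
    (h : EGA4.IsFormallyCatenary R) : EGA4.IsFormallyEquidim R := by
  haveI : (⊥ : Ideal R).IsPrime := Ideal.isPrime_bot
  exact isFormallyEquidim_of_ringEquiv (RingEquiv.quotientBot R) (h ⊥)

end basics

section surj

variable {R₁ R₂ : Type u} [CommRing R₁] [CommRing R₂] [IsLocalRing R₁] [IsLocalRing R₂]
  [IsNoetherianRing R₁] [IsNoetherianRing R₂]

/-- T2: formal catenarity passes to quotients -/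
theorem isFormallyCatenary_of_surjective' (φ : R₁ →+* R₂) (hφ : Function.Surjective φ)
    (h : EGA4.IsFormallyCatenary R₁) : EGA4.IsFormallyCatenary R₂ := by
  intro P₂ hP₂
  have hg : Function.Surjective ((Ideal.Quotient.mk P₂).comp φ) :=
    Ideal.Quotient.mk_surjective.comp hφ
  haveI : (RingHom.ker ((Ideal.Quotient.mk P₂).comp φ)).IsPrime := RingHom.ker_isPrime _
  exact isFormallyEquidim_of_ringEquiv (RingHom.quotientKerEquivOfSurjective hg) (h _)

end surj

section slemma

/-- S-lemma: surjectivity of a map out of a localization at a prime -/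
theorem localization_lift_surjective {C R : Type u} [CommRing C] [CommRing R] (𝔔 : Ideal C)
    [𝔔.IsPrime] (g : C →+* R) (hunit : ∀ s : 𝔔.primeCompl, IsUnit (g s))
    (hgen : ∀ r : R, ∃ (a : C) (s : C), s ∉ 𝔔 ∧ r * g s = g a) :
    Function.Surjective
      (IsLocalization.lift (M := 𝔔.primeCompl) (S := Localization.AtPrime 𝔔) hunit) := by
  intro r
  obtain ⟨a, s, hs, hrs⟩ := hgen r
  refine ⟨IsLocalization.mk' (Localization.AtPrime 𝔔) a (⟨s, hs⟩ : 𝔔.primeCompl), ?_⟩
  have hu : IsUnit (g s) := hunit ⟨s, hs⟩
  apply hu.mul_right_cancel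
  rw [hrs]
  have h1 : IsLocalization.lift (M := 𝔔.primeCompl) (S := Localization.AtPrime 𝔔) hunit
      (algebraMap C (Localization.AtPrime 𝔔) s) = g s := IsLocalization.lift_eq hunit s
  rw [← h1, ← map_mul, IsLocalization.mk'_spec, IsLocalization.lift_eq]

end slemma

section P0

variable (A : Type u) [CommRing A] [IsLocalRing A] [IsNoetherianRing A]

/-- P0: localizations of formally catenary local rings are formally catenary -/
theorem isFormallyCatenary_localization (h : EGA4.IsFormallyCatenary A) (q : Ideal A)
    [hq : q.IsPrime] : EGA4.IsFormallyCatenary (Localization.AtPrime q) := by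
  haveI : IsNoetherianRing (Localization.AtPrime q) :=
    IsLocalization.isNoetherianRing q.primeCompl _ inferInstance
  intro P' hP'
  obtain ⟨p, hp⟩ : ∃ p : Ideal A, p = P'.comap (algebraMap A (Localization.AtPrime q)) := ⟨_, rfl⟩
  haveI hpp : p.IsPrime := by rw [hp]; exact Ideal.comap_isPrime _ _
  have hpq : p ≤ q := by
    rw [hp]
    intro x hx
    by_contra hxq
    have hu : IsUnit (algebraMap A (Localization.AtPrime q) x) :=
      IsLocalization.map_units (Localization.AtPrime q) (⟨x, hxq⟩ : q.primeCompl)
    exact hP'.ne_top (Ideal.eq_top_of_isUnit_mem _ hx hu)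
  haveI hprime : (q.map (Ideal.Quotient.mk p)).IsPrime :=
    Ideal.map_isPrime_of_surjective Ideal.Quotient.mk_surjective (by rwa [Ideal.mk_ker])
  have hG : EGA4.IsFormallyEquidim (Localization.AtPrime (q.map (Ideal.Quotient.mk p))) :=
    isFormallyEquidim_localization (A ⧸ p) (h p) _
  haveI : IsNoetherianRing (Localization.AtPrime (q.map (Ideal.Quotient.mk p))) :=
    IsLocalization.isNoetherianRing (q.map (Ideal.Quotient.mk p)).primeCompl _ inferInstance
  have hGfc := isFormallyCatenary_of_isFormallyEquidim _ hG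
  -- the surjection
  let g : A ⧸ p →+* Localization.AtPrime q ⧸ P' :=
    Ideal.Quotient.lift p ((Ideal.Quotient.mk P').comp (algebraMap A (Localization.AtPrime q)))
      (fun a ha => by
        rw [RingHom.comp_apply, Ideal.Quotient.eq_zero_iff_mem]
        rw [hp] at ha
        exact ha)
  have hcomapq : (q.map (Ideal.Quotient.mk p)).comap (Ideal.Quotient.mk p) = q := by
    rw [Ideal.comap_map_of_surjective _ Ideal.Quotient.mk_surjective, ← RingHom.ker_eq_comap_bot,
      Ideal.mk_ker]
    exact sup_eq_left.mpr hpq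
  have hunit : ∀ s : (q.map (Ideal.Quotient.mk p)).primeCompl, IsUnit (g s) := by
    rintro ⟨s, hs⟩
    obtain ⟨t, rfl⟩ := Ideal.Quotient.mk_surjective s
    have htq : t ∉ q := by
      intro htq
      exact hs (Ideal.mem_map_of_mem _ htq)
    have hu : IsUnit (algebraMap A (Localization.AtPrime q) t) :=
      IsLocalization.map_units (Localization.AtPrime q) (⟨t, htq⟩ : q.primeCompl)
    exact hu.map (Ideal.Quotient.mk P')
  have hsurj := localization_lift_surjective (q.map (Ideal.Quotient.mk p)) g hunit (by
    intro r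
    obtain ⟨r', rfl⟩ := Ideal.Quotient.mk_surjective r
    obtain ⟨⟨a, s⟩, rfl⟩ := IsLocalization.mk'_surjective q.primeCompl r'
    refine ⟨Ideal.Quotient.mk p a, Ideal.Quotient.mk p s.1, ?_, ?_⟩
    · intro hmem
      have : s.1 ∈ (q.map (Ideal.Quotient.mk p)).comap (Ideal.Quotient.mk p) := hmem
      rw [hcomapq] at this
      exact s.2 this
    · change Ideal.Quotient.mk P' _ * Ideal.Quotient.mk P' (algebraMap A _ s.1) =
        Ideal.Quotient.mk P' (algebraMap A _ a)
      rw [← map_mul, IsLocalization.mk'_spec])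
  have hfc := isFormallyCatenary_of_surjective' _ hsurj hGfc
  haveI : IsDomain (Localization.AtPrime q ⧸ P') := Ideal.Quotient.isDomain P'
  exact isFormallyEquidim_of_isFormallyCatenary_of_isDomain _ hfc

end P0

end Groth.Agent.Lib.Helper18.FormEquid
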