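import Mathlib
import Groth.Prelude.Def_EGA4b
import Groth.Agent.Lib.Helper18.FormEquid2
import Groth.Agent.Lib.Helper18.AdicHom

set_option autoImplicit false
set_option linter.unusedSectionVars false
set_option linter.style.haveILetI false
universe u
open IsLocalRing Polynomial

namespace Groth.Agent.Lib.Helper18.FormEquid

attribute [local instance] Polynomial.algebra

section poly

variable (A : Type u) [CommRing A] [IsLocalRing A] [IsNoetherianRing A]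

instance flat_poly_cpl : Module.Flat A[X] (EGA4.Cpl A)[X] :=
  Module.Flat.isBaseChange A A[X] (EGA4.Cpl A) (EGA4.Cpl A)[X]
    (Algebra.IsPushout.out (R := A) (S := A[X]) (R' := EGA4.Cpl A) (S' := (EGA4.Cpl A)[X]))

instance faithfullyFlat_poly_cpl : Module.FaithfullyFlat A[X] (EGA4.Cpl A)[X] :=
  Module.FaithfullyFlat.of_linearEquiv (R := A[X]) (M := TensorProduct A A[X] (EGA4.Cpl A))
    (IsBaseChange.equiv
      (Algebra.IsPushout.out (R := A) (S := A[X]) (R' := EGA4.Cpl A) (S' := (EGA4.Cpl A)[X]))).symm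

end poly

section prime

variable (A : Type u) [CommRing A] [IsLocalRing A] [IsNoetherianRing A]
  (𝔔 : Ideal A[X]) [h𝔔 : 𝔔.IsPrime] (hm : (maximalIdeal A).map (C : A →+* A[X]) ≤ 𝔔)

/-- the extension of `𝔔` to `Â[X]` -/
noncomputable abbrev Qhat : Ideal (EGA4.Cpl A)[X] := 𝔔.map (algebraMap A[X] (EGA4.Cpl A)[X])

theorem comap_Qhat : (Qhat A 𝔔).comap (algebraMap A[X] (EGA4.Cpl A)[X]) = 𝔔 :=
  Ideal.comap_map_eq_self_of_faithfullyFlat 𝔔

include hm in
theorem C_mem_Qhat {μ : EGA4.Cpl A}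
    (hμ : μ ∈ (maximalIdeal A).map (algebraMap A (EGA4.Cpl A))) :
    (C μ : (EGA4.Cpl A)[X]) ∈ Qhat A 𝔔 := by
  have h1 : (C μ : (EGA4.Cpl A)[X]) ∈
      ((maximalIdeal A).map (algebraMap A (EGA4.Cpl A))).map (C : EGA4.Cpl A →+* (EGA4.Cpl A)[X]) :=
    Ideal.mem_map_of_mem _ hμ
  rw [Ideal.map_map] at h1
  have h2 : (C : EGA4.Cpl A →+* (EGA4.Cpl A)[X]).comp (algebraMap A (EGA4.Cpl A)) =
      (algebraMap A[X] (EGA4.Cpl A)[X]).comp (C : A →+* A[X]) := by
    apply RingHom.ext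
    intro a
    simp [Polynomial.algebraMap_def]
  rw [h2, ← Ideal.map_map] at h1
  exact Ideal.map_mono hm h1

include hm in
/-- every polynomial over `Â` is congruent mod `𝔔̂` to one over `A` -/
theorem exists_sub_mem_Qhat (g : (EGA4.Cpl A)[X]) :
    ∃ f : A[X], g - algebraMap A[X] (EGA4.Cpl A)[X] f ∈ Qhat A 𝔔 := by
  induction g using Polynomial.induction_on' with
  | add g₁ g₂ h₁ h₂ =>
    obtain ⟨f₁, hf₁⟩ := h₁
    obtain ⟨f₂, hf₂⟩ := h₂
    refine ⟨f₁ + f₂, ?_⟩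
    have : g₁ + g₂ - algebraMap A[X] (EGA4.Cpl A)[X] (f₁ + f₂) =
        (g₁ - algebraMap A[X] (EGA4.Cpl A)[X] f₁) + (g₂ - algebraMap A[X] (EGA4.Cpl A)[X] f₂) := by
      rw [map_add]; ring
    rw [this]
    exact Ideal.add_mem _ hf₁ hf₂
  | monomial n c =>
    obtain ⟨a, ha⟩ := Groth.Agent.Lib.Helper18.AdicHom.exists_sub_mem A (maximalIdeal A) c
    refine ⟨monomial n a, ?_⟩
    have h1 : monomial n c - algebraMap A[X] (EGA4.Cpl A)[X] (monomial n a) =
        C (c - algebraMap A (EGA4.Cpl A) a) * X ^ n := by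
      rw [Polynomial.algebraMap_def, coe_mapRingHom, map_monomial, ← map_sub (monomial n),
        ← C_mul_X_pow_eq_monomial]
    rw [h1]
    exact Ideal.mul_mem_right _ _ (C_mem_Qhat A 𝔔 hm ha)

include hm in
/-- `𝔔̂` is prime -/
theorem isPrime_Qhat : (Qhat A 𝔔).IsPrime := by
  have hle : 𝔔 ≤ (Qhat A 𝔔).comap (algebraMap A[X] (EGA4.Cpl A)[X]) := Ideal.le_comap_map
  have hinj : Function.Injective (Ideal.quotientMap (Qhat A 𝔔) (algebraMap A[X] (EGA4.Cpl A)[X]) hle) := by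
    apply Ideal.quotientMap_injective'
    rw [comap_Qhat]
  have hsurj : Function.Surjective
      (Ideal.quotientMap (Qhat A 𝔔) (algebraMap A[X] (EGA4.Cpl A)[X]) hle) := by
    intro y
    obtain ⟨g, rfl⟩ := Ideal.Quotient.mk_surjective y
    obtain ⟨f, hf⟩ := exists_sub_mem_Qhat A 𝔔 hm g
    refine ⟨Ideal.Quotient.mk 𝔔 f, ?_⟩
    rw [Ideal.quotientMap_mk, eq_comm, Ideal.Quotient.eq]
    exact hf
  let e : (A[X] ⧸ 𝔔) ≃+* ((EGA4.Cpl A)[X] ⧸ Qhat A 𝔔) := RingEquiv.ofBijective _ ⟨hinj, hsurj⟩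
  haveI : IsDomain ((EGA4.Cpl A)[X] ⧸ Qhat A 𝔔) := e.symm.toMulEquiv.isDomain (A[X] ⧸ 𝔔)
  exact (Ideal.Quotient.isDomain_iff_prime _).mp inferInstance

end prime

section cpl

variable (A : Type u) [CommRing A] [IsLocalRing A] [IsNoetherianRing A]
  (𝔔 : Ideal A[X]) [h𝔔 : 𝔔.IsPrime] (hm : (maximalIdeal A).map (C : A →+* A[X]) ≤ 𝔔)
  [hQ' : (Qhat A 𝔔).IsPrime]

instance liesOver_Qhat : (Qhat A 𝔔).LiesOver 𝔔 := ⟨(comap_Qhat A 𝔔).symm⟩

include hm in
/-- `A[X]_𝔔` and `Â[X]_𝔔̂` have isomorphic completions -/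
theorem nonempty_cpl_equiv :
    Nonempty (EGA4.Cpl (Localization.AtPrime 𝔔) ≃+* EGA4.Cpl (Localization.AtPrime (Qhat A 𝔔))) := by
  haveI : IsNoetherianRing (Localization.AtPrime 𝔔) :=
    IsLocalization.isNoetherianRing 𝔔.primeCompl _ inferInstance
  haveI : IsNoetherianRing (Localization.AtPrime (Qhat A 𝔔)) :=
    IsLocalization.isNoetherianRing (Qhat A 𝔔).primeCompl _ inferInstance
  letI := Localization.AtPrime.algebraOfLiesOver 𝔔 (Qhat A 𝔔)
  haveI : IsLocalHom (algebraMap (Localization.AtPrime 𝔔) (Localization.AtPrime (Qhat A 𝔔))) :=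
    Localization.isLocalHom_localRingHom 𝔔 (Qhat A 𝔔) (algebraMap A[X] (EGA4.Cpl A)[X])
      Ideal.LiesOver.over
  haveI : Module.Flat (Localization.AtPrime 𝔔) (Localization.AtPrime (Qhat A 𝔔)) := inferInstance
  have hmax : (maximalIdeal (Localization.AtPrime 𝔔)).map
      (algebraMap (Localization.AtPrime 𝔔) (Localization.AtPrime (Qhat A 𝔔))) =
      maximalIdeal (Localization.AtPrime (Qhat A 𝔔)) := by
    rw [← Localization.AtPrime.map_eq_maximalIdeal, Ideal.map_map,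
      ← IsScalarTower.algebraMap_eq, IsScalarTower.algebraMap_eq A[X] (EGA4.Cpl A)[X]
        (Localization.AtPrime (Qhat A 𝔔)), ← Ideal.map_map,
      Localization.AtPrime.map_eq_maximalIdeal]
  have hres : Function.Surjective ((Ideal.Quotient.mk
      (maximalIdeal (Localization.AtPrime (Qhat A 𝔔)))).comp
      (algebraMap (Localization.AtPrime 𝔔) (Localization.AtPrime (Qhat A 𝔔)))) := by
    intro y
    obtain ⟨y', rfl⟩ := Ideal.Quotient.mk_surjective y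
    obtain ⟨⟨g, s⟩, rfl⟩ := IsLocalization.mk'_surjective (Qhat A 𝔔).primeCompl y'
    obtain ⟨f, hf⟩ := exists_sub_mem_Qhat A 𝔔 hm g
    obtain ⟨t, ht⟩ := exists_sub_mem_Qhat A 𝔔 hm s.1
    have htQ : t ∉ 𝔔 := by
      intro htQ
      apply s.2
      have h1 : algebraMap A[X] (EGA4.Cpl A)[X] t ∈ Qhat A 𝔔 := Ideal.mem_map_of_mem _ htQ
      have h2 := Ideal.add_mem _ ht h1
      rwa [sub_add_cancel] at h2
    refine ⟨IsLocalization.mk' _ f (⟨t, htQ⟩ : 𝔔.primeCompl), ?_⟩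
    rw [RingHom.comp_apply, Ideal.Quotient.eq]
    have halg : algebraMap (Localization.AtPrime 𝔔) (Localization.AtPrime (Qhat A 𝔔))
        (IsLocalization.mk' _ f (⟨t, htQ⟩ : 𝔔.primeCompl)) =
        IsLocalization.mk' (Localization.AtPrime (Qhat A 𝔔))
          (algebraMap A[X] (EGA4.Cpl A)[X] f)
          (⟨algebraMap A[X] (EGA4.Cpl A)[X] t, by
            intro hmem
            apply htQ
            rw [← comap_Qhat A 𝔔]
            exact hmem⟩ : (Qhat A 𝔔).primeCompl) :=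
      Localization.localRingHom_mk' 𝔔 (Qhat A 𝔔) (algebraMap A[X] (EGA4.Cpl A)[X])
        Ideal.LiesOver.over f ⟨t, htQ⟩
    rw [halg, ← IsLocalization.mk'_sub, ← Localization.AtPrime.map_eq_maximalIdeal]
    have hnum : (algebraMap A[X] (EGA4.Cpl A)[X] f) * s.1 - g * (algebraMap A[X] (EGA4.Cpl A)[X] t) ∈
        Qhat A 𝔔 := by
      have : (algebraMap A[X] (EGA4.Cpl A)[X] f) * s.1 - g * (algebraMap A[X] (EGA4.Cpl A)[X] t) =
          (s.1 - algebraMap A[X] (EGA4.Cpl A)[X] t) * (algebraMap A[X] (EGA4.Cpl A)[X] f) -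
          (g - algebraMap A[X] (EGA4.Cpl A)[X] f) * (algebraMap A[X] (EGA4.Cpl A)[X] t) := by ring
      rw [this]
      exact Ideal.sub_mem _ (Ideal.mul_mem_right _ _ ht) (Ideal.mul_mem_right _ _ hf)
    rw [IsLocalization.mk'_mem_iff]
    exact Ideal.mem_map_of_mem _ hnum
  have hbij := CplIso.cplMap_bijective _ _ hmax hres
  exact ⟨RingEquiv.ofBijective _ hbij⟩

end cpl

section equidim

variable (A : Type u) [CommRing A] [IsLocalRing A] [IsNoetherianRing A]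
  (𝔔 : Ideal A[X]) [h𝔔 : 𝔔.IsPrime] (hm : (maximalIdeal A).map (C : A →+* A[X]) ≤ 𝔔)
  [hQ' : (Qhat A 𝔔).IsPrime]

include hm in
theorem map_C_maximalIdeal_le_Qhat :
    (maximalIdeal (EGA4.Cpl A)).map (C : EGA4.Cpl A →+* (EGA4.Cpl A)[X]) ≤ Qhat A 𝔔 := by
  rw [Ideal.map_le_iff_le_comap]
  intro μ hμ
  rw [AdicCompletion.maximalIdeal_eq_map] at hμ
  exact C_mem_Qhat A 𝔔 hm hμ

include hm in
theorem isLocalHom_cpl_loc :
    IsLocalHom (algebraMap (EGA4.Cpl A) (Localization.AtPrime (Qhat A 𝔔))) := by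
  refine ⟨fun a ha => ?_⟩
  by_contra hna
  have h1 : a ∈ maximalIdeal (EGA4.Cpl A) := (IsLocalRing.mem_maximalIdeal a).mpr hna
  have h2 : (C a : (EGA4.Cpl A)[X]) ∈ Qhat A 𝔔 :=
    map_C_maximalIdeal_le_Qhat A 𝔔 hm (Ideal.mem_map_of_mem _ h1)
  have h3 : algebraMap (EGA4.Cpl A)[X] (Localization.AtPrime (Qhat A 𝔔)) (C a) ∈
      maximalIdeal (Localization.AtPrime (Qhat A 𝔔)) := by
    rw [← Localization.AtPrime.map_eq_maximalIdeal]
    exact Ideal.mem_map_of_mem _ h2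
  rw [IsLocalRing.mem_maximalIdeal] at h3
  apply h3
  have h4 : algebraMap (EGA4.Cpl A)[X] (Localization.AtPrime (Qhat A 𝔔)) (C a) =
      algebraMap (EGA4.Cpl A) (Localization.AtPrime (Qhat A 𝔔)) a := by
    rw [IsScalarTower.algebraMap_apply (EGA4.Cpl A) (EGA4.Cpl A)[X]
      (Localization.AtPrime (Qhat A 𝔔))]
    rfl
  rw [h4]
  exact ha

include hm in
/-- `Â[X]_𝔔̂` is equidimensional when `Â` is -/
theorem isEquidim_loc_Qhat (h : EGA4.IsFormallyEquidim A) :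
    EGA4.IsEquidim (Localization.AtPrime (Qhat A 𝔔)) := by
  haveI : IsNoetherianRing (Localization.AtPrime (Qhat A 𝔔)) :=
    IsLocalization.isNoetherianRing (Qhat A 𝔔).primeCompl _ inferInstance
  haveI := isLocalHom_cpl_loc A 𝔔 hm
  haveI : Module.Flat (EGA4.Cpl A) (Localization.AtPrime (Qhat A 𝔔)) :=
    Module.Flat.trans (EGA4.Cpl A) (EGA4.Cpl A)[X] (Localization.AtPrime (Qhat A 𝔔))
  intro 𝔭' h𝔭'
  haveI h𝔭'p : 𝔭'.IsPrime := h𝔭'.1.1
  obtain ⟨P, hP⟩ : ∃ P : Ideal (EGA4.Cpl A),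
      P = 𝔭'.comap (algebraMap (EGA4.Cpl A) (Localization.AtPrime (Qhat A 𝔔))) := ⟨_, rfl⟩
  have hPmin : P ∈ minimalPrimes (EGA4.Cpl A) := by
    rw [hP]; exact comap_mem_minimalPrimes_of_flat 𝔭' h𝔭'
  haveI hPp : P.IsPrime := hPmin.1.1
  have hPle : P ≤ maximalIdeal (EGA4.Cpl A) := IsLocalRing.le_maximalIdeal hPp.ne_top
  have hPC : P.map (C : EGA4.Cpl A →+* (EGA4.Cpl A)[X]) ≤ Qhat A 𝔔 :=
    (Ideal.map_mono hPle).trans (map_C_maximalIdeal_le_Qhat A 𝔔 hm)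
  have hdisj : Disjoint ((Qhat A 𝔔).primeCompl : Set (EGA4.Cpl A)[X])
      (P.map (C : EGA4.Cpl A →+* (EGA4.Cpl A)[X]) : Set (EGA4.Cpl A)[X]) := by
    rw [Set.disjoint_left]
    intro x hx hxP
    exact hx (hPC hxP)
  have hprime : ((P.map (C : EGA4.Cpl A →+* (EGA4.Cpl A)[X])).map
      (algebraMap (EGA4.Cpl A)[X] (Localization.AtPrime (Qhat A 𝔔)))).IsPrime :=
    IsLocalization.isPrime_of_isPrime_disjoint (Qhat A 𝔔).primeCompl _ _ inferInstance hdisj
  have hmapeq : (P.map (C : EGA4.Cpl A →+* (EGA4.Cpl A)[X])).map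
      (algebraMap (EGA4.Cpl A)[X] (Localization.AtPrime (Qhat A 𝔔))) =
      P.map (algebraMap (EGA4.Cpl A) (Localization.AtPrime (Qhat A 𝔔))) := by
    rw [Ideal.map_map]
    rfl
  rw [hmapeq] at hprime
  have hle : P.map (algebraMap (EGA4.Cpl A) (Localization.AtPrime (Qhat A 𝔔))) ≤ 𝔭' := by
    rw [hP]; exact Ideal.map_comap_le
  have heq𝔭 : 𝔭' = P.map (algebraMap (EGA4.Cpl A) (Localization.AtPrime (Qhat A 𝔔))) :=
    le_antisymm (h𝔭'.2 ⟨hprime, bot_le⟩ hle) hle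
  have hloc : IsLocalRing (Localization.AtPrime (Qhat A 𝔔) ⧸ (maximalIdeal (EGA4.Cpl A)).map
      (algebraMap (EGA4.Cpl A) (Localization.AtPrime (Qhat A 𝔔)))) :=
    CatFlat.isLocalRing_quotient_map (EGA4.Cpl A) _ _ (maximalIdeal.isMaximal _).ne_top
  have h1 := CatFlat.ringKrullDim_quotient_map_eq (EGA4.Cpl A)
    (Localization.AtPrime (Qhat A 𝔔)) P hPp.ne_top
  have h2 := Groth.Agent.Lib.Helper18.FlatLocal.ringKrullDim_eq_add_fibre_of_flat (EGA4.Cpl A)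
    (Localization.AtPrime (Qhat A 𝔔))
  rw [heq𝔭, h1, h2, h P hPmin]

end equidim

section core'

variable (A : Type u) [CommRing A] [IsLocalRing A] [IsNoetherianRing A]
  (𝔔 : Ideal A[X]) [h𝔔 : 𝔔.IsPrime] (hm : (maximalIdeal A).map (C : A →+* A[X]) ≤ 𝔔)

include hm in
/-- Core': `A` formally equidimensional ⇒ `A[X]_𝔔` formally equidimensional (`𝔔 ⊇ 𝔪[X]`) -/
theorem isFormallyEquidim_polynomial_localization (h : EGA4.IsFormallyEquidim A) :
    EGA4.IsFormallyEquidim (Localization.AtPrime 𝔔) := by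
  haveI hQ' : (Qhat A 𝔔).IsPrime := isPrime_Qhat A 𝔔 hm
  haveI : IsNoetherianRing (Localization.AtPrime 𝔔) :=
    IsLocalization.isNoetherianRing 𝔔.primeCompl _ inferInstance
  haveI : IsNoetherianRing (Localization.AtPrime (Qhat A 𝔔)) :=
    IsLocalization.isNoetherianRing (Qhat A 𝔔).primeCompl _ inferInstance
  obtain ⟨e⟩ := nonempty_cpl_equiv A 𝔔 hm
  -- `R'` is formally catenary
  obtain ⟨S₀, _, hS₀, f, hf⟩ := CST.exists_regular_presentation (EGA4.Cpl A)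
  haveI := CMOpen.isCohenMacaulayRing_of_isRegularLocalRing S₀
  haveI : Algebra.Smooth S₀ S₀[X] := ⟨inferInstance, inferInstance⟩
  haveI : LocCoh.IsCohenMacaulayRing S₀[X] := UCat.isCohenMacaulayRing_of_smooth S₀ S₀[X]
  have hfc : EGA4.IsFormallyCatenary (Localization.AtPrime (Qhat A 𝔔)) :=
    isFormallyCatenary_localization_of_surjective (Polynomial.mapRingHom f)
      (Polynomial.map_surjective f hf) (Qhat A 𝔔)
  have heq := isEquidim_loc_Qhat A 𝔔 hm h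
  have hfe : EGA4.IsFormallyEquidim (Localization.AtPrime (Qhat A 𝔔)) :=
    isFormallyEquidim_of_isFormallyCatenary _ hfc heq
  exact FormEq.isEquidim_of_ringEquiv e.symm hfe

end core'

end Groth.Agent.Lib.Helper18.FormEquid
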