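import Mathlib
import Groth.Prelude.Def_EGA4b
import Groth.Prelude.Def_Found
import Groth.Agent.Lib.Helper18.Ratliff1
import Groth.Agent.Lib.Helper18.FormEquid3

/-!
# Ratliff's theorem, part 2: a one-dimensional component of the completion breaks catenarity
of `D[X]`
-/

set_option autoImplicit false
set_option linter.unusedSectionVars false
set_option linter.style.haveILetI false
universe u
open IsLocalRing Polynomial

namespace Groth.Agent.Lib.Helper18.Ratliff

attribute [local instance] Polynomial.algebra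

section data

variable (D : Type u) [CommRing D] [IsDomain D] [IsLocalRing D] [IsNoetherianRing D]

theorem exists_data (hD : maximalIdeal D ≠ ⊥) (P : Ideal (EGA4.Cpl D))
    (hP : P ∈ minimalPrimes (EGA4.Cpl D))
    (hP1 : ∀ 𝔭 : Ideal (EGA4.Cpl D), 𝔭.IsPrime → P ≤ 𝔭 →
      𝔭 = P ∨ 𝔭 = maximalIdeal (EGA4.Cpl D)) :
    ∃ (a b : D) (p θ s w : EGA4.Cpl D) (n : ℕ), a ≠ 0 ∧ s ∉ P ∧ (∀ z ∈ P, s * z ^ n = 0) ∧
      s * p = 0 ∧ algebraMap D (EGA4.Cpl D) a = p + s * w ∧
      algebraMap D (EGA4.Cpl D) a * θ = algebraMap D (EGA4.Cpl D) b + p := by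
  haveI hPp : P.IsPrime := hP.1.1
  obtain ⟨s, hs, n, hn⟩ := exists_kill (EGA4.Cpl D) P hP
  set 𝔑 : Ideal (EGA4.Cpl D) := LinearMap.ker (LinearMap.mulLeft (EGA4.Cpl D) s) with h𝔑
  have hmem𝔑 : ∀ x, x ∈ 𝔑 ↔ s * x = 0 := by
    intro x
    rw [h𝔑, LinearMap.mem_ker, LinearMap.mulLeft_apply]
  have hrad : maximalIdeal (EGA4.Cpl D) ≤ (𝔑 ⊔ Ideal.span {s}).radical := by
    rw [Ideal.radical_eq_sInf]
    refine le_sInf ?_
    rintro 𝔭 ⟨hle, hprime⟩
    have h1 : P ≤ 𝔭 := by
      intro z hz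
      have h2 : z ^ n ∈ 𝔑 := (hmem𝔑 _).2 (hn z hz)
      exact hprime.mem_of_pow_mem n (hle (Ideal.mem_sup_left h2))
    rcases hP1 𝔭 hprime h1 with h | h
    · exfalso
      apply hs
      rw [← h]
      exact hle (Ideal.mem_sup_right (Ideal.mem_span_singleton_self s))
    · rw [h]
  obtain ⟨k, hk⟩ := Ideal.exists_pow_le_of_le_radical_of_fg hrad (IsNoetherian.noetherian _)
  obtain ⟨a0, ha0, ha0ne⟩ := Submodule.exists_mem_ne_zero_of_ne_bot hD
  have haE : algebraMap D (EGA4.Cpl D) (a0 ^ k) ∈ (maximalIdeal (EGA4.Cpl D)) ^ k := by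
    rw [map_pow]
    apply Ideal.pow_mem_pow
    rw [← FormEq.map_maximalIdeal_cpl]
    exact Ideal.mem_map_of_mem _ ha0
  obtain ⟨p, hp, sw, hsw, hsum⟩ := Submodule.mem_sup.1 (hk haE)
  obtain ⟨w, rfl⟩ := Ideal.mem_span_singleton'.1 hsw
  have hsp : s * p = 0 := (hmem𝔑 p).1 hp
  have hyp : ∀ z ∈ (maximalIdeal (EGA4.Cpl D)) ^ k,
      z * (w * s) ∈ Ideal.span {algebraMap D (EGA4.Cpl D) (a0 ^ k)} := by
    intro z hz
    obtain ⟨p', hp', sw', hsw', hz'⟩ := Submodule.mem_sup.1 (hk hz)
    obtain ⟨w', rfl⟩ := Ideal.mem_span_singleton'.1 hsw'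
    have hsp' : s * p' = 0 := (hmem𝔑 p').1 hp'
    rw [Ideal.mem_span_singleton']
    refine ⟨w' * s, ?_⟩
    linear_combination (w * s) * hz' - (w' * s) * hsum - w * hsp' + w' * hsp
  obtain ⟨b, hb⟩ := exists_approx D (a0 ^ k) (w * s) k hyp
  obtain ⟨c, hc⟩ := Ideal.mem_span_singleton'.1 hb
  refine ⟨a0 ^ k, b, p, 1 - c, s, w, n, pow_ne_zero k ha0ne, hs, hn, hsp, ?_, ?_⟩
  · rw [← hsum]; ring
  · linear_combination (-1 : EGA4.Cpl D) * hc - hsum

end data


section poly

variable (D : Type u) [CommRing D] [IsDomain D] [IsLocalRing D] [IsNoetherianRing D]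

theorem algX_C (d : D) :
    algebraMap D[X] (EGA4.Cpl D)[X] (C d) = C (algebraMap D (EGA4.Cpl D) d) := by
  simp [Polynomial.algebraMap_def]

theorem algX_X : algebraMap D[X] (EGA4.Cpl D)[X] X = X := by
  simp [Polynomial.algebraMap_def]

variable {D} in
/-- membership modulo `X - C θ` -/
theorem mem_iff_C_eval_mem {E : Type u} [CommRing E] (θ : E) (R' : Ideal E[X])
    (hX : X - C θ ∈ R') (g : E[X]) : g ∈ R' ↔ C (g.eval θ) ∈ R' := by
  obtain ⟨h, hh⟩ := Polynomial.X_sub_C_dvd_sub_C_eval (a := θ) (p := g)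
  have h1 : g - C (g.eval θ) ∈ R' := by rw [hh]; exact Ideal.mul_mem_right _ _ hX
  constructor
  · intro hg
    have := Ideal.sub_mem _ hg h1
    simpa using this
  · intro hc
    have := Ideal.add_mem _ h1 hc
    simpa using this

variable {D} in
theorem eq_comap_of_mem {E : Type u} [CommRing E] (θ : E) (R' : Ideal E[X])
    (hX : X - C θ ∈ R') : R' = (R'.comap (C : E →+* E[X])).comap (evalRingHom θ) := by
  ext g
  rw [mem_iff_C_eval_mem θ R' hX g, Ideal.mem_comap, Ideal.mem_comap, coe_evalRingHom]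

variable (a b : D) (p θ : EGA4.Cpl D) (P : Ideal (EGA4.Cpl D)) [hPp : P.IsPrime]
  (hpP : p ∈ P) (haP : algebraMap D (EGA4.Cpl D) a ∉ P)
  (hθ : algebraMap D (EGA4.Cpl D) a * θ = algebraMap D (EGA4.Cpl D) b + p)

/-- the prime `𝔮` of `D[X]` -/
noncomputable abbrev qq : Ideal D[X] :=
  (P.comap (evalRingHom θ)).comap (algebraMap D[X] (EGA4.Cpl D)[X])

theorem mem_qq_iff (g : D[X]) :
    g ∈ qq D θ P ↔ (g.map (algebraMap D (EGA4.Cpl D))).eval θ ∈ P := by
  rw [Ideal.mem_comap, Ideal.mem_comap, coe_evalRingHom, Polynomial.algebraMap_def,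
    coe_mapRingHom]

include hpP haP hθ in
theorem lin_mem_qq (u v : D) (huv : b * u = a * v) : C u * X - C v ∈ qq D θ P := by
  rw [mem_qq_iff]
  have h1 : algebraMap D (EGA4.Cpl D) a *
      ((C u * X - C v : D[X]).map (algebraMap D (EGA4.Cpl D))).eval θ ∈ P := by
    have h2 : algebraMap D (EGA4.Cpl D) a *
        ((C u * X - C v : D[X]).map (algebraMap D (EGA4.Cpl D))).eval θ =
        algebraMap D (EGA4.Cpl D) u * p := by
      have h3 := congrArg (algebraMap D (EGA4.Cpl D)) huv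
      rw [map_mul, map_mul] at h3
      simp only [Polynomial.map_sub, Polynomial.map_mul, Polynomial.map_C, Polynomial.map_X,
        eval_sub, eval_mul, eval_C, eval_X]
      linear_combination (algebraMap D (EGA4.Cpl D) u) * hθ + h3
    rw [h2]
    exact Ideal.mul_mem_left _ _ hpP
  exact (hPp.mem_or_mem h1).resolve_left haP

include hpP haP hθ in
/-- relations descend by flatness -/
theorem lin_mem_map (lam kap : EGA4.Cpl D)
    (hrel : algebraMap D (EGA4.Cpl D) b * lam = algebraMap D (EGA4.Cpl D) a * kap) :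
    C lam * X - C kap ∈ (qq D θ P).map (algebraMap D[X] (EGA4.Cpl D)[X]) := by
  have h0 : ∑ i : Fin 2, (![b, -a] i) • (![lam, kap] i) = 0 := by
    simp only [Fin.sum_univ_two, Matrix.cons_val_zero, Matrix.cons_val_one,
      Algebra.smul_def, map_neg]
    linear_combination hrel
  obtain ⟨k, A, y, hx, hA⟩ := Module.Flat.isTrivialRelation_of_sum_smul_eq_zero h0
  have hA' : ∀ j, b * A 0 j = a * A 1 j := by
    intro j
    have := hA j
    simp only [Fin.sum_univ_two, Matrix.cons_val_zero, Matrix.cons_val_one] at this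
    linear_combination this
  have hmem : ∀ j, (C (A 0 j) * X - C (A 1 j) : D[X]) ∈ qq D θ P :=
    fun j => lin_mem_qq D a b p θ P hpP haP hθ _ _ (hA' j)
  have hlam : lam = ∑ j, algebraMap D (EGA4.Cpl D) (A 0 j) * y j := by
    have := hx 0
    simpa [Algebra.smul_def] using this
  have hkap : kap = ∑ j, algebraMap D (EGA4.Cpl D) (A 1 j) * y j := by
    have := hx 1
    simpa [Algebra.smul_def] using this
  have hsum : C lam * X - C kap =
      ∑ j, C (y j) * algebraMap D[X] (EGA4.Cpl D)[X] (C (A 0 j) * X - C (A 1 j)) := by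
    rw [hlam, hkap]
    simp only [map_sum, map_mul, map_sub, algX_C, algX_X, Finset.sum_mul]
    rw [← Finset.sum_sub_distrib]
    refine Finset.sum_congr rfl (fun j _ => ?_)
    ring
  rw [hsum]
  exact Ideal.sum_mem _ (fun j _ => Ideal.mul_mem_left _ _ (Ideal.mem_map_of_mem _ (hmem j)))

end poly


section main

variable (D : Type u) [CommRing D] [IsDomain D] [IsLocalRing D] [IsNoetherianRing D]

theorem residue_comp_surjective :
    Function.Surjective ((residue (EGA4.Cpl D)).comp (algebraMap D (EGA4.Cpl D))) := by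
  intro x
  obtain ⟨z, rfl⟩ := residue_surjective x
  obtain ⟨d, hd⟩ := AdicHom.exists_sub_mem D (maximalIdeal D) z
  refine ⟨d, ?_⟩
  rw [FormEq.map_maximalIdeal_cpl] at hd
  have h1 : residue (EGA4.Cpl D) (z - algebraMap D (EGA4.Cpl D) d) = 0 :=
    (residue_eq_zero_iff _).2 hd
  rw [map_sub, sub_eq_zero] at h1
  rw [RingHom.comp_apply, h1]

/-- If the completion of the local domain `D` (not a field) has a minimal prime `P` such that the
only primes containing `P` are `P` and the maximal ideal, and `D[X]` is catenary, then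
`dim D ≤ 1`. -/
theorem ringKrullDim_le_one_of_catenary (hcat : CAlg.IsCatenary D[X]) (hD : maximalIdeal D ≠ ⊥)
    (P : Ideal (EGA4.Cpl D)) (hP : P ∈ minimalPrimes (EGA4.Cpl D))
    (hP1 : ∀ 𝔭 : Ideal (EGA4.Cpl D), 𝔭.IsPrime → P ≤ 𝔭 →
      𝔭 = P ∨ 𝔭 = maximalIdeal (EGA4.Cpl D)) :
    ringKrullDim D ≤ 1 := by
  haveI hPp : P.IsPrime := hP.1.1
  obtain ⟨a, b, p, θ, s, w, n, ha, hs, hn, hsp, haw, hθ⟩ := exists_data D hD P hP hP1
  have hpP : p ∈ P := by
    have : s * p ∈ P := by rw [hsp]; exact P.zero_mem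
    exact (hPp.mem_or_mem this).resolve_left hs
  have haP : algebraMap D (EGA4.Cpl D) a ∉ P := by
    intro h
    have h1 := FormEquid.comap_mem_minimalPrimes_of_flat (A := D) P hP
    rw [IsDomain.minimalPrimes_eq_singleton_bot, Set.mem_singleton_iff] at h1
    have h2 : a ∈ P.comap (algebraMap D (EGA4.Cpl D)) := h
    rw [h1, Ideal.mem_bot] at h2
    exact ha h2
  have haregD : IsSMulRegular D a := fun x y h => mul_left_cancel₀ ha (by simpa using h)
  have hareg : IsSMulRegular (EGA4.Cpl D) (algebraMap D (EGA4.Cpl D) a) :=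
    IsSMulRegular.of_flat haregD
  -- the basic identity
  have hid : (2 * θ - 1) * (algebraMap D (EGA4.Cpl D) a * algebraMap D (EGA4.Cpl D) b) +
      (-(θ ^ 2 - θ)) * (algebraMap D (EGA4.Cpl D) a) ^ 2 = (algebraMap D (EGA4.Cpl D) b) ^ 2 := by
    linear_combination (algebraMap D (EGA4.Cpl D) a - 2 * p -
      (algebraMap D (EGA4.Cpl D) a * θ - algebraMap D (EGA4.Cpl D) b - p)) * hθ + p * haw + w * hsp
  -- integrality of `b / a`
  obtain ⟨c1, c0, hc⟩ : ∃ c1 c0 : D, c1 * (a * b) + c0 * a ^ 2 = b ^ 2 := by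
    have h1 : algebraMap D (EGA4.Cpl D) (b ^ 2) ∈
        (Ideal.span {a * b, a ^ 2}).map (algebraMap D (EGA4.Cpl D)) := by
      rw [Ideal.map_span, Set.image_pair, Ideal.mem_span_pair]
      refine ⟨2 * θ - 1, -(θ ^ 2 - θ), ?_⟩
      rw [map_mul, map_pow, map_pow]
      exact hid
    have h2 : b ^ 2 ∈ ((Ideal.span {a * b, a ^ 2}).map (algebraMap D (EGA4.Cpl D))).comap
        (algebraMap D (EGA4.Cpl D)) := h1
    rw [Ideal.comap_map_eq_self_of_faithfullyFlat, Ideal.mem_span_pair] at h2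
    exact h2
  have hcE : algebraMap D (EGA4.Cpl D) c1 *
      (algebraMap D (EGA4.Cpl D) a * algebraMap D (EGA4.Cpl D) b) +
      algebraMap D (EGA4.Cpl D) c0 * (algebraMap D (EGA4.Cpl D) a) ^ 2 =
      (algebraMap D (EGA4.Cpl D) b) ^ 2 := by
    have := congrArg (algebraMap D (EGA4.Cpl D)) hc
    simpa only [map_add, map_mul, map_pow] using this
  -- the ideals
  set P1 : Ideal (EGA4.Cpl D)[X] := P.comap (evalRingHom θ) with hP1def
  set Nh : Ideal (EGA4.Cpl D)[X] := (maximalIdeal (EGA4.Cpl D)).comap (evalRingHom θ) with hNhdef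
  set q : Ideal D[X] := qq D θ P with hqdef
  set N : Ideal D[X] := Nh.comap (algebraMap D[X] (EGA4.Cpl D)[X]) with hNdef
  haveI hP1p : P1.IsPrime := Ideal.comap_isPrime _ _
  haveI hNhp : Nh.IsPrime := Ideal.comap_isPrime _ _
  haveI hqp : q.IsPrime := Ideal.comap_isPrime _ _
  have hP1Nh : P1 ≤ Nh := Ideal.comap_mono (IsLocalRing.le_maximalIdeal hPp.ne_top)
  have hqN : q ≤ N := Ideal.comap_mono hP1Nh
  have hqmap : q.map (algebraMap D[X] (EGA4.Cpl D)[X]) ≤ P1 := Ideal.map_comap_le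
  -- `N` is maximal, over `m`
  have hNker : N = RingHom.ker (((residue (EGA4.Cpl D)).comp (evalRingHom θ)).comp
      (algebraMap D[X] (EGA4.Cpl D)[X])) := by
    rw [hNdef, hNhdef, ← RingHom.comap_ker, ← RingHom.comap_ker, ker_residue]
  haveI hNmax : N.IsMaximal := by
    rw [hNker]
    apply RingHom.ker_isMaximal_of_surjective
    intro x
    obtain ⟨d, hd⟩ := residue_comp_surjective D x
    refine ⟨C d, ?_⟩
    rw [RingHom.comp_apply, RingHom.comp_apply, algX_C, coe_evalRingHom, eval_C]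
    exact hd
  haveI hNlo : N.LiesOver (maximalIdeal D) := by
    refine ⟨?_⟩
    ext d
    rw [Ideal.under_def, Ideal.mem_comap, hNdef, Ideal.mem_comap, hNhdef, Ideal.mem_comap,
      ← Polynomial.C_eq_algebraMap, algX_C, coe_evalRingHom, eval_C,
      ← FormEq.map_maximalIdeal_cpl]
    constructor
    · intro hd
      exact Ideal.mem_map_of_mem _ hd
    · intro hd
      have h2 : d ∈ ((maximalIdeal D).map (algebraMap D (EGA4.Cpl D))).comap
          (algebraMap D (EGA4.Cpl D)) := hd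
      rwa [Ideal.comap_map_eq_self_of_faithfullyFlat] at h2
  have hNht : N.height = (maximalIdeal D).height + 1 :=
    Polynomial.height_eq_height_add_one (maximalIdeal D) N
  -- elements of `q`
  have hG2 : (X ^ 2 - C c1 * X - C c0 : D[X]) ∈ q := by
    rw [hqdef, mem_qq_iff]
    have h1 : (algebraMap D (EGA4.Cpl D) a) ^ 2 *
        ((X ^ 2 - C c1 * X - C c0 : D[X]).map (algebraMap D (EGA4.Cpl D))).eval θ ∈ P := by
      have h2 : (algebraMap D (EGA4.Cpl D) a) ^ 2 *
          ((X ^ 2 - C c1 * X - C c0 : D[X]).map (algebraMap D (EGA4.Cpl D))).eval θ =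
          p * (2 * algebraMap D (EGA4.Cpl D) b + p -
            algebraMap D (EGA4.Cpl D) c1 * algebraMap D (EGA4.Cpl D) a) := by
        simp only [Polynomial.map_sub, Polynomial.map_mul, Polynomial.map_pow, Polynomial.map_C,
          Polynomial.map_X, eval_sub, eval_mul, eval_pow, eval_C, eval_X]
        linear_combination ((algebraMap D (EGA4.Cpl D) a * θ - algebraMap D (EGA4.Cpl D) b - p) +
          2 * algebraMap D (EGA4.Cpl D) b + 2 * p -
          algebraMap D (EGA4.Cpl D) c1 * algebraMap D (EGA4.Cpl D) a) * hθ - hcE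
      rw [h2]
      exact Ideal.mul_mem_right _ _ hpP
    refine (hPp.mem_or_mem h1).resolve_left ?_
    intro h3
    exact haP (hPp.mem_of_pow_mem 2 h3)
  -- key memberships
  have hlin := lin_mem_map D a b p θ P hpP haP hθ
  have hα : (X - C θ) * (X - C θ + 1) ∈ q.map (algebraMap D[X] (EGA4.Cpl D)[X]) := by
    have hrel : algebraMap D (EGA4.Cpl D) b * (2 * θ - 1 - algebraMap D (EGA4.Cpl D) c1) =
        algebraMap D (EGA4.Cpl D) a * (θ ^ 2 - θ + algebraMap D (EGA4.Cpl D) c0) := by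
      apply hareg
      simp only [smul_eq_mul]
      linear_combination hid - hcE
    have h1 := hlin _ _ hrel
    have h2 : (X - C θ) * (X - C θ + 1) =
        algebraMap D[X] (EGA4.Cpl D)[X] (X ^ 2 - C c1 * X - C c0) -
        (C (2 * θ - 1 - algebraMap D (EGA4.Cpl D) c1) * X -
          C (θ ^ 2 - θ + algebraMap D (EGA4.Cpl D) c0)) := by
      simp only [map_sub, map_mul, map_pow, algX_C, algX_X, map_add, map_one]
      have : (C (2 : EGA4.Cpl D) : (EGA4.Cpl D)[X]) = 2 := by
        rw [← Nat.cast_ofNat, map_natCast]; rfl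
      rw [this]
      ring
    rw [h2]
    exact Ideal.sub_mem _ (Ideal.mem_map_of_mem _ hG2) h1
  have hβ : ∀ ν : EGA4.Cpl D, s * ν = 0 →
      C ν * (X - C θ + 1) ∈ q.map (algebraMap D[X] (EGA4.Cpl D)[X]) := by
    intro ν hν
    have hrel : algebraMap D (EGA4.Cpl D) b * ν =
        algebraMap D (EGA4.Cpl D) a * (ν * (θ - 1)) := by
      linear_combination (-ν) * hθ + ν * haw + w * hν
    have h1 := hlin _ _ hrel
    have h2 : C ν * (X - C θ + 1) = C ν * X - C (ν * (θ - 1)) := by
      simp only [map_mul, map_sub, map_one]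
      ring
    rw [h2]
    exact h1
  -- height of `q`
  have hq1 : q.height ≤ 1 := by
    haveI hlo1 : P1.LiesOver P := by
      refine ⟨?_⟩
      ext z
      rw [Ideal.under_def, Ideal.mem_comap, hP1def, Ideal.mem_comap,
        ← Polynomial.C_eq_algebraMap, coe_evalRingHom, eval_C]
    have h1 := Ideal.height_le_height_add_of_liesOver P P1
    rw [Ideal.height_eq_zero_iff.mpr hP, zero_add] at h1
    have hker : RingHom.ker (Ideal.Quotient.mk (P.map (algebraMap (EGA4.Cpl D) (EGA4.Cpl D)[X])))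
        ≤ P1 := by
      rw [Ideal.mk_ker, Ideal.map_le_iff_le_comap]
      intro z hz
      rw [Ideal.mem_comap, hP1def, Ideal.mem_comap, ← Polynomial.C_eq_algebraMap,
        coe_evalRingHom, eval_C]
      exact hz
    haveI hprime2 : (P1.map
        (Ideal.Quotient.mk (P.map (algebraMap (EGA4.Cpl D) (EGA4.Cpl D)[X])))).IsPrime :=
      Ideal.map_isPrime_of_surjective Ideal.Quotient.mk_surjective hker
    have hmapeq : P1.map (Ideal.Quotient.mk (P.map (algebraMap (EGA4.Cpl D) (EGA4.Cpl D)[X]))) =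
        Ideal.span {Ideal.Quotient.mk (P.map (algebraMap (EGA4.Cpl D) (EGA4.Cpl D)[X]))
          (X - C θ)} := by
      apply le_antisymm
      · rw [Ideal.map_le_iff_le_comap]
        intro g hg
        rw [Ideal.mem_comap]
        obtain ⟨h, hh⟩ := Polynomial.X_sub_C_dvd_sub_C_eval (a := θ) (p := g)
        have hg' : g = (X - C θ) * h + C (g.eval θ) := by rw [← hh]; ring
        rw [hg', map_add, map_mul]
        have hz : Ideal.Quotient.mk (P.map (algebraMap (EGA4.Cpl D) (EGA4.Cpl D)[X]))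
            (C (g.eval θ)) = 0 := by
          rw [Ideal.Quotient.eq_zero_iff_mem, Polynomial.C_eq_algebraMap]
          apply Ideal.mem_map_of_mem
          rw [hP1def, Ideal.mem_comap, coe_evalRingHom] at hg
          exact hg
        rw [hz, add_zero]
        exact Ideal.mul_mem_right _ _ (Ideal.mem_span_singleton_self _)
      · rw [Ideal.span_singleton_le_iff_mem]
        apply Ideal.mem_map_of_mem
        rw [hP1def, Ideal.mem_comap, coe_evalRingHom, eval_sub, eval_X, eval_C, sub_self]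
        exact P.zero_mem
    have hmin : P1.map (Ideal.Quotient.mk (P.map (algebraMap (EGA4.Cpl D) (EGA4.Cpl D)[X]))) ∈
        (Ideal.span {Ideal.Quotient.mk (P.map (algebraMap (EGA4.Cpl D) (EGA4.Cpl D)[X]))
          (X - C θ)}).minimalPrimes := by
      rw [← hmapeq, Ideal.minimalPrimes_eq_subsingleton_self]
      exact Set.mem_singleton _
    have h2 := Ideal.height_le_one_of_isPrincipal_of_mem_minimalPrimes _ _ hmin
    haveI hlo2 : P1.LiesOver q := ⟨rfl⟩
    have h3 := Ideal.height_eq_height_add_of_liesOver_of_hasGoingDown q P1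
    calc q.height ≤ P1.height := by rw [h3]; exact le_self_add
      _ ≤ _ := h1
      _ ≤ 1 := h2
  -- the chain condition
  have hch : ∀ r : Ideal D[X], r.IsPrime → q ≤ r → r ≤ N → r = q ∨ r = N := by
    intro r hr hqr hrN
    haveI hlo3 : Nh.LiesOver N := ⟨rfl⟩
    obtain ⟨R', hR'le, hR'p, hR'lo⟩ := Ideal.exists_ideal_le_liesOver_of_le (p := r) (q := N) Nh hrN
    have hR'r : R'.comap (algebraMap D[X] (EGA4.Cpl D)[X]) = r := (hR'lo.over).symm
    have hmapR' : q.map (algebraMap D[X] (EGA4.Cpl D)[X]) ≤ R' := by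
      rw [Ideal.map_le_iff_le_comap, hR'r]
      exact hqr
    have hu : (X - C θ + 1 : (EGA4.Cpl D)[X]) ∉ R' := by
      intro h
      have h1 := hR'le h
      rw [hNhdef, Ideal.mem_comap, coe_evalRingHom, eval_add, eval_sub, eval_X, eval_C, sub_self,
        zero_add, eval_one] at h1
      exact (Ideal.ne_top_iff_one _).1 (IsLocalRing.maximalIdeal.isMaximal _).ne_top h1
    have hX : X - C θ ∈ R' := (hR'p.mem_or_mem (hmapR' hα)).resolve_right hu
    have hPR' : P ≤ R'.comap (C : EGA4.Cpl D →+* (EGA4.Cpl D)[X]) := by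
      intro z hz
      rw [Ideal.mem_comap]
      have h1 : C (z ^ n) ∈ R' := (hR'p.mem_or_mem (hmapR' (hβ _ (hn z hz)))).resolve_right hu
      rw [map_pow] at h1
      exact hR'p.mem_of_pow_mem n h1
    haveI : (R'.comap (C : EGA4.Cpl D →+* (EGA4.Cpl D)[X])).IsPrime := Ideal.comap_isPrime _ _
    have hR'eq := eq_comap_of_mem θ R' hX
    rcases hP1 _ inferInstance hPR' with h | h
    · left
      rw [← hR'r, hR'eq, h]
    · right
      rw [← hR'r, hR'eq, h]
  have hfin := height_le_two_of_catenary hcat q N hqN hq1 hch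
  rw [hNht] at hfin
  have h1 : (maximalIdeal D).height ≤ 1 := by
    have h2 : (maximalIdeal D).height + 1 ≤ 1 + 1 := by
      rw [one_add_one_eq_two]; exact hfin
    exact (ENat.add_le_add_iff_right ENat.one_ne_top).1 h2
  rw [← IsLocalRing.maximalIdeal_height_eq_ringKrullDim]
  exact_mod_cast h1

end main

end Groth.Agent.Lib.Helper18.Ratliff
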