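import Mathlib
import Groth.Prelude.Def_EGA4b
import Groth.Prelude.Def_Found
import Groth.Agent.Lib.Helper18.Ratliff2
import Groth.Agent.Lib.Helper18.FormEq3
import Groth.Agent.Lib.Helper18.FormEquid2
import Groth.Agent.Lib.Helper18.SerreReg2

/-!
# Ratliff's theorem, part 3: a universally catenary Noetherian local ring is formally catenary
-/

set_option autoImplicit false
set_option linter.unusedSectionVars false
set_option linter.style.haveILetI false
set_option linter.overlappingInstances false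
universe u
open IsLocalRing Polynomial

namespace Groth.Agent.Lib.Helper18.Ratliff

section uc

theorem isUniversallyCatenary_quotient (A : Type u) [CommRing A]
    (hA : CAlg.IsUniversallyCatenary A) (I : Ideal A) : CAlg.IsUniversallyCatenary (A ⧸ I) := by
  haveI := hA.1
  refine ⟨inferInstance, fun S _ _ hS => ?_⟩
  letI : Algebra A S := ((algebraMap (A ⧸ I) S).comp (Ideal.Quotient.mk I)).toAlgebra
  haveI : IsScalarTower A (A ⧸ I) S := IsScalarTower.of_algebraMap_eq (fun x => rfl)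
  haveI : Algebra.FiniteType A (A ⧸ I) := inferInstance
  exact hA.2 S (Algebra.FiniteType.trans (R := A) (S := A ⧸ I) (A := S) inferInstance hS)

end uc

section local1

variable (A : Type u) [CommRing A] [IsNoetherianRing A] [IsLocalRing A]

/-- if `dim A/P ≤ 1` then the only primes containing `P` are `P` and the maximal ideal -/
theorem eq_or_eq_of_ringKrullDim_quotient_le_one (P : Ideal A) [hP : P.IsPrime]
    (h : ringKrullDim (A ⧸ P) ≤ 1) (𝔭 : Ideal A) (h𝔭 : 𝔭.IsPrime) (hle : P ≤ 𝔭) :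
    𝔭 = P ∨ 𝔭 = maximalIdeal A := by
  by_contra hcon
  push Not at hcon
  have h1 : (⟨P, hP⟩ : PrimeSpectrum A) < ⟨𝔭, h𝔭⟩ :=
    lt_of_le_of_ne hle (fun h => hcon.1 (congrArg PrimeSpectrum.asIdeal h).symm)
  have h2 : (⟨𝔭, h𝔭⟩ : PrimeSpectrum A) < ⟨maximalIdeal A, inferInstance⟩ :=
    lt_of_le_of_ne (IsLocalRing.le_maximalIdeal h𝔭.ne_top)
      (fun h => hcon.2 (congrArg PrimeSpectrum.asIdeal h))
  let s : LTSeries (PrimeSpectrum A) :=
    ((RelSeries.singleton _ (⟨P, hP⟩ : PrimeSpectrum A)).snoc ⟨𝔭, h𝔭⟩ (by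
      rw [RelSeries.last_singleton]; exact h1)).snoc ⟨maximalIdeal A, inferInstance⟩ (by
      rw [RelSeries.last_snoc]; exact h2)
  have h3 : (s.length : ℕ∞) ≤ Order.coheight (⟨P, hP⟩ : PrimeSpectrum A) := by
    apply Order.length_le_coheight
    rw [RelSeries.head_snoc, RelSeries.head_snoc, RelSeries.head_singleton]
  rw [CatHt.coheight_eq A P] at h
  have h4 : Order.coheight (⟨P, hP⟩ : PrimeSpectrum A) ≤ 1 := by exact_mod_cast h
  have h5 : (s.length : ℕ∞) ≤ 1 := h3.trans h4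
  have h6 : s.length = 2 := by
    simp [s]
  rw [h6] at h5
  have : (2 : ℕ) ≤ 1 := by exact_mod_cast h5
  omega

end local1


section local2

variable (A : Type u) [CommRing A] [IsNoetherianRing A] [IsLocalRing A]

theorem ne_maximalIdeal_of_ringKrullDim (Q : Ideal A) (k : ℕ) (hk : ringKrullDim (A ⧸ Q) = k)
    (hk1 : 1 ≤ k) : Q ≠ maximalIdeal A := by
  rintro rfl
  letI := Ideal.Quotient.field (maximalIdeal A)
  rw [ringKrullDim_eq_zero_of_field] at hk
  have : (0 : ℕ) = k := by exact_mod_cast hk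
  omega

end local2

section stepC

variable (D : Type u) [CommRing D] [IsDomain D] [IsLocalRing D] [IsNoetherianRing D]

theorem stepC (hUC : CAlg.IsUniversallyCatenary D) (n : ℕ) (hdim : ringKrullDim D = n)
    (ih : ∀ m < n, ∀ (D' : Type u) [CommRing D'] [IsDomain D'] [IsLocalRing D']
      [IsNoetherianRing D'], CAlg.IsUniversallyCatenary D' → ringKrullDim D' = m →
      EGA4.IsEquidim (EGA4.Cpl D'))
    (P : Ideal (EGA4.Cpl D)) (hP : P ∈ minimalPrimes (EGA4.Cpl D)) (d : ℕ)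
    (hd : ringKrullDim (EGA4.Cpl D ⧸ P) = d) (hd2 : 2 ≤ d) : d = n := by
  classical
  haveI hPp : P.IsPrime := hP.1.1
  have hcatE : CAlg.IsCatenary (EGA4.Cpl D) := FormEquid.isCatenary_cpl D
  have hcatD : CAlg.IsCatenary D := hUC.2 D inferInstance
  have hmE : (maximalIdeal D).map (algebraMap D (EGA4.Cpl D)) = maximalIdeal (EGA4.Cpl D) :=
    FormEq.map_maximalIdeal_cpl D
  have hPne : P ≠ maximalIdeal (EGA4.Cpl D) :=
    ne_maximalIdeal_of_ringKrullDim (EGA4.Cpl D) P d hd (by omega)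
  -- the bad primes
  set ℬ : Set (Ideal (EGA4.Cpl D)) := {𝔟 | 𝔟 ≠ maximalIdeal (EGA4.Cpl D) ∧
    ∃ P' ∈ minimalPrimes (EGA4.Cpl D), P' ≠ P ∧ 𝔟 ∈ (P ⊔ P').minimalPrimes} with hℬ
  have hℬfin : ℬ.Finite := by
    have h1 : ℬ ⊆ ⋃ P' ∈ minimalPrimes (EGA4.Cpl D), (P ⊔ P').minimalPrimes := by
      rintro 𝔟 ⟨_, P', hP', _, h𝔟⟩
      exact Set.mem_biUnion hP' h𝔟
    exact (Set.Finite.biUnion (minimalPrimes.finite_of_isNoetherianRing _)
      (fun P' _ => Ideal.finite_minimalPrimes_of_isNoetherianRing _ _)).subset h1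
  have hℬprime : ∀ 𝔟 ∈ ℬ, 𝔟.IsPrime := fun 𝔟 h => by
    obtain ⟨_, P', _, _, h𝔟⟩ := h
    exact h𝔟.1.1
  have havoid : ∃ a ∈ maximalIdeal D, algebraMap D (EGA4.Cpl D) a ∉ P ∧
      ∀ 𝔟 ∈ ℬ, algebraMap D (EGA4.Cpl D) a ∉ 𝔟 := by
    by_contra hcon
    push Not at hcon
    have hsub : ((maximalIdeal D : Ideal D) : Set D) ⊆
        ⋃ 𝔟 ∈ insert P ℬ, ((𝔟.comap (algebraMap D (EGA4.Cpl D)) : Ideal D) : Set D) := by
      intro a ha
      by_cases haP : algebraMap D (EGA4.Cpl D) a ∈ P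
      · exact Set.mem_biUnion (Set.mem_insert _ _) haP
      · obtain ⟨𝔟, h𝔟, ha𝔟⟩ := hcon a ha haP
        exact Set.mem_biUnion (Set.mem_insert_of_mem _ h𝔟) ha𝔟
    have hprime : ∀ i ∈ insert P ℬ, i.IsPrime := by
      intro i hi
      rcases hi with rfl | hi
      · exact hPp
      · exact hℬprime i hi
    obtain ⟨𝔟, h𝔟, hle⟩ := (Ideal.subset_union_prime_finite (hℬfin.insert P)
      (f := fun 𝔟 => 𝔟.comap (algebraMap D (EGA4.Cpl D))) P P
      (fun i hi _ _ => by haveI := hprime i hi; exact Ideal.comap_isPrime _ _)).1 hsub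
    have h2 : maximalIdeal (EGA4.Cpl D) ≤ 𝔟 := by
      rw [← hmE, Ideal.map_le_iff_le_comap]
      exact hle
    have h𝔟p : 𝔟.IsPrime := hprime 𝔟 h𝔟
    have h3 : 𝔟 = maximalIdeal (EGA4.Cpl D) :=
      ((IsLocalRing.maximalIdeal.isMaximal _).eq_of_le h𝔟p.ne_top h2).symm
    rcases h𝔟 with rfl | h𝔟
    · exact hPne h3
    · exact h𝔟.1 h3
  obtain ⟨a, ham, haP, haℬ⟩ := havoid
  have haE : algebraMap D (EGA4.Cpl D) a ∈ maximalIdeal (EGA4.Cpl D) := by
    rw [← hmE]
    exact Ideal.mem_map_of_mem _ ham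
  have hle : P ⊔ Ideal.span {algebraMap D (EGA4.Cpl D) a} ≤ maximalIdeal (EGA4.Cpl D) :=
    sup_le (IsLocalRing.le_maximalIdeal hPp.ne_top) ((Ideal.span_singleton_le_iff_mem _).2 haE)
  obtain ⟨Q, hQmin, hQle⟩ := Ideal.exists_minimalPrimes_le hle
  haveI hQp : Q.IsPrime := hQmin.1.1
  have hcov := CatHt.covBy_of_mem_minimalPrimes (algebraMap D (EGA4.Cpl D) a) P Q haP hQmin
  have h6 := CatHt.ringKrullDim_quotient_of_covBy (EGA4.Cpl D) hcatE P Q hcov
  obtain ⟨dQ, hdQ⟩ := SerreReg.exists_ringKrullDim_eq_nat (EGA4.Cpl D ⧸ Q)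
  have hd' : d = dQ + 1 := by
    rw [hd, hdQ] at h6
    exact_mod_cast h6
  have hQne : Q ≠ maximalIdeal (EGA4.Cpl D) :=
    ne_maximalIdeal_of_ringKrullDim (EGA4.Cpl D) Q dQ hdQ (by omega)
  have haQ : algebraMap D (EGA4.Cpl D) a ∈ Q :=
    hQmin.1.2 (Ideal.mem_sup_right (Ideal.mem_span_singleton_self _))
  have hPQ : P ≤ Q := le_sup_left.trans hQmin.1.2
  -- `P` is the only minimal prime below `Q`
  have h7 : ∀ P' ∈ minimalPrimes (EGA4.Cpl D), P' ≤ Q → P' = P := by
    intro P' hP' hP'Q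
    by_contra hne
    have hsup : P ⊔ P' ≤ Q := sup_le hPQ hP'Q
    obtain ⟨𝔟, h𝔟min, h𝔟Q⟩ := Ideal.exists_minimalPrimes_le hsup
    haveI h𝔟p : 𝔟.IsPrime := h𝔟min.1.1
    have hP𝔟 : P ≤ 𝔟 := le_sup_left.trans h𝔟min.1.2
    have hP'𝔟 : P' ≤ 𝔟 := le_sup_right.trans h𝔟min.1.2
    have hne𝔟 : P ≠ 𝔟 := by
      intro h
      rw [← h] at hP'𝔟
      exact hne (le_antisymm hP'𝔟 (hP.2 ⟨hP'.1.1, bot_le⟩ hP'𝔟))
    have h𝔟eq : 𝔟 = Q := by
      by_contra hneQ
      exact hcov.2 (c := ⟨𝔟, h𝔟p⟩)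
        (lt_of_le_of_ne hP𝔟 (fun h => hne𝔟 (congrArg PrimeSpectrum.asIdeal h)))
        (lt_of_le_of_ne h𝔟Q (fun h => hneQ (congrArg PrimeSpectrum.asIdeal h)))
    have hQℬ : Q ∈ ℬ := ⟨hQne, P', hP', hne, h𝔟eq ▸ h𝔟min⟩
    exact haℬ Q hQℬ haQ
  -- the contraction
  set q : Ideal D := Q.comap (algebraMap D (EGA4.Cpl D)) with hq
  haveI hqp : q.IsPrime := Ideal.comap_isPrime _ _
  have haq : a ∈ q := haQ
  have hQq : Q ∈ (q.map (algebraMap D (EGA4.Cpl D))).minimalPrimes := by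
    obtain ⟨Q1, hQ1min, hQ1le⟩ := Ideal.exists_minimalPrimes_le
      (Ideal.map_comap_le : q.map (algebraMap D (EGA4.Cpl D)) ≤ Q)
    haveI hQ1p : Q1.IsPrime := hQ1min.1.1
    obtain ⟨P1', hP1'min, hP1'le⟩ := Ideal.exists_minimalPrimes_le
      (bot_le : (⊥ : Ideal (EGA4.Cpl D)) ≤ Q1)
    have hP1'eq : P1' = P := h7 P1' hP1'min (hP1'le.trans hQ1le)
    have hPQ1 : P ≤ Q1 := hP1'eq ▸ hP1'le
    have hQ1 : Q1 = Q := by
      by_contra hneQ
      have hlt2 : (⟨Q1, hQ1p⟩ : PrimeSpectrum (EGA4.Cpl D)) < ⟨Q, hQp⟩ :=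
        lt_of_le_of_ne hQ1le (fun h => hneQ (congrArg PrimeSpectrum.asIdeal h))
      have hPQ1eq : P = Q1 := by
        by_contra hneP
        exact hcov.2 (c := ⟨Q1, hQ1p⟩)
          (lt_of_le_of_ne hPQ1 (fun h => hneP (congrArg PrimeSpectrum.asIdeal h))) hlt2
      apply haP
      rw [hPQ1eq]
      exact hQ1min.1.2 (Ideal.mem_map_of_mem _ haq)
    rw [← hQ1]
    exact hQ1min
  -- heights
  obtain ⟨hunder, hht⟩ :=
    CatFlat.under_eq_and_height_eq_of_mem_minimalPrimes D (EGA4.Cpl D) q Q hQq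
  obtain ⟨m', hm'min, hm'le, hm'eq⟩ :=
    CatHt.exists_minimalPrimes_height_add (EGA4.Cpl D) hcatE Q
  have hm'P : m' = P := h7 m' hm'min hm'le
  rw [hm'P, hd, hdQ] at hm'eq
  have hhtQ : Q.height = 1 := by
    obtain ⟨hn, hhn⟩ := ENat.ne_top_iff_exists.mp (Ideal.height_ne_top hQp.ne_top)
    rw [← hhn] at hm'eq ⊢
    have h1 : hn + dQ = d := by exact_mod_cast hm'eq
    have h2 : hn = 1 := by omega
    rw [h2]
    rfl
  have hformD := CatHt.height_add_ringKrullDim_quotient D hcatD (CatHt.isEquidim_of_isDomain D) q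
  rw [← hht, hhtQ, hdim] at hformD
  obtain ⟨n', hn'⟩ := SerreReg.exists_ringKrullDim_eq_nat (D ⧸ q)
  rw [hn'] at hformD
  have hnn' : 1 + n' = n := by exact_mod_cast hformD
  -- induction hypothesis
  have hUCq := isUniversallyCatenary_quotient D hUC q
  have hfe : EGA4.IsFormallyEquidim (D ⧸ q) := ih n' (by omega) (D ⧸ q) hUCq hn'
  have h10 := (FormEq.isFormallyEquidim_quotient_iff D q).1 hfe Q hQq
  rw [hdQ, hn'] at h10
  have h11 : dQ = n' := by exact_mod_cast h10
  omega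

end stepC

section main

theorem isEquidim_cpl_of_isUniversallyCatenary : ∀ (n : ℕ) (D : Type u) [CommRing D] [IsDomain D]
    [IsLocalRing D] [IsNoetherianRing D], CAlg.IsUniversallyCatenary D → ringKrullDim D = n →
    EGA4.IsEquidim (EGA4.Cpl D) := by
  intro n
  induction n using Nat.strong_induction_on with
  | _ n ih =>
    intro D _ _ _ _ hUC hdim P hP
    haveI hPp : P.IsPrime := hP.1.1
    have hdimE : ringKrullDim (EGA4.Cpl D) = n := by rw [FormEq.ringKrullDim_cpl, hdim]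
    obtain ⟨d, hd⟩ := SerreReg.exists_ringKrullDim_eq_nat (EGA4.Cpl D ⧸ P)
    rw [hd, hdimE]
    have hle : d ≤ n := by
      have := ringKrullDim_quotient_le P
      rw [hd, hdimE] at this
      exact_mod_cast this
    suffices d = n by rw [this]
    by_contra hne
    have hlt : d < n := lt_of_le_of_ne hle hne
    by_cases hd2 : 2 ≤ d
    · exact hne (stepC D hUC n hdim ih P hP d hd hd2)
    · have hd1 : d ≤ 1 := by omega
      have hP1 := eq_or_eq_of_ringKrullDim_quotient_le_one (EGA4.Cpl D) P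
        (by rw [hd]; exact_mod_cast hd1)
      by_cases hn2 : 2 ≤ n
      · have hcat : CAlg.IsCatenary D[X] := hUC.2 D[X] inferInstance
        have hD : maximalIdeal D ≠ ⊥ := by
          intro h
          have h1 := IsLocalRing.maximalIdeal_height_eq_ringKrullDim (R := D)
          rw [h, Ideal.height_bot, hdim] at h1
          have : (0 : ℕ) = n := by exact_mod_cast h1
          omega
        have h2 := ringKrullDim_le_one_of_catenary D hcat hD P hP hP1
        rw [hdim] at h2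
        have : n ≤ 1 := by exact_mod_cast h2
        omega
      · have hn1 : n = 1 := by omega
        have hd0 : d = 0 := by omega
        have hPmax : P = maximalIdeal (EGA4.Cpl D) := by
          rcases hP1 (maximalIdeal (EGA4.Cpl D)) inferInstance
            (IsLocalRing.le_maximalIdeal hPp.ne_top) with h | h
          · exact h.symm
          · by_contra hPne
            have h1 : (⟨P, hPp⟩ : PrimeSpectrum (EGA4.Cpl D)) <
                ⟨maximalIdeal (EGA4.Cpl D), inferInstance⟩ :=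
              lt_of_le_of_ne (IsLocalRing.le_maximalIdeal hPp.ne_top)
                (fun h => hPne (congrArg PrimeSpectrum.asIdeal h))
            have h2 := CatHt.coheight_eq (EGA4.Cpl D) P
            rw [hd, hd0] at h2
            have h3 : Order.coheight (⟨P, hPp⟩ : PrimeSpectrum (EGA4.Cpl D)) = 0 := by
              exact_mod_cast h2.symm
            rw [Order.coheight_eq_zero] at h3
            exact absurd h1 h3.not_lt
        have h1 := IsLocalRing.maximalIdeal_height_eq_ringKrullDim (R := EGA4.Cpl D)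
        rw [← hPmax, Ideal.height_eq_zero_iff.mpr hP, hdimE, hn1] at h1
        have : (0 : ℕ) = 1 := by exact_mod_cast h1
        omega

/-- **Ratliff**: a universally catenary Noetherian local ring is formally catenary. -/
theorem isFormallyCatenary_of_isUniversallyCatenary (A : Type u) [CommRing A] [IsLocalRing A]
    [IsNoetherianRing A] (hA : CAlg.IsUniversallyCatenary A) : EGA4.IsFormallyCatenary A := by
  intro p hp
  obtain ⟨n, hn⟩ := SerreReg.exists_ringKrullDim_eq_nat (A ⧸ p)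
  exact isEquidim_cpl_of_isUniversallyCatenary n (A ⧸ p) (isUniversallyCatenary_quotient A hA p) hn

end main

end Groth.Agent.Lib.Helper18.Ratliff
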