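import Mathlib
import Groth.Agent.Lib.Helper18.SchDim2
import Groth.Agent.Lib.Helper18.Ratliff3
import Groth.Agent.Lib.Helper12.CatLocalDim
import Groth.Prelude.Def_Cyc

/-!
# Dimension functions along morphisms locally of finite type

* `isUniversallyCatenary_sections`
* `exists_cd_eq_of_dimFun` : ring level
* `isDimFun_of_deltaCompat` : Stacks 02JW
-/

set_option autoImplicit false
set_option linter.unusedSectionVars false
set_option linter.style.haveILetI false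
universe u v
open AlgebraicGeometry CategoryTheory TopologicalSpace

namespace Groth.Agent.Lib.Helper18.SchDim

open Groth.Agent.Lib.Helper12.Codim Groth.Agent.Lib.Helper18.DimFormula
open Groth.Agent.Lib.Helper21.ChartPt Groth.Agent.Lib.Helper20.DimTrdeg

section UC

theorem isUniversallyCatenary_of_ringEquiv {R R' : Type u} [CommRing R] [CommRing R']
    (e : R ≃+* R') (h : CAlg.IsUniversallyCatenary R) : CAlg.IsUniversallyCatenary R' := by
  letI : Algebra R R' := e.toRingHom.toAlgebra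
  haveI : Algebra.FiniteType R R' :=
    Algebra.FiniteType.of_surjective (Algebra.ofId R R') e.surjective
  exact Groth.Agent.Lib.Helper1.Catenary.isUniversallyCatenary_of_essFiniteType R R' h

/-- sections over an affine open of a locally Noetherian scheme with universally catenary local
rings form a universally catenary ring -/
theorem isUniversallyCatenary_sections {S : Scheme.{u}} [IsLocallyNoetherian S]
    (h : ∀ s : S, CAlg.IsUniversallyCatenary (S.presheaf.stalk s)) {V : S.Opens}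
    (hV : IsAffineOpen V) : CAlg.IsUniversallyCatenary Γ(S, V) := by
  haveI : IsNoetherianRing Γ(S, V) := IsLocallyNoetherian.component_noetherian ⟨V, hV⟩
  rw [isUniversallyCatenary_iff_localization_maximal]
  intro m hm
  let y : PrimeSpectrum Γ(S, V) := ⟨m, hm.isPrime⟩
  have hy : hV.fromSpec y ∈ V := (hV.isoSpec.inv _).2
  letI : Algebra Γ(S, V) (S.presheaf.stalk (hV.fromSpec y)) :=
    TopCat.Presheaf.algebra_section_stalk S.presheaf ⟨hV.fromSpec y, hy⟩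
  haveI : IsLocalization.AtPrime (S.presheaf.stalk (hV.fromSpec y)) m :=
    hV.isLocalization_stalk' y hy
  let e : S.presheaf.stalk (hV.fromSpec y) ≃+* Localization.AtPrime m :=
    (IsLocalization.algEquiv m.primeCompl (S.presheaf.stalk (hV.fromSpec y))
      (Localization.AtPrime m)).toRingEquiv
  exact isUniversallyCatenary_of_ringEquiv e (h _)

end UC

section RingLevel

theorem exists_cd_eq_of_dimFun (A B : Type u) [CommRing A] [CommRing B] [Algebra A B]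
    [IsNoetherianRing A] [Algebra.FiniteType A B] (hA : CAlg.IsUniversallyCatenary A)
    (d : PrimeSpectrum A → ℤ) (hd : StrictMono d)
    (hcov : ∀ a b : PrimeSpectrum A, a ⋖ b → d b = d a + 1)
    (Q₁ Q₂ : Ideal B) [h1 : Q₁.IsPrime] [h2 : Q₂.IsPrime] (h : Q₁ ≤ Q₂)
    (𝔭₁ 𝔭₂ : Ideal A) [hp1 : 𝔭₁.IsPrime] [hp2 : 𝔭₂.IsPrime] [Q₁.LiesOver 𝔭₁] [Q₂.LiesOver 𝔭₂]
    (n₁ n₂ : ℕ)
    (hn₁ : Algebra.trdeg (A ⧸ 𝔭₁) (B ⧸ Q₁) = n₁)
    (hn₂ : Algebra.trdeg (A ⧸ 𝔭₂) (B ⧸ Q₂) = n₂) :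
    ∃ c : ℕ, cd (⟨Q₁, h1⟩ : PrimeSpectrum B) ⟨Q₂, h2⟩ = c ∧
      (c : ℤ) + n₂ = d ⟨𝔭₂, hp2⟩ - d ⟨𝔭₁, hp1⟩ + n₁ := by
  have hle : (⟨𝔭₁, hp1⟩ : PrimeSpectrum A) ≤ ⟨𝔭₂, hp2⟩ := by
    change 𝔭₁ ≤ 𝔭₂
    rw [Ideal.over_def Q₁ 𝔭₁, Ideal.over_def Q₂ 𝔭₂]
    exact Ideal.comap_mono h
  have key := cd_add_trdeg_eq A B
    (fun P _ S _ _ _ _ _ p _ q _ _ =>
      dim_formula (A ⧸ P) (Ratliff.isUniversallyCatenary_quotient A hA P) S p q)
    Q₁ Q₂ h 𝔭₁ 𝔭₂
  rw [hn₁, hn₂, (isCat_of_dimFun d hd hcov).2 _ _ hle] at key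
  have hmono : d ⟨𝔭₁, hp1⟩ ≤ d ⟨𝔭₂, hp2⟩ := hd.monotone hle
  have key' : cd (⟨Q₁, h1⟩ : PrimeSpectrum B) ⟨Q₂, h2⟩ + (n₂ : ℕ∞) =
      (((d ⟨𝔭₂, hp2⟩ - d ⟨𝔭₁, hp1⟩).toNat : ℕ) : ℕ∞) + (n₁ : ℕ∞) := by
    have h' := key
    rw [← Cardinal.ofENat_nat n₁, ← Cardinal.ofENat_nat n₂, ← Cardinal.ofENat_add,
      ← Cardinal.ofENat_add, Cardinal.ofENat_inj] at h'
    exact h'
  have hfin : cd (⟨Q₁, h1⟩ : PrimeSpectrum B) ⟨Q₂, h2⟩ ≠ ⊤ := by
    intro htop
    rw [htop, top_add] at key'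
    exact ENat.top_ne_natCast _ (key'.trans (by rw [← Nat.cast_add]))
  obtain ⟨c, hc⟩ := ENat.ne_top_iff_exists.mp hfin
  refine ⟨c, hc.symm, ?_⟩
  rw [← hc] at key'
  have : c + n₂ = (d ⟨𝔭₂, hp2⟩ - d ⟨𝔭₁, hp1⟩).toNat + n₁ := by exact_mod_cast key'
  omega

end RingLevel

section SchemeLevel

variable {X S : Scheme.{u}} (f : X ⟶ S) [LocallyOfFiniteType f]

/-- **Stacks 02JW**: the induced function `δ_X(x) = δ(f x) + trdeg κ(x)/κ(f x)` is a dimension
function. -/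
theorem isDimFun_of_deltaCompat (δ : S → ℤ) (hS : Cyc.IsSetup S δ) (δX : X → ℤ)
    (hδ : Cyc.DeltaCompat f δX δ) : Cyc.IsDimFun X δX := by
  obtain ⟨hN, hUC, hdim⟩ := hS
  haveI := hN
  intro x y hsp hne
  obtain ⟨V, hV, hyV, -⟩ := Opens.isBasis_iff_nbhd.mp S.isBasis_affineOpens
    (show f y ∈ (⊤ : S.Opens) from trivial)
  have hV : IsAffineOpen V := hV
  obtain ⟨U, hU, hyU, e⟩ := Opens.isBasis_iff_nbhd.mp X.isBasis_affineOpens
    (show y ∈ f ⁻¹ᵁ V from hyV)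
  have hU : IsAffineOpen U := hU
  have hxU : x ∈ U := hsp.mem_open U.2 hyU
  letI alg : Algebra Γ(S, V) Γ(X, U) := (f.appLE V U e).hom.toAlgebra
  haveI : IsNoetherianRing Γ(S, V) := IsLocallyNoetherian.component_noetherian ⟨V, hV⟩
  haveI : Algebra.FiniteType Γ(S, V) Γ(X, U) :=
    HasRingHomProperty.appLE (P := @LocallyOfFiniteType) f inferInstance ⟨V, hV⟩ ⟨U, hU⟩ e
  have hA := isUniversallyCatenary_sections hUC hV
  -- the dimension function on Spec A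
  let d : PrimeSpectrum Γ(S, V) → ℤ := fun P => - δ (hV.fromSpec P)
  have hmemV : ∀ P : PrimeSpectrum Γ(S, V), hV.fromSpec P ∈ V := fun P => (hV.isoSpec.inv _).2
  have hprime : ∀ P : PrimeSpectrum Γ(S, V), hV.primeIdealOf ⟨hV.fromSpec P, hmemV P⟩ = P :=
    fun P => hV.fromSpec.isOpenEmbedding.injective (hV.fromSpec_primeIdealOf ⟨_, hmemV P⟩)
  have hspec : ∀ P P' : PrimeSpectrum Γ(S, V), P ≤ P' ↔ hV.fromSpec P ⤳ hV.fromSpec P' := by
    intro P P'
    rw [specializes_iff_primeIdealOf_le hV ⟨_, hmemV P⟩ ⟨_, hmemV P'⟩, hprime, hprime]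
    rfl
  have hd : StrictMono d := by
    intro P P' hlt
    have hsp' := (hspec P P').1 hlt.le
    have hne' : hV.fromSpec P ≠ hV.fromSpec P' :=
      fun h => hlt.ne (hV.fromSpec.isOpenEmbedding.injective h)
    have := (hdim _ _ hsp' hne').1
    simp only [d]
    omega
  have hcov : ∀ a b : PrimeSpectrum Γ(S, V), a ⋖ b → d b = d a + 1 := by
    intro a b hab
    have hsp' := (hspec a b).1 hab.le
    have hne' : hV.fromSpec a ≠ hV.fromSpec b :=
      fun h => hab.lt.ne (hV.fromSpec.isOpenEmbedding.injective h)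
    have := (hdim _ _ hsp' hne').2 (by
      intro z hz1 hz2
      have hzV : z ∈ V := hz2.mem_open V.2 (hmemV b)
      have hz : hV.fromSpec (hV.primeIdealOf ⟨z, hzV⟩) = z := hV.fromSpec_primeIdealOf ⟨z, hzV⟩
      rw [← hz] at hz1 hz2 ⊢
      rw [← hspec] at hz1 hz2
      rcases eq_or_lt_of_le hz1 with h1 | h1
      · left; rw [← h1]
      · right
        rcases eq_or_lt_of_le hz2 with h2 | h2
        · rw [h2]
        · exact absurd h2 (hab.2 h1))
    simp only [d]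
    omega
  -- the primes of x and y
  set qx := hU.primeIdealOf ⟨x, hxU⟩ with hqx
  set qy := hU.primeIdealOf ⟨y, hyU⟩ with hqy
  have hle : qx.asIdeal ≤ qy.asIdeal :=
    (specializes_iff_primeIdealOf_le hU ⟨x, hxU⟩ ⟨y, hyU⟩).1 hsp
  have hlt : qx < qy := by
    refine lt_of_le_of_ne hle (fun h => hne ?_)
    have h1 := hU.fromSpec_primeIdealOf ⟨x, hxU⟩
    have h2 := hU.fromSpec_primeIdealOf ⟨y, hyU⟩
    rw [← hqx] at h1
    rw [← hqy, ← h] at h2
    exact h1.symm.trans h2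
  haveI : (qx.asIdeal.under Γ(S, V)).IsPrime := Ideal.comap_isPrime _ _
  haveI : (qy.asIdeal.under Γ(S, V)).IsPrime := Ideal.comap_isPrime _ _
  haveI : qx.asIdeal.LiesOver (qx.asIdeal.under Γ(S, V)) := ⟨rfl⟩
  haveI : qy.asIdeal.LiesOver (qy.asIdeal.under Γ(S, V)) := ⟨rfl⟩
  obtain ⟨nx, hnx, hδx⟩ := hδ x
  obtain ⟨ny, hny, hδy⟩ := hδ y
  rw [trdeg_residueField f hU hV e x hxU] at hnx
  rw [trdeg_residueField f hU hV e y hyU] at hny
  obtain ⟨c, hc, hcz⟩ := exists_cd_eq_of_dimFun Γ(S, V) Γ(X, U) hA d hd hcov qx.asIdeal qy.asIdeal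
    hle (qx.asIdeal.under Γ(S, V)) (qy.asIdeal.under Γ(S, V)) nx ny hnx hny
  have hdx : d ⟨qx.asIdeal.under Γ(S, V), inferInstance⟩ = - δ (f x) := by
    have : (⟨qx.asIdeal.under Γ(S, V), inferInstance⟩ : PrimeSpectrum Γ(S, V)) =
        hV.primeIdealOf ⟨f x, e hxU⟩ :=
      PrimeSpectrum.ext (comap_primeIdealOf f hU hV e x hxU)
    rw [this]
    simp only [d]
    rw [hV.fromSpec_primeIdealOf ⟨f x, e hxU⟩]
  have hdy : d ⟨qy.asIdeal.under Γ(S, V), inferInstance⟩ = - δ (f y) := by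
    have : (⟨qy.asIdeal.under Γ(S, V), inferInstance⟩ : PrimeSpectrum Γ(S, V)) =
        hV.primeIdealOf ⟨f y, e hyU⟩ :=
      PrimeSpectrum.ext (comap_primeIdealOf f hU hV e y hyU)
    rw [this]
    simp only [d]
    rw [hV.fromSpec_primeIdealOf ⟨f y, e hyU⟩]
  rw [hdx, hdy] at hcz
  have hc' : cd qx qy = c := hc
  have h1c : 1 ≤ c := by
    have := one_le_cd_of_lt hlt
    rw [hc'] at this
    exact_mod_cast this
  refine ⟨by omega, fun himm => ?_⟩
  have hcovxy : qx ⋖ qy := by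
    refine ⟨hlt, fun Q hQ1 hQ2 => ?_⟩
    have hzU : hU.fromSpec Q ∈ U := (hU.isoSpec.inv _).2
    have hQ : hU.primeIdealOf ⟨hU.fromSpec Q, hzU⟩ = Q :=
      hU.fromSpec.isOpenEmbedding.injective (hU.fromSpec_primeIdealOf ⟨_, hzU⟩)
    have hs1 : x ⤳ hU.fromSpec Q := by
      rw [specializes_iff_primeIdealOf_le hU ⟨x, hxU⟩ ⟨_, hzU⟩, hQ]
      exact hQ1.le
    have hs2 : hU.fromSpec Q ⤳ y := by
      rw [specializes_iff_primeIdealOf_le hU ⟨_, hzU⟩ ⟨y, hyU⟩, hQ]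
      exact hQ2.le
    rcases himm _ hs1 hs2 with h | h
    · apply hQ1.ne
      rw [← hQ, hqx]
      congr 1
      exact Subtype.ext h.symm
    · apply hQ2.ne
      rw [← hQ, hqy]
      congr 1
      exact Subtype.ext h
  have : cd qx qy = 1 := cd_of_covBy hcovxy
  rw [hc'] at this
  have : c = 1 := by exact_mod_cast this
  omega

end SchemeLevel

end Groth.Agent.Lib.Helper18.SchDim
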