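import Mathlib
import Groth.Agent.Lib.Helper18.SchDim4

/-!
# Dimension theory over Jacobson universally catenary bases (EGA IV 10.6.1), part 1
-/

set_option autoImplicit false
set_option linter.unusedSectionVars false
set_option linter.style.haveILetI false
universe u v
open AlgebraicGeometry CategoryTheory TopologicalSpace

namespace Groth.Agent.Lib.Helper18.JacDim

open Groth.Agent.Lib.Helper12.Codim
open Groth.Agent.Lib.Helper21.ChartPt

section Top

variable {X : Type u} [TopologicalSpace X]

/-- a chain of irreducible closed subsets inside a closed subset bounds its dimension -/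
theorem length_le_topologicalKrullDim_of_subset (C : Set X) (hC : IsClosed C)
    (s : LTSeries (IrreducibleCloseds X)) (hs : (s.last : Set X) ⊆ C) :
    (s.length : WithBot ℕ∞) ≤ topologicalKrullDim C := by
  have hmem : ∀ i, s i ∈ Set.range (subEmb C) := by
    intro i
    refine mem_range_subEmb isOpen_univ hC (Set.univ_inter C).symm (s i) ?_ ?_
    · exact (show (s i : Set X) ⊆ s.last from s.monotone (Fin.le_last i)).trans hs
    · rw [Set.inter_univ]; exact (s i).isIrreducible.nonempty
  obtain ⟨t, ht⟩ := exists_lift (subEmb C) s hmem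
  have hlen : t.length = s.length := by rw [← ht, LTSeries.map_length]
  rw [← hlen]
  exact Order.LTSeries.length_le_krullDim t

/-- every irreducible closed subset lies in an irreducible component -/
theorem exists_irreducibleComponent_superset (Z : Set X) (hZ : IsIrreducible Z) :
    ∃ X' ∈ irreducibleComponents X, Z ⊆ X' := by
  obtain ⟨t, ht, hZt, hmax⟩ := exists_preirreducible Z hZ.isPreirreducible
  refine ⟨t, ⟨⟨hZ.nonempty.mono hZt, ht⟩, fun u hu htu => ?_⟩, hZt⟩
  rw [hmax u hu.isPreirreducible htu]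

end Top

section Scheme

variable {X : Scheme.{u}} [IsLocallyNoetherian X]

/-- a dense open subset of a locally Noetherian scheme contains the generic point of every
irreducible component -/
theorem genericPoint_mem_of_dense (X' : Set X) (hX' : X' ∈ irreducibleComponents (X : Type u))
    (ξ : X) (hξ : IsGenericPoint ξ X') (U : Set X) (hU : IsOpen U) (hd : Dense U) : ξ ∈ U := by
  obtain ⟨W, hW, hξW, -⟩ := Opens.isBasis_iff_nbhd.mp X.isBasis_affineOpens
    (show ξ ∈ (⊤ : X.Opens) from trivial)
  have hW : IsAffineOpen W := hW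
  haveI : IsNoetherianRing Γ(X, W) := IsLocallyNoetherian.component_noetherian ⟨W, hW⟩
  set p := hW.primeIdealOf ⟨ξ, hξW⟩ with hp
  have hmemW : ∀ P : PrimeSpectrum Γ(X, W), hW.fromSpec P ∈ W := fun P => (hW.isoSpec.inv _).2
  have hprime : ∀ P : PrimeSpectrum Γ(X, W), hW.primeIdealOf ⟨hW.fromSpec P, hmemW P⟩ = P :=
    fun P => hW.fromSpec.isOpenEmbedding.injective (hW.fromSpec_primeIdealOf ⟨_, hmemW P⟩)
  have hmin : p.asIdeal ∈ minimalPrimes Γ(X, W) := by
    refine ⟨⟨p.isPrime, bot_le⟩, fun P hP hPp => ?_⟩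
    haveI : P.IsPrime := hP.1
    let z : X := hW.fromSpec ⟨P, hP.1⟩
    have hzξ : z ⤳ ξ := by
      rw [specializes_iff_primeIdealOf_le hW ⟨z, hmemW _⟩ ⟨ξ, hξW⟩, hprime]
      exact hPp
    have h1 : X' ⊆ closure {z} := by
      rw [← hξ.def]
      exact closure_minimal (Set.singleton_subset_iff.2 hzξ.mem_closure) isClosed_closure
    have h2 : closure {z} ⊆ X' := hX'.2 isIrreducible_singleton.closure h1
    have hξz : ξ ⤳ z := by
      rw [specializes_iff_mem_closure, hξ.def]
      exact h2 (subset_closure rfl)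
    have := (specializes_iff_primeIdealOf_le hW ⟨ξ, hξW⟩ ⟨z, hmemW _⟩).1 hξz
    rw [hprime] at this
    exact this
  have hcomp : PrimeSpectrum.zeroLocus (p.asIdeal : Set Γ(X, W)) ∈
      irreducibleComponents (PrimeSpectrum Γ(X, W)) := by
    rw [PrimeSpectrum.zeroLocus_ideal_mem_irreducibleComponents, p.isPrime.radical]
    exact hmin
  obtain ⟨o, ho, hone, hsub⟩ :=
    NoetherianSpace.exists_isOpen_nonempty_subset_irreducibleComponent _ hcomp
  have hopen : IsOpen (hW.fromSpec '' o) := hW.fromSpec.isOpenEmbedding.isOpenMap o ho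
  have key : ∀ P : PrimeSpectrum Γ(X, W), P ∈ o → hW.fromSpec P ∈ U → ξ ∈ U := by
    intro P hPo huU
    have hsp : ξ ⤳ hW.fromSpec P := by
      rw [specializes_iff_primeIdealOf_le hW ⟨ξ, hξW⟩ ⟨_, hmemW P⟩, hprime]
      exact hsub hPo
    exact hsp.mem_open hU huU
  obtain ⟨u, ⟨P, hPo, hPu⟩, huU⟩ := hd.inter_open_nonempty _ hopen (hone.image _)
  exact key P hPo (by rw [hPu]; exact huU)

/-- **EGA IV 10.6.1 (i)**. -/
theorem topologicalKrullDim_dense_open [JacobsonSpace X]
    (h3 : ∀ X' ∈ irreducibleComponents (X : Type u), ∀ x ∈ X', IsClosed ({x} : Set X) →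
      topologicalKrullDim (↥X' : Type u) = topologicalKrullDim ↥{t : X | t ∈ X' ∧ t ⤳ x})
    (U : Set X) (hU : IsOpen U) (hd : Dense U) :
    topologicalKrullDim ↥U = topologicalKrullDim X := by
  apply le_antisymm (topologicalKrullDim_subspace_le X U)
  unfold topologicalKrullDim
  rw [Order.krullDim]
  apply iSup_le
  intro s
  obtain ⟨X', hX', hsX'⟩ := exists_irreducibleComponent_superset (s.last : Set X)
    s.last.isIrreducible
  have hX'cl : IsClosed X' := isClosed_of_mem_irreducibleComponents X' hX'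
  have h1 := length_le_topologicalKrullDim_of_subset X' hX'cl s hsX'
  refine h1.trans ?_
  -- the generic point of X' lies in U
  have hirr : IsIrreducible X' := hX'.1
  obtain ⟨ξ, hξ⟩ := QuasiSober.sober hirr hX'cl
  have hξU : ξ ∈ U := genericPoint_mem_of_dense X' hX' ξ hξ U hU hd
  have hξX' : ξ ∈ X' := hξ.mem
  obtain ⟨x₀, ⟨hx₀X', hx₀U⟩, hx₀cl⟩ := nonempty_inter_closedPoints (Z := X' ∩ U)
    ⟨ξ, hξX', hξU⟩ (hX'cl.isLocallyClosed.inter hU.isLocallyClosed)
  rw [h3 X' hX' x₀ hx₀X' hx₀cl]
  have hsub : {t : X | t ∈ X' ∧ t ⤳ x₀} ⊆ U := fun t ht => ht.2.mem_open hU hx₀U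
  exact (Topology.IsEmbedding.inclusion hsub).isInducing.topologicalKrullDim_le

end Scheme

end Groth.Agent.Lib.Helper18.JacDim
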