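import Mathlib
import Groth.Agent.Lib.Helper18.JacDim1

/-!
# Dimension of spaces of generizations

* `quasiSober_inter`: `C ∩ G` is quasi-sober when `C` is closed and `G` is stable under
  generization.
* `krullDim_Icc_eq_cd`
* `topologicalKrullDim_generizations_eq_cd`: in a chart, `dim {t ∈ cl{σ} | t ⤳ s} = cd(p_σ,p_s)`.
-/

set_option autoImplicit false
set_option linter.unusedSectionVars false
set_option linter.style.haveILetI false
universe u v
open AlgebraicGeometry CategoryTheory TopologicalSpace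

namespace Groth.Agent.Lib.Helper18.JacDim

open Groth.Agent.Lib.Helper12.Codim
open Groth.Agent.Lib.Helper21.ChartPt

section Top

variable {X : Type u} [TopologicalSpace X]

/-- the intersection of a closed set and a generization-stable set is quasi-sober -/
theorem quasiSober_inter [QuasiSober X] (C G : Set X) (hC : IsClosed C)
    (hG : ∀ a b : X, a ⤳ b → b ∈ G → a ∈ G) : QuasiSober ↥(C ∩ G) := by
  refine ⟨fun {Z} hZ hZcl => ?_⟩
  have hZ' : IsIrreducible (Subtype.val '' Z : Set X) :=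
    hZ.image _ continuous_subtype_val.continuousOn
  obtain ⟨c, hc⟩ := QuasiSober.sober hZ'.closure isClosed_closure
  have hcdef : closure ({c} : Set X) = closure (Subtype.val '' Z) := hc.def
  have hsubC : closure (Subtype.val '' Z : Set X) ⊆ C := by
    apply closure_minimal _ hC
    rintro _ ⟨z, _, rfl⟩
    exact z.2.1
  have hcC : c ∈ C := hsubC (hcdef ▸ subset_closure rfl)
  obtain ⟨z, hz⟩ := hZ.nonempty
  have hcz : c ⤳ (z : X) := by
    rw [specializes_iff_mem_closure, hcdef]
    exact subset_closure ⟨z, hz, rfl⟩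
  have hcG : c ∈ G := hG c z hcz z.2.2
  refine ⟨⟨c, hcC, hcG⟩, ?_⟩
  change closure {(⟨c, hcC, hcG⟩ : ↥(C ∩ G))} = Z
  rw [Topology.IsInducing.subtypeVal.closure_eq_preimage_closure_image, Set.image_singleton,
    hcdef, ← Topology.IsInducing.subtypeVal.closure_eq_preimage_closure_image, hZcl.closure_eq]

/-- dimension of a sober space via the specialization order -/
theorem topologicalKrullDim_eq_krullDim_specialization (T : Type u) [TopologicalSpace T]
    [QuasiSober T] [T0Space T] :
    topologicalKrullDim T = @Order.krullDim T (specializationPreorder T) := by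
  let _ := specializationOrder T
  exact Order.krullDim_eq_of_orderIso (irreducibleSetEquivPoints (α := T))

end Top

section Poset

variable {P : Type u} [PartialOrder P]

/-- the Krull dimension of an interval is the codimension -/
theorem krullDim_Icc_eq_cd (a b : P) (hab : a ≤ b) :
    Order.krullDim (Set.Icc a b) = ((cd a b : ℕ∞) : WithBot ℕ∞) := by
  apply le_antisymm
  · rw [Order.krullDim]
    apply iSup_le
    intro l
    have hmono : StrictMono (Subtype.val : Set.Icc a b → P) := fun _ _ h => h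
    have hlast : (l.map Subtype.val hmono).last ≤ b := by
      rw [LTSeries.last_map]; exact l.last.2.2
    have hhead : a ≤ (l.map Subtype.val hmono).head := by
      rw [LTSeries.head_map]; exact l.head.2.1
    have hlen : (l.map Subtype.val hmono).length = l.length := LTSeries.map_length _ _ _
    rcases eq_or_lt_of_le hhead with h | h
    · have := le_cd (l.map Subtype.val hmono) h.symm hlast
      rw [hlen] at this
      exact_mod_cast this
    · have := le_cd (b := b) ((l.map Subtype.val hmono).cons a h) (RelSeries.head_cons _ _ _) (by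
        rw [RelSeries.last_cons]; exact hlast)
      rw [RelSeries.cons_length, hlen] at this
      have h3 : ((l.length : ℕ) : ℕ∞) ≤ ((l.length + 1 : ℕ) : ℕ∞) := by
        exact_mod_cast Nat.le_succ l.length
      have h2 : (l.length : ℕ∞) ≤ cd a b := le_trans h3 this
      exact_mod_cast h2
  · haveI : Nonempty (Set.Icc a b) := ⟨⟨a, le_rfl, hab⟩⟩
    have hne : Order.krullDim (Set.Icc a b) ≠ ⊥ :=
      ne_bot_of_le_ne_bot (by simp) (Order.krullDim_nonneg (α := Set.Icc a b))
    obtain ⟨k, hk⟩ := WithBot.ne_bot_iff_exists.1 hne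
    rw [← hk, WithBot.coe_le_coe, cd_le_iff]
    intro s h1 h2
    let l : LTSeries (Set.Icc a b) := LTSeries.mk s.length
      (fun i => ⟨s i, by rw [← h1]; exact s.monotone (Fin.zero_le i),
        (s.monotone (Fin.le_last i)).trans h2⟩)
      (fun i j hij => s.strictMono hij)
    have := Order.LTSeries.length_le_krullDim l
    rw [← hk] at this
    exact_mod_cast this

end Poset

section Chart

variable {S : Scheme.{u}} {V : S.Opens} (hV : IsAffineOpen V)

/-- In a chart: `dim {t ∈ cl{σ} | t ⤳ s} = cd(p_σ, p_s)`. -/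
theorem topologicalKrullDim_generizations_eq_cd (σ s : S) (hs : s ∈ V) (hσV : σ ∈ V)
    (hσs : σ ⤳ s) :
    topologicalKrullDim ↥{t : S | t ∈ closure {σ} ∧ t ⤳ s} =
      ((cd (hV.primeIdealOf ⟨σ, hσV⟩) (hV.primeIdealOf ⟨s, hs⟩) : ℕ∞) : WithBot ℕ∞) := by
  have hle : hV.primeIdealOf ⟨σ, hσV⟩ ≤ hV.primeIdealOf ⟨s, hs⟩ :=
    (specializes_iff_primeIdealOf_le hV ⟨σ, hσV⟩ ⟨s, hs⟩).1 hσs
  have hT : {t : S | t ∈ closure {σ} ∧ t ⤳ s} = closure {σ} ∩ {t : S | t ⤳ s} := rfl
  haveI : QuasiSober ↥{t : S | t ∈ closure {σ} ∧ t ⤳ s} := by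
    rw [hT]
    exact quasiSober_inter (closure {σ}) {t : S | t ⤳ s} isClosed_closure
      (fun a b hab hb => hab.trans hb)
  rw [topologicalKrullDim_eq_krullDim_specialization, ← krullDim_Icc_eq_cd _ _ hle,
    ← Order.krullDim_orderDual
      (α := Set.Icc (hV.primeIdealOf ⟨σ, hσV⟩) (hV.primeIdealOf ⟨s, hs⟩))]
  have hmemV : ∀ P : PrimeSpectrum Γ(S, V), hV.fromSpec P ∈ V := fun P => (hV.isoSpec.inv _).2
  have hprime : ∀ P : PrimeSpectrum Γ(S, V), hV.primeIdealOf ⟨hV.fromSpec P, hmemV P⟩ = P :=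
    fun P => hV.fromSpec.isOpenEmbedding.injective (hV.fromSpec_primeIdealOf ⟨_, hmemV P⟩)
  have htV : ∀ t : ↥{t : S | t ∈ closure {σ} ∧ t ⤳ s}, (t : S) ∈ V :=
    fun t => t.2.2.mem_open V.2 hs
  let e : @OrderIso ↥{t : S | t ∈ closure {σ} ∧ t ⤳ s}
      (Set.Icc (hV.primeIdealOf ⟨σ, hσV⟩) (hV.primeIdealOf ⟨s, hs⟩))ᵒᵈ
      (specializationPreorder _).toLE _ :=
    { toFun := fun t => OrderDual.toDual ⟨hV.primeIdealOf ⟨t, htV t⟩,
        (specializes_iff_primeIdealOf_le hV ⟨σ, hσV⟩ ⟨t, htV t⟩).1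
          (specializes_iff_mem_closure.2 t.2.1),
        (specializes_iff_primeIdealOf_le hV ⟨t, htV t⟩ ⟨s, hs⟩).1 t.2.2⟩
      invFun := fun P => ⟨hV.fromSpec (OrderDual.ofDual P).1, by
        constructor
        · rw [← specializes_iff_mem_closure,
            specializes_iff_primeIdealOf_le hV ⟨σ, hσV⟩ ⟨_, hmemV _⟩, hprime]
          exact (OrderDual.ofDual P).2.1
        · show hV.fromSpec (OrderDual.ofDual P).1 ⤳ s
          rw [specializes_iff_primeIdealOf_le hV ⟨_, hmemV _⟩ ⟨s, hs⟩, hprime]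
          exact (OrderDual.ofDual P).2.2⟩
      left_inv := fun t => Subtype.ext (hV.fromSpec_primeIdealOf ⟨t, htV t⟩)
      right_inv := fun P => by
        apply OrderDual.ofDual.injective
        apply Subtype.ext
        exact hprime _
      map_rel_iff' := by
        intro t t'
        change hV.primeIdealOf ⟨t', htV t'⟩ ≤ hV.primeIdealOf ⟨t, htV t⟩ ↔ t' ⤳ t
        rw [subtype_specializes_iff, specializes_iff_primeIdealOf_le hV ⟨t', htV t'⟩ ⟨t, htV t⟩]
        rfl }
  exact @Order.krullDim_eq_of_orderIso _ _ (specializationPreorder _) _ e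

end Chart


section Cat

variable {S : Scheme.{u}}

/-- the dimension of the space of generizations of `s` inside the closure of `σ` -/
noncomputable def genDim (σ s : S) : WithBot ℕ∞ :=
  topologicalKrullDim ↥{t : S | t ∈ closure {σ} ∧ t ⤳ s}

theorem genDim_eq_cd {V : S.Opens} (hV : IsAffineOpen V) (σ s : S) (hs : s ∈ V) (hσV : σ ∈ V)
    (hσs : σ ⤳ s) :
    genDim σ s =
      ((cd (hV.primeIdealOf ⟨σ, hσV⟩) (hV.primeIdealOf ⟨s, hs⟩) : ℕ∞) : WithBot ℕ∞) :=
  topologicalKrullDim_generizations_eq_cd hV σ s hs hσV hσs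

variable [IsLocallyNoetherian S]

/-- additivity of `genDim` on a scheme with universally catenary local rings -/
theorem genDim_add (h2 : ∀ s : S, CAlg.IsUniversallyCatenary (S.presheaf.stalk s))
    (σ' σ s : S) (h1 : σ' ⤳ σ) (h1' : σ ⤳ s) :
    genDim σ' s = genDim σ' σ + genDim σ s ∧ ∃ n : ℕ, genDim σ' σ = n := by
  obtain ⟨V, hV, hsV, -⟩ := Opens.isBasis_iff_nbhd.mp S.isBasis_affineOpens
    (show s ∈ (⊤ : S.Opens) from trivial)
  have hV : IsAffineOpen V := hV
  have hσV : σ ∈ V := h1'.mem_open V.2 hsV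
  have hσ'V : σ' ∈ V := h1.mem_open V.2 hσV
  haveI : IsNoetherianRing Γ(S, V) := IsLocallyNoetherian.component_noetherian ⟨V, hV⟩
  have hA := Groth.Agent.Lib.Helper18.SchDim.isUniversallyCatenary_sections h2 hV
  have hcat : CAlg.IsCatenary Γ(S, V) := hA.2 Γ(S, V) inferInstance
  have hcat' := isCat_iff.1 (isCat_iff_catForm.2 hcat)
  have hle1 : hV.primeIdealOf ⟨σ', hσ'V⟩ ≤ hV.primeIdealOf ⟨σ, hσV⟩ :=
    (specializes_iff_primeIdealOf_le hV ⟨σ', hσ'V⟩ ⟨σ, hσV⟩).1 h1
  have hle2 : hV.primeIdealOf ⟨σ, hσV⟩ ≤ hV.primeIdealOf ⟨s, hsV⟩ :=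
    (specializes_iff_primeIdealOf_le hV ⟨σ, hσV⟩ ⟨s, hsV⟩).1 h1'
  rw [genDim_eq_cd hV σ' s hsV hσ'V (h1.trans h1'), genDim_eq_cd hV σ' σ hσV hσ'V h1,
    genDim_eq_cd hV σ s hsV hσV h1', hcat'.2 _ _ _ hle1 hle2]
  refine ⟨by push_cast; rfl, ?_⟩
  obtain ⟨n, hn⟩ := ENat.ne_top_iff_exists.mp (hcat'.1 _ _ hle1)
  exact ⟨n, by rw [← hn]; rfl⟩

/-- **Equicodimensionality of irreducible closed subsets**: on a locally Noetherian scheme with
universally catenary local rings whose irreducible components are equicodimensional, the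
codimension of a closed point in an irreducible closed subset does not depend on the closed
point. -/
theorem genDim_eq_of_isClosed (h2 : ∀ s : S, CAlg.IsUniversallyCatenary (S.presheaf.stalk s))
    (h3 : ∀ S' ∈ irreducibleComponents (S : Type u), ∀ s ∈ S', IsClosed ({s} : Set S) →
      topologicalKrullDim (↥S' : Type u) = topologicalKrullDim ↥{t : S | t ∈ S' ∧ t ⤳ s})
    (σ s s' : S) (hs : σ ⤳ s) (hs' : σ ⤳ s') (hcl : IsClosed ({s} : Set S))
    (hcl' : IsClosed ({s'} : Set S)) : genDim σ s = genDim σ s' := by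
  obtain ⟨S', hS', hsub⟩ := exists_irreducibleComponent_superset (closure ({σ} : Set S))
    isIrreducible_singleton.closure
  have hS'cl : IsClosed S' := isClosed_of_mem_irreducibleComponents S' hS'
  obtain ⟨σ', hσ'⟩ := QuasiSober.sober hS'.1 hS'cl
  have hdef : closure ({σ'} : Set S) = S' := hσ'.def
  have hσ'σ : σ' ⤳ σ := by
    rw [specializes_iff_mem_closure, hdef]
    exact hsub (subset_closure rfl)
  have hsS' : s ∈ S' := hsub hs.mem_closure
  have hs'S' : s' ∈ S' := hsub hs'.mem_closure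
  have e1 : genDim σ' s = topologicalKrullDim (↥S' : Type u) := by
    rw [h3 S' hS' s hsS' hcl, genDim, hdef]
  have e2 : genDim σ' s' = topologicalKrullDim (↥S' : Type u) := by
    rw [h3 S' hS' s' hs'S' hcl', genDim, hdef]
  obtain ⟨a1, n, hn⟩ := genDim_add h2 σ' σ s hσ'σ hs
  obtain ⟨a2, -⟩ := genDim_add h2 σ' σ s' hσ'σ hs'
  rw [e1] at a1
  rw [e2, a1, hn] at a2
  exact ENat.WithBot.natCast_add_cancel.1 a2

end Cat

end Groth.Agent.Lib.Helper18.JacDim
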