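import Mathlib
import Groth.Agent.Lib.Helper18.SchDim2
import Groth.Agent.Lib.Helper21.ChartPt5

/-!
# Dimension of a dominant morphism of integral schemes (Stacks 0BAG-type statements)

* `exists_prime_comap_eq_bot_height`: a closed point of the generic fibre (ring level).
* `exists_coheight_ge_of_isClosedMap`: lifting chains of specializations along closed maps.
* `exists_same_fibre_le_ringKrullDim_stalk`.
* `dim_le_and_eq_of_isClosedMap`: `dim X ≤ dim Y + trdeg`, with equality for closed maps.
-/

set_option autoImplicit false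
set_option linter.unusedSectionVars false
set_option linter.style.haveILetI false
universe u v
open AlgebraicGeometry CategoryTheory TopologicalSpace

namespace Groth.Agent.Lib.Helper18.SchDim

open Groth.Agent.Lib.Helper12.Codim Groth.Agent.Lib.Helper18.DimFormula
open Groth.Agent.Lib.Helper21.ChartPt Groth.Agent.Lib.Helper20.DimTrdeg

section GenericFibre

/-- In a finite type extension of domains `A ⊆ B` of transcendence degree `r` there is a prime of
`B` contracting to zero of height `r` (a closed point of the generic fibre). -/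
theorem exists_prime_comap_eq_bot_height (A B : Type u) [CommRing A] [IsDomain A] [CommRing B]
    [IsDomain B] [Algebra A B] [FaithfulSMul A B] [hft : Algebra.FiniteType A B] (r : ℕ)
    (hr : Algebra.trdeg A B = r) :
    ∃ q : Ideal B, q.IsPrime ∧ q.comap (algebraMap A B) = ⊥ ∧ q.height = r := by
  let M : Submonoid A := nonZeroDivisors A
  let N : Submonoid B := M.map (algebraMap A B)
  have hinj : Function.Injective (algebraMap A B) := FaithfulSMul.algebraMap_injective A B
  have hN : N ≤ nonZeroDivisors B := by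
    rintro _ ⟨a, ha, rfl⟩
    rw [mem_nonZeroDivisors_iff_ne_zero]
    intro h0
    exact nonZeroDivisors.ne_zero ha (hinj (by rw [h0, map_zero]))
  let K := FractionRing A
  let BK := Localization N
  let L := FractionRing B
  haveI : IsDomain BK := IsLocalization.isDomain_localization hN
  let g : K →+* BK := IsLocalization.map BK (algebraMap A B) (Submonoid.le_comap_map M)
  letI algKBK : Algebra K BK := g.toAlgebra
  haveI : Algebra.FiniteType K BK :=
    RingHom.finiteType_localizationPreserves (algebraMap A B) M K BK (RingHom.finiteType_algebraMap.2 hft)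
  have hunits : ∀ y : N, IsUnit (algebraMap B L (y : B)) := by
    rintro ⟨y, hy⟩
    exact IsLocalization.map_units L (⟨y, hN hy⟩ : nonZeroDivisors B)
  letI algBKL : Algebra BK L := (IsLocalization.lift (M := N) (g := algebraMap B L) hunits).toAlgebra
  haveI : IsScalarTower B BK L := IsScalarTower.of_algebraMap_eq
    (fun x => (IsLocalization.lift_eq hunits x).symm)
  haveI : IsFractionRing BK L := IsFractionRing.isFractionRing_of_isDomain_of_isLocalization N BK L
  letI algKL : Algebra K L := ((algebraMap BK L).comp g).toAlgebra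
  haveI : IsScalarTower K BK L := IsScalarTower.of_algebraMap_eq (fun _ => rfl)
  have hdim := ringKrullDim_eq_trdeg K BK L
  have htr : Algebra.trdeg K L = r := by
    rw [← hr]
    refine trdeg_eq_of_isFractionRing (algebraMap A K) (algebraMap B L) (algebraMap K L) ?_ ?_ ?_
    · have h : (algebraMap A K).toAlgebra = (inferInstance : Algebra A K) :=
        Algebra.algebra_ext _ _ (fun _ => rfl)
      rw [h]
      infer_instance
    · have h : (algebraMap B L).toAlgebra = (inferInstance : Algebra B L) :=
        Algebra.algebra_ext _ _ (fun _ => rfl)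
      rw [h]
      infer_instance
    · ext a
      change algebraMap BK L (g (algebraMap A K a)) = algebraMap B L (algebraMap A B a)
      rw [IsLocalization.map_eq, ← IsScalarTower.algebraMap_apply B BK L]
  rw [htr, Cardinal.toNat_natCast] at hdim
  haveI : FiniteRingKrullDim BK := by
    rw [finiteRingKrullDim_iff_ne_bot_and_top, hdim]
    refine ⟨WithBot.coe_ne_bot, ?_⟩
    intro h
    have h2 : ((r : ℕ∞) : WithBot ℕ∞) = ((⊤ : ℕ∞) : WithBot ℕ∞) := h
    exact ENat.natCast_ne_top r (WithBot.coe_injective h2)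
  obtain ⟨Mx, hMx, hht⟩ := Ideal.exists_isMaximal_height (R := BK)
  rw [hdim] at hht
  have hht' : Mx.height = r := by exact_mod_cast hht
  refine ⟨Mx.comap (algebraMap B BK), Ideal.comap_isPrime _ _, ?_, ?_⟩
  · rw [eq_bot_iff]
    intro a ha
    rw [Ideal.mem_comap, Ideal.mem_comap] at ha
    by_contra h0
    rw [Ideal.mem_bot] at h0
    have hmem : algebraMap A B a ∈ N := ⟨a, mem_nonZeroDivisors_of_ne_zero h0, rfl⟩
    have hu : IsUnit (algebraMap B BK (algebraMap A B a)) :=
      IsLocalization.map_units BK (⟨_, hmem⟩ : N)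
    exact hMx.ne_top (Ideal.eq_top_of_isUnit_mem _ ha hu)
  · rw [← hht']
    exact IsLocalization.height_under N Mx

end GenericFibre

section Lift

variable {X Y : Scheme.{u}} (f : X ⟶ Y)

/-- lifting chains of specializations along a closed map increases coheights -/
theorem exists_coheight_ge_of_isClosedMap (hcl : IsClosedMap f.base) :
    ∀ (n : ℕ) (p : LTSeries Y), p.length = n → ∀ ξ : X, f ξ = p.last →
      ∃ x : X, f x = p.head ∧ Order.coheight ξ + n ≤ Order.coheight x := by
  intro n
  induction n with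
  | zero =>
    intro p hp ξ hξ
    refine ⟨ξ, ?_, by simp⟩
    rw [hξ]
    have : p.length = 0 := hp
    simp only [RelSeries.last, RelSeries.head]
    congr 1
    ext
    simp [this]
  | succ m ih =>
    intro p hp ξ hξ
    have hne : p.length ≠ 0 := by omega
    obtain ⟨x', hx', hco⟩ := ih (p.tail hne) (by rw [RelSeries.tail_length]; omega) ξ
      (by rw [RelSeries.last_tail]; exact hξ)
    rw [RelSeries.head_tail] at hx'
    have hlt : p 0 < p 1 := p.strictMono (by
      rw [Fin.lt_def]
      simp only [Fin.val_zero]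
      have : (1 : Fin (p.length + 1)).val = 1 := by
        rw [Fin.val_one']
        exact Nat.mod_eq_of_lt (by omega)
      omega)
    have hsp : f x' ⤳ p 0 := by
      rw [hx']
      exact hlt.le
    obtain ⟨x, hxx', hfx⟩ := hcl.specializingMap hsp
    refine ⟨x, hfx, ?_⟩
    have hxlt : x < x' := by
      rw [lt_iff_le_not_ge]
      refine ⟨hxx', fun hge => ?_⟩
      have h1 : f x ⤳ f x' := Specializes.map hge f.continuous
      rw [hfx, hx'] at h1
      exact (lt_iff_le_not_ge.1 hlt).2 h1
    have h2 := Order.coheight_add_one_le hxlt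
    calc Order.coheight ξ + ((m + 1 : ℕ) : ℕ∞) = (Order.coheight ξ + m) + 1 := by
          push_cast; rw [add_assoc]
      _ ≤ Order.coheight x' + 1 := add_le_add hco le_rfl
      _ ≤ Order.coheight x := h2

end Lift

section Step1

variable {X S : Scheme.{u}} (f : X ⟶ S) [LocallyOfFiniteType f]

/-- a point `ξ₀` in the same fibre as `x` with `dim 𝒪_{X,ξ₀} ≥ trdeg κ(x)/κ(f x)`: a closed point
of the closure of `x` in its fibre -/
theorem exists_same_fibre_le_ringKrullDim_stalk (x : X) (n : ℕ)
    (hn : @Algebra.trdeg (S.residueField (f x)) (X.residueField x) _ _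
      (f.residueFieldMap x).hom.toAlgebra = n) :
    ∃ ξ₀ : X, f ξ₀ = f x ∧ (n : WithBot ℕ∞) ≤ ringKrullDim (X.presheaf.stalk ξ₀) := by
  obtain ⟨V, hV, hxV, -⟩ := Opens.isBasis_iff_nbhd.mp S.isBasis_affineOpens
    (show f x ∈ (⊤ : S.Opens) from trivial)
  have hV : IsAffineOpen V := hV
  obtain ⟨U, hU, hxU, e⟩ := Opens.isBasis_iff_nbhd.mp X.isBasis_affineOpens
    (show x ∈ f ⁻¹ᵁ V from hxV)
  have hU : IsAffineOpen U := hU
  letI alg : Algebra Γ(S, V) Γ(X, U) := (f.appLE V U e).hom.toAlgebra
  haveI : Algebra.FiniteType Γ(S, V) Γ(X, U) :=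
    HasRingHomProperty.appLE (P := @LocallyOfFiniteType) f inferInstance ⟨V, hV⟩ ⟨U, hU⟩ e
  rw [trdeg_residueField f hU hV e x hxU] at hn
  set q₀ : Ideal Γ(X, U) := (hU.primeIdealOf ⟨x, hxU⟩).asIdeal with hq₀
  haveI : (q₀.under Γ(S, V)).IsPrime := Ideal.comap_isPrime _ _
  obtain ⟨qb, hqb, hbot, hht⟩ := exists_prime_comap_eq_bot_height
    (Γ(S, V) ⧸ q₀.under Γ(S, V)) (Γ(X, U) ⧸ q₀) n hn
  let q : Ideal Γ(X, U) := qb.comap (Ideal.Quotient.mk q₀)
  haveI hq : q.IsPrime := Ideal.comap_isPrime _ _
  have hq₀q : q₀ ≤ q := by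
    intro b hb
    change Ideal.Quotient.mk q₀ b ∈ qb
    rw [Ideal.Quotient.eq_zero_iff_mem.2 hb]
    exact zero_mem _
  let ξ₀ : X := hU.fromSpec ⟨q, hq⟩
  have hξU : ξ₀ ∈ U := (hU.isoSpec.inv _).2
  have hξ : hU.primeIdealOf ⟨ξ₀, hξU⟩ = ⟨q, hq⟩ :=
    hU.fromSpec.isOpenEmbedding.injective (hU.fromSpec_primeIdealOf ⟨ξ₀, hξU⟩)
  have hξ' : (hU.primeIdealOf ⟨ξ₀, hξU⟩).asIdeal = q := congrArg PrimeSpectrum.asIdeal hξ
  refine ⟨ξ₀, ?_, ?_⟩
  · have h1 : hV.primeIdealOf ⟨f ξ₀, e hξU⟩ = hV.primeIdealOf ⟨f x, e hxU⟩ := by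
      apply PrimeSpectrum.ext
      rw [← comap_primeIdealOf f hU hV e ξ₀ hξU, ← comap_primeIdealOf f hU hV e x hxU, hξ']
      apply le_antisymm
      · intro a ha
        have h2 : Ideal.Quotient.mk (q₀.under Γ(S, V)) a ∈
            qb.comap (algebraMap (Γ(S, V) ⧸ q₀.under Γ(S, V)) (Γ(X, U) ⧸ q₀)) := ha
        rw [hbot, Ideal.mem_bot, Ideal.Quotient.eq_zero_iff_mem] at h2
        exact h2
      · exact Ideal.comap_mono hq₀q
    have h2 := congrArg hV.fromSpec h1
    rw [hV.fromSpec_primeIdealOf, hV.fromSpec_primeIdealOf] at h2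
    exact h2
  · rw [ringKrullDim_stalk_eq_height hU ξ₀ hξU, hξ']
    have h3 : (q.map (Ideal.Quotient.mk q₀)).height ≤ q.height := height_map_mk_le q₀ q hq₀q
    have h4 : q.map (Ideal.Quotient.mk q₀) = qb :=
      Ideal.map_comap_of_surjective _ Ideal.Quotient.mk_surjective qb
    rw [h4, hht] at h3
    exact_mod_cast h3

end Step1

section Integral

variable {X Y : Scheme.{u}} [IsIntegral X] [IsIntegral Y] (f : X ⟶ Y) [IsDominant f]

theorem map_genericPoint : f (genericPoint X) = genericPoint Y := by
  have h1 : IsGenericPoint (f (genericPoint X)) (closure (f.base '' Set.univ)) :=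
    (genericPoint_spec X).image f.continuous
  rw [Set.image_univ, (IsDominant.denseRange (f := f)).closure_range] at h1
  exact h1.eq (genericPoint_spec Y)

variable [IsLocallyNoetherian Y] [LocallyOfFiniteType f]

open Groth.Agent.Lib.Helper14.AS in
/-- Stacks 0BAG-type: `dim X ≤ dim Y + trdeg`, with equality for closed maps. -/
theorem dim_le_and_eq_of_isClosedMap (n : ℕ)
    (hn : @Algebra.trdeg (Y.residueField (f (genericPoint X))) (X.residueField (genericPoint X)) _ _
      (f.residueFieldMap (genericPoint X)).hom.toAlgebra = n) :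
    topologicalKrullDim ↥X ≤ topologicalKrullDim ↥Y + n ∧
      (IsClosedMap f.base → topologicalKrullDim ↥X = topologicalKrullDim ↥Y + n) := by
  have hle : topologicalKrullDim ↥X ≤ topologicalKrullDim ↥Y + n := by
    refine topologicalKrullDim_le_add f n (fun ξ hξ => ?_)
    have hξ' : ξ = genericPoint X := by
      have h1 : closure {ξ} = Set.univ := by
        have := hξ.2 (show IsIrreducible (Set.univ : Set X) from
          (IrreducibleSpace.isIrreducible_univ X)) (Set.subset_univ _)
        exact Set.eq_univ_of_univ_subset this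
      have h2 : IsGenericPoint ξ Set.univ := h1
      exact h2.eq (genericPoint_spec X)
    subst hξ'
    exact hn.le
  refine ⟨hle, fun hcl => le_antisymm hle ?_⟩
  obtain ⟨ξ₀, hξ₀, hdim⟩ := exists_same_fibre_le_ringKrullDim_stalk f (genericPoint X) n hn
  rw [map_genericPoint] at hξ₀
  rw [ringKrullDim_stalk_eq_coheight] at hdim
  have hn' : (n : ℕ∞) ≤ Order.coheight ξ₀ := by exact_mod_cast hdim
  -- for every point of `Y`
  have key : ∀ y : Y, ringKrullDim (Y.presheaf.stalk y) + n ≤ topologicalKrullDim ↥X := by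
    intro y
    haveI : IsNoetherianRing (Y.presheaf.stalk y) := inferInstance
    have hfin : ringKrullDim (Y.presheaf.stalk y) < ⊤ := ringKrullDim_lt_top
    rw [ringKrullDim_stalk_eq_coheight] at hfin ⊢
    have hfin' : Order.coheight y ≠ ⊤ := by
      intro h
      rw [h] at hfin
      exact lt_irrefl _ hfin
    obtain ⟨d, hd⟩ := ENat.ne_top_iff_exists.1 hfin'
    obtain ⟨p, hp1, hp2⟩ := Order.exists_series_of_le_coheight y (n := d) (by rw [hd])
    have hlast : p.last = genericPoint Y := by
      by_contra hne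
      have hlt : p.last < genericPoint Y := by
        rw [lt_iff_le_not_ge]
        refine ⟨genericPoint_specializes _, fun hge => hne ?_⟩
        have h1 : p.last ⤳ genericPoint Y := hge
        exact (h1.antisymm (genericPoint_specializes _)).eq
      have h2 := Order.length_le_coheight (x := y) (p := p.snoc _ hlt)
        (by rw [RelSeries.head_snoc, hp1])
      rw [RelSeries.snoc_length, hp2, ← hd] at h2
      have : d + 1 ≤ d := by exact_mod_cast h2
      omega
    obtain ⟨x, hx1, hx2⟩ := exists_coheight_ge_of_isClosedMap f hcl d p hp2 ξ₀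
      (by rw [hξ₀, hlast])
    have h3 : ringKrullDim (X.presheaf.stalk x) ≤ topologicalKrullDim ↥X := by
      rw [topologicalKrullDim_eq_iSup_stalk X]
      exact le_iSup (fun z => ringKrullDim (X.presheaf.stalk z)) x
    rw [ringKrullDim_stalk_eq_coheight] at h3
    refine le_trans ?_ h3
    rw [← hd]
    have h4 : (d : ℕ∞) + n ≤ Order.coheight x := by
      rw [add_comm]
      exact (add_le_add hn' le_rfl).trans hx2
    exact_mod_cast h4
  -- conclude
  rw [topologicalKrullDim_eq_iSup_stalk Y]
  obtain ⟨D', hD'⟩ : ∃ D' : ℕ∞, topologicalKrullDim ↥X = (D' : WithBot ℕ∞) := by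
    have h0 := key (genericPoint Y)
    rw [ringKrullDim_stalk_eq_coheight] at h0
    cases h : topologicalKrullDim ↥X with
    | bot =>
      rw [h] at h0
      exfalso
      have h1 : ((Order.coheight (genericPoint Y) + (n : ℕ∞) : ℕ∞) : WithBot ℕ∞) ≤ ⊥ := by
        exact_mod_cast h0
      exact WithBot.coe_ne_bot (le_bot_iff.1 h1)
    | coe D' => exact ⟨D', rfl⟩
  rw [hD'] at key ⊢
  simp_rw [ringKrullDim_stalk_eq_coheight] at key ⊢
  rw [← WithBot.coe_iSup (OrderTop.bddAbove _)]
  have h5 : (⨆ y : Y, Order.coheight y) + (n : ℕ∞) ≤ D' := by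
    rw [ENat.iSup_add]
    exact iSup_le (fun y => by exact_mod_cast key y)
  exact_mod_cast h5

end Integral

end Groth.Agent.Lib.Helper18.SchDim
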