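import Mathlib
import Groth.Agent.Lib.Helper18.JacDim2
import Groth.Agent.Lib.Helper18.CatHt
import Groth.Agent.Lib.Helper18.SchDim3
import Groth.Agent.Lib.Helper21.FibDim3
import Groth.Agent.Lib.Helper14.SchemeDim

/-!
# Dimension formula over a Jacobson universally catenary equicodimensional base (EGA IV 10.6.1)
-/

set_option autoImplicit false
set_option linter.unusedSectionVars false
set_option linter.style.haveILetI false
universe u v
open AlgebraicGeometry CategoryTheory TopologicalSpace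

namespace Groth.Agent.Lib.Helper18.JacDim

open Groth.Agent.Lib.Helper12.Codim Groth.Agent.Lib.Helper18.DimFormula
open Groth.Agent.Lib.Helper21.ChartPt Groth.Agent.Lib.Helper18.SchDim
open Groth.Agent.Lib.Helper18.CatHt

section RingLemmas

/-- a finite type field extension of a Jacobson domain has transcendence degree zero -/
theorem trdeg_eq_zero_of_isMaximal (A B : Type u) [CommRing A] [CommRing B] [Algebra A B]
    [Algebra.FiniteType A B] [IsJacobsonRing A] (q : Ideal B) [hq : q.IsMaximal] (p : Ideal A)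
    [q.LiesOver p] : Algebra.trdeg (A ⧸ p) (B ⧸ q) = 0 := by
  haveI : p.IsPrime := by
    rw [Ideal.over_def q p]
    exact Ideal.comap_isPrime _ _
  letI : Field (B ⧸ q) := Ideal.Quotient.field q
  haveI : Algebra.FiniteType (A ⧸ p) (B ⧸ q) := inferInstance
  haveI : Module.Finite (A ⧸ p) (B ⧸ q) := finite_of_finite_type_of_isJacobsonRing _ _
  haveI : Algebra.IsAlgebraic (A ⧸ p) (B ⧸ q) := Algebra.IsIntegral.isAlgebraic
  exact trdeg_eq_zero

end RingLemmas

section Closed

variable {X S : Scheme.{u}} [IsLocallyNoetherian S] [JacobsonSpace S]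
  (h2 : ∀ s : S, CAlg.IsUniversallyCatenary (S.presheaf.stalk s))
  (p : X ⟶ S) [LocallyOfFiniteType p] [IrreducibleSpace X]

include h2 in
/-- **Dimension of the local ring at a closed point** of an irreducible scheme locally of finite
type over a Jacobson base with universally catenary local rings. -/
theorem ringKrullDim_stalk_of_isClosed (x₀ : X) (hx₀ : IsClosed ({x₀} : Set X)) (n : ℕ)
    (hn : @Algebra.trdeg (S.residueField (p (genericPoint X))) (X.residueField (genericPoint X)) _ _
      (p.residueFieldMap (genericPoint X)).hom.toAlgebra = n) :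
    ringKrullDim (X.presheaf.stalk x₀) = genDim (p (genericPoint X)) (p x₀) + n := by
  set ξ := genericPoint X with hξdef
  have hξx₀ : ξ ⤳ x₀ := genericPoint_specializes x₀
  obtain ⟨V, hV, hx₀V, -⟩ := Opens.isBasis_iff_nbhd.mp S.isBasis_affineOpens
    (show p x₀ ∈ (⊤ : S.Opens) from trivial)
  have hV : IsAffineOpen V := hV
  obtain ⟨U, hU, hx₀U, e⟩ := Opens.isBasis_iff_nbhd.mp X.isBasis_affineOpens
    (show x₀ ∈ p ⁻¹ᵁ V from hx₀V)
  have hU : IsAffineOpen U := hU
  have hξU : ξ ∈ U := hξx₀.mem_open U.2 hx₀U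
  letI alg : Algebra Γ(S, V) Γ(X, U) := (p.appLE V U e).hom.toAlgebra
  haveI : IsNoetherianRing Γ(S, V) := IsLocallyNoetherian.component_noetherian ⟨V, hV⟩
  haveI : Algebra.FiniteType Γ(S, V) Γ(X, U) :=
    HasRingHomProperty.appLE (P := @LocallyOfFiniteType) p inferInstance ⟨V, hV⟩ ⟨U, hU⟩ e
  haveI : IsNoetherianRing Γ(X, U) := Algebra.FiniteType.isNoetherianRing Γ(S, V) Γ(X, U)
  have hA := isUniversallyCatenary_sections h2 hV
  haveI : JacobsonSpace (PrimeSpectrum Γ(S, V)) :=
    JacobsonSpace.of_isOpenEmbedding hV.fromSpec.isOpenEmbedding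
  haveI : IsJacobsonRing Γ(S, V) := PrimeSpectrum.isJacobsonRing_iff_jacobsonSpace.2 inferInstance
  set q₀ := hU.primeIdealOf ⟨x₀, hx₀U⟩ with hq₀
  set qξ := hU.primeIdealOf ⟨ξ, hξU⟩ with hqξ
  have hle : qξ.asIdeal ≤ q₀.asIdeal :=
    (specializes_iff_primeIdealOf_le hU ⟨ξ, hξU⟩ ⟨x₀, hx₀U⟩).1 hξx₀
  have hmemU : ∀ P : PrimeSpectrum Γ(X, U), hU.fromSpec P ∈ U := fun P => (hU.isoSpec.inv _).2
  have hprime : ∀ P : PrimeSpectrum Γ(X, U), hU.primeIdealOf ⟨hU.fromSpec P, hmemU P⟩ = P :=
    fun P => hU.fromSpec.isOpenEmbedding.injective (hU.fromSpec_primeIdealOf ⟨_, hmemU P⟩)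
  -- `q₀` is maximal
  haveI hmax : q₀.asIdeal.IsMaximal := by
    obtain ⟨M, hM, hqM⟩ := Ideal.exists_le_maximal q₀.asIdeal q₀.isPrime.ne_top
    let z : X := hU.fromSpec ⟨M, hM.isPrime⟩
    have hz : x₀ ⤳ z := by
      rw [specializes_iff_primeIdealOf_le hU ⟨x₀, hx₀U⟩ ⟨z, hmemU _⟩, hprime]
      exact hqM
    have hzx : z = x₀ := by
      have := hz.mem_closure
      rw [hx₀.closure_eq] at this
      exact this
    have : (⟨M, hM.isPrime⟩ : PrimeSpectrum Γ(X, U)) = q₀ := by
      rw [← hprime ⟨M, hM.isPrime⟩, hq₀]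
      congr 1
      exact Subtype.ext hzx
    rw [← this]
    exact hM
  haveI : (qξ.asIdeal.under Γ(S, V)).IsPrime := Ideal.comap_isPrime _ _
  haveI : (q₀.asIdeal.under Γ(S, V)).IsPrime := Ideal.comap_isPrime _ _
  haveI : qξ.asIdeal.LiesOver (qξ.asIdeal.under Γ(S, V)) := ⟨rfl⟩
  haveI : q₀.asIdeal.LiesOver (q₀.asIdeal.under Γ(S, V)) := ⟨rfl⟩
  have key := cd_add_trdeg_eq Γ(S, V) Γ(X, U)
    (fun P _ T _ _ _ _ _ p _ q _ _ =>
      dim_formula (Γ(S, V) ⧸ P) (Ratliff.isUniversallyCatenary_quotient Γ(S, V) hA P) T p q)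
    qξ.asIdeal q₀.asIdeal hle (qξ.asIdeal.under Γ(S, V)) (q₀.asIdeal.under Γ(S, V))
  rw [trdeg_eq_zero_of_isMaximal Γ(S, V) Γ(X, U) q₀.asIdeal (q₀.asIdeal.under Γ(S, V)), add_zero]
    at key
  rw [trdeg_residueField p hU hV e ξ hξU] at hn
  rw [hn] at key
  -- the codimension on `X`
  have hcdX : cd qξ q₀ = q₀.asIdeal.height := by
    have hfin : Order.height q₀ ≠ ⊤ := by
      rw [← PrimeSpectrum.height_eq_orderHeight]
      exact Ideal.height_ne_top q₀.isPrime.ne_top
    obtain ⟨m, hmin, hmq, hm⟩ := exists_isMin_cd_eq_height q₀ hfin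
    have hξm : qξ ≤ m := by
      have : ξ ⤳ hU.fromSpec m := genericPoint_specializes _
      rw [specializes_iff_primeIdealOf_le hU ⟨ξ, hξU⟩ ⟨_, hmemU _⟩, hprime] at this
      exact this
    have hmξ : m = qξ := le_antisymm (hmin hξm) hξm
    rw [← hmξ, hm, ← PrimeSpectrum.height_eq_orderHeight]
  -- the codimension on `S`
  have hpξ : (⟨qξ.asIdeal.under Γ(S, V), inferInstance⟩ : PrimeSpectrum Γ(S, V)) =
      hV.primeIdealOf ⟨p ξ, e hξU⟩ :=
    PrimeSpectrum.ext (comap_primeIdealOf p hU hV e ξ hξU)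
  have hp₀ : (⟨q₀.asIdeal.under Γ(S, V), inferInstance⟩ : PrimeSpectrum Γ(S, V)) =
      hV.primeIdealOf ⟨p x₀, e hx₀U⟩ :=
    PrimeSpectrum.ext (comap_primeIdealOf p hU hV e x₀ hx₀U)
  rw [hpξ, hp₀] at key
  have hcdX' : cd (⟨qξ.asIdeal, qξ.isPrime⟩ : PrimeSpectrum Γ(X, U)) ⟨q₀.asIdeal, q₀.isPrime⟩ =
      q₀.asIdeal.height := hcdX
  rw [hcdX'] at key
  have key' : q₀.asIdeal.height =
      cd (hV.primeIdealOf ⟨p ξ, e hξU⟩) (hV.primeIdealOf ⟨p x₀, e hx₀U⟩) + (n : ℕ∞) := by
    have h' := key
    rw [← Cardinal.ofENat_nat n, ← Cardinal.ofENat_add, Cardinal.ofENat_inj] at h'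
    exact h'
  rw [ringKrullDim_stalk_eq_height hU x₀ hx₀U, ← hq₀, key',
    genDim_eq_cd hV (p ξ) (p x₀) (e hx₀U) (e hξU) (hξx₀.map p.continuous)]
  push_cast
  rfl

end Closed

section Main

variable {X S : Scheme.{u}} [IsLocallyNoetherian S] [JacobsonSpace S]
  (h2 : ∀ s : S, CAlg.IsUniversallyCatenary (S.presheaf.stalk s))
  (h3 : ∀ S' ∈ irreducibleComponents (S : Type u), ∀ s ∈ S', IsClosed ({s} : Set S) →
      topologicalKrullDim (↥S' : Type u) = topologicalKrullDim ↥{t : S | t ∈ S' ∧ t ⤳ s})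
  (p : X ⟶ S) [LocallyOfFiniteType p] [IrreducibleSpace X]

include h2 h3 in
/-- **EGA IV 10.6.1 (ii)**: the dimension of an irreducible scheme locally of finite type over a
Jacobson, universally catenary, equicodimensional base. -/
theorem topologicalKrullDim_eq_genDim_add (s : S) (hs : p (genericPoint X) ⤳ s)
    (hcl : IsClosed ({s} : Set S)) (n : ℕ)
    (hn : @Algebra.trdeg (S.residueField (p (genericPoint X))) (X.residueField (genericPoint X)) _ _
      (p.residueFieldMap (genericPoint X)).hom.toAlgebra = n) :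
    topologicalKrullDim X = genDim (p (genericPoint X)) s + n := by
  haveI : JacobsonSpace X := LocallyOfFiniteType.jacobsonSpace p
  have key : ∀ x₀ : X, IsClosed ({x₀} : Set X) →
      ringKrullDim (X.presheaf.stalk x₀) = genDim (p (genericPoint X)) s + n := by
    intro x₀ hx₀
    rw [ringKrullDim_stalk_of_isClosed h2 p x₀ hx₀ n hn]
    congr 1
    exact genDim_eq_of_isClosed h2 h3 _ _ _ ((genericPoint_specializes x₀).map p.continuous) hs
      (p.closePoints_subset_preimage_closedPoints hx₀) hcl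
  have hex : ∀ x : X, ∃ x₀ : X, x ⤳ x₀ ∧ IsClosed ({x₀} : Set X) := by
    intro x
    obtain ⟨x₀, hx₀, hx₀cl⟩ := nonempty_inter_closedPoints (Z := closure ({x} : Set X))
      ⟨x, subset_closure rfl⟩ isClosed_closure.isLocallyClosed
    exact ⟨x₀, specializes_iff_mem_closure.2 hx₀, hx₀cl⟩
  rw [Groth.Agent.Lib.Helper14.AS.topologicalKrullDim_eq_iSup_stalk]
  apply le_antisymm
  · apply iSup_le
    intro x
    obtain ⟨x₀, hxx₀, hx₀cl⟩ := hex x
    rw [← key x₀ hx₀cl, ringKrullDim_stalk_eq_coheight, ringKrullDim_stalk_eq_coheight]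
    exact WithBot.coe_le_coe.2 (Order.coheight_anti hxx₀)
  · obtain ⟨x₀, -, hx₀cl⟩ := hex (genericPoint X)
    rw [← key x₀ hx₀cl]
    exact le_iSup (fun x : X => ringKrullDim (X.presheaf.stalk x)) x₀

end Main

section Tower

/-- additivity of residue transcendence degrees along a composition -/
theorem trdeg_residueField_comp {X Y Z : Scheme.{u}} (f : X ⟶ Y) (g : Y ⟶ Z) (x : X) :
    @Algebra.trdeg (Z.residueField (g (f x))) (Y.residueField (f x)) _ _
        (g.residueFieldMap (f x)).hom.toAlgebra +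
      @Algebra.trdeg (Y.residueField (f x)) (X.residueField x) _ _
        (f.residueFieldMap x).hom.toAlgebra =
    @Algebra.trdeg (Z.residueField ((f ≫ g) x)) (X.residueField x) _ _
        ((f ≫ g).residueFieldMap x).hom.toAlgebra := by
  letI a1 : Algebra (Z.residueField (g (f x))) (Y.residueField (f x)) :=
    (g.residueFieldMap (f x)).hom.toAlgebra
  letI a2 : Algebra (Y.residueField (f x)) (X.residueField x) :=
    (f.residueFieldMap x).hom.toAlgebra
  letI a3 : Algebra (Z.residueField (g (f x))) (X.residueField x) :=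
    ((f ≫ g).residueFieldMap x).hom.toAlgebra
  haveI : IsScalarTower (Z.residueField (g (f x))) (Y.residueField (f x)) (X.residueField x) :=
    IsScalarTower.of_algebraMap_eq (fun z => by
      change ((f ≫ g).residueFieldMap x).hom z = _
      rw [Scheme.residueFieldMap_comp]
      rfl)
  exact trdeg_add_eq (Z.residueField (g (f x))) (Y.residueField (f x)) (A := X.residueField x)

end Tower

section Formula

open Groth.Agent.Lib.Helper21.FibDim

/-- the fibre over the image of the generic point has dimension the residue transcendence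
degree -/
theorem topologicalKrullDim_fiber_genericPoint {X Y : Scheme.{u}} (f : X ⟶ Y)
    [LocallyOfFiniteType f] [IrreducibleSpace X] (n : ℕ)
    (hn : @Algebra.trdeg (Y.residueField (f (genericPoint X))) (X.residueField (genericPoint X)) _ _
      (f.residueFieldMap (genericPoint X)).hom.toAlgebra = n) :
    topologicalKrullDim ↥(f.fiber (f (genericPoint X))) = n := by
  obtain ⟨m, hm, ⟨y, hy, -, hym⟩, -⟩ := exists_fibreDimAt_eq_trdeg f (genericPoint X)
  have hyξ : y = genericPoint X := (hy.antisymm (genericPoint_specializes y)).eq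
  subst hyξ
  have hmn : m = n := by
    rw [hn] at hym
    exact_mod_cast hym.symm
  subst hmn
  apply le_antisymm
  · rw [← hm]
    exact topologicalKrullDim_fiber_le f _ (genericPoint X) rfl
      (fun y _ => genericPoint_specializes y)
  · rw [← hm]
    exact fibreDimAt_le_topologicalKrullDim_fiber f (genericPoint X)

/-- **EGA IV 10.6.1 (iii)**. -/
theorem topologicalKrullDim_eq_add_generic_fiber {X Y S : Scheme.{u}} [IsLocallyNoetherian S]
    [JacobsonSpace S] (h2 : ∀ s : S, CAlg.IsUniversallyCatenary (S.presheaf.stalk s))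
    (h3 : ∀ S' ∈ irreducibleComponents (S : Type u), ∀ s ∈ S', IsClosed ({s} : Set S) →
      topologicalKrullDim (↥S' : Type u) = topologicalKrullDim ↥{t : S | t ∈ S' ∧ t ⤳ s})
    (p : X ⟶ S) (q : Y ⟶ S) [LocallyOfFiniteType p] [LocallyOfFiniteType q] (f : X ⟶ Y)
    (hf : f ≫ q = p) [IrreducibleSpace X] [IrreducibleSpace Y] [IsDominant f] :
    topologicalKrullDim (X : Type u) =
      topologicalKrullDim (Y : Type u) + topologicalKrullDim ↥(f.fiber (genericPoint Y)) := by
  subst hf
  haveI : LocallyOfFiniteType f := locallyOfFiniteType_of_comp f q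
  haveI : IsLocallyNoetherian Y := LocallyOfFiniteType.isLocallyNoetherian q
  have hη : f (genericPoint X) = genericPoint Y := by
    have h1 := (genericPoint_spec X).image f.continuous
    rw [Set.image_univ, f.denseRange.closure_range] at h1
    exact h1.eq (genericPoint_spec Y)
  obtain ⟨nY, hnY⟩ := Groth.Agent.Lib.Helper18.SchDim.exists_nat_trdeg_residueField q
    (f (genericPoint X))
  obtain ⟨ne, hne⟩ := Groth.Agent.Lib.Helper18.SchDim.exists_nat_trdeg_residueField f
    (genericPoint X)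
  have hnX : @Algebra.trdeg (S.residueField ((f ≫ q) (genericPoint X)))
      (X.residueField (genericPoint X)) _ _
      ((f ≫ q).residueFieldMap (genericPoint X)).hom.toAlgebra = ((nY + ne : ℕ) : Cardinal.{u}) := by
    rw [← trdeg_residueField_comp f q (genericPoint X), hnY, hne]
    push_cast
    rfl
  -- a closed point in the closure of the image of the generic point
  obtain ⟨s, hs, hscl⟩ := nonempty_inter_closedPoints
    (Z := closure ({(f ≫ q) (genericPoint X)} : Set S))
    ⟨_, subset_closure rfl⟩ isClosed_closure.isLocallyClosed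
  have hs' : (f ≫ q) (genericPoint X) ⤳ s := specializes_iff_mem_closure.2 hs
  have hX := topologicalKrullDim_eq_genDim_add h2 h3 (f ≫ q) s hs' hscl (nY + ne) hnX
  have hnY' : @Algebra.trdeg (S.residueField (q (genericPoint Y))) (Y.residueField (genericPoint Y))
      _ _ (q.residueFieldMap (genericPoint Y)).hom.toAlgebra = nY := hη ▸ hnY
  have hs'' : q (genericPoint Y) ⤳ s := by
    rw [← hη]; exact hs'
  have hY := topologicalKrullDim_eq_genDim_add h2 h3 q s hs'' hscl nY hnY'
  have hfib := topologicalKrullDim_fiber_genericPoint f ne hne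
  rw [hη] at hfib
  rw [hX, hY, hfib]
  have : (f ≫ q) (genericPoint X) = q (genericPoint Y) := by
    rw [← hη]; rfl
  rw [this]
  push_cast
  rw [add_assoc]

end Formula

end Groth.Agent.Lib.Helper18.JacDim
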