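import Mathlib
import Groth.Agent.Lib.Helper18.TopDim

/-!
# Local dimension and irreducible components (topological core of EGA IV 10.6.2)
-/

set_option autoImplicit false
set_option linter.unusedSectionVars false
set_option linter.style.haveILetI false
universe u

open TopologicalSpace

namespace Groth.Agent.Lib.Helper18.JacDim

open Groth.Agent.Lib.Helper18.TopDim

section Top

variable {T X : Type u} [TopologicalSpace T] [TopologicalSpace X]

/-- the dimension of a subset is the dimension of its image under an embedding -/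
theorem topologicalKrullDim_image_eq {e : T → X} (he : Topology.IsEmbedding e) (A : Set T) :
    topologicalKrullDim ↥(e '' A) = topologicalKrullDim ↥A := by
  apply le_antisymm
  · let g : ↥(e '' A) → ↥A := fun y => ⟨y.2.choose, y.2.choose_spec.1⟩
    have hg : ∀ y : ↥(e '' A), e (g y : T) = y.1 := fun y => y.2.choose_spec.2
    have h1 : Topology.IsInducing (fun a : ↥A => e a.1) :=
      he.isInducing.comp Topology.IsInducing.subtypeVal
    have h2 : Topology.IsInducing ((fun a : ↥A => e a.1) ∘ g) := by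
      have : ((fun a : ↥A => e a.1) ∘ g) = Subtype.val := funext hg
      rw [this]
      exact Topology.IsInducing.subtypeVal
    exact (Topology.IsInducing.of_comp_iff h1 |>.mp h2).topologicalKrullDim_le
  · let f : ↥A → ↥(e '' A) := fun a => ⟨e a.1, Set.mem_image_of_mem e a.2⟩
    have h1 : Topology.IsInducing (Subtype.val ∘ f) :=
      he.isInducing.comp Topology.IsInducing.subtypeVal
    exact (Topology.IsInducing.of_comp_iff Topology.IsInducing.subtypeVal |>.mp h1).topologicalKrullDim_le

theorem topologicalKrullDim_mono {A B : Set X} (h : A ⊆ B) :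
    topologicalKrullDim ↥A ≤ topologicalKrullDim ↥B :=
  (Topology.IsEmbedding.inclusion h).isInducing.topologicalKrullDim_le

theorem topologicalKrullDim_eq_bot_of_eq_empty {A : Set X} (h : A = ∅) :
    topologicalKrullDim ↥A = ⊥ := by
  haveI : IsEmpty ↥A := by rw [h]; infer_instance
  haveI : IsEmpty (IrreducibleCloseds ↥A) :=
    ⟨fun Z => by
      obtain ⟨z, -⟩ := Z.isIrreducible.nonempty
      exact isEmptyElim z⟩
  exact Order.krullDim_eq_bot

end Top

section Core

variable {T : Type u} [TopologicalSpace T]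
  (hlf : LocallyFinite (fun Z : ↥(irreducibleComponents T) => (Z : Set T)))
  (hP : ∀ C ∈ irreducibleComponents T, ∀ U : Set T, IsOpen U → (U ∩ C).Nonempty →
    topologicalKrullDim ↥(U ∩ C) = topologicalKrullDim ↥C)

include hlf hP

theorem topologicalKrullDim_open_eq_iSup (x : T) (U : Set T) (hU : IsOpen U) (hxU : x ∈ U)
    (hdis : ∀ C ∈ irreducibleComponents T, x ∉ C → Disjoint U C) :
    topologicalKrullDim ↥U =
      ⨆ C ∈ {C : Set T | C ∈ irreducibleComponents T ∧ x ∈ C}, topologicalKrullDim ↥C := by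
  have hcov : ⋃ Z : ↥(irreducibleComponents T),
      (Subtype.val : ↥U → T) ⁻¹' (Z : Set T) = Set.univ := by
    rw [Set.eq_univ_iff_forall]
    intro y
    have hy : (y : T) ∈ ⋃₀ irreducibleComponents T := by
      rw [sUnion_irreducibleComponents]; trivial
    obtain ⟨Z, hZ, hyZ⟩ := hy
    exact Set.mem_iUnion.mpr ⟨⟨Z, hZ⟩, hyZ⟩
  have h1 := topologicalKrullDim_eq_iSup_of_locallyFinite_closed_cover
    (X := ↥U) (fun Z : ↥(irreducibleComponents T) => (Subtype.val : ↥U → T) ⁻¹' (Z : Set T))
    (fun Z => (isClosed_of_mem_irreducibleComponents _ Z.2).preimage continuous_subtype_val)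
    (hlf.preimage_continuous continuous_subtype_val) hcov
  have h2 : ∀ Z : ↥(irreducibleComponents T),
      topologicalKrullDim ↥((Subtype.val : ↥U → T) ⁻¹' (Z : Set T)) =
        topologicalKrullDim ↥(U ∩ (Z : Set T)) := by
    intro Z
    rw [← topologicalKrullDim_image_eq (Topology.IsEmbedding.subtypeVal (p := fun t => t ∈ U))
      ((Subtype.val : ↥U → T) ⁻¹' (Z : Set T)), Subtype.image_preimage_coe]
  have hU' : topologicalKrullDim ↥U = topologicalKrullDim ↥(Set.univ : Set ↥U) :=
    ((Homeomorph.Set.univ ↥U).isHomeomorph.topologicalKrullDim_eq _).symm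
  rw [h1]
  apply le_antisymm
  · refine iSup_le fun Z => ?_
    rw [h2 Z]
    by_cases hxZ : x ∈ (Z : Set T)
    · rw [hP Z Z.2 U hU ⟨x, hxU, hxZ⟩]
      exact le_iSup₂ (f := fun C (_ : C ∈ {C : Set T | C ∈ irreducibleComponents T ∧ x ∈ C}) =>
        topologicalKrullDim ↥C) (Z : Set T) ⟨Z.2, hxZ⟩
    · rw [topologicalKrullDim_eq_bot_of_eq_empty (Set.disjoint_iff_inter_eq_empty.mp
        (hdis Z Z.2 hxZ))]
      exact bot_le
  · refine iSup₂_le fun C hC => ?_
    rw [← hP C hC.1 U hU ⟨x, hxU, hC.2⟩, ← h2 ⟨C, hC.1⟩]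
    exact le_iSup (fun Z : ↥(irreducibleComponents T) =>
      topologicalKrullDim ↥((Subtype.val : ↥U → T) ⁻¹' (Z : Set T))) ⟨C, hC.1⟩

theorem localDim_eq_iSup (x : T) :
    FlatMor.localDim T x =
      ⨆ C ∈ {C : Set T | C ∈ irreducibleComponents T ∧ x ∈ C}, topologicalKrullDim ↥C := by
  classical
  apply le_antisymm
  · obtain ⟨N, hN, hfin⟩ := hlf x
    set bad : Set T := ⋃ Z ∈ {Z : ↥(irreducibleComponents T) | ((Z : Set T) ∩ N).Nonempty ∧
      x ∉ (Z : Set T)}, (Z : Set T) with hbad
    have hbadcl : IsClosed bad := by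
      refine Set.Finite.isClosed_biUnion (hfin.subset fun Z hZ => hZ.1) fun Z _ => ?_
      exact isClosed_of_mem_irreducibleComponents _ Z.2
    set U₀ : Set T := interior N ∩ badᶜ with hU₀
    have hU₀open : IsOpen U₀ := isOpen_interior.inter hbadcl.isOpen_compl
    have hxU₀ : x ∈ U₀ := by
      refine ⟨mem_interior_iff_mem_nhds.mpr hN, ?_⟩
      intro hx
      obtain ⟨Z, hZ⟩ := Set.mem_iUnion.mp hx
      obtain ⟨hZmem, hxZ⟩ := Set.mem_iUnion.mp hZ
      exact hZmem.2 hxZ
    have hdis : ∀ C ∈ irreducibleComponents T, x ∉ C → Disjoint U₀ C := by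
      intro C hC hxC
      rw [Set.disjoint_left]
      intro y hyU hyC
      apply hyU.2
      refine Set.mem_iUnion.mpr ⟨⟨C, hC⟩, Set.mem_iUnion.mpr ⟨⟨⟨y, hyC, interior_subset hyU.1⟩, hxC⟩,
        hyC⟩⟩
    rw [← topologicalKrullDim_open_eq_iSup hlf hP x U₀ hU₀open hxU₀ hdis]
    exact localDim_le_topologicalKrullDim_open ⟨U₀, hU₀open⟩ hxU₀
  · unfold FlatMor.localDim
    refine le_iInf fun V => ?_
    refine iSup₂_le fun C hC => ?_
    rw [← hP C hC.1 V.1 V.1.isOpen ⟨x, V.2, hC.2⟩]
    exact topologicalKrullDim_mono Set.inter_subset_left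

end Core

end Groth.Agent.Lib.Helper18.JacDim
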