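import Mathlib
import Groth.Agent.Lib.Helper18.JacDim3
import Groth.Agent.Lib.Helper18.JacDim4

/-!
# Dimension of irreducible closed subsets of a Jacobson universally catenary equicodimensional
scheme (EGA IV 10.6.1 for closed subsets)
-/

set_option autoImplicit false
set_option linter.unusedSectionVars false
set_option linter.style.haveILetI false
universe u
open AlgebraicGeometry CategoryTheory TopologicalSpace

namespace Groth.Agent.Lib.Helper18.JacDim

section Scheme

variable {X : Scheme.{u}} [IsLocallyNoetherian X] [JacobsonSpace X]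
  (h2 : ∀ x : X, CAlg.IsUniversallyCatenary (X.presheaf.stalk x))
  (h3 : ∀ X' ∈ irreducibleComponents (X : Type u), ∀ x ∈ X', IsClosed ({x} : Set X) →
    topologicalKrullDim (↥X' : Type u) = topologicalKrullDim ↥{t : X | t ∈ X' ∧ t ⤳ x})

theorem genDim_le_topologicalKrullDim_closure (ζ s : X) :
    genDim ζ s ≤ topologicalKrullDim ↥(closure ({ζ} : Set X)) :=
  topologicalKrullDim_mono (fun _ ht => ht.1)

include h2 h3 in
/-- **The dimension of an irreducible closed subset is the codimension of any of its closed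
points.** -/
theorem topologicalKrullDim_closure_eq_genDim (ζ s : X) (hs : ζ ⤳ s)
    (hcl : IsClosed ({s} : Set X)) :
    topologicalKrullDim ↥(closure ({ζ} : Set X)) = genDim ζ s := by
  apply le_antisymm _ (genDim_le_topologicalKrullDim_closure ζ s)
  haveI : QuasiSober ↥(closure ({ζ} : Set X)) :=
    isClosed_closure.isClosedEmbedding_subtypeVal.quasiSober
  rw [topologicalKrullDim_eq_krullDim_specialization]
  refine iSup_le fun l => ?_
  obtain ⟨s', hs'mem, hs'cl⟩ := nonempty_inter_closedPoints
    (Z := closure ({((l.head : ↥(closure ({ζ} : Set X))) : X)} : Set X))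
    ⟨_, subset_closure rfl⟩ isClosed_closure.isLocallyClosed
  have hs'cl' : IsClosed ({s'} : Set X) := hs'cl
  have hhead : ((l.head : ↥(closure ({ζ} : Set X))) : X) ⤳ s' :=
    specializes_iff_mem_closure.2 hs'mem
  have h1 : ∀ i, ((l i : ↥(closure ({ζ} : Set X))) : X) ⤳ s' := by
    intro i
    have hsp : (l i) ⤳ l.head :=
      @LTSeries.head_le _ (specializationPreorder ↥(closure ({ζ} : Set X))) l i
    exact ((subtype_specializes_iff _ _).mp hsp).trans hhead
  have hζs' : ζ ⤳ s' := (specializes_iff_mem_closure.2 (l.head).2).trans hhead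
  rw [← genDim_eq_of_isClosed h2 h3 ζ s' s hζs' hs hs'cl' hcl]
  have hT : {t : X | t ∈ closure {ζ} ∧ t ⤳ s'} = closure {ζ} ∩ {t : X | t ⤳ s'} := rfl
  haveI : QuasiSober ↥{t : X | t ∈ closure {ζ} ∧ t ⤳ s'} := by
    rw [hT]
    exact quasiSober_inter (closure {ζ}) {t : X | t ⤳ s'} isClosed_closure
      (fun a b hab hb => hab.trans hb)
  rw [genDim, topologicalKrullDim_eq_krullDim_specialization]
  let l' : @LTSeries ↥{t : X | t ∈ closure {ζ} ∧ t ⤳ s'} (specializationPreorder _) :=
    @RelSeries.mk _ _ l.length (fun i => ⟨(l i).1, (l i).2, h1 i⟩) (fun i => by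
        have hlt : (l i.succ ⤳ l i.castSucc) ∧ ¬ (l i.castSucc ⤳ l i.succ) := l.step i
        obtain ⟨hle, hnle⟩ := hlt
        change ((⟨(l i.succ).1, (l i.succ).2, h1 i.succ⟩ :
              ↥{t : X | t ∈ closure {ζ} ∧ t ⤳ s'}) ⤳ ⟨(l i.castSucc).1, (l i.castSucc).2,
                h1 i.castSucc⟩) ∧ ¬ ((⟨(l i.castSucc).1, (l i.castSucc).2, h1 i.castSucc⟩ :
              ↥{t : X | t ∈ closure {ζ} ∧ t ⤳ s'}) ⤳ ⟨(l i.succ).1, (l i.succ).2,
                h1 i.succ⟩)
        constructor
        · rw [subtype_specializes_iff]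
          exact (subtype_specializes_iff (l i.succ) (l i.castSucc)).mp hle
        · intro hge
          apply hnle
          rw [subtype_specializes_iff] at hge ⊢
          exact hge)
  exact @Order.LTSeries.length_le_krullDim _ (specializationPreorder _) l'

include h2 h3 in
/-- **EGA IV 10.6.1 (i) for irreducible closed subsets.** -/
theorem topologicalKrullDim_open_inter_closure (ζ : X) (U : Set X) (hU : IsOpen U)
    (hne : (U ∩ closure ({ζ} : Set X)).Nonempty) :
    topologicalKrullDim ↥(U ∩ closure ({ζ} : Set X)) =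
      topologicalKrullDim ↥(closure ({ζ} : Set X)) := by
  apply le_antisymm (topologicalKrullDim_mono Set.inter_subset_right)
  obtain ⟨s, ⟨hsU, hsZ⟩, hscl⟩ := nonempty_inter_closedPoints
    (Z := U ∩ closure ({ζ} : Set X)) hne (hU.isLocallyClosed.inter isClosed_closure.isLocallyClosed)
  rw [topologicalKrullDim_closure_eq_genDim h2 h3 ζ s (specializes_iff_mem_closure.2 hsZ) hscl]
  exact topologicalKrullDim_mono (fun t ht => ⟨ht.2.mem_open hU hsU, ht.1⟩)

include h2 h3 in
/-- the dimension of an irreducible closed subset through `x` -/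
theorem topologicalKrullDim_closure_eq_add (η x : X) (hηx : η ⤳ x) :
    topologicalKrullDim ↥(closure ({η} : Set X)) =
        topologicalKrullDim ↥(closure ({x} : Set X)) + genDim η x ∧
      ∃ n : ℕ, genDim η x = n := by
  obtain ⟨s, hsmem, hscl⟩ := nonempty_inter_closedPoints
    (Z := closure ({x} : Set X)) ⟨x, subset_closure rfl⟩ isClosed_closure.isLocallyClosed
  have hxs : x ⤳ s := specializes_iff_mem_closure.2 hsmem
  obtain ⟨hadd, n, hn⟩ := genDim_add h2 η x s hηx hxs
  refine ⟨?_, n, hn⟩
  rw [topologicalKrullDim_closure_eq_genDim h2 h3 η s (hηx.trans hxs) hscl,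
    topologicalKrullDim_closure_eq_genDim h2 h3 x s hxs hscl, hadd, add_comm]

end Scheme

end Groth.Agent.Lib.Helper18.JacDim
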