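import Mathlib
import Groth.Agent.Lib.Helper18.JacDim5
import Groth.Agent.Lib.Helper14.LocNoeTop

/-!
# Local dimension of a closed subset of a Jacobson universally catenary equicodimensional scheme
(EGA IV 10.6.2)
-/

set_option autoImplicit false
set_option linter.unusedSectionVars false
set_option linter.style.haveILetI false
universe u
open AlgebraicGeometry CategoryTheory TopologicalSpace

namespace Groth.Agent.Lib.Helper18.JacDim

open Groth.Agent.Lib.Helper18.TopDim

section Scheme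

variable {X : Scheme.{u}} [IsLocallyNoetherian X]

theorem exists_noetherianSpace_nhd (x : X) :
    ∃ V : Set X, IsOpen V ∧ x ∈ V ∧ NoetherianSpace V := by
  obtain ⟨_, ⟨W, hW, rfl⟩, hxW, -⟩ := (X.isBasis_affineOpens).exists_subset_of_mem_open
    (Set.mem_univ x) isOpen_univ
  haveI : IsNoetherianRing Γ(X, W) := IsLocallyNoetherian.component_noetherian ⟨W, hW⟩
  exact ⟨W, W.2, hxW, noetherianSpace_of_isAffineOpen W hW⟩

theorem locallyFinite_irreducibleComponents_closed (Y : Set X) :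
    LocallyFinite (fun Z : ↥(irreducibleComponents ↥Y) => (Z : Set ↥Y)) := by
  apply Groth.Agent.Lib.Helper14.AS.locallyFinite_irreducibleComponents_of_locNoeth
  intro t
  obtain ⟨V, hVo, htV, hVn⟩ := exists_noetherianSpace_nhd t.1
  refine ⟨((↑) : ↥Y → X) ⁻¹' V, hVo.preimage continuous_subtype_val, htV, ?_⟩
  have hind : Topology.IsInducing (fun y : ↥(((↑) : ↥Y → X) ⁻¹' V) => (⟨y.1.1, y.2⟩ : ↥V)) := by
    refine ⟨?_⟩
    have h1 : Topology.IsInducing (fun y : ↥(((↑) : ↥Y → X) ⁻¹' V) => (y.1.1 : X)) :=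
      Topology.IsInducing.subtypeVal.comp Topology.IsInducing.subtypeVal
    have h2 : Topology.IsInducing ((↑) : ↥V → X) := Topology.IsInducing.subtypeVal
    rw [h1.eq_induced, h2.eq_induced, induced_compose]
    rfl
  exact hind.noetherianSpace

/-- the image in `X` of an irreducible component of a closed subset is the closure of a point -/
theorem exists_closure_eq_image (Y : Set X) (hY : IsClosed Y) (C : Set ↥Y)
    (hC : C ∈ irreducibleComponents ↥Y) :
    ∃ η : X, closure ({η} : Set X) = Subtype.val '' C := by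
  have hirr : IsIrreducible (Subtype.val '' C : Set X) :=
    hC.1.image _ continuous_subtype_val.continuousOn
  have hcl : IsClosed (Subtype.val '' C : Set X) :=
    hY.isClosedEmbedding_subtypeVal.isClosedMap _ (isClosed_of_mem_irreducibleComponents C hC)
  obtain ⟨η, hη⟩ := QuasiSober.sober hirr hcl
  exact ⟨η, hη.def⟩

variable [JacobsonSpace X]
  (h2 : ∀ x : X, CAlg.IsUniversallyCatenary (X.presheaf.stalk x))
  (h3 : ∀ X' ∈ irreducibleComponents (X : Type u), ∀ x ∈ X', IsClosed ({x} : Set X) →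
    topologicalKrullDim (↥X' : Type u) = topologicalKrullDim ↥{t : X | t ∈ X' ∧ t ⤳ x})

include h2 h3 in
theorem topologicalKrullDim_open_inter_component (Y : Set X) (hY : IsClosed Y) :
    ∀ C ∈ irreducibleComponents ↥Y, ∀ U : Set ↥Y, IsOpen U → (U ∩ C).Nonempty →
      topologicalKrullDim ↥(U ∩ C) = topologicalKrullDim ↥C := by
  intro C hC U hU hne
  obtain ⟨η, hη⟩ := exists_closure_eq_image Y hY C hC
  obtain ⟨U', hU'open, rfl⟩ := isOpen_induced_iff.mp hU
  have himg : (Subtype.val : ↥Y → X) '' (Subtype.val ⁻¹' U' ∩ C) = U' ∩ closure ({η} : Set X) := by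
    rw [hη, Set.inter_comm, Set.image_inter_preimage, Set.inter_comm]
  have hne' : (U' ∩ closure ({η} : Set X)).Nonempty := by
    rw [← himg]
    exact hne.image _
  rw [← topologicalKrullDim_image_eq (Topology.IsEmbedding.subtypeVal (p := fun t => t ∈ Y))
      (Subtype.val ⁻¹' U' ∩ C), himg,
    topologicalKrullDim_open_inter_closure h2 h3 η U' hU'open hne', hη,
    topologicalKrullDim_image_eq (Topology.IsEmbedding.subtypeVal (p := fun t => t ∈ Y)) C]

include h2 h3 in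
/-- dimension of a component through `x` -/
theorem topologicalKrullDim_component_eq_add (Y : Set X) (hY : IsClosed Y) (x : X) (hx : x ∈ Y)
    (C : Set ↥Y) (hC : C ∈ irreducibleComponents ↥Y) (hxC : (⟨x, hx⟩ : ↥Y) ∈ C) :
    topologicalKrullDim ↥C = topologicalKrullDim ↥(closure ({x} : Set X)) +
        topologicalKrullDim ↥{t : X | t ∈ Subtype.val '' C ∧ t ⤳ x} ∧
      ∃ n : ℕ, topologicalKrullDim ↥{t : X | t ∈ Subtype.val '' C ∧ t ⤳ x} = n := by
  obtain ⟨η, hη⟩ := exists_closure_eq_image Y hY C hC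
  have hηx : η ⤳ x := by
    rw [specializes_iff_mem_closure, hη]
    exact ⟨⟨x, hx⟩, hxC, rfl⟩
  obtain ⟨h1, n, hn⟩ := topologicalKrullDim_closure_eq_add h2 h3 η x hηx
  rw [genDim, hη] at h1 hn
  rw [topologicalKrullDim_image_eq (Topology.IsEmbedding.subtypeVal (p := fun t => t ∈ Y)) C] at h1
  exact ⟨h1, n, hn⟩

/-- the dimension of the space of generizations of `x` in `Y` -/
theorem topologicalKrullDim_generizations_eq_iSup (Y : Set X) (hY : IsClosed Y) (x : X)
    (hx : x ∈ Y) :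
    topologicalKrullDim ↥{t : X | t ∈ Y ∧ t ⤳ x} =
      ⨆ C ∈ {C : Set ↥Y | C ∈ irreducibleComponents ↥Y ∧ (⟨x, hx⟩ : ↥Y) ∈ C},
        topologicalKrullDim ↥{t : X | t ∈ Subtype.val '' C ∧ t ⤳ x} := by
  set Gs : Set X := {t : X | t ∈ Y ∧ t ⤳ x} with hGs
  have hlfX := Groth.Agent.Lib.Helper14.AS.locallyFinite_irreducibleComponents_subtype
    (X := X) exists_noetherianSpace_nhd Y hY
  have hcov : ⋃ Z : ↥(irreducibleComponents ↥Y),
      (Subtype.val : ↥Gs → X) ⁻¹' (Subtype.val '' (Z : Set ↥Y)) = Set.univ := by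
    rw [Set.eq_univ_iff_forall]
    intro t
    have ht : (⟨t.1, t.2.1⟩ : ↥Y) ∈ ⋃₀ irreducibleComponents ↥Y := by
      rw [sUnion_irreducibleComponents]; trivial
    obtain ⟨Z, hZ, htZ⟩ := ht
    exact Set.mem_iUnion.mpr ⟨⟨Z, hZ⟩, ⟨⟨t.1, t.2.1⟩, htZ, rfl⟩⟩
  have hclosed : ∀ Z : ↥(irreducibleComponents ↥Y),
      IsClosed (Subtype.val '' (Z : Set ↥Y) : Set X) := fun Z =>
    hY.isClosedEmbedding_subtypeVal.isClosedMap _ (isClosed_of_mem_irreducibleComponents _ Z.2)
  have h1 := topologicalKrullDim_eq_iSup_of_locallyFinite_closed_cover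
    (X := ↥Gs) (fun Z : ↥(irreducibleComponents ↥Y) =>
      (Subtype.val : ↥Gs → X) ⁻¹' (Subtype.val '' (Z : Set ↥Y)))
    (fun Z => (hclosed Z).preimage continuous_subtype_val)
    (hlfX.preimage_continuous continuous_subtype_val) hcov
  have h2' : ∀ Z : ↥(irreducibleComponents ↥Y),
      topologicalKrullDim ↥((Subtype.val : ↥Gs → X) ⁻¹' (Subtype.val '' (Z : Set ↥Y))) =
        topologicalKrullDim ↥{t : X | t ∈ Subtype.val '' (Z : Set ↥Y) ∧ t ⤳ x} := by
    intro Z
    have hset : (Subtype.val : ↥Gs → X) '' ((Subtype.val : ↥Gs → X) ⁻¹'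
        (Subtype.val '' (Z : Set ↥Y))) = {t : X | t ∈ Subtype.val '' (Z : Set ↥Y) ∧ t ⤳ x} := by
      ext t
      constructor
      · rintro ⟨s, hs, rfl⟩
        exact ⟨hs, s.2.2⟩
      · rintro ⟨htZ, htx⟩
        obtain ⟨y, hyZ, rfl⟩ := htZ
        exact ⟨⟨y.1, ⟨y.2, htx⟩⟩, ⟨y, hyZ, rfl⟩, rfl⟩
    rw [← topologicalKrullDim_image_eq (Topology.IsEmbedding.subtypeVal (p := fun t => t ∈ Gs))
      ((Subtype.val : ↥Gs → X) ⁻¹' (Subtype.val '' (Z : Set ↥Y))), hset]
  rw [h1]
  apply le_antisymm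
  · refine iSup_le fun Z => ?_
    rw [h2' Z]
    by_cases hxZ : (⟨x, hx⟩ : ↥Y) ∈ (Z : Set ↥Y)
    · exact le_iSup₂ (f := fun C (_ : C ∈ {C : Set ↥Y | C ∈ irreducibleComponents ↥Y ∧
        (⟨x, hx⟩ : ↥Y) ∈ C}) => topologicalKrullDim ↥{t : X | t ∈ Subtype.val '' C ∧ t ⤳ x})
        (Z : Set ↥Y) ⟨Z.2, hxZ⟩
    · rw [topologicalKrullDim_eq_bot_of_eq_empty]
      · exact bot_le
      · rw [Set.eq_empty_iff_forall_notMem]
        rintro t ⟨htZ, htx⟩
        apply hxZ
        have hxmem : x ∈ (Subtype.val '' (Z : Set ↥Y) : Set X) :=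
          htx.mem_closed (hclosed Z) htZ
        obtain ⟨y, hyZ, hyx⟩ := hxmem
        have : y = ⟨x, hx⟩ := Subtype.ext hyx
        rw [← this]
        exact hyZ
  · refine iSup₂_le fun C hC => ?_
    rw [← h2' ⟨C, hC.1⟩]
    exact le_iSup (fun Z : ↥(irreducibleComponents ↥Y) =>
      topologicalKrullDim ↥((Subtype.val : ↥Gs → X) ⁻¹' (Subtype.val '' (Z : Set ↥Y)))) ⟨C, hC.1⟩

end Scheme

end Groth.Agent.Lib.Helper18.JacDim
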