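import Mathlib
import Groth.Agent.Lib.Helper18.JacDim6
import Groth.Agent.Lib.Helper29.QCohBasic
import Groth.Agent.Lib.Helper17.ZClosDepth

/-!
# Generizations of a point and the spectrum of the local ring; supports of stalks
-/

set_option autoImplicit false
set_option linter.unusedSectionVars false
set_option linter.style.haveILetI false
universe u
open AlgebraicGeometry CategoryTheory TopologicalSpace

namespace Groth.Agent.Lib.Helper18.JacDim

open Groth.Agent.Lib.Helper18.TopDim Groth.Agent.Lib.Helper29.QCoh

section Top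

variable {T X : Type u} [TopologicalSpace T] [TopologicalSpace X]

theorem topologicalKrullDim_range_eq {e : T → X} (he : Topology.IsEmbedding e) :
    topologicalKrullDim ↥(Set.range e) = topologicalKrullDim T :=
  (IsHomeomorph.topologicalKrullDim_eq _ he.toHomeomorph.isHomeomorph).symm

end Top

section Scheme

variable {X : Scheme.{u}}

/-- the space of generizations of `x` has the dimension of the local ring at `x` -/
theorem topologicalKrullDim_generizations_eq_ringKrullDim (x : X) :
    topologicalKrullDim ↥{t : X | t ⤳ x} = ringKrullDim (X.presheaf.stalk x) := by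
  rw [← Scheme.range_fromSpecStalk,
    topologicalKrullDim_range_eq (X.fromSpecStalk x).isEmbedding]
  exact PrimeSpectrum.topologicalKrullDim_eq_ringKrullDim _

theorem fromSpecStalk_mem_basicOpen_iff {U : X.Opens} (hU : IsAffineOpen U) (x : X) (hxU : x ∈ U)
    (q : PrimeSpectrum (X.presheaf.stalk x)) (r : Γ(X, U)) :
    (X.fromSpecStalk x) q ∈ X.basicOpen r ↔ X.presheaf.germ U x hxU r ∉ q.asIdeal := by
  have e1 : (X.fromSpecStalk x) q = hU.fromSpec (Spec.map (X.presheaf.germ U x hxU) q) := by
    rw [← hU.fromSpecStalk_eq_fromSpecStalk hxU]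
    rfl
  have e2 : hU.fromSpec ⁻¹ᵁ X.basicOpen r = PrimeSpectrum.basicOpen r :=
    hU.fromSpec_preimage_basicOpen r
  rw [e1]
  change (Spec.map (X.presheaf.germ U x hxU) q) ∈ hU.fromSpec ⁻¹ᵁ X.basicOpen r ↔ _
  rw [e2]
  rfl

/-- the support of the stalk of a quasi-coherent module is the trace of the support -/
theorem fromSpecStalk_mem_support_iff (F : X.Modules) [F.IsQuasicoherent] (x : X)
    (q : PrimeSpectrum (X.presheaf.stalk x)) :
    (X.fromSpecStalk x) q ∈ CohB1.support F ↔
      q ∈ Module.support (X.presheaf.stalk x) (F.presheaf.stalk x) := by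
  obtain ⟨U, hU, hxU, -⟩ := exists_isAffineOpen_mem_and_subset (x := x) (U := ⊤) trivial
  set t := (X.fromSpecStalk x) q with ht
  have htx : t ⤳ x := by
    have : t ∈ Set.range (X.fromSpecStalk x) := ⟨q, rfl⟩
    rwa [Scheme.range_fromSpecStalk] at this
  have htU : t ∈ U := htx.mem_open U.2 hxU
  have hbo := fromSpecStalk_mem_basicOpen_iff hU x hxU q
  rw [← not_iff_not, CohB1.support, Set.mem_setOf_eq, not_not, Module.notMem_support_iff',
    stalk_subsingleton_iff F hU t htU]
  constructor
  · intro h m
    obtain ⟨r, n, hr, hrm⟩ := exists_smul_germ_eq F hU x hxU m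
    obtain ⟨a, hat, han⟩ := h n
    have hunit : IsUnit (X.presheaf.germ U x hxU r) := isUnit_germ_of_mem_basicOpen r x hxU hr
    refine ⟨X.presheaf.germ U x hxU a * X.presheaf.germ U x hxU r, ?_, ?_⟩
    · intro hmem
      rcases q.isPrime.mem_or_mem hmem with h1 | h1
      · exact (hbo a).1 hat h1
      · exact q.isPrime.ne_top (Ideal.eq_top_of_isUnit_mem _ h1 hunit)
    · rw [mul_smul, hrm, ← germ_smul, han, map_zero]
  · intro h n
    obtain ⟨r, hrq, hrn⟩ := h (F.presheaf.germ U x hxU n)
    let _ : Algebra Γ(X, U) (X.presheaf.stalk x) :=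
      TopCat.Presheaf.algebra_section_stalk X.presheaf ⟨x, hxU⟩
    have hloc := hU.isLocalization_stalk ⟨x, hxU⟩
    obtain ⟨⟨a, s⟩, has⟩ := IsLocalization.surj (hU.primeIdealOf ⟨x, hxU⟩).asIdeal.primeCompl r
    have has' : r * X.presheaf.germ U x hxU s.1 = X.presheaf.germ U x hxU a := has
    have hsunit : IsUnit (X.presheaf.germ U x hxU s.1) := by
      rw [← Scheme.mem_basicOpen _ _ _ hxU, mem_basicOpen_iff_notMem_primeIdealOf hU x hxU]
      exact s.2
    have h0 : F.presheaf.germ U x hxU (a • n) = 0 := by
      rw [germ_smul, ← has', mul_comm, mul_smul, hrn, smul_zero]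
    obtain ⟨b, hb, hban⟩ := (germ_eq_zero_iff F hU x hxU (a • n)).1 h0
    have hbunit : IsUnit (X.presheaf.germ U x hxU b) := isUnit_germ_of_mem_basicOpen b x hxU hb
    refine ⟨b * a, ?_, ?_⟩
    · rw [hbo, map_mul]
      intro hmem
      rcases q.isPrime.mem_or_mem hmem with h1 | h1
      · exact q.isPrime.ne_top (Ideal.eq_top_of_isUnit_mem _ h1 hbunit)
      · rw [← has'] at h1
        rcases q.isPrime.mem_or_mem h1 with h2 | h2
        · exact hrq h2
        · exact q.isPrime.ne_top (Ideal.eq_top_of_isUnit_mem _ h2 hsunit)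
    · rw [mul_smul, hban]

/-- **the dimension of the stalk of a coherent module is the dimension of the space of
generizations in the support** -/
theorem topologicalKrullDim_support_generizations (F : X.Modules) [F.IsQuasicoherent]
    [F.IsFiniteType] (x : X) :
    topologicalKrullDim ↥{t : X | t ∈ CohB1.support F ∧ t ⤳ x} =
      Module.supportDim (X.presheaf.stalk x) (F.presheaf.stalk x) := by
  haveI := Groth.Agent.Lib.Helper17.ZClosDepth.module_finite_stalk F x
  set R := X.presheaf.stalk x
  set M := F.presheaf.stalk x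
  have hset : {t : X | t ∈ CohB1.support F ∧ t ⤳ x} =
      (X.fromSpecStalk x) '' (Module.support R M) := by
    ext t
    constructor
    · rintro ⟨htF, htx⟩
      have : t ∈ Set.range (X.fromSpecStalk x) := by
        rw [Scheme.range_fromSpecStalk]; exact htx
      obtain ⟨q, rfl⟩ := this
      exact ⟨q, (fromSpecStalk_mem_support_iff F x q).1 htF, rfl⟩
    · rintro ⟨q, hq, rfl⟩
      refine ⟨(fromSpecStalk_mem_support_iff F x q).2 hq, ?_⟩
      have : (X.fromSpecStalk x) q ∈ Set.range (X.fromSpecStalk x) := ⟨q, rfl⟩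
      rwa [Scheme.range_fromSpecStalk] at this
  rw [hset, topologicalKrullDim_image_eq (X.fromSpecStalk x).isEmbedding,
    Module.supportDim_eq_ringKrullDim_quotient_annihilator, Module.support_eq_zeroLocus,
    ← PrimeSpectrum.topologicalKrullDim_eq_ringKrullDim]
  have hsurj : Function.Surjective (Ideal.Quotient.mk (Module.annihilator R M)) :=
    Ideal.Quotient.mk_surjective
  have hemb := (PrimeSpectrum.isClosedEmbedding_comap_of_surjective _
    (Ideal.Quotient.mk (Module.annihilator R M)) hsurj).isEmbedding
  rw [← topologicalKrullDim_range_eq hemb, _root_.range_comap_of_surjective _ _ hsurj,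
    Ideal.mk_ker]
  rfl

end Scheme

end Groth.Agent.Lib.Helper18.JacDim
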