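import Mathlib
import Groth.Agent.Lib.Helper18.JacDim7
import Groth.Agent.Lib.Helper29.QCohAss2
import Groth.Agent.Lib.Helper29.ZeroDim
import Groth.Agent.Lib.Helper9.FinLenSupp

/-!
# Finite length of stalks of coherent modules at maximal points of the support
-/

set_option autoImplicit false
set_option linter.unusedSectionVars false
set_option linter.style.haveILetI false
universe u
open AlgebraicGeometry CategoryTheory TopologicalSpace

namespace Groth.Agent.Lib.Helper18.CycLen

open Groth.Agent.Lib.Helper18.JacDim Groth.Agent.Lib.Helper29.QCoh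

variable {X : Scheme.{u}} [IsLocallyNoetherian X]

theorem support_eq_setOf_nontrivial (F : X.Modules) :
    CohB1.support F = {x : X | Nontrivial (F.presheaf.stalk x)} := by
  ext x
  simp only [CohB1.support, Set.mem_setOf_eq, not_subsingleton_iff_nontrivial]

/-- at a point of the support with no proper generization in the support, the stalk of a coherent
module has finite length -/
theorem isFiniteLength_stalk_of_maximal (F : X.Modules) [F.IsQuasicoherent] [F.IsFiniteType]
    (ξ : X) (hmax : ∀ x : X, x ∈ CohB1.support F → x ⤳ ξ → x = ξ) :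
    IsFiniteLength (X.presheaf.stalk ξ) (F.presheaf.stalk ξ) := by
  haveI := Groth.Agent.Lib.Helper17.ZClosDepth.module_finite_stalk F ξ
  apply Groth.Agent.Lib.Helper9.FinLenSupp.isFiniteLength_of_support_subset
  intro q hq
  have hmem := (fromSpecStalk_mem_support_iff F ξ q).2 hq
  have htx : (X.fromSpecStalk ξ) q ⤳ ξ := by
    have : (X.fromSpecStalk ξ) q ∈ Set.range (X.fromSpecStalk ξ) := ⟨q, rfl⟩
    rwa [Scheme.range_fromSpecStalk] at this
  have heq : (X.fromSpecStalk ξ) q = ξ := hmax _ hmem htx
  have hq' : q = IsLocalRing.closedPoint (X.presheaf.stalk ξ) := by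
    apply (X.fromSpecStalk ξ).isEmbedding.injective
    rw [heq, Scheme.fromSpecStalk_closedPoint]
  rw [hq']
  rfl

theorem length_stalk_lt_top_of_maximal (F : X.Modules) [F.IsQuasicoherent] [F.IsFiniteType]
    (ξ : X) (hmax : ∀ x : X, x ∈ CohB1.support F → x ⤳ ξ → x = ξ) :
    Module.length (X.presheaf.stalk ξ) (F.presheaf.stalk ξ) < ⊤ :=
  (Module.length_ne_top_iff.2 (isFiniteLength_stalk_of_maximal F ξ hmax)).lt_top

end Groth.Agent.Lib.Helper18.CycLen
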