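import Mathlib
import Groth.Agent.Lib.Helper18.FlF
import Groth.Agent.Lib.Helper8.FlatAffine
import Groth.Agent.Lib.Helper29.QCohFP2

/-!
# Openness of the flat locus of a finitely presented quasi-coherent module (helper18)
-/

set_option backward.isDefEq.respectTransparency.types false
set_option autoImplicit false
set_option linter.unusedSectionVars false

namespace Groth.Agent.Lib.Helper18.Fl

open TensorProduct Function AlgebraicGeometry CategoryTheory
open Groth.Agent.Lib.Helper29.QCoh Groth.Agent.Lib.Helper8.FlatLoc Groth.Agent.Lib.Helper8.FlatAffine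

universe u

variable {X S : Scheme.{u}} (f : X ⟶ S) (F : X.Modules)

/-- flatness of the stalk over the base in terms of the localized module of sections -/
theorem isFlatOverAt_iff_flat_localizedModule [F.IsQuasicoherent] {U : X.Opens} {V : S.Opens}
    (hU : IsAffineOpen U) (hV : IsAffineOpen V) (hUV : U ≤ f ⁻¹ᵁ V) (x : X) (hx : x ∈ U) :
    FlatMod.IsFlatOverAt f F x ↔
      (letI : Algebra Γ(S, V) Γ(X, U) := (f.appLE V U hUV).hom.toAlgebra
       letI : Module Γ(S, V) Γ(F, U) := Module.compHom _ (f.appLE V U hUV).hom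
       haveI : IsScalarTower Γ(S, V) Γ(X, U) Γ(F, U) :=
         IsScalarTower.of_algebraMap_smul (fun r m => rfl)
       Module.Flat Γ(S, V)
        (LocalizedModule (hU.primeIdealOf ⟨x, hx⟩).asIdeal.primeCompl Γ(F, U))) := by
  letI algAB : Algebra Γ(S, V) Γ(X, U) := (f.appLE V U hUV).hom.toAlgebra
  letI mAM : Module Γ(S, V) Γ(F, U) := Module.compHom _ (f.appLE V U hUV).hom
  haveI : IsScalarTower Γ(S, V) Γ(X, U) Γ(F, U) :=
    IsScalarTower.of_algebraMap_smul (fun r m => rfl)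
  letI mBx : Module Γ(X, U) (F.presheaf.stalk x) := stalkModule F U x hx
  letI mAx : Module Γ(S, V) (F.presheaf.stalk x) :=
    Module.compHom _ ((X.presheaf.germ U x hx).hom.comp (f.appLE V U hUV).hom)
  haveI : IsScalarTower Γ(S, V) Γ(X, U) (F.presheaf.stalk x) :=
    IsScalarTower.of_algebraMap_smul (fun r m => rfl)
  haveI := isLocalizedModule_germ F hU x hx
  have hfx : f x ∈ V := hUV hx
  letI algAy : Algebra Γ(S, V) (S.presheaf.stalk (f x)) :=
    TopCat.Presheaf.algebra_section_stalk S.presheaf ⟨f x, hfx⟩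
  haveI := hV.isLocalization_stalk ⟨f x, hfx⟩
  letI mAyx := FlatMod.moduleStalkOver f F x
  haveI : IsScalarTower Γ(S, V) (S.presheaf.stalk (f x)) (F.presheaf.stalk x) :=
    IsScalarTower.of_algebraMap_smul (fun r m => by
      change (f.stalkMap x).hom (S.presheaf.germ V (f x) hfx r) • m =
        X.presheaf.germ U x hx ((f.appLE V U hUV).hom r) • m
      rw [germ_appLE])
  have h1 : FlatMod.IsFlatOverAt f F x ↔ Module.Flat Γ(S, V) (F.presheaf.stalk x) :=
    Module.flat_iff_of_isLocalization (S.presheaf.stalk (f x))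
      (hV.primeIdealOf ⟨f x, hfx⟩).asIdeal.primeCompl _
  rw [h1]
  have e := IsLocalizedModule.iso (hU.primeIdealOf ⟨x, hx⟩).asIdeal.primeCompl (germₗ F U x hx)
  exact ⟨fun h => Module.Flat.of_linearEquiv (e.restrictScalars Γ(S, V)),
    fun h => Module.Flat.of_linearEquiv (e.restrictScalars Γ(S, V)).symm⟩

theorem isOpen_isFlatOverAt [LocallyOfFinitePresentation f] [F.IsQuasicoherent]
    [F.IsFinitePresentation] : IsOpen {x : X | FlatMod.IsFlatOverAt f F x} := by
  rw [isOpen_iff_forall_mem_open]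
  intro x hx
  obtain ⟨⟨V, hV⟩, hfxV⟩ : ∃ V : S.affineOpens, f x ∈ V.1 := by
    obtain ⟨_, ⟨V, hV : IsAffineOpen V, rfl⟩, hxV, -⟩ :=
      S.isBasis_affineOpens.exists_subset_of_mem_open (Set.mem_univ (f x)) isOpen_univ
    exact ⟨⟨V, hV⟩, hxV⟩
  obtain ⟨⟨U, hU⟩, hxU, hUV⟩ : ∃ U : X.affineOpens, x ∈ U.1 ∧ U.1 ≤ f ⁻¹ᵁ V := by
    obtain ⟨_, ⟨U, hU : IsAffineOpen U, rfl⟩, hxU, hUV⟩ :=
      X.isBasis_affineOpens.exists_subset_of_mem_open (show x ∈ (f ⁻¹ᵁ V : Set X) from hfxV)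
        (f ⁻¹ᵁ V).isOpen
    exact ⟨⟨U, hU⟩, hxU, hUV⟩
  have hfp : RingHom.FinitePresentation (f.appLE V U hUV).hom :=
    HasRingHomProperty.appLE (P := @LocallyOfFinitePresentation) f inferInstance ⟨V, hV⟩ ⟨U, hU⟩
      hUV
  letI algAB : Algebra Γ(S, V) Γ(X, U) := (f.appLE V U hUV).hom.toAlgebra
  letI mAM : Module Γ(S, V) Γ(F, U) := Module.compHom _ (f.appLE V U hUV).hom
  haveI : IsScalarTower Γ(S, V) Γ(X, U) Γ(F, U) :=
    IsScalarTower.of_algebraMap_smul (fun r m => rfl)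
  haveI : Algebra.FinitePresentation Γ(S, V) Γ(X, U) := hfp
  haveI : Module.FinitePresentation Γ(X, U) Γ(F, U) :=
    module_finitePresentation_of_isFinitePresentation F hU
  have hO : IsOpen {q : PrimeSpectrum Γ(X, U) |
      Module.Flat Γ(S, V) (LocalizedModule q.asIdeal.primeCompl Γ(F, U))} :=
    isOpen_flatLocus (R := Γ(S, V)) (S := Γ(X, U)) (M := Γ(F, U))
  have key : ∀ (y : X) (hy : y ∈ U), FlatMod.IsFlatOverAt f F y ↔
      Module.Flat Γ(S, V)
        (LocalizedModule (hU.primeIdealOf ⟨y, hy⟩).asIdeal.primeCompl Γ(F, U)) :=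
    fun y hy => isFlatOverAt_iff_flat_localizedModule f F hU hV hUV y hy
  refine ⟨Subtype.val '' ((fun y : U => hU.primeIdealOf y) ⁻¹'
    {q : PrimeSpectrum Γ(X, U) |
      Module.Flat Γ(S, V) (LocalizedModule q.asIdeal.primeCompl Γ(F, U))}), ?_, ?_, ?_⟩
  · rintro _ ⟨⟨y, hy⟩, hyO, rfl⟩
    exact (key y hy).mpr hyO
  · refine U.isOpen.isOpenMap_subtype_val _ (hO.preimage ?_)
    exact hU.isoSpec.hom.continuous
  · exact ⟨⟨x, hxU⟩, (key x hxU).mp hx, rfl⟩

end Groth.Agent.Lib.Helper18.Fl
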