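import Mathlib
import Groth.Agent.Lib.Helper18.FlM
import Groth.Agent.Lib.Helper29.QCohPullback
import Groth.Agent.Lib.Helper29.TildeFin

/-!
# Pullback of a tilde along an affine base change (helper18)
-/

set_option autoImplicit false
set_option linter.unusedSectionVars false

namespace Groth.Agent.Lib.Helper18.Fl

open TensorProduct Function CategoryTheory AlgebraicGeometry Opposite
open Groth.Agent.Lib.Helper29.QCoh

universe u

/-- On an affine scheme, a quasi-coherent module whose module of global sections is a base change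
of `M₀` along `B₀ → Γ(X, ⊤)` is the inverse image of `M₀~`. -/
theorem exists_pullback_tilde_iso {X : Scheme.{u}} [IsAffine X] (F : X.Modules)
    [F.IsQuasicoherent]
    {B₀ : Type u} [CommRing B₀] [inst : Algebra B₀ Γ(X, ⊤)] (M₀ : Type u) [AddCommGroup M₀]
    [Module B₀ M₀] [Module B₀ Γ(F, ⊤)] [tw : IsScalarTower B₀ Γ(X, ⊤) Γ(F, ⊤)]
    (f : M₀ →ₗ[B₀] Γ(F, ⊤)) (hf : IsBaseChange Γ(X, ⊤) f) :
    Nonempty ((Scheme.Modules.pullback
      (X.isoSpec.hom ≫ Spec.map (CommRingCat.ofHom (algebraMap B₀ Γ(X, ⊤))))).obj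
        (tilde (R := CommRingCat.of B₀) (ModuleCat.of B₀ M₀)) ≅ F) := by
  obtain ⟨ψ, hψ⟩ : ∃ ψ : CommRingCat.of B₀ ⟶ Γ(X, ⊤),
      ψ = CommRingCat.ofHom (algebraMap B₀ Γ(X, ⊤)) := ⟨_, rfl⟩
  rw [← hψ]
  have hU := isAffineOpen_top X
  -- the module-level isomorphism
  have eM : (ModuleCat.extendScalars ψ.hom).obj (ModuleCat.of B₀ M₀) ≅
      moduleSpecΓFunctor.obj (F.restrict hU.fromSpec) := by
    subst hψ
    have t₂ : @IsScalarTower B₀ Γ(X, ⊤) Γ(F, ⊤) (algebraMap B₀ Γ(X, ⊤)).toAlgebra.toSMul _ _ := by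
      refine @IsScalarTower.mk _ _ _ (algebraMap B₀ Γ(X, ⊤)).toAlgebra.toSMul _ _
        (fun b x m => ?_)
      change (algebraMap B₀ Γ(X, ⊤) b * x) • m = b • (x • m)
      rw [mul_smul, algebraMap_smul]
    let a₂ : Algebra B₀ Γ(X, ⊤) := (algebraMap B₀ Γ(X, ⊤)).toAlgebra
    have hf₂ := isBaseChange_of_algebra_eq inst a₂ (fun r => rfl) tw t₂ f hf
    exact ((extendScalarsEquiv (algebraMap B₀ Γ(X, ⊤)) (ModuleCat.of B₀ M₀)) ≪≫ₗ
      (@IsBaseChange.equiv _ _ _ _ _ _ _ _ a₂ _ _ _ t₂ _ hf₂) ≪≫ₗ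
      sectionsRestrictFromSpecEquiv F hU).toModuleIso
  haveI hq : (F.restrict hU.fromSpec).IsQuasicoherent := inferInstance
  have e4 := asIso (Scheme.Modules.fromTildeΓ (F.restrict hU.fromSpec))
  have h1 : X.isoSpec.hom ≫ hU.fromSpec = 𝟙 X := by
    rw [IsAffineOpen.fromSpec_top]
    exact X.isoSpec.hom_inv_id
  exact ⟨((Scheme.Modules.pullbackComp X.isoSpec.hom (Spec.map ψ)).app _).symm ≪≫
    (Scheme.Modules.pullback X.isoSpec.hom).mapIso
      ((tildePullbackIso ψ).app (ModuleCat.of B₀ M₀) ≪≫ (tilde.functor _).mapIso eM ≪≫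
        e4 ≪≫
        (Scheme.Modules.restrictFunctorIsoPullback hU.fromSpec).app F) ≪≫
    (Scheme.Modules.pullbackComp X.isoSpec.hom hU.fromSpec).app F ≪≫
    (Scheme.Modules.pullbackCongr h1).app F ≪≫ (Scheme.Modules.pullbackId X).app F⟩

end Groth.Agent.Lib.Helper18.Fl
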