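import Mathlib
import Groth.Agent.Lib.Helper18.FlN
import Groth.Agent.Lib.Helper8.FlatAffine

/-!
# Flatness of quasi-coherent modules over affine morphisms: the global dictionary (helper18)
-/

set_option autoImplicit false
set_option linter.unusedSectionVars false

namespace Groth.Agent.Lib.Helper18.Fl

open TensorProduct Function CategoryTheory AlgebraicGeometry Opposite
open Groth.Agent.Lib.Helper29.QCoh

universe u

/-- Flatness transfers along a ring isomorphism compatible with the actions. -/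
theorem flat_of_ringEquiv {R R' M : Type*} [CommRing R] [CommRing R'] [AddCommGroup M]
    [Module R M] [Module R' M] (σ : R ≃+* R') (h : ∀ (r : R) (m : M), r • m = σ r • m)
    [Module.Flat R' M] : Module.Flat R M := by
  letI : Algebra R R' := σ.toRingHom.toAlgebra
  haveI : IsScalarTower R R' M := by
    refine ⟨fun r r' m => ?_⟩
    change (σ r * r') • m = r • (r' • m)
    rw [mul_smul, h]
  haveI : Module.Flat R R' := by
    have e : R' ≃ₗ[R] R :=
      { toFun := σ.symm
        map_add' := map_add _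
        map_smul' := fun r x => by
          change σ.symm (σ r * x) = r * σ.symm x
          rw [map_mul, RingEquiv.symm_apply_apply]
        invFun := σ
        left_inv := σ.apply_symm_apply
        right_inv := σ.symm_apply_apply }
    exact Module.Flat.of_linearEquiv e
  exact Module.Flat.trans R R' M

theorem appLE_top_top {X S : Scheme.{u}} (f : X ⟶ S) (e : (⊤ : X.Opens) ≤ f ⁻¹ᵁ ⊤) :
    f.appLE ⊤ ⊤ e = f.appTop := by
  simp [Scheme.Hom.appLE]

/-- Global flatness over an affine base. -/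
theorem flat_sections_top_of_isFlatOver {X S : Scheme.{u}} (f : X ⟶ S) [IsAffine X] [IsAffine S]
    (F : X.Modules) [F.IsQuasicoherent] (hfl : FlatMod.IsFlatOver f F) :
    @Module.Flat Γ(S, ⊤) Γ(F, ⊤) _ _ (Module.compHom _ f.appTop.hom) := by
  have e : (⊤ : X.Opens) ≤ f ⁻¹ᵁ ⊤ := le_rfl
  have h := Groth.Agent.Lib.Helper8.FlatAffine.flat_sections_of_isFlatOverAt f F
    (isAffineOpen_top X) (isAffineOpen_top S) e (fun x _ => hfl x)
  rw [appLE_top_top] at h
  exact h

/-- `M₀~` on `Spec B₀` is flat over `Spec A₀` if `M₀` is flat over `A₀`. -/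
theorem isFlatOver_SpecMap_tilde {A₀ B₀ : Type u} [CommRing A₀] [CommRing B₀] [Algebra A₀ B₀]
    (M₀ : Type u) [AddCommGroup M₀] [Module B₀ M₀] [Module A₀ M₀] [IsScalarTower A₀ B₀ M₀]
    [Module.Flat A₀ M₀] :
    FlatMod.IsFlatOver (Spec.map (CommRingCat.ofHom (algebraMap A₀ B₀)))
      (tilde (R := CommRingCat.of B₀) (ModuleCat.of B₀ M₀)) := by
  intro x
  obtain ⟨φ, hφ⟩ : ∃ φ : CommRingCat.of A₀ ⟶ CommRingCat.of B₀,
      φ = CommRingCat.ofHom (algebraMap A₀ B₀) := ⟨_, rfl⟩
  rw [← hφ]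
  obtain ⟨N, hN⟩ : ∃ N : (Spec (CommRingCat.of B₀)).Modules,
      N = tilde (R := CommRingCat.of B₀) (ModuleCat.of B₀ M₀) := ⟨_, rfl⟩
  rw [← hN]
  haveI : N.IsQuasicoherent := by rw [hN]; infer_instance
  have e : (⊤ : (Spec (CommRingCat.of B₀)).Opens) ≤ (Spec.map φ) ⁻¹ᵁ ⊤ := le_rfl
  refine Groth.Agent.Lib.Helper8.FlatAffine.isFlatOverAt_of_flat_sections (Spec.map φ) N
    (isAffineOpen_top _) (isAffineOpen_top _) e x trivial ?_
  rw [appLE_top_top]
  letI mΓ : Module Γ(Spec (CommRingCat.of A₀), ⊤) Γ(N, ⊤) :=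
    Module.compHom _ (Spec.map φ).appTop.hom
  letI mB : Module B₀ Γ(N, ⊤) :=
    ((modulesSpecToSheaf.obj N).presheaf.obj (.op ⊤)).isModule
  letI mA : Module A₀ Γ(N, ⊤) := Module.compHom _ (algebraMap A₀ B₀)
  haveI : Module.Flat A₀ Γ(N, ⊤) := by
    have eq : M₀ ≃ₗ[B₀] Γ(N, ⊤) := by
      subst hN
      exact (tilde.isoTop (R := CommRingCat.of B₀) (ModuleCat.of B₀ M₀)).toLinearEquiv
    have eqA : Γ(N, ⊤) ≃ₗ[A₀] M₀ :=
      { eq.symm with
        map_smul' := fun a m => by
          change eq.symm (algebraMap A₀ B₀ a • m) = a • eq.symm m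
          rw [map_smul, algebraMap_smul] }
    exact Module.Flat.of_linearEquiv eqA
  refine flat_of_ringEquiv (Scheme.ΓSpecIso (CommRingCat.of A₀)).commRingCatIsoToRingEquiv
    (fun r m => ?_)
  have key : (Spec.map φ).appTop.hom r =
      ((Spec (CommRingCat.of B₀)).presheaf.map
        (⊤ : (Spec (CommRingCat.of B₀)).Opens).leTop.op).hom
        ((Scheme.ΓSpecIso (CommRingCat.of B₀)).inv.hom (algebraMap A₀ B₀
          ((Scheme.ΓSpecIso (CommRingCat.of A₀)).hom.hom r))) := by
    have h0 : (⊤ : (Spec (CommRingCat.of B₀)).Opens).leTop = 𝟙 _ := Subsingleton.elim _ _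
    rw [h0]
    have h1 := Scheme.ΓSpecIso_inv_naturality φ
    have h2 := congrArg (fun g => g.hom ((Scheme.ΓSpecIso (CommRingCat.of A₀)).hom.hom r)) h1
    simp only [CommRingCat.hom_comp, RingHom.comp_apply] at h2
    rw [hφ] at h2
    simp only [CommRingCat.hom_ofHom] at h2
    rw [← hφ] at h2
    rw [h2]
    simp
  exact congrArg (· • m) key

end Groth.Agent.Lib.Helper18.Fl
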