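import Mathlib
import Groth.Agent.Lib.Helper18.SchDim4
import Groth.Agent.Lib.Helper21.DimLoc1

/-!
# Local form of the dimension formula

`cd_add_trdeg_eq_local`: if `A_p` is universally catenary, `B` of finite type over `A`,
`Q₀ ≤ q` primes of `B` over `P₀ ≤ p`, then
`cd(Q₀,q) + trdeg (A/p) (B/q) = cd(P₀,p) + trdeg (A/P₀) (B/Q₀)`.
-/

set_option autoImplicit false
set_option linter.unusedSectionVars false
set_option linter.style.haveILetI false
universe u v
open AlgebraicGeometry CategoryTheory TopologicalSpace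

namespace Groth.Agent.Lib.Helper18.SchDim

open Groth.Agent.Lib.Helper12.Codim Groth.Agent.Lib.Helper18.DimFormula
open Groth.Agent.Lib.Helper21.DimLoc

lemma cd_comap_of_isLocalization {C : Type u} [CommRing C] (M : Submonoid C) (B : Type u)
    [CommRing B] [Algebra C B] [IsLocalization M B] (a b : PrimeSpectrum B) :
    cd (PrimeSpectrum.comap (algebraMap C B) a) (PrimeSpectrum.comap (algebraMap C B) b) =
      cd a b :=
  cd_map (comapEmbOfIsLocalization (B := B) M)
    (by rw [range_comapEmbOfIsLocalization]; exact ordConnected_disjoint M) a b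

/-- **Local dimension formula**: only the local ring `A_p` needs to be universally catenary. -/
theorem cd_add_trdeg_eq_local (A B : Type u) [CommRing A] [CommRing B] [Algebra A B]
    [Algebra.FiniteType A B] (p : Ideal A) [hp : p.IsPrime]
    (hA : CAlg.IsUniversallyCatenary (Localization.AtPrime p))
    (Q₀ q : Ideal B) [hQ₀ : Q₀.IsPrime] [hq : q.IsPrime] (h : Q₀ ≤ q) [hqp : q.LiesOver p]
    (P₀ : Ideal A) [hP₀ : P₀.IsPrime] [hQP : Q₀.LiesOver P₀] :
    ((cd (⟨Q₀, hQ₀⟩ : PrimeSpectrum B) ⟨q, hq⟩ : ℕ∞) : Cardinal.{u}) +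
        Algebra.trdeg (A ⧸ p) (B ⧸ q) =
      ((cd (⟨P₀, hP₀⟩ : PrimeSpectrum A) ⟨p, hp⟩ : ℕ∞) : Cardinal.{u}) +
        Algebra.trdeg (A ⧸ P₀) (B ⧸ Q₀) := by
  haveI := hA.1
  let M := p.primeCompl
  let A' := Localization.AtPrime p
  let N := Algebra.algebraMapSubmonoid B M
  let B' := Localization N
  haveI hft : Algebra.FiniteType A' B' := by
    have h0 : (algebraMap A B).FiniteType :=
      RingHom.finiteType_algebraMap.mpr (inferInstance : Algebra.FiniteType A B)
    have h1 : IsLocalization (M.map (algebraMap A B)) B' :=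
      (inferInstance : IsLocalization N (Localization N))
    have := RingHom.finiteType_localizationPreserves (algebraMap A B) M A' B' h0
    exact RingHom.finiteType_algebraMap.mp this
  have hdisj : Disjoint (N : Set B) (q : Set B) := by
    rw [Set.disjoint_left]
    rintro _ ⟨a, ha, rfl⟩ hb
    apply ha
    change a ∈ p
    rw [Ideal.over_def q p]
    exact hb
  have hdisj0 : Disjoint (N : Set B) (Q₀ : Set B) := Set.disjoint_of_subset_right h hdisj
  let q' := q.map (algebraMap B B')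
  let Q₀' := Q₀.map (algebraMap B B')
  haveI hq'prime : q'.IsPrime := IsLocalization.isPrime_of_isPrime_disjoint N B' q hq hdisj
  haveI hQ₀'prime : Q₀'.IsPrime := IsLocalization.isPrime_of_isPrime_disjoint N B' Q₀ hQ₀ hdisj0
  have hq'under : q'.under B = q := IsLocalization.under_map_of_isPrime_disjoint N B' hq hdisj
  have hQ₀'under : Q₀'.under B = Q₀ :=
    IsLocalization.under_map_of_isPrime_disjoint N B' hQ₀ hdisj0
  have hle' : Q₀' ≤ q' := Ideal.map_mono h
  haveI : (q'.under A').IsPrime := Ideal.comap_isPrime _ _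
  haveI : (Q₀'.under A').IsPrime := Ideal.comap_isPrime _ _
  haveI : q'.LiesOver (q'.under A') := ⟨rfl⟩
  haveI : Q₀'.LiesOver (Q₀'.under A') := ⟨rfl⟩
  have key := cd_add_trdeg_eq A' B'
    (fun P _ S _ _ _ _ _ p _ q _ _ =>
      dim_formula (A' ⧸ P) (Ratliff.isUniversallyCatenary_quotient A' hA P) S p q)
    Q₀' q' hle' (Q₀'.under A') (q'.under A')
  -- transcendence degrees
  have hunder : (q'.under A').under A = p := by
    rw [Ideal.under_under, ← Ideal.under_under (B := B), hq'under, ← Ideal.over_def q p]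
  have hunder0 : (Q₀'.under A').under A = P₀ := by
    rw [Ideal.under_under, ← Ideal.under_under (B := B), hQ₀'under, ← Ideal.over_def Q₀ P₀]
  have hfA := fraction_of_isLocalization (R := A) (R' := A') M
  have hfB := fraction_of_isLocalization (R := B) (R' := B') N
  have l1 : (q'.under A').LiesOver p := ⟨hunder.symm⟩
  have l2 : q'.LiesOver q := ⟨hq'under.symm⟩
  have l3 : q'.LiesOver p := ⟨by rw [← Ideal.under_under (B := B), hq'under, ← Ideal.over_def q p]⟩
  have ht1 : Algebra.trdeg (A' ⧸ q'.under A') (B' ⧸ q') = Algebra.trdeg (A ⧸ p) (B ⧸ q) :=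
    trdeg_quotient_eq_of_fraction hfA hfB p q (q'.under A') q'
  have l4 : (Q₀'.under A').LiesOver P₀ := ⟨hunder0.symm⟩
  have l5 : Q₀'.LiesOver Q₀ := ⟨hQ₀'under.symm⟩
  have l6 : Q₀'.LiesOver P₀ := ⟨by
    rw [← Ideal.under_under (B := B), hQ₀'under, ← Ideal.over_def Q₀ P₀]⟩
  have ht2 : Algebra.trdeg (A' ⧸ Q₀'.under A') (B' ⧸ Q₀') = Algebra.trdeg (A ⧸ P₀) (B ⧸ Q₀) :=
    trdeg_quotient_eq_of_fraction hfA hfB P₀ Q₀ (Q₀'.under A') Q₀'
  -- codimensions
  have hc1 : cd (⟨Q₀', hQ₀'prime⟩ : PrimeSpectrum B') ⟨q', hq'prime⟩ =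
      cd (⟨Q₀, hQ₀⟩ : PrimeSpectrum B) ⟨q, hq⟩ := by
    rw [← cd_comap_of_isLocalization N B']
    congr 1
    · exact PrimeSpectrum.ext hQ₀'under
    · exact PrimeSpectrum.ext hq'under
  have hc2 : cd (⟨Q₀'.under A', inferInstance⟩ : PrimeSpectrum A') ⟨q'.under A', inferInstance⟩ =
      cd (⟨P₀, hP₀⟩ : PrimeSpectrum A) ⟨p, hp⟩ := by
    rw [← cd_comap_of_isLocalization M A']
    congr 1
    · exact PrimeSpectrum.ext hunder0
    · exact PrimeSpectrum.ext hunder
  rw [ht1, ht2, hc1, hc2] at key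
  exact key

/-- the same with any model `A'` of the localisation `A_p` -/
theorem cd_add_trdeg_eq_local' (A B : Type u) [CommRing A] [CommRing B] [Algebra A B]
    [Algebra.FiniteType A B] (p : Ideal A) [hp : p.IsPrime]
    (A' : Type u) [CommRing A'] [Algebra A A'] [IsLocalization.AtPrime A' p]
    (hA : CAlg.IsUniversallyCatenary A')
    (Q₀ q : Ideal B) [hQ₀ : Q₀.IsPrime] [hq : q.IsPrime] (h : Q₀ ≤ q) [hqp : q.LiesOver p]
    (P₀ : Ideal A) [hP₀ : P₀.IsPrime] [hQP : Q₀.LiesOver P₀] :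
    ((cd (⟨Q₀, hQ₀⟩ : PrimeSpectrum B) ⟨q, hq⟩ : ℕ∞) : Cardinal.{u}) +
        Algebra.trdeg (A ⧸ p) (B ⧸ q) =
      ((cd (⟨P₀, hP₀⟩ : PrimeSpectrum A) ⟨p, hp⟩ : ℕ∞) : Cardinal.{u}) +
        Algebra.trdeg (A ⧸ P₀) (B ⧸ Q₀) :=
  cd_add_trdeg_eq_local A B p
    (isUniversallyCatenary_of_ringEquiv
      (IsLocalization.algEquiv p.primeCompl A' (Localization.AtPrime p)).toRingEquiv hA)
    Q₀ q h P₀

end Groth.Agent.Lib.Helper18.SchDim
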