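import Mathlib
import Groth.Agent.Lib.Helper18.FamCyc2
import Groth.Agent.Lib.Helper18.SkLift

set_option autoImplicit false
universe u

open IsLocalRing

namespace Groth.Agent.Lib.Helper18.FamCyc

open Groth.Agent.Lib.Helper18.CM Groth.Agent.Lib.Helper18.Serre Groth.Agent.Lib.Helper21

section iso

variable {B : Type u} [CommRing B] (J p : Ideal B) [hp : p.IsPrime]

/-- `(B/J)_{p/J} ≃ B_p/JB_p` -/
theorem nonempty_ringEquiv_quotient_localization' (hJp : J ≤ p)
    [hp' : (p.map (Ideal.Quotient.mk J)).IsPrime] :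
    Nonempty (Localization.AtPrime (p.map (Ideal.Quotient.mk J)) ≃+*
      (Localization.AtPrime p ⧸ J.map (algebraMap B (Localization.AtPrime p)))) := by
  have hsub : Algebra.algebraMapSubmonoid (B ⧸ J) p.primeCompl =
      (p.map (Ideal.Quotient.mk J)).primeCompl := by
    ext x
    obtain ⟨y, rfl⟩ := Ideal.Quotient.mk_surjective x
    constructor
    · rintro ⟨z, hz, hzy⟩
      change _ ∉ _
      rw [← hzy]
      change Ideal.Quotient.mk _ z ∉ _
      rw [SetLike.mem_coe, Ideal.mem_quotient_iff_mem hJp]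
      exact hz
    · intro hy
      change _ ∉ _ at hy
      rw [SetLike.mem_coe, Ideal.mem_quotient_iff_mem hJp] at hy
      exact ⟨y, hy, rfl⟩
  have inst : IsLocalization (Algebra.algebraMapSubmonoid (B ⧸ J) p.primeCompl)
      (Localization.AtPrime p ⧸ J.map (algebraMap B (Localization.AtPrime p))) :=
    inferInstance
  rw [hsub] at inst
  exact ⟨(IsLocalization.algEquiv (p.map (Ideal.Quotient.mk J)).primeCompl
    (Localization.AtPrime (p.map (Ideal.Quotient.mk J)))
    (Localization.AtPrime p ⧸ J.map (algebraMap B (Localization.AtPrime p)))).toRingEquiv⟩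

end iso

section transfer

variable {B : Type u} [CommRing B] [IsNoetherianRing B] (J p : Ideal B) [hp : p.IsPrime]

/-- (T) -/
theorem depth_localizedModule_quotient (hJp : J ≤ p)
    [hP : (p.map (Ideal.Quotient.mk J)).IsPrime] :
    LocCoh.depth (Localization.AtPrime p) (LocalizedModule p.primeCompl (B ⧸ J)) =
      LocCoh.depth (Localization.AtPrime (p.map (Ideal.Quotient.mk J)))
        (Localization.AtPrime (p.map (Ideal.Quotient.mk J))) := by
  set S := Localization.AtPrime p with hS
  set JS : Ideal S := J.map (algebraMap B S) with hJS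
  have hJSle : JS ≤ maximalIdeal S := by
    rw [hJS, Ideal.map_le_iff_le_comap]
    have h3 : (maximalIdeal S).under B = p := Localization.AtPrime.under_maximalIdeal
    exact hJp.trans (le_of_eq h3.symm)
  have hloc : IsLocalRing (S ⧸ JS) := isLocalRing_quotient_of_le_maximalIdeal hJSle
  obtain ⟨e⟩ := nonempty_ringEquiv_quotient_localization' J p hJp
  rw [depth_self_eq_of_ringEquiv e]
  have hlh : IsLocalHom (algebraMap S (S ⧸ JS)) :=
    IsLocalHom.of_surjective _ Ideal.Quotient.mk_surjective
  rw [← depth_eq_of_finite (A := S) (B := S ⧸ JS) (S ⧸ JS)]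
  apply depth_congr
  let φ := J.toLocalizedQuotient' S p.primeCompl (Algebra.linearMap B S)
  have e1 : LocalizedModule p.primeCompl (B ⧸ J) ≃ₗ[S]
      (S ⧸ J.localized' S p.primeCompl (Algebra.linearMap B S)) :=
    LinearEquiv.extendScalarsOfIsLocalization p.primeCompl S
      (IsLocalizedModule.linearEquiv p.primeCompl
        (LocalizedModule.mkLinearMap p.primeCompl (B ⧸ J)) φ)
  exact e1.trans (Submodule.quotEquivOfEq _ _ (Ideal.localized'_eq_map S p.primeCompl J))

end transfer

section height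

variable {B : Type u} [CommRing B] (J : Ideal B)

/-- the height of a prime does not drop in a quotient by an ideal contained in all primes -/
theorem height_le_height_map_mk (hJ : J ≤ nilradical B) (p : Ideal B) [hp : p.IsPrime]
    [hP : (p.map (Ideal.Quotient.mk J)).IsPrime] :
    p.height ≤ (p.map (Ideal.Quotient.mk J)).height := by
  have hker : ∀ q : PrimeSpectrum B, RingHom.ker (Ideal.Quotient.mk J) ≤ q.asIdeal := by
    intro q
    rw [Ideal.mk_ker]
    exact hJ.trans (nilradical_le_prime q.asIdeal)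
  let ψ : PrimeSpectrum B → PrimeSpectrum (B ⧸ J) := fun q =>
    ⟨q.asIdeal.map (Ideal.Quotient.mk J),
      Ideal.map_isPrime_of_surjective Ideal.Quotient.mk_surjective (hker q)⟩
  have hψ : StrictMono ψ := by
    intro q₁ q₂ h
    refine lt_of_le_of_ne (Ideal.map_mono (f := Ideal.Quotient.mk J) h.le) ?_
    intro heq
    have h1 : q₁.asIdeal.map (Ideal.Quotient.mk J) = q₂.asIdeal.map (Ideal.Quotient.mk J) :=
      congrArg PrimeSpectrum.asIdeal heq
    have h2 := congrArg (Ideal.comap (Ideal.Quotient.mk J)) h1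
    rw [Ideal.comap_map_of_surjective _ Ideal.Quotient.mk_surjective,
      Ideal.comap_map_of_surjective _ Ideal.Quotient.mk_surjective,
      ← RingHom.ker_eq_comap_bot, sup_eq_left.2 (hker q₁), sup_eq_left.2 (hker q₂)] at h2
    exact h.ne (PrimeSpectrum.ext h2)
  have h3 := Order.height_le_height_apply_of_strictMono ψ hψ ⟨p, hp⟩
  have e1 := PrimeSpectrum.height_eq_orderHeight (⟨p, hp⟩ : PrimeSpectrum B)
  have e2 := PrimeSpectrum.height_eq_orderHeight (ψ ⟨p, hp⟩)
  change p.height = _ at e1
  change (p.map (Ideal.Quotient.mk J)).height = _ at e2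
  rw [e1, e2]
  exact h3

end height

section hyp

variable {A : Type u} [CommRing A] [IsLocalRing A] [IsArtinianRing A]
  {B : Type u} [CommRing B] [Algebra A B] [IsNoetherianRing B]

omit [IsLocalRing A] [IsArtinianRing A] [Algebra A B] in
theorem hyp_h1 (hS1 : LocCoh.HasSk 1 B B) : ∀ p ∈ associatedPrimes B B, p.height ≤ 1 := by
  intro p hp
  have hpp : p.IsPrime := hp.isPrime
  have h1 := (hasSk_self_iff 1).1 hS1 p
  rw [(Groth.Agent.Lib.Helper18.NorOpen.depth_localization_eq_zero_iff p).2 hp] at h1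
  by_contra hcon
  have h2 : (1 : ℕ∞) ≤ p.height := (not_le.1 hcon).le
  have h3 : min ((1 : ℕ) : WithBot ℕ∞) (p.height : WithBot ℕ∞) = ((1 : ℕ∞) : WithBot ℕ∞) := by
    rw [min_eq_left]
    · rfl
    · have : ((1 : ℕ) : WithBot ℕ∞) = ((1 : ℕ∞) : WithBot ℕ∞) := rfl
      rw [this]
      exact_mod_cast h2
  rw [h3] at h1
  have h4 : (1 : ℕ∞) ≤ 0 := by exact_mod_cast h1
  simp at h4

omit [IsLocalRing A] [IsArtinianRing A] [Algebra A B] in
theorem hyp_h2 : ∀ p ∈ associatedPrimes B (B ⧸ nilradical B), p.height ≤ 1 := by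
  intro p hp
  have hpp : p.IsPrime := hp.isPrime
  obtain ⟨x, hx⟩ := hp.2
  obtain ⟨x, rfl⟩ := Ideal.Quotient.mk_surjective x
  have hxN : x ∉ nilradical B := by
    intro hxN
    have h0 : Ideal.Quotient.mk (nilradical B) x = 0 := Ideal.Quotient.eq_zero_iff_mem.2 hxN
    have h1 : (1 : B) ∈ p := by
      rw [hx]
      apply Ideal.le_radical
      rw [Submodule.mem_colon_singleton, h0, smul_zero]
      exact Submodule.zero_mem _
    exact hpp.ne_top ((Ideal.eq_top_iff_one _).2 h1)
  rw [nilradical_eq_sInf, Ideal.mem_sInf] at hxN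
  push Not at hxN
  obtain ⟨P, hP, hxP⟩ := hxN
  have : P.IsPrime := hP
  obtain ⟨q, hq, hqP⟩ := Ideal.exists_minimalPrimes_le (I := (⊥ : Ideal B)) (J := P) bot_le
  have hqp : q.IsPrime := hq.1.1
  have hxq : x ∉ q := fun h => hxP (hqP h)
  have hle : p ≤ q := by
    intro b hb
    rw [hx] at hb
    obtain ⟨k, hk⟩ := hb
    rw [Submodule.mem_colon_singleton] at hk
    have h1 : Ideal.Quotient.mk (nilradical B) (b ^ k * x) = 0 := by
      rw [map_mul]
      have : (b ^ k) • Ideal.Quotient.mk (nilradical B) x = 0 := by simpa using hk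
      rw [Algebra.smul_def] at this
      exact this
    have h2 : b ^ k * x ∈ q :=
      nilradical_le_prime q (Ideal.Quotient.eq_zero_iff_mem.1 h1)
    rcases hqp.mem_or_mem h2 with h | h
    · exact hqp.mem_of_pow_mem k h
    · exact absurd h hxq
  have hpq : p = q := le_antisymm hle (hq.2 ⟨hpp, bot_le⟩ hle)
  have h0 : p.height = 0 := Ideal.height_eq_zero_iff.2 (hpq ▸ hq)
  rw [h0]
  exact zero_le

omit [IsLocalRing A] [IsArtinianRing A] [Algebra A B] in
theorem hyp_h3 (hS2 : LocCoh.HasSk 2 (B ⧸ nilradical B) (B ⧸ nilradical B)) :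
    D2 B (B ⧸ nilradical B) := by
  intro p hp hp2
  have hNp : nilradical B ≤ p := nilradical_le_prime p
  have hP : (p.map (Ideal.Quotient.mk (nilradical B))).IsPrime := by
    apply Ideal.map_isPrime_of_surjective Ideal.Quotient.mk_surjective
    rw [Ideal.mk_ker]
    exact hNp
  rw [depth_localizedModule_quotient (nilradical B) p hNp]
  have h1 := (hasSk_self_iff 2).1 hS2 (p.map (Ideal.Quotient.mk (nilradical B)))
  have h2 : (2 : ℕ∞) ≤ (p.map (Ideal.Quotient.mk (nilradical B))).height :=
    hp2.trans (height_le_height_map_mk (nilradical B) le_rfl p)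
  have h4 : min ((2 : ℕ) : WithBot ℕ∞)
      ((p.map (Ideal.Quotient.mk (nilradical B))).height : WithBot ℕ∞) =
        ((2 : ℕ∞) : WithBot ℕ∞) := by
    rw [min_eq_left]
    · rfl
    · have : ((2 : ℕ) : WithBot ℕ∞) = ((2 : ℕ∞) : WithBot ℕ∞) := rfl
      rw [this]
      exact_mod_cast h2
  rw [h4] at h1
  exact_mod_cast h1

end hyp

section flatColon

variable {A : Type u} [CommRing A] {S : Type u} [CommRing S] [Algebra A S]

/-- flatness commutes with colons by an element -/
theorem mem_map_colon_of_flat [Module.Flat A S] (I : Ideal A) (a : A) (x : S)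
    (hx : algebraMap A S a * x ∈ I.map (algebraMap A S)) :
    x ∈ (I.colon {a}).map (algebraMap A S) := by
  rw [Ideal.map, Ideal.span, Submodule.mem_span_set'] at hx
  obtain ⟨n, c, g, hsum⟩ := hx
  have hg : ∀ j : Fin n, ∃ i : A, i ∈ I ∧ algebraMap A S i = (g j : S) := by
    intro j
    obtain ⟨i, hi, hij⟩ := (g j).2
    exact ⟨i, hi, hij⟩
  choose i hiI hi using hg
  let f : Option (Fin n) → A := fun o => Option.elim o a (fun j => - i j)
  let X : Option (Fin n) → S := fun o => Option.elim o x (fun j => c j)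
  have hrel : ∑ o, f o • X o = 0 := by
    rw [Fintype.sum_option]
    change a • x + ∑ j, (- i j) • c j = 0
    have h1 : ∑ j, (- i j) • c j = - ∑ j, c j • (g j : S) := by
      rw [← Finset.sum_neg_distrib]
      apply Finset.sum_congr rfl
      intro j _
      rw [neg_smul, Algebra.smul_def, hi j, smul_eq_mul, mul_comm]
    rw [h1, hsum, Algebra.smul_def, add_neg_cancel]
  obtain ⟨k, α, y, hy1, hy2⟩ := Module.Flat.isTrivialRelation_of_sum_smul_eq_zero
    (R := A) (M := S) (f := f) (x := X) (by rw [← hrel])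
  have hx' : x = ∑ l, α none l • y l := hy1 none
  rw [hx']
  apply Ideal.sum_mem
  intro l _
  rw [Algebra.smul_def]
  apply Ideal.mul_mem_right
  apply Ideal.mem_map_of_mem
  rw [Submodule.mem_colon_singleton]
  have h2 := hy2 l
  rw [Fintype.sum_option] at h2
  change a * α none l + ∑ j, (- i j) * α (some j) l = 0 at h2
  have h3 : α none l • a = ∑ j, i j * α (some j) l := by
    rw [smul_eq_mul, mul_comm]
    have : ∑ j, (- i j) * α (some j) l = - ∑ j, i j * α (some j) l := by
      rw [← Finset.sum_neg_distrib]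
      apply Finset.sum_congr rfl
      intro j _
      ring
    rw [this] at h2
    linear_combination h2
  rw [h3]
  apply Ideal.sum_mem
  intro j _
  exact Ideal.mul_mem_right _ _ (hiI j)

end flatColon

section hyp45

variable {A : Type u} [CommRing A] [IsLocalRing A]
  {B : Type u} [CommRing B] [Algebra A B]

theorem hyp_h4 (p : Ideal B) [p.IsPrime] [Module.Flat A (Localization.AtPrime p)]
    (I : Ideal A) (a : A) (b : B) (hb : algebraMap A B a * b ∈ I.map (algebraMap A B)) :
    ∃ s : B, s ∉ p ∧ s * b ∈ (I.colon {a}).map (algebraMap A B) := by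
  set S := Localization.AtPrime p
  have h1 : algebraMap A S a * algebraMap B S b ∈ I.map (algebraMap A S) := by
    have h2 := Ideal.mem_map_of_mem (algebraMap B S) hb
    rw [Ideal.map_map, ← IsScalarTower.algebraMap_eq, map_mul,
      ← IsScalarTower.algebraMap_apply] at h2
    exact h2
  have h3 := mem_map_colon_of_flat I a _ h1
  rw [IsScalarTower.algebraMap_eq A B S, ← Ideal.map_map,
    IsLocalization.algebraMap_mem_map_algebraMap_iff p.primeCompl] at h3
  obtain ⟨s, hs, hsb⟩ := h3
  exact ⟨s, hs, hsb⟩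

theorem hyp_h5 (p : Ideal B) [p.IsPrime] (hred : IsReduced (EGA4.FibLocRing A B p))
    (n : B) (hn : n ∈ nilradical B) :
    ∃ s : B, s ∉ p ∧ s * n ∈ (maximalIdeal A).map (algebraMap A B) := by
  set S := Localization.AtPrime p
  have hnil : IsNilpotent (Ideal.Quotient.mk ((p.comap (algebraMap A B)).map (algebraMap A S))
      (algebraMap B S n)) := ((mem_nilradical.1 hn).map _).map _
  have h0 := hred.eq_zero _ hnil
  rw [Ideal.Quotient.eq_zero_iff_mem] at h0
  have hle : p.comap (algebraMap A B) ≤ maximalIdeal A :=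
    IsLocalRing.le_maximalIdeal (Ideal.comap_ne_top _ Ideal.IsPrime.ne_top')
  have h1 : algebraMap B S n ∈ (maximalIdeal A).map (algebraMap A S) := Ideal.map_mono hle h0
  rw [IsScalarTower.algebraMap_eq A B S, ← Ideal.map_map,
    IsLocalization.algebraMap_mem_map_algebraMap_iff p.primeCompl] at h1
  obtain ⟨s, hs, hsn⟩ := h1
  exact ⟨s, hs, hsn⟩

end hyp45

section final

variable {A : Type u} [CommRing A] [IsLocalRing A] [IsArtinianRing A]
  {B : Type u} [CommRing B] [Algebra A B] [IsNoetherianRing B]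

theorem hyp_of (hS1 : LocCoh.HasSk 1 B B)
    (hS2 : LocCoh.HasSk 2 (B ⧸ nilradical B) (B ⧸ nilradical B))
    (hcodim : ∀ (q : Ideal B) [q.IsPrime], q.height ≤ 1 →
      Module.Flat A (Localization.AtPrime q) ∧ IsReduced (EGA4.FibLocRing A B q)) :
    Hyp A B where
  h1 := hyp_h1 hS1
  h2 := hyp_h2
  h3 := hyp_h3 hS2
  h4 := fun p _ hp I a b hb => by
    have := (hcodim p hp).1
    exact hyp_h4 p I a b hb
  h5 := fun p _ hp n hn => hyp_h5 p (hcodim p hp).2 n hn

end final

end Groth.Agent.Lib.Helper18.FamCyc
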