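import Mathlib
import Groth.Prelude.Def_CAlg
import Groth.Prelude.Def_EGA4b
import Groth.Agent.Lib.Helper18.NorOpen
import Groth.Agent.Lib.Helper18.CMRing

set_option autoImplicit false
set_option linter.unusedSectionVars false
universe u

open IsLocalRing Pointwise

namespace Groth.Agent.Lib.Helper18.NorOpen

open Groth.Agent.Lib.Helper18.CM Groth.Agent.Lib.Helper18.Serre Groth.Agent.Lib.Helper18.RkFlat

variable {A : Type u} [CommRing A]

theorem nonempty_locEquiv_of_disjoint (M : Submonoid A) (P : Ideal A) [hP : P.IsPrime]
    (hd : Disjoint (M : Set A) (P : Set A))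
    [hP' : (P.map (algebraMap A (Localization M))).IsPrime] :
    Nonempty (Localization.AtPrime (P.map (algebraMap A (Localization M))) ≃+*
      Localization.AtPrime P) := by
  have hcomap : (P.map (algebraMap A (Localization M))).comap
      (algebraMap A (Localization M)) = P :=
    IsLocalization.under_map_of_isPrime_disjoint M _ hP hd
  have e1 := (IsLocalization.localizationLocalizationAtPrimeIsoLocalization (M := M)
      (P.map (algebraMap A (Localization M)))).toRingEquiv
  obtain ⟨e2⟩ := nonempty_ringEquiv_of_eq hcomap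
  exact ⟨e1.symm.trans e2⟩

variable [IsNoetherianRing A]

theorem isOpen_norLocus_of_away [IsDomain A] (f : A) (hf : f ≠ 0)
    (hn : IsIntegrallyClosed (Localization.Away f)) : IsOpen (EGA4.norLocus A) := by
  apply isOpen_norLocus_of_finite (associatedPrimes A (A ⧸ Ideal.span {f}))
    (associatedPrimes.finite A _)
  intro Q _ hQbad
  have hfQ : f ∈ Q := by
    by_contra hfQ
    apply hQbad
    have hd : Disjoint ((Submonoid.powers f : Submonoid A) : Set A) (Q : Set A) := by
      rw [Set.disjoint_left]
      rintro x ⟨n, rfl⟩ hx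
      exact hfQ (Ideal.IsPrime.mem_of_pow_mem inferInstance n hx)
    have hP' : (Q.map (algebraMap A (Localization.Away f))).IsPrime :=
      IsLocalization.isPrime_of_isPrime_disjoint (Submonoid.powers f) _ Q inferInstance hd
    obtain ⟨e⟩ := nonempty_locEquiv_of_disjoint (Submonoid.powers f) Q hd
    have hdomf : IsDomain (Localization.Away f) :=
      IsLocalization.isDomain_of_le_nonZeroDivisors (Localization.Away f)
        (powers_le_nonZeroDivisors_of_noZeroDivisors hf)
    have hic : IsIntegrallyClosed
        (Localization.AtPrime (Q.map (algebraMap A (Localization.Away f)))) :=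
      isIntegrallyClosed_of_isLocalization _
        (Q.map (algebraMap A (Localization.Away f))).primeCompl
        (Ideal.primeCompl_le_nonZeroDivisors _)
    have hicQ : IsIntegrallyClosed (Localization.AtPrime Q) := IsIntegrallyClosed.of_equiv e
    have hdomQ : IsDomain (Localization.AtPrime Q) := IsLocalization.isDomain_of_atPrime _ Q
    exact (normal_localization_iff_forall_good Q).mp ⟨hdomQ, hicQ⟩ Q le_rfl
  have hdomQ : IsDomain (Localization.AtPrime Q) := IsLocalization.isDomain_of_atPrime _ Q
  have hf'0 : algebraMap A (Localization.AtPrime Q) f ≠ 0 := by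
    intro h0
    exact hf ((IsLocalization.injective (Localization.AtPrime Q)
      (Ideal.primeCompl_le_nonZeroDivisors Q)) (by rw [h0, map_zero]))
  have hfreg : IsSMulRegular (Localization.AtPrime Q)
      (algebraMap A (Localization.AtPrime Q) f) := by
    intro x y hxy
    exact mul_left_cancel₀ hf'0 hxy
  have hf'm : algebraMap A (Localization.AtPrime Q) f ∈ maximalIdeal (Localization.AtPrime Q) := by
    have h3 : (maximalIdeal (Localization.AtPrime Q)).under A = Q :=
      Localization.AtPrime.under_maximalIdeal
    have h4 : f ∈ (maximalIdeal (Localization.AtPrime Q)).under A := by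
      rw [h3]
      exact hfQ
    exact h4
  have h1le : 1 ≤ LocCoh.depth (Localization.AtPrime Q) (Localization.AtPrime Q) :=
    (one_le_depth_iff _).mpr ⟨_, hf'm, hfreg⟩
  have hd1 : LocCoh.depth (Localization.AtPrime Q) (Localization.AtPrime Q) = 1 := by
    refine le_antisymm ?_ h1le
    by_cases ha : Q.height ≤ (1 : ℕ) → IsRegularLocalRing (Localization.AtPrime Q)
    · have hb : ¬ min ((2 : ℕ) : WithBot ℕ∞) (Q.height : WithBot ℕ∞) ≤
          ((LocCoh.depth (Localization.AtPrime Q) (Localization.AtPrime Q) : ℕ∞) :
            WithBot ℕ∞) := fun hb => hQbad ⟨ha, hb⟩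
      have e2 : ((2 : ℕ) : WithBot ℕ∞) = ((2 : ℕ∞) : WithBot ℕ∞) := rfl
      rw [e2, ← WithBot.coe_min, WithBot.coe_le_coe, not_le] at hb
      have hlt2 : LocCoh.depth (Localization.AtPrime Q) (Localization.AtPrime Q) < 2 :=
        lt_of_lt_of_le hb (min_le_left _ _)
      obtain ⟨n, hn⟩ := ENat.ne_top_iff_exists.mp (ne_top_of_lt hlt2)
      rw [← hn] at hlt2 ⊢
      have hn2 : n < 2 := by exact_mod_cast hlt2
      exact_mod_cast (by omega : n ≤ 1)
    · push Not at ha
      exact (depth_localization_le_height Q).trans ha.1
  exact ⟨Q, mem_associatedPrimes_quotient_of_depth_eq_one Q f hfQ hfreg hd1, inferInstance,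
    le_rfl, hQbad⟩

theorem isOpen_setOf_isIntegrallyClosed_of_away [IsDomain A] (f : A) (hf : f ≠ 0)
    (hn : IsIntegrallyClosed (Localization.Away f)) :
    IsOpen {p : PrimeSpectrum A | IsIntegrallyClosed (Localization.AtPrime p.asIdeal)} := by
  have h := isOpen_norLocus_of_away f hf hn
  have heq : {p : PrimeSpectrum A | IsIntegrallyClosed (Localization.AtPrime p.asIdeal)} =
      EGA4.norLocus A := by
    ext p
    unfold EGA4.norLocus
    simp only [Set.mem_ofPred_eq]
    exact ⟨fun hic => ⟨IsLocalization.isDomain_of_atPrime _ p.asIdeal, hic⟩, fun h => h.2⟩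
  rw [heq]
  exact h

end Groth.Agent.Lib.Helper18.NorOpen
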