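import Mathlib
import Groth.Prelude.Def_CAlg
import Groth.Prelude.Def_EGA4b
import Groth.Agent.Lib.Helper23.RegularHom
import Groth.Agent.Lib.Helper23.FieldSep
import Groth.Agent.Lib.Helper18.PMor4
import Groth.Agent.Lib.Helper18.NorOpen2
import Groth.Agent.Lib.Helper18.SerreReg2

set_option autoImplicit false
set_option linter.style.haveILetI false
universe u

open IsLocalRing TensorProduct

namespace Groth.Agent.Lib.Helper18.J2

section generic

variable {A : Type u} [CommRing A]

/-- the generic point of a domain lies in every nonempty open -/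
theorem bot_mem_of_isOpen [IsDomain A] {U : Set (PrimeSpectrum A)} (hU : IsOpen U)
    (hne : U.Nonempty) : (⟨⊥, Ideal.isPrime_bot⟩ : PrimeSpectrum A) ∈ U := by
  obtain ⟨x, hx⟩ := hne
  have hsp : (⟨⊥, Ideal.isPrime_bot⟩ : PrimeSpectrum A) ⤳ x := by
    rw [← PrimeSpectrum.le_iff_specializes]
    exact bot_le (a := x.asIdeal)
  exact hsp.mem_open hU hx

/-- open sets are stable under generization -/
theorem mem_of_le_of_isOpen {U : Set (PrimeSpectrum A)} (hU : IsOpen U)
    {x y : PrimeSpectrum A} (hxy : x ≤ y) (hy : y ∈ U) : x ∈ U :=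
  ((PrimeSpectrum.le_iff_specializes x y).mp hxy).mem_open hU hy

theorem exists_basicOpen_subset [IsDomain A] {U : Set (PrimeSpectrum A)} (hU : IsOpen U)
    (hne : U.Nonempty) : ∃ f : A, f ≠ 0 ∧ (PrimeSpectrum.basicOpen f : Set (PrimeSpectrum A)) ⊆ U := by
  have hb := bot_mem_of_isOpen hU hne
  obtain ⟨_, ⟨f, rfl⟩, hxf, hf⟩ :=
    PrimeSpectrum.isTopologicalBasis_basic_opens.exists_subset_of_mem_open hb hU
  refine ⟨f, ?_, hf⟩
  rintro rfl
  exact hxf (Submodule.zero_mem _)

end generic

section ascent

open Groth.Agent.Lib.Helper18.RkFlat Groth.Agent.Lib.Helper18.PMor Groth.Agent.Lib.Helper18.FormFib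

variable (A B : Type u) [CommRing A] [CommRing B] [IsNoetherianRing A] [IsNoetherianRing B]
  [Algebra A B]

/-- ascent of regularity along a regular homomorphism, at a prime -/
theorem isRegularLocalRing_atPrime_of_isRegularHom (h : CAlg.IsRegularHom A B) (Q : Ideal B)
    [Q.IsPrime]
    (hA : IsRegularLocalRing (Localization.AtPrime (Q.comap (algebraMap A B)))) :
    IsRegularLocalRing (Localization.AtPrime Q) := by
  haveI := h.1
  refine isRegularLocalRing_of_fibLocRing A B Q hA ?_
  exact regular_fibLocRing_of_isRegularRing_fiber A B Q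
    (isRegularRing_of_isGeometricallyRegular (h.2 _).2)

/-- ascent of normality along a regular homomorphism, at a prime -/
theorem normal_atPrime_of_isRegularHom (h : CAlg.IsRegularHom A B) (Q : Ideal B) [Q.IsPrime]
    (hA : IsDomain (Localization.AtPrime (Q.comap (algebraMap A B))) ∧
      IsIntegrallyClosed (Localization.AtPrime (Q.comap (algebraMap A B)))) :
    IsDomain (Localization.AtPrime Q) ∧ IsIntegrallyClosed (Localization.AtPrime Q) := by
  haveI := h.1
  have hf : ∀ (q : Ideal B) [q.IsPrime], IsDomain (EGA4.FibLocRing A B q) ∧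
      IsIntegrallyClosed (EGA4.FibLocRing A B q) := fun q _ =>
    normal_fibLocRing_of_isNormalRing_fiber A B q
      (isNormalRing_of_isRegularRing (isRegularRing_of_isGeometricallyRegular (h.2 _).2))
  obtain ⟨h1, h2⟩ := hA
  exact normal_of_fibres_of_flat A B Q hf

end ascent

section smooth

open Groth.Agent.Lib.Helper23

/-- generic smoothness for a finite type extension of domains with separable fraction field
extension -/
theorem exists_smooth_away (A A' K L : Type u) [CommRing A] [CommRing A'] [IsDomain A]
    [IsDomain A'] [IsNoetherianRing A] [Algebra A A'] [Algebra.FiniteType A A']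
    [Field K] [Field L] [Algebra A K] [IsFractionRing A K] [Algebra A' L] [IsFractionRing A' L]
    [Algebra A L] [IsScalarTower A A' L] [Algebra K L] [IsScalarTower A K L]
    [Algebra.IsGeometricallyReduced K L] :
    ∃ g : A', g ≠ 0 ∧ Algebra.Smooth A (Localization.Away g) := by
  haveI : Algebra.FinitePresentation A A' := Algebra.FinitePresentation.of_finiteType.mp inferInstance
  haveI : Algebra.FormallySmooth K L :=
    (FieldSep.formallySmooth_iff_isGeometricallyReduced K L).mpr inferInstance
  haveI : Algebra.FormallySmooth A K := Algebra.FormallySmooth.of_isLocalization (nonZeroDivisors A)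
  haveI : Algebra.FormallySmooth A L := Algebra.FormallySmooth.comp A K L
  haveI hbot : (⊥ : Ideal A').IsPrime := Ideal.isPrime_bot
  haveI : IsLocalization (⊥ : Ideal A').primeCompl L := by
    rw [Ideal.primeCompl_bot]
    infer_instance
  have e : L ≃ₐ[A'] Localization.AtPrime (⊥ : Ideal A') :=
    IsLocalization.algEquiv (⊥ : Ideal A').primeCompl L (Localization.AtPrime (⊥ : Ideal A'))
  haveI : Algebra.IsSmoothAt A (⊥ : Ideal A') :=
    Algebra.FormallySmooth.of_equiv (e.restrictScalars A)
  obtain ⟨g, hg, hsm⟩ := Algebra.IsSmoothAt.exists_notMem_smooth A (⊥ : Ideal A')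
  exact ⟨g, fun h => hg (by rw [h]; exact Submodule.zero_mem _), hsm⟩

end smooth

section main

open Groth.Agent.Lib.Helper23 Groth.Agent.Lib.Helper18.NorOpen

theorem regular_congr {R : Type u} [CommRing R] {p p' : Ideal R} [p.IsPrime] [p'.IsPrime]
    (h : p = p') : IsRegularLocalRing (Localization.AtPrime p) →
      IsRegularLocalRing (Localization.AtPrime p') := by
  subst h
  exact id

theorem normal_congr {R : Type u} [CommRing R] {p p' : Ideal R} [p.IsPrime] [p'.IsPrime]
    (h : p = p') : (IsDomain (Localization.AtPrime p) ∧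
      IsIntegrallyClosed (Localization.AtPrime p)) →
      (IsDomain (Localization.AtPrime p') ∧ IsIntegrallyClosed (Localization.AtPrime p')) := by
  subst h
  exact id

variable (A A' : Type u) [CommRing A] [CommRing A'] [IsNoetherianRing A] [Algebra A A']

theorem disjoint_powers_of_notMem (g : A') (q : Ideal A') [q.IsPrime] (hg : g ∉ q) :
    Disjoint ((Submonoid.powers g : Submonoid A') : Set A') (q : Set A') := by
  rw [Set.disjoint_left]
  rintro x ⟨n, rfl⟩ hx
  exact hg (Ideal.IsPrime.mem_of_pow_mem inferInstance n hx)

/-- regularity ascends at primes of the smooth part -/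
theorem regular_of_smooth_away (g : A') [Algebra.Smooth A (Localization.Away g)]
    (q : Ideal A') [q.IsPrime] (hg : g ∉ q)
    (hA : IsRegularLocalRing (Localization.AtPrime (q.comap (algebraMap A A')))) :
    IsRegularLocalRing (Localization.AtPrime q) := by
  haveI : IsNoetherianRing (Localization.Away g) :=
    Algebra.FiniteType.isNoetherianRing A (Localization.Away g)
  have hd := disjoint_powers_of_notMem A' g q hg
  haveI hQ : (q.map (algebraMap A' (Localization.Away g))).IsPrime :=
    IsLocalization.isPrime_of_isPrime_disjoint (Submonoid.powers g) _ q inferInstance hd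
  have hcomap : (q.map (algebraMap A' (Localization.Away g))).comap
      (algebraMap A' (Localization.Away g)) = q :=
    IsLocalization.under_map_of_isPrime_disjoint (Submonoid.powers g) _ inferInstance hd
  have hcomap2 : (q.map (algebraMap A' (Localization.Away g))).comap
      (algebraMap A (Localization.Away g)) = q.comap (algebraMap A A') := by
    rw [IsScalarTower.algebraMap_eq A A' (Localization.Away g), ← Ideal.comap_comap, hcomap]
  obtain ⟨e⟩ := nonempty_locEquiv_of_disjoint (Submonoid.powers g) q hd
  have h1 := isRegularLocalRing_atPrime_of_isRegularHom A (Localization.Away g)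
    (RegularHom.isRegularHom_of_smooth A (Localization.Away g))
    (q.map (algebraMap A' (Localization.Away g))) (regular_congr hcomap2.symm hA)
  exact @IsRegularLocalRing.of_ringEquiv
    (Localization.AtPrime (q.map (algebraMap A' (Localization.Away g)))) _ h1 _ _ e

/-- normality ascends at primes of the smooth part -/
theorem normal_of_smooth_away (g : A') [Algebra.Smooth A (Localization.Away g)]
    (q : Ideal A') [q.IsPrime] (hg : g ∉ q)
    (hA : IsDomain (Localization.AtPrime (q.comap (algebraMap A A'))) ∧
      IsIntegrallyClosed (Localization.AtPrime (q.comap (algebraMap A A')))) :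
    IsDomain (Localization.AtPrime q) ∧ IsIntegrallyClosed (Localization.AtPrime q) := by
  haveI : IsNoetherianRing (Localization.Away g) :=
    Algebra.FiniteType.isNoetherianRing A (Localization.Away g)
  have hd := disjoint_powers_of_notMem A' g q hg
  haveI hQ : (q.map (algebraMap A' (Localization.Away g))).IsPrime :=
    IsLocalization.isPrime_of_isPrime_disjoint (Submonoid.powers g) _ q inferInstance hd
  have hcomap : (q.map (algebraMap A' (Localization.Away g))).comap
      (algebraMap A' (Localization.Away g)) = q :=
    IsLocalization.under_map_of_isPrime_disjoint (Submonoid.powers g) _ inferInstance hd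
  have hcomap2 : (q.map (algebraMap A' (Localization.Away g))).comap
      (algebraMap A (Localization.Away g)) = q.comap (algebraMap A A') := by
    rw [IsScalarTower.algebraMap_eq A A' (Localization.Away g), ← Ideal.comap_comap, hcomap]
  obtain ⟨e⟩ := nonempty_locEquiv_of_disjoint (Submonoid.powers g) q hd
  obtain ⟨h1, h2⟩ := normal_atPrime_of_isRegularHom A (Localization.Away g)
    (RegularHom.isRegularHom_of_smooth A (Localization.Away g))
    (q.map (algebraMap A' (Localization.Away g))) (normal_congr hcomap2.symm hA)
  exact ⟨e.symm.toMulEquiv.isDomain _, IsIntegrallyClosed.of_equiv e⟩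

/-- `J0 R`: the regular locus of `Spec R` contains a nonempty open subset -/
def J0 (R : Type u) [CommRing R] : Prop :=
  ∃ U : Set (PrimeSpectrum R), IsOpen U ∧ U.Nonempty ∧ U ⊆ EGA4.regLocus R

/-- **EGA IV 6.12.?**: `J0` ascends along finite type extensions of domains with separable
fraction field extension. -/
theorem j0_of_separable (K L : Type u) [IsDomain A] [IsDomain A'] [Algebra.FiniteType A A']
    [Field K] [Field L] [Algebra A K] [IsFractionRing A K] [Algebra A' L] [IsFractionRing A' L]
    [Algebra A L] [IsScalarTower A A' L] [Algebra K L] [IsScalarTower A K L]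
    [Algebra.IsGeometricallyReduced K L] (hinj : Function.Injective (algebraMap A A'))
    (h : J0 A) : J0 A' := by
  obtain ⟨U, hU, hne, hsub⟩ := h
  obtain ⟨g, hg0, hsm⟩ := exists_smooth_away A A' K L
  refine ⟨(PrimeSpectrum.basicOpen g : Set (PrimeSpectrum A')) ∩
    PrimeSpectrum.comap (algebraMap A A') ⁻¹' U,
    (PrimeSpectrum.basicOpen g).isOpen.inter (hU.preimage (PrimeSpectrum.continuous_comap _)),
    ⟨⟨⊥, Ideal.isPrime_bot⟩, ?_, ?_⟩, ?_⟩
  · change g ∉ (⊥ : Ideal A')
    simpa using hg0
  · have hb := bot_mem_of_isOpen hU hne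
    have : PrimeSpectrum.comap (algebraMap A A') ⟨⊥, Ideal.isPrime_bot⟩ =
        (⟨⊥, Ideal.isPrime_bot⟩ : PrimeSpectrum A) := by
      ext1
      change Ideal.comap (algebraMap A A') ⊥ = ⊥
      rw [← RingHom.ker_eq_comap_bot]
      exact (RingHom.injective_iff_ker_eq_bot _).mp hinj
    rw [Set.mem_preimage, this]
    exact hb
  · rintro q ⟨hq1, hq2⟩
    exact regular_of_smooth_away A A' g q.asIdeal hq1 (hsub hq2)

/-- **EGA IV 6.13.?**: openness of the normal locus ascends along finite type extensions of
domains with separable fraction field extension. -/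
theorem isOpen_norLocus_of_separable (K L : Type u) [IsDomain A] [IsDomain A']
    [Algebra.FiniteType A A']
    [Field K] [Field L] [Algebra A K] [IsFractionRing A K] [Algebra A' L] [IsFractionRing A' L]
    [Algebra A L] [IsScalarTower A A' L] [Algebra K L] [IsScalarTower A K L]
    [Algebra.IsGeometricallyReduced K L] (hinj : Function.Injective (algebraMap A A'))
    (h : IsOpen (EGA4.norLocus A)) : IsOpen (EGA4.norLocus A') := by
  haveI : IsNoetherianRing A' := Algebra.FiniteType.isNoetherianRing A A'
  obtain ⟨g, hg0, hsm⟩ := exists_smooth_away A A' K L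
  -- the open set `D(g) ∩ f⁻¹(Nor A)` is contained in `Nor A'`
  set U' : Set (PrimeSpectrum A') := (PrimeSpectrum.basicOpen g : Set (PrimeSpectrum A')) ∩
    PrimeSpectrum.comap (algebraMap A A') ⁻¹' (EGA4.norLocus A) with hU'
  have hU'open : IsOpen U' :=
    (PrimeSpectrum.basicOpen g).isOpen.inter (h.preimage (PrimeSpectrum.continuous_comap _))
  have hU'sub : U' ⊆ EGA4.norLocus A' := by
    rintro q ⟨hq1, hq2⟩
    exact normal_of_smooth_away A A' g q.asIdeal hq1 hq2
  have hbotA : (⟨⊥, Ideal.isPrime_bot⟩ : PrimeSpectrum A) ∈ EGA4.norLocus A := by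
    haveI : (⊥ : Ideal A).IsPrime := Ideal.isPrime_bot
    have hd : IsDomain (Localization.AtPrime (⊥ : Ideal A)) :=
      IsLocalization.isDomain_of_atPrime _ (⊥ : Ideal A)
    refine ⟨hd, ?_⟩
    haveI : IsLocalization (⊥ : Ideal A).primeCompl (FractionRing A) := by
      rw [Ideal.primeCompl_bot]
      infer_instance
    exact IsIntegrallyClosed.of_equiv (IsLocalization.algEquiv (⊥ : Ideal A).primeCompl
      (FractionRing A) (Localization.AtPrime (⊥ : Ideal A))).toRingEquiv
  have hU'ne : U'.Nonempty := by
    refine ⟨⟨⊥, Ideal.isPrime_bot⟩, ?_, ?_⟩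
    · change g ∉ (⊥ : Ideal A')
      simpa using hg0
    · have : PrimeSpectrum.comap (algebraMap A A') ⟨⊥, Ideal.isPrime_bot⟩ =
          (⟨⊥, Ideal.isPrime_bot⟩ : PrimeSpectrum A) := by
        ext1
        change Ideal.comap (algebraMap A A') ⊥ = ⊥
        rw [← RingHom.ker_eq_comap_bot]
        exact (RingHom.injective_iff_ker_eq_bot _).mp hinj
      rw [Set.mem_preimage, this]
      exact hbotA
  obtain ⟨f, hf0, hfU⟩ := exists_basicOpen_subset hU'open hU'ne
  apply isOpen_norLocus_of_away f hf0
  -- `A'_f` is integrally closed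
  haveI hdomf : IsDomain (Localization.Away f) :=
    IsLocalization.isDomain_of_le_nonZeroDivisors (Localization.Away f)
      (powers_le_nonZeroDivisors_of_noZeroDivisors hf0)
  apply IsIntegrallyClosed.of_localization_maximal
  intro P _ hPmax
  haveI : P.IsPrime := hPmax.isPrime
  set q := P.comap (algebraMap A' (Localization.Away f)) with hq
  have hfq : f ∉ q := by
    intro hfq
    have : algebraMap A' (Localization.Away f) f ∈ P := hfq
    exact hPmax.ne_top (Ideal.eq_top_of_isUnit_mem _ this
      (IsLocalization.Away.algebraMap_isUnit f))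
  have hqmem : (⟨q, inferInstance⟩ : PrimeSpectrum A') ∈ EGA4.norLocus A' :=
    hU'sub (hfU hfq)
  have hd := disjoint_powers_of_notMem A' f q hfq
  have hmap : q.map (algebraMap A' (Localization.Away f)) = P :=
    IsLocalization.map_under (Submonoid.powers f) _ P
  haveI hQ : (q.map (algebraMap A' (Localization.Away f))).IsPrime := by
    rw [hmap]; infer_instance
  obtain ⟨e⟩ := nonempty_locEquiv_of_disjoint (Submonoid.powers f) q hd
  have h3 : IsIntegrallyClosed
      (Localization.AtPrime (q.map (algebraMap A' (Localization.Away f)))) :=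
    IsIntegrallyClosed.of_equiv e.symm (h := hqmem.2)
  exact (normal_congr hmap ⟨IsLocalization.isDomain_of_atPrime _
    (q.map (algebraMap A' (Localization.Away f))), h3⟩).2

end main

end Groth.Agent.Lib.Helper18.J2
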