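import Mathlib
import Groth.Prelude.Def_CAlg
import Groth.Prelude.Def_EGA4b
import Groth.Agent.Lib.Helper18.J2a

set_option autoImplicit false
set_option linter.style.haveILetI false
universe u

open IsLocalRing TensorProduct

namespace Groth.Agent.Lib.Helper18.J2

section nagata

variable {R : Type u} [CommRing R] [IsNoetherianRing R]

/-- **Nagata's topological criterion** for openness in the spectrum of a Noetherian ring. -/
theorem isOpen_of_nagata (E : Set (PrimeSpectrum R))
    (hgen : ∀ x y : PrimeSpectrum R, x ≤ y → y ∈ E → x ∈ E)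
    (h : ∀ p ∈ E, ∃ U : Set (PrimeSpectrum R), IsOpen U ∧
      (U ∩ PrimeSpectrum.zeroLocus (p.asIdeal : Set R)).Nonempty ∧
      U ∩ PrimeSpectrum.zeroLocus (p.asIdeal : Set R) ⊆ E) : IsOpen E := by
  classical
  rw [← isClosed_compl_iff]
  set Z : Set (PrimeSpectrum R) := Eᶜ with hZ
  set I : Ideal R := PrimeSpectrum.vanishingIdeal Z with hI
  have hIrad : I.IsRadical := PrimeSpectrum.isRadical_vanishingIdeal Z
  have hZI : ∀ z ∈ Z, I ≤ z.asIdeal := fun z hz =>
    PrimeSpectrum.subset_zeroLocus_vanishingIdeal Z hz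
  -- every minimal prime over `I` lies in `Z`
  have key : ∀ P ∈ I.minimalPrimes, ∀ hP : P.IsPrime, (⟨P, hP⟩ : PrimeSpectrum R) ∈ Z := by
    intro P hPmin hP
    by_contra hPE
    have hPE' : (⟨P, hP⟩ : PrimeSpectrum R) ∈ E := by
      by_contra hc
      exact hPE hc
    obtain ⟨U, hU, ⟨x, hxU, hxV⟩, hsub⟩ := h _ hPE'
    have hPx : (⟨P, hP⟩ : PrimeSpectrum R) ≤ x := by
      change P ≤ x.asIdeal
      exact (PrimeSpectrum.mem_zeroLocus _ _).mp hxV
    have hPU : (⟨P, hP⟩ : PrimeSpectrum R) ∈ U := mem_of_le_of_isOpen hU hPx hxU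
    obtain ⟨_, ⟨a, rfl⟩, haP, haU⟩ :=
      PrimeSpectrum.isTopologicalBasis_basic_opens.exists_subset_of_mem_open hPU hU
    have haP' : a ∉ P := haP
    -- the other minimal primes
    set S : Set (Ideal R) := I.minimalPrimes \ {P} with hS
    have hSfin : S.Finite := (Ideal.finite_minimalPrimes_of_isNoetherianRing R I).subset
      Set.sdiff_subset
    set J : Ideal R := sInf S with hJ
    have hJP : ¬ J ≤ P := by
      intro hle
      have h1 : hSfin.toFinset.inf id ≤ P := by
        rw [Finset.inf_id_eq_sInf, Set.Finite.coe_toFinset]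
        exact hle
      obtain ⟨P'', hP''S, hP''le⟩ := (Ideal.IsPrime.inf_le' hP).mp h1
      rw [Set.Finite.mem_toFinset] at hP''S
      obtain ⟨hP''min, hP''ne⟩ := hP''S
      have hle' : P ≤ P'' := hPmin.2 hP''min.1 hP''le
      exact hP''ne (le_antisymm hP''le hle')
    obtain ⟨b, hbJ, hbP⟩ := SetLike.not_le_iff_exists.mp hJP
    have habP : a * b ∉ P := fun hab => (hP.mem_or_mem hab).elim haP' hbP
    have habI : a * b ∉ I := fun hab => habP (hPmin.1.2 hab)
    rw [hI, PrimeSpectrum.mem_vanishingIdeal] at habI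
    push Not at habI
    obtain ⟨z, hzZ, habz⟩ := habI
    have haz : a ∉ z.asIdeal := fun ha => habz (z.asIdeal.mul_mem_right b ha)
    have hbz : b ∉ z.asIdeal := fun hb => habz (z.asIdeal.mul_mem_left a hb)
    have hPJ : P ⊓ J ≤ I := by
      have h1 : P ⊓ J ≤ sInf I.minimalPrimes := by
        apply le_sInf
        intro P'' hP''
        by_cases hne : P'' = P
        · rw [hne]; exact inf_le_left
        · exact inf_le_right.trans (sInf_le ⟨hP'', hne⟩)
      rw [Ideal.sInf_minimalPrimes, hIrad.radical] at h1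
      exact h1
    have hPz : P ≤ z.asIdeal := by
      have h1 : P * J ≤ z.asIdeal := (Ideal.mul_le_inf.trans hPJ).trans (hZI z hzZ)
      rcases (Ideal.IsPrime.mul_le z.isPrime).mp h1 with h2 | h2
      · exact h2
      · exact absurd (h2 hbJ) hbz
    have hzE : z ∈ E := hsub ⟨haU haz, (PrimeSpectrum.mem_zeroLocus _ _).mpr hPz⟩
    exact hzZ hzE
  have hZeq : Z = PrimeSpectrum.zeroLocus (I : Set R) := by
    apply Set.Subset.antisymm
    · exact PrimeSpectrum.subset_zeroLocus_vanishingIdeal Z
    · intro Q hQ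
      have hIQ : I ≤ Q.asIdeal := (PrimeSpectrum.mem_zeroLocus _ _).mp hQ
      obtain ⟨P, hPmin, hPQ⟩ := Ideal.exists_minimalPrimes_le hIQ
      have hPZ := key P hPmin hPmin.1.1
      intro hQE
      exact hPZ (hgen ⟨P, hPmin.1.1⟩ Q hPQ hQE)
  rw [hZeq]
  exact PrimeSpectrum.isClosed_zeroLocus _

end nagata

section reg

open Groth.Agent.Lib.Helper18.NorOpen

variable {R : Type u} [CommRing R]

/-- the regular locus is stable under generization -/
theorem regLocus_gen (x y : PrimeSpectrum R) (hxy : x ≤ y) (hy : y ∈ EGA4.regLocus R) :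
    x ∈ EGA4.regLocus R := by
  have hy' : IsRegularLocalRing (Localization.AtPrime y.asIdeal) := hy
  have hd : Disjoint ((y.asIdeal.primeCompl : Submonoid R) : Set R) (x.asIdeal : Set R) := by
    rw [Set.disjoint_left]
    intro a ha hax
    exact ha (hxy hax)
  haveI hP' : (x.asIdeal.map (algebraMap R (Localization y.asIdeal.primeCompl))).IsPrime :=
    IsLocalization.isPrime_of_isPrime_disjoint y.asIdeal.primeCompl _ x.asIdeal inferInstance hd
  obtain ⟨e⟩ := nonempty_locEquiv_of_disjoint y.asIdeal.primeCompl x.asIdeal hd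
  have h1 := Groth.Agent.Lib.Helper18.SerreReg.isRegularLocalRing_localization_atPrime
    (Localization.AtPrime y.asIdeal)
    (x.asIdeal.map (algebraMap R (Localization y.asIdeal.primeCompl)))
  exact @IsRegularLocalRing.of_ringEquiv _ _ h1 _ _ e

/-- **Nagata's criterion** for the openness of the regular locus -/
theorem isOpen_regLocus_iff [IsNoetherianRing R] :
    IsOpen (EGA4.regLocus R) ↔
      ∀ p ∈ EGA4.regLocus R, ∃ U : Set (PrimeSpectrum R), IsOpen U ∧
        (U ∩ PrimeSpectrum.zeroLocus (p.asIdeal : Set R)).Nonempty ∧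
        U ∩ PrimeSpectrum.zeroLocus (p.asIdeal : Set R) ⊆ EGA4.regLocus R := by
  constructor
  · intro h p hp
    exact ⟨EGA4.regLocus R, h, ⟨p, hp, (PrimeSpectrum.mem_zeroLocus _ _).mpr le_rfl⟩,
      Set.inter_subset_left⟩
  · intro h
    exact isOpen_of_nagata _ regLocus_gen h

end reg

end Groth.Agent.Lib.Helper18.J2
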