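import Mathlib
import Groth.Prelude.Def_CAlg
import Groth.Prelude.Def_EGA4b
import Groth.Agent.Lib.Helper18.J2b
import Groth.Agent.Lib.Helper18.FamCyc3
import Groth.Agent.Lib.Helper18.FlatLocal
import Groth.Agent.Lib.Helper16.RegularRingFacts

set_option autoImplicit false
set_option linter.style.haveILetI false
universe u

open IsLocalRing TensorProduct

namespace Groth.Agent.Lib.Helper18.J2

section gens

variable {R : Type u} [CommRing R] [IsNoetherianRing R]

/-- if `R_p` is regular then, after inverting some `f ∉ p`, the prime `p` is generated by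
`ht p` elements -/
theorem exists_notMem_span (p : Ideal R) [p.IsPrime]
    (hreg : IsRegularLocalRing (Localization.AtPrime p)) :
    ∃ (X : Finset R) (f : R), f ∉ p ∧ (X.card : ℕ∞) ≤ p.height ∧ (X : Set R) ⊆ p ∧
      ∀ y ∈ p, f * y ∈ Ideal.span (X : Set R) := by
  classical
  set S := Localization.AtPrime p with hS
  obtain ⟨s, hscard, hsspan⟩ := Submodule.FG.exists_span_finset_card_eq_spanFinrank
    (maximalIdeal S).fg_of_isNoetherianRing
  have hsurj : ∀ y : S, ∃ x : R × p.primeCompl, y * algebraMap R S x.2 = algebraMap R S x.1 :=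
    IsLocalization.surj p.primeCompl
  choose nd hnd using hsurj
  set X : Finset R := s.image (fun y => (nd y).1) with hX
  have hsm : ∀ y ∈ s, y ∈ maximalIdeal S := by
    intro y hy
    rw [← hsspan]
    exact Submodule.subset_span hy
  have hXp : (X : Set R) ⊆ p := by
    intro a ha
    rw [hX, Finset.coe_image] at ha
    obtain ⟨y, hy, rfl⟩ := ha
    have h1 : y * algebraMap R S (nd y).2 ∈ maximalIdeal S :=
      Ideal.mul_mem_right _ _ (hsm y hy)
    rw [hnd y] at h1
    exact (IsLocalization.AtPrime.to_map_mem_maximal_iff S p _).mp h1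
  set I₀ : Ideal R := Ideal.span (X : Set R) with hI₀
  have hmle : maximalIdeal S ≤ I₀.map (algebraMap R S) := by
    rw [← hsspan]
    change Ideal.span (s : Set S) ≤ _
    rw [Ideal.span_le]
    intro y hy
    have hu : IsUnit (algebraMap R S (nd y).2) := IsLocalization.map_units S (nd y).2
    obtain ⟨u, hu'⟩ := hu
    have h1 : y = algebraMap R S (nd y).1 * ↑u⁻¹ := by
      rw [← hnd y, ← hu', mul_assoc, Units.mul_inv, mul_one]
    rw [SetLike.mem_coe, h1]
    apply Ideal.mul_mem_right
    apply Ideal.mem_map_of_mem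
    apply Ideal.subset_span
    rw [hX, Finset.coe_image]
    exact ⟨y, hy, rfl⟩
  have hex : ∀ y ∈ p, ∃ t : R, t ∉ p ∧ t * y ∈ I₀ := by
    intro y hy
    have h1 : algebraMap R S y ∈ I₀.map (algebraMap R S) :=
      hmle ((IsLocalization.AtPrime.to_map_mem_maximal_iff S p _).mpr hy)
    obtain ⟨a, ha⟩ := (IsLocalization.mem_map_algebraMap_iff p.primeCompl S).mp h1
    rw [← map_mul] at ha
    obtain ⟨c, hc⟩ := (IsLocalization.eq_iff_exists p.primeCompl S).mp ha
    refine ⟨c * a.2, (c * a.2).2, ?_⟩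
    have : (↑(c * a.2) : R) * y = ↑c * ↑a.1 := by
      rw [Submonoid.coe_mul, mul_assoc, mul_comm (a.2 : R) y]
      exact hc
    have h2 : (↑c : R) * ↑a.1 ∈ I₀ := Ideal.mul_mem_left _ _ a.1.2
    rw [← this] at h2
    exact h2
  obtain ⟨G, hG⟩ := (isNoetherianRing_iff_ideal_fg R).mp inferInstance p
  have hGp : ∀ y ∈ G, y ∈ p := fun y hy => hG ▸ Ideal.subset_span hy
  choose! t ht using hex
  set f : R := ∏ y ∈ G, t y with hf
  have hfp : f ∉ p := by
    intro hfp
    obtain ⟨y, hy, hty⟩ := (Ideal.IsPrime.prod_mem_iff (hp := inferInstance)).mp hfp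
    exact (ht y (hGp y hy)).1 hty
  have hfG : ∀ y ∈ G, f * y ∈ I₀ := by
    intro y hy
    obtain ⟨c, hc⟩ := Finset.dvd_prod_of_mem t hy
    rw [hf, hc, mul_comm (t y) c, mul_assoc]
    exact Ideal.mul_mem_left _ _ (ht y (hGp y hy)).2
  have hfall : ∀ y ∈ p, f * y ∈ I₀ := by
    intro y hy
    have hle : p ≤ Submodule.comap (LinearMap.mulLeft R f) I₀ := by
      rw [← hG]
      rw [Ideal.span_le]
      intro z hz
      exact hfG z hz
    exact hle hy
  refine ⟨X, f, hfp, ?_, hXp, hfall⟩
  have h1 : X.card ≤ s.card := Finset.card_image_le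
  have h2 : ((maximalIdeal S).spanFinrank : WithBot ℕ∞) = ringKrullDim S :=
    hreg.spanFinrank_maximalIdeal
  rw [IsLocalization.AtPrime.ringKrullDim_eq_height p S] at h2
  have h3 : ((maximalIdeal S).spanFinrank : ℕ∞) = p.height := by
    exact_mod_cast h2
  rw [← h3]
  rw [hscard] at h1
  exact_mod_cast h1

end gens

section rq

open Groth.Agent.Lib.Helper18.FamCyc Groth.Agent.Lib.Helper18.FlatLocal
  Groth.Agent.Lib.Helper16.PDR

variable {R : Type u} [CommRing R] [IsNoetherianRing R]

theorem isRegularLocalRing_of_quotient_regular (p q : Ideal R) [p.IsPrime] [q.IsPrime]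
    (hpq : p ≤ q) (X : Finset R) (hXcard : (X.card : ℕ∞) ≤ p.height)
    (hmap : p.map (algebraMap R (Localization.AtPrime q)) =
      (Ideal.span (X : Set R)).map (algebraMap R (Localization.AtPrime q)))
    [hq' : (q.map (Ideal.Quotient.mk p)).IsPrime]
    (hreg : IsRegularLocalRing (Localization.AtPrime (q.map (Ideal.Quotient.mk p)))) :
    IsRegularLocalRing (Localization.AtPrime q) := by
  classical
  set S := Localization.AtPrime q with hS
  set I : Ideal S := p.map (algebraMap R S) with hI
  obtain ⟨e⟩ := nonempty_ringEquiv_quotient_localization' p q hpq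
  have hT : IsRegularLocalRing (S ⧸ I) := IsRegularLocalRing.of_ringEquiv e
  haveI : IsLocalRing (S ⧸ I) := hT.toIsLocalRing
  have hIm : I ≤ maximalIdeal S := by
    rw [← Localization.AtPrime.map_eq_maximalIdeal]
    exact Ideal.map_mono hpq
  have h1 := spanFinrank_maximalIdeal_le_add_quotient I hIm
  have h2 : I.spanFinrank ≤ X.card := by
    have : I = Submodule.span S ((algebraMap R S) '' (X : Set R)) := by
      rw [hmap, Ideal.map_span]
    rw [this]
    have hfin : ((algebraMap R S) '' (X : Set R)).Finite := (Finset.finite_toSet X).image _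
    refine (Submodule.spanFinrank_span_le_ncard_of_finite hfin).trans ?_
    refine (Set.ncard_image_le (Finset.finite_toSet X)).trans ?_
    rw [Set.ncard_coe_finset]
  have h3 : ((maximalIdeal (S ⧸ I)).spanFinrank : WithBot ℕ∞) =
      ((q.map (Ideal.Quotient.mk p)).height : WithBot ℕ∞) := by
    rw [hT.spanFinrank_maximalIdeal, ← ringKrullDim_eq_of_ringEquiv e,
      IsLocalization.AtPrime.ringKrullDim_eq_height (q.map (Ideal.Quotient.mk p))]
  have h3' : ((maximalIdeal (S ⧸ I)).spanFinrank : ℕ∞) = (q.map (Ideal.Quotient.mk p)).height := by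
    exact_mod_cast h3
  have h4 := height_add_height_map_le' p q hpq
  apply IsRegularLocalRing.of_spanFinrank_maximalIdeal_le
  rw [IsLocalization.AtPrime.ringKrullDim_eq_height q S]
  have h5 : ((maximalIdeal S).spanFinrank : ℕ∞) ≤ q.height := by
    calc ((maximalIdeal S).spanFinrank : ℕ∞)
        ≤ ((I.spanFinrank + (maximalIdeal (S ⧸ I)).spanFinrank : ℕ) : ℕ∞) := by exact_mod_cast h1
      _ = (I.spanFinrank : ℕ∞) + ((maximalIdeal (S ⧸ I)).spanFinrank : ℕ∞) := by push_cast; rfl
      _ ≤ (X.card : ℕ∞) + (q.map (Ideal.Quotient.mk p)).height := by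
          rw [h3']
          exact add_le_add (by exact_mod_cast h2) le_rfl
      _ ≤ p.height + (q.map (Ideal.Quotient.mk p)).height := add_le_add hXcard le_rfl
      _ ≤ q.height := h4
  exact_mod_cast h5

/-- **regular quotient lemma**: if `R_p` is regular and `R/p` is `J0`, then the regular locus
of `R` contains a nonempty open part of `V(p)`. -/
theorem exists_open_of_j0_quotient (p : Ideal R) [p.IsPrime]
    (hreg : IsRegularLocalRing (Localization.AtPrime p)) (h0 : J0 (R ⧸ p)) :
    ∃ U : Set (PrimeSpectrum R), IsOpen U ∧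
      (U ∩ PrimeSpectrum.zeroLocus (p : Set R)).Nonempty ∧
      U ∩ PrimeSpectrum.zeroLocus (p : Set R) ⊆ EGA4.regLocus R := by
  obtain ⟨X, f, hfp, hXcard, hXp, hfall⟩ := exists_notMem_span p hreg
  obtain ⟨W, hW, hWne, hWsub⟩ := h0
  have hsurj : Function.Surjective (Ideal.Quotient.mk p) := Ideal.Quotient.mk_surjective
  have hemb := PrimeSpectrum.isClosedEmbedding_comap_of_surjective (R ⧸ p)
    (Ideal.Quotient.mk p) hsurj
  obtain ⟨U₀, hU₀, hU₀W⟩ := hemb.isInducing.isOpen_iff.mp hW
  have hbot := bot_mem_of_isOpen hW hWne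
  have hcomapbot : PrimeSpectrum.comap (Ideal.Quotient.mk p) ⟨⊥, Ideal.isPrime_bot⟩ =
      (⟨p, inferInstance⟩ : PrimeSpectrum R) := by
    ext1
    change Ideal.comap (Ideal.Quotient.mk p) ⊥ = p
    rw [← RingHom.ker_eq_comap_bot, Ideal.mk_ker]
  refine ⟨(PrimeSpectrum.basicOpen f : Set (PrimeSpectrum R)) ∩ U₀,
    (PrimeSpectrum.basicOpen f).isOpen.inter hU₀, ⟨⟨p, inferInstance⟩, ⟨hfp, ?_⟩, ?_⟩, ?_⟩
  · rw [← hU₀W] at hbot
    rw [Set.mem_preimage, hcomapbot] at hbot
    exact hbot
  · exact (PrimeSpectrum.mem_zeroLocus _ _).mpr le_rfl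
  · rintro q ⟨⟨hq1, hq2⟩, hq3⟩
    have hpq : p ≤ q.asIdeal := (PrimeSpectrum.mem_zeroLocus _ _).mp hq3
    have hfq : f ∉ q.asIdeal := hq1
    haveI hq' : (q.asIdeal.map (Ideal.Quotient.mk p)).IsPrime :=
      Ideal.map_isPrime_of_surjective hsurj (by rw [Ideal.mk_ker]; exact hpq)
    have hcomap : (q.asIdeal.map (Ideal.Quotient.mk p)).comap (Ideal.Quotient.mk p) =
        q.asIdeal := by
      rw [Ideal.comap_map_of_surjective _ hsurj, ← RingHom.ker_eq_comap_bot, Ideal.mk_ker]
      exact sup_eq_left.mpr hpq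
    have hmemW : (⟨q.asIdeal.map (Ideal.Quotient.mk p), hq'⟩ : PrimeSpectrum (R ⧸ p)) ∈ W := by
      rw [← hU₀W, Set.mem_preimage]
      have : PrimeSpectrum.comap (Ideal.Quotient.mk p)
          ⟨q.asIdeal.map (Ideal.Quotient.mk p), hq'⟩ = q := by
        ext1
        exact hcomap
      rw [this]
      exact hq2
    have hreg' : IsRegularLocalRing
        (Localization.AtPrime (q.asIdeal.map (Ideal.Quotient.mk p))) := hWsub hmemW
    have hmap : p.map (algebraMap R (Localization.AtPrime q.asIdeal)) =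
        (Ideal.span (X : Set R)).map (algebraMap R (Localization.AtPrime q.asIdeal)) := by
      apply le_antisymm
      · rw [Ideal.map_le_iff_le_comap]
        intro y hy
        have h1 := Ideal.mem_map_of_mem (algebraMap R (Localization.AtPrime q.asIdeal))
          (hfall y hy)
        rw [map_mul] at h1
        have hu : IsUnit (algebraMap R (Localization.AtPrime q.asIdeal) f) :=
          IsLocalization.map_units _ (⟨f, hfq⟩ : q.asIdeal.primeCompl)
        exact (Ideal.unit_mul_mem_iff_mem _ hu).mp h1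
      · exact Ideal.map_mono (Ideal.span_le.mpr hXp)
    exact isRegularLocalRing_of_quotient_regular p q.asIdeal hpq X hXcard hmap hreg'

/-- if all the domains `R/p` are `J0` then the regular locus of `R` is open -/
theorem isOpen_regLocus_of_forall_j0 (h : ∀ (p : Ideal R) [p.IsPrime], J0 (R ⧸ p)) :
    IsOpen (EGA4.regLocus R) := by
  rw [isOpen_regLocus_iff]
  intro p hp
  exact exists_open_of_j0_quotient p.asIdeal hp (h p.asIdeal)

end rq

end Groth.Agent.Lib.Helper18.J2
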