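import Mathlib
import Groth.Prelude.Def_CAlg
import Groth.Prelude.Def_EGA4b
import Groth.Agent.Lib.Helper18.J2c
import Groth.Agent.Lib.Helper18.PMor3
import Groth.Agent.Lib.Helper25.GFMod

set_option autoImplicit false
set_option linter.style.haveILetI false
set_option linter.unusedSectionVars false
universe u

open IsLocalRing TensorProduct

namespace Groth.Agent.Lib.Helper18.J2

section away

open Groth.Agent.Lib.Helper18.NorOpen

variable {A : Type u} [CommRing A] [IsNoetherianRing A]

theorem isRegularRing_away_of_subset (f : A)
    (h : (PrimeSpectrum.basicOpen f : Set (PrimeSpectrum A)) ⊆ EGA4.regLocus A) :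
    IsRegularRing (Localization.Away f) := by
  haveI : IsNoetherianRing (Localization.Away f) :=
    IsLocalization.isNoetherianRing (Submonoid.powers f) _ inferInstance
  rw [isRegularRing_iff]
  intro P _
  set q := P.comap (algebraMap A (Localization.Away f)) with hq
  have hfq : f ∉ q := by
    intro hfq
    have : algebraMap A (Localization.Away f) f ∈ P := hfq
    exact Ideal.IsPrime.ne_top inferInstance (Ideal.eq_top_of_isUnit_mem _ this
      (IsLocalization.Away.algebraMap_isUnit f))
  have hd := disjoint_powers_of_notMem A f q hfq
  have hmap : q.map (algebraMap A (Localization.Away f)) = P :=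
    IsLocalization.map_under (Submonoid.powers f) _ P
  haveI hQ : (q.map (algebraMap A (Localization.Away f))).IsPrime := by
    rw [hmap]; infer_instance
  obtain ⟨e⟩ := nonempty_locEquiv_of_disjoint (Submonoid.powers f) q hd
  have hreg : IsRegularLocalRing (Localization.AtPrime q) :=
    h (show (⟨q, inferInstance⟩ : PrimeSpectrum A) ∈ _ from hfq)
  exact regular_congr hmap (@IsRegularLocalRing.of_ringEquiv _ _ hreg _ _ e.symm)

theorem subset_regLocus_of_isRegularRing_away (f : A) (h : IsRegularRing (Localization.Away f)) :
    (PrimeSpectrum.basicOpen f : Set (PrimeSpectrum A)) ⊆ EGA4.regLocus A := by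
  intro q hq
  have hfq : f ∉ q.asIdeal := hq
  have hd := disjoint_powers_of_notMem A f q.asIdeal hfq
  haveI hQ : (q.asIdeal.map (algebraMap A (Localization.Away f))).IsPrime :=
    IsLocalization.isPrime_of_isPrime_disjoint (Submonoid.powers f) _ q.asIdeal inferInstance hd
  obtain ⟨e⟩ := nonempty_locEquiv_of_disjoint (Submonoid.powers f) q.asIdeal hd
  have h1 := h.isRegularLocalRing_localization (q.asIdeal.map (algebraMap A (Localization.Away f)))
  exact @IsRegularLocalRing.of_ringEquiv _ _ h1 _ _ e

end away

section descent

open Groth.Agent.Lib.Helper25 Groth.Agent.Lib.Helper18.PMor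

attribute [local instance] Algebra.TensorProduct.rightAlgebra

/-- **`J0` descends** along injective finite type maps of domains (generic freeness +
faithfully flat descent of regularity). -/
theorem j0_of_finiteType_injective (R S : Type u) [CommRing R] [IsDomain R] [IsNoetherianRing R]
    [CommRing S] [IsDomain S] [Algebra R S] [Algebra.FiniteType R S]
    (hinj : Function.Injective (algebraMap R S)) (hS : J0 S) : J0 R := by
  haveI : IsNoetherianRing S := Algebra.FiniteType.isNoetherianRing R S
  obtain ⟨U, hU, hne, hsub⟩ := hS
  obtain ⟨s, hs0, hsU⟩ := exists_basicOpen_subset hU hne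
  have hTreg : IsRegularRing (Localization.Away s) :=
    isRegularRing_away_of_subset s (hsU.trans hsub)
  have hsle : Submonoid.powers s ≤ nonZeroDivisors S :=
    powers_le_nonZeroDivisors_of_noZeroDivisors hs0
  haveI : IsDomain (Localization.Away s) :=
    IsLocalization.isDomain_of_le_nonZeroDivisors (Localization.Away s) hsle
  haveI : Algebra.FiniteType S (Localization.Away s) := IsLocalization.finiteType_of_monoid_fg
    (Submonoid.powers s) (Localization.Away s)
  haveI : Algebra.FiniteType R (Localization.Away s) := Algebra.FiniteType.trans ‹_› ‹_›
  have hinjT : Function.Injective (algebraMap R (Localization.Away s)) := by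
    rw [IsScalarTower.algebraMap_eq R S (Localization.Away s)]
    exact (IsLocalization.injective (Localization.Away s) hsle).comp hinj
  obtain ⟨g, -, hg0, hGF⟩ := GFMod.exists_GF R (Localization.Away s) (Localization.Away s) 1
    one_ne_zero
  have hfree := (hGF g dvd_rfl).1
  have hfree' : Module.Free (Localization.Away g)
      (Localization.Away g ⊗[R] Localization.Away s) :=
    Module.Free.of_equiv
      (IsLocalizedModule.isBaseChange (Submonoid.powers g) (Localization.Away g)
        (LocalizedModule.mkLinearMap (Submonoid.powers g) (Localization.Away s))).equiv.symm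
  have hloc : IsLocalization
      (Algebra.algebraMapSubmonoid (Localization.Away s) (Submonoid.powers g))
      (Localization.Away g ⊗[R] Localization.Away s) :=
    IsLocalization.tensorRight _ (Submonoid.powers g)
  have hle : Algebra.algebraMapSubmonoid (Localization.Away s) (Submonoid.powers g) ≤
      nonZeroDivisors (Localization.Away s) := by
    rintro x ⟨y, ⟨n, rfl⟩, rfl⟩
    rw [map_pow]
    apply pow_mem
    rw [mem_nonZeroDivisors_iff_ne_zero]
    intro h0
    exact hg0 (hinjT (by rw [h0, map_zero]))
  haveI : IsDomain (Localization.Away g ⊗[R] Localization.Away s) :=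
    @IsLocalization.isDomain_of_le_nonZeroDivisors (Localization.Away s) _ _
      (Localization.Away g ⊗[R] Localization.Away s) _ _ hloc _ hle
  haveI := Groth.Agent.Lib.Helper16.PDR.isRegularRing_localization (Localization.Away s)
    (Algebra.algebraMapSubmonoid (Localization.Away s) (Submonoid.powers g))
  have hreg' : IsRegularRing (Localization.Away g ⊗[R] Localization.Away s) :=
    IsRegularRing.of_ringEquiv (IsLocalization.algEquiv
      (Algebra.algebraMapSubmonoid (Localization.Away s) (Submonoid.powers g))
      (Localization (Algebra.algebraMapSubmonoid (Localization.Away s) (Submonoid.powers g)))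
      (Localization.Away g ⊗[R] Localization.Away s)).toRingEquiv
  haveI : IsNoetherianRing (Localization.Away g ⊗[R] Localization.Away s) := by
    haveI := hreg'
    infer_instance
  haveI : IsNoetherianRing (Localization.Away g) :=
    IsLocalization.isNoetherianRing (Submonoid.powers g) _ inferInstance
  haveI : Module.FaithfullyFlat (Localization.Away g)
      (Localization.Away g ⊗[R] Localization.Away s) :=
    @Module.FaithfullyFlat.instOfNontrivialOfFree (Localization.Away g)
      (Localization.Away g ⊗[R] Localization.Away s) _ _ _ inferInstance hfree'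
  have hRg : IsRegularRing (Localization.Away g) :=
    isRegularRing_of_faithfullyFlat (Localization.Away g)
      (Localization.Away g ⊗[R] Localization.Away s) hreg'
  refine ⟨PrimeSpectrum.basicOpen g, (PrimeSpectrum.basicOpen g).isOpen,
    ⟨⟨⊥, Ideal.isPrime_bot⟩, ?_⟩, subset_regLocus_of_isRegularRing_away g hRg⟩
  change g ∉ (⊥ : Ideal R)
  simpa using hg0

end descent

end Groth.Agent.Lib.Helper18.J2
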