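import Mathlib
import Groth.Agent.Lib.Helper6.GeomReduced

set_option autoImplicit false
set_option linter.style.haveILetI false
universe u

open TensorProduct

namespace Groth.Agent.Lib.Helper18.PISep

open Groth.Agent.Lib.Helper6

section finset

variable {k L R : Type*} [Field k] [Field L] [Algebra k L] [CommRing R] [Algebra k R]

theorem range_map_val_mono {F F' : IntermediateField k L} (h : F ≤ F') :
    (Algebra.TensorProduct.map F.val (AlgHom.id k R)).range ≤
      (Algebra.TensorProduct.map F'.val (AlgHom.id k R)).range := by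
  rintro x ⟨y, rfl⟩
  refine ⟨Algebra.TensorProduct.map (IntermediateField.inclusion h) (AlgHom.id k R) y, ?_⟩
  change (Algebra.TensorProduct.map F'.val (AlgHom.id k R)).comp
    (Algebra.TensorProduct.map (IntermediateField.inclusion h) (AlgHom.id k R)) y = _
  rw [← Algebra.TensorProduct.map_comp]
  rfl

theorem exists_finite_intermediateField_finset [Algebra.IsAlgebraic k L]
    (G : Finset (L ⊗[k] R)) :
    ∃ F : IntermediateField k L, FiniteDimensional k F ∧
      ∀ g ∈ G, g ∈ (Algebra.TensorProduct.map F.val (AlgHom.id k R)).range := by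
  classical
  induction G using Finset.induction_on with
  | empty => exact ⟨⊥, inferInstance, by simp⟩
  | insert a G ha ih =>
    obtain ⟨F₁, hF₁, h₁⟩ := ih
    obtain ⟨F₂, hF₂, h₂, -⟩ := exists_finite_intermediateField (k := k) (L := L) (R := R) a a
    refine ⟨F₁ ⊔ F₂, IntermediateField.finiteDimensional_sup F₁ F₂, ?_⟩
    intro g hg
    rcases Finset.mem_insert.mp hg with rfl | hg
    · exact range_map_val_mono le_sup_right h₂
    · exact range_map_val_mono le_sup_left (h₁ g hg)

end finset

section main

variable (k : Type u) [Field k] (A : Type u) [CommRing A] [Algebra k A]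

section aux

variable (F P : Type u) [Field F] [Field P] [Algebra k F] [Algebra k P] [Algebra F P]
  [IsScalarTower k F P]

/-- compatibility of `cancelBaseChange` with the map `F ⊗ A → P ⊗ A` -/
theorem cancelBaseChange_one_tmul (z : F ⊗[k] A) :
    Algebra.TensorProduct.cancelBaseChange k F P P A ((1 : P) ⊗ₜ[F] z) =
      Algebra.TensorProduct.map (IsScalarTower.toAlgHom k F P) (AlgHom.id k A) z := by
  induction z with
  | zero => simp
  | tmul f a =>
    rw [Algebra.TensorProduct.cancelBaseChange_tmul, Algebra.TensorProduct.map_tmul,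
      Algebra.smul_def, mul_one]
    rfl
  | add x y hx hy => rw [TensorProduct.tmul_add, map_add, map_add, hx, hy]

theorem geomReduced_of_span [PerfectField P] [Algebra.IsAlgebraic F P]
    (G : Finset (P ⊗[k] A)) (hG : Ideal.span (G : Set (P ⊗[k] A)) = nilradical (P ⊗[k] A))
    (hFG : ∀ g ∈ G, g ∈ (Algebra.TensorProduct.map (IsScalarTower.toAlgHom k F P)
      (AlgHom.id k A)).range) :
    Algebra.IsGeometricallyReduced F ((F ⊗[k] A) ⧸ nilradical (F ⊗[k] A)) := by
  classical
  -- Step A: `P ⊗[F] B'` is reduced
  let π : F ⊗[k] A →ₐ[F] (F ⊗[k] A) ⧸ nilradical (F ⊗[k] A) :=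
    Ideal.Quotient.mkₐ F (nilradical (F ⊗[k] A))
  have hπ : Function.Surjective π := Ideal.Quotient.mkₐ_surjective F _
  let Φ := Algebra.TensorProduct.map (AlgHom.id F P) π
  have hΦ : Function.Surjective Φ :=
    Algebra.TensorProduct.map_surjective (AlgHom.id F P) π Function.surjective_id hπ
  have hker : RingHom.ker Φ = (RingHom.ker π).map
      (Algebra.TensorProduct.includeRight : F ⊗[k] A →ₐ[F] P ⊗[F] (F ⊗[k] A)) :=
    Algebra.TensorProduct.lTensor_ker π hπ
  have hkerπ : RingHom.ker π = nilradical (F ⊗[k] A) := Ideal.Quotient.mkₐ_ker F _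
  let ψ := Algebra.TensorProduct.cancelBaseChange k F P P A
  have hinj : Function.Injective (Algebra.TensorProduct.map (IsScalarTower.toAlgHom k F P)
      (AlgHom.id k A)) :=
    Module.Flat.rTensor_preserves_injective_linearMap (M := A)
      (IsScalarTower.toAlgHom k F P).toLinearMap (algebraMap F P).injective
  have hKKnil : ∀ y ∈ RingHom.ker Φ, IsNilpotent y := by
    intro y hy
    rw [hker, hkerπ] at hy
    have hle : (nilradical (F ⊗[k] A)).map
        (Algebra.TensorProduct.includeRight : F ⊗[k] A →ₐ[F] P ⊗[F] (F ⊗[k] A)) ≤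
        nilradical (P ⊗[F] (F ⊗[k] A)) := by
      rw [Ideal.map_le_iff_le_comap]
      intro z hz
      exact mem_nilradical.mpr ((mem_nilradical.mp hz).map _)
    exact mem_nilradical.mp (hle hy)
  have hGker : ∀ g ∈ G, ψ.symm g ∈ RingHom.ker Φ := by
    intro g hg
    obtain ⟨g', rfl⟩ := hFG g hg
    have hgnil : IsNilpotent (Algebra.TensorProduct.map (IsScalarTower.toAlgHom k F P)
        (AlgHom.id k A) g') := by
      rw [← mem_nilradical, ← hG]
      exact Ideal.subset_span hg
    have hg'nil : IsNilpotent g' := (IsNilpotent.map_iff hinj).mp hgnil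
    have h1 : ψ.symm (Algebra.TensorProduct.map (IsScalarTower.toAlgHom k F P)
        (AlgHom.id k A) g') = (1 : P) ⊗ₜ[F] g' := by
      rw [AlgEquiv.symm_apply_eq]
      exact (cancelBaseChange_one_tmul k A F P g').symm
    change ψ.symm (Algebra.TensorProduct.map (IsScalarTower.toAlgHom k F P)
        (AlgHom.id k A) g') ∈ _
    rw [h1, hker, hkerπ]
    exact Ideal.mem_map_of_mem _ (mem_nilradical.mpr hg'nil)
  have hred : IsReduced (P ⊗[F] ((F ⊗[k] A) ⧸ nilradical (F ⊗[k] A))) := by
    constructor
    intro x hx
    obtain ⟨y, rfl⟩ := hΦ x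
    obtain ⟨n, hn⟩ := hx
    have hyn : y ^ n ∈ RingHom.ker Φ := by
      rw [RingHom.mem_ker, map_pow]
      exact hn
    have hynil : IsNilpotent y := by
      obtain ⟨m, hm⟩ := hKKnil _ hyn
      exact ⟨n * m, by rw [pow_mul]; exact hm⟩
    have hψy : ψ y ∈ nilradical (P ⊗[k] A) := mem_nilradical.mpr (hynil.map ψ)
    have hle : nilradical (P ⊗[k] A) ≤ (RingHom.ker Φ).comap ψ.symm.toRingHom := by
      rw [← hG, Ideal.span_le]
      intro g hg
      exact hGker g hg
    have h2 := hle hψy
    rw [Ideal.mem_comap] at h2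
    have h3 : ψ.symm.toRingHom (ψ y) = y := ψ.symm_apply_apply y
    rw [h3] at h2
    exact (RingHom.mem_ker).mp h2
  -- Step B: reducedness over an algebraic closure
  haveI : Algebra.IsAlgebraic F (AlgebraicClosure P) := Algebra.IsAlgebraic.trans F P _
  have hredL : IsReduced (AlgebraicClosure P ⊗[F] ((F ⊗[k] A) ⧸ nilradical (F ⊗[k] A))) :=
    isReduced_tensor_of_perfectField_of_isAlgebraic (k := F) (P := P)
      (Kbar := AlgebraicClosure P) hred
  rw [Algebra.isGeometricallyReduced_field_iff]
  exact isReduced_of_isReduced_algClosure (k := F) (Kbar := AlgebraicClosure P) hredL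
    (AlgebraicClosure F)

end aux

/-- **EGA IV 4.6.6**: for a finitely generated algebra `A` over a field `k` there is a finite
purely inseparable extension `k'` such that `(k' ⊗ A)_red` is geometrically reduced over `k'`. -/
theorem exists_finite_purelyInseparable [Algebra.FiniteType k A] :
    ∃ (k' : Type u) (_ : Field k') (_ : Algebra k k'), FiniteDimensional k k' ∧
      IsPurelyInseparable k k' ∧
      Algebra.IsGeometricallyReduced k' ((k' ⊗[k] A) ⧸ nilradical (k' ⊗[k] A)) := by
  classical
  let L := AlgebraicClosure k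
  let P : IntermediateField k L := perfectClosure k L
  haveI : PerfectField P := perfectClosure.perfectField k L
  haveI : Algebra.FiniteType P (P ⊗[k] A) := inferInstance
  haveI : IsNoetherianRing (P ⊗[k] A) := Algebra.FiniteType.isNoetherianRing P (P ⊗[k] A)
  obtain ⟨G, hG⟩ : (nilradical (P ⊗[k] A)).FG := IsNoetherian.noetherian _
  obtain ⟨F, hFfin, hFG⟩ := exists_finite_intermediateField_finset (k := k) (L := P) (R := A) G
  haveI : Algebra.IsAlgebraic F P := Algebra.IsAlgebraic.tower_top (K := k) F
  refine ⟨F, inferInstance, inferInstance, hFfin, IsPurelyInseparable.tower_bot k F P, ?_⟩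
  exact geomReduced_of_span k A F P G hG hFG

end main

end Groth.Agent.Lib.Helper18.PISep
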