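import Mathlib
import Groth.Prelude.Def_CAlg
import Groth.Prelude.Def_EGA4b
import Groth.Agent.Lib.Helper18.J2d
import Groth.Agent.Lib.Helper18.PISep

set_option autoImplicit false
set_option linter.style.haveILetI false
set_option linter.unusedSectionVars false
set_option linter.overlappingInstances false
universe u

open IsLocalRing TensorProduct nonZeroDivisors

namespace Groth.Agent.Lib.Helper18.J2

section pi

variable (K K' D : Type u) [Field K] [Field K'] [Algebra K K'] [IsPurelyInseparable K K']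
  [CommRing D] [Algebra K D] [Nontrivial D]

theorem exists_pow_mem_range_includeRight (q : ℕ) [ExpChar K q] (z : K' ⊗[K] D) :
    ∃ n : ℕ, z ^ q ^ n ∈ (Algebra.TensorProduct.includeRight : D →ₐ[K] K' ⊗[K] D).range := by
  haveI : Nontrivial (K' ⊗[K] D) :=
    (Algebra.TensorProduct.includeRight_injective (R := K) (A := K') (B := D)
      (algebraMap K K').injective).nontrivial
  haveI : ExpChar (K' ⊗[K] D) q :=
    expChar_of_injective_algebraMap (algebraMap K (K' ⊗[K] D)).injective q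
  induction z with
  | zero =>
    refine ⟨0, 0, ?_⟩
    simp
  | tmul x d =>
    obtain ⟨n, y, hy⟩ := IsPurelyInseparable.pow_mem K q x
    refine ⟨n, y • d ^ q ^ n, ?_⟩
    rw [Algebra.TensorProduct.tmul_pow, ← hy]
    change (1 : K') ⊗ₜ[K] (y • d ^ q ^ n) = _
    rw [Algebra.algebraMap_eq_smul_one, TensorProduct.smul_tmul]
  | add z₁ z₂ h₁ h₂ =>
    obtain ⟨n₁, h₁⟩ := h₁
    obtain ⟨n₂, h₂⟩ := h₂
    refine ⟨n₁ + n₂, ?_⟩
    rw [add_pow_expChar_pow]
    apply Subalgebra.add_mem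
    · rw [pow_add, pow_mul]
      exact Subalgebra.pow_mem _ h₁ _
    · rw [add_comm n₁ n₂, pow_add, pow_mul]
      exact Subalgebra.pow_mem _ h₂ _

theorem isPrime_nilradical_tensor [IsDomain D] : (nilradical (K' ⊗[K] D)).IsPrime := by
  have hinj := Algebra.TensorProduct.includeRight_injective (R := K) (A := K') (B := D)
      (algebraMap K K').injective
  haveI : Nontrivial (K' ⊗[K] D) := hinj.nontrivial
  obtain ⟨q, hq⟩ := ExpChar.exists K
  refine ⟨?_, ?_⟩
  · rw [Ne, Ideal.eq_top_iff_one, mem_nilradical]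
    exact not_isNilpotent_one
  · intro z w hzw
    obtain ⟨n₁, d₁, hd₁⟩ := exists_pow_mem_range_includeRight K K' D q z
    obtain ⟨n₂, d₂, hd₂⟩ := exists_pow_mem_range_includeRight K K' D q w
    have h1 : IsNilpotent (z ^ q ^ n₁ * w ^ q ^ n₂) := by
      have hzw' : IsNilpotent (z * w) := mem_nilradical.mp hzw
      have hq0 : 0 < q := expChar_pos K q
      have e1 : z ^ q ^ n₁ * w ^ q ^ n₂ = (z * w) * (z ^ (q ^ n₁ - 1) * w ^ (q ^ n₂ - 1)) := by
        have h1 : q ^ n₁ = (q ^ n₁ - 1) + 1 := (Nat.sub_add_cancel (Nat.pow_pos hq0)).symm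
        have h2 : q ^ n₂ = (q ^ n₂ - 1) + 1 := (Nat.sub_add_cancel (Nat.pow_pos hq0)).symm
        conv_lhs => rw [h1, h2, pow_succ, pow_succ]
        ring
      rw [e1]
      exact (Commute.all _ _).isNilpotent_mul_right hzw'
    rw [← hd₁, ← hd₂, ← map_mul] at h1
    have h2 : IsNilpotent (d₁ * d₂) := (IsNilpotent.map_iff hinj).mp h1
    have h3 : d₁ * d₂ = 0 := h2.eq_zero
    rcases mul_eq_zero.mp h3 with h | h
    · left
      rw [mem_nilradical]
      have : z ^ q ^ n₁ = 0 := by rw [← hd₁, h, map_zero]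
      exact ⟨q ^ n₁, this⟩
    · right
      rw [mem_nilradical]
      have : w ^ q ^ n₂ = 0 := by rw [← hd₂, h, map_zero]
      exact ⟨q ^ n₂, this⟩

end pi

section locgr

/-- geometric reducedness passes to localizations at nonzerodivisors -/
theorem isGeometricallyReduced_of_isLocalization (K R S : Type u) [Field K] [CommRing R]
    [CommRing S] [Algebra K R] [Algebra K S] [Algebra R S] [IsScalarTower K R S]
    (M : Submonoid R) [IsLocalization M S] (hinj : Function.Injective (algebraMap R S))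
    [Algebra.IsGeometricallyReduced K R] : Algebra.IsGeometricallyReduced K S := by
  rw [Algebra.isGeometricallyReduced_field_iff]
  set Kb := AlgebraicClosure K with hKb
  let φ : Kb ⊗[K] R →ₐ[Kb] Kb ⊗[K] S :=
    Algebra.TensorProduct.map (AlgHom.id Kb Kb) (IsScalarTower.toAlgHom K R S)
  have hφinj : Function.Injective φ :=
    Module.Flat.lTensor_preserves_injective_linearMap (M := Kb)
      (IsScalarTower.toAlgHom K R S).toLinearMap hinj
  have hred : IsReduced (Kb ⊗[K] R) :=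
    (Algebra.isGeometricallyReduced_field_iff K R).mp inferInstance
  have key : ∀ x : Kb ⊗[K] S, ∃ (m : M) (y : Kb ⊗[K] R),
      φ y = ((1 : Kb) ⊗ₜ[K] algebraMap R S m) * x := by
    intro x
    induction x with
    | zero => exact ⟨1, 0, by simp⟩
    | tmul c s =>
      obtain ⟨⟨r, m⟩, hrm⟩ := IsLocalization.surj M s
      refine ⟨m, c ⊗ₜ[K] r, ?_⟩
      rw [Algebra.TensorProduct.tmul_mul_tmul, one_mul]
      change c ⊗ₜ[K] (algebraMap R S r) = _
      rw [← hrm, mul_comm]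
    | add x₁ x₂ h₁ h₂ =>
      obtain ⟨m₁, y₁, h₁⟩ := h₁
      obtain ⟨m₂, y₂, h₂⟩ := h₂
      refine ⟨m₁ * m₂, ((1 : Kb) ⊗ₜ[K] (m₂ : R)) * y₁ + ((1 : Kb) ⊗ₜ[K] (m₁ : R)) * y₂, ?_⟩
      have e1 : φ ((1 : Kb) ⊗ₜ[K] (m₂ : R)) = (1 : Kb) ⊗ₜ[K] algebraMap R S m₂ := rfl
      have e2 : φ ((1 : Kb) ⊗ₜ[K] (m₁ : R)) = (1 : Kb) ⊗ₜ[K] algebraMap R S m₁ := rfl
      rw [map_add, map_mul, map_mul, h₁, h₂, e1, e2, Submonoid.coe_mul, map_mul]
      have e3 : (1 : Kb) ⊗ₜ[K] (algebraMap R S m₁ * algebraMap R S m₂) =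
          ((1 : Kb) ⊗ₜ[K] algebraMap R S m₁) * ((1 : Kb) ⊗ₜ[K] algebraMap R S m₂) := by
        rw [Algebra.TensorProduct.tmul_mul_tmul, one_mul]
      rw [e3]
      ring
  constructor
  intro x hx
  obtain ⟨m, y, hy⟩ := key x
  have hynil : IsNilpotent (φ y) := by
    rw [hy]
    exact (Commute.all _ _).isNilpotent_mul_left hx
  have hy0 : y = 0 := ((IsNilpotent.map_iff hφinj).mp hynil).eq_zero
  rw [hy0, map_zero] at hy
  have hu : IsUnit ((1 : Kb) ⊗ₜ[K] algebraMap R S m) := by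
    have h1 : IsUnit (algebraMap R S m) := IsLocalization.map_units S m
    exact h1.map (Algebra.TensorProduct.includeRight : S →ₐ[K] Kb ⊗[K] S)
  exact (hu.mul_right_eq_zero).mp hy.symm

end locgr

section finsub

/-- a finite subalgebra with prescribed (finite extension) fraction field -/
theorem exists_finite_subalgebra_isFractionRing' (A K K' : Type u) [CommRing A] [IsDomain A]
    [Field K] [Algebra A K] [IsFractionRing A K] [Field K'] [Algebra K K']
    [Module.Finite K K'] [Algebra A K'] [IsScalarTower A K K'] :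
    ∃ B : Subalgebra A K', Module.Finite A B ∧ IsFractionRing B K' := by
  classical
  obtain ⟨s, b, hb⟩ := FiniteDimensional.exists_is_basis_integral A K K'
  refine ⟨Algebra.adjoin A (Set.range b), ?_, ?_⟩
  · apply Algebra.finite_adjoin_of_finite_of_isIntegral (Set.finite_range b)
    rintro _ ⟨x, rfl⟩
    exact hb x
  · have hbmem : ∀ i, b i ∈ Algebra.adjoin A (Set.range b) :=
      fun i => Algebra.subset_adjoin ⟨i, rfl⟩
    refine ⟨?_, ?_, ?_⟩
    · rintro ⟨y, hy⟩
      rw [isUnit_iff_ne_zero]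
      intro h0
      have : (y : Algebra.adjoin A (Set.range b)) = 0 := Subtype.ext h0
      exact (nonZeroDivisors.ne_zero hy) this
    · intro z
      obtain ⟨a, ha⟩ := IsLocalization.exist_integer_multiples A⁰ Finset.univ
        (fun i => b.repr z i)
      have ha0 : algebraMap A K' (a : A) ≠ 0 := by
        rw [IsScalarTower.algebraMap_apply A K K']
        exact (map_ne_zero _).mpr (IsFractionRing.to_map_ne_zero_of_mem_nonZeroDivisors a.2)
      have hmem : algebraMap A K' (a : A) * z ∈ Algebra.adjoin A (Set.range b) := by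
        have hz : z = ∑ i, b.repr z i • b i := (b.sum_repr z).symm
        rw [hz, Finset.mul_sum]
        refine Subalgebra.sum_mem _ (fun i _ => ?_)
        obtain ⟨d, hd⟩ := ha i (Finset.mem_univ i)
        have h2 : algebraMap A K' (a : A) * (b.repr z i • b i) = algebraMap A K' d * b i := by
          rw [Algebra.smul_def, ← mul_assoc]
          congr 1
          rw [IsScalarTower.algebraMap_apply A K K' (a : A),
            IsScalarTower.algebraMap_apply A K K' d, ← map_mul]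
          congr 1
          rw [hd, Algebra.smul_def]
        rw [h2]
        exact Subalgebra.mul_mem _ (Subalgebra.algebraMap_mem _ d) (hbmem i)
      refine ⟨(⟨_, hmem⟩, ⟨algebraMap A (Algebra.adjoin A (Set.range b)) (a : A), ?_⟩), ?_⟩
      · rw [mem_nonZeroDivisors_iff_ne_zero]
        intro h0
        apply ha0
        have := congrArg (Subtype.val) h0
        exact this
      · change z * algebraMap A K' (a : A) = algebraMap A K' (a : A) * z
        ring
    · intro x y hxy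
      exact ⟨1, by
        simp only [OneMemClass.coe_one, one_mul]
        exact Subtype.ext hxy⟩

end finsub

section smooth'

theorem exists_smooth_away' (A A' L : Type u) [CommRing A] [CommRing A'] [IsDomain A']
    [IsNoetherianRing A] [Algebra A A'] [Algebra.FiniteType A A']
    [Field L] [Algebra A' L] [IsFractionRing A' L] [Algebra A L] [IsScalarTower A A' L]
    [Algebra.FormallySmooth A L] :
    ∃ g : A', g ≠ 0 ∧ Algebra.Smooth A (Localization.Away g) := by
  haveI : Algebra.FinitePresentation A A' := Algebra.FinitePresentation.of_finiteType.mp inferInstance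
  haveI hbot : (⊥ : Ideal A').IsPrime := Ideal.isPrime_bot
  haveI : IsLocalization (⊥ : Ideal A').primeCompl L := by
    rw [Ideal.primeCompl_bot]
    infer_instance
  have e : L ≃ₐ[A'] Localization.AtPrime (⊥ : Ideal A') :=
    IsLocalization.algEquiv (⊥ : Ideal A').primeCompl L (Localization.AtPrime (⊥ : Ideal A'))
  haveI : Algebra.IsSmoothAt A (⊥ : Ideal A') :=
    Algebra.FormallySmooth.of_equiv (e.restrictScalars A)
  obtain ⟨g, hg, hsm⟩ := Algebra.IsSmoothAt.exists_notMem_smooth A (⊥ : Ideal A')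
  exact ⟨g, fun h => hg (by rw [h]; exact Submodule.zero_mem _), hsm⟩

/-- `J0` ascends along finite type injective maps of domains which are smooth at the generic
point -/
theorem j0_of_formallySmooth (A A' L : Type u) [CommRing A] [CommRing A'] [IsDomain A]
    [IsDomain A'] [IsNoetherianRing A] [Algebra A A'] [Algebra.FiniteType A A']
    [Field L] [Algebra A' L] [IsFractionRing A' L] [Algebra A L] [IsScalarTower A A' L]
    [Algebra.FormallySmooth A L] (hinj : Function.Injective (algebraMap A A'))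
    (h : J0 A) : J0 A' := by
  obtain ⟨U, hU, hne, hsub⟩ := h
  obtain ⟨g, hg0, hsm⟩ := exists_smooth_away' A A' L
  refine ⟨(PrimeSpectrum.basicOpen g : Set (PrimeSpectrum A')) ∩
    PrimeSpectrum.comap (algebraMap A A') ⁻¹' U,
    (PrimeSpectrum.basicOpen g).isOpen.inter (hU.preimage (PrimeSpectrum.continuous_comap _)),
    ⟨⟨⊥, Ideal.isPrime_bot⟩, ?_, ?_⟩, ?_⟩
  · change g ∉ (⊥ : Ideal A')
    simpa using hg0
  · have hb := bot_mem_of_isOpen hU hne
    have : PrimeSpectrum.comap (algebraMap A A') ⟨⊥, Ideal.isPrime_bot⟩ =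
        (⟨⊥, Ideal.isPrime_bot⟩ : PrimeSpectrum A) := by
      ext1
      change Ideal.comap (algebraMap A A') ⊥ = ⊥
      rw [← RingHom.ker_eq_comap_bot]
      exact (RingHom.injective_iff_ker_eq_bot _).mp hinj
    rw [Set.mem_preimage, this]
    exact hb
  · rintro q ⟨hq1, hq2⟩
    exact regular_of_smooth_away A A' g q.asIdeal hq1 (hsub hq2)

end smooth'

section Dfacts

attribute [local instance] Algebra.TensorProduct.rightAlgebra

variable (A₀ B K : Type u) [CommRing A₀] [IsDomain A₀] [CommRing B] [IsDomain B] [Algebra A₀ B]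
  [Field K] [Algebra A₀ K] [IsFractionRing A₀ K]

theorem algebraMapSubmonoid_le (hinj : Function.Injective (algebraMap A₀ B)) :
    Algebra.algebraMapSubmonoid B A₀⁰ ≤ B⁰ := by
  rintro x ⟨y, hy, rfl⟩
  rw [mem_nonZeroDivisors_iff_ne_zero]
  intro h0
  exact (nonZeroDivisors.ne_zero hy) (hinj (by rw [h0, map_zero]))

theorem isDomain_tensor_fractionRing (hinj : Function.Injective (algebraMap A₀ B)) :
    IsDomain (K ⊗[A₀] B) := by
  haveI : IsLocalization (Algebra.algebraMapSubmonoid B A₀⁰) (K ⊗[A₀] B) :=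
    IsLocalization.tensorRight _ A₀⁰
  exact IsLocalization.isDomain_of_le_nonZeroDivisors (K ⊗[A₀] B)
    (algebraMapSubmonoid_le A₀ B hinj)

theorem includeRight_injective_fractionRing (hinj : Function.Injective (algebraMap A₀ B)) :
    Function.Injective (Algebra.TensorProduct.includeRight : B →ₐ[A₀] K ⊗[A₀] B) := by
  haveI : IsLocalization (Algebra.algebraMapSubmonoid B A₀⁰) (K ⊗[A₀] B) :=
    IsLocalization.tensorRight _ A₀⁰
  exact IsLocalization.injective (K ⊗[A₀] B) (algebraMapSubmonoid_le A₀ B hinj)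

end Dfacts

section core

variable (A₀ B K K' A' : Type u) [CommRing A₀] [CommRing B] [Algebra A₀ B]
  [Field K] [Algebra A₀ K] [Field K'] [Algebra K K'] [Algebra A₀ K'] [IsScalarTower A₀ K K']
  [CommRing A'] [Algebra A₀ A'] [Algebra A' K'] [IsScalarTower A₀ A' K']

/-- the map `A' ⊗ B → K' ⊗[K] (K ⊗[A₀] B)` -/
noncomputable def Φ₀ : A' ⊗[A₀] B →+* K' ⊗[K] (K ⊗[A₀] B) :=
  ((Algebra.TensorProduct.cancelBaseChange A₀ K K' K' B).symm :
      K' ⊗[A₀] B →+* K' ⊗[K] (K ⊗[A₀] B)).comp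
    (Algebra.TensorProduct.map (IsScalarTower.toAlgHom A₀ A' K') (AlgHom.id A₀ B)).toRingHom

theorem Φ₀_tmul (a' : A') (b : B) :
    Φ₀ A₀ B K K' A' (a' ⊗ₜ b) = (algebraMap A' K' a') ⊗ₜ[K] ((1 : K) ⊗ₜ[A₀] b) := by
  change (Algebra.TensorProduct.cancelBaseChange A₀ K K' K' B).symm
    (Algebra.TensorProduct.map (IsScalarTower.toAlgHom A₀ A' K') (AlgHom.id A₀ B) (a' ⊗ₜ b)) = _
  rw [Algebra.TensorProduct.map_tmul, Algebra.TensorProduct.cancelBaseChange_symm_tmul]
  rfl

/-- the map `A' ⊗ B → (K' ⊗[K] (K ⊗[A₀] B))_red` -/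
noncomputable def Φ : A' ⊗[A₀] B →+*
    (K' ⊗[K] (K ⊗[A₀] B)) ⧸ nilradical (K' ⊗[K] (K ⊗[A₀] B)) :=
  (Ideal.Quotient.mk (nilradical (K' ⊗[K] (K ⊗[A₀] B)))).comp (Φ₀ A₀ B K K' A')

theorem Φ_tmul (a' : A') (b : B) :
    Φ A₀ B K K' A' (a' ⊗ₜ b) = Ideal.Quotient.mk _
      ((algebraMap A' K' a') ⊗ₜ[K] ((1 : K) ⊗ₜ[A₀] b)) := by
  change Ideal.Quotient.mk _ (Φ₀ A₀ B K K' A' (a' ⊗ₜ b)) = _
  rw [Φ₀_tmul]

theorem Φ₀_algebraMap (m : A₀) :
    Φ₀ A₀ B K K' A' (algebraMap A₀ (A' ⊗[A₀] B) m) =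
      (algebraMap A₀ K' m) ⊗ₜ[K] (1 : K ⊗[A₀] B) := by
  rw [Algebra.TensorProduct.algebraMap_apply, Φ₀_tmul, ← IsScalarTower.algebraMap_apply,
    Algebra.TensorProduct.one_def]

omit [CommRing B] [Algebra A₀ B] in
include K K' in
theorem algebraMap_injective_A' [IsDomain A₀] [IsFractionRing A₀ K] :
    Function.Injective (algebraMap A₀ A') := by
  have h1 : Function.Injective (algebraMap A₀ K') := by
    rw [IsScalarTower.algebraMap_eq A₀ K K']
    exact (algebraMap K K').injective.comp (IsFractionRing.injective A₀ K)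
  rw [IsScalarTower.algebraMap_eq A₀ A' K'] at h1
  exact Function.Injective.of_comp h1

theorem exists_mul_eq_Φ₀ [IsDomain A₀] [IsFractionRing A₀ K] [IsDomain A'] [Module.Finite A₀ A']
    [IsFractionRing A' K'] (e : K' ⊗[K] (K ⊗[A₀] B)) :
    ∃ (m : A₀⁰) (t : A' ⊗[A₀] B), Φ₀ A₀ B K K' A' t =
      ((algebraMap A₀ K' m) ⊗ₜ[K] (1 : K ⊗[A₀] B)) * e := by
  have hinjA' := algebraMap_injective_A' A₀ K K' A'
  haveI : FaithfulSMul A₀ A' := (faithfulSMul_iff_algebraMap_injective A₀ A').mpr hinjA'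
  haveI : Algebra.IsIntegral A₀ A' := Algebra.IsIntegral.of_finite A₀ A'
  haveI : Algebra.IsAlgebraic A₀ A' := Algebra.IsIntegral.isAlgebraic
  haveI hloc : IsLocalization (Algebra.algebraMapSubmonoid A' A₀⁰) K' := inferInstance
  have key : ∀ x : K', ∃ (m : A₀⁰) (a' : A'), algebraMap A₀ K' m * x = algebraMap A' K' a' := by
    intro x
    obtain ⟨⟨a', ⟨s, m, hm, rfl⟩⟩, hx⟩ := IsLocalization.surj (Algebra.algebraMapSubmonoid A' A₀⁰) x
    refine ⟨⟨m, hm⟩, a', ?_⟩
    rw [← hx, mul_comm, IsScalarTower.algebraMap_apply A₀ A' K']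
  have hadd : ∀ e₁ e₂ : K' ⊗[K] (K ⊗[A₀] B),
      (∃ (m : A₀⁰) (t : A' ⊗[A₀] B), Φ₀ A₀ B K K' A' t =
        ((algebraMap A₀ K' m) ⊗ₜ[K] (1 : K ⊗[A₀] B)) * e₁) →
      (∃ (m : A₀⁰) (t : A' ⊗[A₀] B), Φ₀ A₀ B K K' A' t =
        ((algebraMap A₀ K' m) ⊗ₜ[K] (1 : K ⊗[A₀] B)) * e₂) →
      ∃ (m : A₀⁰) (t : A' ⊗[A₀] B), Φ₀ A₀ B K K' A' t =
        ((algebraMap A₀ K' m) ⊗ₜ[K] (1 : K ⊗[A₀] B)) * (e₁ + e₂) := by
    rintro e₁ e₂ ⟨m₁, t₁, h₁⟩ ⟨m₂, t₂, h₂⟩
    refine ⟨m₁ * m₂, algebraMap A₀ (A' ⊗[A₀] B) m₂ * t₁ + algebraMap A₀ (A' ⊗[A₀] B) m₁ * t₂, ?_⟩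
    have e3 : (algebraMap A₀ K' ((m₁ * m₂ : A₀⁰) : A₀)) ⊗ₜ[K] (1 : K ⊗[A₀] B) =
        ((algebraMap A₀ K' m₁) ⊗ₜ[K] (1 : K ⊗[A₀] B)) *
          ((algebraMap A₀ K' m₂) ⊗ₜ[K] (1 : K ⊗[A₀] B)) := by
      rw [Algebra.TensorProduct.tmul_mul_tmul, one_mul, Submonoid.coe_mul, map_mul]
    rw [map_add, map_mul, map_mul, h₁, h₂, Φ₀_algebraMap, Φ₀_algebraMap, e3]
    ring
  induction e with
  | zero => exact ⟨1, 0, by simp⟩
  | add e₁ e₂ h₁ h₂ => exact hadd e₁ e₂ h₁ h₂
  | tmul x d =>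
    induction d with
    | zero =>
      refine ⟨1, 0, ?_⟩
      rw [TensorProduct.tmul_zero, mul_zero, map_zero]
    | add d₁ d₂ h₁ h₂ =>
      rw [TensorProduct.tmul_add]
      exact hadd _ _ h₁ h₂
    | tmul y b =>
      obtain ⟨m, a', hma'⟩ := key (y • x)
      refine ⟨m, a' ⊗ₜ b, ?_⟩
      rw [Φ₀_tmul, Algebra.TensorProduct.tmul_mul_tmul, one_mul, ← hma']
      have h1 : (y ⊗ₜ[A₀] b : K ⊗[A₀] B) = y • ((1 : K) ⊗ₜ[A₀] b) := by
        rw [TensorProduct.smul_tmul', smul_eq_mul, mul_one]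
      rw [h1, TensorProduct.tmul_smul, TensorProduct.smul_tmul']
      congr 1
      rw [Algebra.smul_def, Algebra.smul_def]
      ring

end core

section coreAbs

open Groth.Agent.Lib.Helper23

variable (A₀ B A' K' E : Type u) [CommRing A₀] [IsDomain A₀] [IsNoetherianRing A₀]
  [CommRing B] [IsDomain B] [Algebra A₀ B] [Algebra.FiniteType A₀ B]
  [CommRing A'] [IsDomain A'] [Algebra A₀ A'] [Module.Finite A₀ A']
  [Field K'] [Algebra A' K'] [IsFractionRing A' K'] [Algebra A₀ K'] [IsScalarTower A₀ A' K']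
  [CommRing E] [Algebra K' E]

theorem j0_core_abs (φ₀ : A' ⊗[A₀] B →+* E) (hprime : (nilradical E).IsPrime)
    [hgr : Algebra.IsGeometricallyReduced K' (E ⧸ nilradical E)]
    (hφA' : ∀ a' : A', φ₀ (a' ⊗ₜ (1 : B)) = algebraMap K' E (algebraMap A' K' a'))
    (hφB : ∀ b : B, IsNilpotent (φ₀ ((1 : A') ⊗ₜ b)) → b = 0)
    (hsurj : ∀ e : E, ∃ (m : A₀⁰) (t : A' ⊗[A₀] B),
      φ₀ t = algebraMap K' E (algebraMap A₀ K' m) * e)
    (hm0 : ∀ m : A₀⁰, algebraMap A₀ K' (m : A₀) ≠ 0)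
    (hA' : J0 A') : J0 B := by
  classical
  haveI hR''dom : IsDomain (E ⧸ nilradical E) := Ideal.Quotient.isDomain _
  haveI hEnt : Nontrivial E := by
    by_contra h
    rw [not_nontrivial_iff_subsingleton] at h
    exact hprime.ne_top (Ideal.eq_top_iff_one _ |>.mpr (by
      rw [Subsingleton.elim (1 : E) 0]; exact Submodule.zero_mem _))
  set Φ : A' ⊗[A₀] B →+* E ⧸ nilradical E := (Ideal.Quotient.mk (nilradical E)).comp φ₀ with hΦ
  haveI hkerprime : (RingHom.ker Φ).IsPrime := RingHom.ker_isPrime _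
  haveI hB'dom : IsDomain ((A' ⊗[A₀] B) ⧸ RingHom.ker Φ) := Ideal.Quotient.isDomain _
  haveI : IsNoetherianRing A' := Algebra.FiniteType.isNoetherianRing A₀ A'
  haveI : IsNoetherianRing B := Algebra.FiniteType.isNoetherianRing A₀ B
  have hιinj : Function.Injective (RingHom.kerLift Φ) := RingHom.kerLift_injective _
  have hι_mk : ∀ t : A' ⊗[A₀] B, RingHom.kerLift Φ (Ideal.Quotient.mk _ t) = Φ t := fun t => rfl
  have hΦ_apply : ∀ t : A' ⊗[A₀] B, Φ t = Ideal.Quotient.mk (nilradical E) (φ₀ t) := fun t => rfl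
  have hmk_eq_zero : ∀ e : E, Ideal.Quotient.mk (nilradical E) e = 0 ↔ IsNilpotent e := by
    intro e
    rw [Ideal.Quotient.eq_zero_iff_mem, mem_nilradical]
  -- `A' → B'` injective
  have hinjA'B' : Function.Injective
      (algebraMap A' ((A' ⊗[A₀] B) ⧸ RingHom.ker Φ)) := by
    rw [injective_iff_map_eq_zero]
    intro a' ha'
    have h1 : Φ (a' ⊗ₜ (1 : B)) = 0 := by
      rw [← hι_mk]
      have : (Ideal.Quotient.mk (RingHom.ker Φ)) (a' ⊗ₜ[A₀] (1 : B)) =
          algebraMap A' ((A' ⊗[A₀] B) ⧸ RingHom.ker Φ) a' := rfl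
      rw [this, ha', map_zero]
    rw [hΦ_apply, hφA', hmk_eq_zero] at h1
    have h3 : IsNilpotent (algebraMap A' K' a') :=
      (IsNilpotent.map_iff (algebraMap K' E).injective).mp h1
    exact IsFractionRing.injective A' K' (by rw [h3.eq_zero, map_zero])
  -- `B → B'`
  letI algBB' : Algebra B ((A' ⊗[A₀] B) ⧸ RingHom.ker Φ) :=
    ((Ideal.Quotient.mk (RingHom.ker Φ)).comp
      (Algebra.TensorProduct.includeRight : B →ₐ[A₀] A' ⊗[A₀] B).toRingHom).toAlgebra
  have hinjBB' : Function.Injective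
      (algebraMap B ((A' ⊗[A₀] B) ⧸ RingHom.ker Φ)) := by
    rw [injective_iff_map_eq_zero]
    intro b hb
    have h1 : Φ ((1 : A') ⊗ₜ b) = 0 := by
      rw [← hι_mk]
      have : (Ideal.Quotient.mk (RingHom.ker Φ)) ((1 : A') ⊗ₜ[A₀] b) =
          algebraMap B ((A' ⊗[A₀] B) ⧸ RingHom.ker Φ) b := rfl
      rw [this, hb, map_zero]
    rw [hΦ_apply, hmk_eq_zero] at h1
    exact hφB b h1
  -- finiteness
  haveI hftA'B' : Algebra.FiniteType A' ((A' ⊗[A₀] B) ⧸ RingHom.ker Φ) :=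
    Algebra.FiniteType.of_surjective
      (Ideal.Quotient.mkₐ A' (RingHom.ker Φ))
      (Ideal.Quotient.mkₐ_surjective A' _)
  let fB : B ⊗[A₀] A' →ₐ[B] ((A' ⊗[A₀] B) ⧸ RingHom.ker Φ) :=
    { toRingHom := (Ideal.Quotient.mk (RingHom.ker Φ)).comp
        (Algebra.TensorProduct.comm A₀ B A').toAlgHom.toRingHom
      commutes' := by
        intro b
        rfl }
  have hfBsurj : Function.Surjective fB := by
    intro x
    obtain ⟨t, rfl⟩ := Ideal.Quotient.mk_surjective x
    exact ⟨(Algebra.TensorProduct.comm A₀ B A').symm t, by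
      change Ideal.Quotient.mk _ ((Algebra.TensorProduct.comm A₀ B A')
        ((Algebra.TensorProduct.comm A₀ B A').symm t)) = _
      rw [AlgEquiv.apply_symm_apply]⟩
  haveI hfinBB' : Module.Finite B ((A' ⊗[A₀] B) ⧸ RingHom.ker Φ) :=
    Module.Finite.of_surjective fB.toLinearMap hfBsurj
  -- `R''` is a localization of `B'`
  letI algB'R : Algebra ((A' ⊗[A₀] B) ⧸ RingHom.ker Φ) (E ⧸ nilradical E) :=
    (RingHom.kerLift Φ).toAlgebra
  have hΦalg : ∀ m : A₀, Φ (algebraMap A₀ (A' ⊗[A₀] B) m) =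
      algebraMap K' (E ⧸ nilradical E) (algebraMap A₀ K' m) := by
    intro m
    rw [hΦ_apply, Algebra.TensorProduct.algebraMap_apply, hφA',
      ← IsScalarTower.algebraMap_apply A₀ A' K' m]
    rfl
  haveI hlocR : IsLocalization
      (Algebra.algebraMapSubmonoid ((A' ⊗[A₀] B) ⧸ RingHom.ker Φ) A₀⁰)
      (E ⧸ nilradical E) :=
    { map_units := by
        rintro ⟨_, m, hm, rfl⟩
        change IsUnit (RingHom.kerLift Φ
          (Ideal.Quotient.mk _ (algebraMap A₀ (A' ⊗[A₀] B) m)))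
        rw [hι_mk, hΦalg]
        apply IsUnit.map
        rw [isUnit_iff_ne_zero]
        exact hm0 ⟨m, hm⟩
      surj := by
        intro r
        obtain ⟨e, rfl⟩ := Ideal.Quotient.mk_surjective r
        obtain ⟨m, t, ht⟩ := hsurj e
        refine ⟨(Ideal.Quotient.mk _ t, ⟨algebraMap A₀ _ (m : A₀), ⟨m, m.2, rfl⟩⟩), ?_⟩
        change _ * RingHom.kerLift Φ
          (Ideal.Quotient.mk _ (algebraMap A₀ (A' ⊗[A₀] B) m)) =
          RingHom.kerLift Φ (Ideal.Quotient.mk _ t)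
        rw [hι_mk, hι_mk, hΦalg, hΦ_apply, ht, map_mul]
        exact mul_comm (Ideal.Quotient.mk (nilradical E) e) _
      exists_of_eq := by
        intro x y hxy
        exact ⟨1, by rw [hιinj hxy]⟩ }
  -- the fraction field `L'` of `R''` is a fraction field of `B'`
  have hloc2 := IsLocalization.localization_localization_isLocalization_of_has_all_units
    (Algebra.algebraMapSubmonoid ((A' ⊗[A₀] B) ⧸ RingHom.ker Φ) A₀⁰)
    (nonZeroDivisors (E ⧸ nilradical E)) (FractionRing (E ⧸ nilradical E))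
    (fun x hx => hx.mem_nonZeroDivisors)
  have hcomap : (nonZeroDivisors (E ⧸ nilradical E)).comap
      (algebraMap ((A' ⊗[A₀] B) ⧸ RingHom.ker Φ) (E ⧸ nilradical E)) =
      nonZeroDivisors ((A' ⊗[A₀] B) ⧸ RingHom.ker Φ) := by
    ext x
    rw [Submonoid.mem_comap, mem_nonZeroDivisors_iff_ne_zero, mem_nonZeroDivisors_iff_ne_zero]
    exact map_ne_zero_iff _ hιinj
  rw [hcomap] at hloc2
  haveI hfracB' : IsFractionRing ((A' ⊗[A₀] B) ⧸ RingHom.ker Φ)
      (FractionRing (E ⧸ nilradical E)) := hloc2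
  -- `L'` over `K'`
  haveI hgrL : Algebra.IsGeometricallyReduced K' (FractionRing (E ⧸ nilradical E)) :=
    isGeometricallyReduced_of_isLocalization K' (E ⧸ nilradical E)
      (FractionRing (E ⧸ nilradical E)) (nonZeroDivisors (E ⧸ nilradical E))
      (IsFractionRing.injective _ _)
  haveI hfsK'L : Algebra.FormallySmooth K' (FractionRing (E ⧸ nilradical E)) :=
    (FieldSep.formallySmooth_iff_isGeometricallyReduced K' _).mpr hgrL
  -- `L'` over `A'`
  letI algA'L : Algebra A' (FractionRing (E ⧸ nilradical E)) :=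
    ((algebraMap ((A' ⊗[A₀] B) ⧸ RingHom.ker Φ) (FractionRing (E ⧸ nilradical E))).comp
      (algebraMap A' ((A' ⊗[A₀] B) ⧸ RingHom.ker Φ))).toAlgebra
  haveI towA'B'L : IsScalarTower A' ((A' ⊗[A₀] B) ⧸ RingHom.ker Φ)
      (FractionRing (E ⧸ nilradical E)) :=
    @IsScalarTower.of_algebraMap_eq A' ((A' ⊗[A₀] B) ⧸ RingHom.ker Φ)
      (FractionRing (E ⧸ nilradical E)) _ _ _ _ _ _ (fun _ => rfl)
  haveI towA'K'L : IsScalarTower A' K' (FractionRing (E ⧸ nilradical E)) := by
    refine IsScalarTower.of_algebraMap_eq (fun a' => ?_)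
    change algebraMap ((A' ⊗[A₀] B) ⧸ RingHom.ker Φ) (FractionRing (E ⧸ nilradical E))
      (algebraMap A' ((A' ⊗[A₀] B) ⧸ RingHom.ker Φ) a') = _
    rw [IsScalarTower.algebraMap_apply ((A' ⊗[A₀] B) ⧸ RingHom.ker Φ) (E ⧸ nilradical E)
      (FractionRing (E ⧸ nilradical E)),
      IsScalarTower.algebraMap_apply K' (E ⧸ nilradical E) (FractionRing (E ⧸ nilradical E))]
    congr 1
    change Φ (a' ⊗ₜ (1 : B)) = _
    rw [hΦ_apply, hφA']
    rfl
  haveI : Algebra.FormallySmooth A' K' :=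
    Algebra.FormallySmooth.of_isLocalization (nonZeroDivisors A')
  haveI : Algebra.FormallySmooth A' (FractionRing (E ⧸ nilradical E)) :=
    Algebra.FormallySmooth.comp A' K' _
  have hJ0B' : J0 ((A' ⊗[A₀] B) ⧸ RingHom.ker Φ) :=
    j0_of_formallySmooth A' ((A' ⊗[A₀] B) ⧸ RingHom.ker Φ)
      (FractionRing (E ⧸ nilradical E)) hinjA'B' hA'
  exact j0_of_finiteType_injective B ((A' ⊗[A₀] B) ⧸ RingHom.ker Φ) hinjBB' hJ0B'

end coreAbs

section coreConc

variable (A₀ B K K' A' : Type u) [CommRing A₀] [CommRing B] [Algebra A₀ B]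
  [Field K] [Algebra A₀ K] [Field K'] [Algebra K K'] [Algebra A₀ K'] [IsScalarTower A₀ K K']
  [CommRing A'] [Algebra A₀ A'] [Algebra A' K'] [IsScalarTower A₀ A' K']

theorem j0_core [IsDomain A₀] [IsNoetherianRing A₀] [IsDomain B] [Algebra.FiniteType A₀ B]
    [IsFractionRing A₀ K] [IsPurelyInseparable K K'] [IsDomain A'] [Module.Finite A₀ A']
    [IsFractionRing A' K'] (hinj : Function.Injective (algebraMap A₀ B))
    [hgr : Algebra.IsGeometricallyReduced K'
      ((K' ⊗[K] (K ⊗[A₀] B)) ⧸ nilradical (K' ⊗[K] (K ⊗[A₀] B)))]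
    (hA' : J0 A') : J0 B := by
  haveI hD : IsDomain (K ⊗[A₀] B) := isDomain_tensor_fractionRing A₀ B K hinj
  have hprime := isPrime_nilradical_tensor K K' (K ⊗[A₀] B)
  have hinjD : Function.Injective
      (Algebra.TensorProduct.includeRight : (K ⊗[A₀] B) →ₐ[K] K' ⊗[K] (K ⊗[A₀] B)) :=
    Algebra.TensorProduct.includeRight_injective (algebraMap K K').injective
  have hinjB : Function.Injective
      (Algebra.TensorProduct.includeRight : B →ₐ[A₀] K ⊗[A₀] B) :=
    includeRight_injective_fractionRing A₀ B K hinj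
  refine j0_core_abs A₀ B A' K' (K' ⊗[K] (K ⊗[A₀] B)) (Φ₀ A₀ B K K' A') hprime ?_ ?_ ?_ ?_ hA'
  · intro a'
    rw [Φ₀_tmul, Algebra.TensorProduct.algebraMap_apply, Algebra.TensorProduct.one_def]
    rfl
  · intro b hb
    rw [Φ₀_tmul, map_one] at hb
    have h2 : IsNilpotent ((1 : K) ⊗ₜ[A₀] b : K ⊗[A₀] B) := (IsNilpotent.map_iff hinjD).mp hb
    have h3 : IsNilpotent b := (IsNilpotent.map_iff hinjB).mp h2
    exact h3.eq_zero
  · intro e
    obtain ⟨m, t, ht⟩ := exists_mul_eq_Φ₀ A₀ B K K' A' e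
    refine ⟨m, t, ?_⟩
    rw [ht, Algebra.TensorProduct.algebraMap_apply]
    rfl
  · intro m
    rw [IsScalarTower.algebraMap_apply A₀ K K']
    exact (map_ne_zero _).mpr (IsFractionRing.to_map_ne_zero_of_mem_nonZeroDivisors m.2)

end coreConc

section top

/-- If every finite `A₀`-algebra which is a domain is `J0`, then every domain of finite type over
`A₀` containing `A₀` is `J0`. -/
theorem j0_of_forall_finite (A₀ B : Type u) [CommRing A₀] [IsDomain A₀] [IsNoetherianRing A₀]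
    [CommRing B] [IsDomain B] [Algebra A₀ B] [Algebra.FiniteType A₀ B]
    (hinj : Function.Injective (algebraMap A₀ B))
    (H₀ : ∀ (A' : Type u) [CommRing A'] [IsDomain A'] [Algebra A₀ A'],
      Module.Finite A₀ A' → J0 A') : J0 B := by
  classical
  obtain ⟨K', instF, instA, hfin, hpi, hgr⟩ :=
    PISep.exists_finite_purelyInseparable (FractionRing A₀) ((FractionRing A₀) ⊗[A₀] B)
  letI : Algebra A₀ K' :=
    ((algebraMap (FractionRing A₀) K').comp (algebraMap A₀ (FractionRing A₀))).toAlgebra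
  haveI : IsScalarTower A₀ (FractionRing A₀) K' := IsScalarTower.of_algebraMap_eq (fun _ => rfl)
  obtain ⟨A', hA'fin, hA'frac⟩ :=
    exists_finite_subalgebra_isFractionRing' A₀ (FractionRing A₀) K'
  exact j0_core A₀ B (FractionRing A₀) K' A' hinj (H₀ A' hA'fin)

theorem bot_mem_regLocus (A' : Type u) [CommRing A'] [IsDomain A'] :
    (⟨⊥, Ideal.isPrime_bot⟩ : PrimeSpectrum A') ∈ EGA4.regLocus A' := by
  haveI : (⊥ : Ideal A').IsPrime := Ideal.isPrime_bot
  haveI : IsLocalization (⊥ : Ideal A').primeCompl (FractionRing A') := by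
    rw [Ideal.primeCompl_bot]
    infer_instance
  change IsRegularLocalRing (Localization.AtPrime (⊥ : Ideal A'))
  exact IsRegularLocalRing.of_ringEquiv (IsLocalization.algEquiv (⊥ : Ideal A').primeCompl
    (FractionRing A') (Localization.AtPrime (⊥ : Ideal A'))).toRingEquiv

/-- **EGA IV 6.12.4 / Matsumura Thm 73**: a Noetherian ring is J-2 iff every finite algebra over
it which is a domain is J-0. -/
theorem isJ2_iff (A : Type u) [CommRing A] [IsNoetherianRing A] :
    EGA4.IsJ2 A ↔ ∀ (A' : Type u) [CommRing A'] [IsDomain A'] [Algebra A A'],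
      Module.Finite A A' → J0 A' := by
  constructor
  · intro h A' _ _ _ hfin
    haveI : Algebra.FiniteType A A' := inferInstance
    exact ⟨EGA4.regLocus A', h A' inferInstance, ⟨_, bot_mem_regLocus A'⟩, subset_rfl⟩
  · intro H S _ _ hft
    haveI : IsNoetherianRing S := Algebra.FiniteType.isNoetherianRing A S
    apply isOpen_regLocus_of_forall_j0
    intro q _
    haveI hkp : (RingHom.ker (algebraMap A (S ⧸ q))).IsPrime := RingHom.ker_isPrime _
    letI : Algebra (A ⧸ RingHom.ker (algebraMap A (S ⧸ q))) (S ⧸ q) :=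
      (RingHom.kerLift (algebraMap A (S ⧸ q))).toAlgebra
    haveI : IsScalarTower A (A ⧸ RingHom.ker (algebraMap A (S ⧸ q))) (S ⧸ q) :=
      IsScalarTower.of_algebraMap_eq (fun _ => rfl)
    haveI : Algebra.FiniteType A (S ⧸ q) := inferInstance
    haveI : Algebra.FiniteType (A ⧸ RingHom.ker (algebraMap A (S ⧸ q))) (S ⧸ q) :=
      Algebra.FiniteType.of_restrictScalars_finiteType A _ _
    have hinj : Function.Injective
        (algebraMap (A ⧸ RingHom.ker (algebraMap A (S ⧸ q))) (S ⧸ q)) :=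
      RingHom.kerLift_injective _
    apply j0_of_forall_finite (A ⧸ RingHom.ker (algebraMap A (S ⧸ q))) (S ⧸ q) hinj
    intro A' _ _ _ hfin
    letI : Algebra A A' := ((algebraMap (A ⧸ RingHom.ker (algebraMap A (S ⧸ q))) A').comp
      (algebraMap A (A ⧸ RingHom.ker (algebraMap A (S ⧸ q))))).toAlgebra
    haveI : IsScalarTower A (A ⧸ RingHom.ker (algebraMap A (S ⧸ q))) A' :=
      IsScalarTower.of_algebraMap_eq (fun _ => rfl)
    exact H A' (Module.Finite.trans (A ⧸ RingHom.ker (algebraMap A (S ⧸ q))) A')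

end top

end Groth.Agent.Lib.Helper18.J2
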