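import Mathlib
import Groth.Prelude.Def_CAlg
import Groth.Prelude.Def_EGA4b
import Groth.Agent.Lib.Helper18.J2e

set_option autoImplicit false
set_option linter.style.haveILetI false
set_option linter.unusedSectionVars false
universe u

open IsLocalRing TensorProduct nonZeroDivisors

namespace Groth.Agent.Lib.Helper18.J2

section fields

/-- a field is `J0` -/
theorem j0_of_isField (A' : Type u) [CommRing A'] [IsDomain A'] (h : IsField A') : J0 A' := by
  refine ⟨Set.univ, isOpen_univ, ⟨⟨⊥, Ideal.isPrime_bot⟩, trivial⟩, ?_⟩
  intro q _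
  letI := h.toField
  have hq : q.asIdeal = ⊥ := (Ideal.eq_bot_or_top q.asIdeal).resolve_right q.isPrime.ne_top
  have : q = ⟨⊥, Ideal.isPrime_bot⟩ := PrimeSpectrum.ext hq
  rw [this]
  exact bot_mem_regLocus A'

/-- a domain finite over a field is `J0` -/
theorem j0_of_finite_field (k A' : Type u) [Field k] [CommRing A'] [IsDomain A'] [Algebra k A']
    [Module.Finite k A'] : J0 A' := by
  haveI : IsArtinianRing A' := IsArtinianRing.of_finite k A'
  exact j0_of_isField A' (IsArtinianRing.isField_of_isDomain A')

theorem isJ2_field (k : Type u) [Field k] : EGA4.IsJ2 k := by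
  rw [isJ2_iff]
  intro A' _ _ _ hfin
  exact j0_of_finite_field k A'

end fields

section dedekind

open Groth.Agent.Lib.Helper23

attribute [local instance] FractionRing.liftAlgebra

/-- a regular ring is `J0` -/
theorem j0_of_isRegularRing (A : Type u) [CommRing A] [IsDomain A] [IsRegularRing A] : J0 A :=
  ⟨Set.univ, isOpen_univ, ⟨⟨⊥, Ideal.isPrime_bot⟩, trivial⟩,
    fun q _ => IsRegularRing.isRegularLocalRing_localization q.asIdeal⟩

theorem isJ2_dedekind (A : Type u) [CommRing A] [IsDedekindDomain A] [CharZero A] :
    EGA4.IsJ2 A := by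
  rw [isJ2_iff]
  intro A' _ _ _ hfin
  by_cases hker : RingHom.ker (algebraMap A A') = ⊥
  · -- injective case: separable fraction field extension
    have hinj : Function.Injective (algebraMap A A') :=
      (RingHom.injective_iff_ker_eq_bot _).mpr hker
    haveI : FaithfulSMul A A' := (faithfulSMul_iff_algebraMap_injective A A').mpr hinj
    haveI : FaithfulSMul A (FractionRing A') := by
      rw [faithfulSMul_iff_algebraMap_injective, IsScalarTower.algebraMap_eq A A' (FractionRing A')]
      exact (IsFractionRing.injective A' (FractionRing A')).comp hinj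
    haveI : CharZero (FractionRing A) :=
      charZero_of_injective_algebraMap (IsFractionRing.injective A (FractionRing A))
    haveI : Algebra.IsGeometricallyReduced (FractionRing A) (FractionRing A') :=
      FieldSep.isGeometricallyReduced_of_charZero _ _
    haveI : Algebra.FiniteType A A' := inferInstance
    exact j0_of_separable A A' (FractionRing A) (FractionRing A') hinj (j0_of_isRegularRing A)
  · -- the image is a field
    haveI hkp : (RingHom.ker (algebraMap A A')).IsPrime := RingHom.ker_isPrime _
    haveI hmax : (RingHom.ker (algebraMap A A')).IsMaximal := hkp.isMaximal hker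
    letI : Field (A ⧸ RingHom.ker (algebraMap A A')) := Ideal.Quotient.field _
    letI : Algebra (A ⧸ RingHom.ker (algebraMap A A')) A' :=
      (RingHom.kerLift (algebraMap A A')).toAlgebra
    haveI : IsScalarTower A (A ⧸ RingHom.ker (algebraMap A A')) A' :=
      IsScalarTower.of_algebraMap_eq (fun _ => rfl)
    haveI : Module.Finite (A ⧸ RingHom.ker (algebraMap A A')) A' :=
      Module.Finite.of_restrictScalars_finite A _ _
    exact j0_of_finite_field (A ⧸ RingHom.ker (algebraMap A A')) A'

end dedekind

section semilocal

/-- a domain with finite spectrum is `J0` -/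
theorem j0_of_finite_spectrum (A' : Type u) [CommRing A'] [IsDomain A']
    [Finite (PrimeSpectrum A')] : J0 A' := by
  classical
  refine ⟨{⟨⊥, Ideal.isPrime_bot⟩}, ?_, Set.singleton_nonempty _, ?_⟩
  · -- the complement is a finite union of closed sets `V(q)`, `q ≠ ⊥`
    rw [← isClosed_compl_iff]
    have : ({⟨⊥, Ideal.isPrime_bot⟩} : Set (PrimeSpectrum A'))ᶜ =
        ⋃ q ∈ {q : PrimeSpectrum A' | q.asIdeal ≠ ⊥},
          PrimeSpectrum.zeroLocus (q.asIdeal : Set A') := by
      ext x
      simp only [Set.mem_compl_iff, Set.mem_singleton_iff, Set.mem_iUnion, Set.mem_ofPred_eq,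
        PrimeSpectrum.mem_zeroLocus, SetLike.coe_subset_coe, exists_prop]
      constructor
      · intro hx
        refine ⟨x, fun h => hx (PrimeSpectrum.ext h), le_rfl⟩
      · rintro ⟨q, hq, hqx⟩ hx
        apply hq
        rw [hx] at hqx
        exact le_bot_iff.mp hqx
    rw [this]
    exact Set.Finite.isClosed_biUnion (Set.toFinite _)
      (fun q _ => PrimeSpectrum.isClosed_zeroLocus _)
  · rintro q hq
    rw [Set.mem_singleton_iff] at hq
    rw [hq]
    exact bot_mem_regLocus A'

theorem finite_primeSpectrum_of_semilocal (A : Type u) [CommRing A] [IsNoetherianRing A]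
    (hsl : {I : Ideal A | I.IsMaximal}.Finite) (hdim : ringKrullDim A ≤ 1) :
    Finite (PrimeSpectrum A) := by
  have hmin : (minimalPrimes A).Finite := minimalPrimes.finite_of_isNoetherianRing A
  have hsub : {p : Ideal A | p.IsPrime} ⊆ minimalPrimes A ∪ {I : Ideal A | I.IsMaximal} := by
    intro p hp
    haveI : p.IsPrime := hp
    by_cases hmax : p.IsMaximal
    · exact Or.inr hmax
    · left
      obtain ⟨m, hm, hpm⟩ := Ideal.exists_le_maximal p hp.ne_top
      have hlt : p < m := lt_of_le_of_ne hpm (fun h => hmax (h ▸ hm))
      haveI : m.IsPrime := hm.isPrime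
      have h1 : p.height + 1 ≤ m.height := Ideal.height_add_one_le_of_lt_of_isPrime hlt
      have h2 : (m.height : WithBot ℕ∞) ≤ 1 :=
        (Ideal.height_le_ringKrullDim_of_isPrime).trans hdim
      have h3 : m.height ≤ 1 := by exact_mod_cast h2
      have h4 : p.height = 0 := by
        have h5 : p.height + 1 ≤ 1 := h1.trans h3
        have h6 : p.height + 1 ≤ 0 + 1 := by simpa using h5
        exact le_antisymm ((ENat.add_le_add_iff_right ENat.one_ne_top).mp h6) zero_le
      exact Ideal.height_eq_zero_iff.mp h4
  have hfin : {p : Ideal A | p.IsPrime}.Finite := (hmin.union hsl).subset hsub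
  have : Finite {p : Ideal A // p.IsPrime} := hfin.to_subtype
  exact Finite.of_injective (fun q : PrimeSpectrum A => (⟨q.asIdeal, q.isPrime⟩ :
    {p : Ideal A // p.IsPrime})) (fun q₁ q₂ h => PrimeSpectrum.ext (congrArg Subtype.val h))

theorem isJ2_semilocal (A : Type u) [CommRing A] [IsNoetherianRing A]
    (hsl : {I : Ideal A | I.IsMaximal}.Finite) (hdim : ringKrullDim A ≤ 1) : EGA4.IsJ2 A := by
  rw [isJ2_iff]
  intro A' _ _ _ hfin
  haveI := finite_primeSpectrum_of_semilocal A hsl hdim
  haveI : Finite (PrimeSpectrum A') := by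
    have h := Algebra.QuasiFinite.finite_comap_preimage (R := A) (S := A')
      (s := Set.univ) Set.finite_univ
    rw [Set.preimage_univ] at h
    exact Set.finite_univ_iff.mp h
  exact j0_of_finite_spectrum A'

end semilocal

end Groth.Agent.Lib.Helper18.J2
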