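import Mathlib
import Groth.Prelude.Def_CAlg
import Groth.Prelude.Def_EGA4b
import Groth.Agent.Lib.Helper18.J2f

set_option autoImplicit false
set_option linter.style.haveILetI false
set_option linter.unusedSectionVars false
universe u

open IsLocalRing TensorProduct nonZeroDivisors

namespace Groth.Agent.Lib.Helper18.J2

section dimone

attribute [local instance] FractionRing.liftAlgebra

/-- Over an N-2 Noetherian domain of dimension `≤ 1`, finite domain extensions are `J0`. -/
theorem j0_of_isN2_dimLEOne (R₀ A' : Type u) [CommRing R₀] [IsDomain R₀] [IsNoetherianRing R₀]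
    [Ring.DimensionLEOne R₀] (hN2 : CAlg.IsN2 R₀) [CommRing A'] [IsDomain A'] [Algebra R₀ A']
    [Module.Finite R₀ A'] (hinj : Function.Injective (algebraMap R₀ A')) : J0 A' := by
  haveI : FaithfulSMul R₀ A' := (faithfulSMul_iff_algebraMap_injective R₀ A').mpr hinj
  haveI : FaithfulSMul R₀ (FractionRing A') := by
    rw [faithfulSMul_iff_algebraMap_injective, IsScalarTower.algebraMap_eq R₀ A' (FractionRing A')]
    exact (IsFractionRing.injective A' (FractionRing A')).comp hinj
  haveI : Algebra.IsIntegral R₀ A' := Algebra.IsIntegral.of_finite R₀ A'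
  haveI : Algebra.IsAlgebraic R₀ A' := inferInstance
  haveI : IsNoetherianRing A' := Algebra.FiniteType.isNoetherianRing R₀ A'
  haveI hfd : FiniteDimensional (FractionRing R₀) (FractionRing A') :=
    Module.Finite.of_isLocalization R₀ A' R₀⁰
  have hN : Module.Finite R₀ (integralClosure R₀ (FractionRing A')) :=
    hN2 (FractionRing A') hfd
  -- the normalization
  haveI : IsNoetherianRing (integralClosure R₀ (FractionRing A')) :=
    Algebra.FiniteType.isNoetherianRing R₀ _
  haveI : IsIntegrallyClosed (integralClosure R₀ (FractionRing A')) :=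
    integralClosure.isIntegrallyClosedOfFiniteExtension (FractionRing R₀)
  haveI : Ring.DimensionLEOne (integralClosure R₀ (FractionRing A')) := inferInstance
  haveI : IsDedekindDomain (integralClosure R₀ (FractionRing A')) := { }
  have hJ : J0 (integralClosure R₀ (FractionRing A')) := j0_of_isRegularRing _
  -- the map `A' → N`
  have hmem : ∀ a : A', algebraMap A' (FractionRing A') a ∈ integralClosure R₀ (FractionRing A') := by
    intro a
    exact (Algebra.IsIntegral.isIntegral (R := R₀) a).map
      (IsScalarTower.toAlgHom R₀ A' (FractionRing A'))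
  letI : Algebra A' (integralClosure R₀ (FractionRing A')) :=
    ((algebraMap A' (FractionRing A')).codRestrict (integralClosure R₀ (FractionRing A')) hmem).toAlgebra
  haveI : IsScalarTower R₀ A' (integralClosure R₀ (FractionRing A')) :=
    IsScalarTower.of_algebraMap_eq (fun x => by
      apply Subtype.ext
      change _ = algebraMap A' (FractionRing A') (algebraMap R₀ A' x)
      rw [← IsScalarTower.algebraMap_apply]
      rfl)
  haveI : Algebra.FiniteType A' (integralClosure R₀ (FractionRing A')) :=
    Algebra.FiniteType.of_restrictScalars_finiteType R₀ A' _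
  refine j0_of_finiteType_injective A' (integralClosure R₀ (FractionRing A')) ?_ hJ
  intro a b hab
  have := congrArg Subtype.val hab
  exact IsFractionRing.injective A' (FractionRing A') this

/-- `R/p` has dimension `≤ 1` when `R` does. -/
theorem dimensionLEOne_quotient (R : Type u) [CommRing R] (hdim : ringKrullDim R ≤ 1)
    (p : Ideal R) [p.IsPrime] : Ring.DimensionLEOne (R ⧸ p) := by
  have h1 : ringKrullDim (R ⧸ p) ≤ 1 := (ringKrullDim_quotient_le p).trans hdim
  haveI : Ring.KrullDimLE 1 (R ⧸ p) := (Ring.krullDimLE_iff (n := 1)).mpr h1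
  refine ⟨fun {q} hq hqp => ?_⟩
  exact (Ring.krullDimLE_one_iff_of_noZeroDivisors.mp inferInstance) q hq hqp

theorem isJ2_of_isNagata_of_dim_le_one (R : Type u) [CommRing R] (hR : CAlg.IsNagata R)
    (hdim : ringKrullDim R ≤ 1) : EGA4.IsJ2 R := by
  haveI := hR.1
  rw [isJ2_iff]
  intro A' _ _ _ hfin
  haveI hkp : (RingHom.ker (algebraMap R A')).IsPrime := RingHom.ker_isPrime _
  letI : Algebra (R ⧸ RingHom.ker (algebraMap R A')) A' :=
    (RingHom.kerLift (algebraMap R A')).toAlgebra
  haveI : IsScalarTower R (R ⧸ RingHom.ker (algebraMap R A')) A' :=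
    IsScalarTower.of_algebraMap_eq (fun _ => rfl)
  haveI : Module.Finite (R ⧸ RingHom.ker (algebraMap R A')) A' :=
    Module.Finite.of_restrictScalars_finite R _ _
  haveI := dimensionLEOne_quotient R hdim (RingHom.ker (algebraMap R A'))
  exact j0_of_isN2_dimLEOne (R ⧸ RingHom.ker (algebraMap R A')) A'
    (hR.2 (RingHom.ker (algebraMap R A'))) (RingHom.kerLift_injective _)

end dimone

end Groth.Agent.Lib.Helper18.J2
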