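import Mathlib
import Groth.Prelude.Def_CAlg
import Groth.Prelude.Def_EGA4b
import Groth.Agent.Lib.Helper18.J2h

set_option autoImplicit false
set_option linter.style.haveILetI false
set_option linter.unusedSectionVars false
set_option linter.overlappingInstances false
universe u

open IsLocalRing TensorProduct nonZeroDivisors

namespace Groth.Agent.Lib.Helper18.J2

section coreAbsGen

open Groth.Agent.Lib.Helper23

variable (A₀ B A' K' E : Type u) [CommRing A₀] [IsDomain A₀] [IsNoetherianRing A₀]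
  [CommRing B] [IsDomain B] [Algebra A₀ B] [Algebra.FiniteType A₀ B]
  [CommRing A'] [IsDomain A'] [Algebra A₀ A'] [Module.Finite A₀ A']
  [Field K'] [Algebra A' K'] [IsFractionRing A' K'] [Algebra A₀ K'] [IsScalarTower A₀ A' K']
  [CommRing E] [Algebra K' E]

theorem core_abs_gen (P : ∀ (R : Type u) [CommRing R], Prop)
    (hsm : ∀ (A A' L : Type u) [CommRing A] [CommRing A'] [IsDomain A] [IsDomain A']
      [IsNoetherianRing A] [Algebra A A'] [Algebra.FiniteType A A'] [Field L] [Algebra A' L]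
      [IsFractionRing A' L] [Algebra A L] [IsScalarTower A A' L] [Algebra.FormallySmooth A L],
      Function.Injective (algebraMap A A') → P A → P A')
    (hdesc : ∀ (R S : Type u) [CommRing R] [IsDomain R] [IsNoetherianRing R] [CommRing S]
      [IsDomain S] [Algebra R S] [Algebra.FiniteType R S],
      Function.Injective (algebraMap R S) → P S → P R)
    (φ₀ : A' ⊗[A₀] B →+* E) (hprime : (nilradical E).IsPrime)
    [hgr : Algebra.IsGeometricallyReduced K' (E ⧸ nilradical E)]
    (hφA' : ∀ a' : A', φ₀ (a' ⊗ₜ (1 : B)) = algebraMap K' E (algebraMap A' K' a'))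
    (hφB : ∀ b : B, IsNilpotent (φ₀ ((1 : A') ⊗ₜ b)) → b = 0)
    (hsurj : ∀ e : E, ∃ (m : A₀⁰) (t : A' ⊗[A₀] B),
      φ₀ t = algebraMap K' E (algebraMap A₀ K' m) * e)
    (hm0 : ∀ m : A₀⁰, algebraMap A₀ K' (m : A₀) ≠ 0)
    (hA' : P A') : P B := by
  classical
  haveI hR''dom : IsDomain (E ⧸ nilradical E) := Ideal.Quotient.isDomain _
  haveI hEnt : Nontrivial E := by
    by_contra h
    rw [not_nontrivial_iff_subsingleton] at h
    exact hprime.ne_top (Ideal.eq_top_iff_one _ |>.mpr (by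
      rw [Subsingleton.elim (1 : E) 0]; exact Submodule.zero_mem _))
  set Φ : A' ⊗[A₀] B →+* E ⧸ nilradical E := (Ideal.Quotient.mk (nilradical E)).comp φ₀ with hΦ
  haveI hkerprime : (RingHom.ker Φ).IsPrime := RingHom.ker_isPrime _
  haveI hB'dom : IsDomain ((A' ⊗[A₀] B) ⧸ RingHom.ker Φ) := Ideal.Quotient.isDomain _
  haveI : IsNoetherianRing A' := Algebra.FiniteType.isNoetherianRing A₀ A'
  haveI : IsNoetherianRing B := Algebra.FiniteType.isNoetherianRing A₀ B
  have hιinj : Function.Injective (RingHom.kerLift Φ) := RingHom.kerLift_injective _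
  have hι_mk : ∀ t : A' ⊗[A₀] B, RingHom.kerLift Φ (Ideal.Quotient.mk _ t) = Φ t := fun t => rfl
  have hΦ_apply : ∀ t : A' ⊗[A₀] B, Φ t = Ideal.Quotient.mk (nilradical E) (φ₀ t) := fun t => rfl
  have hmk_eq_zero : ∀ e : E, Ideal.Quotient.mk (nilradical E) e = 0 ↔ IsNilpotent e := by
    intro e
    rw [Ideal.Quotient.eq_zero_iff_mem, mem_nilradical]
  -- `A' → B'` injective
  have hinjA'B' : Function.Injective
      (algebraMap A' ((A' ⊗[A₀] B) ⧸ RingHom.ker Φ)) := by
    rw [injective_iff_map_eq_zero]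
    intro a' ha'
    have h1 : Φ (a' ⊗ₜ (1 : B)) = 0 := by
      rw [← hι_mk]
      have : (Ideal.Quotient.mk (RingHom.ker Φ)) (a' ⊗ₜ[A₀] (1 : B)) =
          algebraMap A' ((A' ⊗[A₀] B) ⧸ RingHom.ker Φ) a' := rfl
      rw [this, ha', map_zero]
    rw [hΦ_apply, hφA', hmk_eq_zero] at h1
    have h3 : IsNilpotent (algebraMap A' K' a') :=
      (IsNilpotent.map_iff (algebraMap K' E).injective).mp h1
    exact IsFractionRing.injective A' K' (by rw [h3.eq_zero, map_zero])
  -- `B → B'`
  letI algBB' : Algebra B ((A' ⊗[A₀] B) ⧸ RingHom.ker Φ) :=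
    ((Ideal.Quotient.mk (RingHom.ker Φ)).comp
      (Algebra.TensorProduct.includeRight : B →ₐ[A₀] A' ⊗[A₀] B).toRingHom).toAlgebra
  have hinjBB' : Function.Injective
      (algebraMap B ((A' ⊗[A₀] B) ⧸ RingHom.ker Φ)) := by
    rw [injective_iff_map_eq_zero]
    intro b hb
    have h1 : Φ ((1 : A') ⊗ₜ b) = 0 := by
      rw [← hι_mk]
      have : (Ideal.Quotient.mk (RingHom.ker Φ)) ((1 : A') ⊗ₜ[A₀] b) =
          algebraMap B ((A' ⊗[A₀] B) ⧸ RingHom.ker Φ) b := rfl
      rw [this, hb, map_zero]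
    rw [hΦ_apply, hmk_eq_zero] at h1
    exact hφB b h1
  -- finiteness
  haveI hftA'B' : Algebra.FiniteType A' ((A' ⊗[A₀] B) ⧸ RingHom.ker Φ) :=
    Algebra.FiniteType.of_surjective
      (Ideal.Quotient.mkₐ A' (RingHom.ker Φ))
      (Ideal.Quotient.mkₐ_surjective A' _)
  let fB : B ⊗[A₀] A' →ₐ[B] ((A' ⊗[A₀] B) ⧸ RingHom.ker Φ) :=
    { toRingHom := (Ideal.Quotient.mk (RingHom.ker Φ)).comp
        (Algebra.TensorProduct.comm A₀ B A').toAlgHom.toRingHom
      commutes' := by
        intro b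
        rfl }
  have hfBsurj : Function.Surjective fB := by
    intro x
    obtain ⟨t, rfl⟩ := Ideal.Quotient.mk_surjective x
    exact ⟨(Algebra.TensorProduct.comm A₀ B A').symm t, by
      change Ideal.Quotient.mk _ ((Algebra.TensorProduct.comm A₀ B A')
        ((Algebra.TensorProduct.comm A₀ B A').symm t)) = _
      rw [AlgEquiv.apply_symm_apply]⟩
  haveI hfinBB' : Module.Finite B ((A' ⊗[A₀] B) ⧸ RingHom.ker Φ) :=
    Module.Finite.of_surjective fB.toLinearMap hfBsurj
  -- `R''` is a localization of `B'`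
  letI algB'R : Algebra ((A' ⊗[A₀] B) ⧸ RingHom.ker Φ) (E ⧸ nilradical E) :=
    (RingHom.kerLift Φ).toAlgebra
  have hΦalg : ∀ m : A₀, Φ (algebraMap A₀ (A' ⊗[A₀] B) m) =
      algebraMap K' (E ⧸ nilradical E) (algebraMap A₀ K' m) := by
    intro m
    rw [hΦ_apply, Algebra.TensorProduct.algebraMap_apply, hφA',
      ← IsScalarTower.algebraMap_apply A₀ A' K' m]
    rfl
  haveI hlocR : IsLocalization
      (Algebra.algebraMapSubmonoid ((A' ⊗[A₀] B) ⧸ RingHom.ker Φ) A₀⁰)
      (E ⧸ nilradical E) :=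
    { map_units := by
        rintro ⟨_, m, hm, rfl⟩
        change IsUnit (RingHom.kerLift Φ
          (Ideal.Quotient.mk _ (algebraMap A₀ (A' ⊗[A₀] B) m)))
        rw [hι_mk, hΦalg]
        apply IsUnit.map
        rw [isUnit_iff_ne_zero]
        exact hm0 ⟨m, hm⟩
      surj := by
        intro r
        obtain ⟨e, rfl⟩ := Ideal.Quotient.mk_surjective r
        obtain ⟨m, t, ht⟩ := hsurj e
        refine ⟨(Ideal.Quotient.mk _ t, ⟨algebraMap A₀ _ (m : A₀), ⟨m, m.2, rfl⟩⟩), ?_⟩
        change _ * RingHom.kerLift Φ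
          (Ideal.Quotient.mk _ (algebraMap A₀ (A' ⊗[A₀] B) m)) =
          RingHom.kerLift Φ (Ideal.Quotient.mk _ t)
        rw [hι_mk, hι_mk, hΦalg, hΦ_apply, ht, map_mul]
        exact mul_comm (Ideal.Quotient.mk (nilradical E) e) _
      exists_of_eq := by
        intro x y hxy
        exact ⟨1, by rw [hιinj hxy]⟩ }
  -- the fraction field `L'` of `R''` is a fraction field of `B'`
  have hloc2 := IsLocalization.localization_localization_isLocalization_of_has_all_units
    (Algebra.algebraMapSubmonoid ((A' ⊗[A₀] B) ⧸ RingHom.ker Φ) A₀⁰)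
    (nonZeroDivisors (E ⧸ nilradical E)) (FractionRing (E ⧸ nilradical E))
    (fun x hx => hx.mem_nonZeroDivisors)
  have hcomap : (nonZeroDivisors (E ⧸ nilradical E)).comap
      (algebraMap ((A' ⊗[A₀] B) ⧸ RingHom.ker Φ) (E ⧸ nilradical E)) =
      nonZeroDivisors ((A' ⊗[A₀] B) ⧸ RingHom.ker Φ) := by
    ext x
    rw [Submonoid.mem_comap, mem_nonZeroDivisors_iff_ne_zero, mem_nonZeroDivisors_iff_ne_zero]
    exact map_ne_zero_iff _ hιinj
  rw [hcomap] at hloc2
  haveI hfracB' : IsFractionRing ((A' ⊗[A₀] B) ⧸ RingHom.ker Φ)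
      (FractionRing (E ⧸ nilradical E)) := hloc2
  -- `L'` over `K'`
  haveI hgrL : Algebra.IsGeometricallyReduced K' (FractionRing (E ⧸ nilradical E)) :=
    isGeometricallyReduced_of_isLocalization K' (E ⧸ nilradical E)
      (FractionRing (E ⧸ nilradical E)) (nonZeroDivisors (E ⧸ nilradical E))
      (IsFractionRing.injective _ _)
  haveI hfsK'L : Algebra.FormallySmooth K' (FractionRing (E ⧸ nilradical E)) :=
    (FieldSep.formallySmooth_iff_isGeometricallyReduced K' _).mpr hgrL
  -- `L'` over `A'`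
  letI algA'L : Algebra A' (FractionRing (E ⧸ nilradical E)) :=
    ((algebraMap ((A' ⊗[A₀] B) ⧸ RingHom.ker Φ) (FractionRing (E ⧸ nilradical E))).comp
      (algebraMap A' ((A' ⊗[A₀] B) ⧸ RingHom.ker Φ))).toAlgebra
  haveI towA'B'L : IsScalarTower A' ((A' ⊗[A₀] B) ⧸ RingHom.ker Φ)
      (FractionRing (E ⧸ nilradical E)) :=
    @IsScalarTower.of_algebraMap_eq A' ((A' ⊗[A₀] B) ⧸ RingHom.ker Φ)
      (FractionRing (E ⧸ nilradical E)) _ _ _ _ _ _ (fun _ => rfl)
  haveI towA'K'L : IsScalarTower A' K' (FractionRing (E ⧸ nilradical E)) := by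
    refine IsScalarTower.of_algebraMap_eq (fun a' => ?_)
    change algebraMap ((A' ⊗[A₀] B) ⧸ RingHom.ker Φ) (FractionRing (E ⧸ nilradical E))
      (algebraMap A' ((A' ⊗[A₀] B) ⧸ RingHom.ker Φ) a') = _
    rw [IsScalarTower.algebraMap_apply ((A' ⊗[A₀] B) ⧸ RingHom.ker Φ) (E ⧸ nilradical E)
      (FractionRing (E ⧸ nilradical E)),
      IsScalarTower.algebraMap_apply K' (E ⧸ nilradical E) (FractionRing (E ⧸ nilradical E))]
    congr 1
    change Φ (a' ⊗ₜ (1 : B)) = _
    rw [hΦ_apply, hφA']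
    rfl
  haveI : Algebra.FormallySmooth A' K' :=
    Algebra.FormallySmooth.of_isLocalization (nonZeroDivisors A')
  haveI : Algebra.FormallySmooth A' (FractionRing (E ⧸ nilradical E)) :=
    Algebra.FormallySmooth.comp A' K' _
  have hJ0B' : P ((A' ⊗[A₀] B) ⧸ RingHom.ker Φ) :=
    hsm A' ((A' ⊗[A₀] B) ⧸ RingHom.ker Φ)
      (FractionRing (E ⧸ nilradical E)) hinjA'B' hA'
  exact hdesc B ((A' ⊗[A₀] B) ⧸ RingHom.ker Φ) hinjBB' hJ0B'

end coreAbsGen

section coreConcGen

variable (A₀ B K K' A' : Type u) [CommRing A₀] [CommRing B] [Algebra A₀ B]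
  [Field K] [Algebra A₀ K] [Field K'] [Algebra K K'] [Algebra A₀ K'] [IsScalarTower A₀ K K']
  [CommRing A'] [Algebra A₀ A'] [Algebra A' K'] [IsScalarTower A₀ A' K']

theorem core_gen (P : ∀ (R : Type u) [CommRing R], Prop)
    (hsm : ∀ (A A' L : Type u) [CommRing A] [CommRing A'] [IsDomain A] [IsDomain A']
      [IsNoetherianRing A] [Algebra A A'] [Algebra.FiniteType A A'] [Field L] [Algebra A' L]
      [IsFractionRing A' L] [Algebra A L] [IsScalarTower A A' L] [Algebra.FormallySmooth A L],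
      Function.Injective (algebraMap A A') → P A → P A')
    (hdesc : ∀ (R S : Type u) [CommRing R] [IsDomain R] [IsNoetherianRing R] [CommRing S]
      [IsDomain S] [Algebra R S] [Algebra.FiniteType R S],
      Function.Injective (algebraMap R S) → P S → P R)
    [IsDomain A₀] [IsNoetherianRing A₀] [IsDomain B] [Algebra.FiniteType A₀ B]
    [IsFractionRing A₀ K] [IsPurelyInseparable K K'] [IsDomain A'] [Module.Finite A₀ A']
    [IsFractionRing A' K'] (hinj : Function.Injective (algebraMap A₀ B))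
    [hgr : Algebra.IsGeometricallyReduced K'
      ((K' ⊗[K] (K ⊗[A₀] B)) ⧸ nilradical (K' ⊗[K] (K ⊗[A₀] B)))]
    (hA' : P A') : P B := by
  haveI hD : IsDomain (K ⊗[A₀] B) := isDomain_tensor_fractionRing A₀ B K hinj
  have hprime := isPrime_nilradical_tensor K K' (K ⊗[A₀] B)
  have hinjD : Function.Injective
      (Algebra.TensorProduct.includeRight : (K ⊗[A₀] B) →ₐ[K] K' ⊗[K] (K ⊗[A₀] B)) :=
    Algebra.TensorProduct.includeRight_injective (algebraMap K K').injective
  have hinjB : Function.Injective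
      (Algebra.TensorProduct.includeRight : B →ₐ[A₀] K ⊗[A₀] B) :=
    includeRight_injective_fractionRing A₀ B K hinj
  refine core_abs_gen A₀ B A' K' (K' ⊗[K] (K ⊗[A₀] B)) P hsm hdesc (Φ₀ A₀ B K K' A') hprime ?_ ?_ ?_ ?_ hA'
  · intro a'
    rw [Φ₀_tmul, Algebra.TensorProduct.algebraMap_apply, Algebra.TensorProduct.one_def]
    rfl
  · intro b hb
    rw [Φ₀_tmul, map_one] at hb
    have h2 : IsNilpotent ((1 : K) ⊗ₜ[A₀] b : K ⊗[A₀] B) := (IsNilpotent.map_iff hinjD).mp hb
    have h3 : IsNilpotent b := (IsNilpotent.map_iff hinjB).mp h2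
    exact h3.eq_zero
  · intro e
    obtain ⟨m, t, ht⟩ := exists_mul_eq_Φ₀ A₀ B K K' A' e
    refine ⟨m, t, ?_⟩
    rw [ht, Algebra.TensorProduct.algebraMap_apply]
    rfl
  · intro m
    rw [IsScalarTower.algebraMap_apply A₀ K K']
    exact (map_ne_zero _).mpr (IsFractionRing.to_map_ne_zero_of_mem_nonZeroDivisors m.2)

end coreConcGen

section topGen

/-- If every finite `A₀`-algebra which is a domain is `P`, then every domain of finite type over
`A₀` containing `A₀` is `P`. -/
theorem of_forall_finite_gen (P : ∀ (R : Type u) [CommRing R], Prop)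
    (hsm : ∀ (A A' L : Type u) [CommRing A] [CommRing A'] [IsDomain A] [IsDomain A']
      [IsNoetherianRing A] [Algebra A A'] [Algebra.FiniteType A A'] [Field L] [Algebra A' L]
      [IsFractionRing A' L] [Algebra A L] [IsScalarTower A A' L] [Algebra.FormallySmooth A L],
      Function.Injective (algebraMap A A') → P A → P A')
    (hdesc : ∀ (R S : Type u) [CommRing R] [IsDomain R] [IsNoetherianRing R] [CommRing S]
      [IsDomain S] [Algebra R S] [Algebra.FiniteType R S],
      Function.Injective (algebraMap R S) → P S → P R)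
    (A₀ B : Type u) [CommRing A₀] [IsDomain A₀] [IsNoetherianRing A₀]
    [CommRing B] [IsDomain B] [Algebra A₀ B] [Algebra.FiniteType A₀ B]
    (hinj : Function.Injective (algebraMap A₀ B))
    (H₀ : ∀ (A' : Type u) [CommRing A'] [IsDomain A'] [Algebra A₀ A'],
      Module.Finite A₀ A' → P A') : P B := by
  classical
  obtain ⟨K', instF, instA, hfin, hpi, hgr⟩ :=
    PISep.exists_finite_purelyInseparable (FractionRing A₀) ((FractionRing A₀) ⊗[A₀] B)
  letI : Algebra A₀ K' :=
    ((algebraMap (FractionRing A₀) K').comp (algebraMap A₀ (FractionRing A₀))).toAlgebra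
  haveI : IsScalarTower A₀ (FractionRing A₀) K' := IsScalarTower.of_algebraMap_eq (fun _ => rfl)
  obtain ⟨A', hA'fin, hA'frac⟩ :=
    exists_finite_subalgebra_isFractionRing' A₀ (FractionRing A₀) K'
  exact core_gen A₀ B (FractionRing A₀) K' A' P hsm hdesc hinj (H₀ A' hA'fin)

end topGen

end Groth.Agent.Lib.Helper18.J2
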