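import Mathlib
import Groth.Prelude.Def_CAlg
import Groth.Prelude.Def_EGA4b
import Groth.Agent.Lib.Helper18.J2i
import Groth.Agent.Lib.Helper18.FamCyc3

set_option autoImplicit false
set_option linter.style.haveILetI false
set_option linter.unusedSectionVars false
set_option linter.overlappingInstances false
universe u

open IsLocalRing TensorProduct nonZeroDivisors

namespace Groth.Agent.Lib.Helper18.J2

/-- `NJ0 R`: the normal locus of `Spec R` contains a nonempty open subset -/
def NJ0 (R : Type u) [CommRing R] : Prop :=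
  ∃ U : Set (PrimeSpectrum R), IsOpen U ∧ U.Nonempty ∧ U ⊆ EGA4.norLocus R

section awayN

open Groth.Agent.Lib.Helper18.NorOpen

variable {A : Type u} [CommRing A]

theorem isNormalRing_localization_of_forall (M : Submonoid A)
    (h : ∀ (q : Ideal A) [q.IsPrime], Disjoint (M : Set A) (q : Set A) →
      IsDomain (Localization.AtPrime q) ∧ IsIntegrallyClosed (Localization.AtPrime q)) :
    EGA4.IsNormalRing (Localization M) := by
  intro P _
  set q := P.comap (algebraMap A (Localization M)) with hq
  have hd : Disjoint (M : Set A) (q : Set A) :=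
    ((IsLocalization.isPrime_iff_isPrime_disjoint M (Localization M) P).mp inferInstance).2
  have hmap : q.map (algebraMap A (Localization M)) = P :=
    IsLocalization.map_under M _ P
  haveI hQ : (q.map (algebraMap A (Localization M))).IsPrime := by
    rw [hmap]; infer_instance
  obtain ⟨e⟩ := nonempty_locEquiv_of_disjoint M q hd
  obtain ⟨h1, h2⟩ := h q hd
  exact normal_congr hmap ⟨e.toMulEquiv.isDomain _, IsIntegrallyClosed.of_equiv e.symm⟩

theorem isNormalRing_localization (M : Submonoid A) (h : EGA4.IsNormalRing A) :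
    EGA4.IsNormalRing (Localization M) :=
  isNormalRing_localization_of_forall M (fun q _ _ => h q)

theorem isNormalRing_away_of_subset (f : A)
    (h : (PrimeSpectrum.basicOpen f : Set (PrimeSpectrum A)) ⊆ EGA4.norLocus A) :
    EGA4.IsNormalRing (Localization.Away f) := by
  apply isNormalRing_localization_of_forall
  intro q _ hd
  have hfq : f ∉ q := fun hfq =>
    Set.disjoint_left.mp hd (Submonoid.mem_powers f) hfq
  exact h (show (⟨q, inferInstance⟩ : PrimeSpectrum A) ∈ _ from hfq)

theorem subset_norLocus_of_isNormalRing_away (f : A) (h : EGA4.IsNormalRing (Localization.Away f)) :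
    (PrimeSpectrum.basicOpen f : Set (PrimeSpectrum A)) ⊆ EGA4.norLocus A := by
  intro q hq
  have hfq : f ∉ q.asIdeal := hq
  have hd := disjoint_powers_of_notMem A f q.asIdeal hfq
  haveI hQ : (q.asIdeal.map (algebraMap A (Localization.Away f))).IsPrime :=
    IsLocalization.isPrime_of_isPrime_disjoint (Submonoid.powers f) _ q.asIdeal inferInstance hd
  obtain ⟨e⟩ := nonempty_locEquiv_of_disjoint (Submonoid.powers f) q.asIdeal hd
  obtain ⟨h1, h2⟩ := h (q.asIdeal.map (algebraMap A (Localization.Away f)))
  exact ⟨e.symm.toMulEquiv.isDomain _, IsIntegrallyClosed.of_equiv e⟩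

end awayN


section descentN

open Groth.Agent.Lib.Helper25 Groth.Agent.Lib.Helper18.PMor Groth.Agent.Lib.Helper18.FormFib

attribute [local instance] Algebra.TensorProduct.rightAlgebra

/-- **`NJ0` descends** along injective finite type maps of domains (generic freeness +
faithfully flat descent of normality). -/
theorem nj0_of_finiteType_injective (R S : Type u) [CommRing R] [IsDomain R] [IsNoetherianRing R]
    [CommRing S] [IsDomain S] [Algebra R S] [Algebra.FiniteType R S]
    (hinj : Function.Injective (algebraMap R S)) (hS : NJ0 S) : NJ0 R := by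
  haveI : IsNoetherianRing S := Algebra.FiniteType.isNoetherianRing R S
  obtain ⟨U, hU, hne, hsub⟩ := hS
  obtain ⟨s, hs0, hsU⟩ := exists_basicOpen_subset hU hne
  have hTreg : EGA4.IsNormalRing (Localization.Away s) :=
    isNormalRing_away_of_subset s (hsU.trans hsub)
  have hsle : Submonoid.powers s ≤ nonZeroDivisors S :=
    powers_le_nonZeroDivisors_of_noZeroDivisors hs0
  haveI : IsDomain (Localization.Away s) :=
    IsLocalization.isDomain_of_le_nonZeroDivisors (Localization.Away s) hsle
  haveI : Algebra.FiniteType S (Localization.Away s) := IsLocalization.finiteType_of_monoid_fg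
    (Submonoid.powers s) (Localization.Away s)
  haveI : Algebra.FiniteType R (Localization.Away s) := Algebra.FiniteType.trans ‹_› ‹_›
  haveI : IsNoetherianRing (Localization.Away s) :=
    Algebra.FiniteType.isNoetherianRing R (Localization.Away s)
  have hinjT : Function.Injective (algebraMap R (Localization.Away s)) := by
    rw [IsScalarTower.algebraMap_eq R S (Localization.Away s)]
    exact (IsLocalization.injective (Localization.Away s) hsle).comp hinj
  obtain ⟨g, -, hg0, hGF⟩ := GFMod.exists_GF R (Localization.Away s) (Localization.Away s) 1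
    one_ne_zero
  have hfree := (hGF g dvd_rfl).1
  have hfree' : Module.Free (Localization.Away g)
      (Localization.Away g ⊗[R] Localization.Away s) :=
    Module.Free.of_equiv
      (IsLocalizedModule.isBaseChange (Submonoid.powers g) (Localization.Away g)
        (LocalizedModule.mkLinearMap (Submonoid.powers g) (Localization.Away s))).equiv.symm
  have hloc : IsLocalization
      (Algebra.algebraMapSubmonoid (Localization.Away s) (Submonoid.powers g))
      (Localization.Away g ⊗[R] Localization.Away s) :=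
    IsLocalization.tensorRight _ (Submonoid.powers g)
  have hle : Algebra.algebraMapSubmonoid (Localization.Away s) (Submonoid.powers g) ≤
      nonZeroDivisors (Localization.Away s) := by
    rintro x ⟨y, ⟨n, rfl⟩, rfl⟩
    rw [map_pow]
    apply pow_mem
    rw [mem_nonZeroDivisors_iff_ne_zero]
    intro h0
    exact hg0 (hinjT (by rw [h0, map_zero]))
  haveI : IsDomain (Localization.Away g ⊗[R] Localization.Away s) :=
    @IsLocalization.isDomain_of_le_nonZeroDivisors (Localization.Away s) _ _
      (Localization.Away g ⊗[R] Localization.Away s) _ _ hloc _ hle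
  have hnl := isNormalRing_localization
    (Algebra.algebraMapSubmonoid (Localization.Away s) (Submonoid.powers g)) hTreg
  have hreg' : EGA4.IsNormalRing (Localization.Away g ⊗[R] Localization.Away s) :=
    isNormalRing_of_ringEquiv (IsLocalization.algEquiv
      (Algebra.algebraMapSubmonoid (Localization.Away s) (Submonoid.powers g))
      (Localization (Algebra.algebraMapSubmonoid (Localization.Away s) (Submonoid.powers g)))
      (Localization.Away g ⊗[R] Localization.Away s)).toRingEquiv hnl
  haveI : IsNoetherianRing (Localization.Away g ⊗[R] Localization.Away s) :=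
    @IsLocalization.isNoetherianRing (Localization.Away s) _
      (Algebra.algebraMapSubmonoid (Localization.Away s) (Submonoid.powers g))
      (Localization.Away g ⊗[R] Localization.Away s) _ _ hloc inferInstance
  haveI : IsNoetherianRing (Localization.Away g) :=
    IsLocalization.isNoetherianRing (Submonoid.powers g) _ inferInstance
  haveI : Module.FaithfullyFlat (Localization.Away g)
      (Localization.Away g ⊗[R] Localization.Away s) :=
    @Module.FaithfullyFlat.instOfNontrivialOfFree (Localization.Away g)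
      (Localization.Away g ⊗[R] Localization.Away s) _ _ _ inferInstance hfree'
  have hRg : EGA4.IsNormalRing (Localization.Away g) :=
    isNormalRing_of_faithfullyFlat (Localization.Away g)
      (Localization.Away g ⊗[R] Localization.Away s) hreg'
  refine ⟨PrimeSpectrum.basicOpen g, (PrimeSpectrum.basicOpen g).isOpen,
    ⟨⟨⊥, Ideal.isPrime_bot⟩, ?_⟩, subset_norLocus_of_isNormalRing_away g hRg⟩
  change g ∉ (⊥ : Ideal R)
  simpa using hg0

end descentN

section smoothN

/-- `NJ0` ascends along finite type injective maps of domains which are smooth at the generic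
point -/
theorem nj0_of_formallySmooth (A A' L : Type u) [CommRing A] [CommRing A'] [IsDomain A]
    [IsDomain A'] [IsNoetherianRing A] [Algebra A A'] [Algebra.FiniteType A A']
    [Field L] [Algebra A' L] [IsFractionRing A' L] [Algebra A L] [IsScalarTower A A' L]
    [Algebra.FormallySmooth A L] (hinj : Function.Injective (algebraMap A A'))
    (h : NJ0 A) : NJ0 A' := by
  obtain ⟨U, hU, hne, hsub⟩ := h
  obtain ⟨g, hg0, hsm⟩ := exists_smooth_away' A A' L
  refine ⟨(PrimeSpectrum.basicOpen g : Set (PrimeSpectrum A')) ∩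
    PrimeSpectrum.comap (algebraMap A A') ⁻¹' U,
    (PrimeSpectrum.basicOpen g).isOpen.inter (hU.preimage (PrimeSpectrum.continuous_comap _)),
    ⟨⟨⊥, Ideal.isPrime_bot⟩, ?_, ?_⟩, ?_⟩
  · change g ∉ (⊥ : Ideal A')
    simpa using hg0
  · have hb := bot_mem_of_isOpen hU hne
    have : PrimeSpectrum.comap (algebraMap A A') ⟨⊥, Ideal.isPrime_bot⟩ =
        (⟨⊥, Ideal.isPrime_bot⟩ : PrimeSpectrum A) := by
      ext1
      change Ideal.comap (algebraMap A A') ⊥ = ⊥
      rw [← RingHom.ker_eq_comap_bot]
      exact (RingHom.injective_iff_ker_eq_bot _).mp hinj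
    rw [Set.mem_preimage, this]
    exact hb
  · rintro q ⟨hq1, hq2⟩
    exact normal_of_smooth_away A A' g q.asIdeal hq1 (hsub hq2)

/-- If every finite `A₀`-algebra which is a domain is `NJ0`, then every domain of finite type over
`A₀` containing `A₀` is `NJ0`. -/
theorem nj0_of_forall_finite (A₀ B : Type u) [CommRing A₀] [IsDomain A₀] [IsNoetherianRing A₀]
    [CommRing B] [IsDomain B] [Algebra A₀ B] [Algebra.FiniteType A₀ B]
    (hinj : Function.Injective (algebraMap A₀ B))
    (H₀ : ∀ (A' : Type u) [CommRing A'] [IsDomain A'] [Algebra A₀ A'],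
      Module.Finite A₀ A' → NJ0 A') : NJ0 B :=
  of_forall_finite_gen (fun R _ => NJ0 R)
    (fun A A' L _ _ _ _ _ _ _ _ _ _ _ _ _ hinj h => nj0_of_formallySmooth A A' L hinj h)
    (fun R S _ _ _ _ _ _ _ hinj h => nj0_of_finiteType_injective R S hinj h)
    A₀ B hinj H₀

end smoothN


section domainCase

open Groth.Agent.Lib.Helper18.NorOpen

theorem isIntegrallyClosed_of_isNormalRing (R : Type u) [CommRing R] [IsDomain R]
    (h : EGA4.IsNormalRing R) : IsIntegrallyClosed R :=
  IsIntegrallyClosed.of_localization_maximal (fun p _ _ => (h p).2)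

theorem isOpen_norLocus_of_nj0 (B : Type u) [CommRing B] [IsDomain B] [IsNoetherianRing B]
    (h : NJ0 B) : IsOpen (EGA4.norLocus B) := by
  obtain ⟨U, hU, hne, hsub⟩ := h
  obtain ⟨f, hf0, hfU⟩ := exists_basicOpen_subset hU hne
  have hN : EGA4.IsNormalRing (Localization.Away f) :=
    isNormalRing_away_of_subset f (hfU.trans hsub)
  haveI : IsDomain (Localization.Away f) :=
    IsLocalization.isDomain_of_le_nonZeroDivisors _
      (powers_le_nonZeroDivisors_of_noZeroDivisors hf0)
  have hic : IsIntegrallyClosed (Localization.Away f) :=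
    isIntegrallyClosed_of_isNormalRing _ hN
  exact isOpen_norLocus_of_away f hf0 hic

theorem bot_mem_norLocus (A' : Type u) [CommRing A'] [IsDomain A'] :
    (⟨⊥, Ideal.isPrime_bot⟩ : PrimeSpectrum A') ∈ EGA4.norLocus A' := by
  haveI : (⊥ : Ideal A').IsPrime := Ideal.isPrime_bot
  haveI : IsLocalization (⊥ : Ideal A').primeCompl (FractionRing A') := by
    rw [Ideal.primeCompl_bot]
    infer_instance
  have e : FractionRing A' ≃+* Localization.AtPrime (⊥ : Ideal A') :=
    (IsLocalization.algEquiv (⊥ : Ideal A').primeCompl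
      (FractionRing A') (Localization.AtPrime (⊥ : Ideal A'))).toRingEquiv
  exact ⟨e.symm.toMulEquiv.isDomain _, IsIntegrallyClosed.of_equiv e⟩

theorem nj0_of_isOpen_norLocus (A' : Type u) [CommRing A'] [IsDomain A']
    (h : IsOpen (EGA4.norLocus A')) : NJ0 A' :=
  ⟨_, h, ⟨_, bot_mem_norLocus A'⟩, subset_rfl⟩

end domainCase

section reduceDomain

theorem exists_notMem_forall_mul_eq_zero {S : Type u} [CommRing S] (q : Ideal S) [q.IsPrime]
    (I : Ideal S) (hI : I.FG) (h : ∀ x ∈ I, ∃ s ∉ q, s * x = 0) :
    ∃ s ∉ q, ∀ x ∈ I, s * x = 0 := by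
  classical
  obtain ⟨T, rfl⟩ := hI
  induction T using Finset.induction_on with
  | empty =>
    refine ⟨1, fun h1 => Ideal.IsPrime.ne_top inferInstance ((Ideal.eq_top_iff_one _).mpr h1), ?_⟩
    intro x hx
    simp only [Finset.coe_empty, Ideal.span_empty, Ideal.mem_bot] at hx
    rw [hx, mul_zero]
  | insert a T ha ih =>
    have hsub : Ideal.span (T : Set S) ≤ Ideal.span ((insert a T : Finset S) : Set S) :=
      Ideal.span_mono (by simp)
    obtain ⟨s₁, hs₁, h₁⟩ := ih (fun x hx => h x (hsub hx))
    obtain ⟨s₂, hs₂, h₂⟩ := h a (Ideal.subset_span (by simp))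
    refine ⟨s₁ * s₂, fun hm => (Ideal.IsPrime.mem_or_mem inferInstance hm).elim hs₁ hs₂, ?_⟩
    intro x hx
    rw [Finset.coe_insert, Ideal.mem_span_insert] at hx
    obtain ⟨c, y, hy, rfl⟩ := hx
    have e1 : s₁ * s₂ * (c * a + y) = s₁ * c * (s₂ * a) + s₂ * (s₁ * y) := by ring
    rw [e1, h₂, h₁ y hy, mul_zero, mul_zero, add_zero]

/-- transfer of normality between `S_q` and `(S/p₀)_{q/p₀}` when `p₀ S_q = 0` -/
theorem normal_iff_quotient {S : Type u} [CommRing S] (p₀ q : Ideal S) [q.IsPrime]
    (s : S) (hs : s ∉ q) (hs0 : ∀ x ∈ p₀, s * x = 0)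
    [hq' : (q.map (Ideal.Quotient.mk p₀)).IsPrime] :
    (IsDomain (Localization.AtPrime q) ∧ IsIntegrallyClosed (Localization.AtPrime q)) ↔
      (IsDomain (Localization.AtPrime (q.map (Ideal.Quotient.mk p₀))) ∧
        IsIntegrallyClosed (Localization.AtPrime (q.map (Ideal.Quotient.mk p₀)))) := by
  have hle : p₀ ≤ q := by
    intro x hx
    have h0 : s * x ∈ q := by rw [hs0 x hx]; exact Submodule.zero_mem _
    exact (Ideal.IsPrime.mem_or_mem inferInstance h0).resolve_left hs
  have hbot : p₀.map (algebraMap S (Localization.AtPrime q)) = ⊥ := by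
    rw [eq_bot_iff, Ideal.map_le_iff_le_comap]
    intro x hx
    rw [Ideal.mem_comap, Ideal.mem_bot]
    exact (IsLocalization.map_eq_zero_iff q.primeCompl (Localization.AtPrime q) x).mpr
      ⟨⟨s, hs⟩, hs0 x hx⟩
  obtain ⟨e⟩ := Groth.Agent.Lib.Helper18.FamCyc.nonempty_ringEquiv_quotient_localization' p₀ q hle
  have e' : Localization.AtPrime (q.map (Ideal.Quotient.mk p₀)) ≃+* Localization.AtPrime q :=
    e.trans ((Ideal.quotEquivOfEq hbot).trans (RingEquiv.quotientBot _))
  constructor
  · rintro ⟨h1, h2⟩
    exact ⟨e'.toMulEquiv.isDomain _, IsIntegrallyClosed.of_equiv e'.symm⟩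
  · rintro ⟨h1, h2⟩
    exact ⟨e'.symm.toMulEquiv.isDomain _, IsIntegrallyClosed.of_equiv e'⟩

end reduceDomain


section reduceOpen

theorem isOpen_norLocus_of_forall_quotient (S : Type u) [CommRing S] [IsNoetherianRing S]
    (h : ∀ (p : Ideal S) [p.IsPrime], IsOpen (EGA4.norLocus (S ⧸ p))) :
    IsOpen (EGA4.norLocus S) := by
  rw [isOpen_iff_forall_mem_open]
  intro q hq
  obtain ⟨hdom, hic⟩ := hq
  set p₀ : Ideal S := RingHom.ker (algebraMap S (Localization.AtPrime q.asIdeal)) with hp₀
  haveI hp₀prime : p₀.IsPrime := RingHom.ker_isPrime _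
  -- an element killing `p₀`
  obtain ⟨s, hs, hs0⟩ := exists_notMem_forall_mul_eq_zero q.asIdeal p₀
    ((isNoetherianRing_iff_ideal_fg S).mp inferInstance p₀) (by
      intro x hx
      have hx0 : algebraMap S (Localization.AtPrime q.asIdeal) x = 0 := hx
      obtain ⟨m, hm⟩ := (IsLocalization.map_eq_zero_iff q.asIdeal.primeCompl
        (Localization.AtPrime q.asIdeal) x).mp hx0
      exact ⟨m.1, m.2, hm⟩)
  have hle : ∀ (q' : Ideal S) [q'.IsPrime], s ∉ q' → p₀ ≤ q' := by
    intro q' _ hsq' x hx
    have h0 : s * x ∈ q' := by rw [hs0 x hx]; exact Submodule.zero_mem _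
    exact (Ideal.IsPrime.mem_or_mem inferInstance h0).resolve_left hsq'
  have hprime : ∀ (q' : Ideal S) [q'.IsPrime], s ∉ q' →
      (q'.map (Ideal.Quotient.mk p₀)).IsPrime := by
    intro q' _ hsq'
    exact Ideal.map_isPrime_of_surjective Ideal.Quotient.mk_surjective
      (by rw [Ideal.mk_ker]; exact hle q' hsq')
  have hcomap : ∀ (q' : Ideal S) [q'.IsPrime], s ∉ q' →
      (q'.map (Ideal.Quotient.mk p₀)).comap (Ideal.Quotient.mk p₀) = q' := by
    intro q' _ hsq'
    rw [Ideal.comap_map_of_surjective _ Ideal.Quotient.mk_surjective, ← RingHom.ker_eq_comap_bot,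
      Ideal.mk_ker, sup_eq_left]
    exact hle q' hsq'
  -- the open set
  obtain ⟨W', hW'open, hW'⟩ := (PrimeSpectrum.isClosedEmbedding_comap_of_surjective _
    (Ideal.Quotient.mk p₀) Ideal.Quotient.mk_surjective).isInducing.isOpen_iff.mp (h p₀)
  refine ⟨W' ∩ (PrimeSpectrum.basicOpen s : Set (PrimeSpectrum S)), ?_,
    hW'open.inter (PrimeSpectrum.basicOpen s).isOpen, ?_, hs⟩
  · rintro q' ⟨hq'W, hq's⟩
    have hsq' : s ∉ q'.asIdeal := hq's
    haveI := hprime q'.asIdeal hsq'
    have hmem : (⟨q'.asIdeal.map (Ideal.Quotient.mk p₀), inferInstance⟩ :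
        PrimeSpectrum (S ⧸ p₀)) ∈ EGA4.norLocus (S ⧸ p₀) := by
      rw [← hW', Set.mem_preimage]
      have : PrimeSpectrum.comap (Ideal.Quotient.mk p₀)
          ⟨q'.asIdeal.map (Ideal.Quotient.mk p₀), inferInstance⟩ = q' :=
        PrimeSpectrum.ext (hcomap q'.asIdeal hsq')
      rw [this]
      exact hq'W
    exact (normal_iff_quotient p₀ q'.asIdeal s hsq' hs0).mpr hmem
  · haveI := hprime q.asIdeal hs
    have hmem : (⟨q.asIdeal.map (Ideal.Quotient.mk p₀), inferInstance⟩ :
        PrimeSpectrum (S ⧸ p₀)) ∈ EGA4.norLocus (S ⧸ p₀) :=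
      (normal_iff_quotient p₀ q.asIdeal s hs hs0).mp ⟨hdom, hic⟩
    rw [← hW', Set.mem_preimage] at hmem
    have : PrimeSpectrum.comap (Ideal.Quotient.mk p₀)
        ⟨q.asIdeal.map (Ideal.Quotient.mk p₀), inferInstance⟩ = q :=
      PrimeSpectrum.ext (hcomap q.asIdeal hs)
    rw [this] at hmem
    exact hmem

end reduceOpen


section topN

/-- **EGA IV 6.13.7**: if the normal locus of every finite `A`-algebra which is a domain is open,
then the normal locus of every finite type `A`-algebra is open. -/
theorem isOpen_norLocus_of_forall_finite (A : Type u) [CommRing A] [IsNoetherianRing A]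
    (H : ∀ (A' : Type u) [CommRing A'] [IsDomain A'] [Algebra A A'], Module.Finite A A' →
      IsOpen (EGA4.norLocus A'))
    (S : Type u) [CommRing S] [Algebra A S] (hft : Algebra.FiniteType A S) :
    IsOpen (EGA4.norLocus S) := by
  haveI : IsNoetherianRing S := Algebra.FiniteType.isNoetherianRing A S
  apply isOpen_norLocus_of_forall_quotient
  intro q _
  haveI hkp : (RingHom.ker (algebraMap A (S ⧸ q))).IsPrime := RingHom.ker_isPrime _
  letI : Algebra (A ⧸ RingHom.ker (algebraMap A (S ⧸ q))) (S ⧸ q) :=
    (RingHom.kerLift (algebraMap A (S ⧸ q))).toAlgebra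
  haveI : IsScalarTower A (A ⧸ RingHom.ker (algebraMap A (S ⧸ q))) (S ⧸ q) :=
    IsScalarTower.of_algebraMap_eq (fun _ => rfl)
  haveI : Algebra.FiniteType A (S ⧸ q) := inferInstance
  haveI : Algebra.FiniteType (A ⧸ RingHom.ker (algebraMap A (S ⧸ q))) (S ⧸ q) :=
    Algebra.FiniteType.of_restrictScalars_finiteType A _ _
  have hinj : Function.Injective
      (algebraMap (A ⧸ RingHom.ker (algebraMap A (S ⧸ q))) (S ⧸ q)) :=
    RingHom.kerLift_injective _
  apply isOpen_norLocus_of_nj0
  apply nj0_of_forall_finite (A ⧸ RingHom.ker (algebraMap A (S ⧸ q))) (S ⧸ q) hinj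
  intro A' _ _ _ hfin
  letI : Algebra A A' := ((algebraMap (A ⧸ RingHom.ker (algebraMap A (S ⧸ q))) A').comp
    (algebraMap A (A ⧸ RingHom.ker (algebraMap A (S ⧸ q))))).toAlgebra
  haveI : IsScalarTower A (A ⧸ RingHom.ker (algebraMap A (S ⧸ q))) A' :=
    IsScalarTower.of_algebraMap_eq (fun _ => rfl)
  exact nj0_of_isOpen_norLocus A' (H A' (Module.Finite.trans (A ⧸ RingHom.ker (algebraMap A (S ⧸ q))) A'))

end topN

end Groth.Agent.Lib.Helper18.J2
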