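import Mathlib
import Groth.Prelude.Def_EGA4b
import Groth.Agent.Lib.Helper18.PMor4
import Groth.Agent.Lib.Helper6.GeomReduced

set_option autoImplicit false
set_option linter.style.haveILetI false
set_option linter.unusedSectionVars false

open TensorProduct

universe u

namespace Groth.Agent.Lib.Helper18.RedBC

theorem isReduced_of_isNormalRing {S : Type u} [CommRing S] (h : EGA4.IsNormalRing S) :
    IsReduced S := by
  apply isReduced_ofLocalizationMaximal
  intro m hm
  haveI := (h m).1
  infer_instance

section noeth

variable (A A' B : Type u) [CommRing A] [CommRing A'] [CommRing B] [Algebra A A'] [Algebra A B]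
  [Module.Flat A A']

/-- for `B` Noetherian reduced: `A' ⊗ B` is reduced if `A' ⊗ κ(p)` is for all minimal primes. -/
theorem isReduced_tensor_of_forall_minimalPrimes [IsNoetherianRing B] [IsReduced B]
    (h : ∀ (p : Ideal B) [p.IsPrime], p ∈ minimalPrimes B → IsReduced (A' ⊗[A] p.ResidueField)) :
    IsReduced (A' ⊗[A] B) := by
  classical
  have hfin : (minimalPrimes B).Finite := minimalPrimes.finite_of_isNoetherianRing B
  haveI : Fintype ↥(minimalPrimes B) := hfin.fintype
  haveI hprime : ∀ i : ↥(minimalPrimes B), (i.1).IsPrime := fun i => Ideal.IsMinimalPrime.isPrime i.2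
  let φ : B →ₐ[A] (∀ i : ↥(minimalPrimes B), (i.1).ResidueField) :=
    AlgHom.pi (fun i => IsScalarTower.toAlgHom A B (i.1).ResidueField)
  have hφ : Function.Injective φ := by
    rw [injective_iff_map_eq_zero]
    intro x hx
    have h1 : ∀ i : ↥(minimalPrimes B), x ∈ i.1 := by
      intro i
      have := congrFun hx i
      exact Ideal.algebraMap_residueField_eq_zero.mp this
    have h2 : x ∈ nilradical B := by
      rw [nilradical, ← Ideal.sInf_minimalPrimes, Ideal.mem_sInf]
      intro p hp
      exact h1 ⟨p, hp⟩
    exact (mem_nilradical.mp h2).eq_zero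
  have hinj : Function.Injective (Algebra.TensorProduct.map (AlgHom.id A A') φ) :=
    Module.Flat.lTensor_preserves_injective_linearMap _ hφ
  let e := Algebra.TensorProduct.piRight A A A' (fun i : ↥(minimalPrimes B) => (i.1).ResidueField)
  haveI : ∀ i : ↥(minimalPrimes B), IsReduced (A' ⊗[A] (i.1).ResidueField) := fun i => h i.1 i.2
  haveI : IsReduced (A' ⊗[A] (∀ i : ↥(minimalPrimes B), (i.1).ResidueField)) :=
    isReduced_of_injective e.toAlgHom e.injective
  exact isReduced_of_injective _ hinj

end noeth

section main

variable (A A' : Type u) [CommRing A] [CommRing A'] [IsNoetherianRing A] [Algebra A A']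

theorem isReduced_tensor_residueField (h : EGA4.IsNormalHom A A') (B : Type u) [CommRing B]
    [Algebra A B] (p : Ideal B) [p.IsPrime] : IsReduced (A' ⊗[A] p.ResidueField) := by
  letI alg : Algebra (p.comap (algebraMap A B)).ResidueField p.ResidueField :=
    (Ideal.ResidueField.map (p.comap (algebraMap A B)) p (algebraMap A B) rfl).toAlgebra
  haveI : IsScalarTower A (p.comap (algebraMap A B)).ResidueField p.ResidueField :=
    IsScalarTower.of_algebraMap_eq (fun a => by
      rw [RingHom.algebraMap_toAlgebra, Ideal.ResidueField.map_algebraMap _ _ _ rfl a,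
        ← IsScalarTower.algebraMap_apply])
  have hg : Algebra.IsGeometricallyReduced (p.comap (algebraMap A B)).ResidueField
      ((p.comap (algebraMap A B)).Fiber A') :=
    Groth.Agent.Lib.Helper18.PMor.isGeometricallyReduced_of_forall_finite
      (fun k' _ _ hfin => isReduced_of_isNormalRing (h.2 (p.comap (algebraMap A B)) k' hfin))
  have h1 : IsReduced (AlgebraicClosure (p.comap (algebraMap A B)).ResidueField
      ⊗[(p.comap (algebraMap A B)).ResidueField] ((p.comap (algebraMap A B)).Fiber A')) :=
    (Algebra.isGeometricallyReduced_field_iff _ _).mp hg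
  have h2 : IsReduced (p.ResidueField ⊗[(p.comap (algebraMap A B)).ResidueField]
      ((p.comap (algebraMap A B)).Fiber A')) :=
    Groth.Agent.Lib.Helper6.isReduced_of_isReduced_algClosure h1 p.ResidueField
  let e := Algebra.TensorProduct.cancelBaseChange A (p.comap (algebraMap A B)).ResidueField
    p.ResidueField p.ResidueField A'
  have h3 : IsReduced (p.ResidueField ⊗[A] A') :=
    isReduced_of_injective e.symm.toAlgHom e.symm.injective
  exact isReduced_of_injective (Algebra.TensorProduct.comm A A' p.ResidueField).toAlgHom
    (Algebra.TensorProduct.comm A A' p.ResidueField).injective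

/-- EGA IV 6.14.? : base change of a reduced algebra along a normal homomorphism is reduced -/
theorem isReduced_baseChange_of_isNormalHom (h : EGA4.IsNormalHom A A') (B : Type u) [CommRing B]
    [Algebra A B] [IsReduced B] : IsReduced (A' ⊗[A] B) := by
  haveI := h.1
  apply IsReduced.tensorProduct_of_flat_of_forall_fg
  intro B₀ hfg
  haveI : Algebra.FiniteType A B₀ := (Subalgebra.fg_iff_finiteType B₀).mp hfg
  haveI : IsNoetherianRing B₀ := Algebra.FiniteType.isNoetherianRing A B₀
  haveI : IsReduced B₀ := isReduced_of_injective B₀.val Subtype.val_injective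
  exact isReduced_tensor_of_forall_minimalPrimes A A' B₀
    (fun p _ _ => isReduced_tensor_residueField A A' h B₀ p)

end main

end Groth.Agent.Lib.Helper18.RedBC
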