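import Mathlib

/-!
# The shear isomorphism of a group object (helper18)
-/

set_option autoImplicit false

namespace Groth.Agent.Lib.Helper18.GrpShear

open CategoryTheory MonoidalCategory CartesianMonoidalCategory MonObj GrpObj

universe v u

variable {C : Type u} [Category.{v} C] [CartesianMonoidalCategory C] (G : C) [GrpObj G]

/-- The shear isomorphism `(g, h) ↦ (g, g * h)`. -/
def shear : G ⊗ G ≅ G ⊗ G where
  hom := lift (fst G G) μ[G]
  inv := lift (fst G G) (lift (fst G G ≫ ι[G]) (snd G G) ≫ μ[G])
  hom_inv_id := by
    apply CartesianMonoidalCategory.hom_ext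
    · simp
    · simp only [Category.assoc, lift_snd, Category.id_comp]
      rw [comp_lift_assoc]
      simp only [lift_fst_assoc, lift_snd]
      rw [lift_inv_left_eq, lift_fst_snd, Category.id_comp]
  inv_hom_id := by
    apply CartesianMonoidalCategory.hom_ext
    · simp
    · simp only [Category.assoc, lift_snd, Category.id_comp]
      rw [← eq_lift_inv_left]

@[simp]
lemma shear_hom_snd : (shear G).hom ≫ snd G G = μ[G] := by simp [shear]

@[simp]
lemma shear_hom_fst : (shear G).hom ≫ fst G G = fst G G := by simp [shear]

/-- The "division" shear isomorphism `(g, h) ↦ (g, g⁻¹ * h)`, the inverse of `shear`. -/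
lemma shear_inv_snd : (shear G).inv ≫ snd G G = lift (fst G G ≫ ι[G]) (snd G G) ≫ μ[G] := by
  simp [shear]

open Limits in
/-- The diagonal of a group object is the base change of the unit along `(g, h) ↦ g⁻¹ * h`. -/
theorem isPullback_diag :
    IsPullback (lift (𝟙 G) (𝟙 G)) (toUnit G) (lift (fst G G ≫ ι[G]) (snd G G) ≫ μ[G]) η[G] where
  w := by
    rw [comp_lift_assoc]
    simp
  isLimit' := ⟨PullbackCone.IsLimit.mk _ (fun s => s.fst ≫ fst _ _)
    (fun s => by
      apply CartesianMonoidalCategory.hom_ext
      · simp
      · simp only [Category.assoc, lift_snd, Category.comp_id]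
        have h := s.condition
        rw [comp_lift_assoc, ← Category.assoc s.fst (fst G G) ι[G], lift_inv_left_eq,
          lift_comp_one_right] at h
        exact h.symm)
    (fun s => toUnit_unique _ _)
    (fun s m hm₁ _ => by
      have := hm₁ =≫ fst _ _
      simpa using this)⟩

end Groth.Agent.Lib.Helper18.GrpShear
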