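import Mathlib
import Groth.Agent.Lib.Helper18.JacDim7
import Groth.Agent.Lib.Helper1.Catenary

/-!
# Schemes locally of finite type over a Jacobson universally catenary equicodimensional base
inherit these properties (EGA IV 10.6.1)
-/

set_option autoImplicit false
set_option linter.unusedSectionVars false
set_option linter.style.haveILetI false
universe u
open AlgebraicGeometry CategoryTheory TopologicalSpace

namespace Groth.Agent.Lib.Helper18.JacDim

open Groth.Agent.Lib.Helper18.TopDim Groth.Agent.Lib.Helper18.SchDim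

section Scheme

variable {X S : Scheme.{u}} [IsLocallyNoetherian S] [JacobsonSpace S]
  (h2 : ∀ s : S, CAlg.IsUniversallyCatenary (S.presheaf.stalk s))
  (h3 : ∀ S' ∈ irreducibleComponents (S : Type u), ∀ s ∈ S', IsClosed ({s} : Set S) →
    topologicalKrullDim (↥S' : Type u) = topologicalKrullDim ↥{t : S | t ∈ S' ∧ t ⤳ s})

include h2 in
theorem isUniversallyCatenary_stalk_of_locallyOfFiniteType (g : X ⟶ S) [LocallyOfFiniteType g]
    (x : X) :
    CAlg.IsUniversallyCatenary (X.presheaf.stalk x) := by
  letI : Algebra (S.presheaf.stalk (g x)) (X.presheaf.stalk x) := (g.stalkMap x).hom.toAlgebra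
  haveI : Algebra.EssFiniteType (S.presheaf.stalk (g x)) (X.presheaf.stalk x) :=
    LocallyOfFiniteType.stalkMap g x
  exact Groth.Agent.Lib.Helper1.Catenary.isUniversallyCatenary_of_essFiniteType _ _ (h2 (g x))

include h2 h3 in
theorem equicodim_of_locallyOfFiniteType (g : X ⟶ S) [LocallyOfFiniteType g] :
    ∀ X' ∈ irreducibleComponents (X : Type u), ∀ x ∈ X', IsClosed ({x} : Set X) →
      topologicalKrullDim (↥X' : Type u) = topologicalKrullDim ↥{t : X | t ∈ X' ∧ t ⤳ x} := by
  intro X' hX' x hx hcl
  set C : TopologicalSpace.Closeds X := ⟨X', isClosed_of_mem_irreducibleComponents X' hX'⟩ with hC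
  set I := Scheme.IdealSheafData.vanishingIdeal C with hI
  have hr : Set.range I.subschemeι = X' := by
    rw [Scheme.IdealSheafData.range_subschemeι, Scheme.IdealSheafData.coe_support_vanishingIdeal]
    rfl
  have hemb : Topology.IsEmbedding I.subschemeι := I.subschemeι.isEmbedding
  haveI : IrreducibleSpace I.subscheme := by
    have hirr : IsIrreducible (X' : Set X) := hX'.1
    obtain ⟨ξ, hξ⟩ := QuasiSober.sober hirr C.isClosed
    obtain ⟨ξ', hξ'⟩ : ξ ∈ Set.range I.subschemeι := by
      rw [hr, ← hξ.def]; exact subset_closure rfl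
    have hgen : ∀ u : I.subscheme, ξ' ⤳ u := by
      intro u
      rw [← hemb.isInducing.specializes_iff, specializes_iff_mem_closure, hξ', hξ.def, ← hr]
      exact ⟨u, rfl⟩
    have huniv : closure ({ξ'} : Set I.subscheme) = Set.univ := by
      rw [Set.eq_univ_iff_forall]
      intro u
      exact (hgen u).mem_closure
    rw [irreducibleSpace_def, Set.top_eq_univ, ← huniv]
    exact isIrreducible_singleton.closure
  obtain ⟨z₀, hz₀⟩ : x ∈ Set.range I.subschemeι := by rw [hr]; exact hx
  have hz₀cl : IsClosed ({z₀} : Set I.subscheme) := by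
    have : ({z₀} : Set I.subscheme) = I.subschemeι ⁻¹' {x} := by
      ext z
      simp only [Set.mem_singleton_iff, Set.mem_preimage]
      rw [← hz₀]
      exact ⟨fun h => by rw [h], fun h => hemb.injective h⟩
    rw [this]
    exact hcl.preimage I.subschemeι.continuous
  set p := I.subschemeι ≫ g with hp
  obtain ⟨n, hn⟩ := exists_nat_trdeg_residueField p (genericPoint I.subscheme)
  have hpz₀ : IsClosed ({p z₀} : Set S) := p.closePoints_subset_preimage_closedPoints hz₀cl
  have hdim := topologicalKrullDim_eq_genDim_add h2 h3 p (p z₀)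
    ((genericPoint_specializes z₀).map p.continuous) hpz₀ n hn
  have hstalk := ringKrullDim_stalk_of_isClosed h2 p z₀ hz₀cl n hn
  have h1 : topologicalKrullDim (↥X' : Type u) = topologicalKrullDim I.subscheme := by
    rw [← hr]; exact topologicalKrullDim_range_eq hemb
  have h2' : {t : X | t ∈ X' ∧ t ⤳ x} = I.subschemeι '' {t | t ⤳ z₀} := by
    ext t
    constructor
    · rintro ⟨htX', htx⟩
      obtain ⟨z, rfl⟩ : t ∈ Set.range I.subschemeι := by rw [hr]; exact htX'
      refine ⟨z, ?_, rfl⟩
      rw [← hz₀] at htx
      exact hemb.isInducing.specializes_iff.1 htx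
    · rintro ⟨z, hz, rfl⟩
      refine ⟨by rw [← hr]; exact ⟨z, rfl⟩, ?_⟩
      rw [← hz₀]
      exact Specializes.map hz I.subschemeι.continuous
  rw [h1, h2', topologicalKrullDim_image_eq hemb,
    topologicalKrullDim_generizations_eq_ringKrullDim, hdim, hstalk]

end Scheme

end Groth.Agent.Lib.Helper18.JacDim
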