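import Mathlib
import Groth.Agent.Lib.Helper18.JacDim1
import Groth.Agent.Lib.Helper18.TopDim
import Groth.Agent.Lib.Helper18.CatHt
import Groth.Agent.Lib.Helper18.DimFormula3
import Groth.Agent.Lib.Helper21.FibDim4

/-!
# Dimension of a nowhere dense closed subset; zero loci over a field (EGA IV 5.2.x)
-/

set_option autoImplicit false
set_option linter.unusedSectionVars false
set_option linter.style.haveILetI false
universe u
open AlgebraicGeometry CategoryTheory TopologicalSpace

namespace Groth.Agent.Lib.Helper18.ZeroDim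

open Groth.Agent.Lib.Helper12.Codim Groth.Agent.Lib.Helper21.ChartPt
open Groth.Agent.Lib.Helper18.JacDim

section Arith

theorem eq_top_of_forall_natCast_le {b : WithBot ℕ∞} (h : ∀ n : ℕ, (n : WithBot ℕ∞) ≤ b) :
    b = ⊤ := by
  induction b using WithBot.recBotCoe with
  | bot => exact absurd (h 0) (by simp)
  | coe c =>
    have : c = ⊤ := by
      rw [ENat.eq_top_iff_forall_ge]
      intro n
      exact_mod_cast h n
    rw [this]
    rfl

theorem add_one_le_of_forall {a b : WithBot ℕ∞}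
    (h : ∀ n : ℕ, (n : WithBot ℕ∞) ≤ a → ((n + 1 : ℕ) : WithBot ℕ∞) ≤ b) : a + 1 ≤ b := by
  induction a using WithBot.recBotCoe with
  | bot => rw [WithBot.bot_add]; exact bot_le
  | coe c =>
    induction c using ENat.recTopCoe with
    | top =>
      have : b = ⊤ := eq_top_of_forall_natCast_le (fun n => by
        have h1 := h n le_top
        refine le_trans ?_ h1
        exact_mod_cast Nat.le_succ n)
      rw [this]
      exact le_top
    | coe m =>
      have := h m le_rfl
      exact_mod_cast this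

end Arith

section Top

variable {X : Scheme.{u}} [IsLocallyNoetherian X]

/-- a nowhere dense closed subset of a locally Noetherian scheme has dimension `< dim X` -/
theorem topologicalKrullDim_add_one_le_of_nowhereDense (Y : Set X) (hYc : IsClosed Y)
    (hY : interior Y = ∅) : topologicalKrullDim ↥Y + 1 ≤ topologicalKrullDim X := by
  apply add_one_le_of_forall
  intro n hn
  obtain ⟨s, hs⟩ := Order.le_krullDim_iff.1 hn
  -- transport the chain to `X`
  let t : LTSeries (IrreducibleCloseds X) := s.map (subEmb Y) (subEmb Y).strictMono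
  have htlen : t.length = n := by rw [LTSeries.map_length, hs]
  have hlastY : (t.last : Set X) ⊆ Y := by
    rw [LTSeries.last_map, coe_subEmb]
    apply closure_minimal _ hYc
    rintro _ ⟨y, _, rfl⟩
    exact y.2
  obtain ⟨X', hX', hsub⟩ := exists_irreducibleComponent_superset (t.last : Set X)
    t.last.isIrreducible
  have hX'cl : IsClosed X' := isClosed_of_mem_irreducibleComponents X' hX'
  obtain ⟨ξ, hξ⟩ := QuasiSober.sober hX'.1 hX'cl
  have hdense : Dense (Yᶜ : Set X) := interior_eq_empty_iff_dense_compl.1 hY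
  have hξY : ξ ∈ (Yᶜ : Set X) :=
    genericPoint_mem_of_dense X' hX' ξ hξ Yᶜ hYc.isOpen_compl hdense
  let T' : IrreducibleCloseds X := ⟨X', hX'.1, hX'cl⟩
  have hlt : t.last < T' := by
    refine lt_of_le_of_ne hsub (fun h => hξY ?_)
    have : (t.last : Set X) = X' := congrArg (fun Z : IrreducibleCloseds X => (Z : Set X)) h
    exact hlastY (this ▸ hξ.mem)
  have := Order.LTSeries.length_le_krullDim (t.snoc T' hlt)
  rw [RelSeries.snoc_length, htlen] at this
  exact this

end Top

section Field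

open Groth.Agent.Lib.Helper18.CatHt Groth.Agent.Lib.Helper18.DimFormula
open Groth.Agent.Lib.Helper21.FibDim

variable (k : Type u) [Field k] (X : Scheme.{u}) [X.Over (Spec (CommRingCat.of k))]
  [LocallyOfFiniteType (X ↘ Spec (CommRingCat.of k))]

include k in
/-- a hypersurface meeting an irreducible component `Z₀` (and not containing it) has dimension at
least `dim Z₀ - 1` -/
theorem topologicalKrullDim_le_zeroLocus_add_one (f : Γ(X, ⊤)) (Z₀ : Set X)
    (hZ₀ : Z₀ ∈ irreducibleComponents (X : Type u))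
    (hne : (Z₀ ∩ X.zeroLocus (U := ⊤) {f}).Nonempty)
    (hnd : interior (X.zeroLocus (U := ⊤) {f}) = ∅) :
    topologicalKrullDim ↥Z₀ ≤ topologicalKrullDim ↥(X.zeroLocus (U := ⊤) {f}) + 1 := by
  haveI : IsLocallyNoetherian X :=
    LocallyOfFiniteType.isLocallyNoetherian (X ↘ Spec (CommRingCat.of k))
  have hYc : IsClosed (X.zeroLocus (U := ⊤) {f}) := X.zeroLocus_isClosed _
  have hZ₀cl : IsClosed Z₀ := isClosed_of_mem_irreducibleComponents Z₀ hZ₀
  obtain ⟨ζ, hζ⟩ := QuasiSober.sober hZ₀.1 hZ₀cl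
  have hdense : Dense ((X.zeroLocus (U := ⊤) {f})ᶜ : Set X) :=
    interior_eq_empty_iff_dense_compl.1 hnd
  have hζY : ζ ∉ X.zeroLocus (U := ⊤) {f} :=
    genericPoint_mem_of_dense Z₀ hZ₀ ζ hζ _ hYc.isOpen_compl hdense
  obtain ⟨y, hyZ, hyY⟩ := hne
  have hζy : ζ ⤳ y := by
    rw [specializes_iff_mem_closure, hζ.def]; exact hyZ
  obtain ⟨U, hU, hyU, -⟩ := Opens.isBasis_iff_nbhd.mp X.isBasis_affineOpens
    (show y ∈ (⊤ : X.Opens) from trivial)
  have hU : IsAffineOpen U := hU
  have hζU : ζ ∈ U := hζy.mem_open U.2 hyU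
  letI : Algebra k Γ(X, U) :=
    (Groth.Agent.Lib.Helper20.DimTrdeg.kMap (X ↘ Spec (CommRingCat.of k)) U).toAlgebra
  haveI : Algebra.FiniteType k Γ(X, U) :=
    Groth.Agent.Lib.Helper20.DimTrdeg.kMap_finiteType (X ↘ Spec (CommRingCat.of k)) U hU
  haveI : IsNoetherianRing Γ(X, U) := Algebra.FiniteType.isNoetherianRing k Γ(X, U)
  let g : Γ(X, U) := X.presheaf.map (homOfLE (le_top : U ≤ ⊤)).op f
  -- membership of `g` in the prime of a point
  have hmem : ∀ (x : X) (hx : x ∈ U), g ∈ (hU.primeIdealOf ⟨x, hx⟩).asIdeal ↔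
      x ∈ X.zeroLocus (U := ⊤) {f} := by
    intro x hx
    rw [← ker_evaluation hU x hx, RingHom.mem_ker]
    change (X.evaluation U x hx) g = 0 ↔ _
    rw [Scheme.evaluation_eq_zero_iff_notMem_basicOpen, Scheme.basicOpen_res,
      Scheme.mem_zeroLocus_iff]
    simp only [Set.mem_singleton_iff, forall_eq]
    constructor
    · intro h h'
      exact h ⟨hx, h'⟩
    · intro h h'
      exact h h'.2
  set qζ := hU.primeIdealOf ⟨ζ, hζU⟩ with hqζ
  set qy := hU.primeIdealOf ⟨y, hyU⟩ with hqy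
  have hgζ : g ∉ qζ.asIdeal := fun h => hζY ((hmem ζ hζU).1 h)
  have hgy : g ∈ qy.asIdeal := (hmem y hyU).2 hyY
  have hle : qζ.asIdeal ≤ qy.asIdeal :=
    (specializes_iff_primeIdealOf_le hU ⟨ζ, hζU⟩ ⟨y, hyU⟩).1 hζy
  have hsup : qζ.asIdeal ⊔ Ideal.span {g} ≤ qy.asIdeal :=
    sup_le hle ((Ideal.span_singleton_le_iff_mem _).2 hgy)
  obtain ⟨q, hqmin, hqy'⟩ := Ideal.exists_minimalPrimes_le hsup
  haveI hqp : q.IsPrime := hqmin.1.1
  have hcov := covBy_of_mem_minimalPrimes g qζ.asIdeal q hgζ hqmin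
  have hζq : qζ.asIdeal ≤ q := le_sup_left.trans hqmin.1.2
  have hgq : g ∈ q := hqmin.1.2 (Ideal.mem_sup_right (Ideal.mem_span_singleton_self g))
  have hht : (q.map (Ideal.Quotient.mk qζ.asIdeal)).height = 1 := by
    rw [← cd_eq_height_map_mk qζ.asIdeal q hζq]
    exact cd_of_covBy hcov
  -- the point `w`
  have hmemU : ∀ P : PrimeSpectrum Γ(X, U), hU.fromSpec P ∈ U := fun P => (hU.isoSpec.inv _).2
  have hprime : ∀ P : PrimeSpectrum Γ(X, U), hU.primeIdealOf ⟨hU.fromSpec P, hmemU P⟩ = P :=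
    fun P => hU.fromSpec.isOpenEmbedding.injective (hU.fromSpec_primeIdealOf ⟨_, hmemU P⟩)
  let w : X := hU.fromSpec ⟨q, hqp⟩
  have hwU : w ∈ U := hmemU _
  have hqw : hU.primeIdealOf ⟨w, hwU⟩ = ⟨q, hqp⟩ := hprime _
  have hwY : w ∈ X.zeroLocus (U := ⊤) {f} := by
    rw [← hmem w hwU, hqw]; exact hgq
  obtain ⟨sζ, hsζ1, hsζ2⟩ := exists_nat_trdeg_eq_and_dim_quotient k X hU ζ hζU
  obtain ⟨sw, hsw1, hsw2⟩ := exists_nat_trdeg_eq_and_dim_quotient k X hU w hwU
  have hF := ringKrullDim_quotient_eq_height_add k Γ(X, U) qζ.asIdeal q hζq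
  rw [hht] at hF
  rw [hqw] at hsw2
  rw [← hqζ] at hsζ2
  rw [hsζ2, hsw2] at hF
  have hdimζ := topologicalKrullDim_closure_singleton k X ζ sζ hsζ1
  have hdimw := topologicalKrullDim_closure_singleton k X w sw hsw1
  have hsubw : closure ({w} : Set X) ⊆ X.zeroLocus (U := ⊤) {f} :=
    closure_minimal (Set.singleton_subset_iff.2 hwY) hYc
  have h1 : topologicalKrullDim ↥(closure ({w} : Set X)) ≤
      topologicalKrullDim ↥(X.zeroLocus (U := ⊤) {f}) :=
    (Topology.IsEmbedding.inclusion hsubw).isInducing.topologicalKrullDim_le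
  rw [← hζ.def, hdimζ, hF, add_comm]
  rw [hdimw] at h1
  exact add_le_add h1 (le_of_eq rfl)

end Field

end Groth.Agent.Lib.Helper18.ZeroDim
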