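import Mathlib
import Groth.Prelude.Def_CAlg
import Groth.Agent.Lib.Helper18.MCMFree
import Groth.Agent.Lib.Helper9.FlatCrit

set_option autoImplicit false
universe u

open IsLocalRing TensorProduct Pointwise

namespace Groth.Agent.Lib.Helper18.CM

open Groth.Agent.Lib.Helper21

section fibre

variable {R S : Type u} [CommRing R] [CommRing S] [IsLocalRing R] [IsLocalRing S]
  [IsNoetherianRing R] [IsNoetherianRing S] [Algebra R S] [IsLocalHom (algebraMap R S)]

omit [IsNoetherianRing R] [IsNoetherianRing S] in
theorem map_maximalIdeal_le : (maximalIdeal R).map (algebraMap R S) ≤ maximalIdeal S :=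
  IsLocalRing.map_maximalIdeal_le (algebraMap R S)

/-- `dim S ≤ dim R + dim S/𝔪_R S` for a local homomorphism of Noetherian local rings -/
theorem ringKrullDim_le_add_fibre :
    ringKrullDim S ≤ ringKrullDim R +
      ringKrullDim (S ⧸ (maximalIdeal R).map (algebraMap R S)) := by
  have hlo : (maximalIdeal S).LiesOver (maximalIdeal R) :=
    ⟨(IsLocalRing.maximalIdeal_comap (algebraMap R S)).symm⟩
  have h := Ideal.height_le_height_add_of_liesOver (maximalIdeal R) (maximalIdeal S)
  have hloc : IsLocalRing (S ⧸ (maximalIdeal R).map (algebraMap R S)) :=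
    isLocalRing_quotient_of_le_maximalIdeal map_maximalIdeal_le
  rw [← maximalIdeal_quotient_eq_map] at h
  rw [← IsLocalRing.maximalIdeal_height_eq_ringKrullDim,
    ← IsLocalRing.maximalIdeal_height_eq_ringKrullDim,
    ← IsLocalRing.maximalIdeal_height_eq_ringKrullDim]
  exact_mod_cast h

end fibre

section pieces

variable {R : Type u} [CommRing R]

/-- for `x` regular on `M`, `(x) ⊗ M → R ⊗ M` is injective -/
theorem rTensor_span_singleton_injective (x : R) (M : Type u) [AddCommGroup M] [Module R M]
    (hxM : IsSMulRegular M x) :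
    Function.Injective ((Ideal.span {x}).subtype.rTensor M) := by
  set I : Ideal R := Ideal.span {x} with hI
  let x' : I := ⟨x, Ideal.subset_span rfl⟩
  let g : R →ₗ[R] I := LinearMap.toSpanSingleton R I x'
  have hg : Function.Surjective g := by
    rintro ⟨a, ha⟩
    obtain ⟨r, rfl⟩ := Ideal.mem_span_singleton'.mp ha
    exact ⟨r, Subtype.ext (by simp [g, x'])⟩
  rw [injective_iff_map_eq_zero]
  intro t ht
  obtain ⟨u, rfl⟩ := LinearMap.rTensor_surjective M hg t
  obtain ⟨m, rfl⟩ := (TensorProduct.lid R M).symm.surjective u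
  rw [TensorProduct.lid_symm_apply, LinearMap.rTensor_tmul] at ht ⊢
  rw [LinearMap.rTensor_tmul] at ht
  have h1 : (I.subtype (g 1)) = x := by simp [g, x']
  rw [h1] at ht
  have h2 : TensorProduct.lid R M (x ⊗ₜ[R] m) = 0 := by rw [ht, map_zero]
  rw [TensorProduct.lid_tmul] at h2
  have hm : m = 0 := hxM (by simpa using h2)
  rw [hm, TensorProduct.tmul_zero]

variable {S : Type u} [CommRing S] [Algebra R S]

/-- `(R/I) ⊗_R S ≃ S/IS` as `R/I`-modules -/
noncomputable def quotTensorEquivQuotMap (I : Ideal R) :
    ((R ⧸ I) ⊗[R] S) ≃ₗ[R ⧸ I] (S ⧸ I.map (algebraMap R S)) :=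
  LinearEquiv.extendScalarsOfSurjective (Ideal.Quotient.mk_surjective (I := I))
    ((TensorProduct.quotTensorEquivQuotSMul S I) ≪≫ₗ
      (Submodule.quotEquivOfEq _ _ (Ideal.smul_top_eq_map I)) ≪≫ₗ
      (Submodule.Quotient.restrictScalarsEquiv R (I.map (algebraMap R S))))

theorem flat_quot_tensor_of_flat_quot_map (I : Ideal R)
    [Module.Flat (R ⧸ I) (S ⧸ I.map (algebraMap R S))] :
    Module.Flat (R ⧸ I) ((R ⧸ I) ⊗[R] S) :=
  Module.Flat.of_linearEquiv (quotTensorEquivQuotMap I)

end pieces


section miracle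

theorem miracle_flatness_aux (n : ℕ) :
    ∀ (R S : Type u) [CommRing R] [CommRing S] [IsRegularLocalRing R]
      [LocCoh.IsCohenMacaulayLocalRing S] [Algebra R S] [IsLocalHom (algebraMap R S)],
      ringKrullDim R = n →
      ringKrullDim S = ringKrullDim R +
        ringKrullDim (S ⧸ (maximalIdeal R).map (algebraMap R S)) →
      Module.Flat R S := by
  induction n with
  | zero =>
    intro R S _ _ _ _ _ _ hdimR _
    have h2 : ((maximalIdeal R).spanFinrank : WithBot ℕ∞) = ringKrullDim R :=
      IsRegularLocalRing.spanFinrank_maximalIdeal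
    rw [hdimR] at h2
    have h3 : (maximalIdeal R).spanFinrank = 0 := by exact_mod_cast h2
    have h4 : maximalIdeal R = ⊥ :=
      (Submodule.spanFinrank_eq_zero_iff_eq_bot (maximalIdeal R).fg_of_isNoetherianRing).mp h3
    have hf : IsField R := IsLocalRing.isField_iff_maximalIdeal_eq.mpr h4
    let := hf.toField
    have : Module.Free R S := Module.Free.of_divisionRing R S
    infer_instance
  | succ n ih =>
    intro R S _ _ hRreg hScm _ _ hdimR hdim
    have hdom : IsDomain R := isDomain_of_isRegularLocalRing R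
    have hnot : maximalIdeal R ∉ minimalPrimes R := by
      intro hmin
      have h0 : (maximalIdeal R).height = 0 := Ideal.height_eq_zero_iff.mpr hmin
      have h1 := IsLocalRing.maximalIdeal_height_eq_ringKrullDim (R := R)
      rw [h0, hdimR] at h1
      have : (0 : ℕ) = n + 1 := by exact_mod_cast h1
      omega
    obtain ⟨x, hx, hx2, hxn⟩ := exists_mem_maximalIdeal_notMem_sq_notMem_minimalPrimes hnot
    obtain ⟨hregR', hd⟩ := isRegularLocalRing_quotient_of_notMem_sq hx hx2 hxn
    have hdimR' : ringKrullDim (R ⧸ Ideal.span {x}) = n := by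
      obtain ⟨m, hm⟩ := exists_nat_eq_ringKrullDim (R := R ⧸ Ideal.span {x})
      rw [hm, hdimR] at hd
      have : m + 1 = n + 1 := by exact_mod_cast hd
      rw [hm]
      have : m = n := by omega
      exact_mod_cast this
    have hx0 : x ≠ 0 := by
      rintro rfl
      exact hx2 (zero_mem _)
    have hSN : IsNoetherianRing S := inferInstance
    have hSL : IsLocalRing S := inferInstance
    set I : Ideal R := Ideal.span {x} with hI
    set y : S := algebraMap R S x with hy
    set J : Ideal S := I.map (algebraMap R S) with hJ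
    set K : Ideal S := (maximalIdeal R).map (algebraMap R S) with hK
    have hJy : J = Ideal.span {y} := by
      rw [hJ, hI, Ideal.map_span, Set.image_singleton]
    have hIm : I ≤ maximalIdeal R := (Ideal.span_singleton_le_iff_mem _).mpr hx
    have hJK : J ≤ K := Ideal.map_mono hIm
    have hKm : K ≤ maximalIdeal S := map_maximalIdeal_le
    have hym : y ∈ maximalIdeal S := hKm (Ideal.mem_map_of_mem _ hx)
    have hS'L : IsLocalRing (S ⧸ J) := isLocalRing_quotient_of_le_maximalIdeal (hJK.trans hKm)
    have hR'L : IsLocalRing (R ⧸ I) := hregR'.toIsLocalRing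
    -- the map `R/I → S/J` is local
    have hloc' : IsLocalHom (algebraMap (R ⧸ I) (S ⧸ J)) := by
      refine ((IsLocalRing.local_hom_TFAE (algebraMap (R ⧸ I) (S ⧸ J))).out 0 2).mpr ?_
      rw [maximalIdeal_quotient_eq_map I, maximalIdeal_quotient_eq_map J, Ideal.map_map]
      have hcomp : (algebraMap (R ⧸ I) (S ⧸ J)).comp (Ideal.Quotient.mk I) =
          (Ideal.Quotient.mk J).comp (algebraMap R S) := by
        ext r
        rfl
      rw [hcomp, ← Ideal.map_map]
      exact Ideal.map_mono hKm
    -- the fibre rings agree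
    have hfib : (maximalIdeal (R ⧸ I)).map (algebraMap (R ⧸ I) (S ⧸ J)) =
        K.map (Ideal.Quotient.mk J) := by
      rw [maximalIdeal_quotient_eq_map I, Ideal.map_map]
      have hcomp : (algebraMap (R ⧸ I) (S ⧸ J)).comp (Ideal.Quotient.mk I) =
          (Ideal.Quotient.mk J).comp (algebraMap R S) := by
        ext r
        rfl
      rw [hcomp, ← Ideal.map_map]
    have hF : ringKrullDim ((S ⧸ J) ⧸ (maximalIdeal (R ⧸ I)).map (algebraMap (R ⧸ I) (S ⧸ J))) =
        ringKrullDim (S ⧸ K) :=
      ringKrullDim_eq_of_ringEquiv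
        ((Ideal.quotEquivOfEq hfib).trans (DoubleQuot.quotQuotEquivQuotOfLE hJK))
    have hS'N : IsNoetherianRing (S ⧸ J) := inferInstance
    have hle1 := ringKrullDim_le_add_fibre (R := R ⧸ I) (S := S ⧸ J)
    rw [hF, hdimR'] at hle1
    have hJy' : J = y • (⊤ : Ideal S) := by
      rw [hJy]
      simp [← Submodule.ideal_span_singleton_smul]
    have hle2 := ringKrullDim_le_ringKrullDim_quotSMulTop_succ hym
    rw [← ringKrullDim_eq_of_ringEquiv (Ideal.quotEquivOfEq hJy')] at hle2
    have hFL : IsLocalRing (S ⧸ K) := isLocalRing_quotient_of_le_maximalIdeal hKm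
    obtain ⟨f, hf⟩ := exists_nat_eq_ringKrullDim (R := S ⧸ K)
    obtain ⟨d, hd⟩ := exists_nat_eq_ringKrullDim (R := S)
    obtain ⟨d', hd'⟩ := exists_nat_eq_ringKrullDim (R := S ⧸ J)
    rw [hdimR, hf, hd] at hdim
    rw [hd', hf] at hle1
    rw [hd, hd'] at hle2
    have e1 : d = n + 1 + f := by exact_mod_cast hdim
    have e2 : d' ≤ n + f := by exact_mod_cast hle1
    have e3 : d ≤ d' + 1 := by exact_mod_cast hle2
    have e4 : d' = n + f := by omega
    have e5 : d = d' + 1 := by omega
    -- `y` is `S`-regular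
    have hScmM : LocCoh.IsCohenMacaulayModule S S := hScm.supportDim_eq_depth
    have hsd : Module.supportDim S (QuotSMulTop y S) = d' := by
      change Module.supportDim S (S ⧸ y • (⊤ : Ideal S)) = d'
      rw [Module.supportDim_quotient_eq_ringKrullDim,
        ← ringKrullDim_eq_of_ringEquiv (Ideal.quotEquivOfEq hJy'), hd']
    have hyreg : IsSMulRegular S y := by
      refine isSMulRegular_of_supportDim_quotSMulTop S hScmM hym ?_
      rw [hsd, Module.supportDim_self_eq_ringKrullDim, hd, e5]
      push_cast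
      rfl
    -- `S/J` is Cohen–Macaulay
    have hcm' : LocCoh.IsCohenMacaulayModule S (QuotSMulTop y S) :=
      isCohenMacaulayModule_quotSMulTop S hScmM hym hyreg
    have hlocSS' : IsLocalHom (algebraMap S (S ⧸ J)) :=
      IsLocalHom.of_surjective _ Ideal.Quotient.mk_surjective
    have hS'cm : LocCoh.IsCohenMacaulayLocalRing (S ⧸ J) :=
      { supportDim_eq_depth := by
          rw [Module.supportDim_self_eq_ringKrullDim, hd',
            ← depth_eq_of_finite (A := S) (B := S ⧸ J) (S ⧸ J)]
          unfold LocCoh.IsCohenMacaulayModule at hcm'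
          rw [hsd] at hcm'
          rw [hcm']
          have := depth_congr (R := S) (Submodule.quotEquivOfEq _ _ hJy'.symm)
          change LocCoh.depth S (QuotSMulTop y S) = _ at this
          rw [this] }
    have hdim' : ringKrullDim (S ⧸ J) = ringKrullDim (R ⧸ I) +
        ringKrullDim ((S ⧸ J) ⧸ (maximalIdeal (R ⧸ I)).map (algebraMap (R ⧸ I) (S ⧸ J))) := by
      rw [hF, hd', hdimR', hf, e4]
      push_cast
      rfl
    have hflat' : Module.Flat (R ⧸ I) (S ⧸ J) := ih (R ⧸ I) (S ⧸ J) hdimR' hdim'
    have hflat'' : Module.Flat (R ⧸ I) ((R ⧸ I) ⊗[R] S) := flat_quot_tensor_of_flat_quot_map I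
    refine Groth.Agent.Lib.Helper9.flat_of_rTensor_injective_of_le_jacobson (S := S) I ?_ ?_
    · rw [IsLocalRing.jacobson_eq_maximalIdeal ⊥ bot_ne_top]
      exact hJK.trans hKm
    · refine rTensor_span_singleton_injective x S ?_
      intro a b hab
      apply hyreg
      simpa [hy, Algebra.smul_def] using hab

/-- **Miracle flatness** -/
theorem miracle_flatness {R S : Type u} [CommRing R] [CommRing S] [IsRegularLocalRing R]
    [LocCoh.IsCohenMacaulayLocalRing S] [Algebra R S] [IsLocalHom (algebraMap R S)]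
    (hdim : ringKrullDim S = ringKrullDim R +
      ringKrullDim (S ⧸ (IsLocalRing.maximalIdeal R).map (algebraMap R S))) :
    Module.Flat R S := by
  obtain ⟨n, hn⟩ := exists_nat_eq_ringKrullDim (R := R)
  exact miracle_flatness_aux n R S hn hdim

end miracle

end Groth.Agent.Lib.Helper18.CM
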