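import Mathlib
import Groth.Agent.S9501
import Groth.Agent.Lib.Helper18.Miracle

/-!
# Local rings of fibres: `dim O_{X,x} = dim O_{Y,y} + dim O_{X_y,x}` (EGA IV 14.2.1)
-/

set_option autoImplicit false
set_option linter.unusedSectionVars false
set_option linter.style.haveILetI false
universe u
open AlgebraicGeometry CategoryTheory TopologicalSpace

namespace Groth.Agent.Lib.Helper18.FibStalk

section Order

variable {α : Type*} [Preorder α]

theorem coheight_last_add_length_le (q : LTSeries α) :
    Order.coheight q.last + q.length ≤ Order.coheight q.head := by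
  rw [Order.coheight_eq_iSup_head_eq q.last]
  haveI : Nonempty (LTSeries α) := ⟨q⟩
  rw [ENat.iSup_add]
  apply iSup_le
  intro r
  by_cases hr : r.head = q.last
  · rw [iSup_pos hr]
    have := Order.length_le_coheight_head (p := RelSeries.smash q r hr.symm)
    rw [RelSeries.head_smash, RelSeries.smash_length] at this
    rw [add_comm]
    exact_mod_cast this
  · rw [iSup_neg hr]
    have h0 : (⊥ : ℕ∞) = 0 := rfl
    rw [h0, zero_add]
    exact Order.length_le_coheight_head (p := q)

end Order

section Fibre

variable {X Y : Scheme.{u}} (f : X ⟶ Y)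

theorem ringKrullDim_stalk_fiber_eq (x : X) (y : Y) (hy : f x = y) (t : f.fiber y)
    (ht : f.fiberι y t = x) :
    ringKrullDim ((f.fiber y).presheaf.stalk t) =
      ringKrullDim ((f.fiber (f x)).presheaf.stalk (f.asFiber x)) := by
  subst hy
  have : t = f.asFiber x := by
    apply (f.fiberι (f x)).isEmbedding.injective
    rw [ht, Scheme.Hom.fiberι_asFiber]
  rw [this]

theorem fiberι_strictMono (s : Y) : StrictMono (f.fiberι s : f.fiber s → X) := by
  intro a b hab
  rw [lt_iff_le_not_ge] at hab ⊢
  have key : ∀ a b : f.fiber s, f.fiberι s a ≤ f.fiberι s b ↔ a ≤ b := by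
    intro a b
    change f.fiberι s b ⤳ f.fiberι s a ↔ b ⤳ a
    exact (f.fiberι s).isEmbedding.isInducing.specializes_iff
  rw [key, key]
  exact hab

end Fibre

section Main

variable {X Y : Scheme.{u}} [IsLocallyNoetherian Y] (f : X ⟶ Y) [LocallyOfFiniteType f]

/-- fibres of a morphism locally of finite type are locally Noetherian -/
theorem isLocallyNoetherian_fiber (s : Y) : IsLocallyNoetherian (f.fiber s) := by
  haveI : LocallyOfFiniteType (f.fiberToSpecResidueField s) :=
    inferInstanceAs (LocallyOfFiniteType (Limits.pullback.snd f (Y.fromSpecResidueField s)))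
  exact LocallyOfFiniteType.isLocallyNoetherian (f.fiberToSpecResidueField s)

/-- `dim O_{X,x} ≤ dim O_{Y,y} + dim O_{X_y,x}` -/
theorem ringKrullDim_stalk_le_add_fiber (s : Y) (t : f.fiber s) :
    ringKrullDim (X.presheaf.stalk (f.fiberι s t)) ≤
      ringKrullDim (Y.presheaf.stalk (f (f.fiberι s t))) +
        ringKrullDim ((f.fiber s).presheaf.stalk t) := by
  haveI : IsLocallyNoetherian X := LocallyOfFiniteType.isLocallyNoetherian f
  obtain ⟨hsurj, hker⟩ := Groth.Agent.S9501.result f s t
  letI : Algebra (Y.presheaf.stalk (f (f.fiberι s t))) (X.presheaf.stalk (f.fiberι s t)) :=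
    (f.stalkMap (f.fiberι s t)).hom.toAlgebra
  haveI : IsLocalHom (algebraMap (Y.presheaf.stalk (f (f.fiberι s t)))
      (X.presheaf.stalk (f.fiberι s t))) :=
    inferInstanceAs (IsLocalHom (f.stalkMap (f.fiberι s t)).hom)
  have h := Groth.Agent.Lib.Helper18.CM.ringKrullDim_le_add_fibre
    (R := Y.presheaf.stalk (f (f.fiberι s t))) (S := X.presheaf.stalk (f.fiberι s t))
  refine h.trans (le_of_eq ?_)
  congr 1
  have e1 := RingHom.quotientKerEquivOfSurjective hsurj
  have e2 := Ideal.quotEquivOfEq hker
  exact ringKrullDim_eq_of_ringEquiv (e2.symm.trans e1)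

/-- `dim O_{Y,y} + dim O_{X_y,x} ≤ dim O_{X,x}` when the maximal points `z` of the fibre have
`dim O_{X,z} = dim O_{Y,y}` -/
theorem add_fiber_le_ringKrullDim_stalk (s : Y) (t : f.fiber s) (d : WithBot ℕ∞)
    (hb : ∀ z : f.fiber s, ringKrullDim ((f.fiber s).presheaf.stalk z) = 0 →
      ringKrullDim (X.presheaf.stalk (f.fiberι s z)) = d) :
    d + ringKrullDim ((f.fiber s).presheaf.stalk t) ≤
      ringKrullDim (X.presheaf.stalk (f.fiberι s t)) := by
  haveI := isLocallyNoetherian_fiber f s
  have hfin : ringKrullDim ((f.fiber s).presheaf.stalk t) < ⊤ := ringKrullDim_lt_top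
  rw [ringKrullDim_stalk_eq_coheight] at hfin ⊢
  have hne : Order.coheight t ≠ ⊤ := by
    intro h
    rw [h] at hfin
    exact absurd hfin (by simp)
  obtain ⟨n, hn⟩ := ENat.ne_top_iff_exists.mp hne
  obtain ⟨p, hp1, hp2⟩ := Order.exists_series_of_coheight_eq_coe t hn.symm
  have hlast : Order.coheight p.last = 0 := by
    have := Order.coheight_eq_index_of_length_eq_head_coheight (p := p)
      (by rw [hp1, ← hn, hp2]) (Fin.last _)
    change Order.coheight (p.toFun (Fin.last p.length)) = 0
    rw [this]
    simp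
  have hz := hb p.last (by rw [ringKrullDim_stalk_eq_coheight, hlast]; rfl)
  have hchain := coheight_last_add_length_le (p.map (f.fiberι s) (fiberι_strictMono f s))
  rw [LTSeries.last_map, LTSeries.head_map, LTSeries.map_length, hp1, hp2] at hchain
  rw [← hz, ringKrullDim_stalk_eq_coheight, ringKrullDim_stalk_eq_coheight, ← hn]
  exact_mod_cast hchain

end Main

section Equiv

variable {X Y : Scheme.{u}} [IsLocallyNoetherian Y] (f : X ⟶ Y) [LocallyOfFiniteType f]

/-- **EGA IV 14.2.1, (b) ⇒ (a)**. -/
theorem ringKrullDim_stalk_eq_add_fiber (y : Y)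
    (hb : ∀ z : X, f.base z = y →
      ringKrullDim ((f.fiber (f.base z)).presheaf.stalk (f.asFiber z)) = 0 →
        ringKrullDim (X.presheaf.stalk z) = ringKrullDim (Y.presheaf.stalk (f.base z)))
    (x : X) (hx : f.base x = y) :
    ringKrullDim (X.presheaf.stalk x) =
      ringKrullDim (Y.presheaf.stalk (f.base x)) +
        ringKrullDim ((f.fiber (f.base x)).presheaf.stalk (f.asFiber x)) := by
  subst hx
  have hιt : f.fiberι (f x) (f.asFiber x) = x := Scheme.Hom.fiberι_asFiber f x
  have h1 := ringKrullDim_stalk_le_add_fiber f (f x) (f.asFiber x)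
  have h2 := add_fiber_le_ringKrullDim_stalk f (f x) (f.asFiber x)
    (ringKrullDim (Y.presheaf.stalk (f x))) (fun z hz0 => by
      have hfz : f (f.fiberι (f x) z) = f x := (f.fiberHomeo (f x) z).2
      have := hb (f.fiberι (f x) z) hfz (by
        rw [← ringKrullDim_stalk_fiber_eq f (f.fiberι (f x) z) (f x) hfz z rfl]; exact hz0)
      rw [this]
      exact congrArg (fun w => ringKrullDim (Y.presheaf.stalk w)) hfz)
  rw [hιt] at h1 h2
  exact le_antisymm h1 h2

end Equiv

end Groth.Agent.Lib.Helper18.FibStalk
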