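import Mathlib
import Groth.Prelude.Def_CAlg
import Groth.Prelude.Def_EGA4b
import Groth.Agent.Lib.Helper18.FibQuot
import Groth.Agent.Lib.Helper18.J2j
import Groth.Agent.Lib.Helper18.UCat
import Groth.Agent.Lib.Helper12.UnivCat

set_option autoImplicit false
set_option linter.style.haveILetI false
set_option linter.unusedSectionVars false
set_option linter.overlappingInstances false
universe u

open IsLocalRing TensorProduct

namespace Groth.Agent.Lib.Helper18.Exc

section surj

open Groth.Agent.Lib.Helper18.FibQuot

variable (A B : Type u) [CommRing A] [IsNoetherianRing A] [IsLocalRing A]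
  [CommRing B] [IsNoetherianRing B] [IsLocalRing B] [Algebra A B]
  (hs : Function.Surjective (algebraMap A B))

include hs in
/-- regularity of the completion map passes to quotients (and isomorphic copies) -/
theorem isRegularHom_cpl_of_surjective (hA : CAlg.IsRegularHom A (EGA4.Cpl A)) :
    CAlg.IsRegularHom B (EGA4.Cpl B) := by
  obtain ⟨hflat, hfib⟩ := hA
  refine ⟨inferInstance, ?_⟩
  intro p hp
  refine ⟨inferInstance, ?_⟩
  intro k' _ _ hfin
  letI alg : Algebra (p.comap (algebraMap A B)).ResidueField k' :=
    ((algebraMap p.ResidueField k').comp (resMap' A B p)).toAlgebra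
  letI alg2 : Algebra (p.comap (algebraMap A B)).ResidueField p.ResidueField :=
    (resMap' A B p).toAlgebra
  haveI : IsScalarTower (p.comap (algebraMap A B)).ResidueField p.ResidueField k' :=
    IsScalarTower.of_algebraMap_eq (fun _ => rfl)
  haveI : Module.Finite (p.comap (algebraMap A B)).ResidueField p.ResidueField :=
    Module.Finite.of_surjective
      (Algebra.linearMap (p.comap (algebraMap A B)).ResidueField p.ResidueField)
      (resMap'_bijective A B hs p).2
  have hfin' : Module.Finite (p.comap (algebraMap A B)).ResidueField k' :=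
    Module.Finite.trans p.ResidueField k'
  obtain ⟨e⟩ := nonempty_ringEquiv_formalFibre' A B hs p k' rfl
  have := (hfib (p.comap (algebraMap A B))).2 k' hfin'
  exact @IsRegularRing.of_ringEquiv _ _ _ _ e.symm this

end surj


section gring

theorem isRegularHom_cpl_of_ringEquiv {A B : Type u} [CommRing A] [IsNoetherianRing A]
    [IsLocalRing A] [CommRing B] [IsNoetherianRing B] [IsLocalRing B] (e : A ≃+* B)
    (hA : CAlg.IsRegularHom A (EGA4.Cpl A)) : CAlg.IsRegularHom B (EGA4.Cpl B) := by
  letI : Algebra A B := e.toRingHom.toAlgebra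
  exact isRegularHom_cpl_of_surjective A B e.surjective hA

/-- a localization of a G-ring is a G-ring -/
theorem isGRing_of_isLocalization (A : Type u) [CommRing A] (M : Submonoid A) (A' : Type u)
    [CommRing A'] [Algebra A A'] [IsLocalization M A'] (hA : CAlg.IsGRing A) :
    CAlg.IsGRing A' := by
  haveI := hA.1
  haveI : IsNoetherianRing A' := IsLocalization.isNoetherianRing M A' inferInstance
  refine ⟨inferInstance, fun P _ => ?_⟩
  haveI : IsLocalization.AtPrime (Localization.AtPrime P) (P.comap (algebraMap A A')) :=
    IsLocalization.isLocalization_isLocalization_atPrime_isLocalization M _ P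
  let e : Localization.AtPrime (P.comap (algebraMap A A')) ≃+* Localization.AtPrime P :=
    (IsLocalization.algEquiv (P.comap (algebraMap A A')).primeCompl _ _).toRingEquiv
  haveI : IsNoetherianRing (Localization.AtPrime P) :=
    IsLocalization.isNoetherianRing P.primeCompl _ inferInstance
  haveI : IsNoetherianRing (Localization.AtPrime (P.comap (algebraMap A A'))) :=
    IsLocalization.isNoetherianRing (P.comap (algebraMap A A')).primeCompl _ inferInstance
  exact isRegularHom_cpl_of_ringEquiv e (hA.2 (P.comap (algebraMap A A')))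

end gring


section j2

theorem regLocus_eq_preimage_of_isLocalization {B₀ B : Type u} [CommRing B₀] [CommRing B]
    [Algebra B₀ B] (N : Submonoid B₀) [IsLocalization N B] :
    EGA4.regLocus B = PrimeSpectrum.comap (algebraMap B₀ B) ⁻¹' EGA4.regLocus B₀ := by
  ext P
  haveI : IsLocalization.AtPrime (Localization.AtPrime P.asIdeal)
      (P.asIdeal.comap (algebraMap B₀ B)) :=
    IsLocalization.isLocalization_isLocalization_atPrime_isLocalization N _ P.asIdeal
  let e : Localization.AtPrime (P.asIdeal.comap (algebraMap B₀ B)) ≃+*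
      Localization.AtPrime P.asIdeal :=
    (IsLocalization.algEquiv (P.asIdeal.comap (algebraMap B₀ B)).primeCompl _ _).toRingEquiv
  constructor
  · intro h
    have h' : IsRegularLocalRing (Localization.AtPrime P.asIdeal) := h
    exact @IsRegularLocalRing.of_ringEquiv _ _ h' _ _ e.symm
  · intro h
    have h' : IsRegularLocalRing (Localization.AtPrime (P.asIdeal.comap (algebraMap B₀ B))) := h
    exact @IsRegularLocalRing.of_ringEquiv _ _ h' _ _ e

/-- a finite type algebra over a localization `M⁻¹A` is a localization of a finite type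
`A`-algebra -/
theorem exists_subalgebra_isLocalization (A : Type u) [CommRing A] (M : Submonoid A) (A' : Type u)
    [CommRing A'] [Algebra A A'] [IsLocalization M A'] (B : Type u) [CommRing B] [Algebra A' B]
    [Algebra A B] [IsScalarTower A A' B] (hft : Algebra.FiniteType A' B) :
    ∃ B₀ : Subalgebra A B, Algebra.FiniteType A B₀ ∧
      IsLocalization (Algebra.algebraMapSubmonoid B₀ M) B := by
  classical
  obtain ⟨s, hs⟩ := hft.out
  refine ⟨Algebra.adjoin A (s : Set B), (Subalgebra.fg_iff_finiteType _).mp
    (Subalgebra.fg_adjoin_finset s), ?_⟩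
  have key : ∀ b : B, ∃ m ∈ M, algebraMap A B m * b ∈ Algebra.adjoin A (s : Set B) := by
    intro b
    have hb : b ∈ Algebra.adjoin A' (s : Set B) := by rw [hs]; trivial
    induction hb using Algebra.adjoin_induction with
    | mem x hx => exact ⟨1, M.one_mem, by rw [map_one, one_mul]; exact Algebra.subset_adjoin hx⟩
    | algebraMap r =>
      obtain ⟨⟨a, m⟩, hr⟩ := IsLocalization.surj M r
      refine ⟨m.1, m.2, ?_⟩
      have : algebraMap A B m.1 * algebraMap A' B r = algebraMap A B a := by
        rw [IsScalarTower.algebraMap_apply A A' B, IsScalarTower.algebraMap_apply A A' B a,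
          ← map_mul, mul_comm]
        exact congrArg _ hr
      rw [this]
      exact Subalgebra.algebraMap_mem _ a
    | add x y _ _ hx hy =>
      obtain ⟨m₁, hm₁, h₁⟩ := hx
      obtain ⟨m₂, hm₂, h₂⟩ := hy
      refine ⟨m₁ * m₂, M.mul_mem hm₁ hm₂, ?_⟩
      have : algebraMap A B (m₁ * m₂) * (x + y) =
          algebraMap A B m₂ * (algebraMap A B m₁ * x) +
            algebraMap A B m₁ * (algebraMap A B m₂ * y) := by
        rw [map_mul]; ring
      rw [this]
      exact Subalgebra.add_mem _
        (Subalgebra.mul_mem _ (Subalgebra.algebraMap_mem _ m₂) h₁)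
        (Subalgebra.mul_mem _ (Subalgebra.algebraMap_mem _ m₁) h₂)
    | mul x y _ _ hx hy =>
      obtain ⟨m₁, hm₁, h₁⟩ := hx
      obtain ⟨m₂, hm₂, h₂⟩ := hy
      refine ⟨m₁ * m₂, M.mul_mem hm₁ hm₂, ?_⟩
      have : algebraMap A B (m₁ * m₂) * (x * y) =
          (algebraMap A B m₁ * x) * (algebraMap A B m₂ * y) := by
        rw [map_mul]; ring
      rw [this]
      exact Subalgebra.mul_mem _ h₁ h₂
  refine ⟨?_, ?_, ?_⟩
  · rintro ⟨_, m, hm, rfl⟩
    change IsUnit (algebraMap A B m)
    rw [IsScalarTower.algebraMap_apply A A' B]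
    exact (IsLocalization.map_units A' ⟨m, hm⟩).map _
  · intro b
    obtain ⟨m, hm, hmb⟩ := key b
    refine ⟨(⟨_, hmb⟩, ⟨algebraMap A _ m, ⟨m, hm, rfl⟩⟩), ?_⟩
    change b * algebraMap A B m = algebraMap A B m * b
    exact mul_comm _ _
  · intro x y hxy
    exact ⟨1, by rw [Subtype.ext hxy]⟩

/-- a localization of a J-2 ring is J-2 -/
theorem isJ2_of_isLocalization (A : Type u) [CommRing A] (M : Submonoid A) (A' : Type u)
    [CommRing A'] [Algebra A A'] [IsLocalization M A'] (hA : EGA4.IsJ2 A) : EGA4.IsJ2 A' := by
  intro B _ _ hft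
  letI : Algebra A B := ((algebraMap A' B).comp (algebraMap A A')).toAlgebra
  haveI : IsScalarTower A A' B := IsScalarTower.of_algebraMap_eq (fun _ => rfl)
  obtain ⟨B₀, hB₀, hloc⟩ := exists_subalgebra_isLocalization A M A' B hft
  rw [regLocus_eq_preimage_of_isLocalization (Algebra.algebraMapSubmonoid B₀ M)]
  exact (hA B₀ hB₀).preimage (PrimeSpectrum.continuous_comap _)

end j2


section exc

theorem isUniversallyCatenary_of_isLocalization (A : Type u) [CommRing A] (M : Submonoid A)
    (A' : Type u) [CommRing A'] [Algebra A A'] [IsLocalization M A']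
    (hA : CAlg.IsUniversallyCatenary A) : CAlg.IsUniversallyCatenary A' := by
  haveI := hA.1
  haveI : IsNoetherianRing A' := IsLocalization.isNoetherianRing M A' inferInstance
  exact Groth.Agent.Lib.Helper12.Codim.isUniversallyCatenary_of_isLocalization M A'
    (fun n => hA.2 (MvPolynomial (Fin n) A) inferInstance)

theorem isExcellent_of_isLocalization (A : Type u) [CommRing A] (M : Submonoid A)
    (A' : Type u) [CommRing A'] [Algebra A A'] [IsLocalization M A']
    (hA : EGA4.IsExcellent A) : EGA4.IsExcellent A' := by
  obtain ⟨h1, h2, h3, h4⟩ := hA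
  exact ⟨IsLocalization.isNoetherianRing M A' h1,
    isUniversallyCatenary_of_isLocalization A M A' h2,
    isGRing_of_isLocalization A M A' h3, isJ2_of_isLocalization A M A' h4⟩

theorem isQuasiExcellent_of_isLocalization (A : Type u) [CommRing A] (M : Submonoid A)
    (A' : Type u) [CommRing A'] [Algebra A A'] [IsLocalization M A']
    (hA : EGA4.IsQuasiExcellent A) : EGA4.IsQuasiExcellent A' := by
  obtain ⟨h1, h3, h4⟩ := hA
  exact ⟨IsLocalization.isNoetherianRing M A' h1,
    isGRing_of_isLocalization A M A' h3, isJ2_of_isLocalization A M A' h4⟩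

end exc

end Groth.Agent.Lib.Helper18.Exc
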