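import Mathlib
import Groth.Agent.Lib.Helper18.CatHt
import Groth.Agent.Lib.Helper18.SerreNormal
import Groth.Prelude.Def_EGA4b

universe u

namespace Groth.Agent.Lib.Helper18.Hironaka

open IsLocalRing Polynomial

section hull

variable (A : Type u) [CommRing A] [IsDomain A]

/-- `A^(1)` as a subalgebra of the fraction field -/
noncomputable def hullSubalgebra : Subalgebra A (FractionRing A) where
  carrier := EGA4.heightOneHull A
  mul_mem' := by
    intro x y hx hy p hp hph
    obtain ⟨s, hs, a, ha⟩ := hx p hph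
    obtain ⟨s', hs', a', ha'⟩ := hy p hph
    refine ⟨s * s', fun h => (hp.mem_or_mem h).elim hs hs', a * a', ?_⟩
    rw [map_mul, map_mul, ha, ha']
    ring
  one_mem' := by
    intro p hp _
    exact ⟨1, fun h => hp.ne_top ((Ideal.eq_top_iff_one p).2 h), 1, by simp⟩
  add_mem' := by
    intro x y hx hy p hp hph
    obtain ⟨s, hs, a, ha⟩ := hx p hph
    obtain ⟨s', hs', a', ha'⟩ := hy p hph
    refine ⟨s * s', fun h => (hp.mem_or_mem h).elim hs hs', a * s' + a' * s, ?_⟩
    rw [map_add, map_mul, map_mul, map_mul, ha, ha']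
    ring
  zero_mem' := by
    intro p hp _
    exact ⟨1, fun h => hp.ne_top ((Ideal.eq_top_iff_one p).2 h), 0, by simp⟩
  algebraMap_mem' := by
    intro r p hp _
    exact ⟨1, fun h => hp.ne_top ((Ideal.eq_top_iff_one p).2 h), r, by simp⟩

theorem coe_hullSubalgebra :
    ((hullSubalgebra A : Subalgebra A (FractionRing A)) : Set (FractionRing A)) =
      EGA4.heightOneHull A := rfl

variable {A}

theorem heightOneHullFinite_iff :
    EGA4.HeightOneHullFinite A ↔ (Subalgebra.toSubmodule (hullSubalgebra A)).FG := by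
  constructor
  · rintro ⟨B, hB, hfin⟩
    have : B = hullSubalgebra A := SetLike.coe_injective hB
    subst this
    exact Module.Finite.iff_fg.1 hfin
  · intro h
    exact ⟨hullSubalgebra A, rfl, Module.Finite.iff_fg.2 h⟩

variable {S : Type u} [CommRing S] [IsDomain S]

theorem mem_hull_of_ringEquiv (e : A ≃+* S) (x : FractionRing A)
    (hx : x ∈ EGA4.heightOneHull A) :
    IsFractionRing.ringEquivOfRingEquiv (K := FractionRing A) (L := FractionRing S) e x ∈
      EGA4.heightOneHull S := by
  intro P hP hPh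
  have hP' : (P.comap (e : A →+* S)).IsPrime := Ideal.comap_isPrime _ _
  obtain ⟨s, hs, a, ha⟩ := hx (P.comap (e : A →+* S)) (by
    have := RingEquiv.height_comap e P
    rw [← hPh, ← this]
    rfl)
  refine ⟨e s, hs, e a, ?_⟩
  rw [← IsFractionRing.ringEquivOfRingEquiv_algebraMap (K := FractionRing A) (L := FractionRing S),
    ← IsFractionRing.ringEquivOfRingEquiv_algebraMap (K := FractionRing A) (L := FractionRing S),
    ha, map_mul]

theorem heightOneHullFinite_of_ringEquiv (e : A ≃+* S) (h : EGA4.HeightOneHullFinite A) :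
    EGA4.HeightOneHullFinite S := by
  rw [heightOneHullFinite_iff] at h ⊢
  obtain ⟨G, hG⟩ := h
  set E := IsFractionRing.ringEquivOfRingEquiv (K := FractionRing A) (L := FractionRing S) e
    with hE
  classical
  refine ⟨G.image E, ?_⟩
  apply le_antisymm
  · rw [Submodule.span_le]
    intro y hy
    rw [Finset.coe_image] at hy
    obtain ⟨g, hg, rfl⟩ := hy
    have hg' : g ∈ Subalgebra.toSubmodule (hullSubalgebra A) := by
      rw [← hG]; exact Submodule.subset_span hg
    exact mem_hull_of_ringEquiv e g hg'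
  · intro y hy
    have hx : E.symm y ∈ EGA4.heightOneHull A := by
      have := mem_hull_of_ringEquiv e.symm y hy
      exact this
    have hx' : E.symm y ∈ Submodule.span A (G : Set (FractionRing A)) := by
      rw [hG]; exact hx
    have key : ∀ x ∈ Submodule.span A (G : Set (FractionRing A)),
        E x ∈ Submodule.span S ((G.image E : Finset (FractionRing S)) : Set (FractionRing S)) := by
      intro x hx
      induction hx using Submodule.span_induction with
      | mem g hg =>
        apply Submodule.subset_span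
        rw [Finset.coe_image]
        exact ⟨g, hg, rfl⟩
      | zero => rw [map_zero]; exact Submodule.zero_mem _
      | add x y _ _ hx hy => rw [map_add]; exact Submodule.add_mem _ hx hy
      | smul r x _ hx =>
        rw [Algebra.smul_def, map_mul, hE,
          IsFractionRing.ringEquivOfRingEquiv_algebraMap, ← Algebra.smul_def]
        exact Submodule.smul_mem _ _ hx
    have := key _ hx'
    rwa [RingEquiv.apply_symm_apply] at this

end hull

section core

variable (D : Type u) [CommRing D] [IsDomain D]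

local notation "K" => FractionRing D
local notation "ι" => algebraMap D (FractionRing D)

variable {D}

variable (t : D) (p : Ideal D) [hpp : p.IsPrime] (ht0 : t ≠ 0)
  (hp : (Ideal.span {t}).minimalPrimes = {p})

include ht0 hp

omit [IsDomain D] hpp ht0 in
theorem mem_p : t ∈ p := by
  have h : p ∈ (Ideal.span {t}).minimalPrimes := by rw [hp]; exact Set.mem_singleton p
  exact h.1.2 (Ideal.mem_span_singleton_self t)

omit [IsDomain D] hpp in
theorem p_ne_bot : p ≠ ⊥ := by
  intro h
  have := mem_p t p hp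
  rw [h, Ideal.mem_bot] at this
  exact ht0 this

theorem height_p [IsNoetherianRing D] : p.height = 1 := by
  have h : p ∈ (Ideal.span {t}).minimalPrimes := by rw [hp]; exact Set.mem_singleton p
  refine le_antisymm (Ideal.height_le_one_of_isPrincipal_of_mem_minimalPrimes _ _ h) ?_
  rw [Order.one_le_iff_pos, pos_iff_ne_zero]
  intro h0
  rw [Ideal.height_eq_zero_iff, IsDomain.minimalPrimes_eq_singleton_bot,
    Set.mem_singleton_iff] at h0
  exact p_ne_bot t p ht0 hp h0

/-- a height-one prime containing `t` is `p` -/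
theorem eq_p_of_height_one (q : Ideal D) [hq : q.IsPrime] (hqh : q.height = 1) (htq : t ∈ q) :
    q = p := by
  obtain ⟨P, hP, hPq⟩ := Ideal.exists_minimalPrimes_le
    ((Ideal.span_singleton_le_iff_mem q).2 htq)
  rw [hp, Set.mem_singleton_iff] at hP
  subst hP
  by_contra hne
  have hlt : P < q := lt_of_le_of_ne hPq (fun h => hne h.symm)
  have h1 := Ideal.height_add_one_le_of_lt_of_isPrime hlt
  rw [hqh] at h1
  have h2 : P.height = 0 := by
    have h3 : P.height + 1 ≤ 0 + 1 := by rw [zero_add]; exact h1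
    exact le_antisymm ((ENat.add_le_add_iff_right ENat.one_ne_top).1 h3) zero_le
  rw [Ideal.height_eq_zero_iff, IsDomain.minimalPrimes_eq_singleton_bot,
    Set.mem_singleton_iff] at h2
  exact p_ne_bot t P ht0 hp h2

/-- Lemma H -/
theorem div_mem_hull (z : K) (hz : z ∈ EGA4.heightOneHull D)
    (σ d : D) (hσ : σ ∉ p) (h : ι σ * z = ι t * ι d) : z / ι t ∈ EGA4.heightOneHull D := by
  have hι : Function.Injective ι := IsFractionRing.injective D K
  have ht' : ι t ≠ 0 := fun h0 => ht0 (hι (by rw [h0, map_zero]))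
  intro q hq hqh
  by_cases hqp : q = p
  · subst hqp
    refine ⟨σ, hσ, d, ?_⟩
    field_simp
    rw [h, mul_comm]
  · have htq : t ∉ q := fun htq => hqp (eq_p_of_height_one t p ht0 hp q hqh htq)
    obtain ⟨s, hs, a, ha⟩ := hz q hqh
    refine ⟨s * t, fun h => (hq.mem_or_mem h).elim hs htq, a, ?_⟩
    rw [ha, map_mul]
    field_simp

variable [IsNoetherianRing D]

/-- the key step: `A^(1) = D + t A^(1)` -/
theorem exists_eq_add (B : Subalgebra D K) (hB : (B : Set K) = EGA4.heightOneHull D)
    [Module.Finite D B]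
    (hgen : ∀ x ∈ p, ∃ s, s ∉ p ∧ s * x ∈ Ideal.span {t}) [IsIntegrallyClosed (D ⧸ p)]
    (x : K) (hx : x ∈ B) : ∃ b : D, ∃ w ∈ B, x = ι b + ι t * w := by
  have hι : Function.Injective ι := IsFractionRing.injective D K
  have ht' : ι t ≠ 0 := fun h0 => ht0 (hι (by rw [h0, map_zero]))
  have hxh : x ∈ EGA4.heightOneHull D := by rw [← hB]; exact hx
  have hint : IsIntegral D x := (IsIntegral.of_finite D (⟨x, hx⟩ : B)).map B.val
  obtain ⟨f, hfm, hf0⟩ := hint
  obtain ⟨s, hs, a, ha⟩ := hxh p (height_p t p ht0 hp)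
  have hs0 : s ≠ 0 := fun h => hs (h ▸ Ideal.zero_mem p)
  have hs' : ι s ≠ 0 := fun h0 => hs0 (hι (by rw [h0, map_zero]))
  have hxeq : x = ι a / ι s := by rw [ha]; field_simp
  have h1 : eval₂ ι (ι a) (scaleRoots f s) = 0 :=
    scaleRoots_eval₂_eq_zero_of_eval₂_div_eq_zero hι (by rw [← hxeq]; exact hf0)
      (mem_nonZeroDivisors_of_ne_zero hs0)
  have h2 : eval a (scaleRoots f s) = 0 := hι (by rw [← eval₂_at_apply, h1, map_zero])
  have h3 : eval (Ideal.Quotient.mk p a)
      ((f.map (Ideal.Quotient.mk p)).scaleRoots (Ideal.Quotient.mk p s)) = 0 := by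
    rw [← map_scaleRoots _ _ _ (by rw [hfm.leadingCoeff, map_one]; exact one_ne_zero), eval_map,
      eval₂_at_apply, h2, map_zero]
  have hπs : Ideal.Quotient.mk p s ≠ 0 := by rwa [Ne, Ideal.Quotient.eq_zero_iff_mem]
  obtain ⟨c, hc⟩ := Groth.Agent.Lib.Helper18.Serre.dvd_of_scaleRoots_eval_eq_zero
    (Ideal.Quotient.mk p a) (Ideal.Quotient.mk p s) hπs (f.map (Ideal.Quotient.mk p))
    (hfm.map _) h3
  obtain ⟨b, rfl⟩ := Ideal.Quotient.mk_surjective c
  have h4 : a - s * b ∈ p := by
    rw [← Ideal.Quotient.eq_zero_iff_mem, map_sub, map_mul, hc, sub_self]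
  obtain ⟨s', hs'p, h5⟩ := hgen _ h4
  obtain ⟨d, hd⟩ := Ideal.mem_span_singleton'.1 h5
  have hz : x - ι b ∈ B := B.sub_mem hx (B.algebraMap_mem b)
  have hzh : x - ι b ∈ EGA4.heightOneHull D := by rw [← hB]; exact hz
  have hw := div_mem_hull t p ht0 hp (x - ι b) hzh (s' * s) d
    (fun h => (hpp.mem_or_mem h).elim hs'p hs) (by
      have h6 : ι (s' * s) * (x - ι b) = ι (s' * (a - s * b)) := by
        rw [map_mul, map_mul, map_sub, map_mul, ha]; ring
      rw [h6, ← hd, map_mul, mul_comm])
  refine ⟨b, (x - ι b) / ι t, by rw [← SetLike.mem_coe, hB]; exact hw, ?_⟩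
  field_simp
  ring

variable [IsLocalRing D]

/-- `A^(1) = D` -/
theorem exists_eq_algebraMap (B : Subalgebra D K) (hB : (B : Set K) = EGA4.heightOneHull D)
    [Module.Finite D B] (htm : t ∈ maximalIdeal D)
    (hgen : ∀ x ∈ p, ∃ s, s ∉ p ∧ s * x ∈ Ideal.span {t}) [IsIntegrallyClosed (D ⧸ p)]
    (x : K) (hx : x ∈ B) : ∃ b : D, x = ι b := by
  have hfg : (Subalgebra.toSubmodule B).FG :=
    Module.Finite.iff_fg.1 (inferInstanceAs (Module.Finite D B))
  have hle := Submodule.le_of_le_smul_of_le_jacobson_bot (I := Ideal.span {t})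
    (N := LinearMap.range (Algebra.linearMap D K)) (N' := Subalgebra.toSubmodule B) hfg
    (by
      rw [IsLocalRing.jacobson_eq_maximalIdeal ⊥ bot_ne_top]
      exact (Ideal.span_singleton_le_iff_mem _).2 htm)
    (by
      intro y hy
      obtain ⟨b, w, hw, rfl⟩ := exists_eq_add t p ht0 hp B hB hgen y hy
      refine Submodule.add_mem_sup ⟨b, rfl⟩ ?_
      rw [← Algebra.smul_def]
      exact Submodule.smul_mem_smul (Ideal.mem_span_singleton_self t) hw)
  obtain ⟨b, hb⟩ := hle hx
  exact ⟨b, hb.symm⟩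

/-- `p = tD` -/
theorem p_eq_span (B : Subalgebra D K) (hB : (B : Set K) = EGA4.heightOneHull D)
    [Module.Finite D B] (htm : t ∈ maximalIdeal D)
    (hgen : ∀ x ∈ p, ∃ s, s ∉ p ∧ s * x ∈ Ideal.span {t}) [IsIntegrallyClosed (D ⧸ p)] :
    p = Ideal.span {t} := by
  have hι : Function.Injective ι := IsFractionRing.injective D K
  have ht' : ι t ≠ 0 := fun h0 => ht0 (hι (by rw [h0, map_zero]))
  refine le_antisymm ?_ ((Ideal.span_singleton_le_iff_mem _).2 (mem_p t p hp))
  intro c hc
  obtain ⟨σ, hσ, h1⟩ := hgen c hc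
  obtain ⟨d, hd⟩ := Ideal.mem_span_singleton'.1 h1
  have hch : ι c ∈ EGA4.heightOneHull D := by
    rw [← hB]; exact B.algebraMap_mem c
  have hw := div_mem_hull t p ht0 hp (ι c) hch σ d hσ (by
    rw [← map_mul, ← map_mul, ← hd, mul_comm])
  obtain ⟨b, hb⟩ := exists_eq_algebraMap t p ht0 hp B hB htm hgen (ι c / ι t)
    (by rw [← SetLike.mem_coe, hB]; exact hw)
  rw [Ideal.mem_span_singleton']
  refine ⟨b, hι ?_⟩
  rw [map_mul, ← hb]
  field_simp

end core


section main

open Groth.Agent.Lib.Helper18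

/-- `A/t` normal domain ⟹ `A` normal domain (catenary local) -/
theorem normal_of_quotient_normal (A : Type u) [CommRing A] [IsNoetherianRing A] [IsLocalRing A]
    (hcat : CAlg.IsCatenary A) (t : A) (ht : t ∈ IsLocalRing.maximalIdeal A)
    (hreg : t ∈ nonZeroDivisors A)
    [IsDomain (A ⧸ Ideal.span {t})] [IsIntegrallyClosed (A ⧸ Ideal.span {t})] :
    IsDomain A ∧ IsIntegrallyClosed A := by
  have hdom := CatHt.isDomain_of_quotient_isDomain A t ht hreg
  have hreg' : IsSMulRegular A t := Module.Flat.isSMulRegular_of_nonZeroDivisors hreg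
  have heq := CatHt.isEquidim_of_isDomain A
  have hB := (Serre.serre_criterion_normal (A ⧸ Ideal.span {t})).1
    (fun p _ => ⟨IsLocalization.isDomain_of_le_nonZeroDivisors (Localization.AtPrime p)
        (Ideal.primeCompl_le_nonZeroDivisors p),
      isIntegrallyClosed_of_isLocalization (Localization.AtPrime p) p.primeCompl
        (Ideal.primeCompl_le_nonZeroDivisors p)⟩)
  have hR1 := CatHt.hasRk_of_hasRk_quotient A hcat heq t ht hreg' 1 hB.1
  have hS2 := SkLift.hasSk_of_hasSk_quotient t 2 ht hreg' hB.2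
  exact ⟨hdom, Serre.isIntegrallyClosed_of_isDomain_of_R1_S2 hR1 hS2⟩

theorem isIntegrallyClosed_quotient_of_eq {R : Type u} [CommRing R] {I J : Ideal R} (h : I = J)
    [IsIntegrallyClosed (R ⧸ I)] : IsIntegrallyClosed (R ⧸ J) := by
  subst h; infer_instance

/-- Hironaka's lemma for a domain -/
theorem hironaka_domain (D : Type u) [CommRing D] [IsDomain D] [IsNoetherianRing D]
    [IsLocalRing D] (hcat : CAlg.IsCatenary D) (hH : EGA4.HeightOneHullFinite D) (t : D)
    (htm : t ∈ maximalIdeal D) (ht0 : t ≠ 0) (p : Ideal D) [hpp : p.IsPrime]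
    (hp : (Ideal.span {t}).minimalPrimes = {p})
    (hgen : ∀ x ∈ p, ∃ s, s ∉ p ∧ s * x ∈ Ideal.span {t}) [IsIntegrallyClosed (D ⧸ p)] :
    IsIntegrallyClosed D ∧ p = Ideal.span {t} := by
  obtain ⟨B, hB, hfin⟩ := hH
  have hpe := p_eq_span t p ht0 hp B hB htm hgen
  refine ⟨?_, hpe⟩
  have hprime : (Ideal.span {t}).IsPrime := hpe ▸ hpp
  have h1 : IsDomain (D ⧸ Ideal.span {t}) := Ideal.Quotient.isDomain _
  have h2 : IsIntegrallyClosed (D ⧸ Ideal.span {t}) := isIntegrallyClosed_quotient_of_eq hpe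
  exact (normal_of_quotient_normal D hcat t htm (mem_nonZeroDivisors_of_ne_zero ht0)).2

end main

section final

open Groth.Agent.Lib.Helper18

theorem mem_nonZeroDivisors_of_isSMulRegular {R : Type u} [CommRing R] {x : R}
    (h : IsSMulRegular R x) : x ∈ nonZeroDivisors R := by
  refine mem_nonZeroDivisors_iff.mpr ⟨fun y hy => ?_, fun y hy => ?_⟩
  · exact h (by simpa using hy)
  · exact h (by simpa [mul_comm] using hy)

theorem exists_mul_mem_of_maximalIdeal_eq {A : Type u} [CommRing A] (p : Ideal A) [p.IsPrime]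
    (t : A)
    (hgen : IsLocalRing.maximalIdeal (Localization.AtPrime p) =
      Ideal.span {algebraMap A (Localization.AtPrime p) t}) :
    ∀ x ∈ p, ∃ s, s ∉ p ∧ s * x ∈ Ideal.span {t} := by
  intro x hx
  have h1 : algebraMap A (Localization.AtPrime p) x ∈
      IsLocalRing.maximalIdeal (Localization.AtPrime p) := by
    rw [← Localization.AtPrime.map_eq_maximalIdeal]
    exact Ideal.mem_map_of_mem _ hx
  rw [hgen, Ideal.mem_span_singleton'] at h1
  obtain ⟨c, hc⟩ := h1
  obtain ⟨⟨a, s⟩, rfl⟩ := IsLocalization.mk'_surjective p.primeCompl c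
  have h2 : algebraMap A (Localization.AtPrime p) (a * t) =
      algebraMap A (Localization.AtPrime p) (s * x) := by
    rw [map_mul, map_mul, ← hc, ← mul_assoc, mul_comm (algebraMap A _ (s : A)),
      IsLocalization.mk'_spec]
  obtain ⟨s', hs'⟩ := (IsLocalization.eq_iff_exists p.primeCompl _).1 h2
  refine ⟨s' * s, fun h => ((‹p.IsPrime›).mem_or_mem h).elim s'.2 s.2, ?_⟩
  rw [mul_assoc, ← hs', Ideal.mem_span_singleton']
  exact ⟨s' * a, by ring⟩

/-- **Hironaka's lemma** -/
theorem hironaka (A : Type u) [CommRing A] [IsNoetherianRing A] [IsLocalRing A]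
    (hcat : CAlg.IsCatenary A) [IsReduced A] (heq : EGA4.IsEquidim A)
    (hfin : ∀ (q : Ideal A) [q.IsPrime], q ∈ minimalPrimes A → EGA4.HeightOneHullFinite (A ⧸ q))
    (t : A) (ht : t ∈ IsLocalRing.maximalIdeal A) (hreg : t ∈ nonZeroDivisors A)
    (p : Ideal A) [hpp : p.IsPrime] (hp : (Ideal.span {t}).minimalPrimes = {p})
    (hgen : IsLocalRing.maximalIdeal (Localization.AtPrime p) =
      Ideal.span {algebraMap A (Localization.AtPrime p) t})
    [IsIntegrallyClosed (A ⧸ p)] :
    IsDomain A ∧ IsIntegrallyClosed A ∧ p = Ideal.span {t} := by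
  set S := Localization.AtPrime p with hS
  have hreg' : IsSMulRegular A t := Module.Flat.isSMulRegular_of_nonZeroDivisors hreg
  have hpmin : p ∈ (Ideal.span {t}).minimalPrimes := by rw [hp]; exact Set.mem_singleton p
  have htp : t ∈ p := hpmin.1.2 (Ideal.mem_span_singleton_self t)
  -- a. `S` is a domain
  have hSdom : IsDomain S := by
    have hprime : (Ideal.span {algebraMap A S t}).IsPrime :=
      hgen ▸ (IsLocalRing.maximalIdeal.isMaximal S).isPrime
    have : IsDomain (S ⧸ Ideal.span {algebraMap A S t}) := Ideal.Quotient.isDomain _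
    refine CatHt.isDomain_of_quotient_isDomain S (algebraMap A S t)
      (by rw [hgen]; exact Ideal.mem_span_singleton_self _) ?_
    have h1 := Serre.isSMulRegular_algebraMap_localization t hreg' p
    exact mem_nonZeroDivisors_of_isSMulRegular h1
  -- b. the kernel of `A → S`
  set q₀ : Ideal A := RingHom.ker (algebraMap A S) with hq₀def
  have hq₀ : q₀.IsPrime := RingHom.ker_isPrime _
  have hpne : p.height ≠ 0 := by
    intro h0
    rw [Ideal.height_eq_zero_iff] at h0
    exact Set.disjoint_left.1 (Ideal.disjoint_nonZeroDivisors_of_mem_minimalPrimes h0) htp hreg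
  -- c. every minimal prime is `q₀`
  have hmin : ∀ q ∈ minimalPrimes A, q = q₀ := by
    intro q hq
    have hqp : q.IsPrime := hq.1.1
    have htq : t ∉ q := fun h =>
      Set.disjoint_left.1 (Ideal.disjoint_nonZeroDivisors_of_mem_minimalPrimes hq) h hreg
    have hne : q ⊔ Ideal.span {t} ≠ ⊤ := by
      intro h
      have hle : q ⊔ Ideal.span {t} ≤ IsLocalRing.maximalIdeal A :=
        sup_le (IsLocalRing.le_maximalIdeal hqp.ne_top)
          ((Ideal.span_singleton_le_iff_mem _).2 ht)
      rw [h] at hle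
      exact (IsLocalRing.maximalIdeal.isMaximal A).ne_top (top_le_iff.1 hle)
    obtain ⟨P, hP⟩ := Ideal.nonempty_minimalPrimes hne
    have hPp : P.IsPrime := hP.1.1
    have hqP : q ≤ P := le_sup_left.trans hP.1.2
    have htP : t ∈ P := hP.1.2 (Ideal.mem_sup_right (Ideal.mem_span_singleton_self t))
    have h1 := CatHt.height_le_succ_of_mem_minimalPrimes A hcat heq t q P hP
    rw [Ideal.height_eq_zero_iff.2 hq, zero_add] at h1
    obtain ⟨p', hp', hp'P⟩ := Ideal.exists_minimalPrimes_le
      ((Ideal.span_singleton_le_iff_mem P).2 htP)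
    rw [hp, Set.mem_singleton_iff] at hp'
    subst hp'
    have hpP : p' = P := by
      by_contra hne'
      have hlt : p' < P := lt_of_le_of_ne hp'P hne'
      have h2 := (Ideal.height_add_one_le_of_lt_of_isPrime hlt).trans h1
      have h3 : p'.height + 1 ≤ 0 + 1 := by rw [zero_add]; exact h2
      exact hpne (le_antisymm ((ENat.add_le_add_iff_right ENat.one_ne_top).1 h3) zero_le)
    have hqp' : q ≤ p' := hpP ▸ hqP
    have hq₀q : q₀ ≤ q := by
      intro a ha
      rw [hq₀def, RingHom.mem_ker, IsLocalization.map_eq_zero_iff p'.primeCompl S a] at ha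
      obtain ⟨s, hs⟩ := ha
      have h4 : (s : A) * a ∈ q := by rw [hs]; exact Ideal.zero_mem q
      exact (hqp.mem_or_mem h4).resolve_left (fun h => s.2 (hqp' h))
    exact le_antisymm (hq.2 ⟨hq₀, bot_le⟩ hq₀q) hq₀q
  -- d. `q₀ = ⊥`
  have hbot : q₀ = ⊥ := by
    have hset : minimalPrimes A = {q₀} := by
      obtain ⟨q, hq⟩ := Ideal.nonempty_minimalPrimes (bot_ne_top (α := Ideal A))
      apply Set.eq_singleton_iff_nonempty_unique_mem.2
      exact ⟨⟨q, hq⟩, hmin⟩
    have h1 : sInf (minimalPrimes A) = (⊥ : Ideal A).radical := Ideal.sInf_minimalPrimes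
    rw [hset, sInf_singleton] at h1
    rw [h1]
    exact nilradical_eq_zero A
  have hbotprime : (⊥ : Ideal A).IsPrime := hbot ▸ hq₀
  have hnzd : NoZeroDivisors A := ⟨fun {a b} hab => by
    have h0 : a * b ∈ (⊥ : Ideal A) := by rw [hab]; exact Ideal.zero_mem _
    rcases hbotprime.mem_or_mem h0 with h | h
    · left; simpa using h
    · right; simpa using h⟩
  have hdom : IsDomain A := { hnzd with exists_pair_ne := ⟨0, 1, zero_ne_one⟩ }
  have hH : EGA4.HeightOneHullFinite A :=
    heightOneHullFinite_of_ringEquiv (RingEquiv.quotientBot A) (hfin ⊥ (by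
      rw [← hbot]
      obtain ⟨q, hq⟩ := Ideal.nonempty_minimalPrimes (bot_ne_top (α := Ideal A))
      exact (hmin q hq) ▸ hq))
  have hfinal := hironaka_domain A hcat hH t ht (nonZeroDivisors.ne_zero hreg) p hp
    (exists_mul_mem_of_maximalIdeal_eq p t hgen)
  exact ⟨hdom, hfinal.1, hfinal.2⟩

end final

end Groth.Agent.Lib.Helper18.Hironaka
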