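import Mathlib
import Groth.Agent.Lib.Helper18.Hironaka
import Groth.Agent.Lib.Helper18.NorOpen

universe u

namespace Groth.Agent.Lib.Helper18.Hull

open Groth.Agent.Lib.Helper18 Groth.Agent.Lib.Helper18.Hironaka IsLocalRing

theorem height_le_height_comap_of_isIntegral {A B : Type*} [CommRing A] [CommRing B] [Algebra A B]
    [Algebra.IsIntegral A B] (Q : Ideal B) [hQ : Q.IsPrime] :
    Q.height ≤ (Q.comap (algebraMap A B)).height := by
  have hsm : StrictMono (PrimeSpectrum.comap (algebraMap A B)) := by
    intro I J hIJ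
    have := I.2
    exact Ideal.IsIntegral.comap_lt_comap (R := A) (I := I.asIdeal) (J := J.asIdeal) hIJ
  have h := Order.height_le_height_apply_of_strictMono _ hsm (⟨Q, hQ⟩ : PrimeSpectrum B)
  rw [← PrimeSpectrum.height_eq_orderHeight, ← PrimeSpectrum.height_eq_orderHeight] at h
  exact h

section S2

variable {A : Type u} [CommRing A] [IsDomain A] [IsNoetherianRing A]
  {B : Type u} [CommRing B] [IsDomain B] [Algebra A B] (j : B →ₐ[A] FractionRing A)
  (hj : Function.Injective j) (hB : Set.range j = EGA4.heightOneHull A)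

include hj hB

omit [IsNoetherianRing A] [IsDomain B] in
/-- associated primes of `B/bB` have height ≤ 1, for `B = A^(1)` integral over `A` -/
theorem height_le_one_of_mem_associatedPrimes [IsNoetherianRing B] [Algebra.IsIntegral A B]
    (b : B) (hb : b ≠ 0) (Q : Ideal B)
    (hQ : Q ∈ associatedPrimes B (B ⧸ Ideal.span {b})) : Q.height ≤ 1 := by
  obtain ⟨hQp, ybar, hQeq⟩ := (isAssociatedPrime_iff).1 hQ
  obtain ⟨y, rfl⟩ := Ideal.Quotient.mk_surjective ybar
  have hmem : ∀ c ∈ Q, c * y ∈ Ideal.span {b} := by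
    intro c hc
    rw [hQeq, Submodule.mem_colon_singleton, Submodule.mem_bot] at hc
    rw [← Ideal.Quotient.eq_zero_iff_mem]
    exact hc
  have hy : y ∉ Ideal.span {b} := by
    intro hy
    apply hQp.ne_top
    rw [Ideal.eq_top_iff_one, hQeq, Submodule.mem_colon_singleton, Submodule.mem_bot, one_smul]
    exact Ideal.Quotient.eq_zero_iff_mem.2 hy
  have hbK : j b ≠ 0 := fun h => hb (hj (by rw [h, map_zero]))
  -- `z = y / b ∉ A^(1)`
  have hz : j y / j b ∉ EGA4.heightOneHull A := by
    intro hz
    rw [← hB] at hz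
    obtain ⟨w, hw⟩ := hz
    apply hy
    rw [Ideal.mem_span_singleton']
    refine ⟨w, hj ?_⟩
    rw [map_mul, hw]
    field_simp
  have hz' : ∃ (P : Ideal A) (_ : P.IsPrime), P.height = 1 ∧ ¬ ∃ s : A, s ∉ P ∧ ∃ a : A,
      algebraMap A (FractionRing A) a = algebraMap A (FractionRing A) s * (j y / j b) := by
    by_contra hcon
    apply hz
    intro P hP hPh
    by_contra h2
    exact hcon ⟨P, hP, hPh, h2⟩
  obtain ⟨P, hP, hPh, hPz⟩ := hz'
  have hle : Q.comap (algebraMap A B) ≤ P := by
    intro s hs
    by_contra hsP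
    have h1 := hmem _ hs
    rw [Ideal.mem_span_singleton'] at h1
    obtain ⟨w, hw⟩ := h1
    have hwh : j w ∈ EGA4.heightOneHull A := by rw [← hB]; exact ⟨w, rfl⟩
    obtain ⟨s', hs', a, ha⟩ := hwh P hPh
    apply hPz
    refine ⟨s' * s, fun h => (hP.mem_or_mem h).elim hs' hsP, a, ?_⟩
    have hw' : j w * j b = algebraMap A (FractionRing A) s * j y := by
      rw [← map_mul, hw, map_mul, AlgHom.commutes]
    have hw2 : j w = algebraMap A (FractionRing A) s * j y / j b := by
      field_simp
      exact hw'
    rw [ha, map_mul, hw2]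
    ring
  calc Q.height ≤ (Q.comap (algebraMap A B)).height := height_le_height_comap_of_isIntegral Q
    _ ≤ P.height := Ideal.height_mono hle
    _ = 1 := hPh

omit [IsNoetherianRing A] in
/-- `A^(1)` (when integral over `A` and Noetherian) satisfies `(S_2)` -/
theorem hasSk_two [IsNoetherianRing B] [Algebra.IsIntegral A B] : LocCoh.HasSk 2 B B := by
  rw [Serre.hasSk_self_iff]
  intro Q hQ
  by_cases hQbot : Q = ⊥
  · subst hQbot
    have h0 : (⊥ : Ideal B).height = 0 := by
      rw [Ideal.height_eq_zero_iff, IsDomain.minimalPrimes_eq_singleton_bot]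
      rfl
    rw [h0]
    exact (min_le_right _ _).trans (by exact_mod_cast zero_le)
  · obtain ⟨b, hbQ, hb0⟩ := Submodule.exists_mem_ne_zero_of_ne_bot hQbot
    set S := Localization.AtPrime Q with hS
    have hSdom : IsDomain S := IsLocalization.isDomain_of_le_nonZeroDivisors S
      (Ideal.primeCompl_le_nonZeroDivisors Q)
    have hinj : Function.Injective (algebraMap B S) :=
      IsLocalization.injective S (Ideal.primeCompl_le_nonZeroDivisors Q)
    have hb' : algebraMap B S b ≠ 0 := fun h => hb0 (hinj (by rw [h, map_zero]))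
    have hreg : IsSMulRegular S (algebraMap B S b) := fun x y h => mul_left_cancel₀ hb' h
    have hd0 : LocCoh.depth S S ≠ 0 := by
      intro h0
      rw [NorOpen.depth_localization_eq_zero_iff] at h0
      obtain ⟨_, x, hx⟩ := isAssociatedPrime_iff.1 h0
      have hx0 : x ≠ 0 := by
        rintro rfl
        apply hQ.ne_top
        rw [Ideal.eq_top_iff_one, hx, Submodule.mem_colon_singleton, smul_zero]
        exact Submodule.zero_mem _
      rw [hx, Submodule.mem_colon_singleton, Submodule.mem_bot, smul_eq_mul] at hbQ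
      rcases mul_eq_zero.1 hbQ with h | h
      · exact hb0 h
      · exact hx0 h
    by_cases hd1 : LocCoh.depth S S = 1
    · have h1 := NorOpen.mem_associatedPrimes_quotient_of_depth_eq_one Q b hbQ hreg hd1
      have h2 := height_le_one_of_mem_associatedPrimes j hj hB b hb0 Q h1
      rw [hd1]
      exact (min_le_right _ _).trans (by exact_mod_cast h2)
    · have h2 : 2 ≤ LocCoh.depth S S := by
        have h3 : 1 ≤ LocCoh.depth S S := Order.one_le_iff_ne_zero.2 hd0
        have h4 : 1 < LocCoh.depth S S := lt_of_le_of_ne h3 (Ne.symm hd1)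
        have h5 := Order.add_one_le_of_lt h4
        rwa [one_add_one_eq_two] at h5
      have h6 : ((2 : ℕ) : WithBot ℕ∞) ≤ ((LocCoh.depth S S : ℕ∞) : WithBot ℕ∞) :=
        WithBot.coe_le_coe.2 h2
      exact (min_le_left _ _).trans h6

end S2

end Groth.Agent.Lib.Helper18.Hull
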