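import Mathlib.RingTheory.Regular.RegularSequence

set_option autoImplicit false

open RingTheory.Sequence Function

namespace Groth.Agent.Lib.Helper18

universe u v

section

variable {R : Type u} [CommRing R]

/-- `QuotSMulTop.map r f` is injective when `f` is injective with `r`-regular cokernel. -/
lemma quotSMulTop_map_injective {M' M M'' : Type*} [AddCommGroup M'] [Module R M']
    [AddCommGroup M] [Module R M] [AddCommGroup M''] [Module R M'']
    {f : M' →ₗ[R] M} {g : M →ₗ[R] M''} (hf : Injective f) (hfg : Exact f g) (r : R)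
    (h : IsSMulRegular M'' r) : Injective (QuotSMulTop.map r f) := by
  have h0 : Exact (0 : PUnit.{1} →ₗ[R] M') f := by
    intro x
    constructor
    · intro hx
      exact ⟨0, by simpa using (hf (hx.trans (map_zero f).symm)).symm⟩
    · rintro ⟨y, rfl⟩
      simp
  have := QuotSMulTop.map_first_exact_on_four_term_exact_of_isSMulRegular_last h0 hfg h
  rw [← LinearMap.ker_eq_bot, eq_bot_iff]
  intro x hx
  obtain ⟨y, rfl⟩ := (this x).mp hx
  simp [Subsingleton.elim y 0]

/-- Weak regularity on both ends of a short exact sequence gives it in the middle. -/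
lemma isWeaklyRegular_of_exact (rs : List R) : ∀ {M' M M'' : Type v} [AddCommGroup M'] [Module R M']
    [AddCommGroup M] [Module R M] [AddCommGroup M''] [Module R M'']
    {f : M' →ₗ[R] M} {g : M →ₗ[R] M''} (_ : Injective f) (_ : Exact f g) (_ : Surjective g)
    (_ : IsWeaklyRegular M' rs) (_ : IsWeaklyRegular M'' rs), IsWeaklyRegular M rs := by
  induction rs with
  | nil => intros; exact IsWeaklyRegular.nil _ _
  | cons r rs ih =>
    intro M' M M'' _ _ _ _ _ _ f g hf hfg hg h1 h2
    rw [isWeaklyRegular_cons_iff] at h1 h2 ⊢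
    refine ⟨isSMulRegular_of_range_eq_ker hf hfg.linearMap_ker_eq.symm h1.1 h2.1, ?_⟩
    exact ih (quotSMulTop_map_injective hf hfg r h2.1) (QuotSMulTop.map_exact r hfg hg)
      (QuotSMulTop.map_surjective r hg) h1.2 h2.2

end

section MulSES

open Pointwise

variable {R : Type u} [CommRing R] (M : Type v) [AddCommGroup M] [Module R M] (x y : R)

/-- multiplication by `y` as a map `M/xM → M/(xy)M`. -/
def quotMulLeft : QuotSMulTop x M →ₗ[R] QuotSMulTop (x * y) M :=
  Submodule.mapQ _ _ (LinearMap.lsmul R M y) (by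
    intro m hm
    obtain ⟨m', -, rfl⟩ := (Submodule.mem_smul_pointwise_iff_exists _ _ _).mp hm
    refine (Submodule.mem_smul_pointwise_iff_exists _ _ _).mpr ⟨m', Submodule.mem_top, ?_⟩
    simp [mul_smul])

/-- the projection `M/(xy)M → M/yM`. -/
def quotMulRight : QuotSMulTop (x * y) M →ₗ[R] QuotSMulTop y M :=
  Submodule.mapQ _ _ LinearMap.id (by
    intro m hm
    obtain ⟨m', -, rfl⟩ := (Submodule.mem_smul_pointwise_iff_exists _ _ _).mp hm
    refine (Submodule.mem_smul_pointwise_iff_exists _ _ _).mpr ⟨x • m', Submodule.mem_top, ?_⟩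
    simp [mul_smul, smul_comm y x])

lemma quotMulLeft_injective (hy : IsSMulRegular M y) : Injective (quotMulLeft M x y) := by
  rw [← LinearMap.ker_eq_bot, eq_bot_iff]
  intro q hq
  obtain ⟨m, rfl⟩ := Submodule.Quotient.mk_surjective _ q
  rw [LinearMap.mem_ker, quotMulLeft, Submodule.mapQ_apply, Submodule.Quotient.mk_eq_zero] at hq
  obtain ⟨m', -, hm'⟩ := (Submodule.mem_smul_pointwise_iff_exists _ _ _).mp hq
  rw [Submodule.mem_bot, Submodule.Quotient.mk_eq_zero]
  refine (Submodule.mem_smul_pointwise_iff_exists _ _ _).mpr ⟨m', Submodule.mem_top, ?_⟩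
  apply hy
  simp only [LinearMap.lsmul_apply] at hm'
  simp only
  rw [← hm', mul_smul, smul_comm y x]

lemma quotMul_exact : Exact (quotMulLeft M x y) (quotMulRight M x y) := by
  intro q
  constructor
  · intro hq
    obtain ⟨m, rfl⟩ := Submodule.Quotient.mk_surjective _ q
    rw [quotMulRight, Submodule.mapQ_apply, Submodule.Quotient.mk_eq_zero] at hq
    obtain ⟨m', -, hm'⟩ := (Submodule.mem_smul_pointwise_iff_exists _ _ _).mp hq
    refine ⟨Submodule.Quotient.mk m', ?_⟩
    rw [quotMulLeft, Submodule.mapQ_apply]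
    simp only [LinearMap.lsmul_apply, LinearMap.id_apply] at hm' ⊢
    rw [hm']
  · rintro ⟨q', rfl⟩
    obtain ⟨m, rfl⟩ := Submodule.Quotient.mk_surjective _ q'
    rw [quotMulLeft, Submodule.mapQ_apply, quotMulRight, Submodule.mapQ_apply,
      Submodule.Quotient.mk_eq_zero]
    exact (Submodule.mem_smul_pointwise_iff_exists _ _ _).mpr ⟨m, Submodule.mem_top, rfl⟩

lemma quotMulRight_surjective : Surjective (quotMulRight M x y) := by
  intro q
  obtain ⟨m, rfl⟩ := Submodule.Quotient.mk_surjective _ q
  exact ⟨Submodule.Quotient.mk m, rfl⟩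

variable {M x y} in
lemma isWeaklyRegular_quotSMulTop_mul {rs : List R} (hy : IsSMulRegular M y)
    (h1 : IsWeaklyRegular (QuotSMulTop x M) rs) (h2 : IsWeaklyRegular (QuotSMulTop y M) rs) :
    IsWeaklyRegular (QuotSMulTop (x * y) M) rs :=
  isWeaklyRegular_of_exact rs (quotMulLeft_injective M x y hy) (quotMul_exact M x y)
    (quotMulRight_surjective M x y) h1 h2

variable {M x} in
lemma isWeaklyRegular_quotSMulTop_pow {rs : List R} (hx : IsSMulRegular M x)
    (h1 : IsWeaklyRegular (QuotSMulTop x M) rs) (v : ℕ) :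
    IsWeaklyRegular (QuotSMulTop (x ^ (v + 1)) M) rs := by
  induction v with
  | zero =>
    have e : x ^ (0 + 1) = x := by simp
    rw [e]
    exact h1
  | succ v ih =>
    rw [pow_succ']
    exact isWeaklyRegular_quotSMulTop_mul (hx.pow (v + 1)) h1 ih

end MulSES

end Groth.Agent.Lib.Helper18
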