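import Mathlib
import Groth.Prelude.Def_EGA4b
import Groth.Agent.Lib.Helper18.PMor4

set_option linter.style.haveILetI false
set_option linter.unusedSectionVars false

open TensorProduct IsLocalRing nonZeroDivisors

universe u

namespace Groth.Agent.Lib.Helper18.FinDom

open Groth.Agent.Lib.Helper18.PMor Groth.Agent.Lib.Helper18.FormFib
  Groth.Agent.Lib.Helper18.FibBridge

section construct

theorem exists_finite_subalgebra_isFractionRing
    (A : Type u) [CommRing A] (p : Ideal A) [p.IsPrime] (K : Type u) [Field K]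
    [Algebra p.ResidueField K] [Module.Finite p.ResidueField K] [Algebra A K]
    [IsScalarTower A p.ResidueField K] :
    ∃ B : Subalgebra A K, Module.Finite A B ∧ IsFractionRing B K := by
  classical
  letI : Algebra (A ⧸ p) K :=
    ((algebraMap p.ResidueField K).comp (algebraMap (A ⧸ p) p.ResidueField)).toAlgebra
  haveI : IsScalarTower (A ⧸ p) p.ResidueField K := IsScalarTower.of_algebraMap_eq (fun _ => rfl)
  haveI : IsScalarTower A (A ⧸ p) K := by
    refine IsScalarTower.of_algebraMap_eq (fun a => ?_)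
    rw [IsScalarTower.algebraMap_apply A p.ResidueField K]
    rfl
  obtain ⟨s, b, hb⟩ := FiniteDimensional.exists_is_basis_integral (A ⧸ p) p.ResidueField K
  have hbA : ∀ x, IsIntegral A (b x) := by
    intro x
    haveI : Algebra.IsIntegral A (A ⧸ p) := inferInstance
    exact isIntegral_trans (R := A) (A := A ⧸ p) (b x) (hb x)
  refine ⟨Algebra.adjoin A (Set.range b), ?_, ?_⟩
  · apply Algebra.finite_adjoin_of_finite_of_isIntegral (Set.finite_range b)
    rintro _ ⟨x, rfl⟩
    exact hbA x
  · have hbmem : ∀ i, b i ∈ Algebra.adjoin A (Set.range b) :=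
      fun i => Algebra.subset_adjoin ⟨i, rfl⟩
    refine ⟨?_, ?_, ?_⟩
    · rintro ⟨y, hy⟩
      rw [isUnit_iff_ne_zero]
      intro h0
      have : (y : Algebra.adjoin A (Set.range b)) = 0 := Subtype.ext h0
      exact (nonZeroDivisors.ne_zero hy) this
    · intro z
      obtain ⟨a, ha⟩ := IsLocalization.exist_integer_multiples (A ⧸ p)⁰ Finset.univ
        (fun i => b.repr z i)
      obtain ⟨a', ha'⟩ := Ideal.Quotient.mk_surjective (a : A ⧸ p)
      have ha0 : algebraMap A K a' ≠ 0 := by
        rw [IsScalarTower.algebraMap_apply A (A ⧸ p) K, IsScalarTower.algebraMap_apply (A ⧸ p)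
          p.ResidueField K]
        have h1 : algebraMap (A ⧸ p) p.ResidueField (algebraMap A (A ⧸ p) a') ≠ 0 := by
          have : algebraMap A (A ⧸ p) a' = (a : A ⧸ p) := ha'
          rw [this]
          exact IsFractionRing.to_map_ne_zero_of_mem_nonZeroDivisors a.2
        exact (map_ne_zero _).mpr h1
      have hmem : algebraMap A K a' * z ∈ Algebra.adjoin A (Set.range b) := by
        have hz : z = ∑ i, b.repr z i • b i := (b.sum_repr z).symm
        rw [hz, Finset.mul_sum]
        refine Subalgebra.sum_mem _ (fun i _ => ?_)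
        obtain ⟨d, hd⟩ := ha i (Finset.mem_univ i)
        obtain ⟨d', rfl⟩ := Ideal.Quotient.mk_surjective d
        have h2 : algebraMap A K a' * (b.repr z i • b i) = algebraMap A K d' * b i := by
          rw [Algebra.smul_def, ← mul_assoc]
          congr 1
          rw [IsScalarTower.algebraMap_apply A p.ResidueField K a',
            IsScalarTower.algebraMap_apply A p.ResidueField K d', ← map_mul]
          congr 1
          have h3 : algebraMap A p.ResidueField a' =
              algebraMap (A ⧸ p) p.ResidueField (a : A ⧸ p) := by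
            rw [← ha']; rfl
          have h4 : algebraMap A p.ResidueField d' =
              algebraMap (A ⧸ p) p.ResidueField (Ideal.Quotient.mk p d') := rfl
          rw [h3, h4, hd, Algebra.smul_def]
        rw [h2]
        exact Subalgebra.mul_mem _ (Subalgebra.algebraMap_mem _ d') (hbmem i)
      refine ⟨(⟨_, hmem⟩, ⟨algebraMap A (Algebra.adjoin A (Set.range b)) a', ?_⟩), ?_⟩
      · rw [mem_nonZeroDivisors_iff_ne_zero]
        intro h0
        apply ha0
        have := congrArg (Subtype.val) h0
        exact this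
      · change z * algebraMap A K a' = algebraMap A K a' * z
        ring
    · intro x y hxy
      exact ⟨1, by
        simp only [OneMemClass.coe_one, one_mul]
        exact Subtype.ext hxy⟩

end construct

section dir

variable (B R : Type u) [CommRing B] [IsDomain B] [CommRing R] [Algebra B R]

/-- the local ring at a prime over `(0)` is the fibre local ring -/
noncomputable def fibLocEquiv (q : Ideal R) [q.IsPrime] (hq : q.comap (algebraMap B R) = ⊥) :
    EGA4.FibLocRing B R q ≃+* Localization.AtPrime q :=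
  (Ideal.quotEquivOfEq (by rw [hq, Ideal.map_bot])).trans (RingEquiv.quotientBot _)

theorem exists_prime_fiber_ringEquiv (q : Ideal R) [q.IsPrime]
    (hq : q.comap (algebraMap B R) = ⊥) :
    ∃ (Q' : Ideal ((⊥ : Ideal B).Fiber R)) (_ : Q'.IsPrime),
      Nonempty (Localization.AtPrime Q' ≃+* Localization.AtPrime q) := by
  obtain ⟨Q', hQ', hctr⟩ := exists_prime_of_comap_eq (⊥ : Ideal B) q hq
  subst hctr
  obtain ⟨e⟩ := nonempty_ringEquiv (⊥ : Ideal B) Q'
  exact ⟨Q', hQ', ⟨e.trans (fibLocEquiv B R _ hq)⟩⟩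

theorem nonempty_ringEquiv_of_prime_fiber (Q' : Ideal ((⊥ : Ideal B).Fiber R)) [Q'.IsPrime] :
    Nonempty (Localization.AtPrime Q' ≃+* Localization.AtPrime (ctr (⊥ : Ideal B) Q')) := by
  obtain ⟨e⟩ := nonempty_ringEquiv (⊥ : Ideal B) Q'
  exact ⟨e.trans (fibLocEquiv B R _ (ctr_comap (⊥ : Ideal B) Q'))⟩

end dir

section chain

variable (A : Type u) [CommRing A] (p : Ideal A) [p.IsPrime] (K : Type u) [Field K]
  [Algebra p.ResidueField K] [Algebra A K] [IsScalarTower A p.ResidueField K]
  (C : Type u) [CommRing C] [Algebra A C]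
  (B : Subalgebra A K) [IsFractionRing B K]

/-- `κ_B(0) ⊗_B (B ⊗_A C) ≃ K ⊗_{κ(p)} (κ(p) ⊗_A C)` when `K = Frac B` -/
theorem nonempty_ringEquiv_fiber_bot :
    Nonempty ((⊥ : Ideal B).Fiber (B ⊗[A] C) ≃+* K ⊗[p.ResidueField] (p.Fiber C)) := by
  let e₁ := (Algebra.TensorProduct.cancelBaseChange A B (⊥ : Ideal B).ResidueField
    (⊥ : Ideal B).ResidueField C).toRingEquiv
  let eK : K ≃ₐ[B] (⊥ : Ideal B).ResidueField :=
    IsLocalization.algEquiv (nonZeroDivisors B) K (⊥ : Ideal B).ResidueField
  let e₂ : (⊥ : Ideal B).ResidueField ⊗[A] C ≃ₐ[A] K ⊗[A] C :=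
    Algebra.TensorProduct.congr (eK.restrictScalars A).symm AlgEquiv.refl
  let e₃ := (Algebra.TensorProduct.comm A K C).toRingEquiv
  let e₄ := eB A C p K
  exact ⟨e₁.trans (e₂.toRingEquiv.trans (e₃.trans e₄))⟩

end chain

section dir2

variable (B R : Type u) [CommRing B] [IsDomain B] [CommRing R] [Algebra B R]

theorem isReduced_atPrime_of_isReduced_fiber (h : IsReduced ((⊥ : Ideal B).Fiber R))
    (q : Ideal R) [q.IsPrime] (hq : q.comap (algebraMap B R) = ⊥) :
    IsReduced (Localization.AtPrime q) := by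
  obtain ⟨Q', hQ', ⟨e⟩⟩ := exists_prime_fiber_ringEquiv B R q hq
  haveI : IsReduced (Localization.AtPrime Q') := inferInstance
  exact isReduced_of_injective e.symm.toRingHom e.symm.injective

theorem isReduced_fiber_of_forall
    (h : ∀ (q : Ideal R) [q.IsPrime], q.comap (algebraMap B R) = ⊥ →
      IsReduced (Localization.AtPrime q)) :
    IsReduced ((⊥ : Ideal B).Fiber R) := by
  apply isReduced_ofLocalizationMaximal
  intro Q hQ
  obtain ⟨e⟩ := nonempty_ringEquiv_of_prime_fiber B R Q
  haveI := h (ctr (⊥ : Ideal B) Q) (ctr_comap (⊥ : Ideal B) Q)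
  exact isReduced_of_injective e.toRingHom e.injective

theorem isRegularLocalRing_atPrime_of_isRegularRing_fiber
    (h : IsRegularRing ((⊥ : Ideal B).Fiber R))
    (q : Ideal R) [q.IsPrime] (hq : q.comap (algebraMap B R) = ⊥) :
    IsRegularLocalRing (Localization.AtPrime q) := by
  obtain ⟨Q', hQ', ⟨e⟩⟩ := exists_prime_fiber_ringEquiv B R q hq
  haveI := h.isRegularLocalRing_localization Q'
  exact @IsRegularLocalRing.of_ringEquiv (Localization.AtPrime Q') _ _ _ _ e

theorem isRegularRing_fiber_of_forall [IsNoetherianRing ((⊥ : Ideal B).Fiber R)]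
    (h : ∀ (q : Ideal R) [q.IsPrime], q.comap (algebraMap B R) = ⊥ →
      IsRegularLocalRing (Localization.AtPrime q)) :
    IsRegularRing ((⊥ : Ideal B).Fiber R) := by
  rw [isRegularRing_iff]
  intro Q hQ
  obtain ⟨e⟩ := nonempty_ringEquiv_of_prime_fiber B R Q
  haveI := h (ctr (⊥ : Ideal B) Q) (ctr_comap (⊥ : Ideal B) Q)
  exact @IsRegularLocalRing.of_ringEquiv (Localization.AtPrime (ctr (⊥ : Ideal B) Q)) _ _ _ _ e.symm

end dir2

end Groth.Agent.Lib.Helper18.FinDom


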