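import Mathlib
import Groth.Prelude.Def_CAlg
import Groth.Prelude.Def_EGA4b
import Groth.Agent.Lib.Helper18.Exc
import Groth.Agent.Lib.Helper18.FinDom
import Groth.Agent.Lib.Helper18.LocHom
import Groth.Agent.Lib.Helper23.RegularCompletion
import Groth.Agent.Lib.Helper23.GeomRegular2

set_option autoImplicit false
set_option linter.style.haveILetI false
set_option linter.unusedSectionVars false
set_option linter.overlappingInstances false
universe u

open IsLocalRing TensorProduct

namespace Groth.Agent.Lib.Helper18.Exc

section perfect

open Groth.Agent.Lib.Helper23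

/-- over a perfect field, regular Noetherian algebras are geometrically regular -/
theorem geomRegular_of_isRegularRing_of_perfectField (k S : Type u) [Field k] [PerfectField k]
    [CommRing S] [Algebra k S] [IsNoetherianRing S] (h : IsRegularRing S) :
    CAlg.IsGeometricallyRegular k S := by
  apply GeomRegular2.geomRegular_of_purelyInseparable
  intro k' _ _ hfin hpi
  haveI : Algebra.IsAlgebraic k k' := Algebra.IsAlgebraic.of_finite k k'
  haveI : Algebra.IsSeparable k k' := Algebra.IsAlgebraic.isSeparable_of_perfectField
  have hsurj : Function.Surjective (algebraMap k k') :=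
    IsPurelyInseparable.surjective_algebraMap_of_isSeparable k k'
  have hbij : Function.Bijective (algebraMap k k') := ⟨(algebraMap k k').injective, hsurj⟩
  let σ : k ≃ₐ[k] k' := AlgEquiv.ofBijective (Algebra.ofId k k') hbij
  let e : S ≃ₐ[k] k' ⊗[k] S :=
    (Algebra.TensorProduct.lid k S).symm.trans (Algebra.TensorProduct.congr σ AlgEquiv.refl)
  exact IsRegularRing.of_ringEquiv e.toRingEquiv

end perfect

section complete

open Groth.Agent.Lib.Helper18.LocHom

/-- for a complete local ring the completion map is an isomorphism, hence regular -/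
theorem isRegularHom_cpl_of_isAdicComplete (R : Type u) [CommRing R] [IsNoetherianRing R]
    [IsLocalRing R] [IsAdicComplete (maximalIdeal R) R] : CAlg.IsRegularHom R (EGA4.Cpl R) := by
  haveI : IsLocalization (⊥ : Submonoid R) R := IsLocalization.self (by
    rintro x hx
    rw [Submonoid.mem_bot] at hx
    rw [hx]
    exact isUnit_one)
  haveI : IsLocalization (⊥ : Submonoid R) (EGA4.Cpl R) :=
    IsLocalization.isLocalization_of_algEquiv ⊥ (AdicCompletion.ofAlgEquiv (maximalIdeal R))
  exact isRegularHom_of_isLocalization R ⊥ (EGA4.Cpl R)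

end complete


section quot

open Groth.Agent.Lib.Helper18.FibQuot

variable (A : Type u) [CommRing A] [IsNoetherianRing A] [IsLocalRing A]
  (I : Ideal A) [Nontrivial (A ⧸ I)] (qb : Ideal (A ⧸ I)) [qb.IsPrime]

/-- geometric regularity of a formal fibre of `A` follows from that of the corresponding formal
fibre of a quotient `A/I` -/
theorem geomRegular_formalFibre_of_quotient
    (h : CAlg.IsGeometricallyRegular qb.ResidueField (EGA4.formalFibre (A ⧸ I) qb)) :
    CAlg.IsGeometricallyRegular (qb.comap (algebraMap A (A ⧸ I))).ResidueField
      (EGA4.formalFibre A (qb.comap (algebraMap A (A ⧸ I)))) := by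
  intro k' _ _ hfin
  let σ : (qb.comap (algebraMap A (A ⧸ I))).ResidueField ≃+* qb.ResidueField :=
    RingEquiv.ofBijective (resMap A I qb) (resMap_bijective A I qb)
  letI alg : Algebra qb.ResidueField k' :=
    ((algebraMap (qb.comap (algebraMap A (A ⧸ I))).ResidueField k').comp σ.symm.toRingHom).toAlgebra
  have hcomp : algebraMap (qb.comap (algebraMap A (A ⧸ I))).ResidueField k' =
      (algebraMap qb.ResidueField k').comp (resMap A I qb) := by
    refine RingHom.ext (fun x => ?_)
    change _ = algebraMap (qb.comap (algebraMap A (A ⧸ I))).ResidueField k' (σ.symm (σ x))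
    rw [RingEquiv.symm_apply_apply]
  letI alg2 : Algebra qb.ResidueField (qb.comap (algebraMap A (A ⧸ I))).ResidueField :=
    σ.symm.toRingHom.toAlgebra
  haveI : IsScalarTower qb.ResidueField (qb.comap (algebraMap A (A ⧸ I))).ResidueField k' :=
    IsScalarTower.of_algebraMap_eq (fun _ => rfl)
  haveI : Module.Finite qb.ResidueField (qb.comap (algebraMap A (A ⧸ I))).ResidueField :=
    Module.Finite.of_surjective
      (Algebra.linearMap qb.ResidueField (qb.comap (algebraMap A (A ⧸ I))).ResidueField)
      σ.symm.surjective
  have hfin' : Module.Finite qb.ResidueField k' :=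
    Module.Finite.trans (qb.comap (algebraMap A (A ⧸ I))).ResidueField k'
  obtain ⟨e⟩ := nonempty_ringEquiv_formalFibre A I qb k' hcomp
  have := h k' hfin'
  exact @IsRegularRing.of_ringEquiv _ _ _ _ e this

end quot


section closed

theorem geomRegular_formalFibre_congr {D : Type u} [CommRing D] [IsLocalRing D]
    {q q' : Ideal D} [q.IsPrime] [q'.IsPrime] (h : q = q') :
    CAlg.IsGeometricallyRegular q.ResidueField (EGA4.formalFibre D q) →
      CAlg.IsGeometricallyRegular q'.ResidueField (EGA4.formalFibre D q') := by
  subst h
  exact id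

/-- a field is complete -/
theorem isAdicComplete_of_isField (F : Type u) [CommRing F] [IsLocalRing F] (hF : IsField F) :
    IsAdicComplete (maximalIdeal F) F := by
  rw [IsLocalRing.isField_iff_maximalIdeal_eq.mp hF]
  infer_instance

/-- the closed formal fibre of a Noetherian local ring is geometrically regular -/
theorem geomRegular_formalFibre_maximalIdeal (D : Type u) [CommRing D] [IsNoetherianRing D]
    [IsLocalRing D] :
    CAlg.IsGeometricallyRegular (maximalIdeal D).ResidueField
      (EGA4.formalFibre D (maximalIdeal D)) := by
  haveI : Nontrivial (D ⧸ maximalIdeal D) := Ideal.Quotient.nontrivial_iff.mpr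
    (Ideal.IsPrime.ne_top inferInstance)
  have hF : IsField (D ⧸ maximalIdeal D) :=
    (Ideal.Quotient.maximal_ideal_iff_isField_quotient _).mp inferInstance
  haveI : IsLocalRing (D ⧸ maximalIdeal D) :=
    IsLocalRing.of_surjective' (Ideal.Quotient.mk (maximalIdeal D)) Ideal.Quotient.mk_surjective
  haveI := isAdicComplete_of_isField (D ⧸ maximalIdeal D) hF
  have hreg := isRegularHom_cpl_of_isAdicComplete (D ⧸ maximalIdeal D)
  haveI hbot : (⊥ : Ideal (D ⧸ maximalIdeal D)).IsPrime := by
    letI := hF.toField
    exact Ideal.isPrime_bot
  have h1 := geomRegular_formalFibre_of_quotient D (maximalIdeal D) ⊥ (hreg.2 ⊥).2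
  have hc : (⊥ : Ideal (D ⧸ maximalIdeal D)).comap (algebraMap D (D ⧸ maximalIdeal D)) =
      maximalIdeal D := by
    rw [← RingHom.ker_eq_comap_bot]
    exact Ideal.mk_ker
  exact geomRegular_formalFibre_congr hc h1

end closed


section generic

open Groth.Agent.Lib.Helper23 Groth.Agent.Lib.Helper18.FinDom

/-- the generic formal fibre of a regular local domain of characteristic zero is geometrically
regular -/
theorem geomRegular_formalFibre_bot (D : Type u) [CommRing D] [IsDomain D] [IsLocalRing D]
    [CharZero D] [hD : IsRegularRing D] :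
    CAlg.IsGeometricallyRegular (⊥ : Ideal D).ResidueField (EGA4.formalFibre D ⊥) := by
  haveI : IsNoetherianRing D := inferInstance
  have hreg : IsRegularRing (EGA4.Cpl D) := RegularCompletion.t5785main D (maximalIdeal D)
  haveI : IsNoetherianRing (EGA4.Cpl D) := inferInstance
  haveI : IsNoetherianRing ((⊥ : Ideal D).Fiber (EGA4.Cpl D)) := inferInstance
  have hfreg : IsRegularRing ((⊥ : Ideal D).Fiber (EGA4.Cpl D)) :=
    isRegularRing_fiber_of_forall D (EGA4.Cpl D)
      (fun q _ _ => hreg.isRegularLocalRing_localization q)
  have hinj : Function.Injective (algebraMap D (⊥ : Ideal D).ResidueField) := by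
    rw [injective_iff_map_eq_zero]
    intro x hx
    exact (Ideal.mem_bot).mp (Ideal.algebraMap_residueField_eq_zero.mp hx)
  haveI : CharZero (⊥ : Ideal D).ResidueField := charZero_of_injective_algebraMap hinj
  exact geomRegular_of_isRegularRing_of_perfectField _ _ hfreg

end generic


section dedekind

/-- a regular local domain of dimension `≤ 1` and characteristic zero has a regular completion
map -/
theorem isRegularHom_cpl_of_dimLEOne (D : Type u) [CommRing D] [IsDomain D] [IsLocalRing D]
    [CharZero D] [hD : IsRegularRing D] [Ring.DimensionLEOne D] :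
    CAlg.IsRegularHom D (EGA4.Cpl D) := by
  haveI : IsNoetherianRing D := inferInstance
  haveI : IsNoetherianRing (EGA4.Cpl D) := inferInstance
  refine ⟨inferInstance, fun q hqp => ⟨inferInstance, ?_⟩⟩
  by_cases hq : q = ⊥
  · subst hq
    exact geomRegular_formalFibre_bot D
  · have hmax : q.IsMaximal := Ring.DimensionLEOne.maximalOfPrime hq hqp
    have := IsLocalRing.eq_maximalIdeal hmax
    subst this
    exact geomRegular_formalFibre_maximalIdeal D

/-- a Dedekind domain of characteristic zero is a G-ring -/
theorem isGRing_dedekind (A : Type u) [CommRing A] [IsDedekindDomain A] [CharZero A] :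
    CAlg.IsGRing A := by
  refine ⟨inferInstance, fun p _ => ?_⟩
  haveI : IsDedekindDomain (Localization.AtPrime p) :=
    IsLocalization.isDedekindDomain A p.primeCompl_le_nonZeroDivisors _
  haveI : CharZero (Localization.AtPrime p) :=
    charZero_of_injective_algebraMap
      (IsLocalization.injective (Localization.AtPrime p) p.primeCompl_le_nonZeroDivisors)
  exact isRegularHom_cpl_of_dimLEOne (Localization.AtPrime p)

/-- a Dedekind domain of characteristic zero is excellent -/
theorem isExcellent_dedekind (A : Type u) [CommRing A] [IsDedekindDomain A] [CharZero A] :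
    EGA4.IsExcellent A := by
  haveI : LocCoh.IsCohenMacaulayRing A :=
    Groth.Agent.Lib.Helper18.PMor.isCohenMacaulayRing_of_isRegularRing inferInstance
  exact ⟨inferInstance,
    Groth.Agent.Lib.Helper18.UCat.isUniversallyCatenary_of_isCohenMacaulayRing A,
    isGRing_dedekind A, Groth.Agent.Lib.Helper18.J2.isJ2_dedekind A⟩

end dedekind

end Groth.Agent.Lib.Helper18.Exc
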