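import Mathlib
import Groth.Agent.Lib.Helper18.CST2
import Groth.Agent.Lib.Helper15.RigClosed
import Groth.Agent.Lib.Helper28.ArtinLocalFinite
import Groth.Agent.Lib.Helper12.IntegralDim
import Groth.Agent.Lib.Helper23.CohenDomain
import Groth.Agent.Lib.Helper23.CohenEq
import Groth.Agent.Lib.Helper18.SerreReg2

set_option autoImplicit false
set_option linter.unusedSectionVars false
set_option linter.style.haveILetI false
universe u
open IsLocalRing MvPowerSeries

namespace Groth.Agent.Lib.Helper18.CST


section finite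

variable {P R : Type u} [CommRing P] [IsLocalRing P] [IsNoetherianRing P]
  [hcP : IsAdicComplete (maximalIdeal P) P]
  [CommRing R] [IsLocalRing R] [IsNoetherianRing R]

/-- a quasi-finite local homomorphism from a complete local ring with trivial residue field
extension is finite -/
theorem finite_of_mem_minimalPrimes (f : P →+* R)
    (hsurj : Function.Surjective ((residue R).comp f))
    (hmin : maximalIdeal R ∈ ((maximalIdeal P).map f).minimalPrimes) : f.Finite := by
  letI : Algebra P R := f.toAlgebra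
  change Module.Finite P R
  have hJle : (maximalIdeal P).map f ≤ maximalIdeal R := hmin.1.2
  haveI hH : IsHausdorff (maximalIdeal P) R := by
    refine ⟨fun a ha => ?_⟩
    have hA : IsHausdorff (maximalIdeal R) R := inferInstance
    apply hA.haus'
    intro m
    have h1 := ha m
    rw [SModEq.zero] at h1 ⊢
    rw [Ideal.smul_top_eq_map, Submodule.restrictScalars_mem, Ideal.map_pow] at h1
    rw [smul_eq_mul, Ideal.mul_top]
    exact Ideal.pow_right_mono hJle m h1
  apply Groth.Agent.Lib.Helper15.finite_of_finite_quotient_of_isAdicComplete (maximalIdeal P)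
  haveI hart : IsArtinianRing (R ⧸ (maximalIdeal P).map f) :=
    IsLocalRing.quotient_artinian_of_mem_minimalPrimes_of_isLocalRing _ hmin
  haveI : Nontrivial (R ⧸ (maximalIdeal P).map f) :=
    Ideal.Quotient.nontrivial_iff.mpr
      (fun h => (maximalIdeal.isMaximal R).ne_top (top_le_iff.mp (h ▸ hJle)))
  haveI hloc : IsLocalRing (R ⧸ (maximalIdeal P).map f) :=
    IsLocalRing.of_surjective' (Ideal.Quotient.mk _) Ideal.Quotient.mk_surjective
  haveI hfinres : Module.Finite P ((R ⧸ (maximalIdeal P).map f) ⧸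
      maximalIdeal (R ⧸ (maximalIdeal P).map f)) := by
    apply Module.Finite.of_surjective (Algebra.linearMap P _)
    intro y
    obtain ⟨y', rfl⟩ := Ideal.Quotient.mk_surjective y
    obtain ⟨a, rfl⟩ := Ideal.Quotient.mk_surjective y'
    obtain ⟨b, hb⟩ := hsurj (residue R a)
    refine ⟨b, ?_⟩
    have hb' : f b - a ∈ maximalIdeal R := by
      rw [← Ideal.Quotient.eq]
      exact hb
    change Ideal.Quotient.mk _ (Ideal.Quotient.mk _ (f b)) = _
    rw [Ideal.Quotient.eq, ← map_sub, IsLocalRing.mem_maximalIdeal]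
    intro hu
    have hlh : IsLocalHom (Ideal.Quotient.mk ((maximalIdeal P).map f)) :=
      IsLocalHom.of_surjective _ Ideal.Quotient.mk_surjective
    exact (IsLocalRing.mem_maximalIdeal _).mp hb' (IsLocalHom.map_nonunit _ hu)
  haveI hfin₁ : Module.Finite P (R ⧸ (maximalIdeal P).map f) :=
    Groth.Agent.Lib.Helper28.finite_of_residue_finite
  have hsub : (maximalIdeal P • ⊤ : Submodule P R) =
      ((maximalIdeal P).map f).restrictScalars P := by
    rw [Ideal.smul_top_eq_map]
    rfl
  rw [hsub]
  let g : R ⧸ (maximalIdeal P).map f →ₗ[P] R ⧸ ((maximalIdeal P).map f).restrictScalars P :=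
    Submodule.liftQ (((maximalIdeal P).map f).restrictScalars P)
      (Submodule.mkQ _) (by
        intro a ha
        rw [LinearMap.mem_ker, Submodule.mkQ_apply, Submodule.Quotient.mk_eq_zero]
        exact ha)
  have hg : Function.Surjective g := by
    intro y
    obtain ⟨a, rfl⟩ := Submodule.Quotient.mk_surjective _ y
    exact ⟨Ideal.Quotient.mk _ a, rfl⟩
  exact Module.Finite.of_surjective g hg

end finite

section eval

variable {W R : Type u} [CommRing W] [IsLocalRing W] [IsNoetherianRing W]
  [hcW : IsAdicComplete (maximalIdeal W) W]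
  [CommRing R] [IsLocalRing R] [IsNoetherianRing R] [hcR : IsAdicComplete (maximalIdeal R) R]

/-- evaluation of power series over `W` at elements of the maximal ideal of a complete local
ring -/
theorem exists_eval_mvPowerSeries (v : W →+* R)
    (hsurj : Function.Surjective ((residue R).comp v)) {n : ℕ} (x : Fin n → R)
    (hx : ∀ i, x i ∈ maximalIdeal R) :
    ∃ f : MvPowerSeries (Fin n) W →+* R, (∀ w, f (MvPowerSeries.C w) = v w) ∧
      ∀ i, f (MvPowerSeries.X i) = x i := by
  letI : Algebra W (ResidueField R) := ((residue R).comp v).toAlgebra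
  letI : Algebra W R := v.toAlgebra
  let RW : ArtFun.CRing W (ResidueField R) :=
    { carrier := W
      res := Algebra.ofId W (ResidueField R)
      res_surjective := hsurj
      isAdicComplete := hcW }
  let SR : ArtFun.CRing W (ResidueField R) :=
    { carrier := R
      res := { residue R with commutes' := fun w => rfl }
      res_surjective := residue_surjective
      isAdicComplete := hcR }
  let u : RW.carrier →ₐ[W] SR.carrier := Algebra.ofId W R
  have hu : SR.res.comp u = RW.res := by
    apply AlgHom.ext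
    intro w
    rfl
  obtain ⟨g, -, hgC, hgX⟩ := Groth.Agent.Lib.Helper1.ArtFunLib.exists_psEvalC (R := RW) (S := SR)
    u hu x hx
  exact ⟨(g : MvPowerSeries (Fin n) W →+* R), fun w => hgC w, hgX⟩

end eval

section inj

/-- a finite map from a domain of dimension at most that of the (finite-dimensional) target
is injective -/
theorem injective_of_finite_of_ringKrullDim_le {P R : Type u} [CommRing P] [IsDomain P]
    [CommRing R] [IsLocalRing R] [IsNoetherianRing R]
    (f : P →+* R) (hf : f.Finite) (hdim : ringKrullDim P ≤ ringKrullDim R) :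
    Function.Injective f := by
  rw [injective_iff_map_eq_zero]
  intro F hF
  by_contra hF0
  letI : Algebra P R := f.toAlgebra
  haveI : Module.Finite P R := hf
  obtain ⟨𝔨, h𝔨⟩ : ∃ 𝔨 : Ideal P, 𝔨 = RingHom.ker (algebraMap P R) := ⟨_, rfl⟩
  have hF𝔨 : F ∈ 𝔨 := by rw [h𝔨]; exact hF
  letI : Algebra (P ⧸ 𝔨) R :=
    (Ideal.Quotient.lift 𝔨 (algebraMap P R) (fun a ha => by rw [h𝔨] at ha; exact ha)).toAlgebra
  haveI : IsScalarTower P (P ⧸ 𝔨) R :=
    IsScalarTower.of_algebraMap_eq (R := P) (S := P ⧸ 𝔨) (A := R) (fun _ => rfl)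
  haveI : Algebra.IsIntegral (P ⧸ 𝔨) R := by
    haveI : Module.Finite (P ⧸ 𝔨) R := Module.Finite.of_restrictScalars_finite P _ _
    infer_instance
  have hinj : Function.Injective (algebraMap (P ⧸ 𝔨) R) := by
    rw [injective_iff_map_eq_zero]
    intro y hy
    obtain ⟨G, rfl⟩ := Ideal.Quotient.mk_surjective y
    rw [Ideal.Quotient.eq_zero_iff_mem, h𝔨]
    exact hy
  have hdim1 := Groth.Agent.Lib.Helper12.ringKrullDim_eq_of_isIntegral_of_injective (P ⧸ 𝔨) R hinj
  have hdim2 : ringKrullDim (P ⧸ 𝔨) + 1 ≤ ringKrullDim P :=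
    ringKrullDim_succ_le_of_surjective (Ideal.Quotient.mk 𝔨) Ideal.Quotient.mk_surjective
      (mem_nonZeroDivisors_of_ne_zero hF0) (Ideal.Quotient.eq_zero_iff_mem.mpr hF𝔨)
  rw [hdim1] at hdim2
  have h3 : ringKrullDim R + 1 ≤ ringKrullDim R := le_trans hdim2 hdim
  obtain ⟨d, hd⟩ := Groth.Agent.Lib.Helper18.SerreReg.exists_ringKrullDim_eq_nat R
  rw [hd] at h3
  have h4 : ((d + 1 : ℕ) : WithBot ℕ∞) ≤ (d : ℕ) := by exact_mod_cast h3
  have h5 : d + 1 ≤ d := by exact_mod_cast h4
  omega

end inj

section sop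

/-- a system of parameters through a given nonzerodivisor of the maximal ideal -/
theorem exists_sop_of_nonZeroDivisor (R : Type u) [CommRing R] [IsLocalRing R] [IsNoetherianRing R]
    (a : R) (ha : a ∈ maximalIdeal R) (hreg : a ∈ nonZeroDivisors R) :
    ∃ (n : ℕ) (x : Fin n → R), (∀ i, x i ∈ maximalIdeal R) ∧
      maximalIdeal R ∈ (Ideal.span {a} ⊔ Ideal.span (Set.range x)).minimalPrimes ∧
      ((n : WithBot ℕ∞) + 1 ≤ ringKrullDim R) := by
  classical
  have hle : Ideal.span {a} ≤ maximalIdeal R := by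
    rw [Ideal.span_le, Set.singleton_subset_iff]; exact ha
  haveI : Nontrivial (R ⧸ Ideal.span {a}) :=
    Ideal.Quotient.nontrivial_iff.mpr
      (fun h => (maximalIdeal.isMaximal R).ne_top (top_le_iff.mp (h ▸ hle)))
  haveI hloc : IsLocalRing (R ⧸ Ideal.span {a}) :=
    IsLocalRing.of_surjective' (Ideal.Quotient.mk _) Ideal.Quotient.mk_surjective
  have hmk : Function.Surjective (Ideal.Quotient.mk (Ideal.span {a})) :=
    Ideal.Quotient.mk_surjective
  obtain ⟨s, hsmin, hscard⟩ :=
    Ideal.exists_finset_card_eq_height_of_isNoetherianRing (maximalIdeal (R ⧸ Ideal.span {a}))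
  obtain ⟨n, hn⟩ : ∃ n, n = s.card := ⟨_, rfl⟩
  let xb : Fin n → R ⧸ Ideal.span {a} := fun i => ((s.equivFin.symm (Fin.cast hn i) : s) : _)
  have hrange : Set.range xb = (s : Set (R ⧸ Ideal.span {a})) := by
    ext b
    constructor
    · rintro ⟨i, rfl⟩
      exact (s.equivFin.symm (Fin.cast hn i)).2
    · intro hb
      refine ⟨Fin.cast hn.symm (s.equivFin ⟨b, hb⟩), ?_⟩
      simp [xb]
  let x : Fin n → R := fun i => Function.surjInv hmk (xb i)
  have hxb : ∀ i, Ideal.Quotient.mk (Ideal.span {a}) (x i) = xb i :=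
    fun i => Function.surjInv_eq hmk (xb i)
  have hcomapmax : (maximalIdeal (R ⧸ Ideal.span {a})).comap (Ideal.Quotient.mk (Ideal.span {a})) =
      maximalIdeal R :=
    IsLocalRing.eq_maximalIdeal (Ideal.comap_isMaximal_of_surjective _ hmk)
  have hmap : (Ideal.span (Set.range x)).map (Ideal.Quotient.mk (Ideal.span {a})) =
      Ideal.span (s : Set (R ⧸ Ideal.span {a})) := by
    rw [Ideal.map_span, ← hrange]
    congr 1
    ext b
    constructor
    · rintro ⟨_, ⟨i, rfl⟩, rfl⟩
      exact ⟨i, (hxb i).symm⟩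
    · rintro ⟨i, rfl⟩
      exact ⟨x i, ⟨i, rfl⟩, hxb i⟩
  have hcomap : (Ideal.span (s : Set (R ⧸ Ideal.span {a}))).comap
      (Ideal.Quotient.mk (Ideal.span {a})) = Ideal.span {a} ⊔ Ideal.span (Set.range x) := by
    rw [← hmap, Ideal.comap_map_of_surjective _ hmk, ← RingHom.ker_eq_comap_bot,
      Ideal.mk_ker, sup_comm]
  have hmin : maximalIdeal R ∈ (Ideal.span {a} ⊔ Ideal.span (Set.range x)).minimalPrimes := by
    rw [← hcomap, ← hcomapmax]
    exact Ideal.minimalPrimes_comap_of_surjective hmk hsmin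
  refine ⟨n, x, fun i => ?_, hmin, ?_⟩
  · exact hmin.1.2 (Ideal.mem_sup_right (Ideal.subset_span ⟨i, rfl⟩))
  · have h1 := ringKrullDim_quotient_succ_le_of_nonZeroDivisor hreg
    have h2 : ringKrullDim (R ⧸ Ideal.span {a}) = (n : WithBot ℕ∞) := by
      rw [← IsLocalRing.maximalIdeal_height_eq_ringKrullDim, ← hscard, hn]
      rfl
    rw [h2] at h1
    exact h1

end sop

section mixed

open Groth.Agent.Lib.Helper1.ArtFunLib

variable {W R : Type u} [CommRing W] [IsDomain W] [hWreg : IsRegularLocalRing W]
  [hcW : IsAdicComplete (maximalIdeal W) W]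
  [CommRing R] [IsLocalRing R] [IsNoetherianRing R] [IsDomain R]
  [hcR : IsAdicComplete (maximalIdeal R) R]

/-- complete local domain finite over a power series ring over a complete DVR `W` whose
uniformizer is not killed -/
theorem exists_finite_injective_of_principal (v : W →+* R)
    (hsurj : Function.Surjective ((residue R).comp v)) (π : W)
    (hπ : maximalIdeal W = Ideal.span {π}) (hvπ : v π ≠ 0) (hvπm : v π ∈ maximalIdeal R) :
    ∃ (n : ℕ) (f : MvPowerSeries (Fin n) W →+* R), Function.Injective f ∧ f.Finite ∧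
      ∀ w, f (MvPowerSeries.C w) = v w := by
  obtain ⟨n, x, hx, hmin, hdim⟩ :=
    exists_sop_of_nonZeroDivisor R (v π) hvπm (mem_nonZeroDivisors_of_ne_zero hvπ)
  obtain ⟨f, hfC, hfX⟩ := exists_eval_mvPowerSeries v hsurj x hx
  haveI : IsAdicComplete (maximalIdeal (MvPowerSeries (Fin n) W)) (MvPowerSeries (Fin n) W) :=
    PS.isAdicComplete_mvPowerSeries
  haveI : IsDomain (MvPowerSeries (Fin n) W) := NoZeroDivisors.to_isDomain _
  have hmapmax : (maximalIdeal (MvPowerSeries (Fin n) W)).map f =
      Ideal.span {v π} ⊔ Ideal.span (Set.range x) := by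
    rw [PS.maximalIdeal_eq_sup, Ideal.map_sup, Ideal.map_map, hπ, Ideal.map_span, Ideal.map_span,
      Set.image_singleton, ← Set.range_comp]
    congr 2
    · rw [RingHom.comp_apply, hfC]
    · ext i
      constructor
      · rintro ⟨j, rfl⟩
        exact ⟨j, (hfX j).symm⟩
      · rintro ⟨j, rfl⟩
        exact ⟨j, hfX j⟩
  have hsurj' : Function.Surjective ((residue R).comp f) := by
    intro y
    obtain ⟨w, hw⟩ := hsurj y
    refine ⟨MvPowerSeries.C w, ?_⟩
    rw [RingHom.comp_apply, hfC]
    exact hw
  have hfin : f.Finite := finite_of_mem_minimalPrimes f hsurj' (by rw [hmapmax]; exact hmin)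
  refine ⟨n, f, ?_, hfin, hfC⟩
  apply injective_of_finite_of_ringKrullDim_le f hfin
  refine le_trans (ringKrullDim_le_spanFinrank_maximalIdeal _) (le_trans ?_ hdim)
  have h1 := spanFinrank_maximalIdeal_mvPowerSeries_le W n
  have h2 : (maximalIdeal W).spanFinrank ≤ 1 := by
    rw [hπ]
    refine le_trans (Submodule.spanFinrank_span_le_ncard_of_finite (Set.finite_singleton π)) ?_
    rw [Set.ncard_singleton]
  have h3 : (maximalIdeal (MvPowerSeries (Fin n) W)).spanFinrank ≤ n + 1 := by omega
  exact_mod_cast h3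

end mixed

section fieldcase

theorem finite_residueField_of_surjective {k₀ A : Type u} [Field k₀] [CommRing A] [IsLocalRing A]
    [Algebra k₀ A] (h : Function.Surjective ((residue A).comp (algebraMap k₀ A))) :
    Module.Finite k₀ (ResidueField A) := by
  apply Module.Finite.of_surjective (Algebra.linearMap k₀ (ResidueField A))
  intro y
  obtain ⟨c, hc⟩ := h y
  exact ⟨c, hc⟩

variable (R : Type u) [CommRing R] [IsLocalRing R] [IsNoetherianRing R] [IsDomain R]
  [hcR : IsAdicComplete (maximalIdeal R) R]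

/-- a complete local domain containing a field is finite over a power series ring over a
coefficient field -/
theorem exists_finite_injective_of_field {F₀ : Type*} [Field F₀] (φ : F₀ →+* R) :
    ∃ (n : ℕ) (f : MvPowerSeries (Fin n) (ResidueField R) →+* R), Function.Injective f ∧
      f.Finite ∧ Function.Surjective ((residue R).comp f) := by
  obtain ⟨u, hu⟩ := Groth.Agent.Lib.Helper23.CohenEq.exists_section_of_field R F₀ φ
  letI : Algebra (ResidueField R) R := u.toAlgebra
  have hs : Function.Surjective ((residue R).comp (algebraMap (ResidueField R) R)) :=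
    fun y => ⟨y, hu y⟩
  haveI := finite_residueField_of_surjective hs
  obtain ⟨n, w, hinj, -, hfin⟩ :=
    Groth.Agent.Lib.Helper23.CohenDomain.t2460main (k₀ := ResidueField R) (A := R)
  refine ⟨n, w.toRingHom, hinj, hfin, ?_⟩
  intro y
  refine ⟨MvPowerSeries.C y, ?_⟩
  have h1 : w (MvPowerSeries.C y) = u y := by
    have := w.commutes y
    rwa [MvPowerSeries.algebraMap_apply] at this
  change residue R (w (MvPowerSeries.C y)) = y
  rw [h1]
  exact hu y

/-- **Cohen structure theorem for complete local domains** -/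
theorem exists_finite_injective :
    ∃ (Λ : Type u) (_ : CommRing Λ) (n : ℕ) (f : MvPowerSeries (Fin n) Λ →+* R),
      (IsField Λ ∨ CAlg.IsCohenRing Λ) ∧ Function.Injective f ∧ f.Finite ∧
      Function.Surjective ((residue R).comp f) := by
  obtain ⟨W, _, _, v, hW, hWn, hWc, hvloc, hvs⟩ := exists_cohenRing_hom R
  have hfield : ∀ {F₀ : Type u} [Field F₀] (φ : F₀ →+* R),
      ∃ (Λ : Type u) (_ : CommRing Λ) (n : ℕ) (f : MvPowerSeries (Fin n) Λ →+* R),
      (IsField Λ ∨ CAlg.IsCohenRing Λ) ∧ Function.Injective f ∧ f.Finite ∧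
      Function.Surjective ((residue R).comp f) := by
    intro F₀ _ φ
    obtain ⟨n, f, h1, h2, h3⟩ := exists_finite_injective_of_field R φ
    exact ⟨ResidueField R, inferInstance, n, f, Or.inl (Field.toIsField _), h1, h2, h3⟩
  rcases hW with ⟨hF, -⟩ | hC
  · letI := hF.toField
    exact hfield v
  · have hC' := hC
    obtain ⟨hdom, hdvr, hcomp, p, hp, hmax⟩ := hC
    have hpm : v (p : W) ∈ maximalIdeal R := by
      rw [IsLocalRing.mem_maximalIdeal]
      intro hu
      have h1 : IsUnit (p : W) := hvloc.map_nonunit _ hu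
      have h2 : (p : W) ∈ maximalIdeal W := by rw [hmax]; exact Ideal.subset_span rfl
      exact (IsLocalRing.mem_maximalIdeal _).mp h2 h1
    by_cases hpR : (p : R) = 0
    · haveI : CharP (ResidueField R) p := by
        rw [CharP.charP_iff_prime_eq_zero hp, ← map_natCast (residue R), hpR, map_zero]
      rcases Groth.Agent.Lib.Helper23.CohenEq.exists_field_of_natCast_eq_zero R p hpR with
        ⟨φ, hprime⟩ | ⟨φ, -⟩
      · haveI : Fact p.Prime := ⟨hprime⟩
        obtain ⟨n, f, h1, h2, h3⟩ := exists_finite_injective_of_field R φ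
        exact ⟨ResidueField R, inferInstance, n, f, Or.inl (Field.toIsField _), h1, h2, h3⟩
      · obtain ⟨n, f, h1, h2, h3⟩ := exists_finite_injective_of_field R φ
        exact ⟨ResidueField R, inferInstance, n, f, Or.inl (Field.toIsField _), h1, h2, h3⟩
    · haveI : IsRegularLocalRing W := isRegularLocalRing_of_isCohenRingEGA (Or.inr hC')
      have hvp : v (p : W) ≠ 0 := by rwa [map_natCast]
      obtain ⟨n, f, hinj, hfin, hfC⟩ :=
        exists_finite_injective_of_principal v hvs (p : W) hmax hvp hpm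
      refine ⟨W, inferInstance, n, f, Or.inr hC', hinj, hfin, ?_⟩
      intro y
      obtain ⟨w, hw⟩ := hvs y
      refine ⟨MvPowerSeries.C w, ?_⟩
      rw [RingHom.comp_apply, hfC]
      exact hw

end fieldcase

end Groth.Agent.Lib.Helper18.CST
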