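import Mathlib
import Groth.Prelude.Def_CAlg
import Groth.Agent.Lib.Helper18.CM7

/-!
# Ext and regular sequences without finiteness hypotheses (helper18)
* `comp_mk₀_smul_id_eq_zero`, `subsingleton_ext_of_isWeaklyRegular`
* `extQuotSMulTopAddEquiv : Ext^n(N, M/xM) ≃+ Ext^{n+1}(N, M)`
* `nonempty_hom_quot_addEquiv_ext : Hom(N, M/xsM) ≃+ Ext^{|xs|}(N, M)` (S5787)
-/

set_option autoImplicit false
set_option linter.unusedSectionVars false
universe u

open CategoryTheory RingTheory.Sequence IsLocalRing Pointwise CategoryTheory.Abelian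
open Groth.Agent.Lib.Helper16.Depth

namespace Groth.Agent.Lib.Helper18.CM

section extShift

variable {R : Type u} [CommRing R] (N : ModuleCat.{u} R)

/-- an element of the annihilator of `N` acts as zero on `Ext(N, M)` (via the second variable) -/
theorem comp_mk₀_smul_id_eq_zero {M : ModuleCat.{u} R} {x : R}
    (hx : x ∈ Module.annihilator R N) {i : ℕ} (e : Ext N M i) :
    e.comp (Ext.mk₀ (x • 𝟙 M)) (add_zero i) = 0 := by
  have hid : x • 𝟙 N = 0 := by
    ext n
    exact Module.mem_annihilator.mp hx n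
  have h1 : e.comp (Ext.mk₀ (x • 𝟙 M)) (add_zero i) = x • e := by
    simp [Ext.mk₀_smul]
  have h2 : x • e = (Ext.mk₀ (x • 𝟙 N)).comp e (zero_add i) := by
    simp [Ext.mk₀_smul]
  rw [h1, h2, hid, Ext.mk₀_zero, Ext.zero_comp]

/-- vanishing of `Ext^j(N, M)` below the length of a weakly regular sequence killing `N`
(no finiteness assumptions) -/
theorem subsingleton_ext_of_isWeaklyRegular (xs : List R)
    (hxs : ∀ x ∈ xs, x ∈ Module.annihilator R N) :
    ∀ (M : Type u) [AddCommGroup M] [Module R M], IsWeaklyRegular M xs →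
      ∀ j < xs.length, Subsingleton (Ext N (ModuleCat.of R M) j) := by
  induction xs with
  | nil =>
    intro M _ _ _ j hj
    simp at hj
  | cons x xs ih =>
    intro M _ _ hreg j hj
    rw [isWeaklyRegular_cons_iff] at hreg
    have hx : x ∈ Module.annihilator R N := hxs x List.mem_cons_self
    have hS := hreg.1.smulShortComplex_shortExact (M := ModuleCat.of R M)
    refine ⟨fun a b => ?_⟩
    suffices hz : ∀ e : Ext N (ModuleCat.of R M) j, e = 0 by rw [hz a, hz b]
    intro e
    have he : e.comp (Ext.mk₀ (ModuleCat.smulShortComplex (ModuleCat.of R M) x).f)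
        (add_zero j) = 0 := comp_mk₀_smul_id_eq_zero N hx e
    rcases j with _ | j
    · -- `Hom(N, M) = 0`
      have hmono : Mono (ModuleCat.smulShortComplex (ModuleCat.of R M) x).f := hS.mono_f
      exact @Ext.postcomp_mk₀_injective_of_mono _ _ _ _ N _ _ _ hmono _ _
        (he.trans (AddMonoidHom.map_zero _).symm)
    · obtain ⟨e₃, he₃⟩ := Ext.covariant_sequence_exact₁ N hS e he rfl
      have hsub : Subsingleton (Ext N (ModuleCat.of R (QuotSMulTop x M)) j) :=
        ih (fun y hy => hxs y (List.mem_cons_of_mem _ hy)) (QuotSMulTop x M) hreg.2 j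
          (by simpa using hj)
      have he₃0 : e₃ = 0 := hsub.elim _ _
      rw [← he₃, he₃0, Ext.zero_comp]
      rfl

/-- the connecting isomorphism `Ext^n(N, M/xM) ≃ Ext^{n+1}(N, M)` when `x` is `M`-regular, kills `N`,
and `Ext^n(N, M) = 0`. -/
noncomputable def extQuotSMulTopAddEquiv (M : Type u) [AddCommGroup M] [Module R M] {x : R}
    (hreg : IsSMulRegular M x) (hx : x ∈ Module.annihilator R N) (n : ℕ)
    (hvan : Subsingleton (Ext N (ModuleCat.of R M) n)) :
    Ext N (ModuleCat.of R (QuotSMulTop x M)) n ≃+ Ext N (ModuleCat.of R M) (n + 1) := by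
  have hS := hreg.smulShortComplex_shortExact (M := ModuleCat.of R M)
  let δ : Ext N (ModuleCat.of R (QuotSMulTop x M)) n →+ Ext N (ModuleCat.of R M) (n + 1) :=
    hS.extClass.postcomp N (rfl : n + 1 = n + 1)
  refine AddEquiv.ofBijective δ ⟨?_, ?_⟩
  · refine (injective_iff_map_eq_zero δ).mpr ?_
    intro e he
    obtain ⟨e₂, he₂⟩ := Ext.covariant_sequence_exact₃ N hS e rfl he
    have : e₂ = 0 := hvan.elim _ _
    rw [← he₂, this, Ext.zero_comp]
    rfl
  · intro e
    have he : e.comp (Ext.mk₀ (ModuleCat.smulShortComplex (ModuleCat.of R M) x).f)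
        (add_zero (n + 1)) = 0 := comp_mk₀_smul_id_eq_zero N hx e
    exact Ext.covariant_sequence_exact₁ N hS e he rfl

/-- `Hom(N, M/xsM) ≃ Ext^{|xs|}(N, M)` for a weakly regular sequence killing `N`. -/
theorem nonempty_hom_quot_addEquiv_ext (xs : List R)
    (hxs : ∀ x ∈ xs, x ∈ Module.annihilator R N) :
    ∀ (M : Type u) [AddCommGroup M] [Module R M], IsWeaklyRegular M xs →
      Nonempty ((N →ₗ[R] (M ⧸ (Ideal.ofList xs • (⊤ : Submodule R M)))) ≃+
        Ext N (ModuleCat.of R M) xs.length) := by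
  induction xs with
  | nil =>
    intro M _ _ _
    refine ⟨?_⟩
    exact ((LinearEquiv.arrowCongr (LinearEquiv.refl R N) (quotOfListNilEquiv M)).toAddEquiv.trans
      (ModuleCat.homAddEquiv (M := N) (N := ModuleCat.of R M)).symm).trans Ext.addEquiv₀.symm
  | cons x xs ih =>
    intro M _ _ hreg
    have hreg' := hreg
    rw [isWeaklyRegular_cons_iff] at hreg
    have hx : x ∈ Module.annihilator R N := hxs x List.mem_cons_self
    obtain ⟨e1⟩ := ih (fun y hy => hxs y (List.mem_cons_of_mem _ hy)) (QuotSMulTop x M) hreg.2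
    have hvan := subsingleton_ext_of_isWeaklyRegular N (x :: xs) hxs M hreg' xs.length (by simp)
    refine ⟨?_⟩
    exact ((LinearEquiv.arrowCongr (LinearEquiv.refl R N)
      (Submodule.quotOfListConsSMulTopEquivQuotSMulTopInner M x xs)).toAddEquiv.trans e1).trans
      (extQuotSMulTopAddEquiv N M hreg.1 hx xs.length hvan)

end extShift


end Groth.Agent.Lib.Helper18.CM
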