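import Mathlib
import Groth.Prelude.Def_KZero

/-! # Abstract dévissage for `K₀` (helper18)

`A` an abelian category, `P ⊆ Q` object properties; `Q` closed under kernels/cokernels/isos,
`P` closed under `Q`-subobjects and `Q`-quotients; every `Q`-object has a finite filtration with
`P`-pieces.  Then `K0sub P → K0sub Q` is bijective. -/

set_option autoImplicit false
universe v u

open CategoryTheory CategoryTheory.Limits

namespace Groth.Agent.Lib.Helper18.AD1

variable {A : Type u} [Category.{v} A] [Abelian A]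

section SES

variable {M₁ M M₃ N T : A}

/-- kernel–image sequence -/
theorem shortExact_ker_im {X Y : A} (φ : X ⟶ Y) :
    (ShortComplex.mk (kernel.ι φ) (Abelian.factorThruImage φ) (by
      rw [← cancel_mono (Abelian.image.ι φ), Category.assoc, Abelian.image.fac, kernel.condition,
        zero_comp])).ShortExact := by
  refine ShortComplex.ShortExact.mk (ShortComplex.exact_of_f_is_kernel _ ?_)
  refine KernelFork.IsLimit.ofι _ _
    (fun {W} k hk => kernel.lift φ k (by
      rw [← Abelian.image.fac φ, ← Category.assoc]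
      change (k ≫ Abelian.factorThruImage φ) ≫ _ = 0
      rw [hk, zero_comp])) ?_ ?_
  · intro W k hk
    exact kernel.lift_ι _ _ _
  · intro W k hk m hm
    rw [← cancel_mono (kernel.ι φ), kernel.lift_ι]
    exact hm

/-- image–cokernel sequence -/
theorem shortExact_im_coker {X Y : A} (φ : X ⟶ Y) :
    (ShortComplex.mk (Abelian.image.ι φ) (cokernel.π φ) (kernel.condition _)).ShortExact :=
  ShortComplex.ShortExact.mk (ShortComplex.exact_kernel _)

variable (f : M₁ ⟶ M) (g : M ⟶ M₃) (wS : f ≫ g = 0) (hS : (ShortComplex.mk f g wS).ShortExact)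
  (u : N ⟶ M) (v : M ⟶ T) (wR : u ≫ v = 0) (hR : (ShortComplex.mk u v wR).ShortExact)

include hR in
/-- `M₁ ∩ N ⟶ N` -/
noncomputable def interToN : kernel (f ≫ v) ⟶ N :=
  haveI := hR.mono_f
  hR.exact.lift (kernel.ι (f ≫ v) ≫ f) (by
    change (kernel.ι (f ≫ v) ≫ f) ≫ v = 0
    rw [Category.assoc, kernel.condition])

@[reassoc]
theorem interToN_u : interToN f u v wR hR ≫ u = kernel.ι (f ≫ v) ≫ f := by
  haveI := hR.mono_f
  exact hR.exact.lift_f _ _

include wS in
theorem interToN_zero :
    interToN f u v wR hR ≫ Abelian.factorThruImage (u ≫ g) = 0 := by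
  rw [← cancel_mono (Abelian.image.ι (u ≫ g)), Category.assoc, Abelian.image.fac, zero_comp,
    interToN_u_assoc, wS, comp_zero]

include hS in
/-- `0 → M₁ ∩ N → N → im(N → M₃) → 0` -/
theorem shortExact_N :
    (ShortComplex.mk (interToN f u v wR hR) (Abelian.factorThruImage (u ≫ g))
      (interToN_zero f g wS u v wR hR)).ShortExact := by
  haveI := hS.mono_f
  haveI := hR.mono_f
  haveI : Mono (interToN f u v wR hR) := by
    haveI : Mono (interToN f u v wR hR ≫ u) := by
      rw [interToN_u]; infer_instance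
    exact mono_of_mono (interToN f u v wR hR) u
  refine ShortComplex.ShortExact.mk (ShortComplex.exact_of_f_is_kernel _ ?_)
  have key : ∀ {W : A} (k : W ⟶ N), k ≫ Abelian.factorThruImage (u ≫ g) = 0 →
      (k ≫ u) ≫ g = 0 := by
    intro W k hk
    rw [Category.assoc, ← Abelian.image.fac (u ≫ g), ← Category.assoc, hk, zero_comp]
  refine KernelFork.IsLimit.ofι _ _
    (fun {W} k hk => kernel.lift (f ≫ v) (hS.exact.lift (k ≫ u) (key k hk)) (by
      rw [← Category.assoc]
      change (hS.exact.lift (k ≫ u) (key k hk) ≫ (ShortComplex.mk f g wS).f) ≫ v = 0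
      rw [hS.exact.lift_f, Category.assoc, wR, comp_zero])) ?_ ?_
  · intro W k hk
    rw [← cancel_mono u, Category.assoc, interToN_u, kernel.lift_ι_assoc]
    exact hS.exact.lift_f _ _
  · intro W k hk m hm
    rw [← cancel_mono (interToN f u v wR hR)]
    rw [hm]
    rw [← cancel_mono u, Category.assoc, interToN_u, kernel.lift_ι_assoc]
    exact (hS.exact.lift_f _ _).symm

include hR in
/-- `T ⟶ M/(M₁+N)` -/
noncomputable def TtoC : T ⟶ cokernel (u ≫ g) :=
  haveI := hR.epi_g
  hR.exact.desc (g ≫ cokernel.π (u ≫ g)) (by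
    change u ≫ g ≫ cokernel.π (u ≫ g) = 0
    rw [← Category.assoc, cokernel.condition])

@[reassoc]
theorem v_TtoC : v ≫ TtoC g u v wR hR = g ≫ cokernel.π (u ≫ g) := by
  haveI := hR.epi_g
  exact hR.exact.g_desc _ _

include wS in
theorem TtoC_zero : Abelian.image.ι (f ≫ v) ≫ TtoC g u v wR hR = 0 := by
  rw [← cancel_epi (Abelian.factorThruImage (f ≫ v)), ← Category.assoc, Abelian.image.fac,
    comp_zero, Category.assoc, v_TtoC, ← Category.assoc, wS, zero_comp]

include hS in
/-- `0 → im(M₁ → T) → T → M/(M₁+N) → 0` -/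
theorem shortExact_T :
    (ShortComplex.mk (Abelian.image.ι (f ≫ v)) (TtoC g u v wR hR)
      (TtoC_zero f g wS u v wR hR)).ShortExact := by
  haveI := hS.epi_g
  haveI := hR.epi_g
  haveI : Epi (TtoC g u v wR hR) := by
    haveI : Epi (v ≫ TtoC g u v wR hR) := by
      rw [v_TtoC]; infer_instance
    exact epi_of_epi v (TtoC g u v wR hR)
  refine ShortComplex.ShortExact.mk (ShortComplex.exact_of_g_is_cokernel _ ?_)
  have key : ∀ {W : A} (k : T ⟶ W), Abelian.image.ι (f ≫ v) ≫ k = 0 →
      f ≫ (v ≫ k) = 0 := by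
    intro W k hk
    rw [← Category.assoc, ← Abelian.image.fac (f ≫ v), Category.assoc, hk, comp_zero]
  refine CokernelCofork.IsColimit.ofπ _ _
    (fun {W} k hk => cokernel.desc (u ≫ g) (hS.exact.desc (v ≫ k) (key k hk)) (by
      rw [Category.assoc]
      change u ≫ (ShortComplex.mk f g wS).g ≫ hS.exact.desc (v ≫ k) (key k hk) = 0
      rw [hS.exact.g_desc, ← Category.assoc, wR, zero_comp])) ?_ ?_
  · intro W k hk
    rw [← cancel_epi v, v_TtoC_assoc, cokernel.π_desc]
    exact hS.exact.g_desc _ _
  · intro W k hk m hm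
    rw [← cancel_epi (TtoC g u v wR hR)]
    rw [hm]
    rw [← cancel_epi v, v_TtoC_assoc, cokernel.π_desc]
    exact (hS.exact.g_desc _ _).symm

end SES

end Groth.Agent.Lib.Helper18.AD1
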