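import Mathlib
import Groth.Prelude.Def_KZero
import Groth.Agent.Lib.Helper18.AD1

/-! # Abstract dévissage for `K₀`, part 2 (helper18) -/

set_option autoImplicit false
universe v u

open CategoryTheory CategoryTheory.Limits

namespace Groth.Agent.Lib.Helper18.AD2

open Groth.Agent.Lib.Helper18

variable {A : Type u} [Category.{v} A] [Abelian A]

/-- hypotheses of the dévissage theorem -/
structure DevHyp (P Q : ObjectProperty A) : Prop where
  le : ∀ M, P M → Q M
  Q_iso : ∀ {M N : A}, (M ≅ N) → Q M → Q N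
  P_zero : ∀ M : A, IsZero M → P M
  Q_ker : ∀ {M N : A} (f : M ⟶ N), Q M → Q N → Q (kernel f)
  Q_coker : ∀ {M N : A} (f : M ⟶ N), Q M → Q N → Q (cokernel f)
  P_sub : ∀ {N M : A} (f : N ⟶ M) [Mono f], Q N → P M → P N
  P_quot : ∀ {M T : A} (f : M ⟶ T) [Epi f], P M → Q T → P T

section General

variable (P : ObjectProperty A)

theorem clSub_of {M : A} (h : P M) :
    KZero.clSub P M = QuotientAddGroup.mk (FreeAbelianGroup.of ⟨M, h⟩) := dif_pos h

theorem clSub_add (S : ShortComplex A) (hS : S.ShortExact) (h1 : P S.X₁) (h2 : P S.X₂)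
    (h3 : P S.X₃) : KZero.clSub P S.X₂ = KZero.clSub P S.X₁ + KZero.clSub P S.X₃ := by
  unfold KZero.clSub
  rw [dif_pos h1, dif_pos h2, dif_pos h3]
  rw [← sub_eq_zero, ← QuotientAddGroup.mk_add, ← QuotientAddGroup.mk_sub,
    QuotientAddGroup.eq_zero_iff]
  apply AddSubgroup.subset_closure
  exact ⟨S, h1, h2, h3, hS, by abel⟩

theorem clSub_of_isZero {M : A} (hM : IsZero M) (hc : P M) : KZero.clSub P M = 0 := by
  have hS : (ShortComplex.mk (0 : M ⟶ M) (0 : M ⟶ M) zero_comp).ShortExact := by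
    haveI : Mono (0 : M ⟶ M) := ⟨fun _ _ _ => hM.eq_of_tgt _ _⟩
    haveI : Epi (0 : M ⟶ M) := ⟨fun _ _ _ => hM.eq_of_src _ _⟩
    exact ShortComplex.ShortExact.mk (ShortComplex.exact_of_isZero_X₂ _ hM)
  have h := clSub_add P _ hS hc hc hc
  simpa using h

theorem clSub_iso {M N : A} (e : M ≅ N) (hM : P M) (hN : P N)
    (h0 : P (cokernel e.hom)) : KZero.clSub P N = KZero.clSub P M := by
  have hz : IsZero (cokernel e.hom) := isZero_cokernel_of_epi e.hom
  have hS : (ShortComplex.mk e.hom (cokernel.π e.hom) (cokernel.condition _)).ShortExact :=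
    ShortComplex.ShortExact.mk (ShortComplex.exact_cokernel e.hom)
  have h := clSub_add P _ hS hM hN h0
  rw [h]
  simp only
  rw [clSub_of_isZero P hz h0, add_zero]

theorem K0sub_induction {motive : KZero.K0sub P → Prop} (x : KZero.K0sub P)
    (h0 : motive 0) (hcl : ∀ (M : A) (_ : P M), motive (KZero.clSub P M))
    (hneg : ∀ x, motive x → motive (-x)) (hadd : ∀ x y, motive x → motive y → motive (x + y)) :
    motive x := by
  induction x using QuotientAddGroup.induction_on with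
  | H z =>
    induction z using FreeAbelianGroup.induction_on with
    | zero => exact h0
    | of x =>
      have := hcl x.1 x.2
      rwa [clSub_of P x.2] at this
    | neg x ih =>
      have := hneg _ ih
      rwa [← QuotientAddGroup.mk_neg] at this
    | add x y ihx ihy =>
      have := hadd _ _ ihx ihy
      rwa [← QuotientAddGroup.mk_add] at this

/-- `M` has a finite filtration with pieces in `P`, with total class `c`. -/
inductive HasFilt : A → KZero.K0sub P → Prop
  | zero (M : A) (h : IsZero M) : HasFilt M 0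
  | ext (M₁ M M₃ : A) (f : M₁ ⟶ M) (g : M ⟶ M₃) (w : f ≫ g = 0)
      (hS : (ShortComplex.mk f g w).ShortExact) (c : KZero.K0sub P) (h1 : HasFilt M₁ c)
      (h3 : P M₃) : HasFilt M (c + KZero.clSub P M₃)

end General

variable {P Q : ObjectProperty A}

theorem Q_of_shortExact_left (H : DevHyp P Q) {M₁ M M₃ : A} (f : M₁ ⟶ M) (g : M ⟶ M₃)
    (w : f ≫ g = 0) (hS : (ShortComplex.mk f g w).ShortExact) (hM : Q M) (hM₃ : Q M₃) : Q M₁ := by
  let e : M₁ ≅ kernel g :=
    IsLimit.conePointUniqueUpToIso hS.fIsKernel (limit.isLimit _)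
  exact H.Q_iso e.symm (H.Q_ker g hM hM₃)

theorem Q_of_shortExact_right (H : DevHyp P Q) {M₁ M M₃ : A} (f : M₁ ⟶ M) (g : M ⟶ M₃)
    (w : f ≫ g = 0) (hS : (ShortComplex.mk f g w).ShortExact) (hM₁ : Q M₁) (hM : Q M) : Q M₃ := by
  let e : M₃ ≅ cokernel f :=
    IsColimit.coconePointUniqueUpToIso hS.gIsCokernel (colimit.isColimit _)
  exact H.Q_iso e.symm (H.Q_coker f hM₁ hM)

/-- restriction of a filtration to a sub and a quotient -/
theorem HasFilt.restrict (H : DevHyp P Q) {M : A} {c : KZero.K0sub P} (h : HasFilt P M c) :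
    ∀ {N T : A} (u : N ⟶ M) (v : M ⟶ T) (wR : u ≫ v = 0),
      (ShortComplex.mk u v wR).ShortExact → Q N →
      ∃ c₁ c₂, HasFilt P N c₁ ∧ HasFilt P T c₂ ∧ c = c₁ + c₂ := by
  induction h with
  | zero M hM =>
    intro N T u v wR hR _
    haveI := hR.mono_f
    haveI := hR.epi_g
    exact ⟨0, 0, HasFilt.zero N (IsZero.of_mono u hM), HasFilt.zero T (IsZero.of_epi v hM),
      (add_zero 0).symm⟩
  | ext M₁ M M₃ f g wS hS c h1 h3 ih =>
    intro N T u v wR hR hN
    have hM₃Q : Q M₃ := H.le _ h3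
    have hCQ : Q (cokernel (u ≫ g)) := H.Q_coker _ hN hM₃Q
    have hI₃Q : Q (Abelian.image (u ≫ g)) := H.Q_ker _ hM₃Q hCQ
    have hI₃P : P (Abelian.image (u ≫ g)) := H.P_sub (Abelian.image.ι (u ≫ g)) hI₃Q h3
    have hCP : P (cokernel (u ≫ g)) := H.P_quot (cokernel.π (u ≫ g)) h3 hCQ
    have hN' := AD1.shortExact_N f g wS hS u v wR hR
    have hT' := AD1.shortExact_T f g wS hS u v wR hR
    have hKQ : Q (kernel (f ≫ v)) := Q_of_shortExact_left H _ _ _ hN' hN hI₃Q
    obtain ⟨a₁, a₂, hK, hI₁, hc⟩ := ih (kernel.ι (f ≫ v)) (Abelian.factorThruImage (f ≫ v)) _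
      (AD1.shortExact_ker_im (f ≫ v)) hKQ
    refine ⟨a₁ + KZero.clSub P (Abelian.image (u ≫ g)), a₂ + KZero.clSub P (cokernel (u ≫ g)),
      HasFilt.ext _ _ _ _ _ _ hN' a₁ hK hI₃P, HasFilt.ext _ _ _ _ _ _ hT' a₂ hI₁ hCP, ?_⟩
    have := clSub_add P _ (AD1.shortExact_im_coker (u ≫ g)) hI₃P h3 hCP
    simp only at this
    rw [hc, this]
    abel

theorem HasFilt.eq_zero_of_isZero (H : DevHyp P Q) {M : A} {c : KZero.K0sub P}
    (h : HasFilt P M c) : IsZero M → c = 0 := by
  induction h with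
  | zero M hM => intro _; rfl
  | ext M₁ M M₃ f g wS hS c h1 h3 ih =>
    intro hM
    haveI := hS.mono_f
    haveI := hS.epi_g
    rw [ih (IsZero.of_mono f hM), clSub_of_isZero P (IsZero.of_epi g hM) h3, add_zero]

/-- for an object of `P` the class of a filtration is the class of the object -/
theorem HasFilt.eq_clSub (H : DevHyp P Q) {M : A} {c : KZero.K0sub P}
    (h : HasFilt P M c) : P M → c = KZero.clSub P M := by
  induction h with
  | zero M hM => intro hP; exact (clSub_of_isZero P hM hP).symm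
  | ext M₁ M M₃ f g wS hS c h1 h3 ih =>
    intro hP
    haveI := hS.mono_f
    have hQ1 : Q M₁ := Q_of_shortExact_left H f g wS hS (H.le _ hP) (H.le _ h3)
    have hP1 : P M₁ := H.P_sub f hQ1 hP
    rw [ih hP1]
    exact (clSub_add P _ hS hP1 hP h3).symm

/-- uniqueness of the class of a filtration -/
theorem HasFilt.unique (H : DevHyp P Q) {M : A} {c : KZero.K0sub P} (h : HasFilt P M c) :
    ∀ {c' : KZero.K0sub P}, HasFilt P M c' → Q M → c = c' := by
  induction h with
  | zero M hM =>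
    intro c' h' _
    exact (h'.eq_zero_of_isZero H hM).symm
  | ext M₁ M M₃ f g wS hS c h1 h3 ih =>
    intro c' h' hQ
    have hQ1 : Q M₁ := Q_of_shortExact_left H f g wS hS hQ (H.le _ h3)
    obtain ⟨c₁, c₂, k1, k3, hc'⟩ := h'.restrict H f g wS hS hQ1
    rw [hc', ih k1 hQ1, k3.eq_clSub H h3]

theorem HasFilt.of_mem {M : A} (hP : P M) : HasFilt P M (KZero.clSub P M) := by
  have hS : (ShortComplex.mk (kernel.ι (𝟙 M)) (𝟙 M) (kernel.condition _)).ShortExact :=
    ShortComplex.ShortExact.mk (ShortComplex.exact_kernel _)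
  have := HasFilt.ext _ _ _ _ _ _ hS 0 (HasFilt.zero _ (isZero_kernel_of_mono _)) hP
  rwa [zero_add] at this

section Main

variable (P Q)

/-- the map `K₀(P) → K₀(Q)` -/
def incl (hle : ∀ M, P M → Q M) : KZero.K0sub P →+ KZero.K0sub Q :=
  QuotientAddGroup.map _ _
    (FreeAbelianGroup.map (fun x : Subtype P => (⟨x.1, hle _ x.2⟩ : Subtype Q))) (by
      rw [KZero.relSub, AddSubgroup.closure_le]
      rintro x ⟨S, h₁, h₂, h₃, hS, rfl⟩
      refine AddSubgroup.subset_closure ⟨S, hle _ h₁, hle _ h₂, hle _ h₃, hS, ?_⟩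
      simp [FreeAbelianGroup.map_of_apply])

theorem incl_clSub (hle : ∀ M, P M → Q M) {M : A} (hM : P M) :
    incl P Q hle (KZero.clSub P M) = KZero.clSub Q M := by
  rw [clSub_of P hM, clSub_of Q (hle _ hM)]
  change QuotientAddGroup.mk _ = _
  rw [FreeAbelianGroup.map_of_apply]

variable {P Q}

theorem incl_hasFilt (H : DevHyp P Q) {M : A} {c : KZero.K0sub P} (h : HasFilt P M c) :
    Q M → incl P Q H.le c = KZero.clSub Q M := by
  induction h with
  | zero M hM =>
    intro hQ
    rw [map_zero, clSub_of_isZero Q hM hQ]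
  | ext M₁ M M₃ f g wS hS c h1 h3 ih =>
    intro hQ
    have hQ1 : Q M₁ := Q_of_shortExact_left H f g wS hS hQ (H.le _ h3)
    rw [map_add, ih hQ1, incl_clSub P Q H.le h3]
    exact (clSub_add Q _ hS hQ1 hQ (H.le _ h3)).symm

/-- **abstract dévissage**: `K₀(P) → K₀(Q)` is bijective -/
theorem bijective_incl (H : DevHyp P Q) (hex : ∀ M, Q M → ∃ c, HasFilt P M c) :
    Function.Bijective (incl P Q H.le) := by
  classical
  let val : Subtype Q → KZero.K0sub P := fun x => (hex x.1 x.2).choose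
  have hval : ∀ x : Subtype Q, HasFilt P x.1 (val x) := fun x => (hex x.1 x.2).choose_spec
  have hker : KZero.relSub Q ≤ (FreeAbelianGroup.lift val).ker := by
    rw [KZero.relSub, AddSubgroup.closure_le]
    rintro x ⟨S, h₁, h₂, h₃, hS, rfl⟩
    change FreeAbelianGroup.lift val _ = 0
    rw [map_sub, map_sub, FreeAbelianGroup.lift_apply_of, FreeAbelianGroup.lift_apply_of,
      FreeAbelianGroup.lift_apply_of]
    obtain ⟨c₁, c₂, k1, k3, hc⟩ := (hval ⟨S.X₂, h₂⟩).restrict H S.f S.g S.zero hS h₁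
    have e1 : val ⟨S.X₁, h₁⟩ = c₁ := (hval ⟨S.X₁, h₁⟩).unique H k1 h₁
    have e3 : val ⟨S.X₃, h₃⟩ = c₂ := (hval ⟨S.X₃, h₃⟩).unique H k3 h₃
    rw [hc, e1, e3]
    abel
  let psi : KZero.K0sub Q →+ KZero.K0sub P :=
    QuotientAddGroup.lift (KZero.relSub Q) (FreeAbelianGroup.lift val) hker
  have hpsi : ∀ (M : A) (hM : Q M), psi (KZero.clSub Q M) = val ⟨M, hM⟩ := by
    intro M hM
    rw [clSub_of Q hM]
    change FreeAbelianGroup.lift val _ = _
    rw [FreeAbelianGroup.lift_apply_of]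
  have h1 : ∀ x : KZero.K0sub P, psi (incl P Q H.le x) = x := by
    intro x
    induction x using K0sub_induction with
    | h0 => simp
    | hcl M hM =>
      rw [incl_clSub P Q H.le hM, hpsi M (H.le _ hM)]
      exact (hval ⟨M, H.le _ hM⟩).eq_clSub H hM
    | hneg x ih => rw [map_neg, map_neg, ih]
    | hadd x y ihx ihy => rw [map_add, map_add, ihx, ihy]
  have h2 : ∀ y : KZero.K0sub Q, incl P Q H.le (psi y) = y := by
    intro y
    induction y using K0sub_induction with
    | h0 => simp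
    | hcl M hM =>
      rw [hpsi M hM]
      exact incl_hasFilt H (hval ⟨M, hM⟩) hM
    | hneg x ih => rw [map_neg, map_neg, ih]
    | hadd x y ihx ihy => rw [map_add, map_add, ihx, ihy]
  exact ⟨Function.LeftInverse.injective h1, Function.RightInverse.surjective h2⟩

end Main

end Groth.Agent.Lib.Helper18.AD2
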