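import Mathlib

/-!
# N-1 plus separable implies finiteness of the integral closure (helper18)
-/

set_option autoImplicit false

namespace Groth.Agent.Lib.Helper18.N1N2

theorem finite_integralClosure_of_finite_of_isSeparable
    (R K L : Type*) [CommRing R] [IsDomain R] [IsNoetherianRing R]
    [Field K] [Algebra R K] [IsFractionRing R K] [Field L] [Algebra K L] [Algebra R L]
    [IsScalarTower R K L] [FiniteDimensional K L] [Algebra.IsSeparable K L]
    (h : Module.Finite R (integralClosure R K)) : Module.Finite R (integralClosure R L) := by
  classical
  have hfrac : IsFractionRing (integralClosure R K) K :=
    integralClosure.isFractionRing_of_finite_extension K K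
  have hic : IsIntegrallyClosed (integralClosure R K) :=
    integralClosure.isIntegrallyClosedOfFiniteExtension K
  have hNoeth : IsNoetherian R (integralClosure R K) :=
    isNoetherian_of_isNoetherianRing_of_finite R (integralClosure R K)
  have hNR : IsNoetherianRing (integralClosure R K) :=
    isNoetherianRing_iff.mpr (isNoetherian_of_tower R hNoeth)
  have hst1 : IsScalarTower (integralClosure R K) K L := inferInstance
  have hst2 : IsScalarTower R (integralClosure R K) L := IsScalarTower.of_algebraMap_eq (fun x => by
    rw [IsScalarTower.algebraMap_apply R K L]
    rfl)
  have hfin' : Module.Finite (integralClosure R K) (integralClosure (integralClosure R K) L) :=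
    IsIntegralClosure.finite (integralClosure R K) K L _
  have hfin : Module.Finite R (integralClosure (integralClosure R K) L) :=
    Module.Finite.trans (integralClosure R K) _
  have heq : integralClosure R L = (integralClosure (integralClosure R K) L).restrictScalars R := by
    ext x
    simp only [mem_integralClosure_iff, Subalgebra.mem_restrictScalars]
    constructor
    · exact fun hx => hx.tower_top
    · intro hx
      exact isIntegral_trans (R := R) (A := integralClosure R K) x hx
  rw [heq]
  exact hfin

end Groth.Agent.Lib.Helper18.N1N2
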