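import Mathlib
import Groth.Prelude.Def_Found
import Groth.Agent.Lib.Helper11.Japanese
import Groth.Agent.Lib.Helper20.Nagata
import Groth.Agent.Lib.Helper18.N1N2

/-!
# Nagata / Japanese rings, part 1: localization, finite extensions, fields, characteristic zero,
reduction to purely inseparable extensions
-/

set_option autoImplicit false
set_option linter.style.haveILetI false
universe u
open CAlg Groth.Agent.Lib.Helper11.Japanese Groth.Agent.Lib.Helper20.Nagata

namespace Groth.Agent.Lib.Helper18.Nag

theorem isN2_quotient_of_isLocalization {R : Type u} [CommRing R] (M : Submonoid R) (S : Type u)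
    [CommRing S] [Algebra R S] [IsLocalization M S]
    (hR : ∀ (p : Ideal R) [p.IsPrime], IsN2 (R ⧸ p)) (q : Ideal S) [hq : q.IsPrime] :
    IsN2 (S ⧸ q) := by
  let p : Ideal R := q.comap (algebraMap R S)
  have hp : p.IsPrime := Ideal.comap_isPrime _ _
  have hmap : p.map (algebraMap R S) = q := IsLocalization.map_under M S q
  have hprime : (p.map (algebraMap R S)).IsPrime := hmap ▸ hq
  have hN2 : IsN2 (S ⧸ p.map (algebraMap R S)) :=
    isN2_of_isLocalization (R ⧸ p) (Algebra.algebraMapSubmonoid (R ⧸ p) M)
      (S ⧸ p.map (algebraMap R S)) (hR p)
  exact isN2_of_ringEquiv (Ideal.quotEquivOfEq hmap) hN2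

theorem isNagata_of_isLocalization {R : Type u} [CommRing R] (M : Submonoid R) (S : Type u)
    [CommRing S] [Algebra R S] [IsLocalization M S] (hR : IsNagata R) : IsNagata S := by
  haveI := hR.1
  refine ⟨IsLocalization.isNoetherianRing M S inferInstance, fun q _ => ?_⟩
  exact isN2_quotient_of_isLocalization M S (fun p _ => hR.2 p) q

attribute [local instance] FractionRing.liftAlgebra in
/-- A domain finite over an N-2 domain (injectively) is N-2. -/
theorem isN2_of_finite_injective (P B : Type u) [CommRing P] [IsDomain P] [CommRing B] [IsDomain B]
    [Algebra P B] [Module.Finite P B] (hinj : Function.Injective (algebraMap P B)) (hP : IsN2 P) :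
    IsN2 B := by
  intro L _ _ _ _ hfd
  haveI : FaithfulSMul P B := (faithfulSMul_iff_algebraMap_injective P B).mpr hinj
  haveI : Module.IsTorsionFree P B := inferInstance
  letI : Algebra P L := ((algebraMap B L).comp (algebraMap P B)).toAlgebra
  haveI : IsScalarTower P B L := IsScalarTower.of_algebraMap_eq (fun _ => rfl)
  letI : Algebra (FractionRing P) L :=
    ((algebraMap (FractionRing B) L).comp (algebraMap (FractionRing P) (FractionRing B))).toAlgebra
  haveI : IsScalarTower (FractionRing P) (FractionRing B) L :=
    IsScalarTower.of_algebraMap_eq (fun _ => rfl)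
  haveI : IsScalarTower P (FractionRing P) L := by
    refine IsScalarTower.of_algebraMap_eq (fun x => ?_)
    change algebraMap B L (algebraMap P B x) =
      algebraMap (FractionRing B) L (algebraMap (FractionRing P) (FractionRing B)
        (algebraMap P (FractionRing P) x))
    rw [← IsScalarTower.algebraMap_apply P (FractionRing P) (FractionRing B),
      IsScalarTower.algebraMap_apply P B (FractionRing B),
      ← IsScalarTower.algebraMap_apply B (FractionRing B) L]
  haveI : FiniteDimensional (FractionRing P) (FractionRing B) := inferInstance
  haveI : FiniteDimensional (FractionRing P) L :=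
    FiniteDimensional.trans (FractionRing P) (FractionRing B) L
  have h1 : Module.Finite P (integralClosure P L) := hP L inferInstance
  have hint : Algebra.IsIntegral P B := Algebra.IsIntegral.of_finite P B
  let φ : integralClosure P L →ₗ[P] integralClosure B L :=
    { toFun := fun x => ⟨x.1, x.2.tower_top⟩
      map_add' := fun _ _ => rfl
      map_smul' := fun _ _ => rfl }
  have hφ : Function.Surjective φ := fun x =>
    ⟨⟨x.1, isIntegral_trans (R := P) (A := B) x.1 x.2⟩, rfl⟩
  haveI : Module.Finite P (integralClosure B L) := Module.Finite.of_surjective φ hφ
  exact Module.Finite.of_restrictScalars_finite P B _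

theorem isN2_of_field (k : Type u) [Field k] : IsN2 k := by
  intro L _ _ _ _ hfd
  have hunits : nonZeroDivisors k ≤ IsUnit.submonoid k := fun x hx =>
    IsUnit.mk0 _ (nonZeroDivisors.ne_zero hx)
  let e : k ≃ₐ[k] FractionRing k := IsLocalization.atUnits k (nonZeroDivisors k) hunits
  haveI : Module.Finite k (FractionRing k) :=
    Module.Finite.of_surjective e.toLinearMap e.surjective
  haveI : Module.Finite k L := Module.Finite.trans (FractionRing k) L
  infer_instance

theorem isN2_of_isIntegrallyClosed_of_charZero (R : Type u) [CommRing R] [IsDomain R]
    [IsNoetherianRing R] [IsIntegrallyClosed R] [CharZero R] : IsN2 R := by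
  intro L _ _ _ _ hfd
  haveI : CharZero (FractionRing R) :=
    charZero_of_injective_algebraMap (IsFractionRing.injective R (FractionRing R))
  haveI : Algebra.IsSeparable (FractionRing R) L := Algebra.IsAlgebraic.isSeparable_of_perfectField
  exact IsIntegralClosure.finite R (FractionRing R) L (integralClosure R L)

theorem isPurelyInseparable_fixedField (K N : Type*) [Field K] [Field N] [Algebra K N]
    [hn : Normal K N] :
    IsPurelyInseparable K (IntermediateField.fixedField (⊤ : Subgroup (N ≃ₐ[K] N))) := by
  classical
  rw [isPurelyInseparable_iff_natSepDegree_eq_one]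
  intro x
  have hxint : IsIntegral K (x : N) := hn.isIntegral (x : N)
  have hmin : minpoly K x = minpoly K (x : N) := IntermediateField.minpoly_eq x
  rw [hmin, Polynomial.natSepDegree_eq_of_splits (E := N) _ (hn.splits _)]
  have hroots : ((minpoly K (x : N)).aroots N).toFinset = {(x : N)} := by
    ext y
    simp only [Multiset.mem_toFinset, Finset.mem_singleton, Polynomial.mem_aroots]
    constructor
    · rintro ⟨_, hy⟩
      obtain ⟨σ, hσ⟩ := minpoly.exists_algEquiv_of_root' hxint.isAlgebraic hy
      rw [← hσ]
      exact (((IntermediateField.mem_fixedField_iff _ _).mp x.2) σ trivial)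
    · rintro rfl
      exact ⟨minpoly.ne_zero hxint, minpoly.aeval K _⟩
  rw [hroots, Finset.card_singleton]

/-- Tower step: if the integral closure of `R` in `L` is finite and `N/L` is finite separable then the
integral closure of `R` in `N` is finite. -/
theorem finite_integralClosure_of_tower_isSeparable
    (R K L N : Type*) [CommRing R] [IsDomain R] [IsNoetherianRing R]
    [Field K] [Algebra R K] [IsFractionRing R K] [Field L] [Algebra K L] [Algebra R L]
    [IsScalarTower R K L] [FiniteDimensional K L]
    [Field N] [Algebra L N] [Algebra R N] [IsScalarTower R L N]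
    [FiniteDimensional L N] [Algebra.IsSeparable L N]
    (h : Module.Finite R (integralClosure R L)) : Module.Finite R (integralClosure R N) := by
  classical
  have hfrac : IsFractionRing (integralClosure R L) L :=
    integralClosure.isFractionRing_of_finite_extension K L
  have hic : IsIntegrallyClosed (integralClosure R L) :=
    integralClosure.isIntegrallyClosedOfFiniteExtension K
  have hNoeth : IsNoetherian R (integralClosure R L) :=
    isNoetherian_of_isNoetherianRing_of_finite R (integralClosure R L)
  have hNR : IsNoetherianRing (integralClosure R L) :=
    isNoetherianRing_iff.mpr (isNoetherian_of_tower R hNoeth)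
  have hst1 : IsScalarTower (integralClosure R L) L N := inferInstance
  have hst2 : IsScalarTower R (integralClosure R L) N := IsScalarTower.of_algebraMap_eq (fun x => by
    rw [IsScalarTower.algebraMap_apply R L N]
    rfl)
  have hfin' : Module.Finite (integralClosure R L) (integralClosure (integralClosure R L) N) :=
    IsIntegralClosure.finite (integralClosure R L) L N _
  have hfin : Module.Finite R (integralClosure (integralClosure R L) N) :=
    Module.Finite.trans (integralClosure R L) _
  have heq : integralClosure R N = (integralClosure (integralClosure R L) N).restrictScalars R := by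
    ext x
    simp only [mem_integralClosure_iff, Subalgebra.mem_restrictScalars]
    constructor
    · exact fun hx => hx.tower_top
    · intro hx
      exact isIntegral_trans (R := R) (A := integralClosure R L) x hx
  rw [heq]
  exact hfin

/-- Reduction to purely inseparable extensions. -/
theorem isN2_of_forall_purelyInseparable (R : Type u) [CommRing R] [IsDomain R]
    [IsNoetherianRing R]
    (h : ∀ (L : Type u) [Field L] [Algebra R L] [Algebra (FractionRing R) L]
      [IsScalarTower R (FractionRing R) L], FiniteDimensional (FractionRing R) L →
      IsPurelyInseparable (FractionRing R) L → Module.Finite R (integralClosure R L)) :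
    IsN2 R := by
  intro M _ _ _ _ hfd
  let K := FractionRing R
  let Ω := AlgebraicClosure M
  haveI : Algebra.IsAlgebraic K M := Algebra.IsAlgebraic.of_finite K M
  haveI : IsAlgClosure K Ω := IsAlgClosure.ofAlgebraic K M Ω
  haveI : Normal K Ω := IsAlgClosure.normal K Ω
  let N : IntermediateField K Ω := IntermediateField.normalClosure K M Ω
  haveI : Normal K N := normalClosure.normal K M Ω
  haveI : FiniteDimensional K N := normalClosure.is_finiteDimensional K M Ω
  let L : IntermediateField K N := IntermediateField.fixedField (⊤ : Subgroup (N ≃ₐ[K] N))
  haveI : IsPurelyInseparable K L := isPurelyInseparable_fixedField K N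
  haveI : IsScalarTower R K Ω := by
    refine IsScalarTower.of_algebraMap_eq (fun x => ?_)
    rw [IsScalarTower.algebraMap_apply R M Ω, IsScalarTower.algebraMap_apply R K M,
      ← IsScalarTower.algebraMap_apply K M Ω]
  have h1 : Module.Finite R (integralClosure R L) := h L inferInstance inferInstance
  haveI : IsScalarTower R L N := IsScalarTower.of_algebraMap_eq (fun _ => rfl)
  haveI : IsGalois L N := IsGalois.of_fixed_field N (⊤ : Subgroup (N ≃ₐ[K] N))
  have h2 : Module.Finite R (integralClosure R N) :=
    finite_integralClosure_of_tower_isSeparable R K L N h1
  -- embed the integral closure in `M` into the one in `N`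
  haveI : IsScalarTower R M N := by
    refine IsScalarTower.of_algebraMap_eq (fun x => ?_)
    rw [IsScalarTower.algebraMap_apply R K N, IsScalarTower.algebraMap_apply R K M,
      ← IsScalarTower.algebraMap_apply K M N]
  let φ : integralClosure R M →ₗ[R] integralClosure R N :=
    { toFun := fun x => ⟨algebraMap M N x.1,
        x.2.map (IsScalarTower.toAlgHom R M N)⟩
      map_add' := fun x y => by
        apply Subtype.ext
        simp
      map_smul' := fun r x => by
        apply Subtype.ext
        simp [Algebra.smul_def, ← IsScalarTower.algebraMap_apply] }
  have hφ : Function.Injective φ := by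
    intro x y hxy
    apply Subtype.ext
    have := congrArg Subtype.val hxy
    exact (algebraMap M N).injective this
  haveI : IsNoetherian R (integralClosure R N) := isNoetherian_of_isNoetherianRing_of_finite R _
  exact Module.Finite.of_injective φ hφ

end Groth.Agent.Lib.Helper18.Nag
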