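import Mathlib
import Groth.Prelude.Def_Found
import Groth.Agent.Lib.Helper18.Nag1
import Groth.Agent.Lib.Helper15.RigClosed

/-!
# Nagata / Japanese rings, part 2: Tate's lemma
-/

set_option autoImplicit false
set_option linter.style.haveILetI false
set_option linter.unusedSectionVars false
universe u
open CAlg Groth.Agent.Lib.Helper11.Japanese Groth.Agent.Lib.Helper20.Nagata

namespace Groth.Agent.Lib.Helper18.Nag



section core

variable (R : Type u) [CommRing R] [IsDomain R] (x : R)
  (S : Type u) [CommRing S] [IsDomain S] [Algebra R S]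
  (q : ℕ) (ρ : S →+* R) (y : S)

/-- `ρ` on the base ring is the `q`-th power. -/
theorem tate_rho_algebraMap (hinj : Function.Injective (algebraMap R S))
    (hρ1 : ∀ s, algebraMap R S (ρ s) = s ^ q) (r : R) : ρ (algebraMap R S r) = r ^ q := by
  apply hinj
  rw [hρ1, map_pow]

theorem tate_rho_y (hinj : Function.Injective (algebraMap R S))
    (hρ1 : ∀ s, algebraMap R S (ρ s) = s ^ q) (hy : y ^ q = algebraMap R S x) : ρ y = x := by
  apply hinj
  rw [hρ1, hy]

theorem tate_mem_iff (hinj : Function.Injective (algebraMap R S))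
    (hρ1 : ∀ s, algebraMap R S (ρ s) = s ^ q) (hy : y ^ q = algebraMap R S x)
    (hsat : ∀ s, ρ s ∈ Ideal.span ({x} : Set R) → s ∈ Ideal.span ({y} : Set S)) (s : S) :
    s ∈ Ideal.span ({y} : Set S) ↔ ρ s ∈ Ideal.span ({x} : Set R) := by
  refine ⟨fun h => ?_, hsat s⟩
  obtain ⟨a, rfl⟩ := Ideal.mem_span_singleton'.mp h
  rw [map_mul, tate_rho_y R x S q ρ y hinj hρ1 hy]
  exact Ideal.mul_mem_left _ _ (Ideal.mem_span_singleton_self x)

theorem tate_isPrime [hxp : (Ideal.span ({x} : Set R)).IsPrime]
    (hinj : Function.Injective (algebraMap R S))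
    (hρ1 : ∀ s, algebraMap R S (ρ s) = s ^ q) (hy : y ^ q = algebraMap R S x)
    (hsat : ∀ s, ρ s ∈ Ideal.span ({x} : Set R) → s ∈ Ideal.span ({y} : Set S)) :
    (Ideal.span ({y} : Set S)).IsPrime := by
  have hiff := tate_mem_iff R x S q ρ y hinj hρ1 hy hsat
  refine ⟨?_, fun {a b} hab => ?_⟩
  · intro htop
    have h1 : (1 : S) ∈ Ideal.span ({y} : Set S) := by rw [htop]; trivial
    rw [hiff, map_one] at h1
    exact hxp.ne_top ((Ideal.eq_top_iff_one _).mpr h1)
  · rw [hiff, map_mul] at hab
    rw [hiff, hiff]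
    exact hxp.mem_or_mem hab

theorem tate_comap [hxp : (Ideal.span ({x} : Set R)).IsPrime] (hq : 0 < q)
    (hinj : Function.Injective (algebraMap R S))
    (hρ1 : ∀ s, algebraMap R S (ρ s) = s ^ q) (hy : y ^ q = algebraMap R S x)
    (hsat : ∀ s, ρ s ∈ Ideal.span ({x} : Set R) → s ∈ Ideal.span ({y} : Set S)) (r : R) :
    algebraMap R S r ∈ Ideal.span ({y} : Set S) ↔ r ∈ Ideal.span ({x} : Set R) := by
  rw [tate_mem_iff R x S q ρ y hinj hρ1 hy hsat, tate_rho_algebraMap R S q ρ hinj hρ1]
  refine ⟨fun h => hxp.mem_of_pow_mem q h, fun h => ?_⟩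
  obtain ⟨k, rfl⟩ : ∃ k, q = k + 1 := ⟨q - 1, by omega⟩
  rw [pow_succ]
  exact Ideal.mul_mem_left _ _ h

end core




/-- Independence modulo `J` lifts to independence, when `R` is `x`-adically separated. -/
theorem tate_linearIndependent_lift (R : Type u) [CommRing R] [IsDomain R] (x : R) (hx0 : x ≠ 0)
    [IsHausdorff (Ideal.span ({x} : Set R)) R]
    (S : Type u) [CommRing S] [IsDomain S] [Algebra R S]
    (hinj : Function.Injective (algebraMap R S)) (J : Ideal S)
    {ι : Type*} [Fintype ι] (v : ι → S)
    (hv : ∀ g : ι → R, ∑ i, g i • v i ∈ J → ∀ i, g i ∈ Ideal.span ({x} : Set R)) :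
    LinearIndependent R v := by
  have hP : ∀ k : ℕ, ∀ g : ι → R, ∑ i, g i • v i = 0 → ∀ i, g i ∈ (Ideal.span ({x} : Set R)) ^ k := by
    intro k
    induction k with
    | zero => intro g _ i; simp
    | succ k ih =>
      intro g hg i
      have h1 : ∀ i, g i ∈ Ideal.span ({x} : Set R) := hv g (by rw [hg]; exact J.zero_mem)
      have h2 : ∀ i, ∃ a, g i = x * a := fun i => Ideal.mem_span_singleton.mp (h1 i)
      choose g' hg' using h2
      have h3 : ∑ i, g' i • v i = 0 := by
        have h4 : x • ∑ i, g' i • v i = 0 := by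
          rw [Finset.smul_sum, ← hg]
          refine Finset.sum_congr rfl (fun i _ => ?_)
          rw [hg' i, mul_smul]
        rw [Algebra.smul_def] at h4
        rcases mul_eq_zero.mp h4 with h5 | h5
        · exact absurd (hinj (h5.trans (map_zero _).symm)) hx0
        · exact h5
      rw [hg' i, pow_succ']
      exact Ideal.mul_mem_mul (Ideal.mem_span_singleton_self x) (ih g' h3 i)
  rw [Fintype.linearIndependent_iff]
  intro g hg i
  apply IsHausdorff.haus (I := Ideal.span ({x} : Set R)) inferInstance
  intro k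
  rw [SModEq.zero, smul_eq_mul, Ideal.mul_top]
  exact hP k g hg i




attribute [local instance] FractionRing.liftAlgebra in
theorem tate_finite_quotient (R : Type u) [CommRing R] [IsDomain R] [IsNoetherianRing R]
    (x : R) (hx0 : x ≠ 0)
    [hxp : (Ideal.span ({x} : Set R)).IsPrime] [IsHausdorff (Ideal.span ({x} : Set R)) R]
    (h2 : IsN2 (R ⧸ Ideal.span ({x} : Set R)))
    (S : Type u) [CommRing S] [IsDomain S] [Algebra R S]
    (hinj : Function.Injective (algebraMap R S)) [hint : Algebra.IsIntegral R S]
    (J : Ideal S) [hJ : J.IsPrime]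
    (hcomap : ∀ r, algebraMap R S r ∈ J ↔ r ∈ Ideal.span ({x} : Set R))
    (n : ℕ) (hrank : ∀ t : Finset S, LinearIndependent R (fun i : t => (i : S)) → t.card ≤ n) :
    Module.Finite R (S ⧸ J) := by
  classical
  set I := Ideal.span ({x} : Set R) with hI
  have hle : I ≤ J.comap (algebraMap R S) := fun r hr => (hcomap r).mpr hr
  have hge : J.comap (algebraMap R S) ≤ I := fun r hr => (hcomap r).mp hr
  letI algBC : Algebra (R ⧸ I) (S ⧸ J) := (Ideal.quotientMap J (algebraMap R S) hle).toAlgebra
  haveI : IsScalarTower R (R ⧸ I) (S ⧸ J) := IsScalarTower.of_algebraMap_eq (fun r => rfl)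
  have hinjBC : Function.Injective (algebraMap (R ⧸ I) (S ⧸ J)) :=
    Ideal.quotientMap_injective' hge
  haveI : FaithfulSMul (R ⧸ I) (S ⧸ J) := (faithfulSMul_iff_algebraMap_injective _ _).mpr hinjBC
  haveI : Algebra.IsIntegral (R ⧸ I) (S ⧸ J) := by
    refine ⟨fun c => ?_⟩
    obtain ⟨s, rfl⟩ := Ideal.Quotient.mk_surjective c
    have h1 : IsIntegral R s := hint.isIntegral s
    have h2 : IsIntegral R (Ideal.Quotient.mkₐ R J s) := h1.map (Ideal.Quotient.mkₐ R J)
    exact h2.tower_top
  -- the rank bound
  have hrk : Module.rank (R ⧸ I) (S ⧸ J) ≤ n := by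
    apply rank_le
    intro t ht
    let v : t → S := fun c => Function.surjInv Ideal.Quotient.mk_surjective (c : S ⧸ J)
    have hvmk : ∀ c : t, Ideal.Quotient.mk J (v c) = (c : S ⧸ J) := fun c =>
      Function.surjInv_eq Ideal.Quotient.mk_surjective (c : S ⧸ J)
    have hvli : LinearIndependent R v := by
      apply tate_linearIndependent_lift R x hx0 S hinj J v
      intro g hg i
      have h3 : ∑ i, (Ideal.Quotient.mk I (g i)) • ((i : S ⧸ J)) = 0 := by
        have h4 : Ideal.Quotient.mk J (∑ i, g i • v i) = 0 := Ideal.Quotient.eq_zero_iff_mem.mpr hg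
        rw [map_sum] at h4
        rw [← h4]
        refine Finset.sum_congr rfl (fun i _ => ?_)
        rw [← hvmk i, Algebra.smul_def, Algebra.smul_def, map_mul]
        rfl
      have h5 := (Fintype.linearIndependent_iff.mp ht) (fun i => Ideal.Quotient.mk I (g i)) h3 i
      exact Ideal.Quotient.eq_zero_iff_mem.mp h5
    have hvinj : Function.Injective v := hvli.injective
    let t' : Finset S := Finset.univ.image v
    have hcard : t'.card = t.card := by
      rw [Finset.card_image_of_injective _ hvinj, Finset.card_univ, Fintype.card_coe]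
    have hli' : LinearIndependent R (fun i : t' => (i : S)) := by
      have h6 : LinearIndepOn R id (t' : Set S) :=
        LinearIndependent.linearIndepOn_id' hvli (t := (t' : Set S)) (by
          ext s
          simp [t'])
      exact h6
    rw [← hcard]
    exact hrank t' hli'
  have hrk' : Module.rank (FractionRing (R ⧸ I)) (FractionRing (S ⧸ J)) ≤ n := by
    rw [Algebra.IsAlgebraic.rank_fractionRing]
    exact hrk
  haveI : Module.Free (FractionRing (R ⧸ I)) (FractionRing (S ⧸ J)) :=
    Module.Free.of_divisionRing _ _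
  haveI : FiniteDimensional (FractionRing (R ⧸ I)) (FractionRing (S ⧸ J)) :=
    Module.rank_lt_aleph0_iff.mp (lt_of_le_of_lt hrk' (Cardinal.natCast_lt_aleph0))
  have hfin : Module.Finite (R ⧸ I) (integralClosure (R ⧸ I) (FractionRing (S ⧸ J))) :=
    h2 (FractionRing (S ⧸ J)) inferInstance
  let φ : (S ⧸ J) →ₗ[R ⧸ I] integralClosure (R ⧸ I) (FractionRing (S ⧸ J)) :=
    { toFun := fun c => ⟨algebraMap (S ⧸ J) (FractionRing (S ⧸ J)) c,
        (Algebra.IsIntegral.isIntegral (R := R ⧸ I) c).map
          (IsScalarTower.toAlgHom (R ⧸ I) (S ⧸ J) (FractionRing (S ⧸ J)))⟩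
      map_add' := fun a b => by
        apply Subtype.ext
        simp
      map_smul' := fun r a => by
        apply Subtype.ext
        simp [Algebra.smul_def, ← IsScalarTower.algebraMap_apply] }
  have hφ : Function.Injective φ := by
    intro a b hab
    have := congrArg Subtype.val hab
    exact IsFractionRing.injective (S ⧸ J) (FractionRing (S ⧸ J)) this
  haveI : IsNoetherian (R ⧸ I) (integralClosure (R ⧸ I) (FractionRing (S ⧸ J))) :=
    isNoetherian_of_isNoetherianRing_of_finite (R ⧸ I) _
  haveI : Module.Finite (R ⧸ I) (S ⧸ J) := Module.Finite.of_injective φ hφ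
  exact Module.Finite.trans (R ⧸ I) (S ⧸ J)




theorem finite_quotient_span_pow (R S : Type*) [CommRing R] [CommRing S] [Algebra R S] (y : S)
    (h : Module.Finite R (S ⧸ Ideal.span ({y} : Set S))) (k : ℕ) :
    Module.Finite R (S ⧸ Ideal.span ({y ^ k} : Set S)) := by
  induction k with
  | zero =>
    have : Ideal.span ({y ^ 0} : Set S) = ⊤ := by
      rw [pow_zero, Ideal.span_singleton_one]
    haveI : Subsingleton (S ⧸ Ideal.span ({y ^ 0} : Set S)) := by
      rw [this]
      exact Ideal.Quotient.subsingleton_iff.mpr rfl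
    infer_instance
  | succ k ih =>
    have hle : Ideal.span ({y ^ (k + 1)} : Set S) ≤ Ideal.span ({y ^ k} : Set S) := by
      rw [Ideal.span_singleton_le_span_singleton, pow_succ]
      exact Dvd.intro _ rfl
    let f₀ : S →ₗ[S] S ⧸ Ideal.span ({y ^ (k + 1)} : Set S) :=
      (Submodule.mkQ _) ∘ₗ (LinearMap.toSpanSingleton S S (y ^ k))
    have hf₀ : Ideal.span ({y} : Set S) ≤ LinearMap.ker f₀ := by
      rw [Ideal.span_le, Set.singleton_subset_iff]
      change f₀ y = 0
      simp only [f₀, LinearMap.comp_apply, LinearMap.toSpanSingleton_apply, Submodule.mkQ_apply]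
      rw [Submodule.Quotient.mk_eq_zero, smul_eq_mul, mul_comm, ← pow_succ]
      exact Ideal.mem_span_singleton_self _
    let f : (S ⧸ Ideal.span ({y} : Set S)) →ₗ[S] S ⧸ Ideal.span ({y ^ (k + 1)} : Set S) :=
      Submodule.liftQ _ f₀ hf₀
    let g : (S ⧸ Ideal.span ({y ^ (k + 1)} : Set S)) →ₗ[S] S ⧸ Ideal.span ({y ^ k} : Set S) :=
      Submodule.factor hle
    have hg : Function.Surjective g := Submodule.factor_surjective hle
    have hex : Function.Exact f g := by
      intro m
      obtain ⟨s, rfl⟩ := Submodule.Quotient.mk_surjective _ m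
      constructor
      · intro hm
        have h1 : s ∈ Ideal.span ({y ^ k} : Set S) := by
          have : g (Submodule.Quotient.mk s) = Submodule.Quotient.mk s := rfl
          rw [this, Submodule.Quotient.mk_eq_zero] at hm
          exact hm
        obtain ⟨a, rfl⟩ := Ideal.mem_span_singleton'.mp h1
        refine ⟨Submodule.Quotient.mk a, ?_⟩
        simp only [f, Submodule.liftQ_apply, f₀, LinearMap.comp_apply,
          LinearMap.toSpanSingleton_apply, Submodule.mkQ_apply, smul_eq_mul]
      · rintro ⟨m', hm'⟩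
        obtain ⟨a, rfl⟩ := Submodule.Quotient.mk_surjective _ m'
        rw [← hm']
        simp only [f, Submodule.liftQ_apply, f₀, LinearMap.comp_apply,
          LinearMap.toSpanSingleton_apply, Submodule.mkQ_apply, smul_eq_mul]
        change Submodule.Quotient.mk (a * y ^ k) = 0
        rw [Submodule.Quotient.mk_eq_zero]
        exact Ideal.mul_mem_left _ _ (Ideal.mem_span_singleton_self _)
    exact Module.Finite.of_exact (f := f.restrictScalars R) (g := g.restrictScalars R) hex hg




/-- Abstract core of Tate's lemma. -/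
theorem tate_core (R : Type u) [CommRing R] [IsDomain R] [IsNoetherianRing R] (x : R) (hx0 : x ≠ 0)
    [hxp : (Ideal.span ({x} : Set R)).IsPrime]
    (h2 : IsN2 (R ⧸ Ideal.span ({x} : Set R))) [IsAdicComplete (Ideal.span ({x} : Set R)) R]
    (S : Type u) [CommRing S] [IsDomain S] [Algebra R S] (hinj : Function.Injective (algebraMap R S))
    (q : ℕ) (hq : 0 < q) (ρ : S →+* R) (hρ1 : ∀ s, algebraMap R S (ρ s) = s ^ q)
    (y : S) (hy : y ^ q = algebraMap R S x)
    (hsat : ∀ s, ρ s ∈ Ideal.span ({x} : Set R) → s ∈ Ideal.span ({y} : Set S))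
    (n : ℕ) (hrank : ∀ t : Finset S, LinearIndependent R (fun i : t => (i : S)) → t.card ≤ n) :
    Module.Finite R S := by
  haveI hJp := tate_isPrime R x S q ρ y hinj hρ1 hy hsat
  have hcomap := tate_comap R x S q ρ y hq hinj hρ1 hy hsat
  have hρalg := tate_rho_algebraMap R S q ρ hinj hρ1
  haveI : Algebra.IsIntegral R S := by
    refine ⟨fun s => ⟨Polynomial.X ^ q - Polynomial.C (ρ s),
      Polynomial.monic_X_pow_sub_C (ρ s) hq.ne', ?_⟩⟩
    simp [hρ1]
  have h1 : Module.Finite R (S ⧸ Ideal.span ({y} : Set S)) :=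
    tate_finite_quotient R x hx0 h2 S hinj (Ideal.span ({y} : Set S)) hcomap n hrank
  have h3 : Module.Finite R (S ⧸ Ideal.span ({y ^ q} : Set S)) :=
    finite_quotient_span_pow R S y h1 q
  have hmap : (Ideal.span ({x} : Set R)).map (algebraMap R S) = Ideal.span ({y ^ q} : Set S) := by
    rw [Ideal.map_span, Set.image_singleton, hy]
  haveI : IsHausdorff ((Ideal.span ({x} : Set R)).map (algebraMap R S)) S := by
    refine ⟨fun s hs => ?_⟩
    have hρs : ρ s = 0 := by
      apply IsHausdorff.haus (I := Ideal.span ({x} : Set R)) inferInstance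
      intro k
      rw [SModEq.zero, smul_eq_mul, Ideal.mul_top]
      have h4 := hs k
      rw [SModEq.zero, smul_eq_mul, Ideal.mul_top, hmap, Ideal.span_singleton_pow] at h4
      obtain ⟨a, rfl⟩ := Ideal.mem_span_singleton'.mp h4
      have h6 : ρ (y ^ q) = x ^ q := by rw [hy, hρalg]
      rw [map_mul, map_pow ρ (y ^ q) k, h6, Ideal.span_singleton_pow]
      apply Ideal.mul_mem_left
      rw [← pow_mul, mul_comm, pow_mul]
      obtain ⟨j, rfl⟩ : ∃ j, q = j + 1 := ⟨q - 1, by omega⟩
      rw [pow_succ]
      exact Ideal.mul_mem_left _ _ (Ideal.mem_span_singleton_self _)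
    have h5 : s ^ q = 0 := by rw [← hρ1, hρs, map_zero]
    exact pow_eq_zero_iff hq.ne' |>.mp h5
  apply Groth.Agent.Lib.Helper15.finite_of_finite_quotient_map (Ideal.span ({x} : Set R)) S
  rw [hmap]
  exact h3




open IsPurelyInseparable in
/-- Enlarge a finite purely inseparable extension so that `x` acquires a `p^e`-th root, with `p^e`
an exponent of the enlarged extension. -/
theorem exists_enlarge_purelyInseparable (K L : Type u) [Field K] [Field L] [Algebra K L]
    [FiniteDimensional K L] [IsPurelyInseparable K L] (p : ℕ) [ExpChar K p] (x : K) :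
    ∃ (L' : Type u) (_ : Field L') (_ : Algebra K L') (_ : Algebra L L')
      (_ : IsScalarTower K L L') (_ : FiniteDimensional K L') (e : ℕ) (Φ : L' →+* K) (y : L'),
      (∀ a, algebraMap K L' (Φ a) = a ^ p ^ e) ∧ y ^ p ^ e = algebraMap K L' x := by
  classical
  let e₀ := exponent K L
  let Ω := AlgebraicClosure L
  haveI : ExpChar L p := expChar_of_injective_algebraMap (algebraMap K L).injective p
  haveI : ExpChar Ω p := expChar_of_injective_algebraMap (algebraMap L Ω).injective p
  have hpos : 0 < p ^ e₀ := expChar_pow_pos K p e₀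
  obtain ⟨y, hy⟩ := IsAlgClosed.exists_pow_nat_eq (algebraMap K Ω x) hpos
  let L' : IntermediateField L Ω := IntermediateField.adjoin L {y}
  have hyint : IsIntegral L y := Algebra.IsIntegral.isIntegral y
  haveI : FiniteDimensional L L' := IntermediateField.adjoin.finiteDimensional hyint
  haveI : IsScalarTower K L L' := IsScalarTower.of_algebraMap_eq (fun _ => rfl)
  haveI : FiniteDimensional K L' := FiniteDimensional.trans K L L'
  -- the subfield of elements whose `p^e₀`-th power lies in `K`
  let T : Subfield Ω := ((algebraMap K Ω).fieldRange).comap (iterateFrobenius Ω p e₀)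
  have hLT : L'.toSubfield ≤ T := by
    rw [IntermediateField.adjoin_toSubfield, Subfield.closure_le]
    rintro z (⟨l, rfl⟩ | hz)
    · change iterateFrobenius Ω p e₀ (algebraMap L Ω l) ∈ (algebraMap K Ω).fieldRange
      rw [iterateFrobenius_def, ← map_pow]
      obtain ⟨k, hk⟩ := exponent_def' K p l
      refine ⟨k, ?_⟩
      rw [IsScalarTower.algebraMap_apply K L Ω, hk]
    · rw [Set.mem_singleton_iff] at hz
      subst hz
      change iterateFrobenius Ω p e₀ z ∈ (algebraMap K Ω).fieldRange
      rw [iterateFrobenius_def, hy]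
      exact ⟨x, rfl⟩
  have hexp : ∀ a : L', a ^ p ^ e₀ ∈ (algebraMap K L').range := by
    intro a
    have h1 : (a : Ω) ∈ T := hLT a.2
    obtain ⟨k, hk⟩ := h1
    refine ⟨k, ?_⟩
    apply Subtype.ext
    rw [iterateFrobenius_def] at hk
    exact hk
  haveI : HasExponent K L' := (hasExponent_iff' K L' p).mpr ⟨e₀, hexp⟩
  have hn : exponent K L' ≤ e₀ := by
    by_contra h
    rw [not_le] at h
    obtain ⟨a, ha⟩ := exponent_min' p h
    exact ha (hexp a)
  refine ⟨L', inferInstance, inferInstance, inferInstance, inferInstance, inferInstance, e₀,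
    IsPurelyInseparable.iterateFrobenius K L' p hn,
    ⟨y, IntermediateField.mem_adjoin_simple_self L y⟩, fun a => ?_, ?_⟩
  · exact algebraMap_iterateFrobenius K p hn a
  · apply Subtype.ext
    exact hy




theorem isIntegral_of_pow_eq {R A : Type*} [CommRing R] [CommRing A] [Algebra R A] {q : ℕ}
    (hq : 0 < q) {z : A} {r : R} (h : z ^ q = algebraMap R A r) : IsIntegral R z := by
  refine ⟨Polynomial.X ^ q - Polynomial.C r, Polynomial.monic_X_pow_sub_C r hq.ne', ?_⟩
  simp [h]

theorem tate_finite_of_purelyInseparable (R : Type u) [CommRing R] [IsDomain R]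
    [IsNoetherianRing R] [IsIntegrallyClosed R] (x : R) (hx0 : x ≠ 0)
    [(Ideal.span ({x} : Set R)).IsPrime]
    (h2 : IsN2 (R ⧸ Ideal.span ({x} : Set R))) [IsAdicComplete (Ideal.span ({x} : Set R)) R]
    (L : Type u) [Field L] [Algebra R L] [Algebra (FractionRing R) L]
    [IsScalarTower R (FractionRing R) L]
    [FiniteDimensional (FractionRing R) L] [IsPurelyInseparable (FractionRing R) L] :
    Module.Finite R (integralClosure R L) := by
  classical
  obtain ⟨p, hp⟩ := ExpChar.exists R
  let K := FractionRing R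
  have hinjRK : Function.Injective (algebraMap R K) := IsFractionRing.injective R K
  haveI : ExpChar K p := expChar_of_injective_algebraMap hinjRK p
  obtain ⟨L', _, _, _, _, _, e, Φ, y, hΦ, hy⟩ :=
    exists_enlarge_purelyInseparable K L p (algebraMap R K x)
  letI : Algebra R L' := ((algebraMap K L').comp (algebraMap R K)).toAlgebra
  haveI : IsScalarTower R K L' := IsScalarTower.of_algebraMap_eq (fun _ => rfl)
  haveI : IsScalarTower R L L' := by
    refine IsScalarTower.of_algebraMap_eq (fun r => ?_)
    rw [IsScalarTower.algebraMap_apply R K L', IsScalarTower.algebraMap_apply K L L',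
      ← IsScalarTower.algebraMap_apply R K L]
  have hinjRL' : Function.Injective (algebraMap R L') := by
    rw [IsScalarTower.algebraMap_eq R K L']
    exact (algebraMap K L').injective.comp hinjRK
  set q := p ^ e with hqdef
  have hq : 0 < q := expChar_pow_pos K p e
  let S := integralClosure R L'
  have hΦint : ∀ s : S, (Φ.comp (S.val : S →ₐ[R] L').toRingHom) s ∈ (algebraMap R K).range := by
    intro s
    have h1 : IsIntegral R ((s : L') ^ q) := s.2.pow q
    rw [← hΦ] at h1
    have h3 : IsIntegral R (Φ (s : L')) :=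
      (isIntegral_algebraMap_iff (algebraMap K L').injective).mp h1
    exact IsIntegrallyClosed.isIntegral_iff.mp h3
  let eqv : R ≃+* (algebraMap R K).range :=
    RingEquiv.ofBijective (algebraMap R K).rangeRestrict
      ⟨fun a b hab => hinjRK (congrArg Subtype.val hab), (algebraMap R K).rangeRestrict_surjective⟩
  let ρ : S →+* R := eqv.symm.toRingHom.comp
    ((Φ.comp (S.val : S →ₐ[R] L').toRingHom).codRestrict (algebraMap R K).range hΦint)
  have hρspec : ∀ s : S, algebraMap R K (ρ s) = Φ (s : L') := by
    intro s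
    have h1 : eqv (ρ s) =
        ((Φ.comp (S.val : S →ₐ[R] L').toRingHom).codRestrict (algebraMap R K).range hΦint) s :=
      eqv.apply_symm_apply _
    exact congrArg Subtype.val h1
  have hρ1 : ∀ s : S, algebraMap R S (ρ s) = s ^ q := by
    intro s
    apply Subtype.ext
    change algebraMap R L' (ρ s) = (s : L') ^ q
    rw [IsScalarTower.algebraMap_apply R K L', hρspec, hΦ]
  have hyL' : y ^ q = algebraMap R L' x := by
    rw [hy, ← IsScalarTower.algebraMap_apply R K L']
  let y' : S := ⟨y, isIntegral_of_pow_eq hq hyL'⟩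
  have hy' : y' ^ q = algebraMap R S x := by
    apply Subtype.ext
    exact hyL'
  have hinjS : Function.Injective (algebraMap R S) := by
    intro a b hab
    apply hinjRL'
    exact congrArg Subtype.val hab
  have hy0 : y ≠ 0 := by
    intro h0
    rw [h0, zero_pow hq.ne'] at hyL'
    exact hx0 (hinjRL' (by rw [← hyL', map_zero]))
  have hsat : ∀ s : S, ρ s ∈ Ideal.span ({x} : Set R) → s ∈ Ideal.span ({y'} : Set S) := by
    intro s hs
    obtain ⟨r, hr⟩ := Ideal.mem_span_singleton.mp hs
    have h1 : ((s : L') / y) ^ q = algebraMap R L' r := by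
      rw [div_pow, hyL']
      have h3 : (s : L') ^ q = algebraMap R L' (x * r) := by
        rw [← hr, IsScalarTower.algebraMap_apply R K L', hρspec, hΦ]
      rw [h3, map_mul, mul_div_assoc, mul_comm, div_mul_cancel₀]
      intro h0
      exact hx0 (hinjRL' (by rw [h0, map_zero]))
    let t : S := ⟨(s : L') / y, isIntegral_of_pow_eq hq h1⟩
    rw [Ideal.mem_span_singleton']
    refine ⟨t, ?_⟩
    apply Subtype.ext
    change (s : L') / y * y = s
    exact div_mul_cancel₀ _ hy0
  have hrank : ∀ t : Finset S, LinearIndependent R (fun i : t => (i : S)) →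
      t.card ≤ Module.finrank K L' := by
    intro t ht
    have h1 : LinearIndependent R (fun i : t => ((i : S) : L')) :=
      ht.map' S.val.toLinearMap (LinearMap.ker_eq_bot.mpr Subtype.val_injective)
    have h3 : LinearIndependent K (fun i : t => ((i : S) : L')) :=
      (LinearIndependent.iff_fractionRing R K).mp h1
    have := h3.fintype_card_le_finrank
    rwa [Fintype.card_coe] at this
  have hfinS : Module.Finite R S :=
    tate_core R x hx0 h2 S hinjS q hq ρ hρ1 y' hy' hsat _ hrank
  -- finally embed the integral closure in `L`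
  let φ : integralClosure R L →ₗ[R] S :=
    { toFun := fun z => ⟨algebraMap L L' z.1, z.2.map (IsScalarTower.toAlgHom R L L')⟩
      map_add' := fun a b => by
        apply Subtype.ext
        simp
      map_smul' := fun r a => by
        apply Subtype.ext
        simp [Algebra.smul_def, ← IsScalarTower.algebraMap_apply] }
  have hφ : Function.Injective φ := by
    intro a b hab
    apply Subtype.ext
    exact (algebraMap L L').injective (congrArg Subtype.val hab)
  haveI : IsNoetherian R S := isNoetherian_of_isNoetherianRing_of_finite R S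
  exact Module.Finite.of_injective φ hφ


/-- **Tate's lemma**. -/
theorem tate (R : Type u) [CommRing R] [IsDomain R] [IsNoetherianRing R] [IsIntegrallyClosed R]
    (x : R) [(Ideal.span ({x} : Set R)).IsPrime]
    (h2 : CAlg.IsN2 (R ⧸ Ideal.span ({x} : Set R)))
    [IsAdicComplete (Ideal.span ({x} : Set R)) R] : CAlg.IsN2 R := by
  by_cases hx0 : x = 0
  · subst hx0
    have h0 : Ideal.span ({(0 : R)} : Set R) = ⊥ := Ideal.span_singleton_eq_bot.mpr rfl
    exact isN2_of_ringEquiv ((Ideal.quotEquivOfEq h0).trans (RingEquiv.quotientBot R)) h2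
  · apply isN2_of_forall_purelyInseparable
    intro L _ _ _ _ hfd hpi
    exact tate_finite_of_purelyInseparable R x hx0 h2 L

end Groth.Agent.Lib.Helper18.Nag
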