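import Mathlib
import Groth.Prelude.Def_Found
import Groth.Agent.Lib.Helper18.Nag2

/-!
# Nagata / Japanese rings, part 3: power series rings
-/

set_option autoImplicit false
set_option linter.style.haveILetI false
set_option linter.unusedSectionVars false
universe u
open CAlg Groth.Agent.Lib.Helper11.Japanese Groth.Agent.Lib.Helper20.Nagata

namespace Groth.Agent.Lib.Helper18.Nag

open PowerSeries



theorem mem_span_X_pow_smul_top_iff (R : Type*) [CommRing R] (n : ℕ) (f : R⟦X⟧) :
    f ∈ ((Ideal.span ({X} : Set R⟦X⟧)) ^ n • ⊤ : Submodule R⟦X⟧ R⟦X⟧) ↔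
      ∀ m < n, coeff m f = 0 := by
  rw [smul_eq_mul, Ideal.mul_top, Ideal.span_singleton_pow, Ideal.mem_span_singleton,
    X_pow_dvd_iff]

instance isAdicComplete_span_X (R : Type*) [CommRing R] :
    IsAdicComplete (Ideal.span ({X} : Set R⟦X⟧)) R⟦X⟧ where
  haus' := by
    intro f hf
    ext m
    have h := hf (m + 1)
    rw [SModEq.zero, mem_span_X_pow_smul_top_iff] at h
    simpa using h m (Nat.lt_succ_self m)
  prec' := by
    intro f hf
    refine ⟨PowerSeries.mk (fun n => coeff n (f (n + 1))), fun n => ?_⟩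
    rw [SModEq.sub_mem, mem_span_X_pow_smul_top_iff]
    intro m hm
    rw [map_sub, coeff_mk, sub_eq_zero]
    have h := hf (show m + 1 ≤ n from hm)
    rw [SModEq.sub_mem, mem_span_X_pow_smul_top_iff] at h
    have h2 := h m (Nat.lt_succ_self m)
    rw [map_sub, sub_eq_zero] at h2
    exact h2.symm

/-- `R⟦X⟧ / (X) ≃ R`. -/
noncomputable def quotSpanXEquiv (R : Type*) [CommRing R] :
    (R⟦X⟧ ⧸ Ideal.span ({X} : Set R⟦X⟧)) ≃+* R :=
  (Ideal.quotEquivOfEq (show Ideal.span ({X} : Set R⟦X⟧) = RingHom.ker (constantCoeff (R := R)) by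
    ext f
    rw [Ideal.mem_span_singleton, X_dvd_iff, RingHom.mem_ker])).trans
  (RingHom.quotientKerEquivOfSurjective (f := constantCoeff (R := R))
    (fun r => ⟨C r, constantCoeff_C r⟩))





/-- An element of the fraction field almost integral over a Noetherian integrally closed domain lies
in the domain. -/
theorem mem_range_of_forall_mul_pow_mem (R K : Type*) [CommRing R] [IsDomain R]
    [IsNoetherianRing R] [IsIntegrallyClosed R] [Field K] [Algebra R K] [IsFractionRing R K]
    (a : K) (b : R) (hb : b ≠ 0)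
    (h : ∀ e : ℕ, ∃ r : R, algebraMap R K r = algebraMap R K b * a ^ e) :
    ∃ r : R, algebraMap R K r = a := by
  have hbK : algebraMap R K b ≠ 0 := by
    rwa [Ne, map_eq_zero_iff _ (IsFractionRing.injective R K)]
  -- the cyclic submodule generated by `b⁻¹`
  let N₀ : Submodule R K := Submodule.span R {(algebraMap R K b)⁻¹}
  have hN₀ : N₀.FG := Submodule.fg_span_singleton _
  have hle : Subalgebra.toSubmodule (Algebra.adjoin R {a}) ≤ N₀ := by
    rw [Algebra.adjoin_eq_span, Submodule.span_le]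
    intro z hz
    obtain ⟨e, rfl⟩ := (Submonoid.mem_closure_singleton).mp hz
    obtain ⟨r, hr⟩ := h e
    rw [SetLike.mem_coe, Submodule.mem_span_singleton]
    refine ⟨r, ?_⟩
    rw [Algebra.smul_def, hr, mul_comm, inv_mul_cancel_left₀ hbK]
  have hfg : (Subalgebra.toSubmodule (Algebra.adjoin R {a})).FG := Submodule.FG.of_le hN₀ hle
  have hint : IsIntegral R a :=
    IsIntegral.of_mem_of_fg (Algebra.adjoin R {a}) hfg a (Algebra.subset_adjoin rfl)
  exact IsIntegrallyClosed.isIntegral_iff.mp hint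





theorem coeff_mem_range_of_almost_integral (R K : Type*) [CommRing R] [IsDomain R]
    [IsNoetherianRing R] [IsIntegrallyClosed R] [Field K] [Algebra R K] [IsFractionRing R K]
    (w : K⟦X⟧) (h : R⟦X⟧) (hh : h ≠ 0)
    (H : ∀ e : ℕ, PowerSeries.map (algebraMap R K) h * w ^ e ∈
      (PowerSeries.map (algebraMap R K)).range) :
    ∀ N, coeff N w ∈ (algebraMap R K).range := by
  classical
  intro N
  induction N using Nat.strong_induction_on with
  | _ N ih =>
  choose c hc using ih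
  set ι := PowerSeries.map (algebraMap R K) with hι
  let cps : R⟦X⟧ := PowerSeries.mk (fun i => if hi : i < N then c i hi else 0)
  let w' := w - ι cps
  have hw'low : ∀ i < N, coeff i w' = 0 := by
    intro i hi
    simp only [w', map_sub, hι, coeff_map, cps, coeff_mk, dif_pos hi, hc i hi, sub_self]
  have hw'N : coeff N w' = coeff N w := by
    simp only [w', map_sub, hι, coeff_map, cps, coeff_mk, lt_irrefl, dif_neg, not_false_eq_true,
      map_zero, sub_zero]
  have H' : ∀ e : ℕ, ι h * w' ^ e ∈ ι.range := by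
    intro e
    have h1 : w' ^ e = ∑ j ∈ Finset.range (e + 1), w ^ j * (ι (-cps)) ^ (e - j) * (e.choose j : K⟦X⟧) := by
      simp only [w', sub_eq_add_neg, map_neg]
      exact add_pow _ _ _
    rw [h1, Finset.mul_sum]
    refine Subring.sum_mem _ (fun j _ => ?_)
    have h2 : ι h * (w ^ j * (ι (-cps)) ^ (e - j) * (e.choose j : K⟦X⟧)) =
        (ι h * w ^ j) * ((ι (-cps)) ^ (e - j) * (e.choose j : K⟦X⟧)) := by ring
    rw [h2]
    have h5 : ι (-cps) ∈ ι.range := ⟨_, rfl⟩
    have h6 : (e.choose j : K⟦X⟧) ∈ ι.range := ⟨(e.choose j : R⟦X⟧), map_natCast ι _⟩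
    exact Subring.mul_mem _ (H j) (Subring.mul_mem _ (Subring.pow_mem _ h5 _) h6)
  have hex : ∃ m, coeff m h ≠ 0 := by
    by_contra hne
    push Not at hne
    exact hh (PowerSeries.ext (fun n => by rw [hne n, map_zero]))
  let m := Nat.find hex
  have hm : coeff m h ≠ 0 := Nat.find_spec hex
  have hmin : ∀ i < m, coeff i h = 0 := fun i hi => by
    have := Nat.find_min hex hi
    rwa [not_not] at this
  obtain ⟨h₁, hh₁⟩ : X ^ m ∣ h := X_pow_dvd_iff.mpr hmin
  obtain ⟨w₁, hw₁⟩ : X ^ N ∣ w' := X_pow_dvd_iff.mpr hw'low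
  have hb : coeff m h = constantCoeff h₁ := by
    rw [hh₁, ← coeff_zero_eq_constantCoeff_apply]
    have := coeff_X_pow_mul h₁ m 0
    rwa [zero_add] at this
  have ha : coeff N w = constantCoeff w₁ := by
    rw [← hw'N, hw₁, ← coeff_zero_eq_constantCoeff_apply]
    have := coeff_X_pow_mul w₁ N 0
    rwa [zero_add] at this
  rw [RingHom.mem_range]
  apply mem_range_of_forall_mul_pow_mem R K (coeff N w) (coeff m h) hm
  intro e
  obtain ⟨u, hu⟩ := H' e
  refine ⟨coeff (m + N * e) u, ?_⟩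
  have h3 : ι h * w' ^ e = X ^ (m + N * e) * (ι h₁ * w₁ ^ e) := by
    rw [hh₁, hw₁, map_mul, map_pow, hι, map_X, mul_pow, ← pow_mul, pow_add]
    ring
  have h4 := coeff_X_pow_mul (ι h₁ * w₁ ^ e) (m + N * e) 0
  rw [zero_add, ← h3, ← hu, hι, coeff_map, coeff_zero_eq_constantCoeff_apply, map_mul, map_pow,
    ← hι] at h4
  rw [h4, hb, ha]
  congr 1





theorem powerSeries_map_injective {R K : Type*} [CommRing R] [CommRing K] (φ : R →+* K)
    (hφ : Function.Injective φ) : Function.Injective (PowerSeries.map φ) := by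
  intro a b hab
  ext n
  have := congrArg (coeff n) hab
  simp only [coeff_map] at this
  exact hφ this

theorem exists_of_isIntegral_powerSeries (R K : Type*) [CommRing R] [IsDomain R]
    [IsNoetherianRing R] [IsIntegrallyClosed R] [Field K] [Algebra R K] [IsFractionRing R K]
    (K' K'' : Type*) [Field K'] [Field K''] [Algebra R⟦X⟧ K'] [IsFractionRing R⟦X⟧ K']
    [Algebra K⟦X⟧ K''] [IsFractionRing K⟦X⟧ K''] (z : K') (hz : IsIntegral R⟦X⟧ z) :
    ∃ y, algebraMap R⟦X⟧ K' y = z := by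
  classical
  obtain ⟨ι, hιdef⟩ : ∃ ι : R⟦X⟧ →+* K⟦X⟧, ι = PowerSeries.map (algebraMap R K) := ⟨_, rfl⟩
  have hιinj : Function.Injective ι := by
    rw [hιdef]
    exact powerSeries_map_injective _ (IsFractionRing.injective R K)
  obtain ⟨f, g, hg, hzfg⟩ := IsFractionRing.div_surjective (A := R⟦X⟧) z
  have hg0 : g ≠ 0 := nonZeroDivisors.ne_zero hg
  have hcomp_inj : Function.Injective ((algebraMap K⟦X⟧ K'').comp ι) :=
    (IsFractionRing.injective K⟦X⟧ K'').comp hιinj
  obtain ⟨φ, hφ⟩ : ∃ φ : K' →+* K'', ∀ p : R⟦X⟧,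
      φ (algebraMap R⟦X⟧ K' p) = algebraMap K⟦X⟧ K'' (ι p) :=
    ⟨IsFractionRing.lift hcomp_inj, fun p => IsFractionRing.lift_algebraMap hcomp_inj p⟩
  have hfg : (Subalgebra.toSubmodule (Algebra.adjoin R⟦X⟧ {z})).FG := hz.fg_adjoin_singleton
  obtain ⟨pol, hmonic, hroot⟩ := hz
  have hintQ : IsIntegral K⟦X⟧ (φ z) := by
    refine ⟨pol.map ι, hmonic.map ι, ?_⟩
    rw [Polynomial.eval₂_map]
    have h1 := congrArg φ hroot
    rw [Polynomial.hom_eval₂, map_zero] at h1
    have h2 : φ.comp (algebraMap R⟦X⟧ K') = (algebraMap K⟦X⟧ K'').comp ι := by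
      ext p
      exact hφ p
    rw [h2] at h1
    exact h1
  obtain ⟨w, hw⟩ := IsIntegrallyClosed.isIntegral_iff.mp hintQ
  have hgK' : algebraMap R⟦X⟧ K' g ≠ 0 := by
    rwa [Ne, map_eq_zero_iff _ (IsFractionRing.injective R⟦X⟧ K')]
  have hιg0 : ι g ≠ 0 := by
    rwa [Ne, map_eq_zero_iff _ hιinj]
  have hzg : z * algebraMap R⟦X⟧ K' g = algebraMap R⟦X⟧ K' f := by
    rw [← hzfg, div_mul_cancel₀ _ hgK']
  have hfgw : ι f = ι g * w := by
    apply IsFractionRing.injective K⟦X⟧ K''
    have h1 := congrArg φ hzg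
    rw [map_mul φ, hφ, hφ, ← hw] at h1
    rw [map_mul (algebraMap K⟦X⟧ K''), ← h1, mul_comm]
  -- common denominator
  obtain ⟨h, hh, hint⟩ := FractionalIdeal.isFractional_of_fg (S := nonZeroDivisors R⟦X⟧) hfg
  have hh0 : h ≠ 0 := nonZeroDivisors.ne_zero hh
  have H : ∀ e : ℕ, ι h * w ^ e ∈ ι.range := by
    intro e
    have hmem : z ^ e ∈ Algebra.adjoin R⟦X⟧ {z} :=
      Subalgebra.pow_mem _ (Algebra.subset_adjoin (Set.mem_singleton z)) e
    obtain ⟨u, hu⟩ := hint (z ^ e) hmem
    have h3 : u * g ^ e = h * f ^ e := by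
      apply IsFractionRing.injective R⟦X⟧ K'
      rw [map_mul (algebraMap R⟦X⟧ K'), map_mul (algebraMap R⟦X⟧ K'), hu, Algebra.smul_def,
        map_pow (algebraMap R⟦X⟧ K'), map_pow (algebraMap R⟦X⟧ K'), ← hzg, mul_pow, mul_assoc]
    have h4 : ι u * ι g ^ e = ι h * w ^ e * ι g ^ e := by
      rw [← map_pow ι g e, ← map_mul ι, h3, map_mul ι, map_pow ι f e, hfgw, map_pow ι g e]
      ring
    exact ⟨u, mul_right_cancel₀ (pow_ne_zero e hιg0) h4⟩
  rw [hιdef] at H
  have hcoeff := coeff_mem_range_of_almost_integral R K w h hh0 H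
  choose c hc using hcoeff
  let w₀ : R⟦X⟧ := PowerSeries.mk c
  have hw₀ : ι w₀ = w := by
    ext n
    simp only [hιdef, coeff_map, w₀, coeff_mk, hc]
  refine ⟨w₀, ?_⟩
  have h5 : f = g * w₀ := by
    apply hιinj
    rw [map_mul ι, hw₀, hfgw]
  rw [← hzfg, h5, map_mul (algebraMap R⟦X⟧ K'), mul_div_cancel_left₀ _ hgK']

/-- Power series over a Noetherian integrally closed domain form an integrally closed domain. -/
theorem isIntegrallyClosed_powerSeries (R : Type u) [CommRing R] [IsDomain R]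
    [IsNoetherianRing R] [IsIntegrallyClosed R] : IsIntegrallyClosed R⟦X⟧ := by
  rw [isIntegrallyClosed_iff (FractionRing R⟦X⟧)]
  intro z hz
  exact exists_of_isIntegral_powerSeries R (FractionRing R) (FractionRing R⟦X⟧)
    (FractionRing (FractionRing R)⟦X⟧) z hz





theorem finite_powerSeries (R A : Type*) [CommRing R] [CommRing A] [Algebra R A]
    [Module.Finite R A] : Module.Finite R⟦X⟧ A⟦X⟧ := by
  classical
  obtain ⟨m, s, hs⟩ := Module.Finite.exists_fin (R := R) (M := A)
  have hspan : ∀ a : A, ∃ c : Fin m → R, ∑ j, c j • s j = a := by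
    intro a
    have : a ∈ Submodule.span R (Set.range s) := by rw [hs]; trivial
    exact (Submodule.mem_span_range_iff_exists_fun R).mp this
  refine ⟨⟨Finset.univ.image (fun j => (C (s j) : A⟦X⟧)), ?_⟩⟩
  rw [eq_top_iff]
  intro F _
  choose c hc using fun n => hspan (coeff n F)
  have hF : F = ∑ j, (PowerSeries.mk (fun n => c n j) : R⟦X⟧) • (C (s j) : A⟦X⟧) := by
    ext n
    rw [map_sum, ← hc n]
    refine Finset.sum_congr rfl (fun j _ => ?_)
    rw [Algebra.smul_def, Algebra.smul_def (PowerSeries.mk fun n => c n j), algebraMap_apply'',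
      coeff_mul_C, coeff_map, coeff_mk]
  rw [hF]
  refine Submodule.sum_mem _ (fun j _ => Submodule.smul_mem _ _ (Submodule.subset_span ?_))
  simp


end Groth.Agent.Lib.Helper18.Nag
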