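import Mathlib
import Groth.Prelude.Def_Found
import Groth.Agent.Lib.Helper18.Nag3

/-!
# Nagata / Japanese rings, part 4: N-2 for power series rings; descent of N-2 along finite extensions
-/

set_option autoImplicit false
set_option linter.style.haveILetI false
set_option linter.unusedSectionVars false
universe u
open CAlg Groth.Agent.Lib.Helper11.Japanese Groth.Agent.Lib.Helper20.Nagata

namespace Groth.Agent.Lib.Helper18.Nag
open PowerSeries


/-- One-variable step: power series over a Noetherian integrally closed N-2 domain are N-2. -/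
theorem isN2_powerSeries_of_isIntegrallyClosed (B : Type u) [CommRing B] [IsDomain B]
    [IsNoetherianRing B] [IsIntegrallyClosed B] (hB : IsN2 B) : IsN2 B⟦X⟧ := by
  haveI : IsIntegrallyClosed B⟦X⟧ := isIntegrallyClosed_powerSeries B
  haveI : (Ideal.span ({X} : Set B⟦X⟧)).IsPrime := span_X_isPrime
  have h2 : IsN2 (B⟦X⟧ ⧸ Ideal.span ({X} : Set B⟦X⟧)) :=
    isN2_of_ringEquiv (quotSpanXEquiv B).symm hB
  exact tate B⟦X⟧ X h2

theorem isN2_mvPowerSeries_aux (A : Type u) [CommRing A] [IsDomain A] [IsNoetherianRing A]
    [IsIntegrallyClosed A] (hA : IsN2 A) (r : ℕ) :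
    ∃ (_ : IsDomain (MvPowerSeries (Fin r) A)),
      IsIntegrallyClosed (MvPowerSeries (Fin r) A) ∧ IsN2 (MvPowerSeries (Fin r) A) := by
  induction r with
  | zero =>
    let e : MvPowerSeries (Fin 0) A ≃+* A := (MvPowerSeries.isEmptyEquiv (σ := Fin 0) (R := A)).toRingEquiv
    haveI hd : IsDomain (MvPowerSeries (Fin 0) A) := e.toMulEquiv.isDomain A
    exact ⟨hd, IsIntegrallyClosed.of_equiv e.symm, isN2_of_ringEquiv e.symm hA⟩
  | succ r ih =>
    obtain ⟨hd, hic, hn2⟩ := ih
    let B := MvPowerSeries (Fin r) A
    let e : MvPowerSeries (Fin (r + 1)) A ≃+* B⟦X⟧ := (MvPowerSeries.finSuccEquiv A r).toRingEquiv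
    haveI hd' : IsDomain (MvPowerSeries (Fin (r + 1)) A) := e.toMulEquiv.isDomain B⟦X⟧
    haveI : IsIntegrallyClosed B⟦X⟧ := isIntegrallyClosed_powerSeries B
    have h1 : IsN2 B⟦X⟧ := isN2_powerSeries_of_isIntegrallyClosed B hn2
    exact ⟨hd', IsIntegrallyClosed.of_equiv e.symm, isN2_of_ringEquiv e.symm h1⟩

theorem isN2_mvPowerSeries (A : Type u) [CommRing A] [IsDomain A] [IsNoetherianRing A]
    [IsIntegrallyClosed A] (hA : IsN2 A) (r : ℕ) [IsDomain (MvPowerSeries (Fin r) A)] :
    IsN2 (MvPowerSeries (Fin r) A) :=
  (isN2_mvPowerSeries_aux A hA r).2.2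




/-- A common finite overfield of two finite extensions. -/
theorem exists_compositum (k L M : Type u) [Field k] [Field L] [Field M] [Algebra k L]
    [Algebra k M] [FiniteDimensional k L] [FiniteDimensional k M] :
    ∃ (N : Type u) (_ : Field N) (_ : Algebra k N) (_ : FiniteDimensional k N)
      (_ : L →ₐ[k] N) (_ : M →ₐ[k] N), True := by
  let Ω := AlgebraicClosure L
  haveI : Algebra.IsAlgebraic k M := Algebra.IsAlgebraic.of_finite k M
  let ψ : M →ₐ[k] Ω := IsAlgClosed.lift
  let a₀ : L →ₐ[k] Ω := IsScalarTower.toAlgHom k L Ω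
  let L₁ : IntermediateField k Ω := a₀.fieldRange
  let L₂ : IntermediateField k Ω := ψ.fieldRange
  haveI : FiniteDimensional k L₁ := a₀.toLinearMap.finiteDimensional_range
  haveI : FiniteDimensional k L₂ := ψ.toLinearMap.finiteDimensional_range
  let N : IntermediateField k Ω := L₁ ⊔ L₂
  haveI : FiniteDimensional k N := IntermediateField.finiteDimensional_sup L₁ L₂
  have h1 : ∀ x, a₀ x ∈ N.toSubalgebra := fun x =>
    (le_sup_left : L₁ ≤ L₁ ⊔ L₂) ⟨x, rfl⟩
  have h2 : ∀ x, ψ x ∈ N.toSubalgebra := fun x =>
    (le_sup_right : L₂ ≤ L₁ ⊔ L₂) ⟨x, rfl⟩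
  exact ⟨N, inferInstance, inferInstance, inferInstance, a₀.codRestrict N.toSubalgebra h1,
    ψ.codRestrict N.toSubalgebra h2, trivial⟩




attribute [local instance] FractionRing.liftAlgebra in
/-- N-2 descends from a finite extension domain to the base. -/
theorem isN2_of_finite_of_isN2 (P B : Type u) [CommRing P] [IsDomain P] [IsNoetherianRing P]
    [CommRing B] [IsDomain B] [Algebra P B] [Module.Finite P B]
    (hinj : Function.Injective (algebraMap P B)) (hB : IsN2 B) : IsN2 P := by
  intro L _ _ _ _ hfd
  haveI : FaithfulSMul P B := (faithfulSMul_iff_algebraMap_injective P B).mpr hinj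
  haveI : Module.IsTorsionFree P B := inferInstance
  let KP := FractionRing P
  let KB := FractionRing B
  haveI : FiniteDimensional KP KB := inferInstance
  obtain ⟨N, _, _, _, a, b, -⟩ := exists_compositum KP L KB
  letI : Algebra L N := a.toRingHom.toAlgebra
  letI : Algebra KB N := b.toRingHom.toAlgebra
  letI : Algebra B N := (b.toRingHom.comp (algebraMap B KB)).toAlgebra
  letI : Algebra P N := ((algebraMap KP N).comp (algebraMap P KP)).toAlgebra
  haveI : IsScalarTower P KP N := IsScalarTower.of_algebraMap_eq (fun _ => rfl)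
  haveI : IsScalarTower B KB N := IsScalarTower.of_algebraMap_eq (fun _ => rfl)
  haveI : IsScalarTower KP KB N := IsScalarTower.of_algebraMap_eq (fun x => (b.commutes x).symm)
  haveI : IsScalarTower KP L N := IsScalarTower.of_algebraMap_eq (fun x => (a.commutes x).symm)
  haveI : IsScalarTower P B N := by
    refine IsScalarTower.of_algebraMap_eq (fun p => ?_)
    change algebraMap KP N (algebraMap P KP p) = b (algebraMap B KB (algebraMap P B p))
    rw [← IsScalarTower.algebraMap_apply P B KB, IsScalarTower.algebraMap_apply P KP KB,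
      b.commutes]
  haveI : IsScalarTower P L N := by
    refine IsScalarTower.of_algebraMap_eq (fun p => ?_)
    change algebraMap KP N (algebraMap P KP p) = a (algebraMap P L p)
    rw [IsScalarTower.algebraMap_apply P KP L, a.commutes]
  haveI : FiniteDimensional KB N := FiniteDimensional.right KP KB N
  have h1 : Module.Finite B (integralClosure B N) := hB N inferInstance
  have hint : Algebra.IsIntegral P B := Algebra.IsIntegral.of_finite P B
  haveI : Module.Finite P (integralClosure B N) := Module.Finite.trans B _
  let φ : integralClosure B N →ₗ[P] integralClosure P N :=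
    { toFun := fun x => ⟨x.1, isIntegral_trans (R := P) (A := B) x.1 x.2⟩
      map_add' := fun _ _ => rfl
      map_smul' := fun _ _ => rfl }
  have hφ : Function.Surjective φ := fun x => ⟨⟨x.1, x.2.tower_top⟩, rfl⟩
  haveI : Module.Finite P (integralClosure P N) := Module.Finite.of_surjective φ hφ
  let χ : integralClosure P L →ₗ[P] integralClosure P N :=
    { toFun := fun z => ⟨algebraMap L N z.1, z.2.map (IsScalarTower.toAlgHom P L N)⟩
      map_add' := fun x y => by
        apply Subtype.ext
        simp
      map_smul' := fun r x => by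
        apply Subtype.ext
        simp [Algebra.smul_def, ← IsScalarTower.algebraMap_apply] }
  have hχ : Function.Injective χ := by
    intro x y hxy
    apply Subtype.ext
    exact (algebraMap L N).injective (congrArg Subtype.val hxy)
  haveI : IsNoetherian P (integralClosure P N) := isNoetherian_of_isNoetherianRing_of_finite P _
  exact Module.Finite.of_injective χ hχ




/-- Power series over a Noetherian N-2 domain are N-2. -/
theorem isN2_powerSeries (R : Type u) [CommRing R] [IsDomain R] [IsNoetherianRing R]
    (h : IsN2 R) : IsN2 R⟦X⟧ := by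
  let K := FractionRing R
  let R' := integralClosure R K
  haveI hfin : Module.Finite R R' := h K inferInstance
  haveI : IsNoetherianRing R' :=
    isNoetherianRing_iff.mpr (isNoetherian_of_tower R
      (isNoetherian_of_isNoetherianRing_of_finite R R'))
  haveI : IsIntegrallyClosed R' := integralClosure.isIntegrallyClosedOfFiniteExtension K
  have hinjR' : Function.Injective (algebraMap R R') := by
    intro x y hxy
    apply IsFractionRing.injective R K
    exact congrArg Subtype.val hxy
  have hR' : IsN2 R' := isN2_of_finite_injective R R' hinjR' h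
  have h1 : IsN2 R'⟦X⟧ := isN2_powerSeries_of_isIntegrallyClosed R' hR'
  haveI : Module.Finite R⟦X⟧ R'⟦X⟧ := finite_powerSeries R R'
  exact isN2_of_finite_of_isN2 R⟦X⟧ R'⟦X⟧ (powerSeries_map_injective _ hinjR') h1


end Groth.Agent.Lib.Helper18.Nag
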