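import Mathlib
import Groth.Prelude.Def_Found
import Groth.Agent.Lib.Helper18.Nag4
import Groth.Agent.Lib.Helper18.CST3
import Groth.Agent.Lib.Helper9.SemiLocalProd

/-!
# Nagata / Japanese rings, part 5: complete Noetherian local rings are Nagata
-/

set_option autoImplicit false
set_option linter.style.haveILetI false
set_option linter.unusedSectionVars false
universe u
open CAlg Groth.Agent.Lib.Helper11.Japanese Groth.Agent.Lib.Helper20.Nagata IsLocalRing

namespace Groth.Agent.Lib.Helper18.Nag


theorem charZero_of_isCohenRing (Λ : Type u) [CommRing Λ] (h : CAlg.IsCohenRing Λ) :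
    CharZero Λ := by
  obtain ⟨hdom, hdvr, -, p, hp, hmax⟩ := h
  obtain ⟨c, hc⟩ := CharP.exists Λ
  rcases CharP.char_is_prime_or_zero Λ c with hcp | hc0
  · exfalso
    by_cases hcp' : c = p
    · subst hcp'
      have h0 : ((c : ℕ) : Λ) = 0 := CharP.cast_eq_zero Λ c
      rw [h0, Ideal.span_singleton_eq_bot.mpr rfl] at hmax
      exact IsDiscreteValuationRing.not_isField Λ
        (IsLocalRing.isField_iff_maximalIdeal_eq.mpr hmax)
    · have hcop : Nat.Coprime p c := (Nat.coprime_primes hp hcp).mpr (Ne.symm hcp')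
      have hunit : IsUnit ((p : ℕ) : Λ) := by
        have h1 := Nat.isCoprime_iff_coprime.mpr hcop
        obtain ⟨a, b, hab⟩ := h1
        have h2 : ((a * (p : ℤ) + b * (c : ℤ) : ℤ) : Λ) = 1 := by rw [hab]; simp
        push_cast at h2
        rw [CharP.cast_eq_zero Λ c, mul_zero, add_zero] at h2
        exact IsUnit.of_mul_eq_one _ (by rw [mul_comm]; exact h2)
      have h3 : ((p : ℕ) : Λ) ∈ maximalIdeal Λ := by
        rw [hmax]; exact Ideal.mem_span_singleton_self _
      exact (IsLocalRing.mem_maximalIdeal _).mp h3 hunit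
  · subst hc0
    exact CharP.charP_to_charZero Λ




/-- A complete Noetherian local domain is N-2. -/
theorem isN2_of_isAdicComplete_of_isDomain (R : Type u) [CommRing R] [IsLocalRing R]
    [IsNoetherianRing R] [IsDomain R] [IsAdicComplete (maximalIdeal R) R] : IsN2 R := by
  obtain ⟨Λ, _, n, f, hΛ, hinj, hfin, -⟩ := Groth.Agent.Lib.Helper18.CST.exists_finite_injective R
  have key : ∃ (_ : IsDomain Λ) (_ : IsNoetherianRing Λ) (_ : IsIntegrallyClosed Λ), IsN2 Λ := by
    rcases hΛ with hF | hC
    · letI := hF.toField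
      exact ⟨inferInstance, inferInstance, inferInstance, isN2_of_field Λ⟩
    · haveI := charZero_of_isCohenRing Λ hC
      obtain ⟨hdom, hdvr, -⟩ := hC
      exact ⟨hdom, inferInstance, inferInstance, isN2_of_isIntegrallyClosed_of_charZero Λ⟩
  obtain ⟨hdom, hnoeth, hic, hn2⟩ := key
  haveI : IsDomain (MvPowerSeries (Fin n) Λ) := NoZeroDivisors.to_isDomain _
  have hP : IsN2 (MvPowerSeries (Fin n) Λ) := isN2_mvPowerSeries Λ hn2 n
  letI : Algebra (MvPowerSeries (Fin n) Λ) R := f.toAlgebra
  haveI : Module.Finite (MvPowerSeries (Fin n) Λ) R := hfin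
  exact isN2_of_finite_injective (MvPowerSeries (Fin n) Λ) R hinj hP

/-- A complete Noetherian local ring is Nagata. -/
theorem isNagata_of_isAdicComplete (R : Type u) [CommRing R] [IsLocalRing R]
    [IsNoetherianRing R] [IsAdicComplete (maximalIdeal R) R] : IsNagata R := by
  refine ⟨inferInstance, fun p hp => ?_⟩
  haveI : Nontrivial (R ⧸ p) := Ideal.Quotient.nontrivial_iff.mpr hp.ne_top
  haveI : IsLocalRing (R ⧸ p) :=
    IsLocalRing.of_surjective' (Ideal.Quotient.mk p) Ideal.Quotient.mk_surjective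
  haveI : IsAdicComplete (maximalIdeal (R ⧸ p)) (R ⧸ p) :=
    Groth.Agent.Lib.Helper9.SemiLocalProd.isAdicComplete_maximalIdeal_of_finite R (R ⧸ p)
  exact isN2_of_isAdicComplete_of_isDomain (R ⧸ p)


end Groth.Agent.Lib.Helper18.Nag
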