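import Mathlib
import Groth.Prelude.Def_Found
import Groth.Agent.Lib.Helper18.Nag5
import Groth.Agent.Lib.Helper21.AdicNoetherian

/-!
# Nagata / Japanese rings, part 6: descent of N-1 along faithfully flat maps; analytically unramified
local domains are N-1
-/

set_option autoImplicit false
set_option linter.style.haveILetI false
set_option linter.unusedSectionVars false
universe u
open CAlg TensorProduct IsLocalRing

namespace Groth.Agent.Lib.Helper18.Nag


/-- Core of the descent of N-1 along a flat extension. -/
theorem finite_tensor_integralClosure_core (A : Type u) [CommRing A] [IsDomain A]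
    (C : Type u) [CommRing C] [IsNoetherianRing C] [Algebra A C] [Module.Flat A C]
    {ι : Type*} [Finite ι] (q : ι → Ideal C) [hqp : ∀ i, (q i).IsPrime]
    (hq : ⨅ i, q i = ⊥)
    (hA : ∀ a : A, a ≠ 0 → ∀ i, algebraMap A C a ∉ q i)
    (hN1 : ∀ i, Module.Finite (C ⧸ q i) (integralClosure (C ⧸ q i) (FractionRing (C ⧸ q i)))) :
    Module.Finite C (C ⊗[A] (integralClosure A (FractionRing A))) := by
  classical
  let K := FractionRing A
  let A' := integralClosure A K
  let Kq : ι → Type u := fun i => FractionRing (C ⧸ q i)
  let T := ∀ i, Kq i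
  let τ : C →+* T := algebraMap C T
  have hτapp : ∀ c i, τ c i = algebraMap (C ⧸ q i) (Kq i) (Ideal.Quotient.mk (q i) c) := by
    intro c i
    rfl
  have hτinj : Function.Injective τ := by
    rw [injective_iff_map_eq_zero]
    intro c hc
    have h1 : ∀ i, c ∈ q i := by
      intro i
      have h2 := congrFun hc i
      rw [hτapp] at h2
      have h3 : Ideal.Quotient.mk (q i) c = 0 :=
        (IsFractionRing.injective (C ⧸ q i) (Kq i)) (h2.trans (map_zero _).symm)
      exact Ideal.Quotient.eq_zero_iff_mem.mp h3
    have h4 : c ∈ ⨅ i, q i := by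
      rw [Ideal.mem_iInf]
      exact h1
    rw [hq] at h4
    exact h4
  let S := Algebra.algebraMapSubmonoid C (nonZeroDivisors A)
  have hunits : ∀ s : S, IsUnit (τ s) := by
    rintro ⟨s, a, ha, rfl⟩
    rw [Pi.isUnit_iff]
    intro i
    apply IsUnit.mk0
    rw [hτapp]
    intro h0
    have h3 : Ideal.Quotient.mk (q i) (algebraMap A C a) = 0 :=
      (IsFractionRing.injective (C ⧸ q i) (Kq i)) (h0.trans (map_zero _).symm)
    exact hA a (nonZeroDivisors.ne_zero ha) i (Ideal.Quotient.eq_zero_iff_mem.mp h3)
  let τK : C ⊗[A] K →+* T := IsLocalization.lift (M := S) hunits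
  have hτK : ∀ c, τK (algebraMap C (C ⊗[A] K) c) = τ c := fun c => IsLocalization.lift_eq hunits c
  have hτKinj : Function.Injective τK := by
    rw [IsLocalization.lift_injective_iff]
    intro x y
    constructor
    · intro h
      have := congrArg τK h
      rwa [hτK, hτK] at this
    · intro h
      rw [hτinj h]
  -- the inclusion `C ⊗ A' → C ⊗ K`
  let j : C ⊗[A] A' →ₐ[C] C ⊗[A] K := Algebra.TensorProduct.map (AlgHom.id C C) A'.val
  have hjinj : Function.Injective j := by
    have h1 := Module.Flat.lTensor_preserves_injective_linearMap (M := C) A'.val.toLinearMap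
      Subtype.val_injective
    have h2 : ⇑j = ⇑(LinearMap.lTensor C A'.val.toLinearMap) := by
      ext e
      induction e using TensorProduct.induction_on with
      | zero => simp
      | tmul c a => simp [j]
      | add x y hx hy => rw [map_add, map_add, hx, hy]
    rw [h2]
    exact h1
  -- the `C`-algebra map to `T`
  let Θ : C ⊗[A] A' →ₐ[C] T :=
    { τK.comp j.toRingHom with
      commutes' := fun c => by
        change τK (j (algebraMap C (C ⊗[A] A') c)) = algebraMap C T c
        rw [j.commutes, hτK] }
  have hΘinj : Function.Injective Θ := hτKinj.comp hjinj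
  -- the target finite module
  let Dq : ∀ i, Submodule C (Kq i) := fun i =>
    (Subalgebra.toSubmodule (integralClosure (C ⧸ q i) (Kq i))).restrictScalars C
  let D : Submodule C T := Submodule.pi Set.univ Dq
  have hDq : ∀ i, (Dq i).FG := by
    intro i
    haveI := hN1 i
    haveI : Module.Finite C (integralClosure (C ⧸ q i) (Kq i)) := Module.Finite.trans (C ⧸ q i) _
    have h1 : Module.Finite C (Dq i) := ‹_›
    exact Module.Finite.iff_fg.mp h1
  have hD : D.FG := Submodule.fg_pi hDq
  have hmem : ∀ e, Θ e ∈ D := by
    intro e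
    rw [Submodule.mem_pi]
    intro i _
    have h1 : IsIntegral C e := Algebra.IsIntegral.isIntegral e
    have h2 : IsIntegral C (Θ e) := h1.map Θ
    have h3 : IsIntegral C (Θ e i) := h2.map (Pi.evalAlgHom C Kq i)
    exact h3.tower_top
  haveI : IsNoetherian C D := isNoetherian_of_fg_of_noetherian D hD
  let Λ : C ⊗[A] A' →ₗ[C] D := Θ.toLinearMap.codRestrict D hmem
  have hΛ : Function.Injective Λ := by
    intro x y hxy
    apply hΘinj
    exact congrArg Subtype.val hxy
  exact Module.Finite.of_injective Λ hΛ




/-- Descent of N-1 along a faithfully flat map to a reduced Noetherian ring whose quotients by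
minimal primes are N-1. -/
theorem isN1_of_faithfullyFlat (A : Type u) [CommRing A] [IsDomain A]
    (C : Type u) [CommRing C] [IsNoetherianRing C] [IsReduced C] [Algebra A C]
    [Module.FaithfullyFlat A C]
    (hN1 : ∀ (q : Ideal C) [q.IsPrime], q ∈ minimalPrimes C → IsN1 (C ⧸ q)) : IsN1 A := by
  let ι := {q : Ideal C // q ∈ minimalPrimes C}
  haveI : Finite ι := (minimalPrimes.finite_of_isNoetherianRing C).to_subtype
  haveI hprime : ∀ i : ι, (i.1).IsPrime := fun i => i.2.1.1
  have hq : ⨅ i : ι, i.1 = ⊥ := by
    have h1 : sInf (minimalPrimes C) = ⊥ := by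
      have := Ideal.sInf_minimalPrimes (I := (⊥ : Ideal C))
      rw [Ideal.radical_eq_iff.mpr (Ideal.isRadical_bot)] at this
      exact this
    rw [← h1, sInf_eq_iInf']
  have hA : ∀ a : A, a ≠ 0 → ∀ i : ι, algebraMap A C a ∉ i.1 := by
    intro a ha i hmem
    have hreg : IsSMulRegular A a := (IsRegular.of_ne_zero ha).left.isSMulRegular
    have hregC : IsSMulRegular C (algebraMap A C a) := hreg.of_flat
    have hnzd : algebraMap A C a ∈ nonZeroDivisors C := by
      rw [mem_nonZeroDivisors_iff_right]
      intro c hc
      rw [mul_comm] at hc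
      exact hregC (by simpa using hc)
    exact Set.disjoint_left.mp (Ideal.disjoint_nonZeroDivisors_of_mem_minimalPrimes i.2) hmem hnzd
  haveI : Module.Finite C (C ⊗[A] (integralClosure A (FractionRing A))) :=
    finite_tensor_integralClosure_core A C (fun i : ι => i.1) hq hA
      (fun i => hN1 i.1 i.2)
  exact Module.Finite.of_finite_tensorProduct_of_faithfullyFlat C




theorem isN1_of_isN2 (R : Type u) [CommRing R] [IsDomain R] (h : IsN2 R) : IsN1 R :=
  h (FractionRing R) inferInstance

/-- A complete Noetherian local domain is N-1; more generally every quotient of a complete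
Noetherian local ring by a prime is. -/
theorem isN1_quotient_of_isAdicComplete (C : Type u) [CommRing C] [IsLocalRing C]
    [IsNoetherianRing C] [IsAdicComplete (maximalIdeal C) C] (q : Ideal C) [q.IsPrime] :
    IsN1 (C ⧸ q) :=
  isN1_of_isN2 _ ((isNagata_of_isAdicComplete C).2 q)

/-- An analytically unramified Noetherian local domain is N-1. -/
theorem isN1_of_isReduced_adicCompletion (R : Type u) [CommRing R] [IsDomain R] [IsLocalRing R]
    [IsNoetherianRing R] [IsReduced (AdicCompletion (maximalIdeal R) R)] : IsN1 R := by
  haveI : IsNoetherianRing (AdicCompletion (maximalIdeal R) R) := by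
    have : IsNoetherianRing (R ⧸ maximalIdeal R) := inferInstance
    exact Groth.Agent.Lib.Helper21.isNoetherianRing_adicCompletion_of_fg (maximalIdeal R)
      (IsNoetherian.noetherian _)
  haveI : Module.FaithfullyFlat R (AdicCompletion (maximalIdeal R) R) :=
    Module.FaithfullyFlat.of_flat_of_isLocalHom
  exact isN1_of_faithfullyFlat R (AdicCompletion (maximalIdeal R) R)
    (fun q _ _ => isN1_quotient_of_isAdicComplete _ q)


end Groth.Agent.Lib.Helper18.Nag
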