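import Mathlib
import Groth.Prelude.Def_Found
import Groth.Agent.Lib.Helper18.Nag6

/-!
# Nagata / Japanese rings, part 7: the local-global criterion for N-1
-/

set_option autoImplicit false
set_option linter.style.haveILetI false
set_option linter.unusedSectionVars false
universe u
open CAlg TensorProduct IsLocalRing Groth.Agent.Lib.Helper11.Japanese

namespace Groth.Agent.Lib.Helper18.Nag


/-- Fraction field of a localization of a domain. -/
theorem exists_algebra_fractionRing_of_isLocalization (R : Type u) [CommRing R] [IsDomain R]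
    (M : Submonoid R) (S : Type u) [CommRing S] [IsDomain S] [Algebra R S] [IsLocalization M S]
    (K : Type u) [Field K] [Algebra R K] [IsFractionRing R K] :
    ∃ (_ : Algebra S K) (_ : IsScalarTower R S K), IsFractionRing S K := by
  have hM := le_nonZeroDivisors_of_isDomain R M S
  let g : S →+* K := IsLocalization.map _ (T := nonZeroDivisors R) (RingHom.id R) hM
  letI := g.toAlgebra
  haveI : IsScalarTower R S K := IsScalarTower.of_algebraMap_eq (fun x => by
    change algebraMap R K x = g (algebraMap R S x)
    have := IsLocalization.map_eq (S := S) (Q := K) (g := RingHom.id R) (M := M)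
      (T := nonZeroDivisors R) hM x
    rw [RingHom.id_apply] at this
    exact this.symm)
  exact ⟨inferInstance, inferInstance,
    IsFractionRing.isFractionRing_of_isDomain_of_isLocalization M S K⟩

theorem exists_pow_mul_eq_of_isIntegrallyClosed_away (R : Type u) [CommRing R] [IsDomain R]
    (f : R) (hf : f ≠ 0) [IsIntegrallyClosed (Localization.Away f)]
    (K : Type u) [Field K] [Algebra R K] [IsFractionRing R K] (z : K) (hz : IsIntegral R z) :
    ∃ (k : ℕ) (r : R), algebraMap R K r = algebraMap R K f ^ k * z := by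
  haveI : IsDomain (Localization.Away f) :=
    IsLocalization.isDomain_localization (powers_le_nonZeroDivisors_of_noZeroDivisors hf)
  obtain ⟨_, _, _⟩ := exists_algebra_fractionRing_of_isLocalization R (Submonoid.powers f)
    (Localization.Away f) K
  have h1 : IsIntegral (Localization.Away f) z := hz.tower_top
  obtain ⟨w, hw⟩ := IsIntegrallyClosed.isIntegral_iff.mp h1
  obtain ⟨r, ⟨_, k, rfl⟩, hrs⟩ := IsLocalization.exists_mk'_eq (Submonoid.powers f) w
  refine ⟨k, r, ?_⟩
  have h2 := IsLocalization.mk'_spec (Localization.Away f) r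
    (⟨f ^ k, k, rfl⟩ : Submonoid.powers f)
  rw [hrs] at h2
  have h3 := congrArg (algebraMap (Localization.Away f) K) h2
  rw [map_mul, hw, ← IsScalarTower.algebraMap_apply, ← IsScalarTower.algebraMap_apply,
    map_pow] at h3
  rw [← h3, mul_comm]




theorem exists_bound_of_isN1_atPrime (R : Type u) [CommRing R] [IsDomain R] (f : R)
    (K : Type u) [Field K] [Algebra R K] [IsFractionRing R K]
    (ha : ∀ z : K, IsIntegral R z →
      ∃ (k : ℕ) (r : R), algebraMap R K r = algebraMap R K f ^ k * z)
    (m : Ideal R) [m.IsPrime] (hN1 : IsN1 (Localization.AtPrime m)) :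
    ∃ n : ℕ, ∀ z : K, IsIntegral R z → ∃ s : R, s ∉ m ∧
      ∃ r : R, algebraMap R K r = algebraMap R K s * (algebraMap R K f ^ n * z) := by
  classical
  let S := Localization.AtPrime m
  let M := m.primeCompl
  obtain ⟨_, _, _⟩ := exists_algebra_fractionRing_of_isLocalization R M S K
  have hfin : Module.Finite S (integralClosure S K) := (isN1_iff S K).mp hN1
  obtain ⟨n, g, hg⟩ := Module.Finite.exists_fin (R := S) (M := integralClosure S K)
  have h1 : ∀ j, ∃ (k : ℕ) (w : S), algebraMap S K w = algebraMap R K f ^ k * (g j : K) := by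
    intro j
    obtain ⟨t, ht⟩ := IsIntegral.exists_multiple_integral_of_isLocalization M (g j : K) (g j).2
    obtain ⟨k, r, hr⟩ := ha _ ht
    refine ⟨k, IsLocalization.mk' S r t, ?_⟩
    have h2 := IsLocalization.mk'_spec S r t
    have h3 := congrArg (algebraMap S K) h2
    rw [map_mul, ← IsScalarTower.algebraMap_apply, ← IsScalarTower.algebraMap_apply, hr,
      Submonoid.smul_def, Algebra.smul_def] at h3
    have ht0 : algebraMap R K (t : R) ≠ 0 := by
      rw [Ne, map_eq_zero_iff _ (IsFractionRing.injective R K)]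
      intro h0
      exact t.2 (h0 ▸ m.zero_mem)
    apply mul_right_cancel₀ ht0
    rw [h3]
    ring
  choose k w hw using h1
  let N := Finset.univ.sup k
  refine ⟨N, fun z hz => ?_⟩
  have hzS : IsIntegral S z := hz.tower_top
  have hmem : (⟨z, hzS⟩ : integralClosure S K) ∈ Submodule.span S (Set.range g) := by
    rw [hg]; trivial
  obtain ⟨c, hc⟩ := (Submodule.mem_span_range_iff_exists_fun S).mp hmem
  have hz' : z = ∑ j, algebraMap S K (c j) * (g j : K) := by
    have := congrArg Subtype.val hc
    simp only [AddSubmonoidClass.coe_finsetSum, Algebra.smul_def] at this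
    exact this.symm
  have hW : algebraMap S K (∑ j, c j * (algebraMap R S f ^ (N - k j) * w j)) =
      algebraMap R K f ^ N * z := by
    rw [map_sum, hz', Finset.mul_sum]
    refine Finset.sum_congr rfl (fun j _ => ?_)
    have hkj : k j ≤ N := Finset.le_sup (f := k) (Finset.mem_univ j)
    rw [map_mul, map_mul, map_pow, ← IsScalarTower.algebraMap_apply, hw j]
    have : algebraMap R K f ^ N = algebraMap R K f ^ (N - k j) * algebraMap R K f ^ k j := by
      rw [← pow_add, Nat.sub_add_cancel hkj]
    rw [this]
    ring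
  obtain ⟨r, s, hrs⟩ := IsLocalization.exists_mk'_eq M (∑ j, c j * (algebraMap R S f ^ (N - k j) * w j))
  refine ⟨s, s.2, r, ?_⟩
  have h2 := IsLocalization.mk'_spec S r s
  rw [hrs] at h2
  have h3 := congrArg (algebraMap S K) h2
  rw [map_mul, hW, ← IsScalarTower.algebraMap_apply, ← IsScalarTower.algebraMap_apply] at h3
  rw [← h3]
  ring




theorem exists_pow_mul_integralClosure_mem (R : Type u) [CommRing R] [IsDomain R]
    [IsNoetherianRing R] (f : R) (hf : f ≠ 0)
    (K : Type u) [Field K] [Algebra R K] [IsFractionRing R K]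
    (ha : ∀ z : K, IsIntegral R z →
      ∃ (k : ℕ) (r : R), algebraMap R K r = algebraMap R K f ^ k * z)
    (hb : ∀ (m : Ideal R) [m.IsMaximal], ∃ n : ℕ, ∀ z : K, IsIntegral R z → ∃ s : R, s ∉ m ∧
      ∃ r : R, algebraMap R K r = algebraMap R K s * (algebraMap R K f ^ n * z)) :
    ∃ n : ℕ, ∀ z : K, IsIntegral R z →
      ∃ r : R, algebraMap R K r = algebraMap R K f ^ n * z := by
  classical
  have hfK : algebraMap R K f ≠ 0 := by
    rwa [Ne, map_eq_zero_iff _ (IsFractionRing.injective R K)]
  let Ass := associatedPrimes R (R ⧸ Ideal.span ({f} : Set R))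
  have hAssfin : Ass.Finite := associatedPrimes.finite R _
  haveI : Fintype Ass := hAssfin.fintype
  have h1 : ∀ P : Ass, ∃ (m : Ideal R) (_ : m.IsMaximal), P.1 ≤ m := by
    intro P
    have hP : P.1.IsPrime := P.2.isPrime
    obtain ⟨m, hm, hPm⟩ := Ideal.exists_le_maximal P.1 hP.ne_top
    exact ⟨m, hm, hPm⟩
  choose mP hmP hPm using h1
  have h2 : ∀ P : Ass, ∃ n : ℕ, ∀ z : K, IsIntegral R z → ∃ s : R, s ∉ mP P ∧
      ∃ r : R, algebraMap R K r = algebraMap R K s * (algebraMap R K f ^ n * z) :=
    fun P => @hb (mP P) (hmP P)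
  choose nP hnP using h2
  let N := Finset.univ.sup nP
  refine ⟨N, fun z hz => ?_⟩
  have key : ∀ j : ℕ, (∃ r : R, algebraMap R K r = algebraMap R K f ^ (N + j) * z) →
      ∃ r : R, algebraMap R K r = algebraMap R K f ^ N * z := by
    intro j
    induction j with
    | zero => intro h; simpa using h
    | succ j ih =>
      rintro ⟨r, hr⟩
      apply ih
      by_cases hrf : r ∈ Ideal.span ({f} : Set R)
      · obtain ⟨r', rfl⟩ := Ideal.mem_span_singleton.mp hrf
        refine ⟨r', ?_⟩
        apply mul_left_cancel₀ hfK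
        rw [← map_mul, hr, ← add_assoc, pow_succ]
        ring
      · exfalso
        have hx : (Ideal.Quotient.mk (Ideal.span ({f} : Set R)) r) ≠ 0 := by
          rwa [Ne, Ideal.Quotient.eq_zero_iff_mem]
        obtain ⟨P, hP, hcolon⟩ := exists_le_isAssociatedPrime_of_isNoetherianRing R _ hx
        let P' : Ass := ⟨P, hP⟩
        obtain ⟨s, hs, r', hr'⟩ := hnP P' z hz
        have hle : nP P' ≤ N := Finset.le_sup (f := nP) (Finset.mem_univ P')
        -- `s * r ∈ (f)`
        have hsr : s * r = f * (f ^ (N + j - nP P') * r') := by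
          apply IsFractionRing.injective R K
          rw [map_mul, hr, map_mul, map_mul, map_pow, hr']
          have e1 : N + (j + 1) = (N + j - nP P') + nP P' + 1 := by omega
          rw [e1, pow_succ, pow_add]
          ring
        have hmem : s ∈ (⊥ : Submodule R (R ⧸ Ideal.span ({f} : Set R))).colon
            {Ideal.Quotient.mk (Ideal.span ({f} : Set R)) r} := by
          rw [Submodule.mem_colon_singleton, Submodule.mem_bot]
          change s • Ideal.Quotient.mk (Ideal.span ({f} : Set R)) r = 0
          rw [← Ideal.Quotient.mk_eq_mk, ← Submodule.Quotient.mk_smul, Ideal.Quotient.mk_eq_mk,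
            Ideal.Quotient.eq_zero_iff_mem, smul_eq_mul, hsr]
          exact Ideal.mul_mem_right _ _ (Ideal.mem_span_singleton_self f)
        exact hs (hPm P' (hcolon hmem))
  obtain ⟨k, r, hr⟩ := ha z hz
  by_cases hk : k ≤ N
  · refine ⟨f ^ (N - k) * r, ?_⟩
    rw [map_mul, hr, map_pow, ← mul_assoc, ← pow_add, Nat.sub_add_cancel hk]
  · apply key (k - N)
    refine ⟨r, ?_⟩
    rw [hr]
    congr 2
    omega




/-- If a fixed nonzero multiple of every integral element lies in `R`, then `R` is N-1. -/
theorem isN1_of_forall_mul_mem (R : Type u) [CommRing R] [IsDomain R] [IsNoetherianRing R]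
    (d : R) (hd : d ≠ 0)
    (h : ∀ z : FractionRing R, IsIntegral R z →
      ∃ r : R, algebraMap R (FractionRing R) r = algebraMap R (FractionRing R) d * z) :
    IsN1 R := by
  let K := FractionRing R
  have hdK : algebraMap R K d ≠ 0 := by
    rwa [Ne, map_eq_zero_iff _ (IsFractionRing.injective R K)]
  let ψ : integralClosure R K →ₗ[R] K :=
    (LinearMap.mulLeft R (algebraMap R K d)) ∘ₗ (integralClosure R K).val.toLinearMap
  have hψ : ∀ z, ψ z ∈ LinearMap.range (Algebra.linearMap R K) := by
    intro z
    obtain ⟨r, hr⟩ := h z.1 z.2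
    exact ⟨r, hr⟩
  let φ : integralClosure R K →ₗ[R] LinearMap.range (Algebra.linearMap R K) :=
    ψ.codRestrict _ hψ
  have hφ : Function.Injective φ := by
    intro a b hab
    have h1 : algebraMap R K d * (a : K) = algebraMap R K d * (b : K) :=
      congrArg Subtype.val hab
    exact Subtype.ext (mul_left_cancel₀ hdK h1)
  exact Module.Finite.of_injective φ hφ

/-- Local-global criterion for N-1, the hard direction. -/
theorem isN1_of_away_of_atPrime (R : Type u) [CommRing R] [IsDomain R] [IsNoetherianRing R]
    (f : R) (hf : f ≠ 0) [IsIntegrallyClosed (Localization.Away f)]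
    (hloc : ∀ (m : Ideal R) [m.IsMaximal], IsN1 (Localization.AtPrime m)) : IsN1 R := by
  let K := FractionRing R
  have ha := exists_pow_mul_eq_of_isIntegrallyClosed_away R f hf K
  have hb : ∀ (m : Ideal R) [m.IsMaximal], ∃ n : ℕ, ∀ z : K, IsIntegral R z → ∃ s : R, s ∉ m ∧
      ∃ r : R, algebraMap R K r = algebraMap R K s * (algebraMap R K f ^ n * z) :=
    fun m _ => exists_bound_of_isN1_atPrime R f K ha m (hloc m)
  obtain ⟨n, hn⟩ := exists_pow_mul_integralClosure_mem R f hf K ha hb
  apply isN1_of_forall_mul_mem R (f ^ n) (pow_ne_zero n hf)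
  intro z hz
  obtain ⟨r, hr⟩ := hn z hz
  exact ⟨r, by rw [hr, map_pow]⟩

/-- An N-1 Noetherian domain has an integrally closed principal localization. -/
theorem exists_isIntegrallyClosed_away_of_isN1 (R : Type u) [CommRing R] [IsDomain R]
    (h : IsN1 R) : ∃ f : R, f ≠ 0 ∧ IsIntegrallyClosed (Localization.Away f) := by
  classical
  let K := FractionRing R
  haveI : Module.Finite R (integralClosure R K) := h
  obtain ⟨n, b, hb⟩ := Module.Finite.exists_fin (R := R) (M := integralClosure R K)
  obtain ⟨⟨f, hfmem⟩, hfb⟩ := IsLocalization.exist_integer_multiples_of_finset (nonZeroDivisors R)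
    (Finset.univ.image (fun j => (b j : K)))
  have hf : f ≠ 0 := nonZeroDivisors.ne_zero hfmem
  have hfK : algebraMap R K f ≠ 0 := by
    rwa [Ne, map_eq_zero_iff _ (IsFractionRing.injective R K)]
  have hfz : ∀ z : K, IsIntegral R z → ∃ r : R, algebraMap R K r = algebraMap R K f * z := by
    intro z hz
    have hmem : (⟨z, hz⟩ : integralClosure R K) ∈ Submodule.span R (Set.range b) := by
      rw [hb]; trivial
    obtain ⟨c, hc⟩ := (Submodule.mem_span_range_iff_exists_fun R).mp hmem
    have hz' : z = ∑ j, algebraMap R K (c j) * (b j : K) := by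
      have := congrArg Subtype.val hc
      simp only [AddSubmonoidClass.coe_finsetSum, Algebra.smul_def] at this
      exact this.symm
    have h1 : ∀ j, ∃ r : R, algebraMap R K r = algebraMap R K f * (b j : K) := by
      intro j
      obtain ⟨r, hr⟩ := hfb (b j : K) (Finset.mem_image_of_mem _ (Finset.mem_univ j))
      refine ⟨r, ?_⟩
      rw [hr, Algebra.smul_def]
    choose r hr using h1
    refine ⟨∑ j, c j * r j, ?_⟩
    rw [map_sum, hz', Finset.mul_sum]
    refine Finset.sum_congr rfl (fun j _ => ?_)
    rw [map_mul, hr j]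
    ring
  refine ⟨f, hf, ?_⟩
  haveI : IsDomain (Localization.Away f) :=
    IsLocalization.isDomain_localization (powers_le_nonZeroDivisors_of_noZeroDivisors hf)
  obtain ⟨_, _, _⟩ := exists_algebra_fractionRing_of_isLocalization R (Submonoid.powers f)
    (Localization.Away f) K
  rw [isIntegrallyClosed_iff K]
  intro z hz
  obtain ⟨⟨t, k, rfl⟩, ht⟩ :=
    IsIntegral.exists_multiple_integral_of_isLocalization (Submonoid.powers f) z hz
  obtain ⟨r, hr⟩ := hfz _ ht
  rw [Submonoid.smul_def, Algebra.smul_def] at hr
  refine ⟨IsLocalization.mk' (Localization.Away f) r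
    (⟨f ^ (k + 1), k + 1, rfl⟩ : Submonoid.powers f), ?_⟩
  have h2 := IsLocalization.mk'_spec (Localization.Away f) r
    (⟨f ^ (k + 1), k + 1, rfl⟩ : Submonoid.powers f)
  have h3 := congrArg (algebraMap (Localization.Away f) K) h2
  rw [map_mul, ← IsScalarTower.algebraMap_apply, ← IsScalarTower.algebraMap_apply, hr] at h3
  have hne : algebraMap R K (f ^ (k + 1)) ≠ 0 := by
    rw [map_pow]; exact pow_ne_zero _ hfK
  apply mul_right_cancel₀ hne
  rw [h3, map_pow, map_pow, pow_succ]
  ring


end Groth.Agent.Lib.Helper18.Nag
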