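import Mathlib
import Groth.Prelude.Def_Found
import Groth.Prelude.Def_EGA4b
import Groth.Agent.Lib.Helper18.Nag7

/-!
# Nagata / Japanese rings, part 8: local rings with geometrically reduced formal fibres are Nagata
-/

set_option autoImplicit false
set_option linter.style.haveILetI false
set_option linter.unusedSectionVars false
universe u
open CAlg TensorProduct IsLocalRing Groth.Agent.Lib.Helper11.Japanese

namespace Groth.Agent.Lib.Helper18.Nag


/-- `B ⊗_A Â` is reduced when `B` is a domain finite over `A` and the formal fibres are geometrically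
reduced. -/
theorem isReduced_tensor_cpl (A : Type u) [CommRing A] [IsNoetherianRing A] [IsLocalRing A]
    (hA : EGA4.HasGeomReducedFormalFibres A) (B : Type u) [CommRing B] [IsDomain B] [Algebra A B]
    [Algebra.IsIntegral A B] : IsReduced (B ⊗[A] EGA4.Cpl A) := by
  let L := FractionRing B
  let f : A →+* L := algebraMap A L
  let p : Ideal A := RingHom.ker f
  haveI hp : p.IsPrime := RingHom.ker_isPrime f
  have hf₂ : p.primeCompl ≤ (IsUnit.submonoid L).comap f := by
    intro a ha
    rw [Submonoid.mem_comap, IsUnit.mem_submonoid_iff]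
    exact IsUnit.mk0 _ (fun h0 => ha ((RingHom.mem_ker).mpr h0))
  let g : p.ResidueField →+* L := Ideal.ResidueField.lift p f le_rfl hf₂
  letI : Algebra p.ResidueField L := g.toAlgebra
  haveI : IsScalarTower A p.ResidueField L := IsScalarTower.of_algebraMap_eq (fun a => by
    change f a = g (algebraMap A p.ResidueField a)
    rw [Ideal.ResidueField.lift_algebraMap])
  haveI : Algebra.IsAlgebraic p.ResidueField L := by
    refine ⟨fun x => ?_⟩
    obtain ⟨b, b', _, rfl⟩ := IsFractionRing.div_surjective (A := B) x
    have h1 : ∀ c : B, IsAlgebraic p.ResidueField (algebraMap B L c) := by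
      intro c
      have hc : IsIntegral A c := Algebra.IsIntegral.isIntegral c
      have hc' : IsIntegral A (algebraMap B L c) := hc.map (IsScalarTower.toAlgHom A B L)
      exact (hc'.tower_top (A := p.ResidueField)).isAlgebraic
    rw [div_eq_mul_inv]
    exact (h1 b).mul (h1 b').inv
  haveI := hA p
  haveI h1 : IsReduced (L ⊗[p.ResidueField] (EGA4.formalFibre A p)) := inferInstance
  have h2 : IsReduced (L ⊗[A] EGA4.Cpl A) :=
    isReduced_of_injective
      (Algebra.TensorProduct.cancelBaseChange A p.ResidueField L L (EGA4.Cpl A)).symm.toRingHom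
      (Algebra.TensorProduct.cancelBaseChange A p.ResidueField L L (EGA4.Cpl A)).symm.injective
  let j : B ⊗[A] EGA4.Cpl A →ₐ[A] L ⊗[A] EGA4.Cpl A :=
    Algebra.TensorProduct.map (IsScalarTower.toAlgHom A B L) (AlgHom.id A (EGA4.Cpl A))
  have hj : Function.Injective j := by
    have h3 := Module.Flat.rTensor_preserves_injective_linearMap (M := EGA4.Cpl A)
      (IsScalarTower.toAlgHom A B L).toLinearMap (IsFractionRing.injective B L)
    have h4 : ⇑j = ⇑(LinearMap.rTensor (EGA4.Cpl A) (IsScalarTower.toAlgHom A B L).toLinearMap) := by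
      ext e
      induction e using TensorProduct.induction_on with
      | zero => simp
      | tmul c a => simp [j]
      | add x y hx hy => rw [map_add, map_add, hx, hy]
    rw [h4]
    exact h3
  exact isReduced_of_injective j.toRingHom hj




/-- A domain finite over a Noetherian local ring with geometrically reduced formal fibres is N-1. -/
theorem isN1_of_finite_of_hasGeomReducedFormalFibres (A : Type u) [CommRing A]
    [IsNoetherianRing A] [IsLocalRing A]
    (hA : EGA4.HasGeomReducedFormalFibres A) (B : Type u) [CommRing B] [IsDomain B] [Algebra A B]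
    [Module.Finite A B] : IsN1 B := by
  let Â := EGA4.Cpl A
  haveI : IsNoetherianRing Â := by
    have : IsNoetherianRing (A ⧸ maximalIdeal A) := inferInstance
    exact Groth.Agent.Lib.Helper21.isNoetherianRing_adicCompletion_of_fg (maximalIdeal A)
      (IsNoetherian.noetherian _)
  haveI : Module.FaithfullyFlat A Â := Module.FaithfullyFlat.of_flat_of_isLocalHom
  let C := B ⊗[A] Â
  letI : Algebra Â C := Algebra.TensorProduct.rightAlgebra
  haveI : Module.Finite Â C :=
    Module.Finite.equiv (Algebra.TensorProduct.commRight A Â B).toLinearEquiv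
  haveI : IsNoetherianRing C := IsNoetherianRing.of_finite Â C
  haveI : IsReduced C := isReduced_tensor_cpl A hA B
  apply isN1_of_faithfullyFlat B C
  intro q hq _
  have h1 : IsN2 (Â ⧸ q.comap (algebraMap Â C)) :=
    (isNagata_of_isAdicComplete Â).2 (q.comap (algebraMap Â C))
  have h2 : IsN2 (C ⧸ q) :=
    isN2_of_finite_injective (Â ⧸ q.comap (algebraMap Â C)) (C ⧸ q)
      (Ideal.algebraMap_quotient_injective) h1
  exact isN1_of_isN2 _ h2

/-- A Noetherian local ring with geometrically reduced formal fibres is a Nagata ring. -/
theorem isNagata_of_hasGeomReducedFormalFibres (A : Type u) [CommRing A]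
    [IsNoetherianRing A] [IsLocalRing A]
    (hA : EGA4.HasGeomReducedFormalFibres A) : IsNagata A := by
  refine ⟨inferInstance, fun p _ => ?_⟩
  apply isN2_of_forall_finite_isN1
  intro S' _ _ _ hfin _
  letI : Algebra A S' := ((algebraMap (A ⧸ p) S').comp (algebraMap A (A ⧸ p))).toAlgebra
  haveI : IsScalarTower A (A ⧸ p) S' := IsScalarTower.of_algebraMap_eq (fun _ => rfl)
  haveI : Module.Finite A S' := Module.Finite.trans (A ⧸ p) S'
  exact isN1_of_finite_of_hasGeomReducedFormalFibres A hA S'


end Groth.Agent.Lib.Helper18.Nag
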