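import Mathlib
import Groth.Prelude.Def_Found
import Groth.Prelude.Def_EGA4b
import Groth.Agent.Lib.Helper18.Nag8
import Groth.Agent.Lib.Helper18.SerreNormal

set_option autoImplicit false
set_option linter.style.haveILetI false
set_option linter.unusedSectionVars false
universe u
open CAlg TensorProduct IsLocalRing Groth.Agent.Lib.Helper11.Japanese

namespace Groth.Agent.Lib.Helper18.Nag

section normal

variable (C : Type u) [CommRing C] [IsDomain C] [IsNoetherianRing C] [IsIntegrallyClosed C]

/-- In a Noetherian normal domain the associated primes of a nonzero principal ideal have height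
at most one. -/
theorem height_le_one_of_mem_associatedPrimes_span (x : C) (hx : x ≠ 0) (P : Ideal C)
    (hP : P ∈ associatedPrimes C (C ⧸ Ideal.span {x})) : P.height ≤ 1 := by
  obtain ⟨hPp, ybar, hPeq⟩ := (isAssociatedPrime_iff).1 hP
  obtain ⟨y, rfl⟩ := Ideal.Quotient.mk_surjective ybar
  haveI := hPp
  have hPz : ∀ w, w ∈ P ↔ ∃ c, w * y = x * c := by
    intro w
    rw [hPeq, Submodule.mem_colon_singleton, Submodule.mem_bot]
    have : w • (Ideal.Quotient.mk (Ideal.span {x}) y) = Ideal.Quotient.mk (Ideal.span {x}) (w * y) := rfl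
    rw [this, Ideal.Quotient.eq_zero_iff_mem, Ideal.mem_span_singleton']
    constructor
    · rintro ⟨c, hc⟩; exact ⟨c, by rw [← hc, mul_comm]⟩
    · rintro ⟨c, hc⟩; exact ⟨c, by rw [hc, mul_comm]⟩
  have hreg : IsSMulRegular C x := fun a b hab => mul_left_cancel₀ hx hab
  have hd := Serre.depth_localization_eq_one_of_colon x y hreg P hPz
  haveI : IsDomain (Localization.AtPrime P) :=
    IsLocalization.isDomain_of_le_nonZeroDivisors (M := P.primeCompl) _
      P.primeCompl_le_nonZeroDivisors
  haveI : IsIntegrallyClosed (Localization.AtPrime P) :=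
    isIntegrallyClosed_of_isLocalization _ P.primeCompl P.primeCompl_le_nonZeroDivisors
  have h2 := Serre.min_two_dim_le_depth_of_normal (Localization.AtPrime P)
  rw [hd, IsLocalization.AtPrime.ringKrullDim_eq_height P (Localization.AtPrime P)] at h2
  have e2 : ((2 : ℕ) : WithBot ℕ∞) = ((2 : ℕ∞) : WithBot ℕ∞) := rfl
  rw [e2, ← WithBot.coe_min, WithBot.coe_le_coe] at h2
  by_contra hcon
  rw [not_le] at hcon
  have h3 : (2 : ℕ∞) ≤ P.height := by
    have := Order.add_one_le_of_lt hcon
    simpa [one_add_one_eq_two] using this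
  rw [min_eq_left h3] at h2
  exact absurd h2 (by norm_num)

/-- A prime of height at most one containing a nonzero `x` is a minimal prime over `(x)`. -/
theorem mem_minimalPrimes_of_height_le_one (x : C) (hx : x ≠ 0) (P : Ideal C) [P.IsPrime]
    (hxP : x ∈ P) (hh : P.height ≤ 1) : P ∈ (Ideal.span {x}).minimalPrimes := by
  have hle : Ideal.span {x} ≤ P := (Ideal.span_singleton_le_iff_mem P).2 hxP
  obtain ⟨q, hq, hqP⟩ := Ideal.exists_minimalPrimes_le hle
  haveI : q.IsPrime := hq.1.1
  have hxq : x ∈ q := hq.1.2 (Ideal.mem_span_singleton_self x)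
  have hq0 : q.height ≠ 0 := by
    rw [Ne, Ideal.height_eq_zero_iff_eq_bot]
    rintro rfl
    exact hx (by simpa using hxq)
  have : q = P := by
    by_contra hne
    have hlt : q < P := lt_of_le_of_ne hqP hne
    have h1 := Ideal.height_add_one_le_of_lt_of_isPrime hlt
    have h2 : q.height + 1 ≤ 1 := h1.trans hh
    have h3 : q.height = 0 := by
      have h4 : q.height ≠ ⊤ := by
        intro h; rw [h] at h2; simp at h2
      obtain ⟨n, hn⟩ := ENat.ne_top_iff_exists.mp h4
      rw [← hn] at h2 ⊢
      have : n + 1 ≤ 1 := by exact_mod_cast h2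
      have : n = 0 := by omega
      simp [this]
    exact hq0 h3
  rw [← this]
  exact hq

/-- In a Noetherian normal domain, an element outside all minimal primes of `(x)` is a
nonzerodivisor modulo `x`. -/
theorem mem_span_of_mul_mem_span (x : C) (hx : x ≠ 0) (c b : C)
    (hc : ∀ p ∈ (Ideal.span {x}).minimalPrimes, c ∉ p) (h : c * b ∈ Ideal.span {x}) :
    b ∈ Ideal.span {x} := by
  by_contra hb
  have hb0 : (Ideal.Quotient.mk (Ideal.span {x}) b) ≠ 0 := by
    rwa [Ne, Ideal.Quotient.eq_zero_iff_mem]
  obtain ⟨P, hP, hle⟩ := exists_le_isAssociatedPrime_of_isNoetherianRing C _ hb0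
  haveI : P.IsPrime := hP.isPrime
  have hcP : c ∈ P := hle (by
    rw [Submodule.mem_colon_singleton, Submodule.mem_bot]
    show Ideal.Quotient.mk (Ideal.span {x}) (c * b) = 0
    rwa [Ideal.Quotient.eq_zero_iff_mem])
  have hxP : x ∈ P := hle (by
    rw [Submodule.mem_colon_singleton, Submodule.mem_bot]
    show Ideal.Quotient.mk (Ideal.span {x}) (x * b) = 0
    rw [Ideal.Quotient.eq_zero_iff_mem]
    exact Ideal.mul_mem_right _ _ (Ideal.mem_span_singleton_self x))
  have hh := height_le_one_of_mem_associatedPrimes_span C x hx P hP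
  exact hc P (mem_minimalPrimes_of_height_le_one C x hx P hxP hh) hcP

/-- The local ring of a Noetherian normal domain at a minimal prime of a nonzero principal ideal is
a discrete valuation ring; here in elementwise form. -/
theorem exists_uniformizer (x : C) (hx : x ≠ 0) (p : Ideal C)
    (hp : p ∈ (Ideal.span {x}).minimalPrimes) :
    ∃ π : C, π ≠ 0 ∧ π ∈ p ∧ (∃ s : C, s ∉ p ∧ ∀ a ∈ p, s * a ∈ Ideal.span {π}) ∧
      ∃ (n : ℕ) (s : C), s ∉ p ∧ s * π ^ n ∈ Ideal.span {x} := by
  classical
  haveI : p.IsPrime := hp.1.1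
  have hxp : x ∈ p := hp.1.2 (Ideal.mem_span_singleton_self x)
  have hh : p.height ≤ 1 := Ideal.height_le_one_of_isPrincipal_of_mem_minimalPrimes _ p hp
  haveI : IsDomain (Localization.AtPrime p) :=
    IsLocalization.isDomain_of_le_nonZeroDivisors (M := p.primeCompl) _
      p.primeCompl_le_nonZeroDivisors
  haveI : IsIntegrallyClosed (Localization.AtPrime p) :=
    isIntegrallyClosed_of_isLocalization _ p.primeCompl p.primeCompl_le_nonZeroDivisors
  have hinj : Function.Injective (algebraMap C (Localization.AtPrime p)) :=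
    IsLocalization.injective _ p.primeCompl_le_nonZeroDivisors
  have h4 : IsIntegrallyClosed (Localization.AtPrime p) ∧
      ∀ P : Ideal (Localization.AtPrime p), P ≠ ⊥ → P.IsPrime →
        P = maximalIdeal (Localization.AtPrime p) := by
    refine ⟨inferInstance, fun P hP0 hPp => ?_⟩
    haveI := hPp
    have hmap : (P.under C).map (algebraMap C (Localization.AtPrime p)) = P :=
      IsLocalization.map_under p.primeCompl (S := Localization.AtPrime p) P
    haveI : (P.under C).IsPrime := Ideal.comap_isPrime _ _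
    have hP'0 : P.under C ≠ ⊥ := by
      intro h; apply hP0; rw [← hmap, h, Ideal.map_bot]
    have hle : P.under C ≤ p := by
      have hd := ((IsLocalization.isPrime_iff_isPrime_disjoint p.primeCompl
        (Localization.AtPrime p) P).1 hPp).2
      intro a ha
      by_contra hap
      exact Set.disjoint_left.1 hd hap ha
    have heq : P.under C = p := by
      by_contra hne
      have hlt := lt_of_le_of_ne hle hne
      have h1 := Ideal.height_add_one_le_of_lt_of_isPrime hlt
      have h0 : (P.under C).height ≠ 0 := by rwa [Ne, Ideal.height_eq_zero_iff_eq_bot]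
      have h2 : (P.under C).height + 1 ≤ 1 := h1.trans hh
      have h4 : (P.under C).height ≠ ⊤ := by
        intro h; rw [h] at h2; simp at h2
      obtain ⟨n, hn⟩ := ENat.ne_top_iff_exists.mp h4
      rw [← hn] at h2 h0
      have : n + 1 ≤ 1 := by exact_mod_cast h2
      have : n = 0 := by omega
      exact h0 (by simp [this])
    rw [← hmap, heq]
    exact Localization.AtPrime.map_eq_maximalIdeal
  have htfae := tfae_of_isNoetherianRing_of_isLocalRing_of_isDomain (R := Localization.AtPrime p)
  have h5 : (maximalIdeal (Localization.AtPrime p)).IsPrincipal := (htfae.out 3 4).mp h4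
  have h7 : ∀ I ≠ (⊥ : Ideal (Localization.AtPrime p)), ∃ n : ℕ,
      I = maximalIdeal (Localization.AtPrime p) ^ n := (htfae.out 3 6).mp h4
  obtain ⟨ϖ, hϖ⟩ := h5.principal
  obtain ⟨π, t, rfl⟩ := IsLocalization.exists_mk'_eq p.primeCompl ϖ
  have hmax : maximalIdeal (Localization.AtPrime p) =
      Ideal.span {algebraMap C (Localization.AtPrime p) π} := by
    rw [hϖ]
    show Ideal.span _ = _
    apply le_antisymm
    · rw [Ideal.span_singleton_le_iff_mem, Ideal.mem_span_singleton']
      refine ⟨IsLocalization.mk' _ 1 t, ?_⟩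
      rw [mul_comm, IsLocalization.mul_mk'_eq_mk'_of_mul, mul_one]
    · rw [Ideal.span_singleton_le_iff_mem, Ideal.mem_span_singleton']
      refine ⟨algebraMap C _ t, ?_⟩
      exact IsLocalization.mk'_spec' (Localization.AtPrime p) π t
  have hπp : π ∈ p := by
    rw [← IsLocalization.AtPrime.to_map_mem_maximal_iff (Localization.AtPrime p) p π, hmax]
    exact Ideal.mem_span_singleton_self _
  have hπ0 : π ≠ 0 := by
    rintro rfl
    rw [map_zero, Ideal.span_singleton_zero] at hmax
    have : algebraMap C (Localization.AtPrime p) x ∈ maximalIdeal (Localization.AtPrime p) :=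
      (IsLocalization.AtPrime.to_map_mem_maximal_iff (Localization.AtPrime p) p x).2 hxp
    rw [hmax, Ideal.mem_bot] at this
    exact hx (hinj (by rw [this, map_zero]))
  have key : ∀ a : C, algebraMap C (Localization.AtPrime p) a ∈
      Ideal.span {algebraMap C (Localization.AtPrime p) π} →
      ∃ s : C, s ∉ p ∧ s * a ∈ Ideal.span {π} := by
    intro a ha
    rw [Ideal.mem_span_singleton'] at ha
    obtain ⟨z, hz⟩ := ha
    obtain ⟨b, s, rfl⟩ := IsLocalization.exists_mk'_eq p.primeCompl z
    refine ⟨s, s.2, ?_⟩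
    rw [Ideal.mem_span_singleton']
    refine ⟨b, hinj ?_⟩
    rw [map_mul, map_mul, ← hz, mul_comm (IsLocalization.mk' _ b s), mul_left_comm,
      IsLocalization.mk'_spec', mul_comm]
  refine ⟨π, hπ0, hπp, ?_, ?_⟩
  · have h1 : ∀ a ∈ p, ∃ s : C, s ∉ p ∧ s * a ∈ Ideal.span {π} := by
      intro a ha
      apply key
      rw [← hmax]
      exact (IsLocalization.AtPrime.to_map_mem_maximal_iff (Localization.AtPrime p) p a).2 ha
    obtain ⟨G, hG⟩ := (isNoetherianRing_iff_ideal_fg C).1 inferInstance p
    have h2 : ∀ a : C, ∃ s : C, a ∈ p → (s ∉ p ∧ s * a ∈ Ideal.span {π}) := by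
      intro a
      by_cases ha : a ∈ p
      · obtain ⟨s, hs⟩ := h1 a ha
        exact ⟨s, fun _ => hs⟩
      · exact ⟨0, fun h => absurd h ha⟩
    choose f hf using h2
    have hGp : ∀ g ∈ G, g ∈ p := by
      intro g hg
      rw [← hG]
      exact Ideal.subset_span hg
    refine ⟨∏ g ∈ G, f g, ?_, ?_⟩
    · intro hmem
      rw [Ideal.IsPrime.prod_mem_iff] at hmem
      obtain ⟨g, hg, hfg⟩ := hmem
      exact (hf g (hGp g hg)).1 hfg
    · intro a ha
      rw [← hG] at ha
      refine Submodule.span_induction ?_ ?_ ?_ ?_ ha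
      · intro g hg
        obtain ⟨k, hk⟩ := Finset.dvd_prod_of_mem f hg
        rw [hk, mul_comm (f g) k, mul_assoc]
        exact Ideal.mul_mem_left _ _ (hf g (hGp g hg)).2
      · simp
      · intro a b _ _ ha hb
        rw [mul_add]
        exact Ideal.add_mem _ ha hb
      · intro r a _ ha
        rw [smul_eq_mul, mul_left_comm]
        exact Ideal.mul_mem_left _ _ ha
  · have hI0 : Ideal.span {algebraMap C (Localization.AtPrime p) x} ≠ ⊥ := by
      rw [Ne, Ideal.span_singleton_eq_bot]
      intro h
      exact hx (hinj (by rw [h, map_zero]))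
    obtain ⟨n, hn⟩ := h7 _ hI0
    rw [hmax, Ideal.span_singleton_pow, ← map_pow] at hn
    have h1 : algebraMap C (Localization.AtPrime p) (π ^ n) ∈
        Ideal.span {algebraMap C (Localization.AtPrime p) x} := by
      rw [hn]
      exact Ideal.mem_span_singleton_self _
    rw [Ideal.mem_span_singleton'] at h1
    obtain ⟨z, hz⟩ := h1
    obtain ⟨b, s, rfl⟩ := IsLocalization.exists_mk'_eq p.primeCompl z
    refine ⟨n, s, s.2, ?_⟩
    rw [Ideal.mem_span_singleton']
    refine ⟨b, hinj ?_⟩
    rw [map_mul, map_mul, ← hz, mul_comm (IsLocalization.mk' _ b s), mul_left_comm,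
      IsLocalization.mk'_spec', mul_comm]

end normal

end Groth.Agent.Lib.Helper18.Nag
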