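import Mathlib
import Groth.Agent.Lib.Helper18.AnUnram2

set_option autoImplicit false
set_option linter.style.haveILetI false
set_option linter.unusedSectionVars false
universe u
open CAlg TensorProduct IsLocalRing Groth.Agent.Lib.Helper11.Japanese

namespace Groth.Agent.Lib.Helper18.Nag

section tensorinj

variable {R : Type u} [CommRing R] (R' : Type u) [CommRing R'] [Algebra R R'] [Module.Flat R R']

/-- Tensoring an injective algebra map with a flat algebra: reducedness descends. -/
theorem isReduced_tensor_of_injective {C C' : Type u} [CommRing C] [CommRing C'] [Algebra R C]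
    [Algebra R C'] (f : C →ₐ[R] C') (hf : Function.Injective f) (h : IsReduced (C' ⊗[R] R')) :
    IsReduced (C ⊗[R] R') := by
  let j : C ⊗[R] R' →ₐ[R] C' ⊗[R] R' := Algebra.TensorProduct.map f (AlgHom.id R R')
  have hj : Function.Injective j := by
    have h3 := Module.Flat.rTensor_preserves_injective_linearMap (M := R') f.toLinearMap hf
    have h4 : ⇑j = ⇑(LinearMap.rTensor R' f.toLinearMap) := by
      ext e
      induction e using TensorProduct.induction_on with
      | zero => simp
      | tmul c a => simp [j]
      | add x y hx hy => rw [map_add, map_add, hx, hy]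
    rw [h4]
    exact h3
  exact isReduced_of_injective j.toRingHom hj

end tensorinj

section normalization

variable (R : Type u) [CommRing R] [IsNoetherianRing R]

/-- The normalization of a domain finite over a Nagata ring, packaged. -/
theorem exists_normalization (hR : IsNagata R) (C : Type u) [CommRing C] [IsDomain C]
    [Algebra R C] [Module.Finite R C] :
    ∃ (C' : Type u) (_ : CommRing C') (_ : IsDomain C') (_ : IsIntegrallyClosed C')
      (_ : Algebra R C') (_ : Module.Finite R C') (f : C →ₐ[R] C'), Function.Injective f := by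
  haveI hp : (RingHom.ker (algebraMap R C)).IsPrime := RingHom.ker_isPrime _
  have hN2 : IsN2 (R ⧸ RingHom.ker (algebraMap R C)) := hR.2 _
  letI : Algebra (R ⧸ RingHom.ker (algebraMap R C)) C := (RingHom.kerLift (algebraMap R C)).toAlgebra
  haveI : IsScalarTower R (R ⧸ RingHom.ker (algebraMap R C)) C :=
    IsScalarTower.of_algebraMap_eq (fun _ => rfl)
  haveI : Module.Finite (R ⧸ RingHom.ker (algebraMap R C)) C :=
    Module.Finite.of_restrictScalars_finite R _ _
  have hinj : Function.Injective (algebraMap (R ⧸ RingHom.ker (algebraMap R C)) C) :=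
    RingHom.kerLift_injective _
  have hC2 : IsN2 C := isN2_of_finite_injective _ C hinj hN2
  have hC1 : IsN1 C := isN1_of_isN2 C hC2
  haveI : Module.Finite C (integralClosure C (FractionRing C)) := hC1
  letI : Algebra R (integralClosure C (FractionRing C)) :=
    ((algebraMap C (integralClosure C (FractionRing C))).comp (algebraMap R C)).toAlgebra
  haveI : IsScalarTower R C (integralClosure C (FractionRing C)) :=
    IsScalarTower.of_algebraMap_eq (fun _ => rfl)
  haveI : Module.Finite R (integralClosure C (FractionRing C)) := Module.Finite.trans C _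
  have hic : IsIntegrallyClosed (integralClosure C (FractionRing C)) :=
    integralClosure.isIntegrallyClosedOfFiniteExtension (FractionRing C)
  refine ⟨integralClosure C (FractionRing C), inferInstance, inferInstance, hic,
    inferInstance, inferInstance, IsScalarTower.toAlgHom R C _, ?_⟩
  intro a b hab
  have : algebraMap C (FractionRing C) a = algebraMap C (FractionRing C) b :=
    congrArg Subtype.val hab
  exact IsFractionRing.injective C (FractionRing C) this

end normalization

section main

variable (R : Type u) [CommRing R] [IsLocalRing R] [IsNoetherianRing R]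
  (R' : Type u) [CommRing R'] [Algebra R R'] [Module.Flat R R'] [IsNoetherianRing R']

/-- Field case. -/
theorem isReduced_tensor_of_ker_eq_maximalIdeal
    (hres : ∀ r' : R', ∃ a : R, r' - algebraMap R R' a ∈ (maximalIdeal R).map (algebraMap R R'))
    (C : Type u) [CommRing C] [IsDomain C] [Algebra R C] [Module.Finite R C]
    (hker : RingHom.ker (algebraMap R C) = maximalIdeal R) : IsReduced (C ⊗[R] R') := by
  -- `C` is a field
  have hC : IsField C := by
    letI : Algebra (R ⧸ RingHom.ker (algebraMap R C)) C :=
      (RingHom.kerLift (algebraMap R C)).toAlgebra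
    haveI : IsScalarTower R (R ⧸ RingHom.ker (algebraMap R C)) C :=
      IsScalarTower.of_algebraMap_eq (fun _ => rfl)
    haveI : Algebra.IsIntegral R C := Algebra.IsIntegral.of_finite R C
    haveI : Algebra.IsIntegral (R ⧸ RingHom.ker (algebraMap R C)) C :=
      Algebra.IsIntegral.tower_top (R := R)
    have hk : IsField (R ⧸ RingHom.ker (algebraMap R C)) := by
      rw [hker]
      exact (Ideal.Quotient.maximal_ideal_iff_isField_quotient _).1 inferInstance
    exact isField_of_isIntegral_of_isField' hk
  -- `C → C ⊗ R'` is surjective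
  have h0 : ∀ e ∈ (maximalIdeal R).map (algebraMap R R'), ∀ c : C, c ⊗ₜ[R] e = 0 := by
    intro e he
    refine Submodule.span_induction ?_ ?_ ?_ ?_ he
    · rintro _ ⟨m₀, hm₀, rfl⟩ c
      have h1 : algebraMap R C m₀ = 0 := by
        rw [← RingHom.mem_ker, hker]; exact hm₀
      rw [Algebra.algebraMap_eq_smul_one, ← TensorProduct.smul_tmul, Algebra.smul_def, h1,
        zero_mul, TensorProduct.zero_tmul]
    · intro c; simp
    · intro a b _ _ ha hb c
      rw [TensorProduct.tmul_add, ha, hb, add_zero]
    · intro r a _ ha c
      have : c ⊗ₜ[R] (r • a) = ((1 : C) ⊗ₜ[R] r) * (c ⊗ₜ[R] a) := by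
        rw [Algebra.TensorProduct.tmul_mul_tmul, one_mul, smul_eq_mul]
      rw [this, ha, mul_zero]
  have hsurj : Function.Surjective
      (Algebra.TensorProduct.includeLeft : C →ₐ[R] C ⊗[R] R') := by
    intro z
    induction z using TensorProduct.induction_on with
    | zero => exact ⟨0, map_zero _⟩
    | tmul c r' =>
      obtain ⟨a, ha⟩ := hres r'
      refine ⟨a • c, ?_⟩
      have h2 : r' = algebraMap R R' a + (r' - algebraMap R R' a) := by ring
      rw [Algebra.TensorProduct.includeLeft_apply, h2, TensorProduct.tmul_add, h0 _ ha,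
        add_zero, Algebra.algebraMap_eq_smul_one, TensorProduct.smul_tmul]
    | add x y hx hy =>
      obtain ⟨a, rfl⟩ := hx
      obtain ⟨b, rfl⟩ := hy
      exact ⟨a + b, map_add _ _ _⟩
  -- conclude
  letI := hC.toField
  by_cases hT : Subsingleton (C ⊗[R] R')
  · exact ⟨fun x _ => Subsingleton.elim _ _⟩
  · rw [not_subsingleton_iff_nontrivial] at hT
    have hinj : Function.Injective
        (Algebra.TensorProduct.includeLeft : C →ₐ[R] C ⊗[R] R') :=
      (Algebra.TensorProduct.includeLeft : C →ₐ[R] C ⊗[R] R').toRingHom.injective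
    let e : C ≃+* C ⊗[R] R' :=
      RingEquiv.ofBijective (Algebra.TensorProduct.includeLeft : C →ₐ[R] C ⊗[R] R').toRingHom
        ⟨hinj, hsurj⟩
    exact isReduced_of_injective e.symm.toRingHom e.symm.injective

/-- Main step: the normal case. -/
theorem isReduced_tensor_of_normal
    (hrad : (maximalIdeal R).map (algebraMap R R') ≤ (⊥ : Ideal R').jacobson)
    (C : Type u) [CommRing C] [IsDomain C] [IsIntegrallyClosed C] [Algebra R C]
    [Module.Finite R C] (x : R) (hxm : x ∈ maximalIdeal R) (hx : algebraMap R C x ≠ 0)
    (ih : ∀ (D : Type u) [CommRing D] [IsDomain D] [Algebra R D] [Module.Finite R D],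
      RingHom.ker (algebraMap R C) < RingHom.ker (algebraMap R D) → IsReduced (D ⊗[R] R')) :
    IsReduced (C ⊗[R] R') := by
  haveI : IsNoetherianRing C := IsNoetherianRing.of_finite R C
  letI : Algebra R' (C ⊗[R] R') := Algebra.TensorProduct.rightAlgebra
  haveI : Module.Finite R' (C ⊗[R] R') :=
    Module.Finite.equiv (Algebra.TensorProduct.commRight R R' C).toLinearEquiv
  haveI : IsNoetherianRing (C ⊗[R] R') := IsNoetherianRing.of_finite R' _
  refine isReduced_of_flat_of_minimalPrimes C (C ⊗[R] R') (algebraMap R C x) hx ?_ ?_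
  · -- `x` lies in the radical of `T`
    have h1 : algebraMap C (C ⊗[R] R') (algebraMap R C x) =
        algebraMap R' (C ⊗[R] R') (algebraMap R R' x) := by
      rw [Algebra.TensorProduct.algebraMap_apply, Algebra.TensorProduct.right_algebraMap_apply,
        Algebra.algebraMap_self, RingHom.id_apply]
      calc (algebraMap R C x) ⊗ₜ[R] (1 : R') = (x • (1 : C)) ⊗ₜ[R] (1 : R') := by
            rw [← Algebra.algebraMap_eq_smul_one]
        _ = (1 : C) ⊗ₜ[R] (x • (1 : R')) := TensorProduct.smul_tmul x 1 1
        _ = (1 : C) ⊗ₜ[R] (algebraMap R R' x) := by rw [← Algebra.algebraMap_eq_smul_one]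
    rw [h1, Ideal.jacobson, Ideal.mem_sInf]
    rintro N ⟨-, hN⟩
    haveI := hN
    haveI : Algebra.IsIntegral R' (C ⊗[R] R') := Algebra.IsIntegral.of_finite R' _
    have hmax : (N.comap (algebraMap R' (C ⊗[R] R'))).IsMaximal :=
      Ideal.isMaximal_comap_of_isIntegral_of_isMaximal N
    have h2 : algebraMap R R' x ∈ (⊥ : Ideal R').jacobson :=
      hrad (Ideal.mem_map_of_mem _ hxm)
    rw [Ideal.jacobson, Ideal.mem_sInf] at h2
    exact h2 ⟨bot_le, hmax⟩
  · intro p hp t ht
    haveI hpp : p.IsPrime := hp.1.1
    have hxp : algebraMap R C x ∈ p := hp.1.2 (Ideal.mem_span_singleton_self _)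
    have hlt : RingHom.ker (algebraMap R C) < RingHom.ker (algebraMap R (C ⧸ p)) := by
      refine lt_of_le_of_ne ?_ ?_
      · intro a ha
        rw [RingHom.mem_ker] at ha ⊢
        rw [IsScalarTower.algebraMap_apply R C (C ⧸ p), ha, map_zero]
      · intro heq
        apply hx
        rw [← RingHom.mem_ker, heq, RingHom.mem_ker, IsScalarTower.algebraMap_apply R C (C ⧸ p),
          Ideal.Quotient.algebraMap_eq, Ideal.Quotient.eq_zero_iff_mem]
        exact hxp
    have hD : IsReduced ((C ⧸ p) ⊗[R] R') := ih (C ⧸ p) hlt
    have hker := Algebra.TensorProduct.rTensor_ker (R := R) (S := R) (C := R')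
      (Ideal.Quotient.mkₐ R p) (Ideal.Quotient.mkₐ_surjective R p)
    have h3 : (Algebra.TensorProduct.map (Ideal.Quotient.mkₐ R p) (AlgHom.id R R')) t = 0 := by
      apply IsReduced.eq_zero
      exact ⟨2, by rw [← map_pow, ht, map_zero]⟩
    have h4 : t ∈ RingHom.ker (Algebra.TensorProduct.map (Ideal.Quotient.mkₐ R p)
        (AlgHom.id R R')) := h3
    have hk2 : RingHom.ker (Ideal.Quotient.mkₐ R p) = p := by
      ext a
      rw [RingHom.mem_ker, Ideal.Quotient.mkₐ_eq_mk, Ideal.Quotient.eq_zero_iff_mem]
    rw [hker, hk2] at h4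
    exact h4

/-- **Analytic unramifiedness, abstract tensor form.**  Let `R` be a Noetherian local Nagata ring and
`R'` a Noetherian flat `R`-algebra such that `𝔪R'` lies in the radical of `R'` and `R → R'/𝔪R'` is
surjective (e.g. the completion of `R`).  Then `C ⊗_R R'` is reduced for every domain `C` finite
over `R`. -/
theorem isReduced_tensor_of_isNagata (hR : IsNagata R)
    (hrad : (maximalIdeal R).map (algebraMap R R') ≤ (⊥ : Ideal R').jacobson)
    (hres : ∀ r' : R', ∃ a : R, r' - algebraMap R R' a ∈ (maximalIdeal R).map (algebraMap R R'))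
    (C : Type u) [CommRing C] [IsDomain C] [Algebra R C] [Module.Finite R C] :
    IsReduced (C ⊗[R] R') := by
  have key : ∀ (I : Ideal R) (C : Type u) [CommRing C] [IsDomain C] [Algebra R C]
      [Module.Finite R C], RingHom.ker (algebraMap R C) = I → IsReduced (C ⊗[R] R') := by
    intro I
    induction I using WellFoundedGT.induction with
    | ind I ih =>
      intro C _ _ _ _ hker
      by_cases hI : I = maximalIdeal R
      · exact isReduced_tensor_of_ker_eq_maximalIdeal R R' hres C (hker.trans hI)
      · have hIle : I ≤ maximalIdeal R := by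
          rw [← hker]
          exact IsLocalRing.le_maximalIdeal (RingHom.ker_ne_top _)
        have hnot : ¬ maximalIdeal R ≤ I := fun h => hI (le_antisymm hIle h)
        obtain ⟨x, hxm, hxI⟩ := SetLike.not_le_iff_exists.1 hnot
        obtain ⟨C', _, _, _, _, _, f, hf⟩ := exists_normalization R hR C
        have hker' : RingHom.ker (algebraMap R C') = I := by
          rw [← hker]
          ext a
          rw [RingHom.mem_ker, RingHom.mem_ker, ← f.commutes a, map_eq_zero_iff f hf]
        refine isReduced_tensor_of_injective R' f hf ?_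
        refine isReduced_tensor_of_normal R R' hrad C' x hxm ?_ ?_
        · intro h0
          apply hxI
          rw [← hker', RingHom.mem_ker]
          exact h0
        · intro D _ _ _ _ hlt
          rw [hker'] at hlt
          exact ih _ hlt D rfl
  exact key _ C rfl

end main

section completion

variable (R : Type u) [CommRing R] [IsLocalRing R] [IsNoetherianRing R]

theorem isNoetherianRing_cpl : IsNoetherianRing (AdicCompletion (maximalIdeal R) R) :=
  Groth.Agent.Lib.Helper21.isNoetherianRing_adicCompletion_of_fg (maximalIdeal R)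
    (IsNoetherian.noetherian _)

theorem cpl_map_le_jacobson :
    (maximalIdeal R).map (algebraMap R (AdicCompletion (maximalIdeal R) R)) ≤
      (⊥ : Ideal (AdicCompletion (maximalIdeal R) R)).jacobson := by
  rw [IsLocalRing.jacobson_eq_maximalIdeal ⊥ bot_ne_top, AdicCompletion.maximalIdeal_eq_map]

theorem cpl_exists_sub_mem (r' : AdicCompletion (maximalIdeal R) R) :
    ∃ a : R, r' - algebraMap R (AdicCompletion (maximalIdeal R) R) a ∈
      (maximalIdeal R).map (algebraMap R (AdicCompletion (maximalIdeal R) R)) := by
  obtain ⟨a, ha⟩ := Ideal.Quotient.mk_surjective (AdicCompletion.evalOneₐ (maximalIdeal R) r')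
  refine ⟨a, ?_⟩
  rw [← AdicCompletion.ker_evalOneₐ_eq_map (maximalIdeal R) (IsNoetherian.noetherian _),
    RingHom.mem_ker, map_sub, sub_eq_zero]
  have h1 := congrArg (fun φ => φ a)
    (AdicCompletion.evalOneₐ_comp_algebraMap_eq_mk (I := maximalIdeal R))
  simp only [RingHom.comp_apply] at h1
  rw [h1, ha]
  rfl

/-- For a Noetherian local Nagata ring `R` and a domain `C` finite over `R`, the ring `C ⊗_R R̂` is
reduced. -/
theorem isReduced_tensor_cpl_of_isNagata (hR : IsNagata R)
    (C : Type u) [CommRing C] [IsDomain C] [Algebra R C] [Module.Finite R C] :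
    IsReduced (C ⊗[R] AdicCompletion (maximalIdeal R) R) := by
  haveI := isNoetherianRing_cpl R
  exact isReduced_tensor_of_isNagata R _ hR (cpl_map_le_jacobson R) (cpl_exists_sub_mem R) C

/-- A Noetherian local Nagata domain is analytically unramified. -/
theorem isReduced_cpl_of_isNagata [IsDomain R] (hR : IsNagata R) :
    IsReduced (AdicCompletion (maximalIdeal R) R) := by
  have h := isReduced_tensor_cpl_of_isNagata R hR R
  exact isReduced_of_injective
    (Algebra.TensorProduct.lid R (AdicCompletion (maximalIdeal R) R)).symm.toRingEquiv.toRingHom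
    (Algebra.TensorProduct.lid R (AdicCompletion (maximalIdeal R) R)).symm.injective

end completion

end Groth.Agent.Lib.Helper18.Nag
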