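import Mathlib
import Groth.Agent.Lib.Helper18.AnUnram3

set_option autoImplicit false
set_option linter.style.haveILetI false
set_option linter.unusedSectionVars false
universe u
open CAlg TensorProduct IsLocalRing Groth.Agent.Lib.Helper11.Japanese

namespace Groth.Agent.Lib.Helper18.Nag

section general

variable (R : Type u) [CommRing R] [IsNoetherianRing R] (𝔯 : Ideal R)
  (R' : Type u) [CommRing R'] [Algebra R R'] [Module.Flat R R'] [IsNoetherianRing R']

/-- Base case of the general theorem: `𝔯 ≤ ker (R → C)`. -/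
theorem isReduced_tensor_of_le_ker
    (ρ : R' →ₐ[R] R ⧸ 𝔯) (hρ : RingHom.ker ρ = 𝔯.map (algebraMap R R'))
    (C : Type u) [CommRing C] [IsDomain C] [Algebra R C]
    (hker : 𝔯 ≤ RingHom.ker (algebraMap R C)) : IsReduced (C ⊗[R] R') := by
  have hres : ∀ r' : R', ∃ a : R, r' - algebraMap R R' a ∈ 𝔯.map (algebraMap R R') := by
    intro r'
    obtain ⟨a, ha⟩ := Ideal.Quotient.mk_surjective (ρ r')
    refine ⟨a, ?_⟩
    rw [← hρ, RingHom.mem_ker, map_sub, AlgHom.commutes, ← ha, Ideal.Quotient.algebraMap_eq,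
      sub_self]
  have h0 : ∀ e ∈ 𝔯.map (algebraMap R R'), ∀ c : C, c ⊗ₜ[R] e = 0 := by
    intro e he
    refine Submodule.span_induction ?_ ?_ ?_ ?_ he
    · rintro _ ⟨m₀, hm₀, rfl⟩ c
      have h1 : algebraMap R C m₀ = 0 := RingHom.mem_ker.1 (hker hm₀)
      rw [Algebra.algebraMap_eq_smul_one, ← TensorProduct.smul_tmul, Algebra.smul_def, h1,
        zero_mul, TensorProduct.zero_tmul]
    · intro c; simp
    · intro a b _ _ ha hb c
      rw [TensorProduct.tmul_add, ha, hb, add_zero]
    · intro r a _ ha c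
      have : c ⊗ₜ[R] (r • a) = ((1 : C) ⊗ₜ[R] r) * (c ⊗ₜ[R] a) := by
        rw [Algebra.TensorProduct.tmul_mul_tmul, one_mul, smul_eq_mul]
      rw [this, ha, mul_zero]
  have hsurj : Function.Surjective
      (Algebra.TensorProduct.includeLeft : C →ₐ[R] C ⊗[R] R') := by
    intro z
    induction z using TensorProduct.induction_on with
    | zero => exact ⟨0, map_zero _⟩
    | tmul c r' =>
      obtain ⟨a, ha⟩ := hres r'
      refine ⟨a • c, ?_⟩
      have h2 : r' = algebraMap R R' a + (r' - algebraMap R R' a) := by ring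
      rw [Algebra.TensorProduct.includeLeft_apply, h2, TensorProduct.tmul_add, h0 _ ha,
        add_zero, Algebra.algebraMap_eq_smul_one, TensorProduct.smul_tmul]
    | add x y hx hy =>
      obtain ⟨a, rfl⟩ := hx
      obtain ⟨b, rfl⟩ := hy
      exact ⟨a + b, map_add _ _ _⟩
  -- retraction
  let φ : R ⧸ 𝔯 →ₐ[R] C := Ideal.Quotient.liftₐ 𝔯 (Algebra.ofId R C)
    (fun a ha => RingHom.mem_ker.1 (hker ha))
  let σ : C ⊗[R] R' →ₐ[R] C :=
    Algebra.TensorProduct.lift (AlgHom.id R C) (φ.comp ρ) (fun _ _ => Commute.all _ _)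
  have hσ : ∀ c : C, σ ((Algebra.TensorProduct.includeLeft : C →ₐ[R] C ⊗[R] R') c) = c := by
    intro c
    simp [σ]
  have hinj : Function.Injective
      (Algebra.TensorProduct.includeLeft : C →ₐ[R] C ⊗[R] R') := by
    intro a b hab
    rw [← hσ a, ← hσ b, hab]
  let e : C ≃+* C ⊗[R] R' :=
    RingEquiv.ofBijective (Algebra.TensorProduct.includeLeft : C →ₐ[R] C ⊗[R] R').toRingHom
      ⟨hinj, hsurj⟩
  exact isReduced_of_injective e.symm.toRingHom e.symm.injective

/-- Main step: the normal case (general form). -/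
theorem isReduced_tensor_of_normal'
    (hrad : 𝔯.map (algebraMap R R') ≤ (⊥ : Ideal R').jacobson)
    (C : Type u) [CommRing C] [IsDomain C] [IsIntegrallyClosed C] [Algebra R C]
    [Module.Finite R C] (x : R) (hxm : x ∈ 𝔯) (hx : algebraMap R C x ≠ 0)
    (ih : ∀ (D : Type u) [CommRing D] [IsDomain D] [Algebra R D] [Module.Finite R D],
      RingHom.ker (algebraMap R C) < RingHom.ker (algebraMap R D) → IsReduced (D ⊗[R] R')) :
    IsReduced (C ⊗[R] R') := by
  haveI : IsNoetherianRing C := IsNoetherianRing.of_finite R C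
  letI : Algebra R' (C ⊗[R] R') := Algebra.TensorProduct.rightAlgebra
  haveI : Module.Finite R' (C ⊗[R] R') :=
    Module.Finite.equiv (Algebra.TensorProduct.commRight R R' C).toLinearEquiv
  haveI : IsNoetherianRing (C ⊗[R] R') := IsNoetherianRing.of_finite R' _
  refine isReduced_of_flat_of_minimalPrimes C (C ⊗[R] R') (algebraMap R C x) hx ?_ ?_
  · have h1 : algebraMap C (C ⊗[R] R') (algebraMap R C x) =
        algebraMap R' (C ⊗[R] R') (algebraMap R R' x) := by
      rw [Algebra.TensorProduct.algebraMap_apply, Algebra.TensorProduct.right_algebraMap_apply,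
        Algebra.algebraMap_self, RingHom.id_apply]
      calc (algebraMap R C x) ⊗ₜ[R] (1 : R') = (x • (1 : C)) ⊗ₜ[R] (1 : R') := by
            rw [← Algebra.algebraMap_eq_smul_one]
        _ = (1 : C) ⊗ₜ[R] (x • (1 : R')) := TensorProduct.smul_tmul x 1 1
        _ = (1 : C) ⊗ₜ[R] (algebraMap R R' x) := by rw [← Algebra.algebraMap_eq_smul_one]
    rw [h1, Ideal.jacobson, Ideal.mem_sInf]
    rintro N ⟨-, hN⟩
    haveI := hN
    haveI : Algebra.IsIntegral R' (C ⊗[R] R') := Algebra.IsIntegral.of_finite R' _
    have hmax : (N.comap (algebraMap R' (C ⊗[R] R'))).IsMaximal :=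
      Ideal.isMaximal_comap_of_isIntegral_of_isMaximal N
    have h2 : algebraMap R R' x ∈ (⊥ : Ideal R').jacobson :=
      hrad (Ideal.mem_map_of_mem _ hxm)
    rw [Ideal.jacobson, Ideal.mem_sInf] at h2
    exact h2 ⟨bot_le, hmax⟩
  · intro p hp t ht
    haveI hpp : p.IsPrime := hp.1.1
    have hxp : algebraMap R C x ∈ p := hp.1.2 (Ideal.mem_span_singleton_self _)
    have hlt : RingHom.ker (algebraMap R C) < RingHom.ker (algebraMap R (C ⧸ p)) := by
      refine lt_of_le_of_ne ?_ ?_
      · intro a ha
        rw [RingHom.mem_ker] at ha ⊢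
        rw [IsScalarTower.algebraMap_apply R C (C ⧸ p), ha, map_zero]
      · intro heq
        apply hx
        rw [← RingHom.mem_ker, heq, RingHom.mem_ker, IsScalarTower.algebraMap_apply R C (C ⧸ p),
          Ideal.Quotient.algebraMap_eq, Ideal.Quotient.eq_zero_iff_mem]
        exact hxp
    have hD : IsReduced ((C ⧸ p) ⊗[R] R') := ih (C ⧸ p) hlt
    have hker := Algebra.TensorProduct.rTensor_ker (R := R) (S := R) (C := R')
      (Ideal.Quotient.mkₐ R p) (Ideal.Quotient.mkₐ_surjective R p)
    have h3 : (Algebra.TensorProduct.map (Ideal.Quotient.mkₐ R p) (AlgHom.id R R')) t = 0 := by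
      apply IsReduced.eq_zero
      exact ⟨2, by rw [← map_pow, ht, map_zero]⟩
    have h4 : t ∈ RingHom.ker (Algebra.TensorProduct.map (Ideal.Quotient.mkₐ R p)
        (AlgHom.id R R')) := h3
    have hk2 : RingHom.ker (Ideal.Quotient.mkₐ R p) = p := by
      ext a
      rw [RingHom.mem_ker, Ideal.Quotient.mkₐ_eq_mk, Ideal.Quotient.eq_zero_iff_mem]
    rw [hker, hk2] at h4
    exact h4

/-- **General form.**  Let `R` be a Nagata ring, `𝔯` an ideal and `R'` a Noetherian flat `R`-algebra
such that `𝔯R'` lies in the radical of `R'` and `R/𝔯 ≅ R'/𝔯R'`.  Then `C ⊗_R R'` is reduced for every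
domain `C` finite over `R`. -/
theorem isReduced_tensor_of_isNagata' (hR : IsNagata R)
    (hrad : 𝔯.map (algebraMap R R') ≤ (⊥ : Ideal R').jacobson)
    (ρ : R' →ₐ[R] R ⧸ 𝔯) (hρ : RingHom.ker ρ = 𝔯.map (algebraMap R R'))
    (C : Type u) [CommRing C] [IsDomain C] [Algebra R C] [Module.Finite R C] :
    IsReduced (C ⊗[R] R') := by
  have key : ∀ (I : Ideal R) (C : Type u) [CommRing C] [IsDomain C] [Algebra R C]
      [Module.Finite R C], RingHom.ker (algebraMap R C) = I → IsReduced (C ⊗[R] R') := by
    intro I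
    induction I using WellFoundedGT.induction with
    | ind I ih =>
      intro C _ _ _ _ hker
      by_cases hI : 𝔯 ≤ I
      · exact isReduced_tensor_of_le_ker R 𝔯 R' ρ hρ C (hker ▸ hI)
      · obtain ⟨x, hxm, hxI⟩ := SetLike.not_le_iff_exists.1 hI
        obtain ⟨C', _, _, _, _, _, f, hf⟩ := exists_normalization R hR C
        have hker' : RingHom.ker (algebraMap R C') = I := by
          rw [← hker]
          ext a
          rw [RingHom.mem_ker, RingHom.mem_ker, ← f.commutes a, map_eq_zero_iff f hf]
        refine isReduced_tensor_of_injective R' f hf ?_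
        refine isReduced_tensor_of_normal' R 𝔯 R' hrad C' x hxm ?_ ?_
        · intro h0
          apply hxI
          rw [← hker', RingHom.mem_ker]
          exact h0
        · intro D _ _ _ _ hlt
          rw [hker'] at hlt
          exact ih _ hlt D rfl
  exact key _ C rfl

/-- The same for reduced finite algebras. -/
theorem isReduced_tensor_of_isReduced (hR : IsNagata R)
    (hrad : 𝔯.map (algebraMap R R') ≤ (⊥ : Ideal R').jacobson)
    (ρ : R' →ₐ[R] R ⧸ 𝔯) (hρ : RingHom.ker ρ = 𝔯.map (algebraMap R R'))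
    (C : Type u) [CommRing C] [IsReduced C] [Algebra R C] [Module.Finite R C] :
    IsReduced (C ⊗[R] R') := by
  classical
  haveI : IsNoetherianRing C := IsNoetherianRing.of_finite R C
  haveI : Finite (minimalPrimes C) := (minimalPrimes.finite_of_isNoetherianRing C).to_subtype
  letI : Fintype (minimalPrimes C) := Fintype.ofFinite _
  haveI hprime : ∀ q : minimalPrimes C, (q.1).IsPrime := fun q => Ideal.IsMinimalPrime.isPrime q.2
  let g : C →ₐ[R] (∀ q : minimalPrimes C, C ⧸ q.1) :=
    AlgHom.pi (fun q => Ideal.Quotient.mkₐ R q.1)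
  have hg : Function.Injective g := by
    rw [injective_iff_map_eq_zero]
    intro c hc
    have h1 : c ∈ sInf (minimalPrimes C) := by
      rw [Ideal.mem_sInf]
      intro q hq
      have := congrFun hc ⟨q, hq⟩
      simpa [g, Ideal.Quotient.eq_zero_iff_mem] using this
    have h2 : sInf (minimalPrimes C) = nilradical C := by
      rw [minimalPrimes, Ideal.sInf_minimalPrimes]
      rfl
    rw [h2, nilradical_eq_zero] at h1
    exact h1
  refine isReduced_tensor_of_injective R' g hg ?_
  haveI : ∀ q : minimalPrimes C, IsReduced (R' ⊗[R] (C ⧸ q.1)) := by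
    intro q
    have h3 := isReduced_tensor_of_isNagata' R 𝔯 R' hR hrad ρ hρ (C ⧸ q.1)
    exact isReduced_of_injective
      (Algebra.TensorProduct.comm R R' (C ⧸ q.1)).toRingEquiv.toRingHom
      (Algebra.TensorProduct.comm R R' (C ⧸ q.1)).injective
  have h4 : IsReduced (R' ⊗[R] (∀ q : minimalPrimes C, C ⧸ q.1)) :=
    isReduced_of_injective
      (Algebra.TensorProduct.piRight R R R' (fun q : minimalPrimes C => C ⧸ q.1)).toRingEquiv.toRingHom
      (Algebra.TensorProduct.piRight R R R' (fun q : minimalPrimes C => C ⧸ q.1)).injective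
  exact isReduced_of_injective
    (Algebra.TensorProduct.comm R (∀ q : minimalPrimes C, C ⧸ q.1) R').toRingEquiv.toRingHom
    (Algebra.TensorProduct.comm R (∀ q : minimalPrimes C, C ⧸ q.1) R').injective

end general

section adic

variable (C : Type u) [CommRing C] [IsNoetherianRing C] (J : Ideal C)

/-- The adic completions of a reduced Nagata ring are reduced. -/
theorem isReduced_adicCompletion_of_isNagata (hC : IsNagata C) [IsReduced C] :
    IsReduced (AdicCompletion J C) := by
  haveI : IsNoetherianRing (AdicCompletion J C) :=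
    Groth.Agent.Lib.Helper21.isNoetherianRing_adicCompletion_of_fg J (IsNoetherian.noetherian _)
  have hJfg : J.FG := IsNoetherian.noetherian _
  haveI := AdicCompletion.isAdicComplete_self J hJfg
  have hrad : J.map (algebraMap C (AdicCompletion J C)) ≤
      (⊥ : Ideal (AdicCompletion J C)).jacobson := IsAdicComplete.le_jacobson_bot _
  have hρ : RingHom.ker (AdicCompletion.evalOneₐ J) = J.map (algebraMap C (AdicCompletion J C)) :=
    AdicCompletion.ker_evalOneₐ_eq_map J hJfg
  have h := isReduced_tensor_of_isReduced C J (AdicCompletion J C) hC hrad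
    (AdicCompletion.evalOneₐ J) hρ C
  exact isReduced_of_injective
    (Algebra.TensorProduct.lid C (AdicCompletion J C)).symm.toRingEquiv.toRingHom
    (Algebra.TensorProduct.lid C (AdicCompletion J C)).symm.injective

end adic

/-- Finite algebras over Nagata rings are Nagata. -/
theorem isNagata_of_finite (R : Type u) [CommRing R] (hR : IsNagata R) (S : Type u) [CommRing S]
    [Algebra R S] [Module.Finite R S] : IsNagata S := by
  haveI : IsNoetherianRing R := hR.1
  haveI : IsNoetherianRing S := IsNoetherianRing.of_finite R S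
  refine ⟨inferInstance, fun q _ => ?_⟩
  have h1 : IsN2 (R ⧸ q.comap (algebraMap R S)) := hR.2 _
  exact isN2_of_finite_injective (R ⧸ q.comap (algebraMap R S)) (S ⧸ q)
    (Ideal.algebraMap_quotient_injective) h1

end Groth.Agent.Lib.Helper18.Nag
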