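import Mathlib
import Groth.Agent.Lib.Helper18.AnUnram5

set_option autoImplicit false
set_option linter.style.haveILetI false
set_option linter.unusedSectionVars false
universe u
open CAlg TensorProduct IsLocalRing Groth.Agent.Lib.Helper11.Japanese

namespace Groth.Agent.Lib.Helper18.Nag

section localsub

variable (D : Type u) [CommRing D] [IsDomain D] [IsLocalRing D]
  (L : Type u) [Field L] [Algebra D L] (S₀ : Subalgebra D L) (t : D)

/-- The subalgebra `D + t S₀` of `S₀`. -/
def addMulSubalgebra : Subalgebra D L where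
  carrier := {v | ∃ d : D, ∃ s ∈ S₀, v = algebraMap D L d + algebraMap D L t * s}
  mul_mem' := by
    rintro _ _ ⟨d, s, hs, rfl⟩ ⟨d', s', hs', rfl⟩
    refine ⟨d * d', d • s' + d' • s + t • (s * s'),
      S₀.add_mem (S₀.add_mem (S₀.smul_mem hs' d) (S₀.smul_mem hs d'))
        (S₀.smul_mem (S₀.mul_mem hs hs') t), ?_⟩
    simp only [Algebra.smul_def, map_mul]
    ring
  add_mem' := by
    rintro _ _ ⟨d, s, hs, rfl⟩ ⟨d', s', hs', rfl⟩
    refine ⟨d + d', s + s', S₀.add_mem hs hs', ?_⟩
    simp only [map_add]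
    ring
  algebraMap_mem' := fun d => ⟨d, 0, S₀.zero_mem, by simp⟩

theorem addMulSubalgebra_le : addMulSubalgebra D L S₀ t ≤ S₀ := by
  rintro _ ⟨d, s, hs, rfl⟩
  exact S₀.add_mem (S₀.algebraMap_mem d) (S₀.mul_mem (S₀.algebraMap_mem t) hs)

variable [Module.Finite D S₀]

/-- Every maximal ideal of `S₀` contains the image of the maximal ideal of `D`. -/
theorem algebraMap_mem_of_isMaximal (n : Ideal S₀) [n.IsMaximal] (d : D)
    (hd : d ∈ maximalIdeal D) : algebraMap D S₀ d ∈ n := by
  haveI : Algebra.IsIntegral D S₀ := Algebra.IsIntegral.of_finite D S₀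
  have hmax : (n.comap (algebraMap D S₀)).IsMaximal :=
    Ideal.isMaximal_comap_of_isIntegral_of_isMaximal n
  have := IsLocalRing.eq_maximalIdeal hmax
  have h2 : d ∈ n.comap (algebraMap D S₀) := by rw [this]; exact hd
  exact h2

/-- An element `d + t s` with `d ∈ 𝔪` is not a unit of `S₀`. -/
theorem not_isUnit_of_mem (ht : t ∈ maximalIdeal D) (d : D) (hd : d ∈ maximalIdeal D)
    (s : S₀) : ¬ IsUnit (algebraMap D S₀ d + algebraMap D S₀ t * s) := by
  intro hu
  obtain ⟨n, hn⟩ := Ideal.exists_maximal S₀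
  haveI := hn
  have h1 : algebraMap D S₀ d + algebraMap D S₀ t * s ∈ n :=
    n.add_mem (algebraMap_mem_of_isMaximal D L S₀ n d hd)
      (n.mul_mem_right _ (algebraMap_mem_of_isMaximal D L S₀ n t ht))
  exact hn.ne_top (Ideal.eq_top_of_isUnit_mem _ h1 hu)

/-- `1 + t s` is a unit of `S₀`. -/
theorem isUnit_one_add (ht : t ∈ maximalIdeal D) (s : S₀) :
    IsUnit (1 + algebraMap D S₀ t * s) := by
  by_contra hu
  obtain ⟨n, hn, hmem⟩ := exists_max_ideal_of_mem_nonunits hu
  haveI := hn
  have h1 : algebraMap D S₀ t * s ∈ n :=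
    n.mul_mem_right _ (algebraMap_mem_of_isMaximal D L S₀ n t ht)
  have h2 : (1 : S₀) ∈ n := by
    have := n.sub_mem hmem h1
    simpa using this
  exact hn.ne_top ((Ideal.eq_top_iff_one n).2 h2)

/-- Elements `d + t s` with `d` a unit are units of `D + t S₀`. -/
theorem isUnit_of_not_mem (ht : t ∈ maximalIdeal D) (v : addMulSubalgebra D L S₀ t) (d : D)
    (hd : d ∉ maximalIdeal D) (s : L) (hs : s ∈ S₀)
    (hv : (v : L) = algebraMap D L d + algebraMap D L t * s) : IsUnit v := by
  have hdu : IsUnit d := by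
    by_contra h
    exact hd ((IsLocalRing.mem_maximalIdeal d).2 h)
  obtain ⟨e, hde⟩ := hdu.exists_right_inv
  obtain ⟨u, hu⟩ := (isUnit_one_add D L S₀ t ht ⟨e • s, S₀.smul_mem hs e⟩).exists_right_inv
  have hu' : (1 + algebraMap D L t * (algebraMap D L e * s)) * (u : L) = 1 := by
    have := congrArg (Subtype.val : S₀ → L) hu
    simpa [Algebra.smul_def] using this
  have hde' : algebraMap D L d * algebraMap D L e = 1 := by
    rw [← map_mul, hde, map_one]
  rw [isUnit_iff_exists_inv]
  refine ⟨⟨algebraMap D L e * (u : L), e, -(e • (e • s) * (u : L)), ?_, ?_⟩, ?_⟩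
  · exact S₀.neg_mem (S₀.mul_mem (S₀.smul_mem (S₀.smul_mem hs e) e) u.2)
  · simp only [Algebra.smul_def]
    linear_combination (algebraMap D L e) * hu'
  · apply Subtype.ext
    show (v : L) * (algebraMap D L e * (u : L)) = 1
    rw [hv]
    linear_combination hu' + (u : L) * hde'

/-- Elements `d + t s` with `d ∈ 𝔪` are nonunits of `D + t S₀`. -/
theorem not_isUnit_of_mem' (ht : t ∈ maximalIdeal D) (v : addMulSubalgebra D L S₀ t) (d : D)
    (hd : d ∈ maximalIdeal D) (s : L) (hs : s ∈ S₀)
    (hv : (v : L) = algebraMap D L d + algebraMap D L t * s) : ¬ IsUnit v := by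
  intro hu
  have h1 := hu.map (Subalgebra.inclusion (addMulSubalgebra_le D L S₀ t))
  apply not_isUnit_of_mem D L S₀ t ht d hd ⟨s, hs⟩
  convert h1 using 1
  apply Subtype.ext
  simp only [Subalgebra.coe_inclusion]
  rw [hv]
  rfl

theorem isLocalRing_addMulSubalgebra (ht : t ∈ maximalIdeal D) :
    IsLocalRing (addMulSubalgebra D L S₀ t) := by
  apply IsLocalRing.of_nonunits_add
  intro a b ha hb
  obtain ⟨d, s, hs, hv⟩ := a.2
  obtain ⟨d', s', hs', hv'⟩ := b.2
  have hd : d ∈ maximalIdeal D := by
    by_contra hd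
    exact ha (isUnit_of_not_mem D L S₀ t ht a d hd s hs hv)
  have hd' : d' ∈ maximalIdeal D := by
    by_contra hd'
    exact hb (isUnit_of_not_mem D L S₀ t ht b d' hd' s' hs' hv')
  refine not_isUnit_of_mem' D L S₀ t ht (a + b) (d + d') ((maximalIdeal D).add_mem hd hd')
    (s + s') (S₀.add_mem hs hs') ?_
  show (a : L) + (b : L) = _
  rw [hv, hv', map_add]
  ring

theorem isLocalHom_addMulSubalgebra (ht : t ∈ maximalIdeal D) :
    IsLocalHom (algebraMap D (addMulSubalgebra D L S₀ t)) := by
  refine ⟨fun a ha => ?_⟩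
  by_contra hna
  have hd : a ∈ maximalIdeal D := (IsLocalRing.mem_maximalIdeal a).2 hna
  refine not_isUnit_of_mem' D L S₀ t ht _ a hd 0 S₀.zero_mem ?_ ha
  simp

theorem finite_addMulSubalgebra [IsNoetherianRing D] :
    Module.Finite D (addMulSubalgebra D L S₀ t) := by
  haveI : IsNoetherian D S₀ := isNoetherian_of_isNoetherianRing_of_finite D S₀
  exact Module.Finite.of_injective
    (Subalgebra.inclusion (addMulSubalgebra_le D L S₀ t)).toLinearMap
    (Subalgebra.inclusion_injective (addMulSubalgebra_le D L S₀ t))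

omit [Module.Finite D S₀] in
theorem isFractionRing_addMulSubalgebra (hinj : Function.Injective (algebraMap D L))
    (ht0 : t ≠ 0) [IsFractionRing S₀ L] : IsFractionRing (addMulSubalgebra D L S₀ t) L := by
  haveI : FaithfulSMul (addMulSubalgebra D L S₀ t) L :=
    (faithfulSMul_iff_algebraMap_injective _ L).2 Subtype.val_injective
  apply IsFractionRing.of_field
  intro z
  obtain ⟨x, y, hy, rfl⟩ := IsFractionRing.div_surjective (A := S₀) z
  have ht' : algebraMap D L t ≠ 0 := (map_ne_zero_iff _ hinj).2 ht0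
  refine ⟨⟨algebraMap D L t * x, 0, x, x.2, by simp⟩, ⟨algebraMap D L t * y, 0, y, y.2, by simp⟩, ?_⟩
  show _ = (algebraMap D L t * (x : L)) / (algebraMap D L t * (y : L))
  rw [mul_div_mul_left _ _ ht']
  rfl

end localsub

/-- If every local domain finite over the local domain `D` (with local structure map) is N-1,
then `D` is N-2. -/
theorem isN2_of_forall_local_isN1 (D : Type u) [CommRing D] [IsDomain D] [IsLocalRing D]
    [IsNoetherianRing D]
    (h : ∀ (S' : Type u) [CommRing S'] [IsDomain S'] [IsLocalRing S'] [Algebra D S']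
      [IsLocalHom (algebraMap D S')] [Module.Finite D S'], IsN1 S') : IsN2 D := by
  by_cases hf : IsField D
  · letI := hf.toField
    exact isN2_of_field D
  · intro L _ _ _ _ hfd
    obtain ⟨t, ht, ht0⟩ : ∃ t ∈ maximalIdeal D, t ≠ 0 := by
      by_contra hcon
      push Not at hcon
      apply hf
      rw [IsLocalRing.isField_iff_maximalIdeal_eq]
      exact (Submodule.eq_bot_iff _).2 hcon
    have hinj : Function.Injective (algebraMap D L) := by
      rw [IsScalarTower.algebraMap_eq D (FractionRing D) L]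
      exact (algebraMap (FractionRing D) L).injective.comp
        (IsFractionRing.injective D (FractionRing D))
    obtain ⟨S₀, hfin, hft, hfrac⟩ :=
      exists_finite_subalgebra_isFractionRing D (FractionRing D) L
    haveI := isLocalRing_addMulSubalgebra D L S₀ t ht
    haveI := isLocalHom_addMulSubalgebra D L S₀ t ht
    haveI := finite_addMulSubalgebra D L S₀ t
    haveI := isFractionRing_addMulSubalgebra D L S₀ t hinj ht0
    have h1 : IsN1 (addMulSubalgebra D L S₀ t) := h _
    have h2 : Module.Finite (addMulSubalgebra D L S₀ t)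
        (integralClosure (addMulSubalgebra D L S₀ t) L) := (isN1_iff _ L).1 h1
    have h3 : Module.Finite D (integralClosure (addMulSubalgebra D L S₀ t) L) :=
      Module.Finite.trans (addMulSubalgebra D L S₀ t) _
    have hint : Algebra.IsIntegral D (addMulSubalgebra D L S₀ t) := Algebra.IsIntegral.of_finite D _
    let φ : integralClosure (addMulSubalgebra D L S₀ t) L →ₗ[D] integralClosure D L :=
      { toFun := fun x => ⟨x.1, isIntegral_trans (R := D) (A := addMulSubalgebra D L S₀ t) x.1 x.2⟩
        map_add' := fun _ _ => rfl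
        map_smul' := fun _ _ => rfl }
    have hφ : Function.Surjective φ := fun x => ⟨⟨x.1, x.2.tower_top⟩, rfl⟩
    exact Module.Finite.of_surjective φ hφ

end Groth.Agent.Lib.Helper18.Nag
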