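import Mathlib
import Groth.Agent.Lib.Helper18.AnUnram6

set_option autoImplicit false
set_option linter.style.haveILetI false
set_option linter.unusedSectionVars false
universe u
open CAlg TensorProduct IsLocalRing Groth.Agent.Lib.Helper11.Japanese

namespace Groth.Agent.Lib.Helper18.Nag

/-- A linear map out of `K ⊗_A M` (with `K` the fraction field) is injective as soon as it is
injective on `M`. -/
theorem tensor_fractionRing_injective (A : Type u) [CommRing A] [IsDomain A]
    (M : Type u) [AddCommGroup M] [Module A M] (X : Type u) [AddCommGroup X] [Module A X]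
    (ψ : FractionRing A ⊗[A] M →ₗ[A] X)
    (hψ : Function.Injective (fun m : M => ψ ((1 : FractionRing A) ⊗ₜ[A] m))) :
    Function.Injective ψ := by
  rw [injective_iff_map_eq_zero]
  intro y hy
  obtain ⟨⟨m, s⟩, hs⟩ := IsLocalizedModule.surj (nonZeroDivisors A)
    (TensorProduct.mk A (FractionRing A) M 1) y
  simp only [TensorProduct.mk_apply] at hs
  have hs' : (s : A) • y = (1 : FractionRing A) ⊗ₜ[A] m := hs
  have h1 : ψ ((1 : FractionRing A) ⊗ₜ[A] m) = 0 := by
    rw [← hs', map_smul, hy, smul_zero]
  have h2 : m = 0 := hψ (by simpa using h1)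
  rw [h2, TensorProduct.tmul_zero] at hs'
  have h3 : IsUnit (algebraMap A (FractionRing A) (s : A)) :=
    IsLocalization.map_units (FractionRing A) s
  have h4 : (algebraMap A (FractionRing A) (s : A)) • y = 0 := by
    rw [algebraMap_smul]
    exact hs'
  exact (h3.smul_eq_zero).1 h4

section genfib

variable (A : Type u) [CommRing A] [IsDomain A] [IsNoetherianRing A] [IsLocalRing A]

attribute [local instance] FractionRing.liftAlgebra

/-- If the generic formal fibre `K ⊗_A Â` is geometrically reduced over `K`, then `B ⊗_A Â` is reduced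
for every domain `B` finite and torsion-free over `A`. -/
theorem isReduced_tensor_cpl_of_genFibre
    (hgen : Algebra.IsGeometricallyReduced (FractionRing A) (FractionRing A ⊗[A] EGA4.Cpl A))
    (B : Type u) [CommRing B] [IsDomain B] [Algebra A B] [Module.Finite A B]
    [FaithfulSMul A B] : IsReduced (B ⊗[A] EGA4.Cpl A) := by
  let K := FractionRing A
  let L := FractionRing B
  haveI : Algebra.IsIntegral A B := Algebra.IsIntegral.of_finite A B
  haveI : Algebra.IsAlgebraic K L := by
    refine ⟨fun x => ?_⟩
    obtain ⟨b, b', _, rfl⟩ := IsFractionRing.div_surjective (A := B) x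
    have h1 : ∀ c : B, IsAlgebraic K (algebraMap B L c) := by
      intro c
      have hc : IsIntegral A c := Algebra.IsIntegral.isIntegral c
      have hc' : IsIntegral A (algebraMap B L c) := hc.map (IsScalarTower.toAlgHom A B L)
      exact (hc'.tower_top (A := K)).isAlgebraic
    rw [div_eq_mul_inv]
    exact (h1 b).mul (h1 b').inv
  haveI h1 : IsReduced (L ⊗[K] (K ⊗[A] EGA4.Cpl A)) := inferInstance
  have h2 : IsReduced (L ⊗[A] EGA4.Cpl A) :=
    isReduced_of_injective
      (Algebra.TensorProduct.cancelBaseChange A K L L (EGA4.Cpl A)).symm.toRingHom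
      (Algebra.TensorProduct.cancelBaseChange A K L L (EGA4.Cpl A)).symm.injective
  exact isReduced_tensor_of_injective (EGA4.Cpl A) (IsScalarTower.toAlgHom A B L)
    (IsFractionRing.injective B L) h2

/-- Under the same hypothesis such a `B` is N-1. -/
theorem isN1_of_finite_of_genFibre
    (hgen : Algebra.IsGeometricallyReduced (FractionRing A) (FractionRing A ⊗[A] EGA4.Cpl A))
    (B : Type u) [CommRing B] [IsDomain B] [Algebra A B] [Module.Finite A B]
    [FaithfulSMul A B] : IsN1 B := by
  let Â := EGA4.Cpl A
  haveI : IsNoetherianRing Â := isNoetherianRing_cpl A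
  haveI : Module.FaithfullyFlat A Â := Module.FaithfullyFlat.of_flat_of_isLocalHom
  let C := B ⊗[A] Â
  letI : Algebra Â C := Algebra.TensorProduct.rightAlgebra
  haveI : Module.Finite Â C :=
    Module.Finite.equiv (Algebra.TensorProduct.commRight A Â B).toLinearEquiv
  haveI : IsNoetherianRing C := IsNoetherianRing.of_finite Â C
  haveI : IsReduced C := isReduced_tensor_cpl_of_genFibre A hgen B
  apply isN1_of_faithfullyFlat B C
  intro q hq _
  have h1 : IsN2 (Â ⧸ q.comap (algebraMap Â C)) :=
    (isNagata_of_isAdicComplete Â).2 (q.comap (algebraMap Â C))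
  have h2 : IsN2 (C ⧸ q) :=
    isN2_of_finite_injective (Â ⧸ q.comap (algebraMap Â C)) (C ⧸ q)
      (Ideal.algebraMap_quotient_injective) h1
  exact isN1_of_isN2 _ h2

/-- A Noetherian local domain whose generic formal fibre is geometrically reduced is N-2. -/
theorem isN2_of_genFibre
    (hgen : Algebra.IsGeometricallyReduced (FractionRing A) (FractionRing A ⊗[A] EGA4.Cpl A)) :
    IsN2 A := by
  intro L _ _ _ _ hfd
  obtain ⟨S', hfin, hft, hfrac⟩ := exists_finite_subalgebra_isFractionRing A (FractionRing A) L
  have hinj : Function.Injective (algebraMap A L) := by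
    rw [IsScalarTower.algebraMap_eq A (FractionRing A) L]
    exact (algebraMap (FractionRing A) L).injective.comp
      (IsFractionRing.injective A (FractionRing A))
  haveI : FaithfulSMul A S' := by
    rw [faithfulSMul_iff_algebraMap_injective]
    intro a b hab
    exact hinj (congrArg Subtype.val hab)
  have h1 : IsN1 S' := isN1_of_finite_of_genFibre A hgen S'
  have h2 : Module.Finite S' (integralClosure S' L) := (isN1_iff S' L).1 h1
  have h3 : Module.Finite A (integralClosure S' L) := Module.Finite.trans S' _
  have hint : Algebra.IsIntegral A S' := Algebra.IsIntegral.of_finite A S'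
  let φ : integralClosure S' L →ₗ[A] integralClosure A L :=
    { toFun := fun x => ⟨x.1, isIntegral_trans (R := A) (A := S') x.1 x.2⟩
      map_add' := fun _ _ => rfl
      map_smul' := fun _ _ => rfl }
  have hφ : Function.Surjective φ := fun x => ⟨⟨x.1, x.2.tower_top⟩, rfl⟩
  exact Module.Finite.of_surjective φ hφ

end genfib

end Groth.Agent.Lib.Helper18.Nag
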