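import Mathlib
import Groth.Agent.Lib.Helper18.GenFib1
import Groth.Agent.Lib.Helper18.PMor4

set_option autoImplicit false
set_option linter.style.haveILetI false
set_option linter.unusedSectionVars false
universe u
open CAlg TensorProduct IsLocalRing Groth.Agent.Lib.Helper11.Japanese

namespace Groth.Agent.Lib.Helper18.Nag

/-- If `T` is a reduced algebra over a domain `S'` with fraction field `k'`, then `k' ⊗ T` is reduced. -/
theorem isReduced_fractionField_tensor (S' : Type u) [CommRing S'] [IsDomain S'] (k' : Type u)
    [Field k'] [Algebra S' k'] [IsFractionRing S' k'] (T : Type u) [CommRing T] [Algebra S' T]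
    [IsReduced T] : IsReduced (k' ⊗[S'] T) := by
  haveI : IsLocalization (Algebra.algebraMapSubmonoid T (nonZeroDivisors S')) (T ⊗[S'] k') :=
    IsLocalization.tensor k' (nonZeroDivisors S')
  have h1 : IsReduced (T ⊗[S'] k') :=
    isReduced_localizationPreserves (Algebra.algebraMapSubmonoid T (nonZeroDivisors S')) _
      inferInstance
  exact isReduced_of_injective (Algebra.TensorProduct.comm S' k' T).toRingEquiv.toRingHom
    (Algebra.TensorProduct.comm S' k' T).injective

set_option synthInstance.maxHeartbeats 400000 in
set_option maxHeartbeats 1000000 in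
/-- A Noetherian local Nagata ring has geometrically reduced formal fibres. -/
theorem hasGeomReducedFormalFibres_of_isNagata (A : Type u) [CommRing A] [IsNoetherianRing A]
    [IsLocalRing A] (hA : IsNagata A) : EGA4.HasGeomReducedFormalFibres A := by
  intro p _
  apply PMor.isGeometricallyReduced_of_forall_finite
  intro k' _ _ hfin
  letI : Algebra A k' := ((algebraMap p.ResidueField k').comp (algebraMap A p.ResidueField)).toAlgebra
  haveI : IsScalarTower A p.ResidueField k' := IsScalarTower.of_algebraMap_eq (fun _ => rfl)
  letI : Algebra (A ⧸ p) k' :=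
    ((algebraMap p.ResidueField k').comp (algebraMap (A ⧸ p) p.ResidueField)).toAlgebra
  haveI : IsScalarTower (A ⧸ p) p.ResidueField k' := IsScalarTower.of_algebraMap_eq (fun _ => rfl)
  haveI : IsScalarTower A (A ⧸ p) k' := IsScalarTower.of_algebraMap_eq (fun a => by
    rw [IsScalarTower.algebraMap_apply A p.ResidueField k',
      IsScalarTower.algebraMap_apply (A ⧸ p) p.ResidueField k',
      ← IsScalarTower.algebraMap_apply A (A ⧸ p) p.ResidueField])
  obtain ⟨S', hfinS, -, hfrac⟩ := exists_finite_subalgebra_isFractionRing (A ⧸ p) p.ResidueField k'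
  letI : Algebra A S' := ((algebraMap (A ⧸ p) S').comp (algebraMap A (A ⧸ p))).toAlgebra
  haveI : IsScalarTower A (A ⧸ p) S' := IsScalarTower.of_algebraMap_eq (fun _ => rfl)
  haveI : Module.Finite A S' := Module.Finite.trans (A ⧸ p) S'
  haveI : IsScalarTower A S' k' := IsScalarTower.of_algebraMap_eq (fun a => by
    rw [IsScalarTower.algebraMap_apply A (A ⧸ p) k', IsScalarTower.algebraMap_apply A (A ⧸ p) S',
      ← IsScalarTower.algebraMap_apply (A ⧸ p) S' k'])
  haveI hT : IsReduced (S' ⊗[A] EGA4.Cpl A) := isReduced_tensor_cpl_of_isNagata A hA S'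
  have h1 : IsReduced (k' ⊗[S'] (S' ⊗[A] EGA4.Cpl A)) :=
    isReduced_fractionField_tensor S' k' (S' ⊗[A] EGA4.Cpl A)
  have h2 : IsReduced (k' ⊗[A] EGA4.Cpl A) :=
    isReduced_of_injective
      (Algebra.TensorProduct.cancelBaseChange A S' k' k' (EGA4.Cpl A)).symm.toRingHom
      (Algebra.TensorProduct.cancelBaseChange A S' k' k' (EGA4.Cpl A)).symm.injective
  exact isReduced_of_injective
      (Algebra.TensorProduct.cancelBaseChange A p.ResidueField k' k' (EGA4.Cpl A)).toRingHom
      (Algebra.TensorProduct.cancelBaseChange A p.ResidueField k' k' (EGA4.Cpl A)).injective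

/-- A Noetherian local ring is Nagata as soon as all local domains finite over it are analytically
unramified. -/
theorem isNagata_of_forall_local (R : Type u) [CommRing R] [IsLocalRing R] [IsNoetherianRing R]
    (h : ∀ (S : Type u) [CommRing S] [IsDomain S] [IsLocalRing S] [Algebra R S]
      [IsLocalHom (algebraMap R S)] [Module.Finite R S],
      IsReduced (AdicCompletion (IsLocalRing.maximalIdeal S) S)) : IsNagata R := by
  refine ⟨inferInstance, fun p _ => ?_⟩
  apply isN2_of_forall_local_isN1 (R ⧸ p)
  intro S' _ _ _ _ _ _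
  letI : Algebra R S' := ((algebraMap (R ⧸ p) S').comp (algebraMap R (R ⧸ p))).toAlgebra
  haveI : IsScalarTower R (R ⧸ p) S' := IsScalarTower.of_algebraMap_eq (fun _ => rfl)
  haveI : Module.Finite R S' := Module.Finite.trans (R ⧸ p) S'
  haveI : IsLocalHom (algebraMap R (R ⧸ p)) :=
    IsLocalHom.of_surjective _ Ideal.Quotient.mk_surjective
  haveI : IsLocalHom (algebraMap R S') := by
    show IsLocalHom ((algebraMap (R ⧸ p) S').comp (algebraMap R (R ⧸ p)))
    infer_instance
  haveI : IsNoetherianRing S' := IsNoetherianRing.of_finite R S'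
  haveI := h S'
  exact isN1_of_isReduced_adicCompletion S'

/-- EGA IV 7.6.4, a) ⇔ a''). -/
theorem forall_isReduced_adicCompletion_iff (A : Type u) [CommRing A] [IsNoetherianRing A]
    [IsLocalRing A] :
    (∀ (C : Type u) [CommRing C] [Algebra A C], Module.Finite A C → IsReduced C →
        IsReduced (AdicCompletion ((⊥ : Ideal C).jacobson) C)) ↔
      EGA4.HasGeomReducedFormalFibres A := by
  constructor
  · intro h
    apply hasGeomReducedFormalFibres_of_isNagata
    apply isNagata_of_forall_local
    intro S _ _ _ _ _ _
    have e : (⊥ : Ideal S).jacobson = maximalIdeal S :=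
      IsLocalRing.jacobson_eq_maximalIdeal ⊥ bot_ne_top
    have h1 := h S inferInstance inferInstance
    exact e ▸ h1
  · intro hfib C _ _ hfin hred
    have hA : IsNagata A := isNagata_of_hasGeomReducedFormalFibres A hfib
    have hC : IsNagata C := isNagata_of_finite A hA C
    haveI : IsNoetherianRing C := hC.1
    exact isReduced_adicCompletion_of_isNagata C _ hC

end Groth.Agent.Lib.Helper18.Nag
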