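import Mathlib
import Groth.Prelude.Def_EGA4b
import Groth.Agent.Lib.Helper18.Nag8
import Groth.Agent.Lib.Helper18.PMor4
import Groth.Agent.Lib.Helper18.NorOpen2
import Groth.Agent.Lib.Helper18.SerreReg3

set_option linter.style.haveILetI false
set_option linter.unusedSectionVars false

open TensorProduct IsLocalRing

universe u

namespace Groth.Agent.Lib.Helper18.Nag

open CAlg Groth.Agent.Lib.Helper11.Japanese Groth.Agent.Lib.Helper20.Nagata

/-- The local rings of a G-ring have geometrically reduced formal fibres. -/
theorem hasGeomReducedFormalFibres_atPrime_of_isGRing (A : Type u) [CommRing A]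
    (hG : CAlg.IsGRing A) (m : Ideal A) [m.IsPrime] :
    EGA4.HasGeomReducedFormalFibres (Localization.AtPrime m) := by
  intro p _
  exact PMor.isGeometricallyReduced_of_isGeometricallyRegular ((hG.2 m).2 p).2

/-- The generic point of a domain is in the regular locus. -/
theorem bot_mem_regLocus (B : Type u) [CommRing B] [IsDomain B] :
    (⟨⊥, Ideal.isPrime_bot⟩ : PrimeSpectrum B) ∈ EGA4.regLocus B := by
  show IsRegularLocalRing (Localization.AtPrime (⊥ : Ideal B))
  let _ : Field (Localization.AtPrime (⊥ : Ideal B)) := IsField.toField <| by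
    simp [IsLocalRing.isField_iff_maximalIdeal_eq, ← Localization.AtPrime.map_eq_maximalIdeal]
  infer_instance

/-- If `D(f)` lies in the regular locus of a domain then `B_f` is integrally closed. -/
theorem isIntegrallyClosed_away_of_subset_regLocus (B : Type u) [CommRing B] [IsDomain B]
    (f : B) (hf : f ≠ 0)
    (h : (PrimeSpectrum.basicOpen f : Set (PrimeSpectrum B)) ⊆ EGA4.regLocus B) :
    IsIntegrallyClosed (Localization.Away f) := by
  haveI : IsDomain (Localization.Away f) :=
    IsLocalization.isDomain_of_le_nonZeroDivisors (M := Submonoid.powers f) _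
      (powers_le_nonZeroDivisors_of_noZeroDivisors hf)
  apply IsIntegrallyClosed.of_localization_maximal
  intro P _ hP
  haveI : P.IsPrime := hP.isPrime
  set P' : Ideal B := P.comap (algebraMap B (Localization.Away f)) with hP'
  haveI : P'.IsPrime := Ideal.comap_isPrime _ _
  have hmap : P'.map (algebraMap B (Localization.Away f)) = P :=
    IsLocalization.map_under (Submonoid.powers f) (S := Localization.Away f) P
  have hd : Disjoint ((Submonoid.powers f : Submonoid B) : Set B) (P' : Set B) :=
    ((IsLocalization.isPrime_iff_isPrime_disjoint (Submonoid.powers f)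
      (Localization.Away f) P).1 inferInstance).2
  have hfP : f ∉ P' := fun hfP =>
    Set.disjoint_left.1 hd (Submonoid.mem_powers f) hfP
  have hreg : IsRegularLocalRing (Localization.AtPrime P') :=
    h (show (⟨P', inferInstance⟩ : PrimeSpectrum B) ∈ PrimeSpectrum.basicOpen f from hfP)
  haveI : (P'.map (algebraMap B (Localization (Submonoid.powers f)))).IsPrime := by
    show (P'.map (algebraMap B (Localization.Away f))).IsPrime
    rw [hmap]; infer_instance
  obtain ⟨e⟩ := NorOpen.nonempty_locEquiv_of_disjoint (Submonoid.powers f) P' hd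
  have hreg2 : IsRegularLocalRing
      (Localization.AtPrime (P'.map (algebraMap B (Localization (Submonoid.powers f))))) :=
    IsRegularLocalRing.of_ringEquiv e.symm
  have hic := SerreReg.isIntegrallyClosed_of_isRegularLocalRing
    (Localization.AtPrime (P'.map (algebraMap B (Localization (Submonoid.powers f)))))
  have key : ∀ (Q : Ideal (Localization.Away f)) [Q.IsPrime], Q = P →
      IsIntegrallyClosed (Localization.AtPrime Q) → IsIntegrallyClosed (Localization.AtPrime P) := by
    intro Q _ hQ hq
    subst hQ
    exact hq
  exact key _ hmap hic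

/-- A domain finite over a quasi-excellent ring is N-1. -/
theorem isN1_of_finite_of_isQuasiExcellent (A : Type u) [CommRing A]
    (hA : EGA4.IsQuasiExcellent A) (B : Type u) [CommRing B] [IsDomain B] [Algebra A B]
    [Module.Finite A B] : IsN1 B := by
  haveI : IsNoetherianRing A := hA.1
  haveI : IsNoetherianRing B := IsNoetherianRing.of_finite A B
  have hopen : IsOpen (EGA4.regLocus B) := hA.2.2 B inferInstance
  obtain ⟨f, hfmem, hfsub⟩ : ∃ f : B,
      (⟨⊥, Ideal.isPrime_bot⟩ : PrimeSpectrum B) ∈ PrimeSpectrum.basicOpen f ∧
      (PrimeSpectrum.basicOpen f : Set (PrimeSpectrum B)) ⊆ EGA4.regLocus B := by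
    obtain ⟨_, ⟨f, rfl⟩, h1, h2⟩ :=
      PrimeSpectrum.isTopologicalBasis_basic_opens.exists_subset_of_mem_open
        (bot_mem_regLocus B) hopen
    exact ⟨f, h1, h2⟩
  have hf : f ≠ 0 := by
    rintro rfl
    exact hfmem (Ideal.zero_mem _)
  haveI := isIntegrallyClosed_away_of_subset_regLocus B f hf hfsub
  apply isN1_of_away_of_atPrime B f hf
  intro n _
  set m : Ideal A := n.comap (algebraMap A B) with hm
  haveI : m.IsPrime := Ideal.comap_isPrime _ _
  have hM : Algebra.algebraMapSubmonoid B m.primeCompl ≤ n.primeCompl := by
    rintro _ ⟨a, ha, rfl⟩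
    exact ha
  have hM0 : Algebra.algebraMapSubmonoid B m.primeCompl ≤ nonZeroDivisors B :=
    hM.trans n.primeCompl_le_nonZeroDivisors
  haveI : IsDomain (Localization (Algebra.algebraMapSubmonoid B m.primeCompl)) :=
    IsLocalization.isDomain_localization hM0
  have hN1D : IsN1 (Localization (Algebra.algebraMapSubmonoid B m.primeCompl)) :=
    isN1_of_finite_of_hasGeomReducedFormalFibres (Localization.AtPrime m)
      (hasGeomReducedFormalFibres_atPrime_of_isGRing A hA.2.1 m) _
  letI : Algebra (Localization (Algebra.algebraMapSubmonoid B m.primeCompl))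
      (Localization.AtPrime n) :=
    IsLocalization.localizationAlgebraOfSubmonoidLe _ _
      (Algebra.algebraMapSubmonoid B m.primeCompl) n.primeCompl hM
  haveI : IsScalarTower B (Localization (Algebra.algebraMapSubmonoid B m.primeCompl))
      (Localization.AtPrime n) :=
    IsLocalization.localization_isScalarTower_of_submonoid_le _ _
      (Algebra.algebraMapSubmonoid B m.primeCompl) n.primeCompl hM
  haveI : IsLocalization (n.primeCompl.map
      (algebraMap B (Localization (Algebra.algebraMapSubmonoid B m.primeCompl))))
      (Localization.AtPrime n) :=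
    IsLocalization.isLocalization_of_submonoid_le _ _
      (Algebra.algebraMapSubmonoid B m.primeCompl) n.primeCompl hM
  exact isN1_of_isLocalization (Localization (Algebra.algebraMapSubmonoid B m.primeCompl))
    (n.primeCompl.map
      (algebraMap B (Localization (Algebra.algebraMapSubmonoid B m.primeCompl))))
    (Localization.AtPrime n) hN1D

/-- A quasi-excellent ring is a Nagata ring. -/
theorem isNagata_of_isQuasiExcellent (A : Type u) [CommRing A]
    (hA : EGA4.IsQuasiExcellent A) : IsNagata A := by
  haveI : IsNoetherianRing A := hA.1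
  refine ⟨inferInstance, fun p _ => ?_⟩
  apply isN2_of_forall_finite_isN1
  intro S' _ _ _ hfin _
  letI : Algebra A S' := ((algebraMap (A ⧸ p) S').comp (algebraMap A (A ⧸ p))).toAlgebra
  haveI : IsScalarTower A (A ⧸ p) S' := IsScalarTower.of_algebraMap_eq (fun _ => rfl)
  haveI : Module.Finite A S' := Module.Finite.trans (A ⧸ p) S'
  exact isN1_of_finite_of_isQuasiExcellent A hA S'

end Groth.Agent.Lib.Helper18.Nag
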