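import Mathlib
import Groth.Agent.Lib.Helper18.Nag9
import Groth.Agent.Lib.Helper18.GenFib2

set_option autoImplicit false
set_option linter.style.haveILetI false
set_option linter.unusedSectionVars false
universe u
open CAlg TensorProduct IsLocalRing Groth.Agent.Lib.Helper11.Japanese
  Groth.Agent.Lib.Helper20.Nagata

namespace Groth.Agent.Lib.Helper18.Nag

/-- If `B_𝔪` (localization of the `A`-algebra `B` at the complement of the prime `𝔪 = 𝔫 ∩ A`) is N-1,
so is `B_𝔫`. -/
theorem isN1_atPrime_of_isN1_localization (A : Type u) [CommRing A] (B : Type u) [CommRing B]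
    [IsDomain B] [Algebra A B] (n : Ideal B) [n.IsPrime]
    (hm : (n.comap (algebraMap A B)).IsPrime)
    (hD : ∀ (_ : IsDomain (Localization (Algebra.algebraMapSubmonoid B
      (n.comap (algebraMap A B)).primeCompl))),
      IsN1 (Localization (Algebra.algebraMapSubmonoid B (n.comap (algebraMap A B)).primeCompl))) :
    IsN1 (Localization.AtPrime n) := by
  set m : Ideal A := n.comap (algebraMap A B) with hm'
  have hM : Algebra.algebraMapSubmonoid B m.primeCompl ≤ n.primeCompl := by
    rintro _ ⟨a, ha, rfl⟩
    exact ha
  have hM0 : Algebra.algebraMapSubmonoid B m.primeCompl ≤ nonZeroDivisors B :=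
    hM.trans n.primeCompl_le_nonZeroDivisors
  haveI hdom : IsDomain (Localization (Algebra.algebraMapSubmonoid B m.primeCompl)) :=
    IsLocalization.isDomain_localization hM0
  have hN1D := hD hdom
  letI : Algebra (Localization (Algebra.algebraMapSubmonoid B m.primeCompl))
      (Localization.AtPrime n) :=
    IsLocalization.localizationAlgebraOfSubmonoidLe _ _
      (Algebra.algebraMapSubmonoid B m.primeCompl) n.primeCompl hM
  haveI : IsScalarTower B (Localization (Algebra.algebraMapSubmonoid B m.primeCompl))
      (Localization.AtPrime n) :=
    IsLocalization.localization_isScalarTower_of_submonoid_le _ _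
      (Algebra.algebraMapSubmonoid B m.primeCompl) n.primeCompl hM
  haveI : IsLocalization (n.primeCompl.map
      (algebraMap B (Localization (Algebra.algebraMapSubmonoid B m.primeCompl))))
      (Localization.AtPrime n) :=
    IsLocalization.isLocalization_of_submonoid_le _ _
      (Algebra.algebraMapSubmonoid B m.primeCompl) n.primeCompl hM
  exact isN1_of_isLocalization (Localization (Algebra.algebraMapSubmonoid B m.primeCompl))
    (n.primeCompl.map
      (algebraMap B (Localization (Algebra.algebraMapSubmonoid B m.primeCompl))))
    (Localization.AtPrime n) hN1D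

/-- A Nagata domain is N-2. -/
theorem isN2_of_isNagata_of_isDomain (D : Type u) [CommRing D] [IsDomain D] (h : IsNagata D) :
    IsN2 D := by
  haveI : (⊥ : Ideal D).IsPrime := Ideal.isPrime_bot
  exact isN2_of_ringEquiv (RingEquiv.quotientBot D) (h.2 ⊥)

/-- A domain `B` finite over a Noetherian ring `A` all of whose local rings at maximal ideals are
Nagata, having an integrally closed principal localization, is N-1. -/
theorem isN1_of_finite_of_forall_isNagata_atPrime (A : Type u) [CommRing A] [IsNoetherianRing A]
    (hloc : ∀ (m : Ideal A) [m.IsMaximal], IsNagata (Localization.AtPrime m))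
    (B : Type u) [CommRing B] [IsDomain B] [Algebra A B] [Module.Finite A B]
    (f : B) (hf : f ≠ 0) [IsIntegrallyClosed (Localization.Away f)] : IsN1 B := by
  haveI : IsNoetherianRing B := IsNoetherianRing.of_finite A B
  haveI : Algebra.IsIntegral A B := Algebra.IsIntegral.of_finite A B
  apply isN1_of_away_of_atPrime B f hf
  intro n _
  haveI hmax : (n.comap (algebraMap A B)).IsMaximal :=
    Ideal.isMaximal_comap_of_isIntegral_of_isMaximal n
  apply isN1_atPrime_of_isN1_localization A B n hmax.isPrime
  intro hdom
  have h1 := hloc (n.comap (algebraMap A B))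
  have h2 : IsNagata (Localization (Algebra.algebraMapSubmonoid B
      (n.comap (algebraMap A B)).primeCompl)) :=
    isNagata_of_finite (Localization.AtPrime (n.comap (algebraMap A B))) h1 _
  exact isN1_of_isN2 _ (isN2_of_isNagata_of_isDomain _ h2)

end Groth.Agent.Lib.Helper18.Nag
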