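import Mathlib
import Groth.Agent.Lib.Helper11.Japanese
import Groth.Agent.Lib.Helper18.Nag6

/-!
# N-1 under ring isomorphisms; Laurent polynomial descent
-/

set_option autoImplicit false
universe u
open CAlg Groth.Agent.Lib.Helper11.Japanese

namespace Groth.Agent.Lib.Helper18.Nag

theorem isN1_of_ringEquiv {R S : Type u} [CommRing R] [IsDomain R] [CommRing S] [IsDomain S]
    (e : R ≃+* S) (h : IsN1 R) : IsN1 S := by
  let _ : Algebra R S := (e.toRingHom.comp (algebraMap R R)).toAlgebra
  have h0 : IsLocalization (⊥ : Submonoid R) R := IsLocalization.self (by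
    intro x hx
    rw [Submonoid.mem_bot] at hx
    rw [hx]; exact isUnit_one)
  have h1 : IsLocalization (⊥ : Submonoid R) S :=
    (IsLocalization.isLocalization_iff_of_ringEquiv (⊥ : Submonoid R) e).1 h0
  exact isN1_of_isLocalization R (⊥ : Submonoid R) S h

/-- The Laurent polynomial ring over `R` is faithfully flat over `R`. -/
theorem faithfullyFlat_laurent (R : Type u) [CommRing R]
    (S : Type u) [CommRing S] [Algebra (Polynomial R) S] [Algebra R S]
    [IsScalarTower R (Polynomial R) S]
    [IsLocalization.Away (Polynomial.X : Polynomial R) S] : Module.FaithfullyFlat R S := by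
  haveI : Module.Flat (Polynomial R) S :=
    IsLocalization.flat S (Submonoid.powers (Polynomial.X : Polynomial R))
  haveI : Module.Flat R S := Module.Flat.trans R (Polynomial R) S
  rw [Module.FaithfullyFlat.iff_flat_and_proper_ideal]
  refine ⟨inferInstance, ?_⟩
  intro I hI
  -- retraction S → R sending X ↦ 1
  let ev : Polynomial R →+* R := Polynomial.evalRingHom (1 : R)
  have hev : IsUnit (ev Polynomial.X) := by simp [ev]
  let ρ : S →+* R := IsLocalization.Away.lift (Polynomial.X : Polynomial R) hev
  have hρ : ∀ r : R, ρ (algebraMap R S r) = r := by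
    intro r
    rw [IsScalarTower.algebraMap_apply R (Polynomial R) S]
    simp [ρ, ev, IsLocalization.Away.lift_eq]
  -- if I • ⊤ = ⊤, then 1 ∈ I
  intro htop
  apply hI
  rw [Ideal.eq_top_iff_one]
  have h1 : (1 : S) ∈ I • (⊤ : Submodule R S) := by rw [htop]; trivial
  have key : ∀ s ∈ I • (⊤ : Submodule R S), ρ s ∈ I := by
    intro s hs
    refine Submodule.smul_induction_on hs ?_ ?_
    · intro r hr n _
      rw [Algebra.smul_def, map_mul, hρ]
      exact I.mul_mem_right _ hr
    · intro x y hx hy
      rw [map_add]; exact I.add_mem hx hy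
  simpa using key 1 h1

theorem isN1_of_isN1_laurent (R : Type u) [CommRing R] [IsDomain R] [IsNoetherianRing R]
    (S : Type u) [CommRing S] [IsDomain S] [Algebra (Polynomial R) S]
    [IsLocalization.Away (Polynomial.X : Polynomial R) S] (h : CAlg.IsN1 S) : CAlg.IsN1 R := by
  letI : Algebra R S := ((algebraMap (Polynomial R) S).comp (algebraMap R (Polynomial R))).toAlgebra
  haveI : IsScalarTower R (Polynomial R) S := IsScalarTower.of_algebraMap_eq (fun _ => rfl)
  haveI := faithfullyFlat_laurent R S
  haveI : IsNoetherianRing S :=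
    IsLocalization.isNoetherianRing (Submonoid.powers (Polynomial.X : Polynomial R)) S inferInstance
  refine isN1_of_faithfullyFlat R S ?_
  intro q hq hmin
  have hq0 : q = ⊥ := by
    have h1 : q ≤ ⊥ := hmin.2 ⟨Ideal.isPrime_bot, bot_le⟩ bot_le
    exact le_antisymm h1 bot_le
  subst hq0
  exact isN1_of_ringEquiv (RingEquiv.quotientBot S).symm h

end Groth.Agent.Lib.Helper18.Nag
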