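import Mathlib
import Groth.Agent.Lib.Helper18.AnUnram2

/-!
# A reducedness criterion for flat algebras over a (not necessarily normal) domain

Generalisation of `isReduced_of_flat_of_minimalPrimes`: the normality of the base is replaced by
elementwise "no embedded primes" and "discrete valuation ring" data at a finite family of primes.
-/

set_option autoImplicit false
set_option linter.style.haveILetI false
set_option linter.unusedSectionVars false
universe u
open CAlg TensorProduct IsLocalRing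

namespace Groth.Agent.Lib.Helper18.Nag

section crit'

variable (C : Type u) [CommRing C] [IsDomain C]
  (T : Type u) [CommRing T] [Algebra C T] [Module.Flat C T]

theorem exists_mul_mem_span_of_sq_eq_zero' (x : C) (p : Ideal C) [hpp : p.IsPrime]
    (hU : ∃ π : C, π ≠ 0 ∧ (∃ s : C, s ∉ p ∧ ∀ a ∈ p, s * a ∈ Ideal.span {π}) ∧
      ∃ (n : ℕ) (s : C), s ∉ p ∧ s * π ^ n ∈ Ideal.span {x})
    (hred : ∀ t : T, t ^ 2 = 0 → t ∈ p.map (algebraMap C T))
    (y : T) (hy : y ^ 2 = 0) :
    ∃ s : C, s ∉ p ∧ algebraMap C T s * y ∈ Ideal.span {algebraMap C T x} := by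
  obtain ⟨π, hπ0, ⟨s₀, hs₀, hs₀p⟩, n, s₁, hs₁, hs₁x⟩ := hU
  have hπreg : IsSMulRegular T (algebraMap C T π) :=
    IsSMulRegular.of_flat (fun a b hab => mul_left_cancel₀ hπ0 hab)
  have h1 : ∀ t ∈ p.map (algebraMap C T),
      algebraMap C T s₀ * t ∈ Ideal.span {algebraMap C T π} := by
    intro t ht
    refine Submodule.span_induction ?_ ?_ ?_ ?_ ht
    · rintro _ ⟨a, ha, rfl⟩
      have := hs₀p a ha
      rw [Ideal.mem_span_singleton'] at this ⊢
      obtain ⟨b, hb⟩ := this
      exact ⟨algebraMap C T b, by rw [← map_mul, ← map_mul, hb]⟩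
    · simp
    · intro a b _ _ ha hb
      rw [mul_add]
      exact Ideal.add_mem _ ha hb
    · intro r a _ ha
      rw [smul_eq_mul, mul_left_comm]
      exact Ideal.mul_mem_left _ _ ha
  have h2 : ∀ k : ℕ, ∃ s : C, s ∉ p ∧ ∃ t : T,
      algebraMap C T s * y = algebraMap C T π ^ k * t := by
    intro k
    induction k with
    | zero => exact ⟨1, (Ideal.ne_top_iff_one p).1 hpp.ne_top, y, by simp⟩
    | succ k ih =>
      obtain ⟨s, hs, t, ht⟩ := ih
      have ht2 : t ^ 2 = 0 := by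
        have h3 : (algebraMap C T π ^ k) ^ 2 * t ^ 2 = 0 := by
          rw [← mul_pow, ← ht, mul_pow, hy, mul_zero]
        have hreg : IsSMulRegular T ((algebraMap C T π ^ k) ^ 2) := (hπreg.pow k).pow 2
        exact hreg (by simp only [smul_eq_mul, h3, mul_zero])
      have h4 := h1 t (hred t ht2)
      rw [Ideal.mem_span_singleton'] at h4
      obtain ⟨t', ht'⟩ := h4
      refine ⟨s₀ * s, fun h => (hpp.mem_or_mem h).elim hs₀ hs, t', ?_⟩
      rw [map_mul, mul_assoc, ht, mul_left_comm, ← ht', pow_succ]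
      ring
  obtain ⟨s, hs, t, ht⟩ := h2 n
  refine ⟨s₁ * s, fun h => (hpp.mem_or_mem h).elim hs₁ hs, ?_⟩
  rw [Ideal.mem_span_singleton'] at hs₁x ⊢
  obtain ⟨b, hb⟩ := hs₁x
  refine ⟨algebraMap C T b * t, ?_⟩
  have h5 : algebraMap C T b * algebraMap C T x = algebraMap C T s₁ * algebraMap C T π ^ n := by
    rw [← map_mul, hb, map_mul, map_pow]
  calc algebraMap C T b * t * algebraMap C T x
      = (algebraMap C T b * algebraMap C T x) * t := by ring
    _ = algebraMap C T s₁ * (algebraMap C T π ^ n * t) := by rw [h5]; ring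
    _ = algebraMap C T (s₁ * s) * y := by rw [← ht, map_mul]; ring

theorem mem_span_of_sq_eq_zero' (x : C) (hx : x ≠ 0) (P : Finset (Ideal C))
    (hP : ∀ p ∈ P, p.IsPrime)
    (hE : ∀ c b : C, (∀ p ∈ P, c ∉ p) → c * b ∈ Ideal.span {x} → b ∈ Ideal.span {x})
    (hU : ∀ p ∈ P, ∃ π : C, π ≠ 0 ∧ (∃ s : C, s ∉ p ∧ ∀ a ∈ p, s * a ∈ Ideal.span {π}) ∧
      ∃ (n : ℕ) (s : C), s ∉ p ∧ s * π ^ n ∈ Ideal.span {x})
    (hred : ∀ p ∈ P, ∀ t : T, t ^ 2 = 0 → t ∈ p.map (algebraMap C T))
    (y : T) (hy : y ^ 2 = 0) : y ∈ Ideal.span {algebraMap C T x} := by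
  classical
  set 𝔞 : Ideal C := ((Ideal.span {algebraMap C T x}).colon {y}).comap (algebraMap C T) with h𝔞
  have hmem : ∀ c : C, c ∈ 𝔞 ↔ algebraMap C T c * y ∈ Ideal.span {algebraMap C T x} := by
    intro c
    rw [h𝔞, Ideal.mem_comap, Submodule.mem_colon_singleton, smul_eq_mul]
  have hnot : ¬ ((𝔞 : Set C) ⊆ ⋃ p ∈ (P : Set (Ideal C)), ((fun q => q) p : Set C)) := by
    rw [Ideal.subset_union_prime (f := fun q => q) ⊥ ⊥ (fun p hp _ _ => hP p hp)]
    rintro ⟨p, hp, hle⟩
    haveI := hP p hp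
    obtain ⟨s, hs, hsy⟩ := exists_mul_mem_span_of_sq_eq_zero' C T x p (hU p hp) (hred p hp) y hy
    exact hs (hle ((hmem s).2 hsy))
  obtain ⟨c, hc𝔞, hcn⟩ := Set.not_subset.1 hnot
  have hc : ∀ p ∈ P, c ∉ p := by
    intro p hp hcp
    apply hcn
    simp only [Set.mem_iUnion]
    exact ⟨p, by simpa using hp, hcp⟩
  exact flat_mem_span_of_mul_mem_span x c (fun a b hab => mul_left_cancel₀ hx hab)
    (fun b hb => hE c b hc hb) y ((hmem c).1 hc𝔞)

/-- Criterion: a Noetherian flat algebra `T` over a domain `C` is reduced as soon as some nonzero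
`x` lies in the radical of `T`, and there is a finite family of primes `p` of `C` such that
`C/xC` has no zero divisors outside the `p`, each `C_p` is a discrete valuation ring
(elementwise), and `T/pT` is reduced. -/
theorem isReduced_of_flat_of_primes [IsNoetherianRing T] (x : C) (hx : x ≠ 0)
    (hjac : algebraMap C T x ∈ (⊥ : Ideal T).jacobson) (P : Finset (Ideal C))
    (hP : ∀ p ∈ P, p.IsPrime)
    (hE : ∀ c b : C, (∀ p ∈ P, c ∉ p) → c * b ∈ Ideal.span {x} → b ∈ Ideal.span {x})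
    (hU : ∀ p ∈ P, ∃ π : C, π ≠ 0 ∧ (∃ s : C, s ∉ p ∧ ∀ a ∈ p, s * a ∈ Ideal.span {π}) ∧
      ∃ (n : ℕ) (s : C), s ∉ p ∧ s * π ^ n ∈ Ideal.span {x})
    (hred : ∀ p ∈ P, ∀ t : T, t ^ 2 = 0 → t ∈ p.map (algebraMap C T)) :
    IsReduced T := by
  rw [isReduced_iff_pow_one_lt 2 one_lt_two]
  intro y hy
  have hreg : IsSMulRegular T (algebraMap C T x) :=
    IsSMulRegular.of_flat (fun a b hab => mul_left_cancel₀ hx hab)
  have h1 : ∀ n : ℕ, ∀ y : T, y ^ 2 = 0 → y ∈ Ideal.span {algebraMap C T x} ^ n := by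
    intro n
    induction n with
    | zero => intro y _; simp
    | succ n ih =>
      intro y hy
      have := mem_span_of_sq_eq_zero' C T x hx P hP hE hU hred y hy
      rw [Ideal.mem_span_singleton'] at this
      obtain ⟨y', rfl⟩ := this
      have hy' : y' ^ 2 = 0 := by
        rw [mul_pow] at hy
        exact (hreg.pow 2) (by simp only [smul_eq_mul, mul_zero]; rw [mul_comm, hy])
      rw [pow_succ]
      exact Ideal.mul_mem_mul (ih y' hy') (Ideal.mem_span_singleton_self _)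
  have h2 : (⨅ i : ℕ, (Ideal.span {algebraMap C T x}) ^ i • (⊤ : Submodule T T)) = ⊥ :=
    Ideal.iInf_pow_smul_eq_bot_of_le_jacobson _ (by rwa [Ideal.span_singleton_le_iff_mem])
  have h3 : y ∈ (⨅ i : ℕ, (Ideal.span {algebraMap C T x}) ^ i • (⊤ : Submodule T T)) := by
    rw [Submodule.mem_iInf]
    intro i
    rw [smul_eq_mul, Ideal.mul_top]
    exact h1 i y hy
  rw [h2] at h3
  exact h3

end crit'

end Groth.Agent.Lib.Helper18.Nag
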