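import Mathlib
import Groth.Agent.Lib.Helper18.NagFT1

/-!
# Local rings essentially generated by one element of the fraction field
-/

set_option autoImplicit false
set_option linter.style.haveILetI false
set_option linter.unusedSectionVars false
universe u
open CAlg TensorProduct IsLocalRing Polynomial

namespace Groth.Agent.Lib.Helper18.Nag

/-- If `r = x · g(x)` with `g ∈ R[X]`, `R` integrally closed and `x` in the fraction field, then
`r ∈ xR`. -/
theorem exists_eq_mul_of_eq_mul_aeval (R : Type u) [CommRing R] [IsDomain R]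
    [IsIntegrallyClosed R] (K : Type u) [Field K] [Algebra R K] [IsFractionRing R K] (x : K) :
    ∀ (n : ℕ) (g : R[X]) (r : R), g.natDegree ≤ n → algebraMap R K r = x * aeval x g →
      ∃ r' : R, algebraMap R K r = x * algebraMap R K r' := by
  intro n
  induction n with
  | zero =>
    intro g r hg h
    rw [Nat.le_zero] at hg
    rw [eq_C_of_natDegree_eq_zero hg, aeval_C] at h
    exact ⟨_, h⟩
  | succ n ih =>
    intro g r hg h
    by_cases hle : g.natDegree ≤ n
    · exact ih g r hle h
    have hd : g.natDegree = n + 1 := le_antisymm hg (Nat.succ_le_of_lt (not_le.1 hle))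
    have hg0 : g ≠ 0 := by
      rintro rfl
      simp at hd
    set p : R[X] := g * X - C r with hp
    have hpx : aeval x p = 0 := by
      rw [hp, map_sub, map_mul, aeval_X, aeval_C, h, mul_comm, sub_self]
    have hdeg : (C r).degree < (g * X).degree := by
      rw [degree_mul_X, degree_eq_natDegree hg0, hd]
      refine lt_of_le_of_lt degree_C_le ?_
      exact_mod_cast Nat.succ_pos _
    have hlc : p.leadingCoeff = g.leadingCoeff := by
      rw [hp, leadingCoeff_sub_of_degree_lt hdeg, leadingCoeff_mul_X]
    have hint : IsIntegral R (g.leadingCoeff • x) := by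
      rw [← hlc]
      exact isIntegral_leadingCoeff_smul p x hpx
    obtain ⟨ry, hry⟩ := IsIntegrallyClosed.algebraMap_eq_of_integral hint
    rw [Algebra.smul_def] at hry
    set g₁ : R[X] := g.eraseLead + C ry * X ^ n with hg₁
    have hg₁x : aeval x g₁ = aeval x g := by
      conv_rhs => rw [← eraseLead_add_C_mul_X_pow g]
      rw [hg₁, map_add, map_add, map_mul, map_mul, aeval_C, aeval_C, map_pow, map_pow, aeval_X,
        hd, hry, pow_succ]
      ring
    have hg₁d : g₁.natDegree ≤ n := by
      rw [hg₁]
      refine natDegree_add_le_of_degree_le ?_ (natDegree_C_mul_X_pow_le _ _)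
      have := eraseLead_natDegree_le g
      rw [hd] at this
      simpa using this
    exact ih g₁ r hg₁d (by rw [hg₁x]; exact h)

/-- `C` is, as a local ring, essentially generated over `R` by the element `x`: every element is
a fraction of polynomials in `x` whose denominator is a unit. -/
def EssGen (R C : Type u) [CommRing R] [CommRing C] [Algebra R C] (x : C) : Prop :=
  ∀ c : C, ∃ g h : R[X], IsUnit (aeval x h) ∧ c * aeval x h = aeval x g

section essgen

variable (R : Type u) [CommRing R] [IsLocalRing R]
  (C : Type u) [CommRing C] [IsLocalRing C] [Algebra R C] [IsLocalHom (algebraMap R C)]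
  (x : C) (hxm : x ∈ maximalIdeal C) (hgen : EssGen R C x)

include hxm in
theorem isUnit_coeff_zero_of_isUnit_aeval (h : R[X]) (hu : IsUnit (aeval x h)) :
    IsUnit (h.coeff 0) := by
  have h1 : aeval x h = aeval x h.divX * x + algebraMap R C (h.coeff 0) := by
    conv_lhs => rw [← divX_mul_X_add h]
    rw [map_add, map_mul, aeval_X, aeval_C]
  have h2 : IsUnit (algebraMap R C (h.coeff 0)) := by
    rw [← IsLocalRing.notMem_maximalIdeal]
    intro hmem
    have : aeval x h ∈ maximalIdeal C := by
      rw [h1]
      exact Ideal.add_mem _ (Ideal.mul_mem_left _ _ hxm) hmem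
    exact (IsLocalRing.notMem_maximalIdeal.2 hu) this
  exact isUnit_of_map_unit (algebraMap R C) _ h2

theorem aeval_sub_coeff_zero_mem (g : R[X]) :
    aeval x g - algebraMap R C (g.coeff 0) ∈ Ideal.span {x} := by
  have h1 : aeval x g = aeval x g.divX * x + algebraMap R C (g.coeff 0) := by
    conv_lhs => rw [← divX_mul_X_add g]
    rw [map_add, map_mul, aeval_X, aeval_C]
  rw [h1, add_sub_cancel_right]
  exact Ideal.mul_mem_left _ _ (Ideal.mem_span_singleton_self x)

include hxm hgen in
/-- `R → C/xC` is surjective. -/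
theorem exists_sub_mem_span_of_essGen (c : C) :
    ∃ r : R, c - algebraMap R C r ∈ Ideal.span {x} := by
  obtain ⟨g, h, hu, hc⟩ := hgen c
  have hs := isUnit_coeff_zero_of_isUnit_aeval R C x hxm h hu
  obtain ⟨s, hs'⟩ := hs
  refine ⟨(↑s⁻¹ : R) * g.coeff 0, ?_⟩
  have h1 : algebraMap R C (h.coeff 0) * (c - algebraMap R C ((↑s⁻¹ : R) * g.coeff 0)) ∈
      Ideal.span {x} := by
    have e1 : algebraMap R C (h.coeff 0) * (c - algebraMap R C ((↑s⁻¹ : R) * g.coeff 0)) =
        (aeval x g - algebraMap R C (g.coeff 0)) -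
          c * (aeval x h - algebraMap R C (h.coeff 0)) := by
      rw [← hc, map_mul, ← hs']
      have : algebraMap R C (↑s : R) * algebraMap R C (↑s⁻¹ : R) = 1 := by
        rw [← map_mul, Units.mul_inv, map_one]
      linear_combination (- algebraMap R C (g.coeff 0)) * this
    rw [e1]
    exact Ideal.sub_mem _ (aeval_sub_coeff_zero_mem R C x g)
      (Ideal.mul_mem_left _ _ (aeval_sub_coeff_zero_mem R C x h))
  have hu2 : IsUnit (algebraMap R C (h.coeff 0)) := (hs' ▸ s.isUnit).map _
  obtain ⟨u, hu'⟩ := hu2
  have := Ideal.mul_mem_left (Ideal.span {x}) (↑u⁻¹ : C) h1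
  rwa [← hu', ← mul_assoc, Units.inv_mul, one_mul] at this

end essgen

section H

variable (R : Type u) [CommRing R] [IsDomain R] [IsIntegrallyClosed R] [IsLocalRing R]
  (K : Type u) [Field K] [Algebra R K] [IsFractionRing R K]
  (C : Type u) [CommRing C] [IsLocalRing C] [Algebra R C] [IsLocalHom (algebraMap R C)]
  [Algebra C K] [IsScalarTower R C K] (hCK : Function.Injective (algebraMap C K))
  (x : C) (hxm : x ∈ maximalIdeal C) (hgen : EssGen R C x)

include hCK hxm hgen in
/-- `R ∩ xC = R ∩ xR`. -/
theorem exists_eq_mul_of_mem_span_of_essGen (r : R) (hr : algebraMap R C r ∈ Ideal.span {x}) :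
    ∃ r' : R, algebraMap R C r = x * algebraMap R C r' := by
  rw [Ideal.mem_span_singleton'] at hr
  obtain ⟨c, hc⟩ := hr
  obtain ⟨g, h, hu, hgc⟩ := hgen c
  obtain ⟨s, hs'⟩ := isUnit_coeff_zero_of_isUnit_aeval R C x hxm h hu
  have h1 : aeval x h = aeval x h.divX * x + algebraMap R C (h.coeff 0) := by
    conv_lhs => rw [← divX_mul_X_add h]
    rw [map_add, map_mul, aeval_X, aeval_C]
  -- r * s = x * (g(x) - r * h̃(x))
  have h2 : algebraMap R C (r * h.coeff 0) = x * aeval x (g - Polynomial.C r * h.divX) := by
    rw [map_sub, map_mul (aeval x), aeval_C, ← hgc, h1, map_mul, ← hc]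
    ring
  have h3 : algebraMap R K (r * h.coeff 0) =
      algebraMap C K x * aeval (algebraMap C K x) (g - Polynomial.C r * h.divX) := by
    rw [IsScalarTower.algebraMap_apply R C K, h2, map_mul, aeval_algebraMap_apply]
  obtain ⟨r₁, hr₁⟩ := exists_eq_mul_of_eq_mul_aeval R K (algebraMap C K x) _ _ _ le_rfl h3
  refine ⟨(↑s⁻¹ : R) * r₁, hCK ?_⟩
  rw [map_mul, ← IsScalarTower.algebraMap_apply R C K, ← IsScalarTower.algebraMap_apply R C K,
    map_mul, ← mul_assoc, mul_comm (algebraMap C K x), mul_assoc, ← hr₁, ← map_mul, ← hs']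
  congr 1
  rw [mul_comm r, ← mul_assoc, Units.inv_mul, one_mul]

end H

end Groth.Agent.Lib.Helper18.Nag
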