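import Mathlib
import Groth.Agent.Lib.Helper18.NagFT2
import Groth.Agent.Lib.Helper18.AnUnram5

/-!
# Reducedness of `T/pT` when `C/p` is Nagata
-/

set_option autoImplicit false
set_option linter.style.haveILetI false
set_option linter.unusedSectionVars false
universe u
open CAlg TensorProduct IsLocalRing Polynomial

namespace Groth.Agent.Lib.Helper18.Nag

section cprime

variable (C : Type u) [CommRing C] [IsLocalRing C] [IsNoetherianRing C]
  (T : Type u) [CommRing T] [Algebra C T] [Module.Flat C T] [IsNoetherianRing T]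

/-- Let `T` be a flat Noetherian algebra over the Noetherian local ring `C` with `𝔪T ⊆ rad T` and
`C/𝔪 = T/𝔪T`.  If `p` is a prime of `C` with `C/p` Nagata then `T/pT` is reduced. -/
theorem mem_map_of_sq_eq_zero_of_isNagata_quotient
    (hrad : (maximalIdeal C).map (algebraMap C T) ≤ (⊥ : Ideal T).jacobson)
    (hres : ∀ t : T, ∃ c : C, t - algebraMap C T c ∈ (maximalIdeal C).map (algebraMap C T))
    (p : Ideal C) [hp : p.IsPrime] (hN : IsNagata (C ⧸ p)) (t : T) (ht : t ^ 2 = 0) :
    t ∈ p.map (algebraMap C T) := by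
  haveI : IsLocalRing (C ⧸ p) :=
    IsLocalRing.of_surjective' (Ideal.Quotient.mk p) Ideal.Quotient.mk_surjective
  haveI : IsLocalHom (Ideal.Quotient.mk p) :=
    IsLocalHom.of_surjective (Ideal.Quotient.mk p) Ideal.Quotient.mk_surjective
  haveI : Module.Flat (C ⧸ p) (T ⧸ p.map (algebraMap C T)) :=
    Module.Flat.of_linearEquiv
      (Algebra.TensorProduct.quotIdealMapEquivQuotTensor T p).toLinearEquiv
  have hmax : ∀ z ∈ maximalIdeal (C ⧸ p), ∃ c ∈ maximalIdeal C, Ideal.Quotient.mk p c = z := by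
    intro z hz
    obtain ⟨c, rfl⟩ := Ideal.Quotient.mk_surjective z
    refine ⟨c, ?_, rfl⟩
    by_contra hc
    have hu : IsUnit c := IsLocalRing.notMem_maximalIdeal.1 hc
    exact (IsLocalRing.notMem_maximalIdeal.2 (hu.map (Ideal.Quotient.mk p))) hz
  have hcomm : ∀ c : C, algebraMap (C ⧸ p) (T ⧸ p.map (algebraMap C T)) (Ideal.Quotient.mk p c) =
      Ideal.Quotient.mk _ (algebraMap C T c) := fun c => rfl
  have hrad₀ : (maximalIdeal (C ⧸ p)).map (algebraMap (C ⧸ p) (T ⧸ p.map (algebraMap C T))) ≤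
      (⊥ : Ideal (T ⧸ p.map (algebraMap C T))).jacobson := by
    rw [Ideal.map_le_iff_le_comap]
    intro z hz
    obtain ⟨c, hc, rfl⟩ := hmax z hz
    rw [Ideal.mem_comap, hcomm, Ideal.jacobson, Ideal.mem_sInf]
    rintro M ⟨-, hM⟩
    haveI := hM
    have hM' : (M.comap (Ideal.Quotient.mk (p.map (algebraMap C T)))).IsMaximal :=
      Ideal.comap_isMaximal_of_surjective _ Ideal.Quotient.mk_surjective
    have h1 : algebraMap C T c ∈ (⊥ : Ideal T).jacobson := hrad (Ideal.mem_map_of_mem _ hc)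
    rw [Ideal.jacobson, Ideal.mem_sInf] at h1
    exact h1 ⟨bot_le, hM'⟩
  have hres₀ : ∀ r' : T ⧸ p.map (algebraMap C T), ∃ a : C ⧸ p,
      r' - algebraMap (C ⧸ p) (T ⧸ p.map (algebraMap C T)) a ∈
        (maximalIdeal (C ⧸ p)).map (algebraMap (C ⧸ p) (T ⧸ p.map (algebraMap C T))) := by
    intro r'
    obtain ⟨t', rfl⟩ := Ideal.Quotient.mk_surjective r'
    obtain ⟨c, hc⟩ := hres t'
    refine ⟨Ideal.Quotient.mk p c, ?_⟩
    rw [hcomm, ← map_sub]
    have h2 : ∀ y ∈ (maximalIdeal C).map (algebraMap C T),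
        Ideal.Quotient.mk (p.map (algebraMap C T)) y ∈
          (maximalIdeal (C ⧸ p)).map (algebraMap (C ⧸ p) (T ⧸ p.map (algebraMap C T))) := by
      intro y hy
      refine Submodule.span_induction ?_ ?_ ?_ ?_ hy
      · rintro _ ⟨d, hd, rfl⟩
        rw [← hcomm]
        refine Ideal.mem_map_of_mem _ ?_
        by_contra hd'
        have hu : IsUnit (Ideal.Quotient.mk p d) := IsLocalRing.notMem_maximalIdeal.1 hd'
        have : IsUnit d := isUnit_of_map_unit (Ideal.Quotient.mk p) d hu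
        exact (IsLocalRing.notMem_maximalIdeal.2 this) hd
      · simp
      · intro a b _ _ ha hb
        rw [map_add]; exact Ideal.add_mem _ ha hb
      · intro a b _ hb
        rw [smul_eq_mul, map_mul]; exact Ideal.mul_mem_left _ _ hb
    exact h2 _ hc
  have hred := isReduced_tensor_of_isNagata (C ⧸ p) (T ⧸ p.map (algebraMap C T)) hN hrad₀ hres₀
    (C ⧸ p)
  have hred' : IsReduced (T ⧸ p.map (algebraMap C T)) :=
    isReduced_of_injective
      (Algebra.TensorProduct.lid (C ⧸ p) (T ⧸ p.map (algebraMap C T))).symm.toRingEquiv.toRingHom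
      (Algebra.TensorProduct.lid (C ⧸ p) (T ⧸ p.map (algebraMap C T))).symm.injective
  have h3 : Ideal.Quotient.mk (p.map (algebraMap C T)) t = 0 := by
    apply IsReduced.eq_zero
    exact ⟨2, by rw [← map_pow, ht, map_zero]⟩
  exact Ideal.Quotient.eq_zero_iff_mem.1 h3

end cprime

end Groth.Agent.Lib.Helper18.Nag
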