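import Mathlib
import Groth.Agent.Lib.Helper18.Nag10

set_option autoImplicit false
set_option linter.style.haveILetI false
set_option linter.unusedSectionVars false
universe u
open CAlg Polynomial Groth.Agent.Lib.Helper11.Japanese

namespace Groth.Agent.Lib.Helper18.PolyN2

/-- `R` as an `R`-algebra via the iterated Frobenius. -/
def Tw (R : Type u) (_p _e : ℕ) : Type u := R

variable (R : Type u) [CommRing R] [IsDomain R] (p : ℕ) [ExpChar R p] (e : ℕ)

noncomputable instance : CommRing (Tw R p e) := inferInstanceAs (CommRing R)
instance : IsDomain (Tw R p e) := inferInstanceAs (IsDomain R)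
noncomputable instance : Algebra R (Tw R p e) := (iterateFrobenius R p e).toAlgebra

/-- The identity `Tw R p e → R` as a ring isomorphism. -/
def twEquiv : Tw R p e ≃+* R := RingEquiv.refl R

theorem algebraMap_tw (r : R) : twEquiv R p e (algebraMap R (Tw R p e) r) = r ^ p ^ e := rfl

theorem algebraMap_tw_injective : Function.Injective (algebraMap R (Tw R p e)) :=
  iterateFrobenius_inj R p e

theorem isIntegral_tw (c : Tw R p e) : IsIntegral R c := by
  refine IsIntegral.of_pow (n := p ^ e) (expChar_pow_pos R p e) ?_
  have h1 : c ^ p ^ e = algebraMap R (Tw R p e) (twEquiv R p e c) := rfl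
  rw [h1]
  exact isIntegral_algebraMap

variable (C : Finset R)

/-- `B = R^q[C]`, as a finite `R`-algebra via Frobenius. -/
noncomputable def B : Subalgebra R (Tw R p e) :=
  Algebra.adjoin R (((twEquiv R p e).symm '' (C : Set R)) : Set (Tw R p e))

instance finite_B : Module.Finite R (B R p e C) :=
  Algebra.finite_adjoin_of_finite_of_isIntegral
    ((C.finite_toSet).image _) (fun x _ => isIntegral_tw R p e x)

theorem algebraMap_B_injective : Function.Injective (algebraMap R (B R p e C)) := by
  intro a b hab
  exact algebraMap_tw_injective R p e (congrArg Subtype.val hab)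

theorem mem_B_of_mem {c : R} (hc : c ∈ C) : (twEquiv R p e).symm c ∈ B R p e C :=
  Algebra.subset_adjoin ⟨c, hc, rfl⟩

/-- The normalization `B'` of `B`. -/
def B' : Type u := integralClosure (B R p e C) (FractionRing (B R p e C))

noncomputable instance : CommRing (B' R p e C) :=
  inferInstanceAs (CommRing (integralClosure (B R p e C) (FractionRing (B R p e C))))

instance : IsDomain (B' R p e C) :=
  inferInstanceAs (IsDomain (integralClosure (B R p e C) (FractionRing (B R p e C))))

noncomputable instance : Algebra (B R p e C) (B' R p e C) :=
  inferInstanceAs (Algebra (B R p e C) (integralClosure (B R p e C) (FractionRing (B R p e C))))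

noncomputable instance : Algebra R (B' R p e C) :=
  ((algebraMap (B R p e C) (B' R p e C)).comp (algebraMap R (B R p e C))).toAlgebra

instance : IsScalarTower R (B R p e C) (B' R p e C) := IsScalarTower.of_algebraMap_eq (fun _ => rfl)

instance : IsIntegrallyClosed (B' R p e C) :=
  integralClosure.isIntegrallyClosedOfFiniteExtension (FractionRing (B R p e C))

/-- The inclusion of `B'` into the fraction field of `B`. -/
noncomputable def B'val : B' R p e C →+* FractionRing (B R p e C) :=
  (integralClosure (B R p e C) (FractionRing (B R p e C))).val.toRingHom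

theorem B'val_injective : Function.Injective (B'val R p e C) := Subtype.val_injective

theorem B'val_algebraMap (b : B R p e C) :
    B'val R p e C (algebraMap (B R p e C) (B' R p e C) b) =
      algebraMap (B R p e C) (FractionRing (B R p e C)) b := rfl

instance : Algebra.IsIntegral (B R p e C) (B' R p e C) :=
  inferInstanceAs (Algebra.IsIntegral (B R p e C)
    (integralClosure (B R p e C) (FractionRing (B R p e C))))

theorem algebraMap_B'_injective : Function.Injective (algebraMap R (B' R p e C)) := by
  intro a b hab
  apply algebraMap_B_injective R p e C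
  have h1 := congrArg (B'val R p e C) hab
  exact IsFractionRing.injective _ _ h1

variable [IsNoetherianRing R]

theorem finite_B' (hR : IsN2 R) : Module.Finite R (B' R p e C) := by
  have h2 : IsN2 (B R p e C) :=
    Nag.isN2_of_finite_injective R (B R p e C) (algebraMap_B_injective R p e C) hR
  have h1 : IsN1 (B R p e C) := Nag.isN1_of_isN2 _ h2
  haveI : Module.Finite (B R p e C) (B' R p e C) := h1
  exact Module.Finite.trans (B R p e C) _

/-- The `q`-power map `R[X] → B'[X]`. -/
noncomputable def frobP : R[X] →+* (B' R p e C)[X] :=
  eval₂RingHom (Polynomial.C.comp (algebraMap R (B' R p e C))) (X ^ p ^ e)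

@[simp] theorem frobP_C (r : R) : frobP R p e C (Polynomial.C r) =
    Polynomial.C (algebraMap R (B' R p e C) r) := by
  simp [frobP]

@[simp] theorem frobP_X : frobP R p e C X = X ^ p ^ e := by
  simp [frobP]

/-- `B'[X]` as an `R[X]`-algebra via the `q`-power map. -/
@[reducible] noncomputable def algP0 : Algebra R[X] (B' R p e C)[X] := (frobP R p e C).toAlgebra

attribute [local instance] algP0

theorem algebraMap_P0 (f : R[X]) : algebraMap R[X] (B' R p e C)[X] f = frobP R p e C f := rfl

instance : IsScalarTower R R[X] (B' R p e C)[X] := IsScalarTower.of_algebraMap_eq (fun r => by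
  rw [algebraMap_P0, Polynomial.algebraMap_apply, Polynomial.algebraMap_apply, frobP_C]
  rfl)

theorem finite_P0 (hR : IsN2 R) : Module.Finite R[X] (B' R p e C)[X] := by
  classical
  haveI := finite_B' R p e C hR
  obtain ⟨G, hG⟩ := (Module.finite_def (R := R) (M := B' R p e C)).1 inferInstance
  set S : Set (B' R p e C)[X] := {X} ∪ (Polynomial.C '' (G : Set (B' R p e C))) with hS
  have hfin : S.Finite := (Set.finite_singleton _).union ((G.finite_toSet).image _)
  have hint : ∀ x ∈ S, IsIntegral R[X] x := by
    rintro x (hx | ⟨g, -, rfl⟩)
    · rw [Set.mem_singleton_iff] at hx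
      subst hx
      refine IsIntegral.of_pow (n := p ^ e) (expChar_pow_pos R p e) ?_
      rw [← frobP_X R p e C, ← algebraMap_P0]
      exact isIntegral_algebraMap
    · have h1 : IsIntegral R g := Algebra.IsIntegral.isIntegral g
      have h2 : IsIntegral R (Polynomial.C g : (B' R p e C)[X]) :=
        h1.map (Polynomial.CAlgHom (R := R) (A := B' R p e C))
      exact h2.tower_top
  have h1 := fg_adjoin_of_finite hfin hint
  have htop : Algebra.adjoin R[X] S = ⊤ := by
    rw [eq_top_iff]
    intro g hgtop
    clear hgtop
    have hconst : ∀ b : B' R p e C, (Polynomial.C b : (B' R p e C)[X]) ∈ Algebra.adjoin R[X] S := by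
      intro b
      have hb : b ∈ Submodule.span R (G : Set (B' R p e C)) := by rw [hG]; trivial
      induction hb using Submodule.span_induction with
      | mem x hx => exact Algebra.subset_adjoin (Or.inr ⟨x, hx, rfl⟩)
      | zero => rw [map_zero]; exact Subalgebra.zero_mem _
      | add x y _ _ hx hy => rw [map_add]; exact Subalgebra.add_mem _ hx hy
      | smul r x _ hx =>
        have h2 : (Polynomial.C (r • x) : (B' R p e C)[X]) =
            algebraMap R[X] (B' R p e C)[X] (Polynomial.C r) * Polynomial.C x := by
          rw [algebraMap_P0, frobP_C, ← map_mul, Algebra.smul_def]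
        rw [h2]
        exact Subalgebra.mul_mem _ (Subalgebra.algebraMap_mem _ _) hx
    have hX : (X : (B' R p e C)[X]) ∈ Algebra.adjoin R[X] S :=
      Algebra.subset_adjoin (Set.mem_union_left _ (Set.mem_singleton _))
    induction g using Polynomial.induction_on' with
    | add f g hf hg => exact Subalgebra.add_mem _ hf hg
    | monomial n b =>
      rw [← Polynomial.C_mul_X_pow_eq_monomial]
      exact Subalgebra.mul_mem _ (hconst b) (Subalgebra.pow_mem _ hX n)
  rw [htop] at h1
  exact ⟨by simpa using h1⟩

end Groth.Agent.Lib.Helper18.PolyN2
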