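import Mathlib
import Groth.Agent.Lib.Helper18.PolyN2a

set_option autoImplicit false
set_option linter.style.haveILetI false
set_option linter.unusedSectionVars false
universe u
open CAlg Polynomial Groth.Agent.Lib.Helper11.Japanese

namespace Groth.Agent.Lib.Helper18.PolyN2

variable (R : Type u) [CommRing R] [IsDomain R] [IsNoetherianRing R] (p : ℕ) [ExpChar R p] (e : ℕ)
  (C : Finset R)

section Key

variable (L : Type u) [Field L] [ExpChar L p] [Algebra R[X] L]
  (hinj : Function.Injective (algebraMap R[X] L))

/-- `B → L`. -/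
noncomputable def phiB : B R p e C →+* L :=
  (algebraMap R[X] L).comp (Polynomial.C.comp
    ((twEquiv R p e).toRingHom.comp (B R p e C).val.toRingHom))

include hinj in
theorem phiB_injective : Function.Injective (phiB R p e C L) := by
  intro a b hab
  have h1 := Polynomial.C_injective (hinj hab)
  exact Subtype.ext ((twEquiv R p e).injective h1)

/-- `φ : B' → L`. -/
noncomputable def phi : B' R p e C →+* L :=
  (IsFractionRing.lift (K := FractionRing (B R p e C)) (phiB_injective R p e C L hinj)).comp
    (B'val R p e C)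

theorem phi_injective : Function.Injective (phi R p e C L hinj) := by
  intro a b hab
  apply B'val_injective R p e C
  exact (IsFractionRing.lift (K := FractionRing (B R p e C))
    (phiB_injective R p e C L hinj)).injective hab

theorem phi_algebraMap_B (b : B R p e C) :
    phi R p e C L hinj (algebraMap (B R p e C) (B' R p e C) b) = phiB R p e C L b := by
  rw [phi, RingHom.comp_apply, B'val_algebraMap, IsFractionRing.lift_algebraMap]

theorem phi_algebraMap (r : R) :
    phi R p e C L hinj (algebraMap R (B' R p e C) r) =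
      algebraMap R[X] L (Polynomial.C r) ^ p ^ e := by
  rw [IsScalarTower.algebraMap_apply R (B R p e C) (B' R p e C), phi_algebraMap_B, ← map_pow,
    ← map_pow]
  rfl

theorem phi_of_mem {c : R} (hc : c ∈ C) :
    phi R p e C L hinj (algebraMap (B R p e C) (B' R p e C) ⟨_, mem_B_of_mem R p e C hc⟩) =
      algebraMap R[X] L (Polynomial.C c) := by
  rw [phi_algebraMap_B]
  rfl

/-- `ψ : B'[X] → L`. -/
noncomputable def psi : (B' R p e C)[X] →+* L :=
  eval₂RingHom (phi R p e C L hinj) (algebraMap R[X] L X)

theorem psi_frobP (f : R[X]) :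
    psi R p e C L hinj (frobP R p e C f) = algebraMap R[X] L f ^ p ^ e := by
  have h : (psi R p e C L hinj).comp (frobP R p e C) =
      (iterateFrobenius L p e).comp (algebraMap R[X] L) := by
    apply Polynomial.ringHom_ext
    · intro r
      rw [RingHom.comp_apply, RingHom.comp_apply, frobP_C, psi, coe_eval₂RingHom, eval₂_C,
        iterateFrobenius_def]
      exact phi_algebraMap R p e C L hinj r
    · rw [RingHom.comp_apply, RingHom.comp_apply, frobP_X, psi, coe_eval₂RingHom, eval₂_X_pow,
        iterateFrobenius_def]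
  have := congrArg (fun g => g f) h
  simpa [iterateFrobenius_def] using this

theorem psi_injective : Function.Injective (psi R p e C L hinj) := by
  letI : Algebra (B' R p e C) L := (phi R p e C L hinj).toAlgebra
  letI : Algebra R L := ((phi R p e C L hinj).comp (algebraMap R (B' R p e C))).toAlgebra
  haveI : IsScalarTower R (B' R p e C) L := IsScalarTower.of_algebraMap_eq (fun _ => rfl)
  haveI : Algebra.IsIntegral R (B R p e C) := Algebra.IsIntegral.of_finite R _
  haveI : Algebra.IsIntegral R (B' R p e C) := Algebra.IsIntegral.trans (B R p e C)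
  have htr : Transcendental R (algebraMap R[X] L X) := by
    rw [transcendental_iff_injective]
    have h1 : ∀ g : R[X], Polynomial.aeval (algebraMap R[X] L X) g =
        algebraMap R[X] L (g.map (iterateFrobenius R p e)) := by
      intro g
      rw [Polynomial.aeval_def]
      induction g using Polynomial.induction_on' with
      | add f g hf hg => rw [eval₂_add, hf, hg, Polynomial.map_add, map_add]
      | monomial n r =>
        rw [eval₂_monomial, Polynomial.map_monomial, ← C_mul_X_pow_eq_monomial, map_mul, map_pow]
        congr 1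
        rw [iterateFrobenius_def, map_pow, map_pow]
        exact phi_algebraMap R p e C L hinj r
    intro f g hfg
    rw [h1, h1] at hfg
    exact Polynomial.map_injective _ (iterateFrobenius_inj R p e) (hinj hfg)
  have htr' : Transcendental (B' R p e C) (algebraMap R[X] L X) :=
    htr.extendScalars_of_isIntegral (B' R p e C)
  rw [transcendental_iff_injective] at htr'
  intro f g hfg
  apply htr'
  rw [Polynomial.aeval_def, Polynomial.aeval_def]
  exact hfg

/-- The fraction field of `B'[X]` inside `L`. -/
noncomputable def Q0 : Subfield L :=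
  (IsFractionRing.lift (K := FractionRing (B' R p e C)[X])
    (psi_injective R p e C L hinj)).fieldRange

theorem psi_mem_Q0 (g : (B' R p e C)[X]) : psi R p e C L hinj g ∈ Q0 R p e C L hinj :=
  ⟨algebraMap _ _ g, IsFractionRing.lift_algebraMap _ g⟩

/-- An element of `Q0` integral over `B'[X]` lies in `B'[X]`. -/
theorem exists_psi_eq_of_isIntegral (a : L)
    (ha : ∃ g : (B' R p e C)[X][X], g.Monic ∧ g.eval₂ (psi R p e C L hinj) a = 0)
    (haQ : a ∈ Q0 R p e C L hinj) : ∃ g : (B' R p e C)[X], psi R p e C L hinj g = a := by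
  obtain ⟨y, hy⟩ := haQ
  have hΛ := IsFractionRing.lift_algebraMap
    (K := FractionRing (B' R p e C)[X]) (psi_injective R p e C L hinj)
  have h2 : IsIntegral (B' R p e C)[X] y := by
    obtain ⟨f, hfm, hf⟩ := ha
    refine ⟨f, hfm, ?_⟩
    apply (IsFractionRing.lift (K := FractionRing (B' R p e C)[X])
      (psi_injective R p e C L hinj)).injective
    rw [map_zero, Polynomial.hom_eval₂, hy, ← hf]
    congr 1
    exact RingHom.ext hΛ
  obtain ⟨g, hg⟩ := IsIntegrallyClosed.isIntegral_iff.mp h2
  exact ⟨g, by rw [← hΛ, hg, hy]⟩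

/-- Polynomials with coefficients in `C` lie in the image of `ψ`. -/
theorem algebraMap_mem_range_psi (f : R[X]) (hf : ∀ n, f.coeff n ≠ 0 → f.coeff n ∈ C) :
    algebraMap R[X] L f ∈ (psi R p e C L hinj).range := by
  rw [f.as_sum_support_C_mul_X_pow, map_sum]
  refine Subring.sum_mem _ (fun n hn => ?_)
  rw [map_mul, map_pow]
  refine Subring.mul_mem _ ?_ (Subring.pow_mem _ ?_ n)
  · have hc : f.coeff n ∈ C := hf n (Polynomial.mem_support_iff.mp hn)
    refine ⟨Polynomial.C (algebraMap (B R p e C) (B' R p e C) ⟨_, mem_B_of_mem R p e C hc⟩), ?_⟩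
    rw [psi, coe_eval₂RingHom, eval₂_C]
    exact phi_of_mem R p e C L hinj hc
  · exact ⟨X, by rw [psi, coe_eval₂RingHom, eval₂_X]⟩

end Key

omit [ExpChar R p] in
/-- **Finiteness in the purely inseparable case** for polynomial rings over an N-2 domain. -/
theorem finite_integralClosure_of_isPurelyInseparable (hR : IsN2 R)
    (K : Type u) [Field K] [Algebra R[X] K] [IsFractionRing R[X] K]
    (L : Type u) [Field L] [Algebra R[X] L] [Algebra K L]
    [IsScalarTower R[X] K L] [FiniteDimensional K L] [IsPurelyInseparable K L] :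
    Module.Finite R[X] (integralClosure R[X] L) := by
  classical
  obtain ⟨p, hp⟩ := ExpChar.exists R
  haveI : ExpChar R p := hp
  haveI : ExpChar K p :=
    expChar_of_injective_algebraMap (IsFractionRing.injective R[X] K) p
  haveI : ExpChar L p := expChar_of_injective_algebraMap (algebraMap K L).injective p
  have hinj : Function.Injective (algebraMap R[X] L) := by
    rw [IsScalarTower.algebraMap_eq R[X] K L]
    exact (algebraMap K L).injective.comp (IsFractionRing.injective R[X] K)
  set e := IsPurelyInseparable.exponent K L with he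
  have hexp : ∀ a : L, a ^ p ^ e ∈ (algebraMap K L).range :=
    IsPurelyInseparable.exponent_def' K p
  let b := Module.finBasis K L
  have h1 : ∀ i, ∃ n d : R[X], d ≠ 0 ∧
      (b i) ^ p ^ e * algebraMap R[X] L d = algebraMap R[X] L n := by
    intro i
    obtain ⟨κ, hκ⟩ := hexp (b i)
    obtain ⟨n, d, hd, rfl⟩ := IsFractionRing.div_surjective R[X] κ
    have hd0 : d ≠ 0 := nonZeroDivisors.ne_zero hd
    refine ⟨n, d, hd0, ?_⟩
    have hdK : algebraMap R[X] K d ≠ 0 := by
      rw [Ne, FaithfulSMul.algebraMap_eq_zero_iff]
      exact hd0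
    rw [← hκ, IsScalarTower.algebraMap_apply R[X] K L d,
      IsScalarTower.algebraMap_apply R[X] K L n, ← map_mul, div_mul_cancel₀ _ hdK]
  choose nn dd hdd hnd using h1
  let C : Finset R := Finset.univ.biUnion (fun i => (nn i).coeffs ∪ (dd i).coeffs)
  have hCn : ∀ i, algebraMap R[X] L (nn i) ∈ (psi R p e C L hinj).range := by
    intro i
    apply algebraMap_mem_range_psi
    intro n hn
    exact Finset.mem_biUnion.mpr ⟨i, Finset.mem_univ _, Finset.mem_union_left _
      (Polynomial.coeff_mem_coeffs hn)⟩
  have hCd : ∀ i, algebraMap R[X] L (dd i) ∈ (psi R p e C L hinj).range := by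
    intro i
    apply algebraMap_mem_range_psi
    intro n hn
    exact Finset.mem_biUnion.mpr ⟨i, Finset.mem_univ _, Finset.mem_union_right _
      (Polynomial.coeff_mem_coeffs hn)⟩
  have hKq : ∀ x : K, (algebraMap K L x) ^ p ^ e ∈ Q0 R p e C L hinj := by
    intro x
    obtain ⟨u, v, hv, rfl⟩ := IsFractionRing.div_surjective R[X] x
    rw [map_div₀, div_pow, ← IsScalarTower.algebraMap_apply, ← IsScalarTower.algebraMap_apply,
      ← psi_frobP R p e C L hinj, ← psi_frobP R p e C L hinj]
    exact (Q0 R p e C L hinj).div_mem (psi_mem_Q0 R p e C L hinj _)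
      (psi_mem_Q0 R p e C L hinj _)
  have hbq : ∀ i, (b i) ^ p ^ e ∈ Q0 R p e C L hinj := by
    intro i
    obtain ⟨n', hn'⟩ := hCn i
    obtain ⟨d', hd'⟩ := hCd i
    have hdL : algebraMap R[X] L (dd i) ≠ 0 := by
      rw [Ne, map_eq_zero_iff _ hinj]
      exact hdd i
    have h2 : (b i) ^ p ^ e = psi R p e C L hinj n' / psi R p e C L hinj d' := by
      rw [hn', hd', eq_div_iff hdL]
      exact hnd i
    rw [h2]
    exact (Q0 R p e C L hinj).div_mem (psi_mem_Q0 R p e C L hinj _)
      (psi_mem_Q0 R p e C L hinj _)
  have hLq : ∀ a : L, a ^ p ^ e ∈ Q0 R p e C L hinj := by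
    intro a
    rw [← b.sum_repr a, sum_pow_char_pow]
    refine (Q0 R p e C L hinj).sum_mem (fun i _ => ?_)
    rw [Algebra.smul_def, mul_pow]
    exact (Q0 R p e C L hinj).mul_mem (hKq _) (hbq i)
  have hkey : ∀ a : integralClosure R[X] L,
      ∃ g : (B' R p e C)[X], psi R p e C L hinj g = (a : L) ^ p ^ e := by
    intro a
    refine exists_psi_eq_of_isIntegral R p e C L hinj _ ?_ (hLq a)
    obtain ⟨f, hfm, hf⟩ := a.2
    refine ⟨f.map (frobP R p e C), hfm.map _, ?_⟩
    rw [Polynomial.eval₂_map]
    have h3 : (psi R p e C L hinj).comp (frobP R p e C) =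
        (iterateFrobenius L p e).comp (algebraMap R[X] L) := by
      refine RingHom.ext (fun g => ?_)
      rw [RingHom.comp_apply, RingHom.comp_apply, psi_frobP, iterateFrobenius_def]
    rw [h3, ← iterateFrobenius_def (R := L), ← Polynomial.hom_eval₂, hf, map_zero]
  choose Φ hΦ using hkey
  have hψinj := psi_injective R p e C L hinj
  letI := algP0 R p e C
  haveI := finite_P0 R p e C hR
  haveI : IsNoetherian R[X] (B' R p e C)[X] :=
    isNoetherian_of_isNoetherianRing_of_finite _ _
  let Φl : integralClosure R[X] L →ₗ[R[X]] (B' R p e C)[X] :=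
    { toFun := Φ
      map_add' := fun a a' => by
        apply hψinj
        rw [map_add, hΦ, hΦ, hΦ]
        change ((a : L) + (a' : L)) ^ p ^ e = _
        exact add_pow_expChar_pow _ _ _ _
      map_smul' := fun f a => by
        apply hψinj
        have hR' : (RingHom.id R[X]) f • Φ a = frobP R p e C f * Φ a := by
          rw [RingHom.id_apply, Algebra.smul_def, algebraMap_P0]
        have hL : ((f • a : integralClosure R[X] L) : L) =
            algebraMap R[X] L f * (a : L) := by
          rw [Subalgebra.coe_smul, Algebra.smul_def]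
        rw [hΦ, hR', map_mul, hΦ, psi_frobP, hL, mul_pow] }
  refine Module.Finite.of_injective Φl ?_
  intro a a' haa'
  have h3 : (a : L) ^ p ^ e = (a' : L) ^ p ^ e := by
    rw [← hΦ a, ← hΦ a']
    exact congrArg _ haa'
  exact Subtype.ext (iterateFrobenius_inj L p e h3)

end Groth.Agent.Lib.Helper18.PolyN2
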