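import Mathlib
import Groth.Agent.Lib.Helper18.PolyN2b

set_option autoImplicit false
set_option linter.style.haveILetI false
set_option linter.unusedSectionVars false
universe u
open CAlg Polynomial Groth.Agent.Lib.Helper11.Japanese

namespace Groth.Agent.Lib.Helper18.PolyN2

/-- An integrally closed domain is N-1. -/
theorem isN1_of_isIntegrallyClosed (P : Type u) [CommRing P] [IsDomain P] [IsIntegrallyClosed P] :
    IsN1 P := by
  unfold IsN1
  rw [IsIntegrallyClosed.integralClosure_eq_bot]
  exact Subalgebra.finite_bot

/-- N-1 descends along finite injective extensions of Noetherian domains. -/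
theorem isN1_of_finite_injective_of_isN1 (P B : Type u) [CommRing P] [IsDomain P]
    [IsNoetherianRing P] [CommRing B] [IsDomain B] [Algebra P B] [Module.Finite P B]
    (hinj : Function.Injective (algebraMap P B)) (hB : IsN1 B) : IsN1 P := by
  have hinjL : Function.Injective (algebraMap P (FractionRing B)) := by
    rw [IsScalarTower.algebraMap_eq P B (FractionRing B)]
    exact (IsFractionRing.injective B (FractionRing B)).comp hinj
  obtain ⟨g, hg⟩ : ∃ g : FractionRing P →+* FractionRing B,
      ∀ a, g (algebraMap P (FractionRing P) a) = algebraMap P (FractionRing B) a :=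
    ⟨IsFractionRing.lift hinjL, IsFractionRing.lift_algebraMap hinjL⟩
  haveI : Module.Finite B (integralClosure B (FractionRing B)) := hB
  haveI : Module.Finite P (integralClosure B (FractionRing B)) := Module.Finite.trans B _
  haveI : IsNoetherian P (integralClosure B (FractionRing B)) :=
    isNoetherian_of_isNoetherianRing_of_finite _ _
  have hint : ∀ z : integralClosure P (FractionRing P), IsIntegral B (g z.1) := by
    intro z
    obtain ⟨f, hfm, hf⟩ := z.2
    have h1 : IsIntegral P (g z.1) := by
      refine ⟨f, hfm, ?_⟩
      have h2 : g.comp (algebraMap P (FractionRing P)) = algebraMap P (FractionRing B) :=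
        RingHom.ext hg
      rw [← h2, ← Polynomial.hom_eval₂, hf, map_zero]
    exact h1.tower_top
  let φ : integralClosure P (FractionRing P) →ₗ[P] integralClosure B (FractionRing B) :=
    { toFun := fun z => ⟨g z.1, hint z⟩
      map_add' := fun a b => Subtype.ext (map_add g _ _)
      map_smul' := fun a z => by
        apply Subtype.ext
        show g (a • z.1) = a • g z.1
        rw [Algebra.smul_def, Algebra.smul_def, map_mul, hg] }
  refine Module.Finite.of_injective φ ?_
  intro a b hab
  exact Subtype.ext (g.injective (congrArg Subtype.val hab))

/-- Polynomial rings over a Noetherian N-1 domain are N-1. -/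
theorem isN1_polynomial (R : Type u) [CommRing R] [IsDomain R] [IsNoetherianRing R]
    (h : IsN1 R) : IsN1 R[X] := by
  let R' := integralClosure R (FractionRing R)
  haveI : Module.Finite R R' := h
  haveI : IsIntegrallyClosed R' :=
    integralClosure.isIntegrallyClosedOfFiniteExtension (FractionRing R)
  letI : Algebra R[X] R'[X] := (Polynomial.mapRingHom (algebraMap R R')).toAlgebra
  have hinjR : Function.Injective (algebraMap R R') := by
    intro a b hab
    exact IsFractionRing.injective R (FractionRing R) (congrArg Subtype.val hab)
  have hinj : Function.Injective (algebraMap R[X] R'[X]) :=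
    Polynomial.map_injective _ hinjR
  haveI : Module.Finite R[X] R'[X] := by
    classical
    obtain ⟨G, hG⟩ := (Module.finite_def (R := R) (M := R')).1 inferInstance
    refine ⟨G.image Polynomial.C, ?_⟩
    rw [eq_top_iff]
    intro g hgtop
    clear hgtop
    have hmono : ∀ (n : ℕ) (b : R'), (monomial n b : R'[X]) ∈
        Submodule.span R[X] ((G.image Polynomial.C : Finset R'[X]) : Set R'[X]) := by
      intro n b
      have hb : b ∈ Submodule.span R (G : Set R') := by rw [hG]; trivial
      induction hb using Submodule.span_induction with
      | mem x hx =>
        have h1 : (monomial n x : R'[X]) = (X ^ n : R[X]) • (Polynomial.C x : R'[X]) := by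
          have h0 : (X ^ n : R[X]) • (Polynomial.C x : R'[X]) =
              algebraMap R[X] R'[X] (X ^ n) * Polynomial.C x := Algebra.smul_def _ _
          rw [h0, RingHom.algebraMap_toAlgebra, Polynomial.coe_mapRingHom,
            Polynomial.map_pow, Polynomial.map_X, ← C_mul_X_pow_eq_monomial, mul_comm]
        rw [h1]
        exact Submodule.smul_mem _ _ (Submodule.subset_span (by
          rw [Finset.coe_image]; exact ⟨x, hx, rfl⟩))
      | zero => rw [map_zero]; exact Submodule.zero_mem _
      | add x y _ _ hx hy => rw [map_add]; exact Submodule.add_mem _ hx hy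
      | smul r x _ hx =>
        have h1 : (monomial n (r • x) : R'[X]) =
            (Polynomial.C r : R[X]) • (monomial n x : R'[X]) := by
          have h0 : (Polynomial.C r : R[X]) • (monomial n x : R'[X]) =
              algebraMap R[X] R'[X] (Polynomial.C r) * monomial n x := Algebra.smul_def _ _
          rw [h0, RingHom.algebraMap_toAlgebra, Polynomial.coe_mapRingHom,
            Polynomial.map_C, Polynomial.C_mul_monomial, Algebra.smul_def]
        rw [h1]
        exact Submodule.smul_mem _ _ hx
    induction g using Polynomial.induction_on' with
    | add f g hf hg => exact Submodule.add_mem _ hf hg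
    | monomial n b => exact hmono n b
  exact isN1_of_finite_injective_of_isN1 R[X] R'[X] hinj (isN1_of_isIntegrallyClosed R'[X])

/-- Polynomial rings over a Noetherian N-2 domain are N-2. -/
theorem isN2_polynomial (R : Type u) [CommRing R] [IsDomain R] [IsNoetherianRing R]
    (h : IsN2 R) : IsN2 R[X] := by
  apply Nag.isN2_of_forall_purelyInseparable R[X]
  intro L _ _ _ _ hfd hpi
  haveI := hfd
  haveI := hpi
  exact finite_integralClosure_of_isPurelyInseparable R h (FractionRing R[X]) L

end Groth.Agent.Lib.Helper18.PolyN2
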