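import Mathlib
import Groth.Agent.Lib.Helper18.NagFT3
import Groth.Agent.Lib.Helper18.Nag6
import Groth.Agent.Lib.Helper18.PolyN2c
import Groth.Agent.Lib.Helper18.Nag11

/-!
# Local rings essentially generated by an element of the maximal ideal: analytic unramifiedness
-/

set_option autoImplicit false
set_option linter.style.haveILetI false
set_option linter.unusedSectionVars false
universe u
open CAlg TensorProduct IsLocalRing Polynomial

namespace Groth.Agent.Lib.Helper18.Nag

section normalVR

variable (C : Type u) [CommRing C] [IsDomain C] [IsNoetherianRing C] [IsIntegrallyClosed C]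

/-- The local ring of a Noetherian normal domain at a minimal prime of a nonzero principal ideal
is a valuation ring (elementwise form). -/
theorem exists_mul_eq_mul_of_mem_minimalPrimes (x : C) (hx : x ≠ 0) (p : Ideal C)
    (hp : p ∈ (Ideal.span {x}).minimalPrimes) (a₁ a₂ : C) :
    ∃ r s : C, s ∉ p ∧ (a₁ * r = a₂ * s ∨ a₂ * r = a₁ * s) := by
  classical
  haveI : p.IsPrime := hp.1.1
  have hh : p.height ≤ 1 := Ideal.height_le_one_of_isPrincipal_of_mem_minimalPrimes _ p hp
  haveI : IsDomain (Localization.AtPrime p) :=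
    IsLocalization.isDomain_of_le_nonZeroDivisors (M := p.primeCompl) _
      p.primeCompl_le_nonZeroDivisors
  haveI : IsIntegrallyClosed (Localization.AtPrime p) :=
    isIntegrallyClosed_of_isLocalization _ p.primeCompl p.primeCompl_le_nonZeroDivisors
  have hinj : Function.Injective (algebraMap C (Localization.AtPrime p)) :=
    IsLocalization.injective _ p.primeCompl_le_nonZeroDivisors
  have h4 : IsIntegrallyClosed (Localization.AtPrime p) ∧
      ∀ P : Ideal (Localization.AtPrime p), P ≠ ⊥ → P.IsPrime →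
        P = maximalIdeal (Localization.AtPrime p) := by
    refine ⟨inferInstance, fun P hP0 hPp => ?_⟩
    haveI := hPp
    have hmap : (P.under C).map (algebraMap C (Localization.AtPrime p)) = P :=
      IsLocalization.map_under p.primeCompl (S := Localization.AtPrime p) P
    haveI : (P.under C).IsPrime := Ideal.comap_isPrime _ _
    have hP'0 : P.under C ≠ ⊥ := by
      intro h; apply hP0; rw [← hmap, h, Ideal.map_bot]
    have hle : P.under C ≤ p := by
      have hd := ((IsLocalization.isPrime_iff_isPrime_disjoint p.primeCompl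
        (Localization.AtPrime p) P).1 hPp).2
      intro a ha
      by_contra hap
      exact Set.disjoint_left.1 hd hap ha
    have heq : P.under C = p := by
      by_contra hne
      have hlt := lt_of_le_of_ne hle hne
      have h1 := Ideal.height_add_one_le_of_lt_of_isPrime hlt
      have h0 : (P.under C).height ≠ 0 := by rwa [Ne, Ideal.height_eq_zero_iff_eq_bot]
      have h2 : (P.under C).height + 1 ≤ 1 := h1.trans hh
      have h4 : (P.under C).height ≠ ⊤ := by
        intro h; rw [h] at h2; simp at h2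
      obtain ⟨n, hn⟩ := ENat.ne_top_iff_exists.mp h4
      rw [← hn] at h2 h0
      have : n + 1 ≤ 1 := by exact_mod_cast h2
      have : n = 0 := by omega
      exact h0 (by simp [this])
    rw [← hmap, heq]
    exact Localization.AtPrime.map_eq_maximalIdeal
  have htfae := tfae_of_isNoetherianRing_of_isLocalRing_of_isDomain (R := Localization.AtPrime p)
  haveI hV : ValuationRing (Localization.AtPrime p) := (htfae.out 3 1).mp h4
  obtain ⟨c, hc⟩ := ValuationRing.cond (algebraMap C (Localization.AtPrime p) a₁)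
    (algebraMap C (Localization.AtPrime p) a₂)
  obtain ⟨r, s, rfl⟩ := IsLocalization.exists_mk'_eq p.primeCompl c
  refine ⟨r, s, s.2, ?_⟩
  rcases hc with hc | hc
  · left
    apply hinj
    rw [map_mul, map_mul, ← hc, mul_assoc, IsLocalization.mk'_spec]
  · right
    apply hinj
    rw [map_mul, map_mul, ← hc, mul_assoc, IsLocalization.mk'_spec]

end normalVR

section main

variable (R : Type u) [CommRing R] [IsDomain R] [IsNoetherianRing R] [IsIntegrallyClosed R]
  (C : Type u) [CommRing C] [IsDomain C] [Algebra R C]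
  (hinj : Function.Injective (algebraMap R C))
  (x : C) (a b : R) (ha : a ≠ 0) (hab : x * algebraMap R C a = algebraMap R C b)
  (hS : ∀ c : C, ∃ r : R, c - algebraMap R C r ∈ Ideal.span {x})
  (hH : ∀ r : R, algebraMap R C r ∈ Ideal.span {x} →
    ∃ r' : R, algebraMap R C r = x * algebraMap R C r')

include hinj ha hab hH in
theorem mem_comap_span_iff (r : R) :
    algebraMap R C r ∈ Ideal.span {x} ↔ ∃ r' : R, a * r = b * r' := by
  have ha' : algebraMap R C a ≠ 0 := fun h => ha (hinj (by rw [h, map_zero]))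
  constructor
  · intro h
    obtain ⟨r', hr'⟩ := hH r h
    refine ⟨r', hinj ?_⟩
    rw [map_mul, map_mul, hr', ← hab]
    ring
  · rintro ⟨r', hr'⟩
    rw [Ideal.mem_span_singleton']
    refine ⟨algebraMap R C r', mul_left_cancel₀ ha' ?_⟩
    have := congrArg (algebraMap R C) hr'
    rw [map_mul, map_mul, ← hab] at this
    rw [this]
    ring

/-- The prime of `C` attached to a prime `q ⊇ R ∩ xC` of `R`. -/
def pq (q : Ideal R) : Ideal C := q.map (algebraMap R C) ⊔ Ideal.span {x}

include hS in
theorem exists_mem_of_mem_pq (q : Ideal R) (c : C) (hc : c ∈ pq R C x q) :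
    ∃ r ∈ q, c - algebraMap R C r ∈ Ideal.span {x} := by
  obtain ⟨y, hy, z, hz, rfl⟩ := Submodule.mem_sup.1 hc
  have h1 : ∀ y ∈ q.map (algebraMap R C), ∃ r ∈ q, y - algebraMap R C r ∈ Ideal.span {x} := by
    intro y hy
    refine Submodule.span_induction ?_ ?_ ?_ ?_ hy
    · rintro _ ⟨t, ht, rfl⟩
      exact ⟨t, ht, by simp⟩
    · exact ⟨0, q.zero_mem, by simp⟩
    · rintro y₁ y₂ _ _ ⟨r₁, hr₁, h₁⟩ ⟨r₂, hr₂, h₂⟩
      refine ⟨r₁ + r₂, q.add_mem hr₁ hr₂, ?_⟩
      have : y₁ + y₂ - algebraMap R C (r₁ + r₂) =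
          (y₁ - algebraMap R C r₁) + (y₂ - algebraMap R C r₂) := by rw [map_add]; ring
      rw [this]
      exact Ideal.add_mem _ h₁ h₂
    · rintro d y₁ _ ⟨r₁, hr₁, h₁⟩
      obtain ⟨rd, hrd⟩ := hS d
      refine ⟨rd * r₁, q.mul_mem_left _ hr₁, ?_⟩
      have : d • y₁ - algebraMap R C (rd * r₁) =
          d * (y₁ - algebraMap R C r₁) + (d - algebraMap R C rd) * algebraMap R C r₁ := by
        rw [map_mul, smul_eq_mul]; ring
      rw [this]
      exact Ideal.add_mem _ (Ideal.mul_mem_left _ _ h₁) (Ideal.mul_mem_right _ _ hrd)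
  obtain ⟨r, hr, h⟩ := h1 y hy
  refine ⟨r, hr, ?_⟩
  have : y + z - algebraMap R C r = (y - algebraMap R C r) + z := by ring
  rw [this]
  exact Ideal.add_mem _ h hz

include hS in
theorem mem_pq_iff (q : Ideal R)
    (hJq : ∀ r : R, algebraMap R C r ∈ Ideal.span {x} → r ∈ q) (c : C) (r : R)
    (hr : c - algebraMap R C r ∈ Ideal.span {x}) : c ∈ pq R C x q ↔ r ∈ q := by
  constructor
  · intro hc
    obtain ⟨r₁, hr₁, h₁⟩ := exists_mem_of_mem_pq R C x hS q c hc
    have h2 : algebraMap R C (r - r₁) ∈ Ideal.span {x} := by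
      have : algebraMap R C (r - r₁) = (c - algebraMap R C r₁) - (c - algebraMap R C r) := by
        rw [map_sub]; ring
      rw [this]
      exact Ideal.sub_mem _ h₁ hr
    have := q.add_mem (hJq _ h2) hr₁
    rwa [sub_add_cancel] at this
  · intro hrq
    have : c = algebraMap R C r + (c - algebraMap R C r) := by ring
    rw [this]
    exact Ideal.add_mem _ (Ideal.mem_sup_left (Ideal.mem_map_of_mem _ hrq))
      (Ideal.mem_sup_right hr)

include hS in
theorem algebraMap_mem_pq_iff (q : Ideal R)
    (hJq : ∀ r : R, algebraMap R C r ∈ Ideal.span {x} → r ∈ q) (r : R) :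
    algebraMap R C r ∈ pq R C x q ↔ r ∈ q :=
  mem_pq_iff R C x hS q hJq _ r (by simp)

include hS in
theorem pq_isPrime (q : Ideal R) [hq : q.IsPrime]
    (hJq : ∀ r : R, algebraMap R C r ∈ Ideal.span {x} → r ∈ q) : (pq R C x q).IsPrime := by
  refine ⟨?_, ?_⟩
  · rw [Ne, Ideal.eq_top_iff_one]
    intro h1
    have := (algebraMap_mem_pq_iff R C x hS q hJq 1).1 (by rwa [map_one])
    exact hq.ne_top ((Ideal.eq_top_iff_one q).2 this)
  · intro c d hcd
    obtain ⟨rc, hrc⟩ := hS c
    obtain ⟨rd, hrd⟩ := hS d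
    have h1 : c * d - algebraMap R C (rc * rd) ∈ Ideal.span {x} := by
      have : c * d - algebraMap R C (rc * rd) =
          c * (d - algebraMap R C rd) + (c - algebraMap R C rc) * algebraMap R C rd := by
        rw [map_mul]; ring
      rw [this]
      exact Ideal.add_mem _ (Ideal.mul_mem_left _ _ hrd) (Ideal.mul_mem_right _ _ hrc)
    have h2 := (mem_pq_iff R C x hS q hJq _ _ h1).1 hcd
    rcases hq.mem_or_mem h2 with h | h
    · exact Or.inl ((mem_pq_iff R C x hS q hJq _ _ hrc).2 h)
    · exact Or.inr ((mem_pq_iff R C x hS q hJq _ _ hrd).2 h)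

include hinj ha hab hS hH in
/-- Main theorem, abstract form. -/
theorem isReduced_flat_of_surj_of_inter (hR : IsNagata R) [IsLocalRing C] [IsNoetherianRing C]
    (hx0 : x ≠ 0) (hxm : x ∈ maximalIdeal C)
    (T : Type u) [CommRing T] [Algebra C T] [Module.Flat C T] [IsNoetherianRing T]
    (hrad : (maximalIdeal C).map (algebraMap C T) ≤ (⊥ : Ideal T).jacobson)
    (hres : ∀ t : T, ∃ c : C, t - algebraMap C T c ∈ (maximalIdeal C).map (algebraMap C T)) :
    IsReduced T := by
  classical
  have ha' : algebraMap R C a ≠ 0 := fun h => ha (hinj (by rw [h, map_zero]))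
  have hb : b ≠ 0 := by
    rintro rfl
    rw [map_zero] at hab
    rcases mul_eq_zero.1 hab with h | h
    · exact hx0 h
    · exact ha' h
  have hJ := mem_comap_span_iff R C hinj x a b ha hab hH
  set Q : Finset (Ideal R) :=
    (Ideal.finite_minimalPrimes_of_isNoetherianRing R (Ideal.span {b})).toFinset.filter
      (fun q => ∀ r : R, algebraMap R C r ∈ Ideal.span {x} → r ∈ q) with hQ
  have hQmem : ∀ q, q ∈ Q ↔ q ∈ (Ideal.span {b}).minimalPrimes ∧
      ∀ r : R, algebraMap R C r ∈ Ideal.span {x} → r ∈ q := by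
    intro q
    rw [hQ, Finset.mem_filter, Set.Finite.mem_toFinset]
  refine isReduced_of_flat_of_primes C T x hx0 (hrad (Ideal.mem_map_of_mem _ hxm))
    (Q.image (pq R C x)) ?_ ?_ ?_ ?_
  · intro p hp
    obtain ⟨q, hq, rfl⟩ := Finset.mem_image.1 hp
    obtain ⟨hq1, hq2⟩ := (hQmem q).1 hq
    haveI : q.IsPrime := hq1.1.1
    exact pq_isPrime R C x hS q hq2
  · -- no embedded primes
    intro c b' hc h
    obtain ⟨rc, hrc⟩ := hS c
    obtain ⟨rb, hrb⟩ := hS b'
    by_contra hb'
    have h1 : algebraMap R C (rc * rb) ∈ Ideal.span {x} := by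
      have : algebraMap R C (rc * rb) =
          c * b' - (c - algebraMap R C rc) * b' - algebraMap R C rc * (b' - algebraMap R C rb) := by
        rw [map_mul]; ring
      rw [this]
      exact Ideal.sub_mem _ (Ideal.sub_mem _ h (Ideal.mul_mem_right _ _ hrc))
        (Ideal.mul_mem_left _ _ hrb)
    have h2 : algebraMap R C rb ∉ Ideal.span {x} := by
      intro h3
      apply hb'
      have : b' = (b' - algebraMap R C rb) + algebraMap R C rb := by ring
      rw [this]
      exact Ideal.add_mem _ hrb h3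
    obtain ⟨r', hr'⟩ := (hJ _).1 h1
    have h3 : a * rb ∉ Ideal.span {b} := by
      intro h4
      rw [Ideal.mem_span_singleton'] at h4
      obtain ⟨e, he⟩ := h4
      exact h2 ((hJ _).2 ⟨e, by rw [← he, mul_comm]⟩)
    have hne : (Ideal.Quotient.mk (Ideal.span {b}) (a * rb)) ≠ 0 := by
      rwa [Ne, Ideal.Quotient.eq_zero_iff_mem]
    obtain ⟨q₀, hq₀, hle⟩ := exists_le_isAssociatedPrime_of_isNoetherianRing R _ hne
    haveI : q₀.IsPrime := hq₀.isPrime
    have hmem : ∀ t : R, t * (a * rb) ∈ Ideal.span {b} → t ∈ q₀ := by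
      intro t ht
      apply hle
      rw [Submodule.mem_colon_singleton, Submodule.mem_bot]
      show Ideal.Quotient.mk (Ideal.span {b}) (t * (a * rb)) = 0
      rwa [Ideal.Quotient.eq_zero_iff_mem]
    have hrcq : rc ∈ q₀ := by
      apply hmem
      rw [Ideal.mem_span_singleton']
      exact ⟨r', by linear_combination (-1 : R) * hr'⟩
    have hbq : b ∈ q₀ := by
      apply hmem
      exact Ideal.mul_mem_right _ _ (Ideal.mem_span_singleton_self b)
    have hJq : ∀ r : R, algebraMap R C r ∈ Ideal.span {x} → r ∈ q₀ := by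
      intro j hj
      obtain ⟨j', hj'⟩ := (hJ j).1 hj
      apply hmem
      rw [Ideal.mem_span_singleton']
      exact ⟨j' * rb, by linear_combination (-rb) * hj'⟩
    have hh := height_le_one_of_mem_associatedPrimes_span R b hb q₀ hq₀
    have hmin := mem_minimalPrimes_of_height_le_one R b hb q₀ hbq hh
    have hq₀Q : q₀ ∈ Q := (hQmem q₀).2 ⟨hmin, hJq⟩
    exact hc _ (Finset.mem_image_of_mem _ hq₀Q)
      ((mem_pq_iff R C x hS q₀ hJq c rc hrc).2 hrcq)
  · -- discrete valuation ring data
    intro p hp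
    obtain ⟨q, hq, rfl⟩ := Finset.mem_image.1 hp
    obtain ⟨hq1, hJq⟩ := (hQmem q).1 hq
    haveI hqp : q.IsPrime := hq1.1.1
    obtain ⟨π, hπ0, hπq, ⟨s₀, hs₀, hs₀q⟩, n, s₁, hs₁, hs₁b⟩ := exists_uniformizer R b hb q hq1
    obtain ⟨r₂, s₂, hs₂, hor⟩ := exists_mul_eq_mul_of_mem_minimalPrimes R b hb q hq1 a b
    have hs₂x : algebraMap R C s₂ * x = algebraMap R C r₂ := by
      rcases hor with h | h
      · apply mul_left_cancel₀ ha'
        have := congrArg (algebraMap R C) h
        rw [map_mul, map_mul, ← hab] at this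
        rw [this]; ring
      · exfalso
        apply hs₂
        apply hJq
        rw [Ideal.mem_span_singleton']
        refine ⟨algebraMap R C r₂, mul_left_cancel₀ ha' ?_⟩
        have := congrArg (algebraMap R C) h
        rw [map_mul, map_mul, ← hab] at this
        rw [← this]; ring
    have hr₂q : r₂ ∈ q := by
      apply hJq
      rw [← hs₂x]
      exact Ideal.mul_mem_left _ _ (Ideal.mem_span_singleton_self x)
    refine ⟨algebraMap R C π, fun h => hπ0 (hinj (by rw [h, map_zero])),
      ⟨algebraMap R C (s₀ * s₂), ?_, ?_⟩, n, algebraMap R C s₁, ?_, ?_⟩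
    · rw [algebraMap_mem_pq_iff R C x hS q hJq]
      intro h
      exact (hqp.mem_or_mem h).elim hs₀ hs₂
    · intro c hc
      obtain ⟨y, hy, z, hz, rfl⟩ := Submodule.mem_sup.1 hc
      rw [mul_add]
      refine Ideal.add_mem _ ?_ ?_
      · refine Submodule.span_induction ?_ ?_ ?_ ?_ hy
        · rintro _ ⟨t, ht, rfl⟩
          have := hs₀q t ht
          rw [Ideal.mem_span_singleton'] at this ⊢
          obtain ⟨e, he⟩ := this
          refine ⟨algebraMap R C (s₂ * e), ?_⟩
          rw [← map_mul, ← map_mul, mul_assoc, he]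
          congr 1; ring
        · simp
        · intro y₁ y₂ _ _ h₁ h₂
          rw [mul_add]; exact Ideal.add_mem _ h₁ h₂
        · intro d y₁ _ h₁
          rw [smul_eq_mul, mul_left_comm]; exact Ideal.mul_mem_left _ _ h₁
      · rw [Ideal.mem_span_singleton'] at hz
        obtain ⟨d, rfl⟩ := hz
        have := hs₀q r₂ hr₂q
        rw [Ideal.mem_span_singleton'] at this ⊢
        obtain ⟨e, he⟩ := this
        refine ⟨d * algebraMap R C e, ?_⟩
        have h5 : algebraMap R C (s₀ * s₂) * (d * x) =
            d * (algebraMap R C s₀ * (algebraMap R C s₂ * x)) := by rw [map_mul]; ring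
        rw [h5, hs₂x, ← map_mul, ← he, map_mul]
        ring
    · rw [algebraMap_mem_pq_iff R C x hS q hJq]
      exact hs₁
    · rw [Ideal.mem_span_singleton'] at hs₁b ⊢
      obtain ⟨e, he⟩ := hs₁b
      refine ⟨algebraMap R C (e * a), ?_⟩
      rw [← map_pow, ← map_mul, ← he, map_mul, map_mul, ← hab]
      ring
  · -- reducedness of the fibres
    intro p hp t ht
    obtain ⟨q, hq, rfl⟩ := Finset.mem_image.1 hp
    obtain ⟨hq1, hJq⟩ := (hQmem q).1 hq
    haveI hqp : q.IsPrime := hq1.1.1
    haveI := pq_isPrime R C x hS q hJq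
    have hsurj : Function.Surjective (Algebra.linearMap R (C ⧸ pq R C x q)) := by
      intro z
      obtain ⟨c, rfl⟩ := Ideal.Quotient.mk_surjective z
      obtain ⟨r, hr⟩ := hS c
      refine ⟨r, ?_⟩
      rw [Algebra.linearMap_apply, IsScalarTower.algebraMap_apply R C (C ⧸ pq R C x q),
        Ideal.Quotient.algebraMap_eq]
      symm
      rw [Ideal.Quotient.eq]
      exact Ideal.mem_sup_right hr
    haveI : Module.Finite R (C ⧸ pq R C x q) := Module.Finite.of_surjective _ hsurj
    have hN : IsNagata (C ⧸ pq R C x q) := isNagata_of_finite R hR _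
    exact mem_map_of_sq_eq_zero_of_isNagata_quotient C T hrad hres (pq R C x q) hN t ht

end main

end Groth.Agent.Lib.Helper18.Nag
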