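import Mathlib
import Groth.Agent.Lib.Helper18.NagFT4
import Groth.Agent.Lib.Helper18.Nag1
import Groth.Agent.Lib.Helper18.Nag10

/-!
# Local rings essentially generated by an element of the maximal ideal are N-1
-/

set_option autoImplicit false
set_option linter.style.haveILetI false
set_option linter.unusedSectionVars false
universe u
open CAlg TensorProduct IsLocalRing Polynomial

namespace Groth.Agent.Lib.Helper18.Nag

section local_case

variable (R : Type u) [CommRing R] [IsDomain R] [IsNoetherianRing R] [IsIntegrallyClosed R]
  [IsLocalRing R]
  (K : Type u) [Field K] [Algebra R K] [IsFractionRing R K]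
  (C : Type u) [CommRing C] [IsDomain C] [IsLocalRing C] [IsNoetherianRing C] [Algebra R C]
  [IsLocalHom (algebraMap R C)]
  [Algebra C K] [IsScalarTower R C K]

/-- Rational point case, local base. -/
theorem isN1_of_essGen_of_mem_of_isLocalRing (hR : IsNagata R)
    (hCK : Function.Injective (algebraMap C K))
    (x : C) (hxm : x ∈ maximalIdeal C) (hgen : EssGen R C x) : IsN1 C := by
  have hinj : Function.Injective (algebraMap R C) := by
    have h1 : Function.Injective (algebraMap R K) := IsFractionRing.injective R K
    rw [IsScalarTower.algebraMap_eq R C K] at h1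
    exact Function.Injective.of_comp h1
  have hS := exists_sub_mem_span_of_essGen R C x hxm hgen
  by_cases hx0 : x = 0
  · subst hx0
    have hsurj : Function.Surjective (algebraMap R C) := by
      intro c
      obtain ⟨r, hr⟩ := hS c
      refine ⟨r, ?_⟩
      rw [Ideal.span_singleton_zero, Ideal.mem_bot, sub_eq_zero] at hr
      exact hr.symm
    exact isN1_of_ringEquiv (RingEquiv.ofBijective (algebraMap R C) ⟨hinj, hsurj⟩)
      (Groth.Agent.Lib.Helper18.PolyN2.isN1_of_isIntegrallyClosed R)
  · have hH := exists_eq_mul_of_mem_span_of_essGen R K C hCK x hxm hgen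
    obtain ⟨⟨a, ha⟩, b, hb⟩ :=
      IsLocalization.exists_integer_multiple (nonZeroDivisors R) (algebraMap C K x)
    have ha0 : a ≠ 0 := nonZeroDivisors.ne_zero ha
    have hab : x * algebraMap R C a = algebraMap R C b := by
      apply hCK
      rw [map_mul, ← IsScalarTower.algebraMap_apply R C K, ← IsScalarTower.algebraMap_apply R C K,
        hb]
      show _ = a • _
      rw [Algebra.smul_def, mul_comm]
    haveI := isNoetherianRing_cpl C
    haveI : IsReduced (AdicCompletion (maximalIdeal C) C) :=
      isReduced_flat_of_surj_of_inter R C hinj x a b ha0 hab hS hH hR hx0 hxm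
        (AdicCompletion (maximalIdeal C) C) (cpl_map_le_jacobson C) (cpl_exists_sub_mem C)
    exact isN1_of_isReduced_adicCompletion C

end local_case

section general_base

variable (R : Type u) [CommRing R] [IsDomain R] [IsNoetherianRing R] [IsIntegrallyClosed R]
  (K : Type u) [Field K] [Algebra R K] [IsFractionRing R K]
  (C : Type u) [CommRing C] [IsDomain C] [IsLocalRing C] [IsNoetherianRing C] [Algebra R C]
  [Algebra C K] [IsScalarTower R C K]

theorem EssGen.map {R R' C : Type u} [CommRing R] [CommRing R'] [CommRing C] [Algebra R R']
    [Algebra R C] [Algebra R' C] [IsScalarTower R R' C] {x : C} (h : EssGen R C x) :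
    EssGen R' C x := by
  intro c
  obtain ⟨g, h', hu, hc⟩ := h c
  refine ⟨g.map (algebraMap R R'), h'.map (algebraMap R R'), ?_, ?_⟩
  · rwa [aeval_map_algebraMap]
  · rwa [aeval_map_algebraMap, aeval_map_algebraMap]

/-- Rational point case, general base. -/
theorem isN1_of_essGen_of_mem (hR : IsNagata R)
    (hCK : Function.Injective (algebraMap C K))
    (x : C) (hxm : x ∈ maximalIdeal C) (hgen : EssGen R C x) : IsN1 C := by
  set n : Ideal R := (maximalIdeal C).comap (algebraMap R C) with hn
  haveI : n.IsPrime := Ideal.comap_isPrime _ _
  have hunits : ∀ y : n.primeCompl, IsUnit (algebraMap R C y) := by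
    intro y
    rw [← IsLocalRing.notMem_maximalIdeal]
    exact y.2
  letI : Algebra (Localization.AtPrime n) C :=
    (IsLocalization.lift (M := n.primeCompl) (g := algebraMap R C) hunits).toAlgebra
  haveI : IsScalarTower R (Localization.AtPrime n) C := IsScalarTower.of_algebraMap_eq (fun r => by
    rw [RingHom.algebraMap_toAlgebra, IsLocalization.lift_eq])
  letI : Algebra (Localization.AtPrime n) K :=
    ((algebraMap C K).comp (algebraMap (Localization.AtPrime n) C)).toAlgebra
  haveI : IsScalarTower (Localization.AtPrime n) C K := IsScalarTower.of_algebraMap_eq (fun _ => rfl)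
  haveI : IsScalarTower R (Localization.AtPrime n) K := IsScalarTower.of_algebraMap_eq (fun r => by
    rw [IsScalarTower.algebraMap_apply (Localization.AtPrime n) C K,
      ← IsScalarTower.algebraMap_apply R (Localization.AtPrime n) C,
      ← IsScalarTower.algebraMap_apply R C K])
  haveI : IsFractionRing (Localization.AtPrime n) K :=
    IsFractionRing.isFractionRing_of_isDomain_of_isLocalization n.primeCompl
      (Localization.AtPrime n) K
  haveI : IsDomain (Localization.AtPrime n) :=
    IsLocalization.isDomain_of_le_nonZeroDivisors (M := n.primeCompl) _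
      n.primeCompl_le_nonZeroDivisors
  haveI : IsIntegrallyClosed (Localization.AtPrime n) :=
    isIntegrallyClosed_of_isLocalization _ n.primeCompl n.primeCompl_le_nonZeroDivisors
  haveI : IsNoetherianRing (Localization.AtPrime n) :=
    IsLocalization.isNoetherianRing n.primeCompl _ inferInstance
  have hN : IsNagata (Localization.AtPrime n) :=
    isNagata_of_isLocalization n.primeCompl (Localization.AtPrime n) hR
  haveI : IsLocalHom (algebraMap (Localization.AtPrime n) C) := by
    constructor
    intro z hz
    obtain ⟨r, s, rfl⟩ := IsLocalization.exists_mk'_eq n.primeCompl z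
    have h1 : algebraMap (Localization.AtPrime n) C (IsLocalization.mk' _ r s) *
        algebraMap R C s = algebraMap R C r := by
      rw [IsScalarTower.algebraMap_apply R (Localization.AtPrime n) C,
        IsScalarTower.algebraMap_apply R (Localization.AtPrime n) C, ← map_mul,
        IsLocalization.mk'_spec]
    have h2 : IsUnit (algebraMap R C r) := by
      rw [← h1]
      exact hz.mul (hunits s)
    have hr : r ∈ n.primeCompl := by
      show r ∉ n
      rw [hn, Ideal.mem_comap]
      exact IsLocalRing.notMem_maximalIdeal.2 h2
    exact IsLocalization.AtPrime.isUnit_mk'_iff (Localization.AtPrime n) n r s |>.2 hr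
  exact isN1_of_essGen_of_mem_of_isLocalRing (Localization.AtPrime n) K C hN hCK x hxm hgen.map

end general_base

end Groth.Agent.Lib.Helper18.Nag
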