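import Mathlib
import Groth.Agent.Lib.Helper18.NagFT5
import Groth.Agent.Lib.Helper18.Nag7

/-!
# Essentially monogenic extensions inside the fraction field whose residue points are rational
-/

set_option autoImplicit false
set_option linter.style.haveILetI false
set_option linter.unusedSectionVars false
universe u
open CAlg TensorProduct IsLocalRing Polynomial

namespace Groth.Agent.Lib.Helper18.Nag

theorem exists_pow_mul_aeval_eq (R C : Type u) [CommRing R] [CommRing C] [Algebra R C] (x : C)
    (a b : R) (hab : x * algebraMap R C a = algebraMap R C b) (p : R[X]) :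
    ∃ (N : ℕ) (r : R), algebraMap R C r = algebraMap R C a ^ N * aeval x p := by
  induction p using Polynomial.induction_on' with
  | add p q hp hq =>
    obtain ⟨N₁, r₁, h₁⟩ := hp
    obtain ⟨N₂, r₂, h₂⟩ := hq
    refine ⟨N₁ + N₂, a ^ N₂ * r₁ + a ^ N₁ * r₂, ?_⟩
    rw [map_add, map_mul, map_mul, h₁, h₂, map_pow, map_pow, map_add, pow_add]
    ring
  | monomial n c =>
    refine ⟨n, c * b ^ n, ?_⟩
    rw [aeval_monomial, map_mul, map_pow, ← hab, mul_pow]
    ring

section roots

variable (R : Type u) [CommRing R] [IsDomain R] [IsNoetherianRing R] [IsIntegrallyClosed R]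
  (K : Type u) [Field K] [Algebra R K] [IsFractionRing R K]
  (C : Type u) [CommRing C] [IsDomain C] [IsNoetherianRing C] [Algebra R C]
  [Algebra C K] [IsScalarTower R C K]

theorem isIntegrallyClosed_away_of_essGen (hCK : Function.Injective (algebraMap C K))
    (x : C) (hgen : EssGen R C x) (a b : R) (ha : a ≠ 0)
    (hab : x * algebraMap R C a = algebraMap R C b) :
    IsIntegrallyClosed (Localization.Away (algebraMap R C a)) := by
  have hinj : Function.Injective (algebraMap R C) := by
    have h1 : Function.Injective (algebraMap R K) := IsFractionRing.injective R K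
    rw [IsScalarTower.algebraMap_eq R C K] at h1
    exact Function.Injective.of_comp h1
  have ha' : algebraMap R C a ≠ 0 := fun h => ha (hinj (by rw [h, map_zero]))
  set L := Localization.Away (algebraMap R C a) with hL
  have hCL : Function.Injective (algebraMap C L) :=
    IsLocalization.injective L (powers_le_nonZeroDivisors_of_noZeroDivisors ha')
  have hRL : Function.Injective (algebraMap R L) := by
    rw [IsScalarTower.algebraMap_eq R C L]
    exact hCL.comp hinj
  haveI : IsDomain L :=
    IsLocalization.isDomain_of_le_nonZeroDivisors (M := Submonoid.powers (algebraMap R C a)) _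
      (powers_le_nonZeroDivisors_of_noZeroDivisors ha')
  have haL : IsUnit (algebraMap R L a) := by
    rw [IsScalarTower.algebraMap_apply R C L]
    exact IsLocalization.Away.algebraMap_isUnit (algebraMap R C a)
  set M : Submonoid R := (IsUnit.submonoid L).comap (algebraMap R L) with hM
  have hMmem : ∀ r : R, r ∈ M ↔ IsUnit (algebraMap R L r) := fun r => Iff.rfl
  haveI : IsLocalization M L := by
    refine ⟨fun y => (hMmem y).1 y.2, ?_, ?_⟩
    · intro z
      obtain ⟨c, ⟨_, k, rfl⟩, rfl⟩ :=
        IsLocalization.exists_mk'_eq (Submonoid.powers (algebraMap R C a)) z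
      obtain ⟨g, h, hu, hc⟩ := hgen c
      obtain ⟨N₁, r₁, h₁⟩ := exists_pow_mul_aeval_eq R C x a b hab g
      obtain ⟨N₂, r₂, h₂⟩ := exists_pow_mul_aeval_eq R C x a b hab h
      have hr₂ : IsUnit (algebraMap R L r₂) := by
        rw [IsScalarTower.algebraMap_apply R C L, h₂, map_mul, map_pow,
          ← IsScalarTower.algebraMap_apply R C L]
        exact (haL.pow N₂).mul (hu.map _)
      have ht : a ^ (k + N₁) * r₂ ∈ M := by
        rw [hMmem, map_mul, map_pow]
        exact (haL.pow _).mul hr₂
      refine ⟨(r₁ * a ^ N₂, ⟨a ^ (k + N₁) * r₂, ht⟩), ?_⟩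
      have e1 : IsLocalization.mk' L c
          (⟨algebraMap R C a ^ k, k, rfl⟩ : Submonoid.powers (algebraMap R C a)) *
          algebraMap C L (algebraMap R C a ^ k) = algebraMap C L c := IsLocalization.mk'_spec _ _ _
      generalize IsLocalization.mk' L c
          (⟨algebraMap R C a ^ k, k, rfl⟩ : Submonoid.powers (algebraMap R C a)) = z at e1 ⊢
      have hA : algebraMap R L a = algebraMap C L (algebraMap R C a) :=
        IsScalarTower.algebraMap_apply R C L a
      have h₁L : algebraMap R L r₁ =
          algebraMap C L (algebraMap R C a) ^ N₁ * algebraMap C L (aeval x g) := by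
        rw [IsScalarTower.algebraMap_apply R C L, h₁, map_mul, map_pow]
      have h₂L : algebraMap R L r₂ =
          algebraMap C L (algebraMap R C a) ^ N₂ * algebraMap C L (aeval x h) := by
        rw [IsScalarTower.algebraMap_apply R C L, h₂, map_mul, map_pow]
      have hcL : algebraMap C L c * algebraMap C L (aeval x h) = algebraMap C L (aeval x g) := by
        rw [← map_mul, hc]
      rw [map_pow] at e1
      show z * algebraMap R L (a ^ (k + N₁) * r₂) = algebraMap R L (r₁ * a ^ N₂)
      rw [map_mul, map_mul, map_pow, map_pow, hA, h₁L, h₂L, pow_add]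
      linear_combination (algebraMap C L (algebraMap R C a) ^ N₁ *
        algebraMap C L (algebraMap R C a) ^ N₂ * algebraMap C L (aeval x h)) * e1 +
        (algebraMap C L (algebraMap R C a) ^ N₁ * algebraMap C L (algebraMap R C a) ^ N₂) * hcL
    · intro r₁ r₂ h
      exact ⟨1, by rw [hRL h]⟩
  have hMle : M ≤ nonZeroDivisors R := by
    intro r hr
    rw [hMmem] at hr
    apply mem_nonZeroDivisors_of_ne_zero
    rintro rfl
    rw [map_zero] at hr
    exact not_isUnit_zero hr
  exact isIntegrallyClosed_of_isLocalization L M hMle

end roots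

end Groth.Agent.Lib.Helper18.Nag
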