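import Mathlib
import Groth.Agent.Lib.Helper18.NagFT6

/-!
# Essentially monogenic extensions inside the fraction field whose residue points are rational, II
-/

set_option autoImplicit false
set_option linter.style.haveILetI false
set_option linter.unusedSectionVars false
universe u
open CAlg TensorProduct IsLocalRing Polynomial

namespace Groth.Agent.Lib.Helper18.Nag

section roots

variable (R : Type u) [CommRing R] [IsDomain R] [IsNoetherianRing R] [IsIntegrallyClosed R]
  (K : Type u) [Field K] [Algebra R K] [IsFractionRing R K]
  (C : Type u) [CommRing C] [IsDomain C] [IsNoetherianRing C] [Algebra R C]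
  [Algebra C K] [IsScalarTower R C K]

theorem isN1_atPrime_of_essGen_of_mem (hR : IsNagata R)
    (hCK : Function.Injective (algebraMap C K))
    (x : C) (hgen : EssGen R C x) (m : Ideal C) [hm : m.IsPrime] (α : R)
    (hα : x - algebraMap R C α ∈ m) : IsN1 (Localization.AtPrime m) := by
  have hunits : ∀ y : m.primeCompl, IsUnit (algebraMap C K y) := by
    intro y
    apply IsUnit.mk0
    intro h
    have : (y : C) = 0 := hCK (by rw [h, map_zero])
    exact y.2 (this ▸ m.zero_mem)
  letI : Algebra (Localization.AtPrime m) K :=
    (IsLocalization.lift (M := m.primeCompl) (g := algebraMap C K) hunits).toAlgebra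
  haveI : IsScalarTower C (Localization.AtPrime m) K := IsScalarTower.of_algebraMap_eq (fun r => by
    rw [RingHom.algebraMap_toAlgebra, IsLocalization.lift_eq])
  haveI : IsScalarTower R (Localization.AtPrime m) K := IsScalarTower.of_algebraMap_eq (fun r => by
    rw [IsScalarTower.algebraMap_apply R C (Localization.AtPrime m),
      ← IsScalarTower.algebraMap_apply C (Localization.AtPrime m) K,
      ← IsScalarTower.algebraMap_apply R C K])
  haveI : IsDomain (Localization.AtPrime m) :=
    IsLocalization.isDomain_of_le_nonZeroDivisors (M := m.primeCompl) _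
      m.primeCompl_le_nonZeroDivisors
  haveI : IsNoetherianRing (Localization.AtPrime m) :=
    IsLocalization.isNoetherianRing m.primeCompl _ inferInstance
  have hC₁K : Function.Injective (algebraMap (Localization.AtPrime m) K) := by
    rw [injective_iff_map_eq_zero]
    intro z hz
    obtain ⟨c, s, rfl⟩ := IsLocalization.exists_mk'_eq m.primeCompl z
    have h1 : algebraMap (Localization.AtPrime m) K (IsLocalization.mk' _ c s) *
        algebraMap C K s = algebraMap C K c := by
      rw [IsScalarTower.algebraMap_apply C (Localization.AtPrime m) K,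
        IsScalarTower.algebraMap_apply C (Localization.AtPrime m) K, ← map_mul,
        IsLocalization.mk'_spec]
    rw [hz, zero_mul] at h1
    have : c = 0 := hCK (by rw [← h1, map_zero])
    rw [this, IsLocalization.mk'_zero]
  set x₁ : Localization.AtPrime m := algebraMap C (Localization.AtPrime m) (x - algebraMap R C α)
    with hx₁
  have hx₁m : x₁ ∈ maximalIdeal (Localization.AtPrime m) :=
    (IsLocalization.AtPrime.to_map_mem_maximal_iff (Localization.AtPrime m) m _).2 hα
  have haev : ∀ p : R[X], aeval x₁ (p.comp (X + Polynomial.C α)) =
      algebraMap C (Localization.AtPrime m) (aeval x p) := by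
    intro p
    rw [aeval_comp, map_add, aeval_X, aeval_C, hx₁, map_sub,
      ← IsScalarTower.algebraMap_apply R C (Localization.AtPrime m), sub_add_cancel,
      aeval_algebraMap_apply]
  have hgen₁ : EssGen R (Localization.AtPrime m) x₁ := by
    intro z
    obtain ⟨c, s, rfl⟩ := IsLocalization.exists_mk'_eq m.primeCompl z
    obtain ⟨g, h, hu, hc⟩ := hgen c
    obtain ⟨g', h', hu', hs⟩ := hgen (s : C)
    refine ⟨(g * h').comp (X + Polynomial.C α), (h * g').comp (X + Polynomial.C α), ?_, ?_⟩
    · rw [haev, map_mul, map_mul, ← hs, map_mul]
      refine (hu.map _).mul (IsUnit.mul ?_ (hu'.map _))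
      exact (IsLocalization.AtPrime.isUnit_to_map_iff (Localization.AtPrime m) m _).2 s.2
    · rw [haev, haev, map_mul, map_mul, map_mul, map_mul, ← hs, ← hc, map_mul, map_mul]
      have e1 : IsLocalization.mk' (Localization.AtPrime m) c s *
          algebraMap C (Localization.AtPrime m) s = algebraMap C (Localization.AtPrime m) c :=
        IsLocalization.mk'_spec _ _ _
      linear_combination (algebraMap C (Localization.AtPrime m) (aeval x h) *
        algebraMap C (Localization.AtPrime m) (aeval x h')) * e1
  exact isN1_of_essGen_of_mem R K (Localization.AtPrime m) hR hC₁K x₁ hx₁m hgen₁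

/-- If `C ⊆ K` is essentially generated by `x` over the normal Nagata domain `R` and every
maximal ideal of `C` contains some `x - α` with `α` from a finite list in `R`, then `C` is N-1. -/
theorem isN1_of_essGen_of_roots (hR : IsNagata R)
    (hCK : Function.Injective (algebraMap C K))
    (x : C) (hgen : EssGen R C x) (αs : Multiset R)
    (hα : ∀ m : Ideal C, m.IsMaximal → (αs.map (fun α => x - algebraMap R C α)).prod ∈ m) :
    IsN1 C := by
  have hinj : Function.Injective (algebraMap R C) := by
    have h1 : Function.Injective (algebraMap R K) := IsFractionRing.injective R K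
    rw [IsScalarTower.algebraMap_eq R C K] at h1
    exact Function.Injective.of_comp h1
  obtain ⟨⟨a, ha⟩, b, hb⟩ :=
    IsLocalization.exists_integer_multiple (nonZeroDivisors R) (algebraMap C K x)
  have ha0 : a ≠ 0 := nonZeroDivisors.ne_zero ha
  have hab : x * algebraMap R C a = algebraMap R C b := by
    apply hCK
    rw [map_mul, ← IsScalarTower.algebraMap_apply R C K, ← IsScalarTower.algebraMap_apply R C K,
      hb]
    show _ = a • _
    rw [Algebra.smul_def, mul_comm]
  have ha' : algebraMap R C a ≠ 0 := fun h => ha0 (hinj (by rw [h, map_zero]))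
  haveI := isIntegrallyClosed_away_of_essGen R K C hCK x hgen a b ha0 hab
  refine isN1_of_away_of_atPrime C (algebraMap R C a) ha' ?_
  intro m hm
  have h1 := hα m hm
  rw [hm.isPrime.multiset_prod_mem_iff_exists_mem] at h1
  obtain ⟨y, hy, hym⟩ := h1
  obtain ⟨α, -, rfl⟩ := Multiset.mem_map.1 hy
  exact isN1_atPrime_of_essGen_of_mem R K C hR hCK x hgen m α hym

end roots

end Groth.Agent.Lib.Helper18.Nag
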