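import Mathlib
import Groth.Agent.Lib.Helper18.NagFT7
import Groth.Agent.Lib.Helper18.AnUnram5

/-!
# Splitting field step
-/

set_option autoImplicit false
set_option linter.style.haveILetI false
set_option linter.unusedSectionVars false
universe u
open CAlg TensorProduct IsLocalRing Polynomial Groth.Agent.Lib.Helper11.Japanese

namespace Groth.Agent.Lib.Helper18.Nag

section split

variable (R : Type u) [CommRing R] [IsDomain R] [IsNoetherianRing R] [IsIntegrallyClosed R]
  (K : Type u) [Field K] [Algebra R K] [IsFractionRing R K]
  (C : Type u) [CommRing C] [IsDomain C] [IsLocalRing C] [IsNoetherianRing C] [Algebra R C]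
  [Algebra C K] [IsScalarTower R C K]
  (K'' : Type u) [Field K''] [Algebra K K''] [FiniteDimensional K K'']
  [Algebra R K''] [IsScalarTower R K K''] [Algebra C K''] [IsScalarTower C K K'']
  [IsScalarTower R C K'']

set_option maxHeartbeats 1600000 in
set_option synthInstance.maxHeartbeats 400000 in
theorem isN1_of_essGen_of_splits (hR : IsNagata R)
    (hCK : Function.Injective (algebraMap C K))
    (x : C) (hgen : EssGen R C x) (f : R[X]) (hf : f.Monic)
    (hsplit : (f.map (algebraMap R K'')).Splits)
    (hfx : aeval x f ∈ maximalIdeal C) : IsN1 C := by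
  classical
  have hCK'' : Function.Injective (algebraMap C K'') := by
    rw [IsScalarTower.algebraMap_eq C K K'']
    exact (algebraMap K K'').injective.comp hCK
  haveI hfinR'' : Module.Finite R (integralClosure R K'') :=
    IsN2.finite (isN2_of_isNagata_of_isDomain R hR) K K''
  haveI : IsNoetherianRing (integralClosure R K'') := IsNoetherianRing.of_finite R _
  haveI : IsIntegrallyClosed (integralClosure R K'') :=
    integralClosure.isIntegrallyClosedOfFiniteExtension K
  haveI : IsFractionRing (integralClosure R K'') K'' :=
    integralClosure.isFractionRing_of_finite_extension K K''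
  have hR'' : IsNagata (integralClosure R K'') := isNagata_of_finite R hR _
  -- the ring `C''`
  let φ : C ⊗[R] (integralClosure R K'') →ₐ[C] K'' :=
    Algebra.TensorProduct.productLeftAlgHom (Algebra.ofId C K'') (integralClosure R K'').val
  have hφ : ∀ (c : C) (ρ : integralClosure R K''), φ (c ⊗ₜ ρ) = algebraMap C K'' c * (ρ : K'') := by
    intro c ρ
    simp [φ, Algebra.ofId_apply]
  haveI : Module.Finite C (C ⊗[R] (integralClosure R K'')) := inferInstance
  haveI hfinC'' : Module.Finite C φ.range :=
    Module.Finite.of_surjective φ.rangeRestrict.toLinearMap φ.rangeRestrict_surjective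
  haveI : IsNoetherianRing φ.range := IsNoetherianRing.of_finite C _
  let ι : integralClosure R K'' →+* φ.range :=
    (φ.rangeRestrict.toRingHom).comp
      (Algebra.TensorProduct.includeRight (R := R) (A := C) (B := integralClosure R K'')).toRingHom
  have hι : ∀ ρ : integralClosure R K'', ((ι ρ : φ.range) : K'') = (ρ : K'') := by
    intro ρ
    show φ ((1 : C) ⊗ₜ ρ) = _
    rw [hφ, map_one, one_mul]
  letI : Algebra (integralClosure R K'') φ.range := ι.toAlgebra
  haveI : IsScalarTower (integralClosure R K'') φ.range K'' :=
    IsScalarTower.of_algebraMap_eq (fun ρ => (hι ρ).symm)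
  have hC''K'' : Function.Injective (algebraMap φ.range K'') := Subtype.val_injective
  have hCC'' : Function.Injective (algebraMap C φ.range) := by
    intro c₁ c₂ h
    apply hCK''
    have := congrArg (algebraMap φ.range K'') h
    rwa [← IsScalarTower.algebraMap_apply C φ.range K'',
      ← IsScalarTower.algebraMap_apply C φ.range K''] at this
  -- the generator
  set x'' : φ.range := algebraMap C φ.range x with hx''
  have hx''K : algebraMap φ.range K'' x'' = algebraMap C K'' x := by
    rw [hx'', ← IsScalarTower.algebraMap_apply C φ.range K'']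
  have haevR : ∀ h : R[X], aeval (algebraMap C K'' x) h = algebraMap C K'' (aeval x h) := by
    intro h
    rw [aeval_algebraMap_apply]
  have haevR'' : ∀ h : R[X], aeval (algebraMap C K'' x) (h.map (algebraMap R (integralClosure R K'')))
      = algebraMap C K'' (aeval x h) := by
    intro h
    rw [aeval_map_algebraMap, haevR]
  have key : ∀ t : C ⊗[R] (integralClosure R K''), ∃ (G : (integralClosure R K'')[X]) (h : R[X]),
      IsUnit (aeval x h) ∧ φ t * algebraMap C K'' (aeval x h) = aeval (algebraMap C K'' x) G := by
    intro t
    induction t using TensorProduct.induction_on with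
    | zero => exact ⟨0, 1, by simp, by simp⟩
    | tmul c ρ =>
      obtain ⟨g, h, hu, hc⟩ := hgen c
      refine ⟨Polynomial.C ρ * g.map (algebraMap R (integralClosure R K'')), h, hu, ?_⟩
      rw [hφ, map_mul, aeval_C, haevR'', ← hc, map_mul]
      show _ = (ρ : K'') * _
      ring
    | add t₁ t₂ h₁ h₂ =>
      obtain ⟨G₁, h₁, hu₁, e₁⟩ := h₁
      obtain ⟨G₂, h₂, hu₂, e₂⟩ := h₂
      refine ⟨G₁ * h₂.map (algebraMap R (integralClosure R K'')) +
        G₂ * h₁.map (algebraMap R (integralClosure R K'')), h₁ * h₂, ?_, ?_⟩
      · rw [map_mul]; exact hu₁.mul hu₂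
      · have e3 : aeval (algebraMap C K'' x)
            (G₁ * h₂.map (algebraMap R (integralClosure R K'')) +
              G₂ * h₁.map (algebraMap R (integralClosure R K''))) =
            aeval (algebraMap C K'' x) G₁ * algebraMap C K'' (aeval x h₂) +
              aeval (algebraMap C K'' x) G₂ * algebraMap C K'' (aeval x h₁) := by
          rw [map_add, map_mul, map_mul, haevR'', haevR'']
        rw [e3, ← e₁, ← e₂, map_add, map_mul (aeval x), map_mul (algebraMap C K'')]
        ring
  have hgen'' : EssGen (integralClosure R K'') φ.range x'' := by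
    intro c''
    obtain ⟨t, ht⟩ := c''.2
    obtain ⟨G, h, hu, e⟩ := key t
    refine ⟨G, h.map (algebraMap R (integralClosure R K'')), ?_, ?_⟩
    · have : aeval x'' (h.map (algebraMap R (integralClosure R K''))) =
          algebraMap C φ.range (aeval x h) := by
        apply hC''K''
        rw [← aeval_algebraMap_apply, hx''K, haevR'',
          ← IsScalarTower.algebraMap_apply C φ.range K'']
      rw [this]
      exact hu.map _
    · apply hC''K''
      rw [map_mul, ← aeval_algebraMap_apply, ← aeval_algebraMap_apply, hx''K, haevR'', ← e]
      congr 1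
      exact ht.symm
  -- the roots
  set F : K''[X] := f.map (algebraMap R K'') with hF
  have hFm : F.Monic := hf.map _
  have hroot_int : ∀ α ∈ F.roots, IsIntegral R α := by
    intro α hα
    refine ⟨f, hf, ?_⟩
    have := (mem_roots hFm.ne_zero).1 hα
    rwa [IsRoot.def, hF, eval_map] at this
  let αs : Multiset (integralClosure R K'') :=
    F.roots.attach.map (fun α => ⟨α.1, hroot_int α.1 α.2⟩)
  have hprod : algebraMap φ.range K''
      ((αs.map (fun α => x'' - algebraMap (integralClosure R K'') φ.range α)).prod) =
      algebraMap C K'' (aeval x f) := by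
    rw [map_multiset_prod, Multiset.map_map, Multiset.map_map]
    have h1 : algebraMap C K'' (aeval x f) = eval (algebraMap C K'' x) F := by
      rw [hF, eval_map, ← aeval_def, aeval_algebraMap_apply]
    rw [h1]
    conv_rhs => rw [hsplit.eq_prod_roots_of_monic hFm]
    rw [eval_multiset_prod, Multiset.map_map]
    conv_rhs => rw [← Multiset.attach_map_val F.roots, Multiset.map_map]
    refine congrArg Multiset.prod (Multiset.map_congr rfl ?_)
    intro α _
    simp only [Function.comp_apply, map_sub, eval_sub, eval_X, eval_C, hx''K]
    congr 1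
    rw [← IsScalarTower.algebraMap_apply (integralClosure R K'') φ.range K'']
    rfl
  have hα : ∀ m : Ideal φ.range, m.IsMaximal →
      (αs.map (fun α => x'' - algebraMap (integralClosure R K'') φ.range α)).prod ∈ m := by
    intro m hm
    haveI : Algebra.IsIntegral C φ.range := Algebra.IsIntegral.of_finite C _
    have hmax : (m.comap (algebraMap C φ.range)).IsMaximal :=
      Ideal.isMaximal_comap_of_isIntegral_of_isMaximal m
    have hcomap : m.comap (algebraMap C φ.range) = maximalIdeal C :=
      IsLocalRing.eq_maximalIdeal hmax
    have h2 : (αs.map (fun α => x'' - algebraMap (integralClosure R K'') φ.range α)).prod =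
        algebraMap C φ.range (aeval x f) := by
      apply hC''K''
      rw [hprod, ← IsScalarTower.algebraMap_apply C φ.range K'']
    rw [h2, ← Ideal.mem_comap, hcomap]
    exact hfx
  have hN1 : IsN1 φ.range :=
    isN1_of_essGen_of_roots (integralClosure R K'') K'' φ.range hR'' hC''K'' x'' hgen'' αs hα
  exact Groth.Agent.Lib.Helper18.PolyN2.isN1_of_finite_injective_of_isN1 C φ.range hCC'' hN1

end split

end Groth.Agent.Lib.Helper18.Nag
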