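import Mathlib
import Groth.Agent.Lib.Helper18.NagFT8

/-!
# `R[x] ⊆ Frac R` is N-1 for a normal Nagata domain `R`
-/

set_option autoImplicit false
set_option linter.style.haveILetI false
set_option linter.unusedSectionVars false
universe u
open CAlg TensorProduct IsLocalRing Polynomial Groth.Agent.Lib.Helper11.Japanese

namespace Groth.Agent.Lib.Helper18.Nag

section monic

variable (R : Type u) [CommRing R] [IsDomain R] [IsNoetherianRing R] [IsIntegrallyClosed R]
  (K : Type u) [Field K] [Algebra R K] [IsFractionRing R K]
  (C : Type u) [CommRing C] [IsDomain C] [IsLocalRing C] [IsNoetherianRing C] [Algebra R C]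
  [Algebra C K] [IsScalarTower R C K]

theorem isN1_of_essGen_of_monic (hR : IsNagata R)
    (hCK : Function.Injective (algebraMap C K))
    (x : C) (hgen : EssGen R C x) (f : R[X]) (hf : f.Monic)
    (hfx : aeval x f ∈ maximalIdeal C) : IsN1 C := by
  haveI : IsScalarTower R C (f.map (algebraMap R K)).SplittingField :=
    IsScalarTower.of_algebraMap_eq (fun r => by
      rw [IsScalarTower.algebraMap_apply R K (f.map (algebraMap R K)).SplittingField,
        IsScalarTower.algebraMap_apply C K (f.map (algebraMap R K)).SplittingField,
        ← IsScalarTower.algebraMap_apply R C K])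
  have hsplit : (f.map (algebraMap R (f.map (algebraMap R K)).SplittingField)).Splits := by
    rw [IsScalarTower.algebraMap_eq R K (f.map (algebraMap R K)).SplittingField,
      ← Polynomial.map_map]
    exact SplittingField.splits _
  exact isN1_of_essGen_of_splits R K C (f.map (algebraMap R K)).SplittingField hR hCK x hgen f hf
    hsplit hfx

end monic

/-- Residue fields at maximal ideals of a monogenic algebra are algebraic: there is a polynomial
with leading coefficient outside the contracted prime whose value at the generator lies in the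
maximal ideal. -/
theorem exists_leadingCoeff_notMem_of_adjoin_eq_top (R D : Type u) [CommRing R] [CommRing D]
    [Algebra R D] (x : D) (hx : Algebra.adjoin R {x} = ⊤) (m : Ideal D) [hm : m.IsMaximal] :
    ∃ g : R[X], g.leadingCoeff ∉ m.comap (algebraMap R D) ∧ aeval x g ∈ m := by
  set n : Ideal R := m.comap (algebraMap R D) with hn
  haveI : n.IsPrime := Ideal.comap_isPrime _ _
  have h1n : (1 : R) ∉ n := (Ideal.ne_top_iff_one n).1 (Ideal.IsPrime.ne_top inferInstance)
  by_cases hxm : x ∈ m
  · refine ⟨X, ?_, ?_⟩
    · rw [leadingCoeff_X]; exact h1n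
    · rwa [aeval_X]
  obtain ⟨d, i, hi, hdi⟩ := hm.exists_inv hxm
  have hd : d ∈ Algebra.adjoin R {x} := by rw [hx]; trivial
  rw [Algebra.adjoin_singleton_eq_range_aeval] at hd
  obtain ⟨p, rfl⟩ := hd
  set g₀ : R[X] := X * p - 1 with hg₀
  have hg₀x : aeval x g₀ ∈ m := by
    have : aeval x g₀ = -i := by
      rw [hg₀, map_sub, map_mul, aeval_X, map_one]
      linear_combination hdi
    rw [this]
    exact m.neg_mem hi
  haveI : Nontrivial (R ⧸ n) := Ideal.Quotient.nontrivial_iff.mpr (Ideal.IsPrime.ne_top inferInstance)
  have hgbar : g₀.map (Ideal.Quotient.mk n) ≠ 0 := by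
    intro h
    have := congrArg (fun q => q.coeff 0) h
    simp only [coeff_map, coeff_zero] at this
    rw [hg₀, coeff_sub, coeff_X_mul_zero, coeff_one_zero, zero_sub, map_neg, map_one,
      neg_eq_zero] at this
    exact one_ne_zero this
  have hlift : g₀.map (Ideal.Quotient.mk n) ∈ lifts (Ideal.Quotient.mk n) :=
    (mem_lifts _).2 ⟨g₀, rfl⟩
  obtain ⟨g', hg'map, hg'deg⟩ := mem_lifts_and_degree_eq hlift
  refine ⟨g', ?_, ?_⟩
  · intro hlc
    have h2 : (g₀.map (Ideal.Quotient.mk n)).leadingCoeff = 0 := by
      rw [← hg'map, leadingCoeff, coeff_map]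
      have : (g'.map (Ideal.Quotient.mk n)).natDegree = g'.natDegree := by
        rw [hg'map]
        exact natDegree_eq_natDegree hg'deg.symm
      rw [this]
      exact Ideal.Quotient.eq_zero_iff_mem.2 hlc
    exact hgbar (leadingCoeff_eq_zero.1 h2)
  · have h3 : ∀ i, (g₀ - g').coeff i ∈ n := by
      intro i
      rw [← Ideal.Quotient.eq_zero_iff_mem, ← coeff_map, Polynomial.map_sub, hg'map, sub_self,
        coeff_zero]
    have h4 : aeval x (g₀ - g') ∈ m := by
      rw [aeval_eq_sum_range]
      refine Ideal.sum_mem _ (fun i _ => ?_)
      rw [Algebra.smul_def]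
      exact Ideal.mul_mem_right _ _ (h3 i)
    have : aeval x g' = aeval x g₀ - aeval x (g₀ - g') := by
      rw [map_sub (aeval x) g₀ g']; ring
    rw [this]
    exact Ideal.sub_mem _ hg₀x h4

section adjoin

variable (R : Type u) [CommRing R] [IsDomain R] [IsNoetherianRing R] [IsIntegrallyClosed R]
  (K : Type u) [Field K] [Algebra R K] [IsFractionRing R K]
  (D : Type u) [CommRing D] [IsDomain D] [Algebra R D]
  [Algebra D K] [IsScalarTower R D K]

set_option maxHeartbeats 800000 in
/-- For a normal Nagata domain `R` with fraction field `K` and `x ∈ K`, the ring `R[x]` is N-1. -/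
theorem isN1_of_adjoin_eq_top (hR : IsNagata R) (hDK : Function.Injective (algebraMap D K))
    (x : D) (hx : Algebra.adjoin R {x} = ⊤) : IsN1 D := by
  haveI : Algebra.FiniteType R D := ⟨⟨{x}, by simpa using hx⟩⟩
  haveI : IsNoetherianRing D := Algebra.FiniteType.isNoetherianRing R D
  have hinj : Function.Injective (algebraMap R D) := by
    have h1 : Function.Injective (algebraMap R K) := IsFractionRing.injective R K
    rw [IsScalarTower.algebraMap_eq R D K] at h1
    exact Function.Injective.of_comp h1
  have hrange : ∀ d : D, ∃ g : R[X], aeval x g = d := by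
    intro d
    have hd : d ∈ Algebra.adjoin R {x} := by rw [hx]; trivial
    rw [Algebra.adjoin_singleton_eq_range_aeval] at hd
    exact hd
  have hgenD : EssGen R D x := by
    intro d
    obtain ⟨g, hg⟩ := hrange d
    exact ⟨g, 1, by simp, by simp [hg]⟩
  obtain ⟨⟨a, ha⟩, b, hb⟩ :=
    IsLocalization.exists_integer_multiple (nonZeroDivisors R) (algebraMap D K x)
  have ha0 : a ≠ 0 := nonZeroDivisors.ne_zero ha
  have hab : x * algebraMap R D a = algebraMap R D b := by
    apply hDK
    rw [map_mul, ← IsScalarTower.algebraMap_apply R D K, ← IsScalarTower.algebraMap_apply R D K,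
      hb]
    show _ = a • _
    rw [Algebra.smul_def, mul_comm]
  have ha' : algebraMap R D a ≠ 0 := fun h => ha0 (hinj (by rw [h, map_zero]))
  haveI := isIntegrallyClosed_away_of_essGen R K D hDK x hgenD a b ha0 hab
  refine isN1_of_away_of_atPrime D (algebraMap R D a) ha' ?_
  intro m hm
  haveI hmp : m.IsPrime := hm.isPrime
  -- the local ring `C = D_m` inside `K`
  have hunits : ∀ y : m.primeCompl, IsUnit (algebraMap D K y) := by
    intro y
    apply IsUnit.mk0
    intro h
    have : (y : D) = 0 := hDK (by rw [h, map_zero])
    exact y.2 (this ▸ m.zero_mem)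
  letI : Algebra (Localization.AtPrime m) K :=
    (IsLocalization.lift (M := m.primeCompl) (g := algebraMap D K) hunits).toAlgebra
  haveI : IsScalarTower D (Localization.AtPrime m) K := IsScalarTower.of_algebraMap_eq (fun r => by
    rw [RingHom.algebraMap_toAlgebra, IsLocalization.lift_eq])
  haveI : IsDomain (Localization.AtPrime m) :=
    IsLocalization.isDomain_of_le_nonZeroDivisors (M := m.primeCompl) _
      m.primeCompl_le_nonZeroDivisors
  haveI : IsNoetherianRing (Localization.AtPrime m) :=
    IsLocalization.isNoetherianRing m.primeCompl _ inferInstance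
  have hCK : Function.Injective (algebraMap (Localization.AtPrime m) K) := by
    rw [injective_iff_map_eq_zero]
    intro z hz
    obtain ⟨c, s, rfl⟩ := IsLocalization.exists_mk'_eq m.primeCompl z
    have h1 : algebraMap (Localization.AtPrime m) K (IsLocalization.mk' _ c s) *
        algebraMap D K s = algebraMap D K c := by
      rw [IsScalarTower.algebraMap_apply D (Localization.AtPrime m) K,
        IsScalarTower.algebraMap_apply D (Localization.AtPrime m) K, ← map_mul,
        IsLocalization.mk'_spec]
    rw [hz, zero_mul] at h1
    have : c = 0 := hDK (by rw [← h1, map_zero])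
    rw [this, IsLocalization.mk'_zero]
  -- the local base `R_n`
  set n : Ideal R := m.comap (algebraMap R D) with hn
  haveI : n.IsPrime := Ideal.comap_isPrime _ _
  have hunitsR : ∀ y : n.primeCompl,
      IsUnit (algebraMap R (Localization.AtPrime m) y) := by
    intro y
    rw [IsScalarTower.algebraMap_apply R D (Localization.AtPrime m)]
    exact (IsLocalization.AtPrime.isUnit_to_map_iff (Localization.AtPrime m) m _).2 y.2
  letI : Algebra (Localization.AtPrime n) (Localization.AtPrime m) :=
    (IsLocalization.lift (M := n.primeCompl) (g := algebraMap R (Localization.AtPrime m))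
      hunitsR).toAlgebra
  haveI : IsScalarTower R (Localization.AtPrime n) (Localization.AtPrime m) :=
    IsScalarTower.of_algebraMap_eq (fun r => by
      rw [RingHom.algebraMap_toAlgebra, IsLocalization.lift_eq])
  letI : Algebra (Localization.AtPrime n) K :=
    ((algebraMap (Localization.AtPrime m) K).comp
      (algebraMap (Localization.AtPrime n) (Localization.AtPrime m))).toAlgebra
  haveI : IsScalarTower (Localization.AtPrime n) (Localization.AtPrime m) K :=
    IsScalarTower.of_algebraMap_eq (fun _ => rfl)
  haveI : IsScalarTower R (Localization.AtPrime m) K := IsScalarTower.of_algebraMap_eq (fun r => by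
    rw [IsScalarTower.algebraMap_apply R D (Localization.AtPrime m),
      ← IsScalarTower.algebraMap_apply D (Localization.AtPrime m) K,
      ← IsScalarTower.algebraMap_apply R D K])
  haveI : IsScalarTower R (Localization.AtPrime n) K := IsScalarTower.of_algebraMap_eq (fun r => by
    rw [IsScalarTower.algebraMap_apply (Localization.AtPrime n) (Localization.AtPrime m) K,
      ← IsScalarTower.algebraMap_apply R (Localization.AtPrime n) (Localization.AtPrime m),
      ← IsScalarTower.algebraMap_apply R (Localization.AtPrime m) K])
  haveI : IsFractionRing (Localization.AtPrime n) K :=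
    IsFractionRing.isFractionRing_of_isDomain_of_isLocalization n.primeCompl
      (Localization.AtPrime n) K
  haveI : IsDomain (Localization.AtPrime n) :=
    IsLocalization.isDomain_of_le_nonZeroDivisors (M := n.primeCompl) _
      n.primeCompl_le_nonZeroDivisors
  haveI : IsIntegrallyClosed (Localization.AtPrime n) :=
    isIntegrallyClosed_of_isLocalization _ n.primeCompl n.primeCompl_le_nonZeroDivisors
  haveI : IsNoetherianRing (Localization.AtPrime n) :=
    IsLocalization.isNoetherianRing n.primeCompl _ inferInstance
  have hN : IsNagata (Localization.AtPrime n) :=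
    isNagata_of_isLocalization n.primeCompl (Localization.AtPrime n) hR
  -- generation
  set x₁ : Localization.AtPrime m := algebraMap D (Localization.AtPrime m) x with hx₁
  have hgen₀ : EssGen R (Localization.AtPrime m) x₁ := by
    intro z
    obtain ⟨d, s, rfl⟩ := IsLocalization.exists_mk'_eq m.primeCompl z
    obtain ⟨g, hg⟩ := hrange d
    obtain ⟨h, hh⟩ := hrange (s : D)
    refine ⟨g, h, ?_, ?_⟩
    · rw [hx₁, aeval_algebraMap_apply, hh]
      exact (IsLocalization.AtPrime.isUnit_to_map_iff (Localization.AtPrime m) m _).2 s.2
    · rw [hx₁, aeval_algebraMap_apply, aeval_algebraMap_apply, hh, hg]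
      exact IsLocalization.mk'_spec _ _ _
  have hgen₁ : EssGen (Localization.AtPrime n) (Localization.AtPrime m) x₁ := hgen₀.map
  -- the monic polynomial
  obtain ⟨g, hglc, hgx⟩ := exists_leadingCoeff_notMem_of_adjoin_eq_top R D x hx m
  set u : Localization.AtPrime n :=
    IsLocalization.mk' (Localization.AtPrime n) (1 : R) (⟨g.leadingCoeff, hglc⟩ : n.primeCompl)
    with hu
  have hinjn : Function.Injective (algebraMap R (Localization.AtPrime n)) :=
    IsLocalization.injective _ n.primeCompl_le_nonZeroDivisors
  have hmonic : (Polynomial.C u * g.map (algebraMap R (Localization.AtPrime n))).Monic := by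
    apply monic_C_mul_of_mul_leadingCoeff_eq_one
    rw [leadingCoeff_map_of_injective hinjn, hu]
    have := IsLocalization.mk'_spec (Localization.AtPrime n) (1 : R)
      (⟨g.leadingCoeff, hglc⟩ : n.primeCompl)
    rw [map_one] at this
    exact this
  have hfx : aeval x₁ (Polynomial.C u * g.map (algebraMap R (Localization.AtPrime n))) ∈
      maximalIdeal (Localization.AtPrime m) := by
    rw [map_mul, aeval_C, aeval_map_algebraMap, hx₁, aeval_algebraMap_apply]
    refine Ideal.mul_mem_left _ _ ?_
    exact (IsLocalization.AtPrime.to_map_mem_maximal_iff (Localization.AtPrime m) m _).2 hgx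
  exact isN1_of_essGen_of_monic (Localization.AtPrime n) K (Localization.AtPrime m) hN hCK x₁ hgen₁
    _ hmonic hfx

end adjoin

end Groth.Agent.Lib.Helper18.Nag
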