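import Mathlib
import Groth.Agent.Lib.Helper18.NagFT9
import Groth.Agent.Lib.Helper20.Nagata

/-!
# Monogenic domain extensions of Nagata domains are N-2
-/

set_option autoImplicit false
set_option linter.style.haveILetI false
set_option linter.unusedSectionVars false
universe u
open CAlg TensorProduct IsLocalRing Polynomial Groth.Agent.Lib.Helper11.Japanese

namespace Groth.Agent.Lib.Helper18.Nag

/-- The fraction field of an algebraic monogenic extension is finite over the base fraction
field. -/
theorem finiteDimensional_of_adjoin_eq_top_of_aeval_eq_zero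
    (R D : Type u) [CommRing R] [IsDomain R] [CommRing D] [IsDomain D] [Algebra R D]
    (x : D) (hx : Algebra.adjoin R {x} = ⊤) (p : R[X]) (hp : p ≠ 0) (hpx : aeval x p = 0)
    (K : Type u) [Field K] [Algebra R K] [IsFractionRing R K]
    (L : Type u) [Field L] [Algebra D L] [IsFractionRing D L] [Algebra K L] [Algebra R L]
    [IsScalarTower R K L] [IsScalarTower R D L] : FiniteDimensional K L := by
  set xL : L := algebraMap D L x with hxL
  have hint : IsIntegral K xL := by
    apply IsAlgebraic.isIntegral
    refine ⟨p.map (algebraMap R K), ?_, ?_⟩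
    · rwa [Ne, ← Polynomial.map_zero (algebraMap R K),
        (Polynomial.map_injective _ (IsFractionRing.injective R K)).eq_iff]
    · rw [aeval_map_algebraMap, hxL, aeval_algebraMap_apply, hpx, map_zero]
  have hfg := hint.fg_adjoin_singleton
  have hD : ∀ d : D, algebraMap D L d ∈ Algebra.adjoin K {xL} := by
    intro d
    have hd : d ∈ Algebra.adjoin R {x} := by rw [hx]; trivial
    rw [Algebra.adjoin_singleton_eq_range_aeval] at hd
    obtain ⟨g, rfl⟩ := hd
    rw [Algebra.adjoin_singleton_eq_range_aeval]
    exact ⟨g.map (algebraMap R K), by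
      show aeval xL (g.map (algebraMap R K)) = _
      rw [aeval_map_algebraMap, hxL, aeval_algebraMap_apply]
      rfl⟩
  have htop : Algebra.adjoin K {xL} = ⊤ := by
    rw [eq_top_iff]
    intro z _
    obtain ⟨⟨d₁, d₂⟩, hz⟩ := IsLocalization.surj (nonZeroDivisors D) z
    simp only at hz
    have hd₂ : algebraMap D L d₂ ≠ 0 := by
      intro h
      have := (IsFractionRing.injective D L) (h.trans (map_zero _).symm)
      exact nonZeroDivisors.ne_zero d₂.2 this
    have halg : IsAlgebraic K (algebraMap D L d₂) :=
      (IsIntegral.of_mem_of_fg _ hfg _ (hD d₂)).isAlgebraic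
    have hinv := (Algebra.adjoin K {xL}).inv_mem_of_algebraic (x := ⟨_, hD d₂⟩) halg
    have : z = algebraMap D L d₁ * (algebraMap D L d₂)⁻¹ := by
      rw [← hz, mul_assoc, mul_inv_cancel₀ hd₂, mul_one]
    rw [this]
    exact Subalgebra.mul_mem _ (hD d₁) hinv
  rw [htop] at hfg
  exact Module.finite_def.2 (by simpa using hfg)

/-- An intermediate ring between a domain and its fraction field has the same fraction field. -/
theorem isFractionRing_of_tower (R D K : Type u) [CommRing R] [IsDomain R] [CommRing D] [IsDomain D]
    [Field K] [Algebra R K] [IsFractionRing R K] [Algebra R D] [Algebra D K] [IsScalarTower R D K]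
    (hDK : Function.Injective (algebraMap D K)) : IsFractionRing D K := by
  refine ⟨?_, ?_, ?_⟩
  · intro y
    apply IsUnit.mk0
    intro h
    exact nonZeroDivisors.ne_zero y.2 (hDK (h.trans (map_zero _).symm))
  · intro z
    obtain ⟨⟨r₁, r₂⟩, hz⟩ := IsLocalization.surj (nonZeroDivisors R) z
    simp only at hz
    have hr₂ : algebraMap R D r₂ ∈ nonZeroDivisors D := by
      apply mem_nonZeroDivisors_of_ne_zero
      intro h
      have h1 : algebraMap R K r₂ = 0 := by
        rw [IsScalarTower.algebraMap_apply R D K, h, map_zero]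
      exact nonZeroDivisors.ne_zero r₂.2 ((IsFractionRing.injective R K) (h1.trans (map_zero _).symm))
    refine ⟨(algebraMap R D r₁, ⟨algebraMap R D r₂, hr₂⟩), ?_⟩
    simp only
    rw [← IsScalarTower.algebraMap_apply R D K, ← IsScalarTower.algebraMap_apply R D K]
    exact hz
  · intro d₁ d₂ h
    exact ⟨1, by rw [hDK h]⟩

end Groth.Agent.Lib.Helper18.Nag
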