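import Mathlib
import Groth.Agent.Lib.Helper18.NagFT10

/-!
# Monogenic domain extensions of Nagata domains are N-2, II
-/

set_option autoImplicit false
set_option linter.style.haveILetI false
set_option linter.unusedSectionVars false
universe u
open CAlg TensorProduct IsLocalRing Polynomial Groth.Agent.Lib.Helper11.Japanese

namespace Groth.Agent.Lib.Helper18.Nag

section monogenic

variable (R : Type u) [CommRing R] [IsDomain R] (D : Type u) [CommRing D] [IsDomain D]
  [Algebra R D]

set_option maxHeartbeats 1600000 in
set_option synthInstance.maxHeartbeats 400000 in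
/-- Algebraic case: finiteness of the integral closure of `D = R[x]` in a finite extension `M` of
`Frac R`. -/
theorem finite_integralClosure_of_adjoin_eq_top (hR : IsNagata R)
    (x : D) (hx : Algebra.adjoin R {x} = ⊤)
    (K : Type u) [Field K] [Algebra R K] [IsFractionRing R K]
    (M : Type u) [Field M] [Algebra D M] [Algebra K M] [Algebra R M] [IsScalarTower R K M]
    [IsScalarTower R D M] [FiniteDimensional K M] (hDM : Function.Injective (algebraMap D M)) :
    Module.Finite D (integralClosure D M) := by
  classical
  haveI : IsNoetherianRing R := hR.1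
  haveI : Algebra.FiniteType R D := ⟨⟨{x}, by simpa using hx⟩⟩
  haveI : IsNoetherianRing D := Algebra.FiniteType.isNoetherianRing R D
  haveI hfinR' : Module.Finite R (integralClosure R M) :=
    IsN2.finite (isN2_of_isNagata_of_isDomain R hR) K M
  haveI : IsNoetherianRing (integralClosure R M) := IsNoetherianRing.of_finite R _
  haveI : IsIntegrallyClosed (integralClosure R M) :=
    integralClosure.isIntegrallyClosedOfFiniteExtension K
  haveI : IsFractionRing (integralClosure R M) M :=
    integralClosure.isFractionRing_of_finite_extension K M
  have hR' : IsNagata (integralClosure R M) := isNagata_of_finite R hR _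
  let φ : D ⊗[R] (integralClosure R M) →ₐ[D] M :=
    Algebra.TensorProduct.productLeftAlgHom (Algebra.ofId D M) (integralClosure R M).val
  have hφ : ∀ (d : D) (ρ : integralClosure R M), φ (d ⊗ₜ ρ) = algebraMap D M d * (ρ : M) := by
    intro d ρ
    simp [φ, Algebra.ofId_apply]
  haveI : Module.Finite D (D ⊗[R] (integralClosure R M)) := inferInstance
  haveI hfinD' : Module.Finite D φ.range :=
    Module.Finite.of_surjective φ.rangeRestrict.toLinearMap φ.rangeRestrict_surjective
  haveI : IsNoetherianRing φ.range := IsNoetherianRing.of_finite D _
  let ι : integralClosure R M →+* φ.range :=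
    (φ.rangeRestrict.toRingHom).comp
      (Algebra.TensorProduct.includeRight (R := R) (A := D) (B := integralClosure R M)).toRingHom
  have hι : ∀ ρ : integralClosure R M, ((ι ρ : φ.range) : M) = (ρ : M) := by
    intro ρ
    show φ ((1 : D) ⊗ₜ ρ) = _
    rw [hφ, map_one, one_mul]
  letI : Algebra (integralClosure R M) φ.range := ι.toAlgebra
  haveI : IsScalarTower (integralClosure R M) φ.range M :=
    IsScalarTower.of_algebraMap_eq (fun ρ => (hι ρ).symm)
  haveI : IsScalarTower R (integralClosure R M) φ.range :=
    IsScalarTower.of_algebraMap_eq (fun r => by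
      apply Subtype.ext
      show algebraMap R M r = ((ι (algebraMap R (integralClosure R M) r) : φ.range) : M)
      rw [hι]
      rfl)
  have hD'M : Function.Injective (algebraMap φ.range M) := Subtype.val_injective
  set x' : φ.range := algebraMap D φ.range x with hx'
  have hrange : ∀ d : D, ∃ g : R[X], aeval x g = d := by
    intro d
    have hd : d ∈ Algebra.adjoin R {x} := by rw [hx]; trivial
    rw [Algebra.adjoin_singleton_eq_range_aeval] at hd
    exact hd
  have hDmem : ∀ d : D, algebraMap D φ.range d ∈ Algebra.adjoin (integralClosure R M) {x'} := by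
    intro d
    obtain ⟨g, rfl⟩ := hrange d
    have : algebraMap D φ.range (aeval x g) =
        aeval x' (g.map (algebraMap R (integralClosure R M))) := by
      rw [aeval_map_algebraMap, hx', aeval_algebraMap_apply]
    rw [this]
    exact aeval_mem_adjoin_singleton _ _
  have hx'top : Algebra.adjoin (integralClosure R M) {x'} = ⊤ := by
    rw [eq_top_iff]
    intro z _
    obtain ⟨t, ht⟩ := z.2
    have hz : z = φ.rangeRestrict t := Subtype.ext ht.symm
    rw [hz]
    clear hz ht
    induction t using TensorProduct.induction_on with
    | zero => rw [map_zero]; exact Subalgebra.zero_mem _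
    | tmul d ρ =>
      have : φ.rangeRestrict (d ⊗ₜ ρ) = algebraMap D φ.range d * ι ρ := by
        apply Subtype.ext
        show φ (d ⊗ₜ ρ) = algebraMap D M d * ((ι ρ : φ.range) : M)
        rw [hφ, hι]
      rw [this]
      exact Subalgebra.mul_mem _ (hDmem d) (Subalgebra.algebraMap_mem _ ρ)
    | add t₁ t₂ h₁ h₂ => rw [map_add]; exact Subalgebra.add_mem _ h₁ h₂
  have hN1 : IsN1 φ.range := isN1_of_adjoin_eq_top (integralClosure R M) M φ.range hR' hD'M x' hx'top
  haveI : IsFractionRing φ.range M := isFractionRing_of_tower (integralClosure R M) φ.range M hD'M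
  haveI hfin1 : Module.Finite φ.range (integralClosure φ.range M) := (isN1_iff φ.range M).1 hN1
  haveI hfin2 : Module.Finite D (integralClosure φ.range M) :=
    Module.Finite.trans φ.range (integralClosure φ.range M)
  haveI : IsNoetherian D (integralClosure φ.range M) := isNoetherian_of_isNoetherianRing_of_finite D _
  let j : integralClosure D M →ₗ[D] integralClosure φ.range M :=
    { toFun := fun z => ⟨z.1, IsIntegral.tower_top z.2⟩
      map_add' := fun _ _ => rfl
      map_smul' := fun _ _ => rfl }
  have hj : Function.Injective j := by
    intro z₁ z₂ h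
    apply Subtype.ext
    exact congrArg (fun w : integralClosure φ.range M => (w : M)) h
  exact Module.Finite.of_injective j hj

end monogenic

end Groth.Agent.Lib.Helper18.Nag
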