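import Mathlib
import Groth.Agent.Lib.Helper18.NagFT11

/-!
# Algebras of finite type over Nagata rings are Nagata
-/

set_option autoImplicit false
set_option linter.style.haveILetI false
set_option linter.unusedSectionVars false
universe u
open CAlg TensorProduct IsLocalRing Polynomial Groth.Agent.Lib.Helper11.Japanese
open Groth.Agent.Lib.Helper20.Nagata

namespace Groth.Agent.Lib.Helper18.Nag

section monogenic

variable (R : Type u) [CommRing R] [IsDomain R] (D : Type u) [CommRing D] [IsDomain D]
  [Algebra R D]

set_option maxHeartbeats 800000 in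
/-- A domain generated by one element over a Nagata subdomain is N-2. -/
theorem isN2_of_adjoin_eq_top (hR : IsNagata R) (hinj : Function.Injective (algebraMap R D))
    (x : D) (hx : Algebra.adjoin R {x} = ⊤) : IsN2 D := by
  haveI : IsNoetherianRing R := hR.1
  have hrange : ∀ d : D, ∃ g : R[X], aeval x g = d := by
    intro d
    have hd : d ∈ Algebra.adjoin R {x} := by rw [hx]; trivial
    rw [Algebra.adjoin_singleton_eq_range_aeval] at hd
    exact hd
  by_cases htr : Function.Injective (aeval x : R[X] →ₐ[R] D)
  · let e : R[X] ≃+* D := RingEquiv.ofBijective (aeval x : R[X] →ₐ[R] D).toRingHom ⟨htr, hrange⟩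
    exact isN2_of_ringEquiv e
      (Groth.Agent.Lib.Helper18.PolyN2.isN2_polynomial R (isN2_of_isNagata_of_isDomain R hR))
  · obtain ⟨p, hp, hpx⟩ : ∃ p : R[X], p ≠ 0 ∧ aeval x p = 0 := by
      rw [injective_iff_map_eq_zero] at htr
      push Not at htr
      obtain ⟨p, h1, h2⟩ := htr
      exact ⟨p, h2, h1⟩
    have hRL : Function.Injective (algebraMap R (FractionRing D)) := by
      rw [IsScalarTower.algebraMap_eq R D (FractionRing D)]
      exact (IsFractionRing.injective D (FractionRing D)).comp hinj
    letI : Algebra (FractionRing R) (FractionRing D) := (IsFractionRing.lift hRL).toAlgebra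
    haveI : IsScalarTower R (FractionRing R) (FractionRing D) :=
      IsScalarTower.of_algebraMap_eq (fun r => (IsFractionRing.lift_algebraMap hRL r).symm)
    haveI : FiniteDimensional (FractionRing R) (FractionRing D) :=
      finiteDimensional_of_adjoin_eq_top_of_aeval_eq_zero R D x hx p hp hpx (FractionRing R)
        (FractionRing D)
    intro M _ _ _ _ hfd
    haveI := hfd
    letI : Algebra R M := ((algebraMap D M).comp (algebraMap R D)).toAlgebra
    haveI : IsScalarTower R D M := IsScalarTower.of_algebraMap_eq (fun _ => rfl)
    letI : Algebra (FractionRing R) M :=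
      ((algebraMap (FractionRing D) M).comp (algebraMap (FractionRing R) (FractionRing D))).toAlgebra
    haveI : IsScalarTower (FractionRing R) (FractionRing D) M :=
      IsScalarTower.of_algebraMap_eq (fun _ => rfl)
    haveI : IsScalarTower R (FractionRing R) M := IsScalarTower.of_algebraMap_eq (fun r => by
      rw [IsScalarTower.algebraMap_apply (FractionRing R) (FractionRing D) M,
        ← IsScalarTower.algebraMap_apply R (FractionRing R) (FractionRing D),
        IsScalarTower.algebraMap_apply R D (FractionRing D),
        ← IsScalarTower.algebraMap_apply D (FractionRing D) M]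
      rfl)
    haveI : FiniteDimensional (FractionRing R) M :=
      Module.Finite.trans (FractionRing D) M
    have hDM : Function.Injective (algebraMap D M) := by
      rw [IsScalarTower.algebraMap_eq D (FractionRing D) M]
      exact (algebraMap (FractionRing D) M).injective.comp
        (IsFractionRing.injective D (FractionRing D))
    exact finite_integralClosure_of_adjoin_eq_top R D hR x hx (FractionRing R) M hDM

end monogenic

/-- Nagata rings are stable under ring isomorphisms. -/
theorem isNagata_of_ringEquiv {R S : Type u} [CommRing R] [CommRing S] (e : R ≃+* S)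
    (hR : IsNagata R) : IsNagata S := by
  letI : Algebra R S := e.toRingHom.toAlgebra
  haveI : Module.Finite R S :=
    Module.Finite.of_surjective (Algebra.linearMap R S) e.surjective
  exact isNagata_of_finite R hR S

/-- The polynomial ring over a Nagata ring is Nagata. -/
theorem isNagata_polynomial (R : Type u) [CommRing R] (hR : IsNagata R) : IsNagata R[X] := by
  haveI : IsNoetherianRing R := hR.1
  refine ⟨inferInstance, fun q hq => ?_⟩
  set p : Ideal R := q.comap (algebraMap R R[X]) with hp
  haveI : p.IsPrime := Ideal.comap_isPrime _ _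
  have hN : IsNagata (R ⧸ p) := isNagata_of_finite R hR (R ⧸ p)
  have hinj : Function.Injective (algebraMap (R ⧸ p) (R[X] ⧸ q)) :=
    Ideal.algebraMap_quotient_injective
  refine isN2_of_adjoin_eq_top (R ⧸ p) (R[X] ⧸ q) hN hinj (Ideal.Quotient.mk q X) ?_
  have key : ∀ g : R[X], aeval (Ideal.Quotient.mk q X) (g.map (Ideal.Quotient.mk p)) =
      Ideal.Quotient.mk q g := by
    intro g
    induction g using Polynomial.induction_on' with
    | add g₁ g₂ h₁ h₂ => rw [Polynomial.map_add, map_add, h₁, h₂, map_add]
    | monomial n c =>
      rw [map_monomial, aeval_monomial, ← C_mul_X_pow_eq_monomial, map_mul, map_pow]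
      rfl
  rw [eq_top_iff]
  intro z _
  obtain ⟨g, rfl⟩ := Ideal.Quotient.mk_surjective z
  rw [Algebra.adjoin_singleton_eq_range_aeval]
  exact ⟨g.map (Ideal.Quotient.mk p), key g⟩

/-- Multivariate polynomial rings in finitely many variables over Nagata rings are Nagata. -/
theorem isNagata_mvPolynomial_fin (R : Type u) [CommRing R] (hR : IsNagata R) (n : ℕ) :
    IsNagata (MvPolynomial (Fin n) R) := by
  induction n with
  | zero =>
    exact isNagata_of_ringEquiv (MvPolynomial.isEmptyAlgEquiv R (Fin 0)).symm.toRingEquiv hR
  | succ n ih =>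
    exact isNagata_of_ringEquiv (MvPolynomial.finSuccEquiv R n).symm.toRingEquiv
      (isNagata_polynomial _ ih)

/-- **Nagata's theorem**: an algebra of finite type over a Nagata ring is Nagata. -/
theorem isNagata_of_finiteType (R : Type u) [CommRing R] (hR : IsNagata R) (S : Type u)
    [CommRing S] [Algebra R S] [Algebra.FiniteType R S] : IsNagata S := by
  obtain ⟨n, f, hf⟩ := Algebra.FiniteType.iff_quotient_mvPolynomial''.1
    (inferInstance : Algebra.FiniteType R S)
  have h1 := isNagata_mvPolynomial_fin R hR n
  letI : Algebra (MvPolynomial (Fin n) R) S := f.toRingHom.toAlgebra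
  haveI : Module.Finite (MvPolynomial (Fin n) R) S :=
    Module.Finite.of_surjective (Algebra.linearMap (MvPolynomial (Fin n) R) S) hf
  exact isNagata_of_finite _ h1 S

/-- A ring is Nagata iff it is Noetherian and universally Japanese. -/
theorem isNagata_iff_isUniversallyJapanese (R : Type u) [CommRing R] :
    IsNagata R ↔ (IsNoetherianRing R ∧ IsUniversallyJapanese R) := by
  constructor
  · intro hR
    refine ⟨hR.1, fun S _ _ _ hft => ?_⟩
    haveI := hft
    exact isN2_of_isNagata_of_isDomain S (isNagata_of_finiteType R hR S)
  · rintro ⟨hN, hUJ⟩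
    refine ⟨hN, fun p hp => ?_⟩
    exact hUJ (R ⧸ p) (Algebra.FiniteType.of_surjective (Algebra.ofId R (R ⧸ p))
      Ideal.Quotient.mk_surjective)

end Groth.Agent.Lib.Helper18.Nag
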