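import Mathlib

/-!
# Flatness of a localized module over a base, in terms of kernel elements; invariance along
integral extensions
-/

set_option autoImplicit false
set_option linter.style.haveILetI false

universe u

namespace Groth.Agent.Lib.Helper18.FACP

open TensorProduct

section LocInj

variable {A : Type*} [CommRing A] (T : Submonoid A) {X Y X' Y' : Type*}
  [AddCommGroup X] [Module A X] [AddCommGroup Y] [Module A Y]
  [AddCommGroup X'] [Module A X'] [AddCommGroup Y'] [Module A Y']
  (gX : X →ₗ[A] X') (gY : Y →ₗ[A] Y') [IsLocalizedModule T gX] [IsLocalizedModule T gY]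

/-- The localization of a linear map is injective iff every element of the kernel is killed by
an element of the submonoid. -/
theorem injective_map_iff (φ : X →ₗ[A] Y) :
    Function.Injective (IsLocalizedModule.map T gX gY φ) ↔
      ∀ z, φ z = 0 → ∃ t ∈ T, t • z = 0 := by
  constructor
  · intro h z hz
    have h1 : gX z = 0 := by
      apply h
      rw [IsLocalizedModule.map_apply, hz, map_zero, map_zero]
    obtain ⟨c, hc⟩ := (IsLocalizedModule.eq_zero_iff T gX).mp h1
    exact ⟨c.1, c.2, by rwa [Submonoid.smul_def] at hc⟩
  · intro h
    rw [injective_iff_map_eq_zero]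
    intro x hx
    obtain ⟨⟨z, t⟩, hzt⟩ := IsLocalizedModule.surj T gX x
    rw [Submonoid.smul_def] at hzt
    have h1 : IsLocalizedModule.map T gX gY φ (gX z) = 0 := by
      rw [← hzt, map_smul, hx, smul_zero]
    rw [IsLocalizedModule.map_apply] at h1
    obtain ⟨c, hc⟩ := (IsLocalizedModule.eq_zero_iff T gY).mp h1
    rw [Submonoid.smul_def] at hc
    have h2 : φ ((c : A) • z) = 0 := by rw [map_smul]; exact hc
    obtain ⟨t', ht', ht'z⟩ := h _ h2
    have h3 : gX z = 0 := by
      rw [IsLocalizedModule.eq_zero_iff T gX]
      refine ⟨⟨t', ht'⟩ * c, ?_⟩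
      rw [Submonoid.smul_def, Submonoid.coe_mul, mul_smul]
      exact ht'z
    rw [h3] at hzt
    exact IsLocalizedModule.smul_injective gX t (by
      change t • x = t • (0 : X')
      rw [Submonoid.smul_def, hzt, smul_zero])

end LocInj

section FLC

variable {R A M M' : Type*} [CommRing R] [CommRing A] [Algebra R A]
  [AddCommGroup M] [Module R M] [Module A M] [IsScalarTower R A M]
  [AddCommGroup M'] [Module R M'] [Module A M'] [IsScalarTower R A M']

/-- **Flatness of a localization over the base in terms of kernel elements.** -/
theorem flat_isLocalizedModule_iff (T : Submonoid A) (g : M →ₗ[A] M') [IsLocalizedModule T g] :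
    Module.Flat R M' ↔ ∀ (I : Ideal R) (z : M ⊗[R] I),
      LinearMap.lTensor M I.subtype z = 0 → ∃ t ∈ T, t • z = 0 := by
  rw [Module.Flat.iff_lTensor_injective']
  refine forall_congr' fun I => ?_
  rw [← AlgebraTensorModule.coe_lTensor (A := A),
    ← IsLocalizedModule.map_lTensor (S := T) (g := g)]
  exact injective_map_iff T _ _ _

end FLC

section Integral

variable {A' B' C' : Type u} [CommRing A'] [CommRing B'] [CommRing C'] [Algebra A' B']
  [Algebra B' C'] [Algebra A' C'] [IsScalarTower A' B' C'] [Algebra.IsIntegral B' C']
  {E : Type u} [AddCommGroup E] [Module C' E] [Module B' E] [IsScalarTower B' C' E] [Module A' E]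
  [IsScalarTower A' C' E] [IsScalarTower A' B' E]

/-- Flatness over the base at a prime of `B'` of a module over an integral `B'`-algebra `C'` can
be checked at the primes of `C'` over it. -/
theorem flat_localizedModule_iff_of_isIntegral (q : Ideal B') [q.IsPrime] :
    Module.Flat A' (LocalizedModule q.primeCompl E) ↔
      ∀ (r : Ideal C') [r.IsPrime], r.comap (algebraMap B' C') = q →
        Module.Flat A' (LocalizedModule r.primeCompl E) := by
  rw [flat_isLocalizedModule_iff (R := A') (A := B') q.primeCompl
    (LocalizedModule.mkLinearMap q.primeCompl E)]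
  constructor
  · intro h r hr hrq
    rw [flat_isLocalizedModule_iff (R := A') (A := C') r.primeCompl
      (LocalizedModule.mkLinearMap r.primeCompl E)]
    intro I z hz
    obtain ⟨t, ht, htz⟩ := h I z hz
    refine ⟨algebraMap B' C' t, ?_, ?_⟩
    · intro hmem
      apply ht
      rw [← hrq]
      exact hmem
    · rw [algebraMap_smul]
      exact htz
  · intro h I z hz
    by_contra hno
    push Not at hno
    set J : Ideal C' := Ideal.torsionOf C' (E ⊗[A'] I) z with hJ
    have hle : J.comap (algebraMap B' C') ≤ q := by
      intro b hb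
      by_contra hbq
      apply hno b hbq
      have : algebraMap B' C' b • z = 0 := (Ideal.mem_torsionOf_iff _ _).mp hb
      rwa [algebraMap_smul] at this
    obtain ⟨r, hJr, hr, hrq⟩ := Ideal.exists_ideal_over_prime_of_isIntegral q J hle
    have h1 := h r hrq
    rw [flat_isLocalizedModule_iff (R := A') (A := C') r.primeCompl
      (LocalizedModule.mkLinearMap r.primeCompl E)] at h1
    obtain ⟨s, hs, hsz⟩ := h1 I z hz
    exact hs (hJr ((Ideal.mem_torsionOf_iff _ _).mpr hsz))

end Integral

end Groth.Agent.Lib.Helper18.FACP
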