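import Mathlib
import Groth.Agent.Lib.Helper18.FACP1

/-!
# Flatness above the closed points: invariance under a finite local extension (ring level)
-/

set_option autoImplicit false
set_option linter.style.haveILetI false
set_option linter.unusedSectionVars false

universe u

namespace Groth.Agent.Lib.Helper18.FACP

open TensorProduct

section Congr

variable {R A : Type*} [CommRing R] [CommRing A] [Algebra R A] {M N : Type*}
  [AddCommGroup M] [Module R M] [Module A M] [IsScalarTower R A M]
  [AddCommGroup N] [Module R N] [Module A N] [IsScalarTower R A N]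

/-- Flatness over the base of the localization only depends on the module over the algebra. -/
theorem flat_localizedModule_congr (T : Submonoid A) (e : M ≃ₗ[A] N) :
    Module.Flat R (LocalizedModule T M) ↔ Module.Flat R (LocalizedModule T N) := by
  rw [flat_isLocalizedModule_iff (R := R) T (LocalizedModule.mkLinearMap T M),
    ← flat_isLocalizedModule_iff (R := R) T ((LocalizedModule.mkLinearMap T N) ∘ₗ e.toLinearMap)]

end Congr

section Psi

variable (A B C A' B' C' : Type u) [CommRing A] [CommRing B] [CommRing C] [CommRing A']
  [CommRing B'] [CommRing C']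
  [Algebra A B] [Algebra B C] [Algebra A C] [IsScalarTower A B C] [Algebra A A']
  [Algebra B B'] [Algebra A' B'] [Algebra A B'] [IsScalarTower A B B'] [IsScalarTower A A' B']
  [Algebra.IsPushout A B A' B']
  [Algebra C C'] [Algebra A' C'] [Algebra A C'] [IsScalarTower A C C'] [IsScalarTower A A' C']

/-- The canonical map between the base changes. -/
noncomputable def psi : B' →ₐ[A] C' :=
  Algebra.pushoutDesc B' ((IsScalarTower.toAlgHom A C C').comp (IsScalarTower.toAlgHom A B C))
    (IsScalarTower.toAlgHom A A' C') (fun _ _ => mul_comm _ _)

theorem psi_algebraMap_left (b : B) :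
    psi A B C A' B' C' (algebraMap B B' b) = algebraMap C C' (algebraMap B C b) := by
  rw [psi, Algebra.pushoutDesc_left]
  rfl

theorem psi_algebraMap_right (a : A') :
    psi A B C A' B' C' (algebraMap A' B' a) = algebraMap A' C' a := by
  rw [psi, Algebra.pushoutDesc_right]
  rfl

end Psi

section Rad

variable {B C : Type u} [CommRing B] [IsLocalRing B] [CommRing C] [IsLocalRing C] [Algebra B C]
  [IsLocalHom (algebraMap B C)] [Algebra.IsIntegral B C]

theorem maximalIdeal_le_radical_map :
    IsLocalRing.maximalIdeal C ≤
      ((IsLocalRing.maximalIdeal B).map (algebraMap B C)).radical := by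
  rw [Ideal.radical_eq_sInf]
  refine le_sInf ?_
  rintro P ⟨hP, hPprime⟩
  have h1 : IsLocalRing.maximalIdeal B ≤ P.comap (algebraMap B C) := Ideal.map_le_iff_le_comap.mp hP
  haveI := hPprime
  have h2 : P.comap (algebraMap B C) = IsLocalRing.maximalIdeal B :=
    ((IsLocalRing.maximalIdeal.isMaximal B).eq_of_le (Ideal.IsPrime.ne_top inferInstance) h1).symm
  have h3 : P.IsMaximal := by
    refine Ideal.isMaximal_of_isIntegral_of_isMaximal_comap (R := B) P ?_
    rw [h2]
    infer_instance
  rw [IsLocalRing.eq_maximalIdeal h3]

end Rad

end Groth.Agent.Lib.Helper18.FACP
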