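import Mathlib
import Groth.Prelude.Def_KZero
import Groth.Prelude.Def_SGA6
import Groth.Agent.Lib.Helper18.AD2

/-! # `K₀` along a fully faithful exact functor onto its essential image (helper18) -/

set_option autoImplicit false
universe v' u' v u

open CategoryTheory CategoryTheory.Limits
open scoped ZeroObject

namespace Groth.Agent.Lib.Helper18.AD3

open Groth.Agent.Lib.Helper18 Groth.Agent.Lib.Helper18.AD2

variable {A' : Type u'} [Category.{v'} A'] [Abelian A'] {A : Type u} [Category.{v} A] [Abelian A]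
  (Φ : A' ⥤ A) [Φ.Additive] [PreservesFiniteLimits Φ] [PreservesFiniteColimits Φ]

theorem mapSub_clSub (P' : ObjectProperty A') (Q : ObjectProperty A)
    (h : ∀ X, P' X → Q (Φ.obj X)) {M : A'} (hM : P' M) :
    SGA6.mapSub Φ P' Q h (KZero.clSub P' M) = KZero.clSub Q (Φ.obj M) := by
  rw [clSub_of P' hM, clSub_of Q (h _ hM)]
  change QuotientAddGroup.mk _ = _
  rw [FreeAbelianGroup.map_of_apply]
  rfl

variable (P' : ObjectProperty A')

/-- the essential image of `P'` -/
def essIm : ObjectProperty A := fun M => ∃ F : A', P' F ∧ Nonempty (Φ.obj F ≅ M)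

theorem essIm_obj {F : A'} (hF : P' F) : essIm Φ P' (Φ.obj F) := ⟨F, hF, ⟨Iso.refl _⟩⟩

theorem essIm_of_isZero (hzero : ∀ F : A', IsZero F → P' F) {M : A} (hM : IsZero M) :
    essIm Φ P' M :=
  ⟨0, hzero _ (isZero_zero A'), ⟨(Φ.map_isZero (isZero_zero A')).iso hM⟩⟩

variable [Φ.Full] [Φ.Faithful]

theorem bijective_mapSub_essIm (hiso : ∀ {F G : A'}, (F ≅ G) → P' F → P' G)
    (hzero : ∀ F : A', IsZero F → P' F) :
    Function.Bijective (SGA6.mapSub Φ P' (essIm Φ P') (fun _ hF => essIm_obj Φ P' hF)) := by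
  classical
  constructor
  · -- injective, via a left inverse
    let pre : Subtype (essIm Φ P') → KZero.K0sub P' := fun x => KZero.clSub P' x.2.choose
    have hker : KZero.relSub (essIm Φ P') ≤ (FreeAbelianGroup.lift pre).ker := by
      rw [KZero.relSub, AddSubgroup.closure_le]
      rintro x ⟨S, h₁, h₂, h₃, hS, rfl⟩
      change FreeAbelianGroup.lift pre _ = 0
      rw [map_sub, map_sub, FreeAbelianGroup.lift_apply_of, FreeAbelianGroup.lift_apply_of,
        FreeAbelianGroup.lift_apply_of]
      change KZero.clSub P' h₂.choose - KZero.clSub P' h₁.choose - KZero.clSub P' h₃.choose = 0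
      obtain ⟨p1, ⟨e1⟩⟩ := h₁.choose_spec
      obtain ⟨p2, ⟨e2⟩⟩ := h₂.choose_spec
      obtain ⟨p3, ⟨e3⟩⟩ := h₃.choose_spec
      set F₁ := h₁.choose
      set F₂ := h₂.choose
      set F₃ := h₃.choose
      let a : F₁ ⟶ F₂ := Φ.preimage (e1.hom ≫ S.f ≫ e2.inv)
      let b : F₂ ⟶ F₃ := Φ.preimage (e2.hom ≫ S.g ≫ e3.inv)
      have hab : a ≫ b = 0 := by
        apply Φ.map_injective
        rw [Φ.map_comp, Φ.map_preimage, Φ.map_preimage, Functor.map_zero]
        simp
      let S' : ShortComplex A' := ShortComplex.mk a b hab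
      let eS : S'.map Φ ≅ S := ShortComplex.isoMk e1 e2 e3
        (by
          change e1.hom ≫ S.f = Φ.map a ≫ e2.hom
          rw [Φ.map_preimage, Category.assoc, Category.assoc, e2.inv_hom_id, Category.comp_id])
        (by
          change e2.hom ≫ S.g = Φ.map b ≫ e3.hom
          rw [Φ.map_preimage, Category.assoc, Category.assoc, e3.inv_hom_id, Category.comp_id])
      have hS'Φ : (S'.map Φ).ShortExact := ShortComplex.shortExact_of_iso eS.symm hS
      haveI := hS'Φ.mono_f
      haveI := hS'Φ.epi_g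
      have hS' : S'.ShortExact := by
        haveI : Mono S'.f := Φ.mono_of_mono_map (show Mono ((S'.map Φ).f) from inferInstance)
        haveI : Epi S'.g := Φ.epi_of_epi_map (show Epi ((S'.map Φ).g) from inferInstance)
        exact ShortComplex.ShortExact.mk ((ShortComplex.exact_map_iff_of_faithful S' Φ).mp hS'Φ.exact)
      have := clSub_add P' S' hS' p1 p2 p3
      simp only [S'] at this
      rw [this]
      abel
    let chi : KZero.K0sub (essIm Φ P') →+ KZero.K0sub P' :=
      QuotientAddGroup.lift (KZero.relSub (essIm Φ P')) (FreeAbelianGroup.lift pre) hker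
    have hchi : ∀ (M : A) (hM : essIm Φ P' M), chi (KZero.clSub (essIm Φ P') M) =
        KZero.clSub P' hM.choose := by
      intro M hM
      rw [clSub_of (essIm Φ P') hM]
      change FreeAbelianGroup.lift pre _ = _
      rw [FreeAbelianGroup.lift_apply_of]
    have h1 : ∀ x : KZero.K0sub P',
        chi (SGA6.mapSub Φ P' (essIm Φ P') (fun _ hF => essIm_obj Φ P' hF) x) = x := by
      intro x
      induction x using K0sub_induction with
      | h0 => simp
      | hcl M hM =>
        rw [mapSub_clSub Φ P' (essIm Φ P') _ hM, hchi _ (essIm_obj Φ P' hM)]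
        obtain ⟨p, ⟨e⟩⟩ := (essIm_obj Φ P' hM).choose_spec
        let e' : (essIm_obj Φ P' hM).choose ≅ M := Φ.preimageIso e
        exact (clSub_iso P' e' p hM (hzero _ (isZero_cokernel_of_epi e'.hom))).symm
      | hneg x ih => rw [map_neg, map_neg, ih]
      | hadd x y ihx ihy => rw [map_add, map_add, ihx, ihy]
    exact Function.LeftInverse.injective h1
  · intro y
    induction y using K0sub_induction with
    | h0 => exact ⟨0, map_zero _⟩
    | hcl M hM =>
      obtain ⟨F, hF, ⟨e⟩⟩ := hM
      refine ⟨KZero.clSub P' F, ?_⟩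
      rw [mapSub_clSub Φ P' (essIm Φ P') _ hF]
      exact (clSub_iso (essIm Φ P') e (essIm_obj Φ P' hF) ⟨F, hF, ⟨e⟩⟩
        (essIm_of_isZero Φ P' hzero (isZero_cokernel_of_epi e.hom))).symm
    | hneg x ih =>
      obtain ⟨a, ha⟩ := ih
      exact ⟨-a, by rw [map_neg, ha]⟩
    | hadd x y ihx ihy =>
      obtain ⟨a, ha⟩ := ihx
      obtain ⟨b, hb⟩ := ihy
      exact ⟨a + b, by rw [map_add, ha, hb]⟩

end Groth.Agent.Lib.Helper18.AD3
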