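import Mathlib
import Groth.Prelude.Def_KZero
import Groth.Prelude.Def_SGA6
import Groth.Agent.Lib.Helper18.AD3

/-! # Abstract localization sequence for `K₀` (helper18)

For an exact functor `R : A ⥤ B` which is "a localization on the level of the subcategories
`QA`, `QB`" (hypotheses `L1`–`L3`), `K₀(QA) → K₀(QB)` is surjective with kernel generated by the
classes of the objects killed by `R`. -/

set_option autoImplicit false
universe v' u' v u

open CategoryTheory CategoryTheory.Limits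

namespace Groth.Agent.Lib.Helper18.AL1

open Groth.Agent.Lib.Helper18 Groth.Agent.Lib.Helper18.AD2

variable {A : Type u} [Category.{v} A] [Abelian A] {B : Type u'} [Category.{v'} B] [Abelian B]
  (R : A ⥤ B) [R.Additive] [PreservesFiniteLimits R] [PreservesFiniteColimits R]

/-- hypotheses of the localization theorem -/
structure LocHyp (QA : ObjectProperty A) (QB : ObjectProperty B) : Prop where
  map : ∀ M, QA M → QB (R.obj M)
  QA_ker : ∀ {M N : A} (f : M ⟶ N), QA M → QA N → QA (kernel f)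
  QA_coker : ∀ {M N : A} (f : M ⟶ N), QA M → QA N → QA (cokernel f)
  QB_zero : ∀ N : B, IsZero N → QB N
  L1 : ∀ N, QB N → ∃ M, QA M ∧ Nonempty (R.obj M ≅ N)
  L2 : ∀ M₁ M₂, QA M₁ → QA M₂ → (R.obj M₁ ≅ R.obj M₂) →
    ∃ (M₃ : A) (a : M₃ ⟶ M₁) (b : M₃ ⟶ M₂), QA M₃ ∧ IsIso (R.map a) ∧ IsIso (R.map b)
  L3 : ∀ S : ShortComplex B, S.ShortExact → QB S.X₁ → QB S.X₂ → QB S.X₃ →
    ∃ S' : ShortComplex A, S'.ShortExact ∧ QA S'.X₁ ∧ QA S'.X₂ ∧ QA S'.X₃ ∧
      Nonempty (R.obj S'.X₁ ≅ S.X₁) ∧ Nonempty (R.obj S'.X₂ ≅ S.X₂) ∧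
      Nonempty (R.obj S'.X₃ ≅ S.X₃)

/-- the subgroup generated by the classes of the objects killed by `R` -/
def T (QA : ObjectProperty A) : AddSubgroup (KZero.K0sub QA) :=
  AddSubgroup.closure {c | ∃ M, QA M ∧ IsZero (R.obj M) ∧ c = KZero.clSub QA M}

variable {QA : ObjectProperty A} {QB : ObjectProperty B}

theorem clSub_mem_T {M : A} (hM : QA M) (hz : IsZero (R.obj M)) : KZero.clSub QA M ∈ T R QA :=
  AddSubgroup.subset_closure ⟨M, hM, hz, rfl⟩

variable {R}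

theorem sub_mem_T_of_isIso (H : LocHyp R QA QB) {M₃ M₁ : A} (a : M₃ ⟶ M₁) (h3 : QA M₃)
    (h1 : QA M₁) [IsIso (R.map a)] : KZero.clSub QA M₃ - KZero.clSub QA M₁ ∈ T R QA := by
  have hK : QA (kernel a) := H.QA_ker a h3 h1
  have hC : QA (cokernel a) := H.QA_coker a h3 h1
  have hI : QA (Abelian.image a) := H.QA_ker _ h1 hC
  have e1 := clSub_add QA _ (AD1.shortExact_ker_im a) hK h3 hI
  have e2 := clSub_add QA _ (AD1.shortExact_im_coker a) hI h1 hC
  simp only at e1 e2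
  have hzK : IsZero (R.obj (kernel a)) :=
    IsZero.of_iso (isZero_kernel_of_mono (R.map a)) (PreservesKernel.iso R a)
  have hzC : IsZero (R.obj (cokernel a)) :=
    IsZero.of_iso (isZero_cokernel_of_epi (R.map a)) (PreservesCokernel.iso R a)
  have : KZero.clSub QA M₃ - KZero.clSub QA M₁ =
      KZero.clSub QA (kernel a) - KZero.clSub QA (cokernel a) := by
    rw [e1, e2]; abel
  rw [this]
  exact (T R QA).sub_mem (clSub_mem_T R hK hzK) (clSub_mem_T R hC hzC)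

theorem mk_clSub_eq_of_iso (H : LocHyp R QA QB) {M₁ M₂ : A} (h1 : QA M₁) (h2 : QA M₂)
    (e : R.obj M₁ ≅ R.obj M₂) :
    (QuotientAddGroup.mk (KZero.clSub QA M₁) : KZero.K0sub QA ⧸ T R QA) =
      QuotientAddGroup.mk (KZero.clSub QA M₂) := by
  obtain ⟨M₃, a, b, h3, ha, hb⟩ := H.L2 M₁ M₂ h1 h2 e
  have ea := sub_mem_T_of_isIso H a h3 h1
  have eb := sub_mem_T_of_isIso H b h3 h2
  rw [QuotientAddGroup.eq_iff_sub_mem]
  have : KZero.clSub QA M₁ - KZero.clSub QA M₂ =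
      (KZero.clSub QA M₃ - KZero.clSub QA M₂) - (KZero.clSub QA M₃ - KZero.clSub QA M₁) := by
    abel
  rw [this]
  exact (T R QA).sub_mem eb ea

/-- **Localization**: `K₀(QA) → K₀(QB)` is surjective and its kernel is generated by the classes
of the objects killed by `R`. -/
theorem main (H : LocHyp R QA QB) :
    Function.Surjective (SGA6.mapSub R QA QB H.map) ∧
      (SGA6.mapSub R QA QB H.map).ker = T R QA := by
  classical
  -- iso invariance of classes in `K₀(QB)`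
  have hisoB : ∀ {N N' : B}, (N ≅ N') → QB N → QB N' →
      KZero.clSub QB N' = KZero.clSub QB N := fun e hN hN' =>
    clSub_iso QB e hN hN' (H.QB_zero _ (isZero_cokernel_of_epi e.hom))
  have hsurj : Function.Surjective (SGA6.mapSub R QA QB H.map) := by
    intro y
    induction y using K0sub_induction with
    | h0 => exact ⟨0, map_zero _⟩
    | hcl N hN =>
      obtain ⟨M, hM, ⟨e⟩⟩ := H.L1 N hN
      exact ⟨KZero.clSub QA M, by
        rw [AD3.mapSub_clSub R QA QB H.map hM]; exact (hisoB e (H.map M hM) hN).symm⟩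
    | hneg x ih =>
      obtain ⟨a, rfl⟩ := ih
      exact ⟨-a, map_neg _ _⟩
    | hadd x y ihx ihy =>
      obtain ⟨a, rfl⟩ := ihx
      obtain ⟨b, rfl⟩ := ihy
      exact ⟨a + b, map_add _ _ _⟩
  refine ⟨hsurj, ?_⟩
  apply le_antisymm
  · -- the section
    let ch : ∀ x : Subtype QB, ∃ M, QA M ∧ Nonempty (R.obj M ≅ x.1) := fun x => H.L1 x.1 x.2
    let pre : Subtype QB → KZero.K0sub QA ⧸ T R QA :=
      fun x => QuotientAddGroup.mk (KZero.clSub QA (ch x).choose)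
    have hpre : ∀ (x : Subtype QB) (M : A) (hM : QA M) (e : R.obj M ≅ x.1),
        pre x = QuotientAddGroup.mk (KZero.clSub QA M) := by
      intro x M hM e
      obtain ⟨h1, ⟨e1⟩⟩ := (ch x).choose_spec
      exact mk_clSub_eq_of_iso H h1 hM (e1 ≪≫ e.symm)
    have hker : KZero.relSub QB ≤ (FreeAbelianGroup.lift pre).ker := by
      rw [KZero.relSub, AddSubgroup.closure_le]
      rintro x ⟨S, h₁, h₂, h₃, hS, rfl⟩
      change FreeAbelianGroup.lift pre _ = 0
      rw [map_sub, map_sub, FreeAbelianGroup.lift_apply_of, FreeAbelianGroup.lift_apply_of,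
        FreeAbelianGroup.lift_apply_of]
      obtain ⟨S', hS', q1, q2, q3, ⟨e1⟩, ⟨e2⟩, ⟨e3⟩⟩ := H.L3 S hS h₁ h₂ h₃
      rw [hpre ⟨S.X₁, h₁⟩ S'.X₁ q1 e1, hpre ⟨S.X₂, h₂⟩ S'.X₂ q2 e2, hpre ⟨S.X₃, h₃⟩ S'.X₃ q3 e3,
        clSub_add QA S' hS' q1 q2 q3, QuotientAddGroup.mk_add]
      abel
    let s : KZero.K0sub QB →+ KZero.K0sub QA ⧸ T R QA :=
      QuotientAddGroup.lift (KZero.relSub QB) (FreeAbelianGroup.lift pre) hker
    have hs : ∀ x : KZero.K0sub QA, s (SGA6.mapSub R QA QB H.map x) = QuotientAddGroup.mk x := by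
      intro x
      induction x using K0sub_induction with
      | h0 => simp
      | hcl M hM =>
        rw [AD3.mapSub_clSub R QA QB H.map hM, clSub_of QB (H.map M hM)]
        change FreeAbelianGroup.lift pre (FreeAbelianGroup.of _) = _
        rw [FreeAbelianGroup.lift_apply_of]
        exact hpre ⟨R.obj M, H.map M hM⟩ M hM (Iso.refl _)
      | hneg x ih => rw [map_neg, map_neg, ih, QuotientAddGroup.mk_neg]
      | hadd x y ihx ihy => rw [map_add, map_add, ihx, ihy, QuotientAddGroup.mk_add]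
    intro x hx
    rw [AddMonoidHom.mem_ker] at hx
    have := hs x
    rw [hx, map_zero] at this
    exact (QuotientAddGroup.eq_zero_iff x).mp this.symm
  · rw [T, AddSubgroup.closure_le]
    rintro c ⟨M, hM, hz, rfl⟩
    change SGA6.mapSub R QA QB H.map _ = 0
    rw [AD3.mapSub_clSub R QA QB H.map hM]
    exact clSub_of_isZero QB hz (H.map M hM)

/-- transfer of the localization hypotheses along an equivalence on the target -/
theorem LocHyp.transfer {B' : Type*} [Category* B'] [Abelian B']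
    (H : LocHyp R QA QB) (R' : A ⥤ B') [R'.Additive] [PreservesFiniteLimits R']
    [PreservesFiniteColimits R'] (E : B ⥤ B') (E' : B' ⥤ B) [E'.Additive]
    [PreservesFiniteLimits E'] [PreservesFiniteColimits E']
    (β : R' ≅ R ⋙ E) (α : R ≅ R' ⋙ E') (γ : E' ⋙ E ≅ 𝟭 B')
    {QB' : ObjectProperty B'} (hE : ∀ N, QB N → QB' (E.obj N))
    (hE' : ∀ N, QB' N → QB (E'.obj N))
    (hiso' : ∀ {N N' : B'}, (N ≅ N') → QB' N → QB' N') (hz : ∀ N : B', IsZero N → QB' N) :
    LocHyp R' QA QB' where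
  map M hM := hiso' (β.app M).symm (hE _ (H.map M hM))
  QA_ker := H.QA_ker
  QA_coker := H.QA_coker
  QB_zero := hz
  L1 N hN := by
    obtain ⟨M, hM, ⟨e⟩⟩ := H.L1 (E'.obj N) (hE' N hN)
    exact ⟨M, hM, ⟨β.app M ≪≫ E.mapIso e ≪≫ γ.app N⟩⟩
  L2 M₁ M₂ h1 h2 θ := by
    obtain ⟨M₃, a, b, h3, ha, hb⟩ :=
      H.L2 M₁ M₂ h1 h2 (α.app M₁ ≪≫ E'.mapIso θ ≪≫ (α.app M₂).symm)
    refine ⟨M₃, a, b, h3, ?_, ?_⟩
    · exact (NatIso.isIso_map_iff β a).mpr (inferInstanceAs (IsIso (E.map (R.map a))))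
    · exact (NatIso.isIso_map_iff β b).mpr (inferInstanceAs (IsIso (E.map (R.map b))))
  L3 S hS h1 h2 h3 := by
    obtain ⟨S', hS', q1, q2, q3, ⟨e1⟩, ⟨e2⟩, ⟨e3⟩⟩ :=
      H.L3 (S.map E') (hS.map_of_exact E') (hE' _ h1) (hE' _ h2) (hE' _ h3)
    exact ⟨S', hS', q1, q2, q3, ⟨β.app _ ≪≫ E.mapIso e1 ≪≫ γ.app _⟩,
      ⟨β.app _ ≪≫ E.mapIso e2 ≪≫ γ.app _⟩, ⟨β.app _ ≪≫ E.mapIso e3 ≪≫ γ.app _⟩⟩

end Groth.Agent.Lib.Helper18.AL1
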