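import Mathlib
import Groth.Prelude.Def_SGA6
import Groth.Agent.Lib.Helper18.AD3
import Groth.Agent.Lib.Helper17.ClImmFull
import Groth.Agent.Lib.Helper12.Dev12

/-! # `K₀(Coh X') ≅ K₀(Coh X)` for a surjective closed immersion `X' → X` (helper18) -/

set_option autoImplicit false
universe u

open CategoryTheory CategoryTheory.Limits AlgebraicGeometry TopologicalSpace Opposite Function
open Groth.Agent.Lib.Helper29.QCoh
open Groth.Agent.Lib.Helper12.H12ModGlue
open Groth.Agent.Lib.Helper12.H12Dev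
open Groth.Agent.Lib.Helper17.ClImmFull
open Groth.Agent.Lib.Helper18

namespace Groth.Agent.Lib.Helper18.SK5

variable {X X' : Scheme.{u}} (i : X' ⟶ X) [IsClosedImmersion i]

/-- a coherent submodule of `i_* F` is `i_*` of a coherent submodule of `F` -/
theorem sub_mem [IsLocallyNoetherian X] (F : X'.Modules) (hF : Coh.IsCoh F) {N : X.Modules}
    (hN : Coh.IsCoh N) (s : N ⟶ (Scheme.Modules.pushforward i).obj F) [Mono s] :
    ∃ (I : X'.Modules) (ι : I ⟶ F), Mono ι ∧ Coh.IsCoh I ∧
      Nonempty (N ≅ (Scheme.Modules.pushforward i).obj I) := by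
  haveI : IsLocallyNoetherian X' := LocallyOfFiniteType.isLocallyNoetherian i
  haveI := hN.1
  obtain ⟨I, ι, hm, hq, hiso⟩ := exists_sub_of_sub_pushforward i F s
  haveI := hm
  haveI := hq
  haveI := hF.1
  haveI := hF.2
  exact ⟨I, ι, hm, ⟨hq, isFiniteType_of_mono ι⟩, hiso⟩

theorem ker_le_of_surjective_of_isReduced {Z : Scheme.{u}} [AlgebraicGeometry.Surjective i] (j : Z ⟶ X)
    [IsClosedImmersion j] [IsReduced Z] : i.ker ≤ j.ker := by
  have h1 : i.ker ≤ X.nilradical := by
    rw [← Scheme.IdealSheafData.vanishingIdeal_top,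
      ← Scheme.IdealSheafData.le_support_iff_le_vanishingIdeal]
    intro x _
    change x ∈ ((Scheme.Hom.ker i).support : Set X)
    rw [Scheme.Hom.support_ker]
    exact subset_closure (i.surjective x)
  refine h1.trans ?_
  intro U a ha
  rw [Scheme.Hom.ker_apply]
  change a ∈ Ideal.radical ⊥ at ha
  obtain ⟨n, hn⟩ := ha
  rw [RingHom.mem_ker]
  have h0 : ((j.app U).hom a) ^ n = 0 := by
    rw [← map_pow, Ideal.mem_bot.mp hn, map_zero]
  exact IsNilpotent.eq_zero ⟨n, h0⟩


section Main

variable [(Scheme.Modules.pushforward i).Additive]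
  [PreservesFiniteLimits (Scheme.Modules.pushforward i)]
  [PreservesFiniteColimits (Scheme.Modules.pushforward i)]

/-- coherent modules on `X'` -/
abbrev P' (X' : Scheme.{u}) : ObjectProperty X'.Modules := fun M => Coh.IsCoh M

/-- the essential image -/
abbrev P : ObjectProperty X.Modules := AD3.essIm (Scheme.Modules.pushforward i) (P' X')

variable (hi : ∀ M : X'.Modules, Coh.IsCoh M → Coh.IsCoh ((Scheme.Modules.pushforward i).obj M))

include hi in
theorem P_le [IsLocallyNoetherian X] (M : X.Modules) (hM : P i M) : Coh.IsCoh M := by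
  obtain ⟨F, hF, ⟨e⟩⟩ := hM
  exact isCoh_of_iso e (hi F hF)

theorem P_sub [IsLocallyNoetherian X] {N M : X.Modules} (f : N ⟶ M) [Mono f]
    (hN : Coh.IsCoh N) (hM : P i M) : P i N := by
  obtain ⟨F, hF, ⟨e⟩⟩ := hM
  obtain ⟨I, ι, _, hI, ⟨eN⟩⟩ := sub_mem i F hF hN (f ≫ e.inv)
  exact ⟨I, hI, ⟨eN.symm⟩⟩

include hi in
theorem P_quot [IsLocallyNoetherian X] {M T : X.Modules} (f : M ⟶ T) [Epi f]
    (hM : P i M) (hT : Coh.IsCoh T) : P i T := by
  haveI : IsLocallyNoetherian X' := LocallyOfFiniteType.isLocallyNoetherian i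
  obtain ⟨F, hF, ⟨e⟩⟩ := hM
  let p : (Scheme.Modules.pushforward i).obj F ⟶ T := e.hom ≫ f
  haveI : Epi p := epi_comp _ _
  have hK : Coh.IsCoh (kernel p) := isCoh_kernel p (hi F hF) hT
  obtain ⟨I, ι, _, hI, ⟨eK⟩⟩ := sub_mem i F hF hK (kernel.ι p)
  let a : I ⟶ F := (Scheme.Modules.pushforward i).preimage (eK.inv ≫ kernel.ι p)
  have ha : (Scheme.Modules.pushforward i).map a = eK.inv ≫ kernel.ι p :=
    (Scheme.Modules.pushforward i).map_preimage _
  have hcoh : Coh.IsCoh (cokernel a) := isCoh_cokernel a hI hF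
  refine ⟨cokernel a, hcoh, ⟨?_⟩⟩
  have e1 : (Scheme.Modules.pushforward i).obj (cokernel a) ≅
      cokernel ((Scheme.Modules.pushforward i).map a) :=
    PreservesCokernel.iso (Scheme.Modules.pushforward i) a
  have e2 : cokernel ((Scheme.Modules.pushforward i).map a) ≅ cokernel (kernel.ι p) :=
    cokernelIsoOfEq ha ≪≫ cokernelEpiComp eK.inv (kernel.ι p)
  have e3 : cokernel (kernel.ι p) ≅ T :=
    IsColimit.coconePointUniqueUpToIso (colimit.isColimit _)
      (Abelian.epiIsCokernelOfKernel _ (limit.isLimit (parallelPair p 0)))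
  exact e1 ≪≫ e2 ≪≫ e3

include hi in
theorem devHyp [IsLocallyNoetherian X] :
    AD2.DevHyp (P i) (fun M : X.Modules => Coh.IsCoh M) := by
  haveI : IsLocallyNoetherian X' := LocallyOfFiniteType.isLocallyNoetherian i
  exact
  { le := P_le i hi
    Q_iso := fun e h => isCoh_of_iso e h
    P_zero := fun M hM => AD3.essIm_of_isZero _ _ (fun F hF => isCoh_of_isZero F hF) hM
    Q_ker := fun f h1 h2 => isCoh_kernel f h1 h2
    Q_coker := fun f h1 h2 => isCoh_cokernel f h1 h2
    P_sub := fun f _ hN hM => P_sub i f hN hM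
    P_quot := fun f _ hM hT => P_quot i hi f hM hT }

theorem goodPiece_mem [IsLocallyNoetherian X] [AlgebraicGeometry.Surjective i] (Q' : X.Modules)
    (hQ : IsGoodPiece Q') : P i Q' := by
  haveI : IsLocallyNoetherian X' := LocallyOfFiniteType.isLocallyNoetherian i
  obtain ⟨Z, j, hj, hZ, I, ι, hm, hq, _, ⟨e⟩⟩ := hQ
  haveI := hj
  haveI := hZ
  haveI := hm
  haveI : I.IsQuasicoherent := hq
  let l : Z ⟶ X' := IsClosedImmersion.lift i j (ker_le_of_surjective_of_isReduced i j)
  have hl : l ≫ i = j := IsClosedImmersion.lift_fac i j _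
  haveI : IsClosedImmersion (l ≫ i) := by rw [hl]; infer_instance
  haveI : IsClosedImmersion l := IsClosedImmersion.of_comp l i
  have hcoh : Coh.IsCoh ((Scheme.Modules.pushforward l).obj I) :=
    isCoh_pushforward_sub_unit l I ι
  refine ⟨(Scheme.Modules.pushforward l).obj I, hcoh, ⟨?_⟩⟩
  exact (Scheme.Modules.pushforwardComp l i).app I ≪≫
    (Scheme.Modules.pushforwardCongr hl).app I ≪≫ e.symm

theorem exists_hasFilt_of_filt [IsLocallyNoetherian X] [AlgebraicGeometry.Surjective i]
    {M : X.Modules} (h : Filt M) : ∃ c, AD2.HasFilt (P i) M c := by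
  induction h with
  | zero M hM => exact ⟨0, AD2.HasFilt.zero M hM⟩
  | step M' M Q' f g w hS hM' hM h' hQ ih =>
    obtain ⟨c, hc⟩ := ih
    exact ⟨_, AD2.HasFilt.ext _ _ _ f g w hS c hc (goodPiece_mem i Q' hQ)⟩

include hi in
/-- **`K₀(Coh X') → K₀(Coh X)` is bijective** for a surjective closed immersion into a Noetherian
scheme. -/
theorem main [IsNoetherian X] [AlgebraicGeometry.Surjective i] :
    Function.Bijective (SGA6.mapSub (Scheme.Modules.pushforward i)
      (fun M : X'.Modules => Coh.IsCoh M) (fun M : X.Modules => Coh.IsCoh M) hi) := by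
  haveI : IsLocallyNoetherian X' := LocallyOfFiniteType.isLocallyNoetherian i
  have H := devHyp i hi
  have h1 := AD2.bijective_incl H
    (fun M hM => exists_hasFilt_of_filt i (filt_of_isCoh M hM))
  have h2 := AD3.bijective_mapSub_essIm (Scheme.Modules.pushforward i) (P' X')
    (fun e h => isCoh_of_iso e h) (fun F hF => isCoh_of_isZero F hF)
  have h3 := h1.comp h2
  convert h3 using 1
  funext x
  induction x using AD2.K0sub_induction with
  | h0 => simp
  | hcl M hM =>
    rw [Function.comp_apply, AD3.mapSub_clSub _ _ _ _ hM, AD3.mapSub_clSub _ _ _ _ hM,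
      AD2.incl_clSub _ _ _ (AD3.essIm_obj _ _ hM)]
  | hneg x ih =>
    rw [map_neg, ih]
    simp only [Function.comp_apply, map_neg]
  | hadd x y ihx ihy =>
    rw [map_add, ihx, ihy]
    simp only [Function.comp_apply, map_add]

end Main

end Groth.Agent.Lib.Helper18.SK5
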