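import Mathlib
import Groth.Prelude.Def_SGA6
import Groth.Agent.Lib.Helper18.AL1
import Groth.Agent.Lib.Helper18.SK5
import Groth.Agent.Lib.Helper3.ExtendLN2
import Groth.Agent.Lib.Helper28.DCohRes1
import Groth.Agent.Lib.Helper29.QCohPullback
import Groth.Agent.Lib.Helper29.QCohDescent
import Groth.Agent.Lib.Helper29.QCohRestrict
import Groth.Agent.Lib.Helper9.CohGlue
import Groth.Agent.Helper19.ClImmSupp

/-! # The localization sequence `K(X') → K(X) → K(U) → 0` (helper18) -/

set_option autoImplicit false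
universe u

open CategoryTheory CategoryTheory.Limits AlgebraicGeometry TopologicalSpace Opposite Function
open Groth.Agent.Lib.Helper29.QCoh
open Groth.Agent.Lib.Helper12.H12ModGlue
open Groth.Agent.Lib.Helper12.H12Dev
open Groth.Agent.Lib.Helper17.ClImmFull
open Groth.Agent.Lib.Helper18
open Groth.Agent.Lib.Helper28.DCohRes

namespace Groth.Agent.Lib.Helper18.AL2

section Restrict

variable {X Y : Scheme.{u}}

theorem isCoh_restrict (f : Y ⟶ X) [IsOpenImmersion f] (M : X.Modules) (hM : Coh.IsCoh M) :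
    Coh.IsCoh ((Scheme.Modules.restrictFunctor f).obj M) := by
  haveI := hM.1
  haveI := hM.2
  exact ⟨inferInstance,
    isFiniteType_of_iso ((Scheme.Modules.restrictFunctorIsoPullback f).app M).symm⟩

theorem clSub_congr [IsLocallyNoetherian X] {M N : X.Modules} (e : M ≅ N) :
    KZero.clSub (fun M : X.Modules => Coh.IsCoh M) M =
      KZero.clSub (fun M : X.Modules => Coh.IsCoh M) N := by
  by_cases hM : Coh.IsCoh M
  · exact (AD2.clSub_iso _ e hM (isCoh_of_iso e hM)
      (isCoh_of_isZero _ (isZero_cokernel_of_epi e.hom))).symm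
  · have hN : ¬ Coh.IsCoh N := fun h => hM (isCoh_of_iso e.symm h)
    unfold KZero.clSub
    rw [dif_neg hM, dif_neg hN]

end Restrict

section Opens

variable {X : Scheme.{u}} [IsNoetherian X] (V : X.Opens)

theorem hX : ∀ x : X, ∃ U : X.Opens, x ∈ U ∧ NoetherianSpace (U : Set X) :=
  fun _ => ⟨⊤, trivial, inferInstance⟩

theorem locHyp_opens : AL1.LocHyp (Scheme.Modules.restrictFunctor V.ι)
    (fun M : X.Modules => Coh.IsCoh M) (fun M : (V : Scheme.{u}).Modules => Coh.IsCoh M) where
  map M hM := isCoh_restrict V.ι M hM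
  QA_ker f h1 h2 := isCoh_kernel f h1 h2
  QA_coker f h1 h2 := isCoh_cokernel f h1 h2
  QB_zero N hN := isCoh_of_isZero N hN
  L1 N hN := by
    haveI := hN.1
    haveI := hN.2
    obtain ⟨M, h1, h2, ⟨e⟩⟩ :=
      Groth.Agent.Lib.Helper3.exists_finiteType_extension_module_of_locallyNoetherian
        (hX (X := X)) V N
    exact ⟨M, ⟨h1, h2⟩, ⟨e⟩⟩
  L2 M₁ M₂ h1 h2 θ := by
    haveI := h1.1
    haveI := h1.2
    haveI := h2.1
    haveI := h2.2
    set R := Scheme.Modules.restrictFunctor V.ι with hR
    let F : X.Modules := M₁ ⊞ M₂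
    haveI : F.IsQuasicoherent := Groth.Agent.Lib.Helper9.CohGlue.isQuasicoherent_biprod M₁ M₂
    haveI : F.IsFiniteType := Groth.Agent.Lib.Helper9.CohGlue.isFiniteType_biprod M₁ M₂
    let i : R.obj M₁ ⟶ R.obj F := R.map biprod.inl + θ.hom ≫ R.map biprod.inr
    have hi1 : i ≫ R.map biprod.fst = 𝟙 _ := by
      simp only [i, Preadditive.add_comp, Category.assoc, ← R.map_comp, biprod.inl_fst,
        biprod.inr_fst, R.map_id, R.map_zero, comp_zero, add_zero]
    have hi2 : i ≫ R.map biprod.snd = θ.hom := by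
      simp only [i, Preadditive.add_comp, Category.assoc, ← R.map_comp, biprod.inl_snd,
        biprod.inr_snd, R.map_id, R.map_zero, Category.comp_id, zero_add]
    haveI : Mono i := mono_of_mono_fac hi1
    haveI : (R.obj M₁).IsQuasicoherent := (isCoh_restrict V.ι M₁ h1).1
    haveI : (R.obj M₁).IsFiniteType := (isCoh_restrict V.ι M₁ h1).2
    obtain ⟨G', i', e, hm, hq, hf, hc⟩ :=
      Groth.Agent.Lib.Helper3.exists_finiteType_extension_of_locallyNoetherian
        (hX (X := X)) V F (R.obj M₁) i
    have hc' : R.map i' = e.hom ≫ i := hc.symm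
    refine ⟨G', i' ≫ biprod.fst, i' ≫ biprod.snd, ⟨hq, hf⟩, ?_, ?_⟩
    · rw [R.map_comp, hc', Category.assoc, hi1, Category.comp_id]
      infer_instance
    · rw [R.map_comp, hc', Category.assoc, hi2]
      infer_instance
  L3 S hS h1 h2 h3 := by
    haveI := h1.1
    haveI := h1.2
    haveI := h2.1
    haveI := h2.2
    haveI := hS.mono_f
    haveI := hS.epi_g
    set R := Scheme.Modules.restrictFunctor V.ι with hR
    obtain ⟨M₂, q2, f2, ⟨e2⟩⟩ :=
      Groth.Agent.Lib.Helper3.exists_finiteType_extension_module_of_locallyNoetherian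
        (hX (X := X)) V S.X₂
    haveI := q2
    haveI := f2
    let i : S.X₁ ⟶ R.obj M₂ := S.f ≫ e2.inv
    haveI : Mono i := mono_comp _ _
    obtain ⟨M₁, i', e1, hm, q1, f1, hc⟩ :=
      Groth.Agent.Lib.Helper3.exists_finiteType_extension_of_locallyNoetherian
        (hX (X := X)) V M₂ S.X₁ i
    haveI := hm
    have hc' : R.map i' = e1.hom ≫ S.f ≫ e2.inv := hc.symm
    have hM₁ : Coh.IsCoh M₁ := ⟨q1, f1⟩
    have hM₂ : Coh.IsCoh M₂ := ⟨q2, f2⟩
    refine ⟨ShortComplex.mk i' (cokernel.π i') (cokernel.condition _),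
      ShortComplex.ShortExact.mk (ShortComplex.exact_cokernel i'), hM₁, hM₂,
      isCoh_cokernel i' hM₁ hM₂, ⟨e1⟩, ⟨e2⟩, ⟨?_⟩⟩
    have e3a : R.obj (cokernel i') ≅ cokernel (R.map i') := PreservesCokernel.iso R i'
    have e3b : cokernel (R.map i') ≅ cokernel (S.f ≫ e2.inv) :=
      cokernelIsoOfEq hc' ≪≫ cokernelEpiComp e1.hom (S.f ≫ e2.inv)
    have e3c : cokernel (S.f ≫ e2.inv) ≅ cokernel S.f := cokernelCompIsIso S.f e2.inv
    have e3d : cokernel S.f ≅ S.X₃ :=
      IsColimit.coconePointUniqueUpToIso (colimit.isColimit _) hS.gIsCokernel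
    exact e3a ≪≫ e3b ≪≫ e3c ≪≫ e3d

end Opens

section General

variable {X U : Scheme.{u}} [IsNoetherian X] (j : U ⟶ X) [IsOpenImmersion j]

theorem locHyp : AL1.LocHyp (Scheme.Modules.restrictFunctor j)
    (fun M : X.Modules => Coh.IsCoh M) (fun M : U.Modules => Coh.IsCoh M) := by
  haveI : IsLocallyNoetherian U := isLocallyNoetherian_of_isOpenImmersion j
  let V := j.opensRange
  let e : U ≅ V := j.isoOpensRange
  have h1 : j = e.hom ≫ V.ι := (Scheme.Hom.isoOpensRange_hom_ι j).symm
  have h2 : V.ι = e.inv ≫ j := (Scheme.Hom.isoOpensRange_inv_comp j).symm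
  have h3 : e.hom ≫ e.inv = 𝟙 U := e.hom_inv_id
  exact (locHyp_opens V).transfer (Scheme.Modules.restrictFunctor j)
    (Scheme.Modules.restrictFunctor e.hom) (Scheme.Modules.restrictFunctor e.inv)
    (Scheme.Modules.restrictFunctorCongr h1 ≪≫ Scheme.Modules.restrictFunctorComp e.hom V.ι)
    (Scheme.Modules.restrictFunctorCongr h2 ≪≫ Scheme.Modules.restrictFunctorComp e.inv j)
    ((Scheme.Modules.restrictFunctorComp e.hom e.inv).symm ≪≫
      Scheme.Modules.restrictFunctorCongr h3 ≪≫ Scheme.Modules.restrictFunctorId)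
    (fun N hN => isCoh_restrict e.hom N hN) (fun N hN => isCoh_restrict e.inv N hN)
    (fun e h => isCoh_of_iso e h) (fun N hN => isCoh_of_isZero N hN)

end General

section Closed

variable {X X' U : Scheme.{u}} (i : X' ⟶ X) [IsClosedImmersion i]

theorem ker_le_of_range_subset_of_isReduced {Z : Scheme.{u}} (j : Z ⟶ X) [IsClosedImmersion j]
    [IsReduced Z] (h : Set.range j ⊆ Set.range i) : i.ker ≤ j.ker := by
  have h1 : i.ker ≤ j.ker.radical := by
    rw [← Scheme.IdealSheafData.vanishingIdeal_support,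
      ← Scheme.IdealSheafData.le_support_iff_le_vanishingIdeal]
    intro x hx
    change x ∈ ((Scheme.Hom.ker i).support : Set X)
    change x ∈ ((Scheme.Hom.ker j).support : Set X) at hx
    rw [Scheme.Hom.support_ker] at hx ⊢
    exact closure_mono h hx
  refine h1.trans ?_
  intro W a ha
  change a ∈ Ideal.radical _ at ha
  obtain ⟨n, hn⟩ := ha
  rw [Scheme.Hom.ker_apply, RingHom.mem_ker] at hn ⊢
  have h0 : ((j.app W).hom a) ^ n = 0 := by
    rw [← map_pow]
    exact hn
  exact IsNilpotent.eq_zero ⟨n, h0⟩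

variable (j : U ⟶ X) [IsOpenImmersion j] (hU : Set.range j = (Set.range i)ᶜ)

include hU in
theorem isZero_restrict_pushforward (F : X'.Modules) [F.IsQuasicoherent] :
    IsZero ((Scheme.Modules.restrictFunctor j).obj ((Scheme.Modules.pushforward i).obj F)) := by
  rw [isZero_iff_stalk_subsingleton]
  intro u
  have e := restrictStalkIso j ((Scheme.Modules.pushforward i).obj F) u
  have hju : j u ∉ Set.range i := by
    have : j u ∈ Set.range j := ⟨u, rfl⟩
    rw [hU] at this
    exact this
  have h0 : j u ∉ CohB1.support ((Scheme.Modules.pushforward i).obj F) := by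
    rw [Groth.Agent.Helper19.ClImmSupp.support_pushforward]
    rintro ⟨z, _, hz⟩
    exact hju ⟨z, hz⟩
  have h1 : Subsingleton (((Scheme.Modules.pushforward i).obj F).presheaf.stalk (j u)) :=
    not_not.mp h0
  exact (ConcreteCategory.bijective_of_isIso e.hom).injective.subsingleton

include hU in
theorem support_subset_of_isZero_restrict (M : X.Modules)
    (hz : IsZero ((Scheme.Modules.restrictFunctor j).obj M)) :
    CohB1.support M ⊆ Set.range i := by
  intro x hx
  by_contra hxi
  have hxj : x ∈ Set.range j := by rw [hU]; exact hxi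
  obtain ⟨u, rfl⟩ := hxj
  have e := restrictStalkIso j M u
  have h1 := (isZero_iff_stalk_subsingleton _).mp hz u
  exact hx ((ConcreteCategory.bijective_of_isIso e.inv).injective.subsingleton)

variable [(Scheme.Modules.pushforward i).Additive]
  [PreservesFiniteLimits (Scheme.Modules.pushforward i)]
  [PreservesFiniteColimits (Scheme.Modules.pushforward i)]
  (hi : ∀ M : X'.Modules, Coh.IsCoh M → Coh.IsCoh ((Scheme.Modules.pushforward i).obj M))

include hi in
/-- classes of coherent modules supported in `X'` come from `X'` -/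
theorem clSub_mem_range_of_support [IsNoetherian X] (M : X.Modules) (hM : Coh.IsCoh M)
    (hsupp : CohB1.support M ⊆ Set.range i) :
    KZero.clSub (fun M : X.Modules => Coh.IsCoh M) M ∈
      (SGA6.mapSub (Scheme.Modules.pushforward i) (fun M : X'.Modules => Coh.IsCoh M)
        (fun M : X.Modules => Coh.IsCoh M) hi).range := by
  haveI : IsLocallyNoetherian X' := LocallyOfFiniteType.isLocallyNoetherian i
  set φ := SGA6.mapSub (Scheme.Modules.pushforward i) (fun M : X'.Modules => Coh.IsCoh M)
    (fun M : X.Modules => Coh.IsCoh M) hi with hφ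
  let K' : X.Modules → Prop := fun M => KZero.clSub (fun M : X.Modules => Coh.IsCoh M) M ∈ φ.range
  have h0 : ∀ M : X.Modules, IsZero M → K' M := by
    intro M hM
    change _ ∈ φ.range
    rw [AD2.clSub_of_isZero _ hM (isCoh_of_isZero M hM)]
    exact zero_mem _
  have hext : ExtClosed K' := by
    intro S hS h1 h2 h3 k1 k3
    change _ ∈ φ.range
    rw [AD2.clSub_add _ S hS h1 h2 h3]
    exact add_mem k1 k3
  have hiso : ∀ M N : X.Modules, (M ≅ N) → K' M → K' N := by
    intro M N e h
    change _ ∈ φ.range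
    rw [← clSub_congr e]
    exact h
  refine devissage_core (K' := K') h0 hext (Set.range i) ?_ M hM hsupp
  intro Z hZ hirr hZi y hy hsmall T hT hTsupp hTs
  haveI := isIntegral_subscheme_vanishingIdeal ⟨Z, hZ⟩ hirr
  refine mem_of_simple_stalk_of_push hiso hext Z hZ hirr y hy ?_ hsmall T hT hTsupp hTs
  intro I ι hm hq
  haveI := hm
  haveI : I.IsQuasicoherent := hq
  set jW := (Scheme.IdealSheafData.vanishingIdeal ⟨Z, hZ⟩).subschemeι with hjW
  have hr : Set.range jW ⊆ Set.range i := by
    rw [hjW, range_subschemeι_vanishingIdeal]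
    exact hZi
  let l := IsClosedImmersion.lift i jW (ker_le_of_range_subset_of_isReduced i jW hr)
  have hl : l ≫ i = jW := IsClosedImmersion.lift_fac i jW _
  haveI : IsClosedImmersion (l ≫ i) := by rw [hl]; infer_instance
  haveI : IsClosedImmersion l := IsClosedImmersion.of_comp l i
  have hcoh : Coh.IsCoh ((Scheme.Modules.pushforward l).obj I) :=
    isCoh_pushforward_sub_unit l I ι
  have e : (Scheme.Modules.pushforward i).obj ((Scheme.Modules.pushforward l).obj I) ≅
      (Scheme.Modules.pushforward jW).obj I :=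
    (Scheme.Modules.pushforwardComp l i).app I ≪≫ (Scheme.Modules.pushforwardCongr hl).app I
  change _ ∈ φ.range
  rw [← clSub_congr e, ← AD3.mapSub_clSub (Scheme.Modules.pushforward i) _ _ hi hcoh]
  exact ⟨_, rfl⟩

include hU hi in
/-- **Localization sequence** `K(X') → K(X) → K(U) → 0`. -/
theorem main [IsNoetherian X]
    (hj : ∀ M : X.Modules, Coh.IsCoh M → Coh.IsCoh ((Scheme.Modules.restrictFunctor j).obj M)) :
    Function.Surjective (SGA6.mapSub (Scheme.Modules.restrictFunctor j)
        (fun M : X.Modules => Coh.IsCoh M) (fun M : U.Modules => Coh.IsCoh M) hj) ∧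
      (SGA6.mapSub (Scheme.Modules.restrictFunctor j)
        (fun M : X.Modules => Coh.IsCoh M) (fun M : U.Modules => Coh.IsCoh M) hj).ker =
      (SGA6.mapSub (Scheme.Modules.pushforward i) (fun M : X'.Modules => Coh.IsCoh M)
        (fun M : X.Modules => Coh.IsCoh M) hi).range := by
  have H := locHyp j
  obtain ⟨hs, hk⟩ := AL1.main H
  refine ⟨hs, ?_⟩
  refine Eq.trans hk ?_
  apply le_antisymm
  · rw [AL1.T, AddSubgroup.closure_le]
    rintro c ⟨M, hM, hz, rfl⟩
    exact clSub_mem_range_of_support i hi M hM (support_subset_of_isZero_restrict i j hU M hz)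
  · rintro _ ⟨x, rfl⟩
    induction x using AD2.K0sub_induction with
    | h0 => rw [map_zero]; exact zero_mem _
    | hcl F hF =>
      rw [AD3.mapSub_clSub _ _ _ hi hF]
      haveI := hF.1
      exact AL1.clSub_mem_T _ (hi F hF) (isZero_restrict_pushforward i j hU F)
    | hneg x ih => rw [map_neg]; exact neg_mem ih
    | hadd x y ihx ihy => rw [map_add]; exact add_mem ihx ihy

end Closed

end Groth.Agent.Lib.Helper18.AL2
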