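import Mathlib
import Groth.Agent.Lib.Helper18.AL2
import Groth.Agent.Lib.Helper22.Cech.AffineMorphism
import Groth.Agent.Lib.Lead.Koszul.HHBasic

/-! # Cohomology of coherent modules supported on a closed subscheme of bounded cohomological
dimension, and comparison of cohomology of modules agreeing off it (helper18) -/

set_option autoImplicit false
set_option linter.style.haveILetI false
universe u

open CategoryTheory CategoryTheory.Limits AlgebraicGeometry TopologicalSpace Opposite Function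
open Groth.Agent.Lib.Helper29.QCoh
open Groth.Agent.Lib.Helper12.H12ModGlue
open Groth.Agent.Lib.Helper12.H12Dev
open Groth.Agent.Lib.Helper18
open Groth.Agent.Lib.Lead.LinLES

namespace Groth.Agent.Lib.Helper18.CZ1

variable {X : Scheme.{u}}

/-- the map on cohomology induced by a morphism of modules -/
noncomputable def mapHH {M N : X.Modules} (φ : M ⟶ N) (q : ℕ) : Coh.HH X M q →+ Coh.HH X N q :=
  Sheaf.H.map (abMap φ) q

theorem mapHH_apply {M N : X.Modules} (φ : M ⟶ N) (q : ℕ) (x : Coh.HH X M q) :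
    mapHH φ q x = Abelian.Ext.comp x (Abelian.Ext.mk₀ (abMap φ)) (add_zero q) := rfl

theorem mapHH_comp {M N P : X.Modules} (φ : M ⟶ N) (ψ : N ⟶ P) (q : ℕ) (x : Coh.HH X M q) :
    mapHH (φ ≫ ψ) q x = mapHH ψ q (mapHH φ q x) := by
  unfold mapHH
  rw [show abMap (φ ≫ ψ) = abMap φ ≫ abMap ψ from Functor.map_comp _ _ _]
  exact Sheaf.H.map_comp_apply _ _ _

theorem subsingleton_HH_of_isZero {M : X.Modules} (h : IsZero M) (q : ℕ) :
    Subsingleton (Coh.HH X M q) :=
  Sheaf.subsingleton_H_of_isZero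
    (Functor.map_isZero (SheafOfModules.toSheaf X.ringCatSheaf) h) q

noncomputable def addEquivOfIso {M N : X.Modules} (e : M ≅ N) (q : ℕ) :
    Coh.HH X M q ≃+ Coh.HH X N q :=
  ((Sheaf.functorH _ q).mapIso
    ((SheafOfModules.toSheaf X.ringCatSheaf).mapIso e)).addCommGroupIsoToAddEquiv

theorem subsingleton_HH_of_iso {M N : X.Modules} (e : M ≅ N) (q : ℕ)
    (h : Subsingleton (Coh.HH X M q)) : Subsingleton (Coh.HH X N q) :=
  (addEquivOfIso e q).symm.injective.subsingleton

theorem bijective_mapHH_g (S : ShortComplex X.Modules) (hS : S.ShortExact) (q : ℕ)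
    (h₁ : Subsingleton (Coh.HH X S.X₁ q)) (h₁' : Subsingleton (Coh.HH X S.X₁ (q + 1))) :
    Function.Bijective (mapHH S.g q) := by
  constructor
  · rw [injective_iff_map_eq_zero]
    intro x₂ hx
    obtain ⟨x₁, hx₁⟩ := Abelian.Ext.covariant_sequence_exact₂ _ (abS_shortExact S hS) x₂ hx
    have hx1 : (show Coh.HH X S.X₁ q from x₁) = 0 := Subsingleton.elim _ _
    have hx1' : x₁ = 0 := hx1
    rw [← hx₁, hx1', Abelian.Ext.zero_comp]
    rfl
  · intro x₃
    have h0 : (Abelian.Ext.comp x₃ (eC S hS) rfl : Coh.HH X S.X₁ (q + 1)) = 0 :=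
      Subsingleton.elim _ _
    obtain ⟨x₂, hx₂⟩ := Abelian.Ext.covariant_sequence_exact₃ _ (abS_shortExact S hS) x₃ rfl h0
    exact ⟨x₂, hx₂⟩

theorem bijective_mapHH_f (S : ShortComplex X.Modules) (hS : S.ShortExact) (q : ℕ)
    (h₃ : Subsingleton (Coh.HH X S.X₃ q)) (h₃' : Subsingleton (Coh.HH X S.X₃ (q + 1))) :
    Function.Bijective (mapHH S.f (q + 1)) := by
  constructor
  · rw [injective_iff_map_eq_zero]
    intro x₁ hx
    obtain ⟨x₃, hx₃⟩ := Abelian.Ext.covariant_sequence_exact₁ _ (abS_shortExact S hS) x₁ hx rfl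
    have hx3 : (show Coh.HH X S.X₃ q from x₃) = 0 := Subsingleton.elim _ _
    have hx3' : x₃ = 0 := hx3
    rw [← hx₃, hx3', Abelian.Ext.zero_comp]
    rfl
  · intro x₂
    have h0 : (Abelian.Ext.comp x₂ (Abelian.Ext.mk₀ (abMap S.g)) (add_zero (q + 1)) :
        Coh.HH X S.X₃ (q + 1)) = 0 := Subsingleton.elim _ _
    obtain ⟨x₁, hx₁⟩ := Abelian.Ext.covariant_sequence_exact₂ _ (abS_shortExact S hS) x₂ h0
    exact ⟨x₁, hx₁⟩

/-- a morphism whose kernel and cokernel have no cohomology in degrees `> k` induces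
isomorphisms on cohomology in degrees `≥ k + 2` -/
theorem bijective_mapHH_of_ker_coker {M N : X.Modules} (a : M ⟶ N) (k : ℕ)
    (hK : ∀ j, k + 1 ≤ j → Subsingleton (Coh.HH X (kernel a) j))
    (hC : ∀ j, k + 1 ≤ j → Subsingleton (Coh.HH X (cokernel a) j))
    (i : ℕ) (hi : k + 2 ≤ i) : Function.Bijective (mapHH a i) := by
  obtain ⟨q, rfl⟩ : ∃ q, i = q + 1 := ⟨i - 1, by omega⟩
  have h1 := bijective_mapHH_g _ (AD1.shortExact_ker_im a) (q + 1) (hK _ (by omega))
    (hK _ (by omega))
  have h2 := bijective_mapHH_f _ (AD1.shortExact_im_coker a) q (hC _ (by omega))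
    (hC _ (by omega))
  have h3 : mapHH a (q + 1) = (mapHH (Abelian.image.ι a) (q + 1)).comp
      (mapHH (Abelian.factorThruImage a) (q + 1)) := by
    ext x
    rw [AddMonoidHom.comp_apply, ← mapHH_comp, Abelian.image.fac]
  rw [h3, AddMonoidHom.coe_comp]
  exact h2.comp h1

section Supp

variable [IsNoetherian X] {Z : Scheme.{u}} (ι : Z ⟶ X) [IsClosedImmersion ι]

/-- coherent modules supported on a closed subscheme `Z` have no cohomology in a degree in which
quasi-coherent modules on `Z` have none -/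
theorem subsingleton_HH_of_support (n : ℕ)
    (hcd : ∀ G : Z.Modules, Coh.IsQCoh G → Subsingleton (Coh.HH Z G n))
    (M : X.Modules) (hM : Coh.IsCoh M) (hsupp : CohB1.support M ⊆ Set.range ι) :
    Subsingleton (Coh.HH X M n) := by
  let K' : X.Modules → Prop := fun M => Subsingleton (Coh.HH X M n)
  have h0 : ∀ M : X.Modules, IsZero M → K' M := fun M hM => subsingleton_HH_of_isZero hM n
  have hext : ExtClosed K' := by
    intro S hS _ _ _ k1 k3
    exact Groth.Agent.Lib.Lead.Koszul.subsingleton_HH_X₂ S hS n k1 k3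
  have hiso : ∀ M N : X.Modules, (M ≅ N) → K' M → K' N :=
    fun M N e h => subsingleton_HH_of_iso e n h
  refine devissage_core (K' := K') h0 hext (Set.range ι) ?_ M hM hsupp
  intro W hW hirr hWi y hy hsmall T hT hTsupp hTs
  haveI := isIntegral_subscheme_vanishingIdeal ⟨W, hW⟩ hirr
  refine mem_of_simple_stalk_of_push hiso hext W hW hirr y hy ?_ hsmall T hT hTsupp hTs
  intro I ιI hm hq
  haveI : I.IsQuasicoherent := hq
  set jW := (Scheme.IdealSheafData.vanishingIdeal ⟨W, hW⟩).subschemeι with hjW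
  have hr : Set.range jW ⊆ Set.range ι := by
    rw [hjW, range_subschemeι_vanishingIdeal]
    exact hWi
  let l := IsClosedImmersion.lift ι jW (AL2.ker_le_of_range_subset_of_isReduced ι jW hr)
  have hl : l ≫ ι = jW := IsClosedImmersion.lift_fac ι jW _
  haveI : IsClosedImmersion (l ≫ ι) := by rw [hl]; infer_instance
  haveI : IsClosedImmersion l := IsClosedImmersion.of_comp l ι
  haveI hNq : ((Scheme.Modules.pushforward l).obj I).IsQuasicoherent :=
    isQuasicoherent_pushforward_of_isAffineHom l I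
  have e : (Scheme.Modules.pushforward ι).obj ((Scheme.Modules.pushforward l).obj I) ≅
      (Scheme.Modules.pushforward jW).obj I :=
    (Scheme.Modules.pushforwardComp l ι).app I ≪≫ (Scheme.Modules.pushforwardCongr hl).app I
  obtain ⟨ε⟩ := Groth.Agent.Lib.Helper22.Cech.nonempty_HH_addEquiv_HH_push ι
    ((Scheme.Modules.pushforward l).obj I) n
  have h1 : Subsingleton (Coh.HH Z ((Scheme.Modules.pushforward l).obj I) n) := hcd _ hNq
  have h2 : Subsingleton
      (Coh.HH X ((Scheme.Modules.pushforward ι).obj ((Scheme.Modules.pushforward l).obj I)) n) :=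
    ε.symm.injective.subsingleton
  exact subsingleton_HH_of_iso e n h2

end Supp

end Groth.Agent.Lib.Helper18.CZ1
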