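import Mathlib

set_option autoImplicit false
set_option backward.isDefEq.respectTransparency.types false
set_option linter.unusedSectionVars false
universe u

open AlgebraicGeometry StructureSheaf TopologicalSpace Opposite CategoryTheory

namespace Groth.Agent.Lib.Helper18.TildeSec

variable {A : Type u} [CommRing A] {M : Type u} [AddCommGroup M] [Module A M]

local notation "Γ(" M ", " U ")" =>
  (Functor.obj (ObjectProperty.FullSubcategory.obj (structureSheafInType _ M))) (Opposite.op U)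

/-- the open complement of `V(J)` -/
def DJ (J : Ideal A) : Opens (PrimeSpectrum.Top A) :=
  ⟨(PrimeSpectrum.zeroLocus (J : Set A))ᶜ, (PrimeSpectrum.isClosed_zeroLocus _).isOpen_compl⟩

theorem mem_DJ {J : Ideal A} {p : PrimeSpectrum.Top A} : p ∈ DJ J ↔ ¬ J ≤ p.asIdeal := by
  exact Iff.rfl

theorem toOpenₗ_apply (U : Opens (PrimeSpectrum.Top A)) (m : M) (x : U) :
    (toOpenₗ A M U m).1 x = LocalizedModule.mk m 1 := rfl

theorem sec_ext {U : Opens (PrimeSpectrum.Top A)} {s t : Γ(M, U)}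
    (h : ∀ x : U, s.1 x = t.1 x) : s = t := Subtype.ext (funext h)

theorem smul_apply {U : Opens (PrimeSpectrum.Top A)} (a : A) (s : Γ(M, U)) (x : U) :
    (a • s).1 x = a • s.1 x := rfl

theorem zero_apply {U : Opens (PrimeSpectrum.Top A)} (x : U) :
    (0 : Γ(M, U)).1 x = 0 := rfl

theorem sub_apply {U : Opens (PrimeSpectrum.Top A)} (s t : Γ(M, U)) (x : U) :
    (s - t).1 x = s.1 x - t.1 x := rfl

section conductor

variable [IsNoetherianRing A] (J : Ideal A)

theorem isCompact_opens (U : Opens (PrimeSpectrum.Top A)) :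
    IsCompact (U : Set (PrimeSpectrum.Top A)) := by
  have : NoetherianSpace (PrimeSpectrum.Top A) :=
    inferInstanceAs (NoetherianSpace (PrimeSpectrum A))
  exact NoetherianSpace.isCompact _

omit [IsNoetherianRing A] in
/-- restriction to a smaller open, concretely -/
theorem toOpenₗ_eq_zero_of_le {U V : Opens (PrimeSpectrum.Top A)} (hVU : V ≤ U) (m : M)
    (h : toOpenₗ A M U m = 0) : toOpenₗ A M V m = 0 := by
  apply sec_ext
  intro x
  have := congrArg (fun t => t.1 ⟨x.1, hVU x.2⟩) h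
  exact this

omit [IsNoetherianRing A] in
/-- (L1) pointwise form of the kernel -/
theorem toOpenₗ_eq_zero_iff (U : Opens (PrimeSpectrum.Top A)) (m : M) :
    toOpenₗ A M U m = 0 ↔ ∀ x : U, ∃ u : A, u ∉ x.1.asIdeal ∧ u • m = 0 := by
  constructor
  · intro h x
    have := congrArg (fun t => t.1 x) h
    simp only [toOpenₗ_apply, zero_apply] at this
    rw [← LocalizedModule.zero_mk (1 : x.1.asIdeal.primeCompl), LocalizedModule.mk_eq] at this
    obtain ⟨u, hu⟩ := this
    exact ⟨u.1, u.2, by simpa [Submonoid.smul_def] using hu⟩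
  · intro h
    apply sec_ext
    intro x
    obtain ⟨u, hu, hum⟩ := h x
    rw [toOpenₗ_apply, zero_apply, ← LocalizedModule.zero_mk (1 : x.1.asIdeal.primeCompl),
      LocalizedModule.mk_eq]
    exact ⟨⟨u, hu⟩, by simpa [Submonoid.smul_def] using hum⟩

omit [IsNoetherianRing A] in
theorem toOpenₗ_DJ_eq_zero_iff (m : M) :
    toOpenₗ A M (DJ J) m = 0 ↔ J ≤ ((Submodule.span A {m}).annihilator).radical := by
  rw [toOpenₗ_eq_zero_iff]
  constructor
  · intro h
    rw [Ideal.radical_eq_sInf]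
    apply le_sInf
    rintro P ⟨hP1, hP2⟩
    by_contra hJP
    obtain ⟨u, hu, hum⟩ := h ⟨⟨P, hP2⟩, mem_DJ.mpr hJP⟩
    exact hu (hP1 (Submodule.mem_annihilator_span_singleton _ _ |>.mpr hum))
  · intro h x
    have hx : ¬ J ≤ x.1.asIdeal := mem_DJ.mp x.2
    obtain ⟨j, hjJ, hjx⟩ := Set.not_subset.mp hx
    obtain ⟨n, hn⟩ := h hjJ
    refine ⟨j ^ n, fun hmem => hjx (x.1.isPrime.mem_of_pow_mem n hmem), ?_⟩
    exact (Submodule.mem_annihilator_span_singleton _ _).mp hn

/-- (L1) the kernel of `M → Γ(D(J), M~)` is the `J`-power torsion -/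
theorem toOpenₗ_DJ_eq_zero_iff_exists_pow (m : M) :
    toOpenₗ A M (DJ J) m = 0 ↔ ∃ n : ℕ, ∀ a ∈ J ^ n, a • m = 0 := by
  rw [toOpenₗ_DJ_eq_zero_iff]
  constructor
  · intro h
    obtain ⟨n, hn⟩ := Ideal.exists_pow_le_of_le_radical_of_fg h (IsNoetherian.noetherian J)
    exact ⟨n, fun a ha => (Submodule.mem_annihilator_span_singleton _ _).mp (hn ha)⟩
  · rintro ⟨n, hn⟩ j hj
    exact ⟨n, (Submodule.mem_annihilator_span_singleton _ _).mpr (hn _ (Ideal.pow_mem_pow hj n))⟩

omit [IsNoetherianRing A] in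
/-- (L2) sections over `D(J)` have no `J`-power torsion -/
theorem eq_zero_of_forall_pow_smul_eq_zero (s : Γ(M, DJ J))
    (h : ∀ j ∈ J, ∃ n : ℕ, j ^ n • s = 0) : s = 0 := by
  apply sec_ext
  intro x
  have hx : ¬ J ≤ x.1.asIdeal := mem_DJ.mp x.2
  obtain ⟨j, hjJ, hjx⟩ := Set.not_subset.mp hx
  obtain ⟨n, hn⟩ := h j hjJ
  have h1 := congrArg (fun t => t.1 x) hn
  simp only [smul_apply, zero_apply] at h1
  have hjn : j ^ n ∉ x.1.asIdeal := fun hmem => hjx (x.1.isPrime.mem_of_pow_mem n hmem)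
  have hunit : IsUnit (algebraMap A (Module.End A (LocalizedModule x.1.asIdeal.primeCompl M))
      (j ^ n)) := IsLocalizedModule.map_units (S := x.1.asIdeal.primeCompl)
      (LocalizedModule.mkLinearMap x.1.asIdeal.primeCompl M) ⟨j ^ n, hjn⟩
  rw [Module.End.isUnit_iff] at hunit
  apply hunit.injective
  rw [Module.algebraMap_end_apply, Module.algebraMap_end_apply, zero_apply]
  exact h1.trans (smul_zero _).symm

end conductor

section conductor2

variable [IsNoetherianRing A] (J : Ideal A)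

theorem pow_smul_eq_zero_of_le {N : Type*} [AddCommGroup N] [Module A N] (j : A) (v : N)
    {n k : ℕ} (hnk : n ≤ k) (h : j ^ n • v = 0) : j ^ k • v = 0 := by
  obtain ⟨d, rfl⟩ := Nat.exists_eq_add_of_le hnk
  rw [pow_add, mul_comm, mul_smul, h, smul_zero]

/-- a section vanishing on `U ∩ D(j)` is killed by a power of `j` -/
theorem exists_pow_smul_eq_zero_of_vanish (U : Opens (PrimeSpectrum.Top A)) (j : A)
    (t : Γ(M, U)) (ht : ∀ x : U, j ∉ x.1.asIdeal → t.1 x = 0) : ∃ n : ℕ, j ^ n • t = 0 := by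
  have key : ∃ n : ℕ, ∀ x : U, x.1 ∈ (U : Set (PrimeSpectrum.Top A)) → j ^ n • t.1 x = 0 := by
    refine (isCompact_opens U).induction_on
      (p := fun W => ∃ n : ℕ, ∀ x : U, x.1 ∈ W → j ^ n • t.1 x = 0) ?_ ?_ ?_ ?_
    · exact ⟨0, fun x hx => absurd hx (Set.notMem_empty _)⟩
    · rintro W W' hWW' ⟨n, hn⟩
      exact ⟨n, fun x hx => hn x (hWW' hx)⟩
    · rintro W W' ⟨n, hn⟩ ⟨n', hn'⟩
      refine ⟨max n n', fun x hx => ?_⟩
      rcases hx with hx | hx
      · exact pow_smul_eq_zero_of_le j _ (le_max_left _ _) (hn x hx)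
      · exact pow_smul_eq_zero_of_le j _ (le_max_right _ _) (hn' x hx)
    · intro x hx
      obtain ⟨g, hxg, hgU, f, hfg⟩ := exists_const U t x hx
      refine ⟨(PrimeSpectrum.basicOpen g).1,
        mem_nhdsWithin_of_mem_nhds ((PrimeSpectrum.basicOpen g).2.mem_nhds hxg), ?_⟩
      have hval : ∀ y : U, (hy : g ∉ y.1.asIdeal) → t.1 y = LocalizedModule.mk f ⟨g, hy⟩ := by
        intro y hy
        have := congrArg (fun r => r.1 ⟨y.1, hy⟩) hfg
        exact this.symm
      have h0 : toOpenₗ A M (PrimeSpectrum.basicOpen (g * j)) f = 0 := by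
        rw [toOpenₗ_eq_zero_iff]
        intro y
        have hy : g * j ∉ y.1.asIdeal := y.2
        have hyg : g ∉ y.1.asIdeal := fun h => hy (Ideal.mul_mem_right _ _ h)
        have hyj : j ∉ y.1.asIdeal := fun h => hy (Ideal.mul_mem_left _ _ h)
        have hyU : y.1 ∈ U := hgU hyg
        have h1 := ht ⟨y.1, hyU⟩ hyj
        rw [hval ⟨y.1, hyU⟩ hyg, ← LocalizedModule.zero_mk (⟨g, hyg⟩ : y.1.asIdeal.primeCompl),
          LocalizedModule.mk_eq] at h1
        obtain ⟨u, hu⟩ := h1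
        refine ⟨u.1 * g, y.1.asIdeal.primeCompl.mul_mem u.2 hyg, ?_⟩
        simpa [Submonoid.smul_def, mul_smul] using hu
      obtain ⟨c, hc⟩ := (IsLocalizedModule.eq_zero_iff (Submonoid.powers (g * j))
        (toOpenₗ A M (PrimeSpectrum.basicOpen (g * j)))).mp h0
      obtain ⟨_, n, rfl⟩ := c
      refine ⟨n, fun y hy => ?_⟩
      have hyg : g ∉ y.1.asIdeal := hy
      rw [hval y hyg, LocalizedModule.smul'_mk,
        ← LocalizedModule.zero_mk (⟨g, hyg⟩ : y.1.asIdeal.primeCompl), LocalizedModule.mk_eq]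
      refine ⟨⟨g ^ n, fun h => hyg (y.1.isPrime.mem_of_pow_mem n h)⟩, ?_⟩
      have hc' : (g * j) ^ n • f = 0 := hc
      simp only [Submonoid.smul_def, smul_zero]
      rw [smul_comm (g ^ n) g, ← mul_smul (g ^ n), ← mul_pow, hc', smul_zero]
  obtain ⟨n, hn⟩ := key
  exact ⟨n, sec_ext fun x => hn x x.2⟩

theorem basicOpen_le_DJ {j : A} (hj : j ∈ J) :
    (PrimeSpectrum.basicOpen j : Opens (PrimeSpectrum.Top A)) ≤ DJ J := by
  intro x hx
  exact mem_DJ.mpr (fun hJx => hx (hJx hj))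

/-- (L3) a power of each `j ∈ J` multiplies a section over `D(J)` into the image of `M` -/
theorem exists_pow_smul_mem_range_of_mem (s : Γ(M, DJ J)) (j : A) (hj : j ∈ J) :
    ∃ n : ℕ, j ^ n • s ∈ LinearMap.range (toOpenₗ A M (DJ J)) := by
  have hle := basicOpen_le_DJ J hj
  obtain ⟨⟨m, c⟩, hmc⟩ := IsLocalizedModule.surj (Submonoid.powers j)
    (toOpenₗ A M (PrimeSpectrum.basicOpen j))
    ((structureSheafInType A M).1.map (homOfLE hle).op s)
  obtain ⟨_, k, rfl⟩ := c
  have hmc' : j ^ k • (structureSheafInType A M).1.map (homOfLE hle).op s =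
      toOpenₗ A M (PrimeSpectrum.basicOpen j) m := hmc
  obtain ⟨n, hn⟩ := exists_pow_smul_eq_zero_of_vanish (DJ J) j
    (j ^ k • s - toOpenₗ A M (DJ J) m) (by
      intro x hx
      have := congrArg (fun r => r.1 ⟨x.1, hx⟩) hmc'
      simp only [toOpenₗ_apply] at this
      rw [sub_apply, smul_apply, toOpenₗ_apply, sub_eq_zero]
      exact this)
  refine ⟨n + k, j ^ n • m, ?_⟩
  rw [smul_sub, sub_eq_zero] at hn
  rw [map_smul, ← hn, pow_add, mul_smul]

/-- (L3) the conductor of a section contains a power of `J` -/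
theorem exists_pow_smul_mem_range (s : Γ(M, DJ J)) :
    ∃ n : ℕ, ∀ a ∈ J ^ n, a • s ∈ LinearMap.range (toOpenₗ A M (DJ J)) := by
  let N : Ideal A :=
    { carrier := {c | c • s ∈ LinearMap.range (toOpenₗ A M (DJ J))}
      add_mem' := fun {x y} hx hy => by
        change (x + y) • s ∈ LinearMap.range (toOpenₗ A M (DJ J))
        rw [add_smul]
        exact Submodule.add_mem _ hx hy
      zero_mem' := by
        change (0 : A) • s ∈ LinearMap.range (toOpenₗ A M (DJ J))
        rw [zero_smul]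
        exact Submodule.zero_mem _
      smul_mem' := fun r {x} hx => by
        change (r • x) • s ∈ LinearMap.range (toOpenₗ A M (DJ J))
        rw [smul_assoc]
        exact Submodule.smul_mem _ r hx }
  have hJ : J ≤ N.radical := by
    intro j hj
    obtain ⟨n, hn⟩ := exists_pow_smul_mem_range_of_mem J s j hj
    exact ⟨n, hn⟩
  obtain ⟨n, hn⟩ := Ideal.exists_pow_le_of_le_radical_of_fg hJ (IsNoetherian.noetherian J)
  exact ⟨n, fun a ha => hn ha⟩

end conductor2

end Groth.Agent.Lib.Helper18.TildeSec
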