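import Mathlib
import Groth.Agent.Lib.Helper18.TildeSec1
import Groth.Agent.Lib.Helper18.QGor6

set_option autoImplicit false
set_option backward.isDefEq.respectTransparency.types false
set_option linter.unusedSectionVars false
universe u

open AlgebraicGeometry StructureSheaf TopologicalSpace Opposite CategoryTheory

namespace Groth.Agent.Lib.Helper18.TildeSec

open Groth.Agent.Lib.Helper16.Depth Groth.Agent.Lib.Helper16.LC Groth.Agent.Lib.Helper18.QGor

variable {A : Type u} [CommRing A] [IsNoetherianRing A] {M : Type u} [AddCommGroup M] [Module A M]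

local notation "Γ(" M ", " U ")" =>
  (Functor.obj (ObjectProperty.FullSubcategory.obj (structureSheafInType _ M))) (Opposite.op U)

section inj

variable (J : Ideal A)

/-- (P1) `M → Γ(D(J), M~)` is injective iff no associated prime of `M` contains `J` -/
theorem toOpenₗ_DJ_injective_iff :
    Function.Injective (toOpenₗ A M (DJ J)) ↔ ∀ p ∈ associatedPrimes A M, ¬ J ≤ p := by
  rw [injective_iff_map_eq_zero]
  constructor
  · intro h p hp hJp
    obtain ⟨hpp, m, rfl⟩ := (isAssociatedPrime_iff).mp hp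
    have hm : m = 0 := by
      apply h
      rw [toOpenₗ_DJ_eq_zero_iff_exists_pow]
      refine ⟨1, fun a ha => ?_⟩
      rw [pow_one] at ha
      have := hJp ha
      rwa [Submodule.mem_colon_singleton, Submodule.mem_bot] at this
    apply hpp.ne_top
    rw [Ideal.eq_top_iff_one, Submodule.mem_colon_singleton, hm, smul_zero]
    exact Submodule.zero_mem _
  · intro h m hm
    by_contra hne
    obtain ⟨P, hP, hle⟩ := exists_le_isAssociatedPrime_of_isNoetherianRing A m hne
    apply h P hP
    have hPp : P.IsPrime := hP.isPrime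
    obtain ⟨n, hn⟩ := (toOpenₗ_DJ_eq_zero_iff_exists_pow J m).mp hm
    intro j hj
    apply hPp.mem_of_pow_mem n
    apply hle
    rw [Submodule.mem_colon_singleton, Submodule.mem_bot]
    exact hn _ (Ideal.pow_mem_pow hj n)

theorem toOpenₗ_DJ_injective_of_one_le [Module.Finite A M] (h : 1 ≤ LocCoh.idealDepth J M) :
    Function.Injective (toOpenₗ A M (DJ J)) := by
  rw [injective_iff_map_eq_zero]
  intro m hm
  obtain ⟨n, hn⟩ := (toOpenₗ_DJ_eq_zero_iff_exists_pow J m).mp hm
  apply Groth.Agent.Lib.Helper18.QGor.eq_zero_of_forall_pow_smul_eq_zero J M h m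
  intro j hj
  exact ⟨n, hn _ (Ideal.pow_mem_pow hj n)⟩

theorem one_le_of_toOpenₗ_DJ_injective [Module.Finite A M]
    (h : Function.Injective (toOpenₗ A M (DJ J))) : 1 ≤ LocCoh.idealDepth J M := by
  obtain ⟨x, hxJ, hx⟩ := exists_mem_isSMulRegular_of_forall_not_le J M
    ((toOpenₗ_DJ_injective_iff J).mp h)
  have := (le_idealDepth_iff J M 1).mpr (Or.inr (HasRegSeq.cons hxJ hx HasRegSeq.zero))
  simpa using this

end inj

section surj

open Pointwise RingTheory.Sequence

variable (J : Ideal A)

omit [IsNoetherianRing A] in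
theorem isSMulRegular_localizedModule (S : Submonoid A) {x : A} (hx : IsSMulRegular M x) :
    IsSMulRegular (LocalizedModule S M) x := by
  intro z w hzw
  rw [← sub_eq_zero] at hzw ⊢
  change x • z - x • w = 0 at hzw
  rw [← smul_sub] at hzw
  generalize z - w = v at hzw
  induction v using LocalizedModule.induction_on with
  | h m u =>
    rw [LocalizedModule.smul'_mk, ← LocalizedModule.zero_mk u, LocalizedModule.mk_eq] at hzw
    obtain ⟨c, hc⟩ := hzw
    rw [← LocalizedModule.zero_mk u, LocalizedModule.mk_eq]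
    refine ⟨c, ?_⟩
    simp only [Submonoid.smul_def, smul_zero] at hc ⊢
    apply hx
    change x • (c.1 • u.1 • m) = x • 0
    rw [smul_zero, ← hc]
    simp only [← mul_smul]
    congr 1
    ring

omit [IsNoetherianRing A] in
theorem eq_zero_of_smul_eq_zero {U : Opens (PrimeSpectrum.Top A)} {x : A}
    (hx : IsSMulRegular M x) (s : Γ(M, U)) (h : x • s = 0) : s = 0 := by
  apply sec_ext
  intro y
  have h1 := congrArg (fun t => t.1 y) h
  simp only [smul_apply, zero_apply] at h1
  apply isSMulRegular_localizedModule y.1.asIdeal.primeCompl hx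
  rw [zero_apply]
  exact h1.trans (smul_zero _).symm

variable [Module.Finite A M]

/-- (P2) -/
theorem toOpenₗ_DJ_surjective_of_two_le (h : 2 ≤ LocCoh.idealDepth J M) :
    Function.Surjective (toOpenₗ A M (DJ J)) := by
  intro s
  have hinj := toOpenₗ_DJ_injective_of_one_le J (le_trans (by norm_num) h)
  obtain ⟨n, hn⟩ := exists_pow_smul_mem_range J s
  have h2 : ((2 : ℕ) : ℕ∞) ≤ LocCoh.idealDepth (J ^ n) M := by
    apply le_idealDepth_of_forall_le_depth (J ^ n) 2 M
    intro p hp hJp
    have hJ : J ≤ p := hp.le_of_pow_le hJp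
    exact le_trans (by simpa using h) (idealDepth_le_depth_localizedModule_of_le J M p hJ)
  rw [le_idealDepth_iff] at h2
  rcases h2 with htop | ⟨rs, hlen, hreg, hmem⟩
  · obtain ⟨e, he, heM⟩ := Submodule.exists_sub_one_mem_and_smul_eq_zero_of_fg_of_le_smul (J ^ n)
      (⊤ : Submodule A M) Module.Finite.fg_top htop.ge
    have hc : 1 - e ∈ J ^ n := by
      have := (J ^ n).neg_mem he
      simpa using this
    have hcm : ∀ m : M, (1 - e) • m = m := by
      intro m
      rw [sub_smul, one_smul, heM m trivial, sub_zero]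
    obtain ⟨m0, hm0⟩ := hn _ hc
    refine ⟨m0, ?_⟩
    rw [hm0]
    apply sec_ext
    intro y
    rw [smul_apply]
    generalize s.1 y = v
    induction v using LocalizedModule.induction_on with
    | h m u => rw [LocalizedModule.smul'_mk, hcm]
  · obtain ⟨x, y, rfl⟩ := List.length_eq_two.mp hlen
    rw [isWeaklyRegular_cons_iff, isWeaklyRegular_cons_iff] at hreg
    obtain ⟨hx, hy, -⟩ := hreg
    obtain ⟨mx, hmx⟩ := hn x (hmem x (by simp))
    obtain ⟨my, hmy⟩ := hn y (hmem y (by simp))
    have heq : y • mx = x • my := by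
      apply hinj
      rw [map_smul, map_smul, hmx, hmy, smul_comm]
    have hmem' : mx ∈ x • (⊤ : Submodule A M) := by
      have h0 : y • (Submodule.Quotient.mk mx : QuotSMulTop x M) = y • 0 := by
        rw [smul_zero, ← Submodule.Quotient.mk_smul, heq, Submodule.Quotient.mk_eq_zero]
        exact Submodule.smul_mem_pointwise_smul _ _ _ Submodule.mem_top
      have := hy h0
      rwa [Submodule.Quotient.mk_eq_zero] at this
    obtain ⟨m', -, hm'⟩ := (Submodule.mem_smul_pointwise_iff_exists _ _ _).mp hmem'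
    refine ⟨m', ?_⟩
    rw [← sub_eq_zero]
    apply eq_zero_of_smul_eq_zero hx
    rw [smul_sub, ← map_smul, hm', hmx, sub_self]

theorem toOpenₗ_DJ_bijective_of_two_le (h : 2 ≤ LocCoh.idealDepth J M) :
    Function.Bijective (toOpenₗ A M (DJ J)) :=
  ⟨toOpenₗ_DJ_injective_of_one_le J (le_trans (by norm_num) h),
    toOpenₗ_DJ_surjective_of_two_le J h⟩

end surj

section conv

open Pointwise RingTheory.Sequence

variable (J : Ideal A)

/-- the section `m/x` over `D(J)` when `J m ⊆ x M` and `x` is `M`-regular -/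
theorem exists_sec_of_colon {x : A} (hx : IsSMulRegular M x) (m : M)
    (hJ : ∀ a ∈ J, ∃ n : M, a • m = x • n) :
    ∃ σ : Γ(M, DJ J), x • σ = toOpenₗ A M (DJ J) m := by
  classical
  have hch : ∀ y : DJ J, ∃ a : A, a ∈ J ∧ a ∉ y.1.asIdeal := fun y =>
    Set.not_subset.mp (mem_DJ.mp y.2)
  choose a haJ hay using hch
  choose n hn using fun y : DJ J => hJ (a y) (haJ y)
  have hcompat : ∀ y z : DJ J, a y • n z = a z • n y := by
    intro y z
    apply hx
    change x • (a y • n z) = x • (a z • n y)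
    rw [smul_comm x, ← hn z, smul_comm x, ← hn y, smul_comm]
  let f : Π y : DJ J, Localizations M y.1 := fun y => LocalizedModule.mk (n y) ⟨a y, hay y⟩
  have hf : (isLocallyFraction A M).pred f := by
    intro y
    refine ⟨PrimeSpectrum.basicOpen (a y), hay y, homOfLE (basicOpen_le_DJ J (haJ y)), n y, a y,
      fun z => ⟨z.2, ?_⟩⟩
    change LocalizedModule.mk (n ⟨z.1, _⟩) ⟨a ⟨z.1, _⟩, _⟩ = LocalizedModule.mk (n y) ⟨a y, _⟩
    rw [LocalizedModule.mk_eq]
    refine ⟨1, ?_⟩
    simp only [one_smul, Submonoid.smul_def]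
    exact (hcompat _ _).symm
  refine ⟨⟨f, hf⟩, ?_⟩
  apply sec_ext
  intro y
  rw [smul_apply, toOpenₗ_apply]
  change x • LocalizedModule.mk (n y) ⟨a y, hay y⟩ = _
  rw [LocalizedModule.smul'_mk, ← hn y, LocalizedModule.mk_eq]
  exact ⟨1, by simp [Submonoid.smul_def]⟩

variable [Module.Finite A M]

/-- (P3) -/
theorem two_le_of_toOpenₗ_DJ_bijective (h : Function.Bijective (toOpenₗ A M (DJ J))) :
    2 ≤ LocCoh.idealDepth J M := by
  obtain ⟨x, hxJ, hx⟩ := exists_mem_isSMulRegular_of_forall_not_le J M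
    ((toOpenₗ_DJ_injective_iff J).mp h.1)
  have hass : ∀ Q ∈ associatedPrimes A (QuotSMulTop x M), ¬ J ≤ Q := by
    intro Q hQ hJQ
    obtain ⟨hQp, mbar, rfl⟩ := (isAssociatedPrime_iff).mp hQ
    obtain ⟨m, rfl⟩ := Submodule.Quotient.mk_surjective _ mbar
    have hJm : ∀ a ∈ J, ∃ n : M, a • m = x • n := by
      intro a ha
      have := hJQ ha
      rw [Submodule.mem_colon_singleton, Submodule.mem_bot, ← Submodule.Quotient.mk_smul,
        Submodule.Quotient.mk_eq_zero] at this
      obtain ⟨n, -, hn⟩ := (Submodule.mem_smul_pointwise_iff_exists _ _ _).mp this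
      exact ⟨n, hn.symm⟩
    obtain ⟨σ, hσ⟩ := exists_sec_of_colon J hx m hJm
    obtain ⟨m', rfl⟩ := h.2 σ
    have hmm : x • m' = m := h.1 (by rw [map_smul, hσ])
    apply hQp.ne_top
    rw [Ideal.eq_top_iff_one, Submodule.mem_colon_singleton, one_smul, Submodule.mem_bot,
      Submodule.Quotient.mk_eq_zero, ← hmm]
    exact Submodule.smul_mem_pointwise_smul _ _ _ Submodule.mem_top
  obtain ⟨y, hyJ, hy⟩ := exists_mem_isSMulRegular_of_forall_not_le J (QuotSMulTop x M) hass
  have := (le_idealDepth_iff J M 2).mpr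
    (Or.inr (HasRegSeq.cons hxJ hx (HasRegSeq.cons hyJ hy HasRegSeq.zero)))
  simpa using this

/-- **CORE**: `M → Γ(D(J), M~)` is bijective iff `depth_J M ≥ 2` -/
theorem toOpenₗ_DJ_bijective_iff :
    Function.Bijective (toOpenₗ A M (DJ J)) ↔ 2 ≤ LocCoh.idealDepth J M :=
  ⟨two_le_of_toOpenₗ_DJ_bijective J, toOpenₗ_DJ_bijective_of_two_le J⟩

theorem toOpenₗ_DJ_injective_iff_one_le :
    Function.Injective (toOpenₗ A M (DJ J)) ↔ 1 ≤ LocCoh.idealDepth J M :=
  ⟨one_le_of_toOpenₗ_DJ_injective J, toOpenₗ_DJ_injective_of_one_le J⟩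

end conv

end Groth.Agent.Lib.Helper18.TildeSec
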