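import Mathlib
import Groth.Prelude.Def_CAlg
import Groth.Prelude.Def_EGA4b
import Groth.Agent.Lib.Helper18.NorOpen2

set_option autoImplicit false
set_option linter.unusedSectionVars false
universe u

open IsLocalRing Pointwise

namespace Groth.Agent.Lib.Helper18.NorOpen

open Groth.Agent.Lib.Helper18.CM Groth.Agent.Lib.Helper18.Serre Groth.Agent.Lib.Helper18.RkFlat

variable {A : Type u} [CommRing A]

/-- prime avoidance, packaged -/
theorem exists_mem_forall_notMem_of_finite (I : Ideal A) (s : Set (Ideal A)) (hs : s.Finite)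
    (hp : ∀ P ∈ s, P.IsPrime) (hI : ∀ P ∈ s, ¬ I ≤ P) : ∃ f ∈ I, ∀ P ∈ s, f ∉ P := by
  classical
  by_contra hcon
  push Not at hcon
  set t : Finset (Ideal A) := hs.toFinset with ht
  have hsub : ((I : Ideal A) : Set A) ⊆
      ⋃ i ∈ (↑t : Set (Ideal A)), ((id i : Ideal A) : Set A) := by
    intro y hy
    simp only [Set.mem_iUnion, SetLike.mem_coe, exists_prop]
    obtain ⟨P, hP, hyP⟩ := hcon y hy
    exact ⟨P, by simp [ht, hP], hyP⟩
  by_cases hne : t.Nonempty
  · obtain ⟨a, ha⟩ := hne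
    rw [Ideal.subset_union_prime a a] at hsub
    · obtain ⟨i, hi, hle⟩ := hsub
      simp only [ht, Set.Finite.mem_toFinset] at hi
      exact hI i hi hle
    · intro i hi _ _
      simp only [ht, Set.Finite.mem_toFinset] at hi
      exact hp i hi
  · rw [Finset.not_nonempty_iff_eq_empty] at hne
    rw [hne] at hsub
    simp only [Finset.coe_empty, Set.mem_empty_iff_false, Set.iUnion_of_empty,
      Set.iUnion_empty, Set.subset_empty_iff] at hsub
    have : (0 : A) ∈ (I : Set A) := I.zero_mem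
    rw [hsub] at this
    exact this

/-- general pattern: a locus defined by a generization-stable pointwise condition is open once
the failures are dominated by finitely many failures -/
theorem isOpen_of_forall_good (G : ∀ (Q : Ideal A) [Q.IsPrime], Prop)
    (U : Set (PrimeSpectrum A))
    (hU : ∀ p : PrimeSpectrum A, p ∈ U ↔ ∀ (Q : Ideal A) [Q.IsPrime], Q ≤ p.asIdeal → G Q)
    (F₀ : Set (Ideal A)) (hF : F₀.Finite)
    (h : ∀ (Q : Ideal A) [Q.IsPrime], ¬ G Q → ∃ Q₀ ∈ F₀, ∃ _ : Q₀.IsPrime, Q₀ ≤ Q ∧ ¬ G Q₀) :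
    IsOpen U := by
  apply isOpen_of_finite_bad {Q₀ | Q₀ ∈ F₀ ∧ ∃ _ : Q₀.IsPrime, ¬ G Q₀}
    (hF.subset (fun Q hQ => hQ.1))
  intro p
  rw [hU]
  simp only [Set.mem_ofPred_eq]
  constructor
  · rintro hgood Q₀ ⟨-, hQ₀p, hQ₀bad⟩ hle
    exact hQ₀bad (hgood Q₀ hle)
  · intro hbad Q _ hQp
    by_contra hQbad
    obtain ⟨Q₀, hQ₀F, hQ₀p, hQ₀Q, hQ₀bad⟩ := h Q hQbad
    exact hbad Q₀ ⟨hQ₀F, hQ₀p, hQ₀bad⟩ (hQ₀Q.trans hQp)

/-- from neighbourhoods of the generic points in `W` to a single `f` -/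
theorem exists_basicOpen_subset [IsNoetherianRing A] (W : Set (PrimeSpectrum A))
    (h : ∀ p : PrimeSpectrum A, p.asIdeal ∈ minimalPrimes A → p ∈ W →
      ∃ U : Set (PrimeSpectrum A), IsOpen U ∧ p ∈ U ∧ U ⊆ W) :
    ∃ f : A, (∀ p : PrimeSpectrum A, f ∉ p.asIdeal → p ∈ W) ∧
      ∀ p : PrimeSpectrum A, p.asIdeal ∈ minimalPrimes A → p ∈ W → f ∉ p.asIdeal := by
  set U : Set (PrimeSpectrum A) := interior W with hU
  have hUo : IsOpen U := isOpen_interior
  have hUW : U ⊆ W := interior_subset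
  have hmin : ∀ p : PrimeSpectrum A, p.asIdeal ∈ minimalPrimes A → p ∈ W → p ∈ U := by
    intro p hp hpW
    obtain ⟨V, hVo, hpV, hVW⟩ := h p hp hpW
    exact interior_maximal hVW hVo hpV
  set Z : Set (PrimeSpectrum A) := Uᶜ with hZ
  have hZc : IsClosed Z := hUo.isClosed_compl
  set J : Ideal A := PrimeSpectrum.vanishingIdeal Z with hJ
  have hZJ : PrimeSpectrum.zeroLocus (J : Set A) = Z := by
    rw [hJ, PrimeSpectrum.zeroLocus_vanishingIdeal_eq_closure, hZc.closure_eq]
  have hmem : ∀ p : PrimeSpectrum A, p ∈ U ↔ ¬ J ≤ p.asIdeal := by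
    intro p
    have h1 : p ∈ Z ↔ J ≤ p.asIdeal := by
      rw [← hZJ, PrimeSpectrum.mem_zeroLocus]
      exact SetLike.coe_subset_coe
    rw [← h1, hZ, Set.mem_compl_iff, not_not]
  obtain ⟨f, hfJ, hf⟩ := exists_mem_forall_notMem_of_finite J
    {P | P ∈ minimalPrimes A ∧ ∃ hP : P.IsPrime, (⟨P, hP⟩ : PrimeSpectrum A) ∈ W}
    ((minimalPrimes.finite_of_isNoetherianRing A).subset (fun P hP => hP.1))
    (fun P hP => hP.1.1.1)
    (fun P ⟨hPmin, hPp, hPW⟩ => (hmem ⟨P, hPp⟩).mp (hmin ⟨P, hPp⟩ hPmin hPW))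
  refine ⟨f, ?_, ?_⟩
  · intro p hfp
    apply hUW
    rw [hmem]
    intro hle
    exact hfp (hle hfJ)
  · intro p hp hpW
    exact hf p.asIdeal ⟨hp, p.2, hpW⟩

variable [IsNoetherianRing A]

theorem isOpen_hasRkAt_one_of_generic
    (h : ∀ p : PrimeSpectrum A, p.asIdeal ∈ minimalPrimes A → EGA4.HasRkAt 1 A p.asIdeal →
      ∃ U : Set (PrimeSpectrum A), IsOpen U ∧ p ∈ U ∧
        U ⊆ {p : PrimeSpectrum A | EGA4.HasRkAt 1 A p.asIdeal}) :
    IsOpen {p : PrimeSpectrum A | EGA4.HasRkAt 1 A p.asIdeal} := by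
  set W : Set (PrimeSpectrum A) := {p : PrimeSpectrum A | EGA4.HasRkAt 1 A p.asIdeal} with hWdef
  have hW : ∀ p : PrimeSpectrum A, p ∈ W ↔ ∀ (Q : Ideal A) [Q.IsPrime], Q ≤ p.asIdeal →
      (Q.height ≤ (1 : ℕ) → IsRegularLocalRing (Localization.AtPrime Q)) := by
    intro p
    rw [hWdef, Set.mem_ofPred_eq]
    unfold EGA4.HasRkAt
    exact hasRk_localization_iff p.asIdeal 1
  obtain ⟨f, hf1, hf2⟩ := exists_basicOpen_subset W h
  apply isOpen_of_forall_good
    (fun Q _ => Q.height ≤ (1 : ℕ) → IsRegularLocalRing (Localization.AtPrime Q)) W hW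
    (minimalPrimes A ∪ (Ideal.span {f}).minimalPrimes)
    ((minimalPrimes.finite_of_isNoetherianRing A).union
      (Ideal.finite_minimalPrimes_of_isNoetherianRing A _))
  intro Q _ hQbad
  by_cases hE : ∃ P ∈ minimalPrimes A, ∃ _ : P.IsPrime, P ≤ Q ∧
      ¬ (P.height ≤ (1 : ℕ) → IsRegularLocalRing (Localization.AtPrime P))
  · obtain ⟨P, hP, hPp, hPQ, hPbad⟩ := hE
    exact ⟨P, Or.inl hP, hPp, hPQ, hPbad⟩
  · push Not at hE
    have hQW : (⟨Q, inferInstance⟩ : PrimeSpectrum A) ∉ W := fun hQW =>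
      hQbad ((hW _).mp hQW Q le_rfl)
    have hfQ : f ∈ Q := by
      by_contra hfQ
      exact hQW (hf1 ⟨Q, inferInstance⟩ hfQ)
    have hfmin : ∀ P ∈ minimalPrimes A, P ≤ Q → f ∉ P := by
      intro P hP hPQ
      have hPp : P.IsPrime := hP.1.1
      apply hf2 ⟨P, hPp⟩ hP
      rw [hW]
      intro Q' _ hQ'P
      have heq : Q' = P := le_antisymm hQ'P (hP.2 ⟨inferInstance, bot_le⟩ hQ'P)
      subst heq
      exact fun hk => hE Q' hP inferInstance hPQ hk
    push Not at hQbad
    obtain ⟨hht, hnreg⟩ := hQbad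
    refine ⟨Q, Or.inr ⟨⟨inferInstance, (Ideal.span_singleton_le_iff_mem _).mpr hfQ⟩, ?_⟩,
      inferInstance, le_rfl, fun hg => hnreg (hg hht)⟩
    rintro Q' ⟨hQ'p, hfQ'⟩ hQ'Q
    by_contra hnle
    have hlt : Q' < Q := lt_of_le_of_ne hQ'Q (fun heq => hnle (heq ▸ le_rfl))
    have hht' : Q'.height < Q.height := Ideal.height_strict_mono_of_isPrime_of_isPrime hlt
    have h0 : Q'.height = 0 := by
      have h1 : Q'.height < (1 : ℕ) := lt_of_lt_of_le hht' hht
      have : Q'.height < 1 := by exact_mod_cast h1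
      exact Order.lt_one_iff.mp this
    have hQ'min : Q' ∈ minimalPrimes A := Ideal.height_eq_zero_iff.mp h0
    exact hfmin Q' hQ'min hQ'Q ((Ideal.span_singleton_le_iff_mem _).mp hfQ')

theorem isOpen_norLocus_of_generic
    (h : ∀ p : PrimeSpectrum A, p.asIdeal ∈ minimalPrimes A → p ∈ EGA4.norLocus A →
      ∃ U : Set (PrimeSpectrum A), IsOpen U ∧ p ∈ U ∧ U ⊆ EGA4.norLocus A) :
    IsOpen (EGA4.norLocus A) := by
  have hW : ∀ p : PrimeSpectrum A, p ∈ EGA4.norLocus A ↔
      ∀ (Q : Ideal A) [Q.IsPrime], Q ≤ p.asIdeal → Good Q := by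
    intro p
    unfold EGA4.norLocus
    rw [Set.mem_ofPred_eq]
    exact normal_localization_iff_forall_good p.asIdeal
  obtain ⟨f, hf1, hf2⟩ := exists_basicOpen_subset (EGA4.norLocus A) h
  apply isOpen_of_forall_good (fun Q _ => Good Q) (EGA4.norLocus A) hW
    (associatedPrimes A A ∪ associatedPrimes A (A ⧸ Ideal.span {f}))
    ((associatedPrimes.finite A A).union (associatedPrimes.finite A _))
  intro Q _ hQbad
  by_cases hE : ∃ P ∈ associatedPrimes A A, ∃ _ : P.IsPrime, P ≤ Q ∧ ¬ Good P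
  · obtain ⟨P, hP, hPp, hPQ, hPbad⟩ := hE
    exact ⟨P, Or.inl hP, hPp, hPQ, hPbad⟩
  · push Not at hE
    have hQW : (⟨Q, inferInstance⟩ : PrimeSpectrum A) ∉ EGA4.norLocus A := fun hQW =>
      hQbad ((hW _).mp hQW Q le_rfl)
    have hfQ : f ∈ Q := by
      by_contra hfQ
      exact hQW (hf1 ⟨Q, inferInstance⟩ hfQ)
    have hfreg : IsSMulRegular (Localization.AtPrime Q)
        (algebraMap A (Localization.AtPrime Q) f) := by
      apply isSMulRegular_localization_of_notMem
      intro P hP hPQ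
      have hPp : P.IsPrime := IsAssociatedPrime.isPrime hP
      have hgood := hE P hP hPp hPQ
      have hdP : LocCoh.depth (Localization.AtPrime P) (Localization.AtPrime P) = 0 :=
        (depth_localization_eq_zero_iff P).mpr hP
      have h2 := hgood.2
      rw [hdP] at h2
      have hht0 : P.height = 0 := by
        have e2 : ((2 : ℕ) : WithBot ℕ∞) = ((2 : ℕ∞) : WithBot ℕ∞) := rfl
        rw [e2, ← WithBot.coe_min, WithBot.coe_le_coe] at h2
        rcases le_total (2 : ℕ∞) P.height with h | h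
        · rw [min_eq_left h] at h2
          simp at h2
        · rw [min_eq_right h] at h2
          exact le_antisymm h2 zero_le
      have hPmin : P ∈ minimalPrimes A := Ideal.height_eq_zero_iff.mp hht0
      apply hf2 ⟨P, hPp⟩ hPmin
      rw [hW]
      intro Q' _ hQ'P
      have heq : Q' = P := le_antisymm hQ'P (hPmin.2 ⟨inferInstance, bot_le⟩ hQ'P)
      subst heq
      exact hgood
    have hf'm : algebraMap A (Localization.AtPrime Q) f ∈
        maximalIdeal (Localization.AtPrime Q) := by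
      have h3 : (maximalIdeal (Localization.AtPrime Q)).under A = Q :=
        Localization.AtPrime.under_maximalIdeal
      have h4 : f ∈ (maximalIdeal (Localization.AtPrime Q)).under A := by
        rw [h3]
        exact hfQ
      exact h4
    have h1le : 1 ≤ LocCoh.depth (Localization.AtPrime Q) (Localization.AtPrime Q) :=
      (one_le_depth_iff _).mpr ⟨_, hf'm, hfreg⟩
    have hd1 : LocCoh.depth (Localization.AtPrime Q) (Localization.AtPrime Q) = 1 := by
      refine le_antisymm ?_ h1le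
      by_cases ha : Q.height ≤ (1 : ℕ) → IsRegularLocalRing (Localization.AtPrime Q)
      · have hb : ¬ min ((2 : ℕ) : WithBot ℕ∞) (Q.height : WithBot ℕ∞) ≤
            ((LocCoh.depth (Localization.AtPrime Q) (Localization.AtPrime Q) : ℕ∞) :
              WithBot ℕ∞) := fun hb => hQbad ⟨ha, hb⟩
        have e2 : ((2 : ℕ) : WithBot ℕ∞) = ((2 : ℕ∞) : WithBot ℕ∞) := rfl
        rw [e2, ← WithBot.coe_min, WithBot.coe_le_coe, not_le] at hb
        have hlt2 : LocCoh.depth (Localization.AtPrime Q) (Localization.AtPrime Q) < 2 :=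
          lt_of_lt_of_le hb (min_le_left _ _)
        obtain ⟨n, hn⟩ := ENat.ne_top_iff_exists.mp (ne_top_of_lt hlt2)
        rw [← hn] at hlt2 ⊢
        have hn2 : n < 2 := by exact_mod_cast hlt2
        exact_mod_cast (by omega : n ≤ 1)
      · push Not at ha
        exact (depth_localization_le_height Q).trans ha.1
    exact ⟨Q, Or.inr (mem_associatedPrimes_quotient_of_depth_eq_one Q f hfQ hfreg hd1),
      inferInstance, le_rfl, hQbad⟩

end Groth.Agent.Lib.Helper18.NorOpen
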