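import Mathlib
import Groth.Agent.Lib.Helper18.NorOpen
import Groth.Agent.Lib.Helper18.GenericOpen

set_option autoImplicit false
universe u

open IsLocalRing Pointwise

namespace Groth.Agent.Lib.Helper18.Hartshorne

open Groth.Agent.Lib.Helper18.CM Groth.Agent.Lib.Helper18.Serre Groth.Agent.Lib.Helper18.RkFlat
  Groth.Agent.Lib.Helper18.NorOpen

section algebra

variable {A : Type u} [CommRing A]

/-- L1 -/
theorem pow_dvd_of_pow_dvd_mul {x y : A} (hx : x ∈ nonZeroDivisors A)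
    (hy : ∀ a, x ∣ y * a → x ∣ a) : ∀ n a, x ^ n ∣ y * a → x ^ n ∣ a := by
  intro n
  induction n with
  | zero => intro a _; simp
  | succ n ih =>
    intro a h
    have h1 : x ∣ y * a := Dvd.dvd.trans (Dvd.intro_left (x ^ n) (pow_succ x n).symm) h
    obtain ⟨a', rfl⟩ := hy a h1
    obtain ⟨b, hb⟩ := h
    have h2 : y * a' = x ^ n * b := by
      have h3 : x * (y * a') = x * (x ^ n * b) := by
        rw [← mul_assoc x (x ^ n), ← pow_succ', ← hb]; ring
      exact (mul_cancel_left_mem_nonZeroDivisors hx).1 h3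
    obtain ⟨c, rfl⟩ := ih a' ⟨b, h2⟩
    exact ⟨c, by rw [pow_succ]; ring⟩

theorem pow_dvd_of_pow_dvd_pow_mul {x y : A} (hx : x ∈ nonZeroDivisors A)
    (hy : ∀ a, x ∣ y * a → x ∣ a) (n m : ℕ) : ∀ a, x ^ n ∣ y ^ m * a → x ^ n ∣ a := by
  induction m with
  | zero => intro a h; simpa using h
  | succ m ih =>
    intro a h
    apply ih
    apply pow_dvd_of_pow_dvd_mul hx hy n
    rw [← mul_assoc, ← pow_succ']
    exact h

/-- L2 -/
theorem exists_split {I J₁ J₂ : Ideal A} (hrad : I ≤ (J₁ ⊔ J₂).radical)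
    (hnil : ∀ z ∈ I, ∀ w₁ ∈ J₁, ∀ w₂ ∈ J₂, IsNilpotent (z * (w₁ * w₂)))
    {x : A} (hxI : x ∈ I) (hx : x ∈ nonZeroDivisors A) :
    ∃ (a : ℕ) (E₁ E₂ : A), E₁ ∈ J₁ ∧ E₂ ∈ J₂ ∧ x ^ a = E₁ + E₂ ∧ E₁ * E₂ = 0 := by
  obtain ⟨n, hn⟩ := hrad hxI
  obtain ⟨j₁, hj₁, j₂, hj₂, hj⟩ := Submodule.mem_sup.1 hn
  obtain ⟨N, hN⟩ := hnil x hxI j₁ hj₁ j₂ hj₂
  have hN' : (j₁ * j₂) ^ (N + 1) = 0 := by
    have h1 : x ^ N * (j₁ * j₂) ^ N = 0 := by rw [← mul_pow]; exact hN
    have h2 : (j₁ * j₂) ^ N = 0 :=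
      (mul_right_mem_nonZeroDivisors_eq_zero_iff (pow_mem hx N)).1 (by rw [mul_comm]; exact h1)
    rw [pow_succ, h2, zero_mul]
  have h3 : (j₁ + j₂) ^ (2 * (N + 1)) ∈ Ideal.span {j₁ ^ (N + 1), j₂ ^ (N + 1)} :=
    Ideal.add_pow_mem_of_pow_mem_of_le_of_commute _
      (Ideal.subset_span (Set.mem_insert _ _))
      (Ideal.subset_span (Set.mem_insert_of_mem _ (Set.mem_singleton _)))
      (by omega) (Commute.all _ _)
  obtain ⟨u, v, huv⟩ := Ideal.mem_span_pair.1 h3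
  refine ⟨n * (2 * (N + 1)), u * j₁ ^ (N + 1), v * j₂ ^ (N + 1),
    Ideal.mul_mem_left _ _ (Ideal.pow_mem_of_mem _ hj₁ _ (Nat.succ_pos N)),
    Ideal.mul_mem_left _ _ (Ideal.pow_mem_of_mem _ hj₂ _ (Nat.succ_pos N)), ?_, ?_⟩
  · rw [pow_mul, ← hj, huv]
  · have : u * j₁ ^ (N + 1) * (v * j₂ ^ (N + 1)) = u * v * (j₁ * j₂) ^ (N + 1) := by
      rw [mul_pow]; ring
    rw [this, hN', mul_zero]

/-- L3 -/
theorem cross_eq {X Y E₁ E₂ F₁ F₂ : A} (hX : X = E₁ + E₂) (hY : Y = F₁ + F₂)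
    (hE : E₁ * E₂ = 0) (hF : F₁ * F₂ = 0) (hXn : X ∈ nonZeroDivisors A)
    (hYn : Y ∈ nonZeroDivisors A) (h1 : IsNilpotent (E₁ * F₂)) (h2 : IsNilpotent (E₂ * F₁)) :
    E₁ * F₂ = E₂ * F₁ := by
  set D := E₁ * F₂ - E₂ * F₁ with hD
  have hDn : IsNilpotent D := by
    rw [← mem_nilradical] at h1 h2 ⊢
    exact Ideal.sub_mem _ h1 h2
  have hcube : D ^ 3 = D * (X * Y) ^ 2 := by
    have e1 : E₁ * E₂ = 0 := hE
    have e2 : F₁ * F₂ = 0 := hF
    rw [hD, hX, hY]
    have key : ∀ (p q r s : A), p * q = 0 → r * s = 0 →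
        (p * s - q * r) ^ 3 = (p * s - q * r) * ((p + q) * (r + s)) ^ 2 := by
      intro p q r s hpq hrs
      have hD2 : (p * s - q * r) ^ 2 = p ^ 2 * s ^ 2 + q ^ 2 * r ^ 2 := by
        linear_combination (-2 * r * s) * hpq
      have hP : (p + q) ^ 2 = p ^ 2 + q ^ 2 := by linear_combination 2 * hpq
      have hR : (r + s) ^ 2 = r ^ 2 + s ^ 2 := by linear_combination 2 * hrs
      have h3 : (p * s - q * r) * (p ^ 2 * r ^ 2 + q ^ 2 * s ^ 2) = 0 := by
        linear_combination (q * s ^ 3 - p * r ^ 3) * hpq + (p ^ 3 * r - q ^ 3 * s) * hrs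
      calc (p * s - q * r) ^ 3 = (p * s - q * r) * (p * s - q * r) ^ 2 := by ring
        _ = (p * s - q * r) * (p ^ 2 * s ^ 2 + q ^ 2 * r ^ 2) := by rw [hD2]
        _ = (p * s - q * r) * (p ^ 2 * s ^ 2 + q ^ 2 * r ^ 2) +
              (p * s - q * r) * (p ^ 2 * r ^ 2 + q ^ 2 * s ^ 2) := by rw [h3, add_zero]
        _ = (p * s - q * r) * ((p ^ 2 + q ^ 2) * (r ^ 2 + s ^ 2)) := by ring
        _ = (p * s - q * r) * ((p + q) * (r + s)) ^ 2 := by rw [mul_pow, hP, hR]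
    exact key E₁ E₂ F₁ F₂ e1 e2
  have hpow : ∀ k : ℕ, D ^ (2 * k + 1) = D * ((X * Y) ^ 2) ^ k := by
    intro k
    induction k with
    | zero => simp
    | succ k ih =>
      have : D ^ (2 * (k + 1) + 1) = D ^ (2 * k + 1) * D ^ 2 := by ring
      rw [this, ih]
      have : D * ((X * Y) ^ 2) ^ k * D ^ 2 = D ^ 3 * ((X * Y) ^ 2) ^ k := by ring
      rw [this, hcube]
      ring
  obtain ⟨K, hK⟩ := hDn
  have h0 : D ^ (2 * K + 1) = 0 := by
    have : D ^ (2 * K + 1) = D ^ K * D ^ (K + 1) := by ring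
    rw [this, hK, zero_mul]
  rw [hpow K] at h0
  have hW : ((X * Y) ^ 2) ^ K ∈ nonZeroDivisors A := pow_mem (pow_mem (mul_mem hXn hYn) 2) K
  have : D = 0 := (mul_right_mem_nonZeroDivisors_eq_zero_iff hW).1 h0
  rw [hD] at this
  exact sub_eq_zero.1 this

end algebra

section depthone

variable {A : Type u} [CommRing A] [IsNoetherianRing A]

/-- converse of `NorOpen.mem_associatedPrimes_quotient_of_depth_eq_one` -/
theorem depth_localization_eq_one_of_mem_associatedPrimes_quotient (Q : Ideal A) [Q.IsPrime]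
    (f : A)
    (hreg : IsSMulRegular (Localization.AtPrime Q) (algebraMap A (Localization.AtPrime Q) f))
    (hQ : Q ∈ associatedPrimes A (A ⧸ Ideal.span {f})) :
    LocCoh.depth (Localization.AtPrime Q) (Localization.AtPrime Q) = 1 := by
  set S := Localization.AtPrime Q with hS
  set f' : S := algebraMap A S f with hf'
  have hfQ : f ∈ Q := by
    obtain ⟨-, y, hy⟩ := (isAssociatedPrime_iff).1 hQ
    rw [hy, Submodule.mem_colon_singleton, Submodule.mem_bot]
    obtain ⟨y, rfl⟩ := Ideal.Quotient.mk_surjective y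
    change Ideal.Quotient.mk _ (f * y) = 0
    rw [Ideal.Quotient.eq_zero_iff_mem]
    exact Ideal.mul_mem_right _ _ (Ideal.mem_span_singleton_self f)
  have hf'm : f' ∈ maximalIdeal S := by
    have h3 : (maximalIdeal S).under A = Q := Localization.AtPrime.under_maximalIdeal
    have h4 : f ∈ (maximalIdeal S).under A := by
      rw [h3]
      exact hfQ
    exact h4
  have h1 := depth_quotSMulTop S hf'm hreg
  have hloc : (Ideal.span {f} : Submodule A A).localized' S Q.primeCompl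
      (Algebra.linearMap A S) = (f' • ⊤ : Submodule S S) := by
    change (Submodule.span A {f}).localized' S Q.primeCompl (Algebra.linearMap A S) = _
    rw [Submodule.localized'_span, Set.image_singleton, Algebra.linearMap_apply]
    ext x
    rw [Submodule.mem_span_singleton, Submodule.mem_smul_pointwise_iff_exists]
    constructor
    · rintro ⟨a, rfl⟩
      exact ⟨a, trivial, by rw [smul_eq_mul, smul_eq_mul, mul_comm]⟩
    · rintro ⟨a, -, rfl⟩
      exact ⟨a, by rw [smul_eq_mul, smul_eq_mul, mul_comm]⟩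
  have h5 : (maximalIdeal S).under A = Q := Localization.AtPrime.under_maximalIdeal
  have h4 : maximalIdeal S ∈ associatedPrimes S
      (S ⧸ (Ideal.span {f} : Submodule A A).localized' S Q.primeCompl (Algebra.linearMap A S)) := by
    apply Module.associatedPrimes.mem_associatedPrimes_of_comap_mem_associatedPrimes_of_isLocalizedModule
      Q.primeCompl ((Ideal.span {f} : Submodule A A).toLocalizedQuotient' S Q.primeCompl
        (Algebra.linearMap A S)) (maximalIdeal S)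
    rw [← Ideal.under_def, h5]
    exact hQ
  have h3 : LocCoh.depth S (S ⧸ (Ideal.span {f} : Submodule A A).localized' S Q.primeCompl
      (Algebra.linearMap A S)) = 0 := by
    rw [depth_eq_zero_iff]
    exact h4
  have h2 : LocCoh.depth S (QuotSMulTop f' S) = 0 := by
    rw [← h3]
    exact (depth_congr (Submodule.quotEquivOfEq _ _ hloc)).symm
  rw [← h1, h2, zero_add]

end depthone

section main

variable {A : Type u} [CommRing A] [IsNoetherianRing A] (I J₁ J₂ : Ideal A)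

theorem mem_nonZeroDivisors_of_isSMulRegular {R : Type u} [CommRing R] {x : R}
    (h : IsSMulRegular R x) : x ∈ nonZeroDivisors R := by
  refine mem_nonZeroDivisors_iff.mpr ⟨fun y hy => ?_, fun y hy => ?_⟩
  · exact h (by simpa using hy)
  · exact h (by simpa [mul_comm] using hy)

theorem isSMulRegular_of_forall_notMem (M : Type u) [AddCommGroup M] [Module A M] (y : A)
    (h : ∀ P ∈ associatedPrimes A M, y ∉ P) : IsSMulRegular M y := by
  by_contra hcon
  have h1 : y ∈ ⋃ p ∈ associatedPrimes A M, (p : Set A) := by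
    rw [biUnion_associatedPrimes_eq_compl_regular A M]
    exact hcon
  simp only [Set.mem_iUnion, SetLike.mem_coe, exists_prop] at h1
  obtain ⟨P, hP, hyP⟩ := h1
  exact h P hP hyP

omit [IsNoetherianRing A] in
theorem cover_of_nil (hnil : ∀ z ∈ I, ∀ w₁ ∈ J₁, ∀ w₂ ∈ J₂, IsNilpotent (z * (w₁ * w₂)))
    (p : Ideal A) [hp : p.IsPrime] (hIp : ¬ I ≤ p) : J₁ ≤ p ∨ J₂ ≤ p := by
  by_contra hcon
  push Not at hcon
  obtain ⟨h1, h2⟩ := hcon
  obtain ⟨z, hz, hzp⟩ := SetLike.not_le_iff_exists.1 hIp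
  obtain ⟨w₁, hw₁, hw₁p⟩ := SetLike.not_le_iff_exists.1 h1
  obtain ⟨w₂, hw₂, hw₂p⟩ := SetLike.not_le_iff_exists.1 h2
  obtain ⟨N, hN⟩ := hnil z hz w₁ hw₁ w₂ hw₂
  have h3 : z * (w₁ * w₂) ∈ p := hp.mem_of_pow_mem N (by rw [hN]; exact Ideal.zero_mem p)
  rcases hp.mem_or_mem h3 with h | h
  · exact hzp h
  · rcases hp.mem_or_mem h with h | h
    · exact hw₁p h
    · exact hw₂p h

/-- **Hartshorne's connectedness lemma**, algebraic core. -/
theorem hartshorne_core
    (hrad : I ≤ (J₁ ⊔ J₂).radical)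
    (hnil : ∀ z ∈ I, ∀ w₁ ∈ J₁, ∀ w₂ ∈ J₂, IsNilpotent (z * (w₁ * w₂)))
    (hdepth : ∀ (p : Ideal A) [p.IsPrime], I ≤ p →
      (2 : ℕ∞) ≤ LocCoh.depth (Localization.AtPrime p) (Localization.AtPrime p))
    (hconn : ∀ c : A, IsIdempotentElem c → c = 0 ∨ c = 1) :
    (∀ (p : Ideal A) [p.IsPrime], ¬ I ≤ p → J₁ ≤ p) ∨
      (∀ (p : Ideal A) [p.IsPrime], ¬ I ≤ p → J₂ ≤ p) := by
  have R1 : ∀ P ∈ associatedPrimes A A, ¬ I ≤ P := by
    intro P hP hIP
    have := hP.isPrime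
    have h := hdepth P hIP
    rw [(depth_localization_eq_zero_iff P).2 hP] at h
    simp at h
  obtain ⟨x, hxI, hx⟩ := exists_mem_forall_notMem_of_finite I (associatedPrimes A A)
    (associatedPrimes.finite A A) (fun P hP => hP.isPrime) R1
  have hxreg : IsSMulRegular A x := isSMulRegular_of_forall_notMem A x hx
  have hxnzd : x ∈ nonZeroDivisors A := mem_nonZeroDivisors_of_isSMulRegular hxreg
  have R2 : ∀ P ∈ associatedPrimes A (A ⧸ Ideal.span {x}), ¬ I ≤ P := by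
    intro P hP hIP
    have := hP.isPrime
    have h := hdepth P hIP
    rw [depth_localization_eq_one_of_mem_associatedPrimes_quotient P x
      (isSMulRegular_algebraMap_localization x hxreg P) hP] at h
    exact absurd h (by norm_num)
  have hy_exists : ∀ (p₀ : Ideal A), p₀.IsPrime → ¬ I ≤ p₀ →
      ∃ y ∈ I, y ∉ p₀ ∧ y ∈ nonZeroDivisors A ∧ ∀ a, x ∣ y * a → x ∣ a := by
    intro p₀ hp₀ hIp₀
    obtain ⟨y, hyI, hy⟩ := exists_mem_forall_notMem_of_finite I
      (associatedPrimes A A ∪ associatedPrimes A (A ⧸ Ideal.span {x}) ∪ {p₀})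
      (((associatedPrimes.finite A A).union (associatedPrimes.finite A _)).union
        (Set.finite_singleton p₀))
      (by
        rintro P ((hP | hP) | hP)
        · exact hP.isPrime
        · exact hP.isPrime
        · rw [Set.mem_singleton_iff] at hP; rw [hP]; exact hp₀)
      (by
        rintro P ((hP | hP) | hP)
        · exact R1 P hP
        · exact R2 P hP
        · rw [Set.mem_singleton_iff] at hP; rw [hP]; exact hIp₀)
    refine ⟨y, hyI, hy p₀ (Or.inr rfl), ?_, ?_⟩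
    · exact mem_nonZeroDivisors_of_isSMulRegular
        (isSMulRegular_of_forall_notMem A y (fun P hP => hy P (Or.inl (Or.inl hP))))
    · intro a hdvd
      have hreg' : IsSMulRegular (A ⧸ Ideal.span {x}) y :=
        isSMulRegular_of_forall_notMem _ y (fun P hP => hy P (Or.inl (Or.inr hP)))
      have h0 : y • (Ideal.Quotient.mk (Ideal.span {x}) a) = y • 0 := by
        rw [smul_zero]
        change Ideal.Quotient.mk _ (y * a) = 0
        rw [Ideal.Quotient.eq_zero_iff_mem, Ideal.mem_span_singleton]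
        exact hdvd
      have h1 := hreg' h0
      rwa [Ideal.Quotient.eq_zero_iff_mem, Ideal.mem_span_singleton] at h1
  obtain ⟨a, E₁, E₂, hE₁, hE₂, hXE, hEE⟩ := exists_split hrad hnil hxI hxnzd
  have hnil' : ∀ w₁ ∈ J₁, ∀ w₂ ∈ J₂, IsNilpotent (w₁ * w₂) := by
    intro w₁ h₁ w₂ h₂
    obtain ⟨N, hN⟩ := hnil x hxI w₁ h₁ w₂ h₂
    rw [mul_pow] at hN
    exact ⟨N, (mul_right_mem_nonZeroDivisors_eq_zero_iff (pow_mem hxnzd N)).1
      (by rw [mul_comm]; exact hN)⟩
  have key : ∀ (y : A) (b : ℕ) (F₁ F₂ : A), y ∈ nonZeroDivisors A → F₁ ∈ J₁ → F₂ ∈ J₂ →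
      y ^ b = F₁ + F₂ → F₁ * F₂ = 0 → E₁ * y ^ b = F₁ * x ^ a := by
    intro y b F₁ F₂ hy hF₁ hF₂ hY hFF
    have hc := cross_eq hXE hY hEE hFF (pow_mem hxnzd a) (pow_mem hy b) (hnil' E₁ hE₁ F₂ hF₂)
      (by rw [mul_comm]; exact hnil' F₁ hF₁ E₂ hE₂)
    rw [hY, hXE]
    linear_combination hc
  by_cases hex : ∃ p₀ : Ideal A, p₀.IsPrime ∧ ¬ I ≤ p₀
  swap
  · left
    intro p hp hIp
    exact absurd ⟨p, hp, hIp⟩ hex
  obtain ⟨p₀, hp₀, hIp₀⟩ := hex
  obtain ⟨y₀, hy₀I, -, hy₀nzd, hy₀x⟩ := hy_exists p₀ hp₀ hIp₀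
  obtain ⟨b₀, F₁, F₂, hF₁, hF₂, hYF, hFF⟩ := exists_split hrad hnil hy₀I hy₀nzd
  have h1 := key y₀ b₀ F₁ F₂ hy₀nzd hF₁ hF₂ hYF hFF
  have h2 : x ^ a ∣ E₁ := pow_dvd_of_pow_dvd_pow_mul hxnzd hy₀x a b₀ E₁
    ⟨F₁, by rw [mul_comm, h1, mul_comm]⟩
  obtain ⟨c, hc⟩ := h2
  have hcid : IsIdempotentElem c := by
    have h3 : E₁ * E₁ = E₁ * x ^ a := by rw [hXE, mul_add, hEE, add_zero]
    rw [hc] at h3
    have h4 : (x ^ a * x ^ a) * (c * c) = (x ^ a * x ^ a) * c := by linear_combination h3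
    exact (mul_cancel_left_mem_nonZeroDivisors (mul_mem (pow_mem hxnzd a) (pow_mem hxnzd a))).1 h4
  have key2 : ∀ (y : A) (b : ℕ) (G₁ G₂ : A), y ∈ nonZeroDivisors A → G₁ ∈ J₁ → G₂ ∈ J₂ →
      y ^ b = G₁ + G₂ → G₁ * G₂ = 0 → G₁ = c * y ^ b := by
    intro y b G₁ G₂ hy hG₁ hG₂ hY hGG
    have h5 := key y b G₁ G₂ hy hG₁ hG₂ hY hGG
    rw [hc] at h5
    exact (mul_cancel_left_mem_nonZeroDivisors (pow_mem hxnzd a)).1 (by linear_combination -h5)
  rcases hconn c hcid with hc0 | hc1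
  · left
    intro p hp hIp
    by_contra hJ₁
    have hJ₂ : J₂ ≤ p := (cover_of_nil I J₁ J₂ hnil p hIp).resolve_left hJ₁
    obtain ⟨y, hyI, hyp, hynzd, -⟩ := hy_exists p hp hIp
    obtain ⟨b, G₁, G₂, hG₁, hG₂, hY, hGG⟩ := exists_split hrad hnil hyI hynzd
    have h6 := key2 y b G₁ G₂ hynzd hG₁ hG₂ hY hGG
    rw [hc0, zero_mul] at h6
    rw [h6, zero_add] at hY
    have : y ^ b ∈ p := hJ₂ (hY ▸ hG₂)
    exact hyp (hp.mem_of_pow_mem b this)
  · right
    intro p hp hIp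
    by_contra hJ₂
    have hJ₁ : J₁ ≤ p := (cover_of_nil I J₁ J₂ hnil p hIp).resolve_right hJ₂
    obtain ⟨y, hyI, hyp, hynzd, -⟩ := hy_exists p hp hIp
    obtain ⟨b, G₁, G₂, hG₁, hG₂, hY, hGG⟩ := exists_split hrad hnil hyI hynzd
    have h6 := key2 y b G₁ G₂ hynzd hG₁ hG₂ hY hGG
    rw [hc1, one_mul] at h6
    have : y ^ b ∈ p := hJ₁ (h6 ▸ hG₁)
    exact hyp (hp.mem_of_pow_mem b this)

end main

section topology

variable {A : Type u} [CommRing A]

theorem eq_zero_or_one_of_isIdempotentElem [PreconnectedSpace (PrimeSpectrum A)] (c : A)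
    (hc : IsIdempotentElem c) : c = 0 ∨ c = 1 := by
  have h1 : IsClopen ((PrimeSpectrum.basicOpen c : TopologicalSpace.Opens (PrimeSpectrum A)) :
      Set (PrimeSpectrum A)) := PrimeSpectrum.isClopen_iff.2 ⟨c, hc, rfl⟩
  have key : ∀ e : A, IsIdempotentElem e →
      ((PrimeSpectrum.basicOpen e : TopologicalSpace.Opens (PrimeSpectrum A)) :
        Set (PrimeSpectrum A)) = ∅ → e = 0 := by
    intro e he h
    have h2 : PrimeSpectrum.basicOpen e = ⊥ := by
      ext x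
      simp only [TopologicalSpace.Opens.coe_bot]
      rw [h]
    obtain ⟨n, hn⟩ := (PrimeSpectrum.basicOpen_eq_bot_iff e).1 h2
    have h3 : e ^ (n + 1) = e := he.pow_succ_eq n
    rw [pow_succ, hn, zero_mul] at h3
    exact h3.symm
  rcases isClopen_iff.1 h1 with h | h
  · left
    exact key c hc h
  · right
    have h2 : ((PrimeSpectrum.basicOpen (1 - c) : TopologicalSpace.Opens (PrimeSpectrum A)) :
        Set (PrimeSpectrum A)) = ∅ := by
      ext x
      simp only [Set.mem_empty_iff_false, iff_false]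
      intro hx
      have hx' : x ∈ ((PrimeSpectrum.basicOpen c : TopologicalSpace.Opens (PrimeSpectrum A)) :
          Set (PrimeSpectrum A)) := by rw [h]; trivial
      rw [SetLike.mem_coe, PrimeSpectrum.mem_basicOpen] at hx hx'
      have h3 : c * (1 - c) ∈ x.asIdeal := by
        have : c * (1 - c) = 0 := by rw [mul_sub, mul_one, hc.eq, sub_self]
        rw [this]; exact Ideal.zero_mem _
      rcases x.2.mem_or_mem h3 with h4 | h4
      · exact hx' h4
      · exact hx h4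
    have := key (1 - c) hc.one_sub h2
    exact (sub_eq_zero.1 this).symm

/-- **Hartshorne's connectedness theorem** (affine form) -/
theorem isPreconnected_compl_zeroLocus [IsNoetherianRing A] [ConnectedSpace (PrimeSpectrum A)]
    (I : Ideal A)
    (h : ∀ (p : Ideal A) [p.IsPrime], I ≤ p →
      (2 : ℕ∞) ≤ LocCoh.depth (Localization.AtPrime p) (Localization.AtPrime p)) :
    IsPreconnected ((PrimeSpectrum.zeroLocus (I : Set A))ᶜ) := by
  rw [isPreconnected_iff_subset_of_disjoint_closed]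
  intro u v hu hv huv hdisj
  obtain ⟨J₁, rfl⟩ := (PrimeSpectrum.isClosed_iff_zeroLocus_ideal u).1 hu
  obtain ⟨J₂, rfl⟩ := (PrimeSpectrum.isClosed_iff_zeroLocus_ideal v).1 hv
  have hrad : I ≤ (J₁ ⊔ J₂).radical := by
    intro z hz
    rw [Ideal.radical_eq_sInf, Ideal.mem_sInf]
    rintro P ⟨hJP, hP⟩
    by_contra hzP
    have hPs : (⟨P, hP⟩ : PrimeSpectrum A) ∈ (PrimeSpectrum.zeroLocus (I : Set A))ᶜ := by
      intro hIP
      exact hzP (hIP hz)
    have hPuv : (⟨P, hP⟩ : PrimeSpectrum A) ∈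
        PrimeSpectrum.zeroLocus (J₁ : Set A) ∩ PrimeSpectrum.zeroLocus (J₂ : Set A) :=
      ⟨fun a ha => hJP (Ideal.mem_sup_left ha), fun a ha => hJP (Ideal.mem_sup_right ha)⟩
    have : (⟨P, hP⟩ : PrimeSpectrum A) ∈ (∅ : Set (PrimeSpectrum A)) := by
      rw [← hdisj]; exact ⟨hPs, hPuv⟩
    exact this
  have hnil : ∀ z ∈ I, ∀ w₁ ∈ J₁, ∀ w₂ ∈ J₂, IsNilpotent (z * (w₁ * w₂)) := by
    intro z hz w₁ hw₁ w₂ hw₂
    rw [← mem_nilradical, nilradical_eq_sInf, Ideal.mem_sInf]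
    intro P hP
    by_cases hIP : I ≤ P
    · exact Ideal.mul_mem_right _ _ (hIP hz)
    · have hPs : (⟨P, hP⟩ : PrimeSpectrum A) ∈ (PrimeSpectrum.zeroLocus (I : Set A))ᶜ := hIP
      rcases huv hPs with h1 | h1
      · exact Ideal.mul_mem_left _ _ (Ideal.mul_mem_right _ _ (h1 hw₁))
      · exact Ideal.mul_mem_left _ _ (Ideal.mul_mem_left _ _ (h1 hw₂))
  rcases hartshorne_core I J₁ J₂ hrad hnil h
    (fun c hc => eq_zero_or_one_of_isIdempotentElem c hc) with h1 | h1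
  · left
    intro P hP
    have := P.2
    exact h1 P.asIdeal hP
  · right
    intro P hP
    have := P.2
    exact h1 P.asIdeal hP

end topology

end Groth.Agent.Lib.Helper18.Hartshorne
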