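import Mathlib
import Groth.Prelude.Def_EGA4b
import Groth.Agent.Lib.Helper18.QGor11

set_option autoImplicit false
set_option linter.style.haveILetI false
set_option linter.unusedSectionVars false
universe u v

open IsLocalRing TensorProduct CategoryTheory Pointwise RingTheory.Sequence

namespace Groth.Agent.Lib.Helper18.QGor

open Groth.Agent.Lib.Helper18.FamCyc Groth.Agent.Lib.Helper18.CM Groth.Agent.Lib.Helper21
  Groth.Agent.Lib.Helper16.Depth Groth.Agent.Lib.Helper16.LC

section fibGen

variable (A B : Type u) [CommRing A] [CommRing B] [IsNoetherianRing A] [IsNoetherianRing B]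
  [Algebra A B] (q : Ideal B) [hq : q.IsPrime]
  (X : Type u) [AddCommGroup X] [Module (Localization.AtPrime q) X] [Module A X]
  [IsScalarTower A (Localization.AtPrime q) X]
  [Module.Finite (Localization.AtPrime q) X] [Module.Flat A X]

/-- general form of the fibre depth bridge: `X` any finite `B_q`-module flat over `A` -/
theorem le_depth_of_le_idealDepth_fib (n : ℕ)
    (h : (n : ℕ∞) ≤ LocCoh.idealDepth (maximalIdeal (Localization.AtPrime q))
      (X ⧸ (((q.comap (algebraMap A B)).map (algebraMap A (Localization.AtPrime q))) •
        (⊤ : Submodule (Localization.AtPrime q) X)))) :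
    (n : ℕ∞) ≤ LocCoh.depth (Localization.AtPrime q) X := by
  set p : Ideal A := q.comap (algebraMap A B) with hp
  have hpp : p.IsPrime := Ideal.comap_isPrime _ _
  set P : Ideal (Localization.AtPrime q) := p.map (algebraMap A (Localization.AtPrime q)) with hP
  have hnC : IsNoetherianRing (Localization.AtPrime q) :=
    IsLocalization.isNoetherianRing q.primeCompl _ inferInstance
  have hnA : IsNoetherianRing (Localization.AtPrime p) :=
    IsLocalization.isNoetherianRing p.primeCompl _ inferInstance
  let φ : Localization.AtPrime p →+* Localization.AtPrime q :=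
    Localization.localRingHom p q (algebraMap A B) rfl
  letI : Algebra (Localization.AtPrime p) (Localization.AtPrime q) := φ.toAlgebra
  haveI : IsLocalHom (algebraMap (Localization.AtPrime p) (Localization.AtPrime q)) :=
    Localization.isLocalHom_localRingHom p q (algebraMap A B) rfl
  letI : Module (Localization.AtPrime p) X := Module.compHom X φ
  haveI : IsScalarTower (Localization.AtPrime p) (Localization.AtPrime q) X :=
    ⟨fun a c x => by
      change (φ a * c) • x = φ a • c • x
      rw [mul_smul]⟩
  have hφ : ∀ a : A, φ (algebraMap A (Localization.AtPrime p) a) =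
      algebraMap A (Localization.AtPrime q) a := by
    intro a
    rw [Localization.localRingHom_to_map, ← IsScalarTower.algebraMap_apply]
  haveI : IsScalarTower A (Localization.AtPrime p) X :=
    ⟨fun a r x => by
      change φ (a • r) • x = a • (φ r • x)
      rw [Algebra.smul_def, map_mul, hφ, mul_smul, algebraMap_smul]⟩
  haveI : Module.Flat (Localization.AtPrime p) X :=
    (Module.flat_iff_of_isLocalization (Localization.AtPrime p) p.primeCompl X).mpr inferInstance
  have hPeq : (maximalIdeal (Localization.AtPrime p)).map
      (algebraMap (Localization.AtPrime p) (Localization.AtPrime q)) = P := by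
    rw [← Localization.AtPrime.map_eq_maximalIdeal, Ideal.map_map]
    congr 1
    exact RingHom.ext hφ
  have hne : maximalIdeal (Localization.AtPrime q) ≠ ⊤ := (maximalIdeal.isMaximal _).ne_top
  apply le_idealDepth_of_le_idealDepth_fibre (A := Localization.AtPrime p)
    (maximalIdeal (Localization.AtPrime q)) hne n X
  rw [idealDepth_congr (Submodule.quotEquivOfEq _ _ (by rw [hPeq])) _]
  exact h

omit [Module.Flat A X] [Module.Finite (Localization.AtPrime q) X] [IsNoetherianRing A]
  [IsNoetherianRing B] in
theorem fib_ideal_eq : q.map (algebraMap B (EGA4.FibLocRing A B q)) =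
      (maximalIdeal (Localization.AtPrime q)).map
        (algebraMap (Localization.AtPrime q) (EGA4.FibLocRing A B q)) := by
  rw [← Localization.AtPrime.map_eq_maximalIdeal, Ideal.map_map]
  rfl

/-- the ring case -/
theorem le_depth_self_of_le_idealDepth_fibLocRing [Module.Flat A B] (n : ℕ)
    (h : (n : ℕ∞) ≤ LocCoh.idealDepth (q.map (algebraMap B (EGA4.FibLocRing A B q)))
      (EGA4.FibLocRing A B q)) :
    (n : ℕ∞) ≤ LocCoh.depth (Localization.AtPrime q) (Localization.AtPrime q) := by
  rw [fib_ideal_eq] at h
  have h1 : (n : ℕ∞) ≤ LocCoh.idealDepth (maximalIdeal (Localization.AtPrime q))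
      (EGA4.FibLocRing A B q) :=
    le_idealDepth_of_le_idealDepth_map Ideal.Quotient.mk_surjective _ _ n h
  apply le_depth_of_le_idealDepth_fib A B q (Localization.AtPrime q) n
  have heq : ((q.comap (algebraMap A B)).map (algebraMap A (Localization.AtPrime q))) •
        (⊤ : Submodule (Localization.AtPrime q) (Localization.AtPrime q)) =
      ((q.comap (algebraMap A B)).map (algebraMap A (Localization.AtPrime q))) := by
    rw [smul_eq_mul, Ideal.mul_top]
  rw [idealDepth_congr (Submodule.quotEquivOfEq _ _ heq) _]
  exact h1

end fibGen

end Groth.Agent.Lib.Helper18.QGor
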