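import Mathlib
import Groth.Agent.Lib.Helper29.QCohPush
import Groth.Agent.Lib.Helper29.CP1
import Groth.Agent.Lib.Helper28.DCohStalk7

/-!
# Stalks of the direct image of a module along a topological embedding
-/

set_option autoImplicit false
set_option linter.unusedSectionVars false
set_option linter.style.haveILetI false
universe u
open AlgebraicGeometry CategoryTheory TopologicalSpace

namespace Groth.Agent.Lib.Helper18.PushStalk

open Groth.Agent.Lib.Helper29.QCoh

section Length

/-- length is invariant under bijective semilinear maps over surjective ring homomorphisms -/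
theorem length_eq_of_semilinear_bijective {R S : Type*} [CommRing R] [CommRing S] (σ : R →+* S)
    (hσ : Function.Surjective σ) {M N : Type*} [AddCommGroup M] [Module R M] [AddCommGroup N]
    [Module S N] (φ : M →+ N) (hφ : Function.Bijective φ)
    (hsmul : ∀ (r : R) (m : M), φ (r • m) = σ r • φ m) :
    Module.length R M = Module.length S N := by
  haveI : RingHomSurjective σ := ⟨hσ⟩
  let f : M →ₛₗ[σ] N := ⟨⟨φ, map_add φ⟩, hsmul⟩
  rw [Module.length, Module.length, WithBot.unbot_inj,
    Order.krullDim_eq_of_orderIso (Submodule.orderIsoMapComapOfBijective f hφ)]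

end Length

section Stalk

variable {X Z : Scheme.{u}} (i : Z ⟶ X) (M : Z.Modules)

/-- the comparison map `(i_* M)_{i z} → M_z` -/
noncomputable def pushStalkMap (z : Z) :
    ((Scheme.Modules.pushforward i).obj M).presheaf.stalk (i z) →+ M.presheaf.stalk z :=
  (TopCat.Presheaf.stalkPushforward Ab i.base M.presheaf z).hom

theorem pushStalkMap_germ (z : Z) (U : X.Opens) (hz : i z ∈ U)
    (m : Γ((Scheme.Modules.pushforward i).obj M, U)) :
    pushStalkMap i M z (((Scheme.Modules.pushforward i).obj M).presheaf.germ U (i z) hz m) =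
      M.presheaf.germ (i ⁻¹ᵁ U) z hz (show Γ(M, i ⁻¹ᵁ U) from m) := by
  have := TopCat.Presheaf.stalkPushforward_germ Ab i.base M.presheaf U z hz
  exact congrArg (fun k => k.hom m) this

theorem pushStalkMap_bijective (hi : Topology.IsInducing i.base) (z : Z) :
    Function.Bijective (pushStalkMap i M z) := by
  haveI := TopCat.Presheaf.stalkPushforward.stalkPushforward_iso_of_isInducing Ab hi M.presheaf z
  exact (ConcreteCategory.isIso_iff_bijective
    (TopCat.Presheaf.stalkPushforward Ab i.base M.presheaf z)).1 inferInstance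

theorem pushStalkMap_smul (z : Z) (r : X.presheaf.stalk (i z))
    (m : ((Scheme.Modules.pushforward i).obj M).presheaf.stalk (i z)) :
    pushStalkMap i M z (r • m) = (i.stalkMap z).hom r • pushStalkMap i M z m := by
  obtain ⟨U, hz, a, rfl⟩ := X.presheaf.exists_germ_eq (x := i z) r
  obtain ⟨V, hVU, hzV, b, rfl⟩ :=
    ((Scheme.Modules.pushforward i).obj M).presheaf.exists_le_germ_eq m hz
  have ha : X.presheaf.germ U (i z) hz a =
      X.presheaf.germ V (i z) hzV (X.presheaf.map (homOfLE hVU).op a) :=
    (X.presheaf.germ_res_apply (homOfLE hVU) (i z) hzV a).symm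
  rw [ha, ← germ_smul, pushStalkMap_germ, pushStalkMap_germ, pushforward_smul]
  change M.presheaf.germ (i ⁻¹ᵁ V) z hzV
    ((i.app V (X.presheaf.map (homOfLE hVU).op a)) • (show Γ(M, i ⁻¹ᵁ V) from b)) = _
  rw [germ_smul]
  congr 1
  exact (i.germ_stalkMap_apply V z hzV _).symm

/-- outside the closed range the stalk of the direct image vanishes -/
theorem subsingleton_stalk_of_notMem_range (hcl : IsClosed (Set.range i.base)) (x : X)
    (hx : x ∉ Set.range i.base) :
    Subsingleton (((Scheme.Modules.pushforward i).obj M).presheaf.stalk x) := by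
  refine subsingleton_of_forall_eq 0 fun t => ?_
  set W : X.Opens := ⟨(Set.range i.base)ᶜ, hcl.isOpen_compl⟩ with hW
  have hxW : x ∈ W := hx
  obtain ⟨V, hVW, hxV, b, rfl⟩ :=
    ((Scheme.Modules.pushforward i).obj M).presheaf.exists_le_germ_eq t hxW
  have hbot : i ⁻¹ᵁ V = ⊥ := by
    ext y
    simp only [Opens.coe_bot, Set.mem_empty_iff_false, iff_false]
    intro hy
    exact hVW hy ⟨y, rfl⟩
  haveI : Subsingleton Γ(M, i ⁻¹ᵁ V) := subsingleton_sections_bot M hbot
  have hb : b = 0 := Subsingleton.elim (show Γ(M, i ⁻¹ᵁ V) from b) 0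
  rw [hb, map_zero]

end Stalk

end Groth.Agent.Lib.Helper18.PushStalk
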