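import Mathlib

/-!
# Functorial injective embeddings in Grothendieck abelian categories (helper18)
-/

set_option autoImplicit false

namespace Groth.Agent.Lib.Helper18.FunctorialInjective

open CategoryTheory Limits MorphismProperty ZeroObject

universe w v u

/-- In a Grothendieck abelian category there is an endofunctor `J` with a natural monomorphism
`𝟭 ⟶ J` into injective objects. -/
theorem exists_functorial_injective_embedding (A : Type u) [Category.{v} A] [Abelian A]
    [IsGrothendieckAbelian.{w} A] :
    ∃ (J : A ⥤ A) (j : 𝟭 A ⟶ J), ∀ X : A, Injective (J.obj X) ∧ Mono (j.app X) := by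
  let D := functorialFactorizationData (monomorphisms A) (monomorphisms A).rlp
  let T : A ⥤ Arrow A :=
    { obj := fun X => Arrow.mk (0 : X ⟶ (0 : A))
      map := fun {X Y} f => Arrow.homMk' f (𝟙 (0 : A)) (by simp)
      map_id := fun X => by ext <;> simp
      map_comp := fun f g => by ext <;> simp }
  refine ⟨T ⋙ D.Z, { app := fun X => D.i.app (T.obj X), naturality := ?_ }, ?_⟩
  · intro X Y f
    exact D.i.naturality (T.map f)
  · intro X
    constructor
    · have hp := D.hp (T.obj X)
      have h0 : D.p.app (T.obj X) = 0 := (isZero_zero A).eq_of_tgt _ _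
      rw [h0] at hp
      exact (injective_iff_rlp_monomorphisms_zero _).2 hp
    · exact D.hi (T.obj X)

end Groth.Agent.Lib.Helper18.FunctorialInjective
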