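import Mathlib

/-!
# Affine bundles, part 1: primes of `R[X]` over a prime of `R`
-/

set_option autoImplicit false
set_option linter.unusedSectionVars false
set_option linter.style.haveILetI false
universe u
open Polynomial

namespace Groth.Agent.Lib.Helper18.AB1

variable {R : Type u} [CommRing R] (𝔭 : Ideal R) [𝔭.IsPrime]

/-- the map `R → Frac (R/𝔭)` -/
noncomputable def φ₀ : R →+* FractionRing (R ⧸ 𝔭) :=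
  (algebraMap (R ⧸ 𝔭) (FractionRing (R ⧸ 𝔭))).comp (Ideal.Quotient.mk 𝔭)

/-- the map `R[X] → Frac (R/𝔭)[X]` -/
noncomputable def φ : R[X] →+* (FractionRing (R ⧸ 𝔭))[X] := Polynomial.mapRingHom (φ₀ 𝔭)

theorem ker_φ₀ : RingHom.ker (φ₀ 𝔭) = 𝔭 := by
  ext r
  rw [RingHom.mem_ker, φ₀, RingHom.comp_apply]
  rw [(injective_iff_map_eq_zero' _).mp (IsFractionRing.injective (R ⧸ 𝔭) (FractionRing (R ⧸ 𝔭)))]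
  exact Ideal.Quotient.eq_zero_iff_mem

theorem φ₀_eq_zero_iff (r : R) : φ₀ 𝔭 r = 0 ↔ r ∈ 𝔭 := by
  rw [← RingHom.mem_ker, ker_φ₀]

theorem ker_φ : RingHom.ker (φ 𝔭) = 𝔭.map C := by
  rw [φ, Polynomial.ker_mapRingHom, ker_φ₀]

theorem φ_eq_zero_iff (b : R[X]) : φ 𝔭 b = 0 ↔ b ∈ 𝔭.map C := by
  rw [← RingHom.mem_ker, ker_φ]

theorem φ_C (r : R) : φ 𝔭 (C r) = C (φ₀ 𝔭 r) := by
  simp [φ]

/-- clearing denominators -/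
theorem exists_clear (q : (FractionRing (R ⧸ 𝔭))[X]) :
    ∃ c : R, c ∉ 𝔭 ∧ ∃ g : R[X], C (φ₀ 𝔭 c) * q = φ 𝔭 g := by
  obtain ⟨b, hb, hspec⟩ := IsLocalization.integerNormalization_spec (nonZeroDivisors (R ⧸ 𝔭)) q
  obtain ⟨c, rfl⟩ := Ideal.Quotient.mk_surjective b
  have hc : c ∉ 𝔭 := by
    intro h
    have : (Ideal.Quotient.mk 𝔭 c) = 0 := Ideal.Quotient.eq_zero_iff_mem.mpr h
    rw [this] at hb
    exact zero_notMem_nonZeroDivisors hb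
  obtain ⟨g, hg⟩ := Polynomial.map_surjective (Ideal.Quotient.mk 𝔭) Ideal.Quotient.mk_surjective
    (IsLocalization.integerNormalization (nonZeroDivisors (R ⧸ 𝔭)) q)
  refine ⟨c, hc, g, ?_⟩
  have h1 : φ 𝔭 g = (g.map (Ideal.Quotient.mk 𝔭)).map
      (algebraMap (R ⧸ 𝔭) (FractionRing (R ⧸ 𝔭))) := by
    rw [φ, φ₀, Polynomial.coe_mapRingHom, Polynomial.map_map]
  rw [h1, hg, hspec, Algebra.smul_def, Polynomial.algebraMap_apply]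
  rfl

variable {𝔭}

section Prime

variable (𝔮 : Ideal R[X]) [𝔮.IsPrime] (h𝔮 : 𝔮.comap C = 𝔭)

include h𝔮 in
theorem C_mem_iff (r : R) : C r ∈ 𝔮 ↔ r ∈ 𝔭 := by
  rw [← h𝔮]; rfl

include h𝔮 in
theorem map_C_le : 𝔭.map C ≤ 𝔮 := by
  rw [Ideal.map_le_iff_le_comap, h𝔮]

include h𝔮 in
/-- elements of the extended ideal, with denominators cleared -/
theorem exists_clear_mem (q : (FractionRing (R ⧸ 𝔭))[X]) (hq : q ∈ 𝔮.map (φ 𝔭)) :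
    ∃ c : R, c ∉ 𝔭 ∧ ∃ a ∈ 𝔮, C (φ₀ 𝔭 c) * q = φ 𝔭 a := by
  induction hq using Submodule.span_induction with
  | mem x hx =>
    obtain ⟨b, hb, rfl⟩ := hx
    exact ⟨1, fun h => (Ideal.IsPrime.ne_top ‹𝔭.IsPrime›) ((Ideal.eq_top_iff_one _).mpr h), b, hb,
      by simp⟩
  | zero => exact ⟨1, fun h => (Ideal.IsPrime.ne_top ‹𝔭.IsPrime›) ((Ideal.eq_top_iff_one _).mpr h),
      0, 𝔮.zero_mem, by simp⟩
  | add x y _ _ hx hy =>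
    obtain ⟨c₁, hc₁, a₁, ha₁, e₁⟩ := hx
    obtain ⟨c₂, hc₂, a₂, ha₂, e₂⟩ := hy
    refine ⟨c₁ * c₂, fun h => (Ideal.IsPrime.mem_or_mem ‹𝔭.IsPrime› h).elim hc₁ hc₂,
      C c₂ * a₁ + C c₁ * a₂, 𝔮.add_mem (𝔮.mul_mem_left _ ha₁) (𝔮.mul_mem_left _ ha₂), ?_⟩
    have h1 : φ 𝔭 (C c₂ * a₁ + C c₁ * a₂) =
        C (φ₀ 𝔭 c₂) * φ 𝔭 a₁ + C (φ₀ 𝔭 c₁) * φ 𝔭 a₂ := by
      rw [map_add, map_mul, map_mul, φ_C, φ_C]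
    rw [h1, ← e₁, ← e₂, map_mul, C_mul]
    ring
  | smul t x _ hx =>
    obtain ⟨c₁, hc₁, a₁, ha₁, e₁⟩ := hx
    obtain ⟨c₂, hc₂, g, hg⟩ := exists_clear 𝔭 t
    refine ⟨c₁ * c₂, fun h => (Ideal.IsPrime.mem_or_mem ‹𝔭.IsPrime› h).elim hc₁ hc₂,
      g * a₁, 𝔮.mul_mem_left _ ha₁, ?_⟩
    have h1 : φ 𝔭 (g * a₁) = φ 𝔭 g * φ 𝔭 a₁ := map_mul _ _ _
    rw [h1, ← e₁, ← hg, map_mul, C_mul, smul_eq_mul]
    ring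

include h𝔮 in
theorem comap_map : (𝔮.map (φ 𝔭)).comap (φ 𝔭) = 𝔮 := by
  apply le_antisymm
  · intro b hb
    obtain ⟨c, hc, a, ha, e⟩ := exists_clear_mem 𝔮 h𝔮 (φ 𝔭 b) hb
    have h1 : φ 𝔭 (C c * b - a) = 0 := by rw [map_sub, map_mul, φ_C, e, sub_self]
    have h2 : C c * b - a ∈ 𝔮 := map_C_le 𝔮 h𝔮 ((φ_eq_zero_iff 𝔭 _).mp h1)
    have h3 : C c * b ∈ 𝔮 := by
      have := 𝔮.add_mem h2 ha
      rwa [sub_add_cancel] at this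
    rcases Ideal.IsPrime.mem_or_mem ‹𝔮.IsPrime› h3 with h | h
    · exact absurd ((C_mem_iff 𝔮 h𝔮 c).mp h) hc
    · exact h
  · exact Ideal.le_comap_map

include h𝔮 in
theorem map_ne_top : 𝔮.map (φ 𝔭) ≠ ⊤ := by
  intro h
  have h1 : (1 : R[X]) ∈ (𝔮.map (φ 𝔭)).comap (φ 𝔭) := by
    rw [Ideal.mem_comap, h]; trivial
  rw [comap_map 𝔮 h𝔮] at h1
  exact (Ideal.IsPrime.ne_top ‹𝔮.IsPrime›) ((Ideal.eq_top_iff_one _).mpr h1)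

include h𝔮 in
theorem map_isPrime : (𝔮.map (φ 𝔭)).IsPrime := by
  refine ⟨map_ne_top 𝔮 h𝔮, ?_⟩
  intro q₁ q₂ h
  obtain ⟨c₁, hc₁, g₁, e₁⟩ := exists_clear 𝔭 q₁
  obtain ⟨c₂, hc₂, g₂, e₂⟩ := exists_clear 𝔭 q₂
  have hu : ∀ c : R, c ∉ 𝔭 → IsUnit (C (φ₀ 𝔭 c) : (FractionRing (R ⧸ 𝔭))[X]) := by
    intro c hc
    apply Polynomial.isUnit_C.mpr
    exact isUnit_iff_ne_zero.mpr (fun h0 => hc ((φ₀_eq_zero_iff 𝔭 c).mp h0))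
  have h12 : φ 𝔭 (g₁ * g₂) ∈ 𝔮.map (φ 𝔭) := by
    rw [map_mul, ← e₁, ← e₂]
    have : C (φ₀ 𝔭 c₁) * q₁ * (C (φ₀ 𝔭 c₂) * q₂) = (C (φ₀ 𝔭 c₁) * C (φ₀ 𝔭 c₂)) * (q₁ * q₂) := by ring
    rw [this]
    exact Ideal.mul_mem_left _ _ h
  have h3 : g₁ * g₂ ∈ 𝔮 := by
    rw [← comap_map 𝔮 h𝔮]; exact h12
  rcases Ideal.IsPrime.mem_or_mem ‹𝔮.IsPrime› h3 with h' | h'
  · left
    have : C (φ₀ 𝔭 c₁) * q₁ ∈ 𝔮.map (φ 𝔭) := by rw [e₁]; exact Ideal.mem_map_of_mem _ h'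
    exact (Ideal.unit_mul_mem_iff_mem _ (hu c₁ hc₁)).mp this
  · right
    have : C (φ₀ 𝔭 c₂) * q₂ ∈ 𝔮.map (φ 𝔭) := by rw [e₂]; exact Ideal.mem_map_of_mem _ h'
    exact (Ideal.unit_mul_mem_iff_mem _ (hu c₂ hc₂)).mp this

include h𝔮 in
theorem map_ne_bot (hne : 𝔮 ≠ 𝔭.map C) : 𝔮.map (φ 𝔭) ≠ ⊥ := by
  intro h
  apply hne
  apply le_antisymm _ (map_C_le 𝔮 h𝔮)
  intro b hb
  have : φ 𝔭 b ∈ 𝔮.map (φ 𝔭) := Ideal.mem_map_of_mem _ hb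
  rw [h, Ideal.mem_bot] at this
  exact (φ_eq_zero_iff 𝔭 b).mp this

include h𝔮 in
/-- the key generator -/
theorem exists_gen (hne : 𝔮 ≠ 𝔭.map C) :
    ∃ a ∈ 𝔮, a ∉ 𝔭.map C ∧
      (∀ b ∈ 𝔮, ∃ c : R, c ∉ 𝔭 ∧ ∃ g : R[X], C c * b - a * g ∈ 𝔭.map C) ∧
      (∀ 𝔮' : Ideal R[X], 𝔮'.IsPrime → 𝔮'.comap C = 𝔭 → a ∈ 𝔮' → 𝔮' = 𝔮) := by
  haveI hprime := map_isPrime 𝔮 h𝔮
  have hbot := map_ne_bot 𝔮 h𝔮 hne
  have hmax : (𝔮.map (φ 𝔭)).IsMaximal := IsPrime.to_maximal_ideal hbot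
  obtain ⟨P, hP⟩ := (IsPrincipalIdealRing.principal (𝔮.map (φ 𝔭))).principal
  have hPmem : P ∈ 𝔮.map (φ 𝔭) := by rw [hP]; exact Submodule.mem_span_singleton_self P
  obtain ⟨c₀, hc₀, a, ha, ea⟩ := exists_clear_mem 𝔮 h𝔮 P hPmem
  have hu : ∀ c : R, c ∉ 𝔭 → IsUnit (C (φ₀ 𝔭 c) : (FractionRing (R ⧸ 𝔭))[X]) := by
    intro c hc
    apply Polynomial.isUnit_C.mpr
    exact isUnit_iff_ne_zero.mpr (fun h0 => hc ((φ₀_eq_zero_iff 𝔭 c).mp h0))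
  have hspan : 𝔮.map (φ 𝔭) = Ideal.span {φ 𝔭 a} := by
    rw [← ea]
    change _ = Ideal.span {C (φ₀ 𝔭 c₀) * P}
    rw [Ideal.span_singleton_mul_left_unit (hu c₀ hc₀)]
    exact hP
  refine ⟨a, ha, ?_, ?_, ?_⟩
  · intro hmem
    have h0 : φ 𝔭 a = 0 := (φ_eq_zero_iff 𝔭 a).mpr hmem
    rw [h0, Ideal.span_singleton_eq_bot.mpr rfl] at hspan
    exact hbot hspan
  · intro b hb
    have hb' : φ 𝔭 b ∈ Ideal.span {φ 𝔭 a} := by rw [← hspan]; exact Ideal.mem_map_of_mem _ hb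
    obtain ⟨t, ht⟩ := Ideal.mem_span_singleton'.mp hb'
    obtain ⟨c, hc, g, eg⟩ := exists_clear 𝔭 t
    refine ⟨c, hc, g, ?_⟩
    rw [← φ_eq_zero_iff, map_sub, map_mul, map_mul, φ_C, ← eg, ← ht]
    ring
  · intro 𝔮' h𝔮'p h𝔮' ha'
    haveI := h𝔮'p
    have hle : 𝔮.map (φ 𝔭) ≤ 𝔮'.map (φ 𝔭) := by
      rw [hspan, Ideal.span_singleton_le_iff_mem]
      exact Ideal.mem_map_of_mem _ ha'
    have heq : 𝔮.map (φ 𝔭) = 𝔮'.map (φ 𝔭) :=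
      hmax.eq_of_le (map_ne_top 𝔮' h𝔮') hle
    rw [← comap_map 𝔮' h𝔮', ← heq, comap_map 𝔮 h𝔮]

end Prime

end Groth.Agent.Lib.Helper18.AB1
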