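import Mathlib
import Groth.Prelude.Def_Cyc
import Groth.Agent.Lib.Helper26.OrdZ
import Groth.Agent.Lib.Helper26.FracLength
import Groth.Agent.Lib.Helper18.PushStalk

set_option autoImplicit false
universe u
open CategoryTheory AlgebraicGeometry TensorProduct

namespace Groth.Agent.Lib.Helper18.DivPull

/-- for a flat local homomorphism, `ord_B(φ a) = ord_A(a) · length_B(B/𝔪_A B)` -/
theorem ord_map_of_flat {A₀ B₀ : Type u} [CommRing A₀] [CommRing B₀] [IsLocalRing A₀]
    [IsLocalRing B₀] (φ : A₀ →+* B₀) [IsLocalHom φ] (hφ : φ.Flat) (a : A₀) :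
    Ring.ord B₀ (φ a) = Ring.ord A₀ a *
      Module.length B₀ (B₀ ⧸ Ideal.map φ (IsLocalRing.maximalIdeal A₀)) := by
  letI := φ.toAlgebra
  have hfl : Module.Flat A₀ B₀ := hφ
  have hloc : IsLocalHom (algebraMap A₀ B₀) := ‹IsLocalHom φ›
  unfold Ring.ord
  have h1 := IsLocalRing.length_baseChange A₀ B₀ (A₀ ⧸ Ideal.span {a})
  have e := (Algebra.TensorProduct.quotIdealMapEquivTensorQuot B₀ (Ideal.span {a})).toLinearEquiv
  rw [← e.length_eq] at h1
  have hmm : Ideal.span {φ a} = (Ideal.span {a}).map (algebraMap A₀ B₀) := by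
    rw [Ideal.map_span, Set.image_singleton]; rfl
  rw [hmm]
  exact h1

/-- `Ring.ord` is invariant under bijective ring homomorphisms -/
theorem ord_eq_of_bijective {A₀ A : Type u} [CommRing A₀] [CommRing A] (π : A₀ →+* A)
    (hπ : Function.Bijective π) (a : A₀) : Ring.ord A (π a) = Ring.ord A₀ a := by
  unfold Ring.ord
  symm
  have hle : Ideal.span {a} ≤ Ideal.comap π (Ideal.span {π a}) := by
    rw [Ideal.span_le]
    intro z hz
    rw [Set.mem_singleton_iff] at hz
    subst hz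
    exact Ideal.subset_span rfl
  have hge : Ideal.comap π (Ideal.span {π a}) ≤ Ideal.span {a} := by
    intro z hz
    rw [Ideal.mem_comap, Ideal.mem_span_singleton'] at hz
    obtain ⟨c, hc⟩ := hz
    obtain ⟨c', rfl⟩ := hπ.2 c
    rw [← map_mul] at hc
    have := hπ.1 hc
    rw [← this]
    exact Ideal.mul_mem_left _ _ (Ideal.subset_span rfl)
  let ψ := Ideal.quotientMap (Ideal.span {π a}) π hle
  refine Groth.Agent.Lib.Helper18.PushStalk.length_eq_of_semilinear_bijective π hπ.2
    ψ.toAddMonoidHom ⟨?_, ?_⟩ ?_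
  · exact Ideal.quotientMap_injective' (H := hle) hge
  · exact Ideal.quotientMap_surjective (H := hle) hπ.2
  · intro r m
    obtain ⟨m, rfl⟩ := Ideal.Quotient.mk_surjective m
    change ψ (r • Ideal.Quotient.mk _ m) = π r • ψ (Ideal.Quotient.mk _ m)
    rw [Algebra.smul_def, Algebra.smul_def, map_mul]
    rfl

/-- the abstract comparison of orders of vanishing along a flat local homomorphism of
one-dimensional local domains presented as bijective images -/
theorem ordFrac_map_of_flat {A₀ B₀ A B K L : Type u} [CommRing A₀] [CommRing B₀]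
    [IsLocalRing A₀] [IsLocalRing B₀] (φ : A₀ →+* B₀) [IsLocalHom φ] (hφ : φ.Flat)
    [CommRing A] [IsDomain A] [IsNoetherianRing A] [Ring.KrullDimLE 1 A]
    [CommRing B] [IsDomain B] [IsNoetherianRing B] [Ring.KrullDimLE 1 B]
    [Field K] [Algebra A K] [IsFractionRing A K] [Field L] [Algebra B L] [IsFractionRing B L]
    (πA : A₀ →+* A) (hπA : Function.Bijective πA) (πB : B₀ →+* B) (hπB : Function.Bijective πB)
    (φ' : A →+* B) (hφ' : ∀ a, φ' (πA a) = πB (φ a))
    (ε : K →+* L) (hε : ∀ a : A, ε (algebraMap A K a) = algebraMap B L (φ' a)) (g : K) (hg : g ≠ 0) :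
    CycAlg.ordFrac B L (ε g) = CycAlg.ordFrac A K g *
      ((Module.length B₀ (B₀ ⧸ Ideal.map φ (IsLocalRing.maximalIdeal A₀))).toNat : ℤ) := by
  obtain ⟨a, b, hb, rfl⟩ := IsFractionRing.div_surjective (A := A) g
  have hb0 : b ≠ 0 := nonZeroDivisors.ne_zero hb
  have ha0 : a ≠ 0 := by
    rintro rfl
    simp at hg
  have ha' : algebraMap A K a ≠ 0 := by
    rwa [Ne, FaithfulSMul.algebraMap_eq_zero_iff]
  have hb' : algebraMap A K b ≠ 0 := by
    rwa [Ne, FaithfulSMul.algebraMap_eq_zero_iff]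
  have hφinj : ∀ c : A, c ≠ 0 → φ' c ≠ 0 := by
    intro c hc h0
    have h1 := hε c
    rw [h0, map_zero] at h1
    have : algebraMap A K c = 0 := (map_eq_zero ε).mp h1
    rw [FaithfulSMul.algebraMap_eq_zero_iff] at this
    exact hc this
  have key : ∀ c : A, c ≠ 0 → ((Ring.ord B (φ' c)).toNat : ℤ) = ((Ring.ord A c).toNat : ℤ) *
      ((Module.length B₀ (B₀ ⧸ Ideal.map φ (IsLocalRing.maximalIdeal A₀))).toNat : ℤ) := by
    intro c hc
    obtain ⟨c₀, rfl⟩ := hπA.2 c
    rw [hφ', ord_eq_of_bijective πB hπB, ord_eq_of_bijective πA hπA, ord_map_of_flat φ hφ,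
      ENat.toNat_mul]
    push_cast
    rfl
  rw [map_div₀, hε, hε]
  have ha'' : algebraMap B L (φ' a) ≠ 0 := by
    rw [Ne, FaithfulSMul.algebraMap_eq_zero_iff]; exact hφinj a ha0
  have hb'' : algebraMap B L (φ' b) ≠ 0 := by
    rw [Ne, FaithfulSMul.algebraMap_eq_zero_iff]; exact hφinj b hb0
  rw [Groth.Agent.Lib.Helper26.FracLength.ordFrac_div ha'' hb'',
    Groth.Agent.Lib.Helper26.FracLength.ordFrac_div ha' hb',
    Groth.Agent.Lib.Helper26.OrdZ.ordFrac_algebraMap (hφinj a ha0),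
    Groth.Agent.Lib.Helper26.OrdZ.ordFrac_algebraMap (hφinj b hb0),
    Groth.Agent.Lib.Helper26.OrdZ.ordFrac_algebraMap ha0,
    Groth.Agent.Lib.Helper26.OrdZ.ordFrac_algebraMap hb0, key a ha0, key b hb0]
  ring

/-- the order of vanishing of the image of a unit is zero -/
theorem ordFrac_algebraMap_of_isUnit {B L : Type u} [CommRing B] [Field L] [Algebra B L] (u : B)
    (hu : IsUnit u) : CycAlg.ordFrac B L (algebraMap B L u) = 0 := by
  unfold CycAlg.ordFrac
  split_ifs with h
  · haveI := h.1; haveI := h.2.1; haveI := h.2.2.1; haveI := h.2.2.2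
    haveI : IsDomain B := (FaithfulSMul.algebraMap_injective B L).isDomain
    have h1 : Ring.ordFrac B (algebraMap B L u) = 1 := Ring.ordFrac_of_isUnit hu
    rw [h1]
    rfl
  · rfl

end Groth.Agent.Lib.Helper18.DivPull
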