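import Mathlib
import Groth.Prelude.Def_Cyc
import Groth.Agent.Lib.Helper18.DivPull1
import Groth.Agent.Lib.Helper21.DimFun1

set_option autoImplicit false
universe u
open CategoryTheory AlgebraicGeometry TensorProduct

namespace Groth.Agent.Lib.Helper18.DivPull

/-- compatibility of the maps `O_{X,x} → κ(ξ)` with a morphism -/
theorem specMap_stalkMap {X Y : Scheme.{u}} (f : X ⟶ Y) (x ξ : X) (h : ξ ⤳ x)
    (h' : f ξ ⤳ f x) (a : Y.presheaf.stalk (f x)) :
    Cyc.specMap x ξ h ((f.stalkMap x).hom a) =
      (f.residueFieldMap ξ).hom (Cyc.specMap (f x) (f ξ) h' a) := by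
  unfold Cyc.specMap
  have h1 := Scheme.Hom.stalkSpecializes_stalkMap_apply f ξ x h a
  have h2 := congrArg (fun k => k.hom (Y.presheaf.stalkSpecializes h' a))
    (Scheme.residue_residueFieldMap f ξ)
  simp only [CommRingCat.hom_comp, RingHom.coe_comp, Function.comp_apply] at h2 ⊢
  rw [h2]
  congr 1
  exact h1.symm

section Generic

variable {X : Scheme.{u}} [IsIntegral X]

theorem specMap_injective_of_generic (x η : X) (h : η ⤳ x) (hη : η = genericPoint X) :
    Function.Injective (Cyc.specMap x η h) := by
  subst hη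
  have h1 : Function.Injective (X.presheaf.stalkSpecializes h).hom :=
    IsFractionRing.injective (X.presheaf.stalk x) X.functionField
  have h2 : Function.Injective (X.residue (genericPoint X)).hom := by
    change Function.Injective ((X.residue (genericPoint X)).hom : X.functionField →+* _)
    exact RingHom.injective _
  exact h2.comp h1

theorem ker_specMap_eq_bot_of_generic (x η : X) (h : η ⤳ x) (hη : η = genericPoint X) :
    RingHom.ker (Cyc.specMap x η h) = ⊥ :=
  (RingHom.injective_iff_ker_eq_bot _).mp (specMap_injective_of_generic x η h hη)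

theorem specMap_surjective_frac (x η : X) (h : η ⤳ x) (hη : η = genericPoint X)
    (z : X.residueField η) :
    ∃ a b : X.presheaf.stalk x, z = Cyc.specMap x η h a / Cyc.specMap x η h b := by
  subst hη
  obtain ⟨w, rfl⟩ := X.residue_surjective (genericPoint X) z
  obtain ⟨a, b, hb, hw⟩ := IsFractionRing.div_surjective (A := X.presheaf.stalk x)
    (show X.functionField from w)
  refine ⟨a, b, ?_⟩
  have : (X.residue (genericPoint X)).hom (show X.functionField from w) =
      (X.residue (genericPoint X)).hom
        (algebraMap (X.presheaf.stalk x) X.functionField a /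
          algebraMap (X.presheaf.stalk x) X.functionField b) := by rw [hw]
  rw [map_div₀] at this
  exact this

theorem algebraMap_locQuot_injective {Z : Scheme.{u}} (x ξ : Z) (h : ξ ⤳ x) :
    Function.Injective (algebraMap (Cyc.LocQuot x ξ h) (Z.residueField ξ)) := by
  rw [injective_iff_map_eq_zero]
  intro a ha
  obtain ⟨a, rfl⟩ := Ideal.Quotient.mk_surjective a
  have : Cyc.specMap x ξ h a = 0 := ha
  exact Ideal.Quotient.eq_zero_iff_mem.mpr (RingHom.mem_ker.mpr this)

theorem algebraMap_locQuot_mk {Z : Scheme.{u}} (x ξ : Z) (h : ξ ⤳ x) (a : Z.presheaf.stalk x) :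
    algebraMap (Cyc.LocQuot x ξ h) (Z.residueField ξ)
      (Ideal.Quotient.mk (RingHom.ker (Cyc.specMap x ξ h)) a) = Cyc.specMap x ξ h a := rfl

theorem isFractionRing_locQuot_of_generic (x η : X) (h : η ⤳ x) (hη : η = genericPoint X) :
    IsFractionRing (Cyc.LocQuot x η h) (X.residueField η) := by
  haveI : FaithfulSMul (Cyc.LocQuot x η h) (X.residueField η) :=
    (faithfulSMul_iff_algebraMap_injective _ _).mpr (algebraMap_locQuot_injective x η h)
  apply IsFractionRing.of_field
  intro z
  obtain ⟨a, b, hab⟩ := specMap_surjective_frac x η h hη z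
  exact ⟨Ideal.Quotient.mk _ a, Ideal.Quotient.mk _ b, hab⟩

theorem mk_bijective_of_generic (x η : X) (h : η ⤳ x) (hη : η = genericPoint X) :
    Function.Bijective (Ideal.Quotient.mk (RingHom.ker (Cyc.specMap x η h))) := by
  refine ⟨?_, Ideal.Quotient.mk_surjective⟩
  rw [injective_iff_map_eq_zero]
  intro a ha
  rw [Ideal.Quotient.eq_zero_iff_mem, ker_specMap_eq_bot_of_generic x η h hη] at ha
  exact ha

end Generic

/-- if `y = ζ`, every nonzero element of `κ(ζ)` is the image of a unit of `O_{Y,y}` -/
theorem exists_isUnit_specMap_eq {Y : Scheme.{u}} (y ζ : Y) (h : ζ ⤳ y) (e : y = ζ)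
    (g : Y.residueField ζ) (hg : g ≠ 0) :
    ∃ u : Y.presheaf.stalk y, IsUnit u ∧ Cyc.specMap y ζ h u = g := by
  subst e
  have hrefl : Y.presheaf.stalkSpecializes h = 𝟙 _ := TopCat.Presheaf.stalkSpecializes_refl _ _
  have hs : ∀ a, Cyc.specMap y y h a = (Y.residue y).hom a := by
    intro a
    unfold Cyc.specMap
    rw [hrefl]
    rfl
  obtain ⟨u, hu⟩ := Y.residue_surjective y g
  refine ⟨u, ?_, (hs u).trans hu⟩
  by_contra hnu
  have hmem : u ∈ IsLocalRing.maximalIdeal (Y.presheaf.stalk y) :=
    (IsLocalRing.mem_maximalIdeal u).mpr hnu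
  have : (Y.residue y).hom u = 0 := (IsLocalRing.residue_eq_zero_iff u).mpr hmem
  exact hg (hu ▸ this)

/-- a rational function pulled back from the generic point of the base has order zero along
points of the generic fibre -/
theorem ordAt_map_eq_zero_of_map_eq {X Y : Scheme.{u}} (f : X ⟶ Y) (x η : X) (h : η ⤳ x)
    (hfx : f x = f η) (g : Y.residueField (f η)) (hg : g ≠ 0) :
    Cyc.ordAt x η h ((f.residueFieldMap η).hom g) = 0 := by
  have h' : f η ⤳ f x := f.base.hom.map_specializes h
  obtain ⟨u, hu, hug⟩ := exists_isUnit_specMap_eq (f x) (f η) h' hfx g hg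
  have h1 := specMap_stalkMap f x η h h' u
  rw [hug] at h1
  rw [← h1, ← algebraMap_locQuot_mk x η h]
  unfold Cyc.ordAt
  apply ordFrac_algebraMap_of_isUnit
  exact (hu.map (f.stalkMap x).hom).map _

end Groth.Agent.Lib.Helper18.DivPull
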