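import Mathlib
import Groth.Prelude.Def_Cyc
import Groth.Agent.Lib.Helper18.DivPull2

set_option autoImplicit false
universe u
open CategoryTheory AlgebraicGeometry TensorProduct

namespace Groth.Agent.Lib.Helper18.DivPull

theorem krullDimLE_one_locQuot {X : Scheme.{u}} (δ : X → ℤ) (hδ : Cyc.IsDimFun X δ) (x ξ : X)
    (h : ξ ⤳ x) (h1 : δ x + 1 = δ ξ) : Ring.KrullDimLE 1 (Cyc.LocQuot x ξ h) := by
  rw [Ring.krullDimLE_iff, Groth.Agent.Lib.Helper21.DimFun.ringKrullDim_locQuot δ hδ x ξ h]
  have : (δ ξ - δ x).toNat = 1 := by omega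
  rw [this]

/-- **flat pullback of orders of vanishing**: along a flat morphism of integral schemes, at a point
of codimension one lying over a point of codimension one. -/
theorem ordAt_map_of_flat {X Y : Scheme.{u}} [IsIntegral X] [IsIntegral Y] (δX : X → ℤ) (δY : Y → ℤ)
    (hX : Cyc.IsSetup X δX) (hY : Cyc.IsSetup Y δY) (f : X ⟶ Y) [Flat f] (x η : X) (h : η ⤳ x)
    (h' : f η ⤳ f x)
    (hη : η = genericPoint X) (hζ : f η = genericPoint Y)
    (h1 : δX x + 1 = δX η) (h2 : δY (f x) + 1 = δY (f η)) (g : Y.residueField (f η)) (hg : g ≠ 0) :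
    Cyc.ordAt x η h ((f.residueFieldMap η).hom g) =
      Cyc.ordAt (f x) (f η) h' g *
        ((Module.length (X.presheaf.stalk x) (X.presheaf.stalk x ⧸ Ideal.map (f.stalkMap x).hom
          (IsLocalRing.maximalIdeal (Y.presheaf.stalk (f x))))).toNat : ℤ) := by
  haveI : IsLocallyNoetherian X := hX.1
  haveI : IsLocallyNoetherian Y := hY.1
  haveI hpσ : (RingHom.ker (Cyc.specMap (f x) (f η) h')).IsPrime := RingHom.ker_isPrime _
  haveI hpτ : (RingHom.ker (Cyc.specMap x η h)).IsPrime := RingHom.ker_isPrime _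
  haveI : IsDomain (Cyc.LocQuot (f x) (f η) h') := Ideal.Quotient.isDomain _
  haveI : IsDomain (Cyc.LocQuot x η h) := Ideal.Quotient.isDomain _
  haveI : Ring.KrullDimLE 1 (Cyc.LocQuot (f x) (f η) h') :=
    krullDimLE_one_locQuot δY hY.2.2 (f x) (f η) h' h2
  haveI : Ring.KrullDimLE 1 (Cyc.LocQuot x η h) := krullDimLE_one_locQuot δX hX.2.2 x η h h1
  haveI : IsFractionRing (Cyc.LocQuot (f x) (f η) h') (Y.residueField (f η)) :=
    isFractionRing_locQuot_of_generic (f x) (f η) h' hζ
  haveI : IsFractionRing (Cyc.LocQuot x η h) (X.residueField η) :=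
    isFractionRing_locQuot_of_generic x η h hη
  have hle : RingHom.ker (Cyc.specMap (f x) (f η) h') ≤
      Ideal.comap (f.stalkMap x).hom (RingHom.ker (Cyc.specMap x η h)) := by
    intro a ha
    rw [Ideal.mem_comap, RingHom.mem_ker, specMap_stalkMap f x η h h' a, RingHom.mem_ker.mp ha,
      map_zero]
  unfold Cyc.ordAt
  exact ordFrac_map_of_flat (f.stalkMap x).hom (Flat.stalkMap f x)
    (Ideal.Quotient.mk (RingHom.ker (Cyc.specMap (f x) (f η) h')))
    (mk_bijective_of_generic (f x) (f η) h' hζ)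
    (Ideal.Quotient.mk (RingHom.ker (Cyc.specMap x η h)))
    (mk_bijective_of_generic x η h hη)
    (Ideal.quotientMap (RingHom.ker (Cyc.specMap x η h)) (f.stalkMap x).hom hle)
    (fun a => rfl)
    (f.residueFieldMap η).hom
    (fun a => by
      obtain ⟨a, rfl⟩ := Ideal.Quotient.mk_surjective a
      exact (specMap_stalkMap f x η h h' a).symm)
    g hg

end Groth.Agent.Lib.Helper18.DivPull
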