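import Mathlib
import Groth.Prelude.Def_Cyc

/-!
# The local ring at a generization is a localization of the local ring
-/

set_option autoImplicit false
set_option linter.style.haveILetI false
universe u
open CategoryTheory AlgebraicGeometry TopologicalSpace

namespace Groth.Agent.Lib.Helper18.LocStalk

variable {X : Scheme.{u}}

theorem ker_specMap_eq (x ξ : X) (h : ξ ⤳ x) :
    RingHom.ker (Cyc.specMap x ξ h) =
      (IsLocalRing.maximalIdeal (X.presheaf.stalk ξ)).comap
        (X.presheaf.stalkSpecializes h).hom := by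
  rw [← IsLocalRing.ker_residue]
  rfl

theorem mem_ker_specMap_iff (x ξ : X) (h : ξ ⤳ x) (a : X.presheaf.stalk x) :
    a ∈ RingHom.ker (Cyc.specMap x ξ h) ↔ ¬ IsUnit ((X.presheaf.stalkSpecializes h).hom a) := by
  rw [ker_specMap_eq, Ideal.mem_comap, IsLocalRing.mem_maximalIdeal, mem_nonunits_iff]

/-- `O_{X,ξ}` is the localization of `O_{X,x}` at the prime ideal of the generization `ξ`. -/
theorem isLocalization_stalkSpecializes (x ξ : X) (h : ξ ⤳ x) :
    letI := (X.presheaf.stalkSpecializes h).hom.toAlgebra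
    @IsLocalization.AtPrime _ _ (X.presheaf.stalk ξ) _ (X.presheaf.stalkSpecializes h).hom.toAlgebra
      (RingHom.ker (Cyc.specMap x ξ h)) (RingHom.ker_isPrime _) := by
  letI := (X.presheaf.stalkSpecializes h).hom.toAlgebra
  haveI hq : (RingHom.ker (Cyc.specMap x ξ h)).IsPrime := RingHom.ker_isPrime _
  obtain ⟨_, ⟨U, hU : IsAffineOpen U, rfl⟩, hxU, -⟩ :=
    X.isBasis_affineOpens.exists_subset_of_mem_open (Set.mem_univ x) isOpen_univ
  have hξU : ξ ∈ U := h.mem_open U.2 hxU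
  letI a1 : Algebra Γ(X, U) (X.presheaf.stalk x) := X.presheaf.algebra_section_stalk ⟨x, hxU⟩
  letI a2 : Algebra Γ(X, U) (X.presheaf.stalk ξ) := X.presheaf.algebra_section_stalk ⟨ξ, hξU⟩
  haveI l1 : IsLocalization.AtPrime (X.presheaf.stalk x) (hU.primeIdealOf ⟨x, hxU⟩).asIdeal :=
    hU.isLocalization_stalk ⟨x, hxU⟩
  haveI l2 : IsLocalization.AtPrime (X.presheaf.stalk ξ) (hU.primeIdealOf ⟨ξ, hξU⟩).asIdeal :=
    hU.isLocalization_stalk ⟨ξ, hξU⟩
  have hcomp : ∀ r : Γ(X, U), algebraMap Γ(X, U) (X.presheaf.stalk ξ) r =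
      (X.presheaf.stalkSpecializes h).hom (algebraMap Γ(X, U) (X.presheaf.stalk x) r) := by
    intro r
    exact (TopCat.Presheaf.germ_stalkSpecializes_apply X.presheaf hxU h r).symm
  haveI : IsScalarTower Γ(X, U) (X.presheaf.stalk x) (X.presheaf.stalk ξ) :=
    IsScalarTower.of_algebraMap_eq hcomp
  have hle : (hU.primeIdealOf ⟨x, hxU⟩).asIdeal.primeCompl ≤
      (hU.primeIdealOf ⟨ξ, hξU⟩).asIdeal.primeCompl := by
    intro r hr
    have h1 : IsUnit (algebraMap Γ(X, U) (X.presheaf.stalk x) r) :=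
      IsLocalization.map_units (X.presheaf.stalk x)
        (⟨r, hr⟩ : (hU.primeIdealOf ⟨x, hxU⟩).asIdeal.primeCompl)
    have h2 : IsUnit (algebraMap Γ(X, U) (X.presheaf.stalk ξ) r) := by
      rw [hcomp]; exact h1.map _
    exact (IsLocalization.AtPrime.isUnit_to_map_iff (X.presheaf.stalk ξ)
      (hU.primeIdealOf ⟨ξ, hξU⟩).asIdeal r).mp h2
  haveI l3 := IsLocalization.isLocalization_of_submonoid_le (X.presheaf.stalk x)
    (X.presheaf.stalk ξ) _ _ hle
  refine IsLocalization.of_le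
    (((hU.primeIdealOf ⟨ξ, hξU⟩).asIdeal.primeCompl).map
      (algebraMap Γ(X, U) (X.presheaf.stalk x))) _ ?_ ?_
  · rintro _ ⟨r, hr, rfl⟩
    change algebraMap Γ(X, U) (X.presheaf.stalk x) r ∉ RingHom.ker (Cyc.specMap x ξ h)
    rw [mem_ker_specMap_iff, not_not, ← hcomp]
    exact IsLocalization.map_units (X.presheaf.stalk ξ)
        (⟨r, hr⟩ : (hU.primeIdealOf ⟨ξ, hξU⟩).asIdeal.primeCompl)
  · intro a ha
    have : a ∉ RingHom.ker (Cyc.specMap x ξ h) := ha
    rw [mem_ker_specMap_iff, not_not] at this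
    exact this

end Groth.Agent.Lib.Helper18.LocStalk
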