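import Mathlib
import Groth.Prelude.Def_Cyc
import Groth.Agent.Lib.Helper18.LocStalk
import Groth.Agent.Lib.Helper18.PushStalk
import Groth.Agent.Lib.Helper18.DivPull2

/-!
# Consequences of `O_{X,ξ} = (O_{X,x})_𝔮`
-/

set_option autoImplicit false
set_option linter.style.haveILetI false
universe u
open CategoryTheory AlgebraicGeometry TopologicalSpace

namespace Groth.Agent.Lib.Helper18.LocStalk

section Alg

variable {A S : Type u} [CommRing A] [CommRing S] [Algebra A S] (q : Ideal A) [q.IsPrime]
  [IsLocalization.AtPrime S q]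

/-- the length of `A_𝔮` computed through `LocalizedModule` agrees with the length of any model of
the localization over itself -/
theorem length_localizedModule_self :
    Module.length (Localization.AtPrime q) (LocalizedModule q.primeCompl A) = Module.length S S := by
  let σ : Localization.AtPrime q ≃ₐ[A] S := IsLocalization.algEquiv q.primeCompl _ S
  letI : Algebra (Localization.AtPrime q) S := σ.toAlgHom.toRingHom.toAlgebra
  haveI : IsScalarTower A (Localization.AtPrime q) S :=
    IsScalarTower.of_algebraMap_eq (fun r => (σ.commutes r).symm)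
  haveI : IsLocalizedModule q.primeCompl (Algebra.linearMap A S) :=
    (isLocalizedModule_iff_isLocalization).mpr inferInstance
  let e₀ : LocalizedModule q.primeCompl A ≃ₗ[A] S :=
    IsLocalizedModule.iso q.primeCompl (Algebra.linearMap A S)
  let e : LocalizedModule q.primeCompl A ≃ₗ[Localization.AtPrime q] S :=
    e₀.extendScalarsOfIsLocalization q.primeCompl (Localization.AtPrime q)
  rw [e.length_eq]
  refine Groth.Agent.Lib.Helper18.PushStalk.length_eq_of_semilinear_bijective
    (σ : Localization.AtPrime q →+* S) σ.surjective (AddMonoidHom.id S) Function.bijective_id ?_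
  intro r m
  rfl

end Alg

variable {X : Scheme.{u}}

theorem fromSpecStalk_ker_specMap (x ξ : X) (h : ξ ⤳ x) :
    X.fromSpecStalk x ⟨RingHom.ker (Cyc.specMap x ξ h), RingHom.ker_isPrime _⟩ = ξ := by
  have h3 := congrArg (fun φ : Spec (X.presheaf.stalk ξ) ⟶ X =>
    φ (IsLocalRing.closedPoint (X.presheaf.stalk ξ)))
    (Scheme.SpecMap_stalkSpecializes_fromSpecStalk h)
  simp only [Scheme.Hom.comp_apply] at h3
  rw [Scheme.fromSpecStalk_closedPoint] at h3
  refine Eq.trans ?_ h3
  congr 1
  apply PrimeSpectrum.ext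
  exact ker_specMap_eq x ξ h

theorem fromSpecStalk_specializes (x : X) (q : PrimeSpectrum (X.presheaf.stalk x)) :
    X.fromSpecStalk x q ⤳ x := by
  have : X.fromSpecStalk x q ∈ Set.range (X.fromSpecStalk x) := ⟨q, rfl⟩
  rwa [Scheme.range_fromSpecStalk] at this

theorem eq_ker_specMap_of_fromSpecStalk_eq (x ξ : X) (h : ξ ⤳ x)
    (q : PrimeSpectrum (X.presheaf.stalk x)) (hq : X.fromSpecStalk x q = ξ) :
    q = ⟨RingHom.ker (Cyc.specMap x ξ h), RingHom.ker_isPrime _⟩ :=
  (X.fromSpecStalk x).isEmbedding.injective (hq.trans (fromSpecStalk_ker_specMap x ξ h).symm)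

/-- `κ(ξ)` is the fraction field of `O_{X,x}/𝔭_ξ` -/
theorem isFractionRing_locQuot (x ξ : X) (h : ξ ⤳ x) :
    IsFractionRing (Cyc.LocQuot x ξ h) (X.residueField ξ) := by
  haveI : FaithfulSMul (Cyc.LocQuot x ξ h) (X.residueField ξ) :=
    (faithfulSMul_iff_algebraMap_injective _ _).mpr
      (Groth.Agent.Lib.Helper18.DivPull.algebraMap_locQuot_injective x ξ h)
  apply IsFractionRing.of_field
  intro z
  obtain ⟨w, rfl⟩ := X.residue_surjective ξ z
  letI := (X.presheaf.stalkSpecializes h).hom.toAlgebra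
  haveI hq : (RingHom.ker (Cyc.specMap x ξ h)).IsPrime := RingHom.ker_isPrime _
  haveI := isLocalization_stalkSpecializes x ξ h
  obtain ⟨a, b, hab⟩ := IsLocalization.exists_mk'_eq (RingHom.ker (Cyc.specMap x ξ h)).primeCompl w
  refine ⟨Ideal.Quotient.mk _ a, Ideal.Quotient.mk _ b.1, ?_⟩
  change (X.residue ξ).hom w = Cyc.specMap x ξ h a / Cyc.specMap x ξ h b.1
  have hb : Cyc.specMap x ξ h b.1 ≠ 0 := fun h0 => b.2 (RingHom.mem_ker.mpr h0)
  rw [eq_div_iff hb, ← hab]
  change (X.residue ξ).hom _ * (X.residue ξ).hom ((X.presheaf.stalkSpecializes h).hom b.1) =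
    (X.residue ξ).hom ((X.presheaf.stalkSpecializes h).hom a)
  rw [← map_mul]
  congr 1
  exact IsLocalization.mk'_spec _ a b

/-- lengths: `ℓ((O_{X,x})_𝔮) = ℓ(O_{X,ξ})` -/
theorem length_localizedModule_stalk (x ξ : X) (h : ξ ⤳ x) :
    haveI : (RingHom.ker (Cyc.specMap x ξ h)).IsPrime := RingHom.ker_isPrime _
    Module.length (Localization.AtPrime (RingHom.ker (Cyc.specMap x ξ h)))
      (LocalizedModule (RingHom.ker (Cyc.specMap x ξ h)).primeCompl (X.presheaf.stalk x)) =
      Module.length (X.presheaf.stalk ξ) (X.presheaf.stalk ξ) := by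
  letI := (X.presheaf.stalkSpecializes h).hom.toAlgebra
  haveI hq : (RingHom.ker (Cyc.specMap x ξ h)).IsPrime := RingHom.ker_isPrime _
  haveI := isLocalization_stalkSpecializes x ξ h
  exact length_localizedModule_self (RingHom.ker (Cyc.specMap x ξ h))

end Groth.Agent.Lib.Helper18.LocStalk
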