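import Mathlib
import Groth.Prelude.Def_C1
import Groth.Agent.Lib.Helper29.QCohBasic
import Groth.Agent.Lib.Helper18.DivPull3

/-!
# The divisor of a regular section of a module with cyclic stalks
-/

set_option autoImplicit false
universe u
open CategoryTheory AlgebraicGeometry TopologicalSpace

namespace Groth.Agent.Lib.Helper18.SecDiv

open Groth.Agent.Lib.Helper29.QCoh

variable {X : Scheme.{u}}

/-- the cospecialization maps on stalks of a module are semilinear -/
theorem stalkSpecializes_smul (L : X.Modules) {x y : X} (h : y ⤳ x) (r : X.presheaf.stalk x)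
    (m : L.presheaf.stalk x) :
    L.presheaf.stalkSpecializes h (r • m) =
      X.presheaf.stalkSpecializes h r • L.presheaf.stalkSpecializes h m := by
  obtain ⟨U, hx, a, rfl⟩ := X.presheaf.exists_germ_eq (x := x) r
  obtain ⟨V, hVU, hxV, b, rfl⟩ := L.presheaf.exists_le_germ_eq m hx
  have ha : X.presheaf.germ U x hx a =
      X.presheaf.germ V x hxV (X.presheaf.map (homOfLE hVU).op a) :=
    (X.presheaf.germ_res_apply (homOfLE hVU) x hxV a).symm
  rw [ha, ← germ_smul]
  rw [TopCat.Presheaf.germ_stalkSpecializes_apply, TopCat.Presheaf.germ_stalkSpecializes_apply,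
    TopCat.Presheaf.germ_stalkSpecializes_apply, germ_smul]

theorem stalkSpecializes_germ_top (L : X.Modules) {x y : X} (h : y ⤳ x)
    (s : L.presheaf.obj (Opposite.op ⊤)) :
    L.presheaf.stalkSpecializes h (L.presheaf.germ ⊤ x trivial s) =
      L.presheaf.germ ⊤ y trivial s :=
  TopCat.Presheaf.germ_stalkSpecializes_apply _ _ _ _

end Groth.Agent.Lib.Helper18.SecDiv
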