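import Mathlib
import Groth.Prelude.Def_C1
import Groth.Agent.Lib.Helper29.GenLocus
import Groth.Agent.Lib.Helper18.SecDiv

/-!
# Stalks and fibres of invertible modules
-/

set_option autoImplicit false
set_option linter.style.haveILetI false
universe u
open CategoryTheory AlgebraicGeometry TopologicalSpace

namespace Groth.Agent.Lib.Helper18.InvStalk

open Groth.Agent.Lib.Helper29.QCoh

section Alg

variable {R M : Type*} [CommRing R] [AddCommGroup M] [Module R M] (I : Ideal R) (g : M)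

theorem exists_smul_mk_eq (hg : Submodule.span R {g} = ⊤)
    (s : M ⧸ (I • (⊤ : Submodule R M))) :
    ∃ ψ : R, s = ψ • (Submodule.Quotient.mk g : M ⧸ (I • (⊤ : Submodule R M))) := by
  obtain ⟨m, rfl⟩ := Submodule.Quotient.mk_surjective _ s
  have : m ∈ Submodule.span R {g} := by rw [hg]; trivial
  obtain ⟨ψ, rfl⟩ := Submodule.mem_span_singleton.mp this
  exact ⟨ψ, rfl⟩

theorem mem_of_smul_mk_eq_zero (hg : Submodule.span R {g} = ⊤) (hfree : ∀ r : R, r • g = 0 → r = 0)
    (ψ : R) (h : ψ • (Submodule.Quotient.mk g : M ⧸ (I • (⊤ : Submodule R M))) = 0) : ψ ∈ I := by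
  rw [← Submodule.Quotient.mk_smul, Submodule.Quotient.mk_eq_zero, ← hg,
    Submodule.mem_smul_span_singleton] at h
  obtain ⟨y, hy, hyg⟩ := h
  have : (y - ψ) • g = 0 := by rw [sub_smul, hyg, sub_self]
  have := hfree _ this
  rw [sub_eq_zero] at this
  rw [← this]; exact hy

/-- if both `g` and `t` generate and `g` is free then `t` is free -/
theorem free_of_span_eq_top (hg : Submodule.span R {g} = ⊤) (hfree : ∀ r : R, r • g = 0 → r = 0)
    (t : M) (ht : Submodule.span R {t} = ⊤) (r : R) (h : r • t = 0) : r = 0 := by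
  have h1 : t ∈ Submodule.span R {g} := by rw [hg]; trivial
  have h2 : g ∈ Submodule.span R {t} := by rw [ht]; trivial
  obtain ⟨u, rfl⟩ := Submodule.mem_span_singleton.mp h1
  obtain ⟨v, hv⟩ := Submodule.mem_span_singleton.mp h2
  have h3 : (v * u - 1) • g = 0 := by
    rw [sub_smul, mul_smul, hv, one_smul, sub_self]
  have h4 := hfree _ h3
  have h5 : (r * u) • g = 0 := by rw [mul_smul]; exact h
  have h6 := hfree _ h5
  have : r = r * (v * u) := by
    rw [sub_eq_zero.mp h4, mul_one]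
  rw [this, mul_comm v u, ← mul_assoc, h6, zero_mul]

end Alg

variable {X : Scheme.{u}} (L : X.Modules)

/-- the germ of a trivialising section generates the stalk -/
theorem span_germ_eq_top {U : X.Opens} {e : Γ(L, U)} (hT : IsTriv L U e) (y : X) (hy : y ∈ U) :
    Submodule.span (X.presheaf.stalk y) {L.presheaf.germ U y hy e} = ⊤ := by
  rw [eq_top_iff]
  intro m _
  obtain ⟨W, hWU, hyW, b, rfl⟩ := L.presheaf.exists_le_germ_eq m hy
  obtain ⟨r, hr⟩ := (hT W hWU).2 b
  rw [Submodule.mem_span_singleton]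
  refine ⟨X.presheaf.germ W y hyW r, ?_⟩
  rw [← germ_res L hWU y hyW e, ← germ_smul]
  exact congrArg _ hr

/-- ... and freely -/
theorem smul_germ_eq_zero {U : X.Opens} {e : Γ(L, U)} (hT : IsTriv L U e) (y : X) (hy : y ∈ U)
    (r : X.presheaf.stalk y) (h : r • L.presheaf.germ U y hy e = 0) : r = 0 := by
  obtain ⟨V, hyV, a, rfl⟩ := X.presheaf.exists_germ_eq (x := y) r
  have hyW : y ∈ V ⊓ U := ⟨hyV, hy⟩
  have ha : X.presheaf.germ V y hyV a =
      X.presheaf.germ (V ⊓ U) y hyW (X.presheaf.map (homOfLE (inf_le_left : V ⊓ U ≤ V)).op a) :=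
    (X.presheaf.germ_res_apply (homOfLE inf_le_left) y hyW a).symm
  rw [ha, ← germ_res L (inf_le_right : V ⊓ U ≤ U) y hyW e, ← germ_smul] at h
  have h0 : L.presheaf.germ (V ⊓ U) y hyW
      ((X.presheaf.map (homOfLE (inf_le_left : V ⊓ U ≤ V)).op a) • res L (inf_le_right : V ⊓ U ≤ U) e) =
      L.presheaf.germ (V ⊓ U) y hyW 0 := by rw [h, map_zero]
  obtain ⟨W, hyW', i1, i2, hW⟩ := L.presheaf.germ_eq y hyW hyW _ _ h0
  have hWle : W ≤ V ⊓ U := i1.le
  have h1 : res L hWle ((X.presheaf.map (homOfLE (inf_le_left : V ⊓ U ≤ V)).op a) • res L (inf_le_right : V ⊓ U ≤ U) e) = 0 := by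
    have : res L hWle (0 : Γ(L, V ⊓ U)) = 0 := map_zero _
    rw [← this]
    exact hW
  rw [res_smul, res_res] at h1
  have h2 := (hT W (hWle.trans inf_le_right)).1
    (show (fun r : Γ(X, W) => r • res L (hWle.trans inf_le_right) e) _ =
      (fun r : Γ(X, W) => r • res L (hWle.trans inf_le_right) e) 0 by
      simp only [zero_smul]; exact h1)
  rw [ha, ← X.presheaf.germ_res_apply (homOfLE hWle) y hyW']
  change X.presheaf.germ W y hyW' ((X.presheaf.map (homOfLE hWle).op)
    ((X.presheaf.map (homOfLE (inf_le_left : V ⊓ U ≤ V)).op) a)) = 0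
  rw [h2, map_zero]

variable {L}

theorem exists_generator (hL : PicF.IsInvertible L) (x : X) :
    ∃ t : L.presheaf.stalk x, Submodule.span (X.presheaf.stalk x) {t} = ⊤ := by
  obtain ⟨U, e, hx, hT⟩ := exists_isTriv hL x
  exact ⟨_, span_germ_eq_top L hT x hx⟩

theorem free_of_generator (hL : PicF.IsInvertible L) (x : X) (t : L.presheaf.stalk x)
    (ht : Submodule.span (X.presheaf.stalk x) {t} = ⊤) (r : X.presheaf.stalk x)
    (h : r • t = 0) : r = 0 := by
  obtain ⟨U, e, hx, hT⟩ := exists_isTriv hL x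
  exact free_of_span_eq_top _ (span_germ_eq_top L hT x hx) (smul_germ_eq_zero L hT x hx) t ht r h

theorem span_stalkSpecializes_eq_top (hL : PicF.IsInvertible L) {x ξ : X} (h : ξ ⤳ x)
    (t : L.presheaf.stalk x) (ht : Submodule.span (X.presheaf.stalk x) {t} = ⊤) :
    Submodule.span (X.presheaf.stalk ξ) {L.presheaf.stalkSpecializes h t} = ⊤ := by
  obtain ⟨U, e, hx, hT⟩ := exists_isTriv hL x
  have hξ : ξ ∈ U := h.mem_open U.2 hx
  have h2 : L.presheaf.germ U x hx e ∈ Submodule.span (X.presheaf.stalk x) {t} := by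
    rw [ht]; trivial
  obtain ⟨v, hv⟩ := Submodule.mem_span_singleton.mp h2
  have h3 : L.presheaf.germ U ξ hξ e =
      X.presheaf.stalkSpecializes h v • L.presheaf.stalkSpecializes h t := by
    rw [← Groth.Agent.Lib.Helper18.SecDiv.stalkSpecializes_smul, hv]
    exact (TopCat.Presheaf.germ_stalkSpecializes_apply _ _ _ _).symm
  rw [eq_top_iff, ← span_germ_eq_top L hT ξ hξ, Submodule.span_le, Set.singleton_subset_iff, h3]
  exact Submodule.smul_mem _ _ (Submodule.subset_span rfl)

end Groth.Agent.Lib.Helper18.InvStalk
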