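import Mathlib
import Groth.Prelude.Def_C1
import Groth.Agent.Lib.Helper18.InvStalk
import Groth.Agent.Lib.Helper18.LocStalk2
import Groth.Agent.Lib.Helper18.DivPull3

/-!
# Independence of `c_1(L) ∩ α` of the chosen rational sections: local computations
-/

set_option autoImplicit false
set_option linter.style.haveILetI false
universe u v
open CategoryTheory AlgebraicGeometry TopologicalSpace

namespace Groth.Agent.Lib.Helper18.C1Indep

open Groth.Agent.Lib.Helper18.InvStalk Groth.Agent.Lib.Helper26.OrdZ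

theorem ordFrac_zpow {A : Type u} {K : Type v} [CommRing A] [IsDomain A] [IsNoetherianRing A]
    [Ring.KrullDimLE 1 A] [Field K] [Algebra A K] [IsFractionRing A K] {x : K} (hx : x ≠ 0)
    (n : ℤ) : CycAlg.ordFrac A K (x ^ n) = n * CycAlg.ordFrac A K x := by
  rw [ordFrac_eq, ordFrac_eq, map_zpow₀]
  have h1 : Ring.ordFrac A x ≠ 0 := (map_ne_zero _).mpr hx
  obtain ⟨a, ha⟩ := WithZero.ne_zero_iff_exists.mp h1
  rw [← ha, ← WithZero.coe_zpow]
  simp only [WithZero.recZeroCoe_coe, toAdd_zpow, smul_eq_mul]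

variable {X : Scheme.{u}} {L : X.Modules}

theorem secOrdAt_eq_of_generator (hL : PicF.IsInvertible L) (x ξ : X) (h : ξ ⤳ x)
    (ht : ∃ t : L.presheaf.stalk x, Submodule.span (X.presheaf.stalk x) {t} = ⊤)
    (g : L.presheaf.stalk ξ) (c : X.presheaf.stalk ξ)
    (hc : g = c • L.presheaf.stalkSpecializes h (Classical.choose ht))
    (s : Cyc.secFibre L ξ) (hs : s ≠ 0) (ψ : X.presheaf.stalk ξ)
    (e : s = ψ • (Submodule.Quotient.mk g : Cyc.secFibre L ξ)) :
    Cyc.secOrdAt L ξ x h s = Cyc.ordAt x ξ h ((X.residue ξ).hom ψ * (X.residue ξ).hom c) ∧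
      (X.residue ξ).hom ψ ≠ 0 ∧ (X.residue ξ).hom c ≠ 0 := by
  classical
  have htspan := Classical.choose_spec ht
  have hτ := span_stalkSpecializes_eq_top hL h _ htspan
  have hτfree := free_of_generator hL ξ _ hτ
  have hφ : ∃ φ : X.presheaf.stalk ξ,
      s = φ • (Submodule.Quotient.mk ((L.presheaf.stalkSpecializes h) (Classical.choose ht)) :
        Cyc.secFibre L ξ) := by
    refine ⟨ψ * c, ?_⟩
    rw [e, hc, Submodule.Quotient.mk_smul, smul_smul]
  have hφs := Classical.choose_spec hφ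
  have hψ : (X.residue ξ).hom ψ ≠ 0 := by
    intro h0
    have hmem : ψ ∈ IsLocalRing.maximalIdeal (X.presheaf.stalk ξ) :=
      (IsLocalRing.residue_eq_zero_iff _).mp h0
    apply hs
    rw [e, ← Submodule.Quotient.mk_smul, Submodule.Quotient.mk_eq_zero]
    exact Submodule.smul_mem_smul hmem trivial
  have hcne : (X.residue ξ).hom c ≠ 0 := by
    intro h0
    have hmem : c ∈ IsLocalRing.maximalIdeal (X.presheaf.stalk ξ) :=
      (IsLocalRing.residue_eq_zero_iff _).mp h0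
    apply hs
    have : (Submodule.Quotient.mk g : Cyc.secFibre L ξ) = 0 := by
      rw [hc, Submodule.Quotient.mk_eq_zero]
      exact Submodule.smul_mem_smul hmem trivial
    rw [e, this, smul_zero]
  refine ⟨?_, hψ, hcne⟩
  unfold Cyc.secOrdAt
  rw [dif_pos ht, dif_pos hφ]
  congr 1
  have e2 : (Classical.choose hφ - ψ * c) •
      (Submodule.Quotient.mk ((L.presheaf.stalkSpecializes h) (Classical.choose ht)) :
        Cyc.secFibre L ξ) = 0 := by
    rw [sub_smul, ← hφs, e, hc, Submodule.Quotient.mk_smul, smul_smul, sub_self]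
  have hmem := mem_of_smul_mk_eq_zero (IsLocalRing.maximalIdeal (X.presheaf.stalk ξ)) _ hτ hτfree _ e2
  have := (IsLocalRing.residue_eq_zero_iff _).mpr hmem
  rw [map_sub, sub_eq_zero, map_mul] at this
  exact this

theorem secOrdAt_sub (δ : X → ℤ) (hX : Cyc.IsSetup X δ) (hL : PicF.IsInvertible L) (x ξ : X)
    (h : ξ ⤳ x) (h1 : δ x + 1 = δ ξ) (g : L.presheaf.stalk ξ)
    (hg : Submodule.span (X.presheaf.stalk ξ) {g} = ⊤) (s₁ s₂ : Cyc.secFibre L ξ)
    (hs₁ : s₁ ≠ 0) (hs₂ : s₂ ≠ 0) (ψ₁ ψ₂ : X.presheaf.stalk ξ)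
    (e₁ : s₁ = ψ₁ • (Submodule.Quotient.mk g : Cyc.secFibre L ξ))
    (e₂ : s₂ = ψ₂ • (Submodule.Quotient.mk g : Cyc.secFibre L ξ)) :
    Cyc.secOrdAt L ξ x h s₁ - Cyc.secOrdAt L ξ x h s₂ =
      Cyc.ordAt x ξ h ((X.residue ξ).hom ψ₁ / (X.residue ξ).hom ψ₂) := by
  have ht := exists_generator hL x
  have htspan := Classical.choose_spec ht
  have hτ := span_stalkSpecializes_eq_top hL h _ htspan
  have hgm : g ∈ Submodule.span (X.presheaf.stalk ξ)
      {L.presheaf.stalkSpecializes h (Classical.choose ht)} := by rw [hτ]; trivial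
  obtain ⟨c, hc⟩ := Submodule.mem_span_singleton.mp hgm
  obtain ⟨k1, k2, k3⟩ := secOrdAt_eq_of_generator hL x ξ h ht g c hc.symm s₁ hs₁ ψ₁ e₁
  obtain ⟨l1, l2, -⟩ := secOrdAt_eq_of_generator hL x ξ h ht g c hc.symm s₂ hs₂ ψ₂ e₂
  rw [k1, l1]
  haveI : IsLocallyNoetherian X := hX.1
  haveI : (RingHom.ker (Cyc.specMap x ξ h)).IsPrime := RingHom.ker_isPrime _
  haveI : IsDomain (Cyc.LocQuot x ξ h) := Ideal.Quotient.isDomain _
  haveI : Ring.KrullDimLE 1 (Cyc.LocQuot x ξ h) :=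
    Groth.Agent.Lib.Helper18.DivPull.krullDimLE_one_locQuot δ hX.2.2 x ξ h h1
  haveI : IsFractionRing (Cyc.LocQuot x ξ h) (X.residueField ξ) :=
    Groth.Agent.Lib.Helper18.LocStalk.isFractionRing_locQuot x ξ h
  unfold Cyc.ordAt
  rw [ordFrac_mul k2 k3, ordFrac_mul l2 k3, Groth.Agent.Lib.Helper26.FracLength.ordFrac_div k2 l2]
  ring

end Groth.Agent.Lib.Helper18.C1Indep
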