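import Mathlib
import Groth.Prelude.Def_C1
import Groth.Prelude.Def_Bivar
import Groth.Agent.Lib.Helper18.C1Indep1

/-!
# Independence of `c_1(L) ∩ α` of the chosen rational sections
-/

set_option autoImplicit false
set_option linter.style.haveILetI false
universe u v
open CategoryTheory AlgebraicGeometry TopologicalSpace

namespace Groth.Agent.Lib.Helper18.C1Indep

open Groth.Agent.Lib.Helper18.InvStalk Groth.Agent.Lib.Helper26.OrdZ

variable {X : Scheme.{u}} {L : X.Modules}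

theorem divFun_zpow (δ : X → ℤ) (hX : Cyc.IsSetup X δ) (ξ : X) (φ : X.residueField ξ) (hφ : φ ≠ 0)
    (n : ℤ) (x : X) : Cyc.divFun δ ξ (φ ^ n) x = n * Cyc.divFun δ ξ φ x := by
  classical
  unfold Cyc.divFun
  by_cases hc : ξ ⤳ x ∧ δ x + 1 = δ ξ
  · rw [dif_pos hc, dif_pos hc]
    haveI : IsLocallyNoetherian X := hX.1
    haveI : (RingHom.ker (Cyc.specMap x ξ hc.1)).IsPrime := RingHom.ker_isPrime _
    haveI : IsDomain (Cyc.LocQuot x ξ hc.1) := Ideal.Quotient.isDomain _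
    haveI : Ring.KrullDimLE 1 (Cyc.LocQuot x ξ hc.1) :=
      Groth.Agent.Lib.Helper18.DivPull.krullDimLE_one_locQuot δ hX.2.2 x ξ hc.1 hc.2
    haveI : IsFractionRing (Cyc.LocQuot x ξ hc.1) (X.residueField ξ) :=
      Groth.Agent.Lib.Helper18.LocStalk.isFractionRing_locQuot x ξ hc.1
    unfold Cyc.ordAt
    exact ordFrac_zpow hφ n
  · rw [dif_neg hc, dif_neg hc, mul_zero]

/-- **independence of the rational sections**: two computations of `c_1(L) ∩ α` differ by a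
sum of principal divisors -/
theorem c1Cap_ratEquiv (δ : X → ℤ) (hX : Cyc.IsSetup X δ) (hL : PicF.IsInvertible L) (k : ℤ)
    (α : AlgebraicCycle X ℤ) (hα : α ∈ Cyc.Zk X δ (k + 1))
    (s₁ s₂ : (ξ : X) → Cyc.secFibre L ξ) (hs₁ : ∀ ξ, s₁ ξ ≠ 0) (hs₂ : ∀ ξ, s₂ ξ ≠ 0)
    (γ₁ γ₂ : AlgebraicCycle X ℤ) (h₁ : ⇑γ₁ = Cyc.c1CapFun δ L ⇑α s₁)
    (h₂ : ⇑γ₂ = Cyc.c1CapFun δ L ⇑α s₂) : Cyc.RatEquiv δ k γ₁ γ₂ := by
  classical
  choose g hg using (fun ξ : X => exists_generator hL ξ)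
  choose ψ₁ e₁ using (fun ξ : X => exists_smul_mk_eq
    (IsLocalRing.maximalIdeal (X.presheaf.stalk ξ)) (g ξ) (hg ξ) (s₁ ξ))
  choose ψ₂ e₂ using (fun ξ : X => exists_smul_mk_eq
    (IsLocalRing.maximalIdeal (X.presheaf.stalk ξ)) (g ξ) (hg ξ) (s₂ ξ))
  have hres : ∀ (ξ : X) (s : Cyc.secFibre L ξ) (ψ : X.presheaf.stalk ξ), s ≠ 0 →
      s = ψ • (Submodule.Quotient.mk (g ξ) : Cyc.secFibre L ξ) → (X.residue ξ).hom ψ ≠ 0 := by
    intro ξ s ψ hs e h0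
    have hmem : ψ ∈ IsLocalRing.maximalIdeal (X.presheaf.stalk ξ) :=
      (IsLocalRing.residue_eq_zero_iff _).mp h0
    apply hs
    rw [e, ← Submodule.Quotient.mk_smul, Submodule.Quotient.mk_eq_zero]
    exact Submodule.smul_mem_smul hmem trivial
  set φ : (ξ : X) → X.residueField ξ := fun ξ =>
    (X.residue ξ).hom (ψ₁ ξ) / (X.residue ξ).hom (ψ₂ ξ) with hφdef
  have hφ : ∀ ξ, φ ξ ≠ 0 := fun ξ =>
    div_ne_zero (hres ξ _ _ (hs₁ ξ) (e₁ ξ)) (hres ξ _ _ (hs₂ ξ) (e₂ ξ))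
  have hdiff : ∀ ξ x : X, Cyc.secDivFun δ L ξ (s₁ ξ) x - Cyc.secDivFun δ L ξ (s₂ ξ) x =
      Cyc.divFun δ ξ (φ ξ) x := by
    intro ξ x
    unfold Cyc.secDivFun Cyc.divFun
    by_cases hc : ξ ⤳ x ∧ δ x + 1 = δ ξ
    · rw [dif_pos hc, dif_pos hc, dif_pos hc]
      exact secOrdAt_sub δ hX hL x ξ hc.1 hc.2 (g ξ) (hg ξ) (s₁ ξ) (s₂ ξ) (hs₁ ξ) (hs₂ ξ)
        (ψ₁ ξ) (ψ₂ ξ) (e₁ ξ) (e₂ ξ)
    · rw [dif_neg hc, dif_neg hc, dif_neg hc, sub_zero]
  have hsupp : ∀ (s : (ξ : X) → Cyc.secFibre L ξ) (x : X),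
      (Function.support fun ξ => α ξ * Cyc.secDivFun δ L ξ (s ξ) x).Finite := by
    intro s x
    refine (Bivar.finite_support_specializes α x).subset ?_
    intro ξ hξ
    rw [Function.mem_support] at hξ
    refine ⟨?_, left_ne_zero_of_mul hξ⟩
    have h2 := right_ne_zero_of_mul hξ
    by_contra hc
    apply h2
    simp [Cyc.secDivFun, hc]
  refine ⟨{ξ : X // α ξ ≠ 0}, fun i => i.1, fun i => (φ i.1) ^ (α i.1), ?_, ?_, ?_, ?_⟩
  · intro i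
    by_contra hne
    exact i.2 (hα i.1 hne)
  · intro i
    exact zpow_ne_zero _ (hφ i.1)
  · intro x
    obtain ⟨t, ht, hfin⟩ := α.supportLocallyFiniteWithinDomain' x (Set.mem_univ x)
    refine ⟨interior t, isOpen_interior, mem_interior_iff_mem_nhds.mpr ht, ?_⟩
    have hfin' : {i : {ξ : X // α ξ ≠ 0} | i.1 ∈ t ∩ Function.support ⇑α}.Finite :=
      hfin.preimage (Subtype.val_injective.injOn)
    refine hfin'.subset ?_
    rintro i ⟨y, hy1, hy2⟩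
    have hsp : i.1 ⤳ y := specializes_iff_mem_closure.mpr hy1
    exact ⟨interior_subset (hsp.mem_open isOpen_interior hy2), i.2⟩
  · intro x
    have e0 : (γ₁ - γ₂) x = γ₁ x - γ₂ x := rfl
    rw [e0, h₁, h₂]
    unfold Cyc.c1CapFun
    rw [← finsum_sub_distrib (hsupp s₁ x) (hsupp s₂ x)]
    have e3 : ∀ ξ : X, α ξ * Cyc.secDivFun δ L ξ (s₁ ξ) x - α ξ * Cyc.secDivFun δ L ξ (s₂ ξ) x =
        Cyc.divFun δ ξ (φ ξ ^ α ξ) x := by
      intro ξ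
      rw [← mul_sub, hdiff, divFun_zpow δ hX ξ (φ ξ) (hφ ξ)]
    rw [finsum_congr e3]
    symm
    rw [finsum_subtype_eq_finsum_cond (fun ξ : X => α ξ ≠ 0)
      (f := fun ξ : X => Cyc.divFun δ ξ (φ ξ ^ α ξ) x)]
    apply finsum_congr
    intro ξ
    by_cases h0 : α ξ ≠ 0
    · rw [finsum_eq_if, if_pos h0]
    · rw [finsum_eq_if, if_neg h0]
      rw [not_not] at h0
      rw [divFun_zpow δ hX ξ (φ ξ) (hφ ξ), h0, zero_mul]

end Groth.Agent.Lib.Helper18.C1Indep
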