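import Mathlib
import Groth.Prelude.Def_Bivar

set_option autoImplicit false
universe u
open CategoryTheory AlgebraicGeometry

namespace Groth.Agent.Lib.Helper18.CycMap

/-- fibrewise regrouping of a finite sum -/
theorem finsum_fiber {X Y : Type*} (f : X → Y) (T : Set Y) (a : X → ℤ) (b : Y → ℤ)
    (hfin : (f ⁻¹' T ∩ Function.support a).Finite) :
    ∑ᶠ y ∈ T, (∑ᶠ x ∈ f ⁻¹' {y}, a x) * b y = ∑ᶠ x ∈ f ⁻¹' T, a x * b (f x) := by
  classical
  set F := hfin.toFinset with hF
  have hR : ∑ᶠ x ∈ f ⁻¹' T, a x * b (f x) = ∑ x ∈ F, a x * b (f x) := by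
    apply finsum_mem_eq_sum_of_inter_support_eq
    ext x
    simp only [Set.mem_inter_iff, Set.mem_preimage, Function.mem_support, ne_eq, hF,
      Set.Finite.coe_toFinset]
    constructor
    · rintro ⟨h1, h2⟩
      exact ⟨⟨h1, fun h => h2 (by rw [h, zero_mul])⟩, h2⟩
    · rintro ⟨⟨h1, _⟩, h2⟩
      exact ⟨h1, h2⟩
  have hin : ∀ y ∈ T, ∑ᶠ x ∈ f ⁻¹' {y}, a x = ∑ x ∈ F.filter (fun x => f x = y), a x := by
    intro y hy
    apply finsum_mem_eq_sum_of_inter_support_eq
    ext x
    simp only [Set.mem_inter_iff, Set.mem_preimage, Set.mem_singleton_iff, Function.mem_support,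
      ne_eq, hF, Finset.coe_filter, Set.Finite.mem_toFinset, Set.mem_setOf_eq]
    constructor
    · rintro ⟨h1, h2⟩
      exact ⟨⟨⟨by rw [h1]; exact hy, h2⟩, h1⟩, h2⟩
    · rintro ⟨⟨_, h1⟩, h2⟩
      exact ⟨h1, h2⟩
  have hL : ∑ᶠ y ∈ T, (∑ᶠ x ∈ f ⁻¹' {y}, a x) * b y
      = ∑ y ∈ F.image f, (∑ x ∈ F.filter (fun x => f x = y), a x) * b y := by
    rw [finsum_mem_congr rfl (fun y hy => by rw [hin y hy])]
    apply finsum_mem_eq_sum_of_inter_support_eq
    ext y
    simp only [Set.mem_inter_iff, Function.mem_support, ne_eq, Finset.coe_image, Set.mem_image,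
      Finset.mem_coe]
    constructor
    · rintro ⟨h1, h2⟩
      refine ⟨?_, h2⟩
      by_contra hne
      apply h2
      rw [Finset.sum_eq_zero, zero_mul]
      intro x hx
      rw [Finset.mem_filter] at hx
      exact absurd ⟨x, hx.1, hx.2⟩ hne
    · rintro ⟨⟨x, hx, rfl⟩, h2⟩
      refine ⟨?_, h2⟩
      rw [hF, Set.Finite.mem_toFinset] at hx
      exact hx.1
  rw [hL, hR]
  rw [← Finset.sum_fiberwise_of_maps_to (g := f) (t := F.image f)
    (fun x hx => Finset.mem_image_of_mem f hx)]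
  apply Finset.sum_congr rfl
  intro y _
  rw [Finset.sum_mul]
  apply Finset.sum_congr rfl
  intro x hx
  rw [(Finset.mem_filter.mp hx).2]

theorem residueDegree_comp {X Y Z : Scheme.{u}} (f : X ⟶ Y) (g : Y ⟶ Z) (x : X) :
    (f ≫ g).residueDegree x = g.residueDegree (f x) * f.residueDegree x := by
  let algYX : Algebra (Y.residueField (f x)) (X.residueField x) := (f.residueFieldMap x).hom.toAlgebra
  let algZY : Algebra (Z.residueField (g (f x))) (Y.residueField (f x)) :=
    (g.residueFieldMap (f x)).hom.toAlgebra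
  let algZX : Algebra (Z.residueField (g (f x))) (X.residueField x) :=
    ((f ≫ g).residueFieldMap x).hom.toAlgebra
  have hST : IsScalarTower (Z.residueField (g (f x))) (Y.residueField (f x)) (X.residueField x) :=
    IsScalarTower.of_algebraMap_eq' (by
      change ((f ≫ g).residueFieldMap x).hom = (f.residueFieldMap x).hom.comp (g.residueFieldMap (f x)).hom
      rw [Scheme.residueFieldMap_comp]; rfl)
  change Module.finrank (Z.residueField (g (f x))) (X.residueField x) = 
    Module.finrank (Z.residueField (g (f x))) (Y.residueField (f x)) *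
    Module.finrank (Y.residueField (f x)) (X.residueField x)
  exact (Module.finrank_mul_finrank _ _ _).symm

theorem mapCoeff_comp {X Y Z : Scheme.{u}} (f : X ⟶ Y) (g : Y ⟶ Z) (δX : X → ℤ) (δY : Y → ℤ)
    (δZ : Z → ℤ) (hf : Cyc.DeltaCompat f δX δY) (hg : Cyc.DeltaCompat g δY δZ) (x : X) :
    AlgebraicCycle.mapCoeff (f ≫ g) δX δZ x =
      AlgebraicCycle.mapCoeff f δX δY x * AlgebraicCycle.mapCoeff g δY δZ (f x) := by
  obtain ⟨n, -, hn⟩ := hf x
  obtain ⟨m, -, hm⟩ := hg (f x)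
  unfold AlgebraicCycle.mapCoeff
  have hdeg := residueDegree_comp f g x
  have e1 : (f ≫ g).base x = g (f x) := rfl
  have e2 : f.base x = f x := rfl
  have e3 : g.base (f x) = g (f x) := rfl
  rw [e1, e2, e3]
  by_cases h1 : δX x = δY (f x)
  · by_cases h2 : δY (f x) = δZ (g (f x))
    · rw [if_pos (h1.trans h2), if_pos h1, if_pos h2, hdeg, mul_comm]
    · rw [if_neg (by omega), if_neg h2, mul_zero]
  · rw [if_neg (by omega), if_neg h1, zero_mul]

theorem map_map {X Y Z : Scheme.{u}} (f : X ⟶ Y) (g : Y ⟶ Z) [QuasiCompact f] [QuasiCompact g]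
    (δX : X → ℤ) (δY : Y → ℤ) (δZ : Z → ℤ)
    (hf : Cyc.DeltaCompat f δX δY) (hg : Cyc.DeltaCompat g δY δZ) (α : AlgebraicCycle X ℤ) :
    AlgebraicCycle.map g δY δZ (AlgebraicCycle.map f δX δY α) =
      AlgebraicCycle.map (f ≫ g) δX δZ α := by
  ext z
  simp only [AlgebraicCycle.map, Function.locallyFinsupp.map_apply]
  have key := finsum_fiber (f := (f : X → Y)) (T := g ⁻¹' {z})
    (a := fun x => α x * ((AlgebraicCycle.mapCoeff f δX δY x : ℕ) : ℤ))
    (b := fun y => ((AlgebraicCycle.mapCoeff g δY δZ y : ℕ) : ℤ)) 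
    ((Bivar.finite_fiber_inter_support (f ≫ g) α z).subset (by
      rintro x ⟨hx1, hx2⟩
      exact ⟨hx1, fun h => hx2 (by simp only [h, zero_mul])⟩))
  rw [key]
  apply finsum_mem_congr rfl
  intro x _
  rw [mapCoeff_comp f g δX δY δZ hf hg x]
  push_cast
  ring

end Groth.Agent.Lib.Helper18.CycMap
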