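import Mathlib
import Groth.Prelude.Def_C1
import Groth.Prelude.Def_Bivar
import Groth.Agent.Lib.Helper18.C1Indep2

/-!
# A cycle of the form `Σ_ξ α(ξ) div(φ_ξ)` is rationally equivalent to zero
-/

set_option autoImplicit false
set_option linter.style.haveILetI false
universe u v
open CategoryTheory AlgebraicGeometry TopologicalSpace

namespace Groth.Agent.Lib.Helper18.C1Indep

variable {X : Scheme.{u}}

theorem ratEquivZero_of_eq_finsum_mul_divFun (δ : X → ℤ) (hX : Cyc.IsSetup X δ) (k : ℤ)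
    (α : AlgebraicCycle X ℤ) (hα : α ∈ Cyc.Zk X δ (k + 1))
    (φ : (ξ : X) → X.residueField ξ) (hφ : ∀ ξ, φ ξ ≠ 0)
    (Γ : AlgebraicCycle X ℤ) (hΓ : ∀ x : X, Γ x = ∑ᶠ ξ : X, α ξ * Cyc.divFun δ ξ (φ ξ) x) :
    Cyc.RatEquivZero δ k Γ := by
  classical
  refine ⟨{ξ : X // α ξ ≠ 0}, fun i => i.1, fun i => (φ i.1) ^ (α i.1), ?_, ?_, ?_, ?_⟩
  · intro i
    by_contra hne
    exact i.2 (hα i.1 hne)
  · intro i
    exact zpow_ne_zero _ (hφ i.1)
  · intro x
    obtain ⟨t, ht, hfin⟩ := α.supportLocallyFiniteWithinDomain' x (Set.mem_univ x)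
    refine ⟨interior t, isOpen_interior, mem_interior_iff_mem_nhds.mpr ht, ?_⟩
    have hfin' : {i : {ξ : X // α ξ ≠ 0} | i.1 ∈ t ∩ Function.support ⇑α}.Finite :=
      hfin.preimage (Subtype.val_injective.injOn)
    refine hfin'.subset ?_
    rintro i ⟨y, hy1, hy2⟩
    have hsp : i.1 ⤳ y := specializes_iff_mem_closure.mpr hy1
    exact ⟨interior_subset (hsp.mem_open isOpen_interior hy2), i.2⟩
  · intro x
    rw [hΓ]
    have e3 : ∀ ξ : X, α ξ * Cyc.divFun δ ξ (φ ξ) x = Cyc.divFun δ ξ (φ ξ ^ α ξ) x := by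
      intro ξ
      rw [divFun_zpow δ hX ξ (φ ξ) (hφ ξ)]
    rw [finsum_congr e3]
    symm
    rw [finsum_subtype_eq_finsum_cond (fun ξ : X => α ξ ≠ 0)
      (f := fun ξ : X => Cyc.divFun δ ξ (φ ξ ^ α ξ) x)]
    apply finsum_congr
    intro ξ
    by_cases h0 : α ξ ≠ 0
    · rw [finsum_eq_if, if_pos h0]
    · rw [finsum_eq_if, if_neg h0]
      rw [not_not] at h0
      rw [divFun_zpow δ hX ξ (φ ξ) (hφ ξ), h0, zero_mul]

/-- finiteness of the supports of the summands of `c1CapFun` -/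
theorem finite_support_c1Cap_summand (δ : X → ℤ) (L : X.Modules) (α : AlgebraicCycle X ℤ)
    (s : (ξ : X) → Cyc.secFibre L ξ) (x : X) :
    (Function.support fun ξ => α ξ * Cyc.secDivFun δ L ξ (s ξ) x).Finite := by
  refine (Bivar.finite_support_specializes α x).subset ?_
  intro ξ hξ
  rw [Function.mem_support] at hξ
  refine ⟨?_, left_ne_zero_of_mul hξ⟩
  have h2 := right_ne_zero_of_mul hξ
  by_contra hc
  apply h2
  simp [Cyc.secDivFun, hc]

end Groth.Agent.Lib.Helper18.C1Indep
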