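import Mathlib
import Groth.Prelude.Def_C1
import Groth.Agent.Lib.Helper18.C1Indep3

/-!
# `secOrdAt` computed with an arbitrary generator of the stalk at the special point
-/

set_option autoImplicit false
set_option linter.style.haveILetI false
universe u v
open CategoryTheory AlgebraicGeometry TopologicalSpace

namespace Groth.Agent.Lib.Helper18.C1Add

open Groth.Agent.Lib.Helper18.InvStalk Groth.Agent.Lib.Helper26.OrdZ
  Groth.Agent.Lib.Helper18.C1Indep

variable {X : Scheme.{u}} {L : X.Modules}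

/-- the order of a section along `ξ ⤳ x` computed with any generator `t` of `L_x` -/
theorem secOrdAt_eq_of_generators (δ : X → ℤ) (hX : Cyc.IsSetup X δ) (hL : PicF.IsInvertible L)
    (x ξ : X) (h : ξ ⤳ x) (h1 : δ x + 1 = δ ξ)
    (t : L.presheaf.stalk x) (ht : Submodule.span (X.presheaf.stalk x) {t} = ⊤)
    (g : L.presheaf.stalk ξ) (c : X.presheaf.stalk ξ)
    (hc : g = c • L.presheaf.stalkSpecializes h t)
    (s : Cyc.secFibre L ξ) (hs : s ≠ 0) (ψ : X.presheaf.stalk ξ)
    (e : s = ψ • (Submodule.Quotient.mk g : Cyc.secFibre L ξ)) :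
    Cyc.secOrdAt L ξ x h s = Cyc.ordAt x ξ h ((X.residue ξ).hom ψ) +
        Cyc.ordAt x ξ h ((X.residue ξ).hom c) ∧
      (X.residue ξ).hom ψ ≠ 0 ∧ (X.residue ξ).hom c ≠ 0 := by
  have ht' := exists_generator hL x
  have htspan := Classical.choose_spec ht'
  -- compare `t` with the chosen generator `t₀`
  have hm : t ∈ Submodule.span (X.presheaf.stalk x) {Classical.choose ht'} := by
    rw [htspan]; trivial
  obtain ⟨u, hu⟩ := Submodule.mem_span_singleton.mp hm
  have hm' : Classical.choose ht' ∈ Submodule.span (X.presheaf.stalk x) {t} := by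
    rw [ht]; trivial
  obtain ⟨v, hv⟩ := Submodule.mem_span_singleton.mp hm'
  have huv : v * u = 1 := by
    have h3 : (v * u - 1) • Classical.choose ht' = 0 := by
      rw [sub_smul, mul_smul, hu, hv, one_smul, sub_self]
    exact sub_eq_zero.mp (free_of_generator hL x _ htspan _ h3)
  have huu : IsUnit u := IsUnit.of_mul_eq_one v (by rw [mul_comm]; exact huv)
  have hc0 : g = (c * X.presheaf.stalkSpecializes h u) •
      L.presheaf.stalkSpecializes h (Classical.choose ht') := by
    rw [hc, ← hu, Groth.Agent.Lib.Helper18.SecDiv.stalkSpecializes_smul, smul_smul]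
  obtain ⟨k1, k2, k3⟩ := secOrdAt_eq_of_generator hL x ξ h ht' g _ hc0 s hs ψ e
  rw [map_mul] at k3 k1
  have hcne : (X.residue ξ).hom c ≠ 0 := left_ne_zero_of_mul k3
  have hune : (X.residue ξ).hom (X.presheaf.stalkSpecializes h u) ≠ 0 := right_ne_zero_of_mul k3
  refine ⟨?_, k2, hcne⟩
  rw [k1]
  haveI : IsLocallyNoetherian X := hX.1
  haveI : (RingHom.ker (Cyc.specMap x ξ h)).IsPrime := RingHom.ker_isPrime _
  haveI : IsDomain (Cyc.LocQuot x ξ h) := Ideal.Quotient.isDomain _
  haveI : Ring.KrullDimLE 1 (Cyc.LocQuot x ξ h) :=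
    Groth.Agent.Lib.Helper18.DivPull.krullDimLE_one_locQuot δ hX.2.2 x ξ h h1
  haveI : IsFractionRing (Cyc.LocQuot x ξ h) (X.residueField ξ) :=
    Groth.Agent.Lib.Helper18.LocStalk.isFractionRing_locQuot x ξ h
  have hzero : CycAlg.ordFrac (Cyc.LocQuot x ξ h) (X.residueField ξ)
      ((X.residue ξ).hom (X.presheaf.stalkSpecializes h u)) = 0 := by
    have : (X.residue ξ).hom (X.presheaf.stalkSpecializes h u) =
        algebraMap (Cyc.LocQuot x ξ h) (X.residueField ξ)
          (Ideal.Quotient.mk (RingHom.ker (Cyc.specMap x ξ h)) u) := rfl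
    rw [this]
    exact Groth.Agent.Lib.Helper18.DivPull.ordFrac_algebraMap_of_isUnit _ (huu.map _)
  unfold Cyc.ordAt
  rw [ordFrac_mul k2 (mul_ne_zero hcne hune), ordFrac_mul hcne hune, hzero, add_zero]

end Groth.Agent.Lib.Helper18.C1Add
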