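import Mathlib
import Groth.Prelude.Def_C1
import Groth.Agent.Lib.Helper18.C1Add1

/-!
# Additivity of the order of sections under tensor products of invertible modules
-/

set_option autoImplicit false
set_option linter.style.haveILetI false
universe u v
open CategoryTheory AlgebraicGeometry TopologicalSpace

namespace Groth.Agent.Lib.Helper18.C1Add

open Groth.Agent.Lib.Helper18.InvStalk Groth.Agent.Lib.Helper26.OrdZ
  Groth.Agent.Lib.Helper18.C1Indep Groth.Agent.Lib.Helper29.QCoh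

variable {X : Scheme.{u}}

theorem germ_eq_smul_spec (L : X.Modules) {x ξ : X} (h : ξ ⤳ x) {U V : X.Opens} (hξU : ξ ∈ U)
    (hxV : x ∈ V) (e : Γ(L, U)) (a : Γ(L, V)) (r : Γ(X, U ⊓ V))
    (hr : res L (inf_le_left : U ⊓ V ≤ U) e = r • res L (inf_le_right : U ⊓ V ≤ V) a) :
    L.presheaf.germ U ξ hξU e =
      X.presheaf.germ (U ⊓ V) ξ ⟨hξU, h.mem_open V.2 hxV⟩ r •
        L.presheaf.stalkSpecializes h (L.presheaf.germ V x hxV a) := by
  have hξW : ξ ∈ U ⊓ V := ⟨hξU, h.mem_open V.2 hxV⟩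
  rw [← germ_res L (inf_le_left : U ⊓ V ≤ U) ξ hξW e, hr, germ_smul,
    germ_res L (inf_le_right : U ⊓ V ≤ V) ξ hξW a]
  congr 1
  exact (TopCat.Presheaf.germ_stalkSpecializes_apply _ _ _ _).symm

variable {L N : X.Modules}

theorem secOrdAt_tensor (δ : X → ℤ) (hX : Cyc.IsSetup X δ) (hL : PicF.IsInvertible L)
    (hN : PicF.IsInvertible N) (x ξ : X) (h : ξ ⤳ x) (h1 : δ x + 1 = δ ξ)
    {U : X.Opens} (hξU : ξ ∈ U) (e : Γ(L, U)) (e' : Γ(N, U))
    (sL : Cyc.secFibre L ξ) (sN : Cyc.secFibre N ξ)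
    (sT : Cyc.secFibre (CohB1.tensorMod L N) ξ) (hsL : sL ≠ 0) (hsN : sN ≠ 0) (hsT : sT ≠ 0)
    (ψL ψN ψT : X.presheaf.stalk ξ)
    (eL : sL = ψL • (Submodule.Quotient.mk (L.presheaf.germ U ξ hξU e) : Cyc.secFibre L ξ))
    (eN : sN = ψN • (Submodule.Quotient.mk (N.presheaf.germ U ξ hξU e') : Cyc.secFibre N ξ))
    (eT : sT = ψT • (Submodule.Quotient.mk ((CohB1.tensorMod L N).presheaf.germ U ξ hξU
      (tmulSec L N e e')) : Cyc.secFibre (CohB1.tensorMod L N) ξ)) :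
    Cyc.secOrdAt L ξ x h sL + Cyc.secOrdAt N ξ x h sN -
        Cyc.secOrdAt (CohB1.tensorMod L N) ξ x h sT =
      Cyc.ordAt x ξ h ((X.residue ξ).hom ψL * (X.residue ξ).hom ψN / (X.residue ξ).hom ψT) := by
  haveI := isQuasicoherent_of_isInvertible hL
  haveI := isQuasicoherent_of_isInvertible hN
  have hTens : PicF.IsInvertible (CohB1.tensorMod L N) := isInvertible_tensorMod hL hN
  obtain ⟨V, a, a', -, hxV, -, hTa, hTa'⟩ := exists_affine_isTriv₂ hL hN (W := ⊤) x trivial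
  have hTaT := hTa.tensor hTa'
  obtain ⟨r, hr⟩ := (hTa (U ⊓ V) inf_le_right).2 (res L (inf_le_left : U ⊓ V ≤ U) e)
  obtain ⟨r', hr'⟩ := (hTa' (U ⊓ V) inf_le_right).2 (res N (inf_le_left : U ⊓ V ≤ U) e')
  simp only at hr hr'
  have hrT : res (CohB1.tensorMod L N) (inf_le_left : U ⊓ V ≤ U) (tmulSec L N e e') =
      (r * r') • res (CohB1.tensorMod L N) (inf_le_right : U ⊓ V ≤ V) (tmulSec L N a a') := by
    rw [res_tmulSec, res_tmulSec, ← hr, ← hr', tmulSec_smul_left, tmulSec_smul_right, smul_smul]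
  have hξW : ξ ∈ U ⊓ V := ⟨hξU, h.mem_open V.2 hxV⟩
  have gL := germ_eq_smul_spec L h hξU hxV e a r hr.symm
  have gN := germ_eq_smul_spec N h hξU hxV e' a' r' hr'.symm
  have gT := germ_eq_smul_spec (CohB1.tensorMod L N) h hξU hxV _ _ (r * r') hrT
  rw [map_mul] at gT
  obtain ⟨kL, kL2, kL3⟩ := secOrdAt_eq_of_generators δ hX hL x ξ h h1 _
    (span_germ_eq_top L hTa x hxV) _ _ gL sL hsL ψL eL
  obtain ⟨kN, kN2, kN3⟩ := secOrdAt_eq_of_generators δ hX hN x ξ h h1 _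
    (span_germ_eq_top N hTa' x hxV) _ _ gN sN hsN ψN eN
  obtain ⟨kT, kT2, kT3⟩ := secOrdAt_eq_of_generators δ hX hTens x ξ h h1 _
    (span_germ_eq_top _ hTaT x hxV) _ _ gT sT hsT ψT eT
  rw [kL, kN, kT, map_mul]
  haveI : IsLocallyNoetherian X := hX.1
  haveI : (RingHom.ker (Cyc.specMap x ξ h)).IsPrime := RingHom.ker_isPrime _
  haveI : IsDomain (Cyc.LocQuot x ξ h) := Ideal.Quotient.isDomain _
  haveI : Ring.KrullDimLE 1 (Cyc.LocQuot x ξ h) :=
    Groth.Agent.Lib.Helper18.DivPull.krullDimLE_one_locQuot δ hX.2.2 x ξ h h1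
  haveI : IsFractionRing (Cyc.LocQuot x ξ h) (X.residueField ξ) :=
    Groth.Agent.Lib.Helper18.LocStalk.isFractionRing_locQuot x ξ h
  unfold Cyc.ordAt
  rw [ordFrac_mul kL3 kN3, Groth.Agent.Lib.Helper26.FracLength.ordFrac_div (mul_ne_zero kL2 kN2) kT2,
    ordFrac_mul kL2 kN2]
  ring

end Groth.Agent.Lib.Helper18.C1Add
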