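import Mathlib
import Groth.Prelude.Def_C1
import Groth.Agent.Lib.Helper18.C1Add2

/-!
# Variants of the `secOrdAt` computations assuming only that `O_x/𝔭_ξ` has dimension `≤ 1`
-/

set_option autoImplicit false
set_option linter.style.haveILetI false
universe u v
open CategoryTheory AlgebraicGeometry TopologicalSpace

namespace Groth.Agent.Lib.Helper18.C1Add

open Groth.Agent.Lib.Helper18.InvStalk Groth.Agent.Lib.Helper26.OrdZ
  Groth.Agent.Lib.Helper18.C1Indep Groth.Agent.Lib.Helper29.QCoh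

variable {X : Scheme.{u}} {L N : X.Modules}

/-- the order of a section along `ξ ⤳ x` computed with any generator `t` of `L_x` -/
theorem secOrdAt_eq_of_generators' [IsLocallyNoetherian X] (hL : PicF.IsInvertible L)
    (x ξ : X) (h : ξ ⤳ x) (hK : Ring.KrullDimLE 1 (Cyc.LocQuot x ξ h))
    (t : L.presheaf.stalk x) (ht : Submodule.span (X.presheaf.stalk x) {t} = ⊤)
    (g : L.presheaf.stalk ξ) (c : X.presheaf.stalk ξ)
    (hc : g = c • L.presheaf.stalkSpecializes h t)
    (s : Cyc.secFibre L ξ) (hs : s ≠ 0) (ψ : X.presheaf.stalk ξ)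
    (e : s = ψ • (Submodule.Quotient.mk g : Cyc.secFibre L ξ)) :
    Cyc.secOrdAt L ξ x h s = Cyc.ordAt x ξ h ((X.residue ξ).hom ψ) +
        Cyc.ordAt x ξ h ((X.residue ξ).hom c) ∧
      (X.residue ξ).hom ψ ≠ 0 ∧ (X.residue ξ).hom c ≠ 0 := by
  have ht' := exists_generator hL x
  have htspan := Classical.choose_spec ht'
  -- compare `t` with the chosen generator `t₀`
  have hm : t ∈ Submodule.span (X.presheaf.stalk x) {Classical.choose ht'} := by
    rw [htspan]; trivial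
  obtain ⟨u, hu⟩ := Submodule.mem_span_singleton.mp hm
  have hm' : Classical.choose ht' ∈ Submodule.span (X.presheaf.stalk x) {t} := by
    rw [ht]; trivial
  obtain ⟨v, hv⟩ := Submodule.mem_span_singleton.mp hm'
  have huv : v * u = 1 := by
    have h3 : (v * u - 1) • Classical.choose ht' = 0 := by
      rw [sub_smul, mul_smul, hu, hv, one_smul, sub_self]
    exact sub_eq_zero.mp (free_of_generator hL x _ htspan _ h3)
  have huu : IsUnit u := IsUnit.of_mul_eq_one v (by rw [mul_comm]; exact huv)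
  have hc0 : g = (c * X.presheaf.stalkSpecializes h u) •
      L.presheaf.stalkSpecializes h (Classical.choose ht') := by
    rw [hc, ← hu, Groth.Agent.Lib.Helper18.SecDiv.stalkSpecializes_smul, smul_smul]
  obtain ⟨k1, k2, k3⟩ := secOrdAt_eq_of_generator hL x ξ h ht' g _ hc0 s hs ψ e
  rw [map_mul] at k3 k1
  have hcne : (X.residue ξ).hom c ≠ 0 := left_ne_zero_of_mul k3
  have hune : (X.residue ξ).hom (X.presheaf.stalkSpecializes h u) ≠ 0 := right_ne_zero_of_mul k3
  refine ⟨?_, k2, hcne⟩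
  rw [k1]
  haveI : (RingHom.ker (Cyc.specMap x ξ h)).IsPrime := RingHom.ker_isPrime _
  haveI : IsDomain (Cyc.LocQuot x ξ h) := Ideal.Quotient.isDomain _
  haveI := hK
  haveI : IsFractionRing (Cyc.LocQuot x ξ h) (X.residueField ξ) :=
    Groth.Agent.Lib.Helper18.LocStalk.isFractionRing_locQuot x ξ h
  have hzero : CycAlg.ordFrac (Cyc.LocQuot x ξ h) (X.residueField ξ)
      ((X.residue ξ).hom (X.presheaf.stalkSpecializes h u)) = 0 := by
    have : (X.residue ξ).hom (X.presheaf.stalkSpecializes h u) =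
        algebraMap (Cyc.LocQuot x ξ h) (X.residueField ξ)
          (Ideal.Quotient.mk (RingHom.ker (Cyc.specMap x ξ h)) u) := rfl
    rw [this]
    exact Groth.Agent.Lib.Helper18.DivPull.ordFrac_algebraMap_of_isUnit _ (huu.map _)
  unfold Cyc.ordAt
  rw [ordFrac_mul k2 (mul_ne_zero hcne hune), ordFrac_mul hcne hune, hzero, add_zero]


theorem secOrdAt_tensor' [IsLocallyNoetherian X] (hL : PicF.IsInvertible L)
    (hN : PicF.IsInvertible N) (x ξ : X) (h : ξ ⤳ x) (hK : Ring.KrullDimLE 1 (Cyc.LocQuot x ξ h))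
    {U : X.Opens} (hξU : ξ ∈ U) (e : Γ(L, U)) (e' : Γ(N, U))
    (sL : Cyc.secFibre L ξ) (sN : Cyc.secFibre N ξ)
    (sT : Cyc.secFibre (CohB1.tensorMod L N) ξ) (hsL : sL ≠ 0) (hsN : sN ≠ 0) (hsT : sT ≠ 0)
    (ψL ψN ψT : X.presheaf.stalk ξ)
    (eL : sL = ψL • (Submodule.Quotient.mk (L.presheaf.germ U ξ hξU e) : Cyc.secFibre L ξ))
    (eN : sN = ψN • (Submodule.Quotient.mk (N.presheaf.germ U ξ hξU e') : Cyc.secFibre N ξ))
    (eT : sT = ψT • (Submodule.Quotient.mk ((CohB1.tensorMod L N).presheaf.germ U ξ hξU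
      (tmulSec L N e e')) : Cyc.secFibre (CohB1.tensorMod L N) ξ)) :
    Cyc.secOrdAt L ξ x h sL + Cyc.secOrdAt N ξ x h sN -
        Cyc.secOrdAt (CohB1.tensorMod L N) ξ x h sT =
      Cyc.ordAt x ξ h ((X.residue ξ).hom ψL * (X.residue ξ).hom ψN / (X.residue ξ).hom ψT) := by
  haveI := isQuasicoherent_of_isInvertible hL
  haveI := isQuasicoherent_of_isInvertible hN
  have hTens : PicF.IsInvertible (CohB1.tensorMod L N) := isInvertible_tensorMod hL hN
  obtain ⟨V, a, a', -, hxV, -, hTa, hTa'⟩ := exists_affine_isTriv₂ hL hN (W := ⊤) x trivial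
  have hTaT := hTa.tensor hTa'
  obtain ⟨r, hr⟩ := (hTa (U ⊓ V) inf_le_right).2 (res L (inf_le_left : U ⊓ V ≤ U) e)
  obtain ⟨r', hr'⟩ := (hTa' (U ⊓ V) inf_le_right).2 (res N (inf_le_left : U ⊓ V ≤ U) e')
  simp only at hr hr'
  have hrT : res (CohB1.tensorMod L N) (inf_le_left : U ⊓ V ≤ U) (tmulSec L N e e') =
      (r * r') • res (CohB1.tensorMod L N) (inf_le_right : U ⊓ V ≤ V) (tmulSec L N a a') := by
    rw [res_tmulSec, res_tmulSec, ← hr, ← hr', tmulSec_smul_left, tmulSec_smul_right, smul_smul]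
  have hξW : ξ ∈ U ⊓ V := ⟨hξU, h.mem_open V.2 hxV⟩
  have gL := germ_eq_smul_spec L h hξU hxV e a r hr.symm
  have gN := germ_eq_smul_spec N h hξU hxV e' a' r' hr'.symm
  have gT := germ_eq_smul_spec (CohB1.tensorMod L N) h hξU hxV _ _ (r * r') hrT
  rw [map_mul] at gT
  obtain ⟨kL, kL2, kL3⟩ := secOrdAt_eq_of_generators' hL x ξ h hK _
    (span_germ_eq_top L hTa x hxV) _ _ gL sL hsL ψL eL
  obtain ⟨kN, kN2, kN3⟩ := secOrdAt_eq_of_generators' hN x ξ h hK _
    (span_germ_eq_top N hTa' x hxV) _ _ gN sN hsN ψN eN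
  obtain ⟨kT, kT2, kT3⟩ := secOrdAt_eq_of_generators' hTens x ξ h hK _
    (span_germ_eq_top _ hTaT x hxV) _ _ gT sT hsT ψT eT
  rw [kL, kN, kT, map_mul]
  haveI : (RingHom.ker (Cyc.specMap x ξ h)).IsPrime := RingHom.ker_isPrime _
  haveI : IsDomain (Cyc.LocQuot x ξ h) := Ideal.Quotient.isDomain _
  haveI := hK
  haveI : IsFractionRing (Cyc.LocQuot x ξ h) (X.residueField ξ) :=
    Groth.Agent.Lib.Helper18.LocStalk.isFractionRing_locQuot x ξ h
  unfold Cyc.ordAt
  rw [ordFrac_mul kL3 kN3, Groth.Agent.Lib.Helper26.FracLength.ordFrac_div (mul_ne_zero kL2 kN2) kT2,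
    ordFrac_mul kL2 kN2]
  ring


end Groth.Agent.Lib.Helper18.C1Add
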