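import Mathlib
import Groth.Prelude.Def_Cyc
import Groth.Agent.Lib.Helper18.SchDim4
import Groth.Agent.Lib.Helper18.JacDim8

set_option autoImplicit false
universe u
open CategoryTheory AlgebraicGeometry

namespace Groth.Agent.Lib.Helper18.SetupLft

/-- the standing hypotheses `Cyc.IsSetup` pass to a scheme locally of finite type with the induced
dimension function -/
theorem isSetup_of_locallyOfFiniteType {X S : Scheme.{u}} (f : X ⟶ S) [LocallyOfFiniteType f]
    (δ : S → ℤ) (hS : Cyc.IsSetup S δ) (δX : X → ℤ) (hδ : Cyc.DeltaCompat f δX δ) :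
    Cyc.IsSetup X δX := by
  have hS' := hS
  obtain ⟨hN, hUC, hdim⟩ := hS
  haveI := hN
  refine ⟨LocallyOfFiniteType.isLocallyNoetherian f, ?_, ?_⟩
  · intro x
    letI : Algebra (S.presheaf.stalk (f x)) (X.presheaf.stalk x) := (f.stalkMap x).hom.toAlgebra
    haveI : Algebra.EssFiniteType (S.presheaf.stalk (f x)) (X.presheaf.stalk x) :=
      LocallyOfFiniteType.stalkMap f x
    exact Groth.Agent.Lib.Helper1.Catenary.isUniversallyCatenary_of_essFiniteType _ _ (hUC (f x))
  · exact Groth.Agent.Lib.Helper18.SchDim.isDimFun_of_deltaCompat f δ hS' δX hδ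

end Groth.Agent.Lib.Helper18.SetupLft
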