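import Mathlib
import Groth.Prelude.Def_C1
import Groth.Agent.Lib.Helper18.SetupLft
import Groth.Agent.Lib.Helper18.LocStalk2
import Groth.Agent.Lib.Helper18.DivPull3

/-!
# Orders of vanishing along a closed immersion
-/

set_option autoImplicit false
set_option linter.style.haveILetI false
universe u
open CategoryTheory AlgebraicGeometry TopologicalSpace

namespace Groth.Agent.Lib.Helper18.ClImm

open Groth.Agent.Lib.Helper26.OrdZ Groth.Agent.Lib.Helper18.DivPull

/-- invariance of `ordFrac` under compatible isomorphisms -/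
theorem ordFrac_congr {A B K L : Type u} [CommRing A] [IsDomain A] [IsNoetherianRing A]
    [Ring.KrullDimLE 1 A] [CommRing B] [IsDomain B] [IsNoetherianRing B] [Ring.KrullDimLE 1 B]
    [Field K] [Algebra A K] [IsFractionRing A K] [Field L] [Algebra B L] [IsFractionRing B L]
    (e : A →+* B) (he : Function.Bijective e) (ε : K →+* L)
    (hε : ∀ a, ε (algebraMap A K a) = algebraMap B L (e a)) (g : K) :
    CycAlg.ordFrac B L (ε g) = CycAlg.ordFrac A K g := by
  by_cases hg : g = 0
  · subst hg
    rw [map_zero, ordFrac_eq, ordFrac_eq, map_zero, map_zero]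
  obtain ⟨a, b, hb, rfl⟩ := IsFractionRing.div_surjective (A := A) g
  have hb0 : b ≠ 0 := nonZeroDivisors.ne_zero hb
  have ha0 : a ≠ 0 := by
    rintro rfl
    simp at hg
  have hea : e a ≠ 0 := fun h => ha0 (he.1 (h.trans (map_zero e).symm))
  have heb : e b ≠ 0 := fun h => hb0 (he.1 (h.trans (map_zero e).symm))
  have ha' : algebraMap A K a ≠ 0 := by rwa [Ne, FaithfulSMul.algebraMap_eq_zero_iff]
  have hb' : algebraMap A K b ≠ 0 := by rwa [Ne, FaithfulSMul.algebraMap_eq_zero_iff]
  have ha'' : algebraMap B L (e a) ≠ 0 := by rwa [Ne, FaithfulSMul.algebraMap_eq_zero_iff]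
  have hb'' : algebraMap B L (e b) ≠ 0 := by rwa [Ne, FaithfulSMul.algebraMap_eq_zero_iff]
  rw [map_div₀, hε, hε, Groth.Agent.Lib.Helper26.FracLength.ordFrac_div ha'' hb'',
    Groth.Agent.Lib.Helper26.FracLength.ordFrac_div ha' hb', ordFrac_algebraMap hea,
    ordFrac_algebraMap heb, ordFrac_algebraMap ha0, ordFrac_algebraMap hb0,
    ord_eq_of_bijective e he, ord_eq_of_bijective e he]

variable {D X : Scheme.{u}} (i : D ⟶ X) [IsClosedImmersion i]

theorem residueFieldMap_bijective (d : D) : Function.Bijective (i.residueFieldMap d).hom := by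
  refine ⟨RingHom.injective _, ?_⟩
  intro z
  obtain ⟨w, rfl⟩ := D.residue_surjective d z
  obtain ⟨w', rfl⟩ := i.stalkMap_surjective d w
  refine ⟨(X.residue (i d)).hom w', ?_⟩
  have := congrArg (fun k => k.hom w') (Scheme.residue_residueFieldMap i d)
  exact this

theorem deltaCompat (δ : X → ℤ) : Cyc.DeltaCompat i (fun d => δ (i d)) δ := by
  intro d
  refine ⟨0, ?_, by simp⟩
  letI := (i.residueFieldMap d).hom.toAlgebra
  haveI : Algebra.IsIntegral (X.residueField (i d)) (D.residueField d) :=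
    Algebra.isIntegral_of_surjective (residueFieldMap_bijective i d).2
  rw [_root_.trdeg_eq_zero]
  rfl

theorem isSetup (δ : X → ℤ) (hX : Cyc.IsSetup X δ) : Cyc.IsSetup D (fun d => δ (i d)) :=
  Groth.Agent.Lib.Helper18.SetupLft.isSetup_of_locallyOfFiniteType i δ hX _ (deltaCompat i δ)

theorem specializes_iff (d d' : D) : d' ⤳ d ↔ i d' ⤳ i d :=
  (i.isClosedEmbedding.isInducing.specializes_iff).symm

/-- orders of vanishing agree along a closed immersion -/
theorem ordAt_eq (δ : X → ℤ) (hX : Cyc.IsSetup X δ) (d d' : D) (h : d' ⤳ d) (h' : i d' ⤳ i d)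
    (h1 : δ (i d) + 1 = δ (i d')) (g : X.residueField (i d')) :
    Cyc.ordAt d d' h ((i.residueFieldMap d').hom g) = Cyc.ordAt (i d) (i d') h' g := by
  have hD := isSetup i δ hX
  haveI : IsLocallyNoetherian X := hX.1
  haveI : IsLocallyNoetherian D := hD.1
  haveI : (RingHom.ker (Cyc.specMap (i d) (i d') h')).IsPrime := RingHom.ker_isPrime _
  haveI : (RingHom.ker (Cyc.specMap d d' h)).IsPrime := RingHom.ker_isPrime _
  haveI : IsDomain (Cyc.LocQuot (i d) (i d') h') := Ideal.Quotient.isDomain _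
  haveI : IsDomain (Cyc.LocQuot d d' h) := Ideal.Quotient.isDomain _
  haveI : Ring.KrullDimLE 1 (Cyc.LocQuot (i d) (i d') h') :=
    krullDimLE_one_locQuot δ hX.2.2 (i d) (i d') h' h1
  haveI : Ring.KrullDimLE 1 (Cyc.LocQuot d d' h) :=
    krullDimLE_one_locQuot (fun d => δ (i d)) hD.2.2 d d' h h1
  haveI : IsFractionRing (Cyc.LocQuot (i d) (i d') h') (X.residueField (i d')) :=
    Groth.Agent.Lib.Helper18.LocStalk.isFractionRing_locQuot _ _ _
  haveI : IsFractionRing (Cyc.LocQuot d d' h) (D.residueField d') :=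
    Groth.Agent.Lib.Helper18.LocStalk.isFractionRing_locQuot _ _ _
  have hle : RingHom.ker (Cyc.specMap (i d) (i d') h') ≤
      Ideal.comap (i.stalkMap d).hom (RingHom.ker (Cyc.specMap d d' h)) := by
    intro a ha
    rw [Ideal.mem_comap, RingHom.mem_ker, specMap_stalkMap i d d' h h' a, RingHom.mem_ker.mp ha,
      map_zero]
  have hge : Ideal.comap (i.stalkMap d).hom (RingHom.ker (Cyc.specMap d d' h)) ≤
      RingHom.ker (Cyc.specMap (i d) (i d') h') := by
    intro a ha
    rw [Ideal.mem_comap, RingHom.mem_ker, specMap_stalkMap i d d' h h' a] at ha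
    exact RingHom.mem_ker.mpr ((residueFieldMap_bijective i d').1 (ha.trans (map_zero _).symm))
  unfold Cyc.ordAt
  refine ordFrac_congr
    (Ideal.quotientMap (RingHom.ker (Cyc.specMap d d' h)) (i.stalkMap d).hom hle)
    ⟨Ideal.quotientMap_injective' (H := hle) hge,
      Ideal.quotientMap_surjective (H := hle) (i.stalkMap_surjective d)⟩
    (i.residueFieldMap d').hom ?_ g
  intro a
  obtain ⟨a, rfl⟩ := Ideal.Quotient.mk_surjective a
  exact (specMap_stalkMap i d d' h h' a).symm

end Groth.Agent.Lib.Helper18.ClImm
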