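import Mathlib
import Groth.Prelude.Def_Cyc

set_option autoImplicit false
universe u
open CategoryTheory AlgebraicGeometry

namespace Groth.Agent.Lib.Helper18.FlatShift

/-- existence of a maximal generization within the fibre -/
theorem exists_maximal_generization_in_fibre {X' X : Scheme.{u}} (p : X' ⟶ X) (x' : X') :
    ∃ η' : X', p η' = p x' ∧ η' ⤳ x' ∧ ∀ y, p y = p η' → y ⤳ η' → y = η' := by
  set φ := (p.stalkMap x').hom with hφ
  set I : Ideal (X'.presheaf.stalk x') :=
    Ideal.map φ (IsLocalRing.maximalIdeal (X.presheaf.stalk (p x'))) with hI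
  have hIle : I ≤ IsLocalRing.maximalIdeal (X'.presheaf.stalk x') := by
    rw [hI, Ideal.map_le_iff_le_comap]
    intro a ha
    rw [Ideal.mem_comap]
    rw [IsLocalRing.mem_maximalIdeal] at ha ⊢
    intro hu
    exact ha (isUnit_of_map_unit φ a hu)
  obtain ⟨q, hq, hqle⟩ := Ideal.exists_minimalPrimes_le hIle
  have hqp : q.IsPrime := hq.1.1
  have hIq : I ≤ q := hq.1.2
  have hcomap : ∀ q' : Ideal (X'.presheaf.stalk x'), q'.IsPrime → I ≤ q' →
      Ideal.comap φ q' = IsLocalRing.maximalIdeal (X.presheaf.stalk (p x')) := by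
    intro q' hq' hle
    have h1 : IsLocalRing.maximalIdeal (X.presheaf.stalk (p x')) ≤ Ideal.comap φ q' :=
      Ideal.map_le_iff_le_comap.mp hle
    have h2 : (Ideal.comap φ q') ≠ ⊤ := (Ideal.comap_isPrime φ q').ne_top
    exact ((IsLocalRing.maximalIdeal.isMaximal _).eq_of_le h2 h1).symm
  have hpt : ∀ Q : PrimeSpectrum (X'.presheaf.stalk x'),
      p (X'.fromSpecStalk x' Q) = X.fromSpecStalk (p x') (PrimeSpectrum.comap φ Q) := by
    intro Q
    have := congrArg (fun g => g Q) (Scheme.SpecMap_stalkMap_fromSpecStalk (f := p) (x := x'))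
    simp only [Scheme.Hom.comp_apply] at this
    exact this.symm
  refine ⟨X'.fromSpecStalk x' ⟨q, hqp⟩, ?_, ?_, ?_⟩
  · rw [hpt]
    have : PrimeSpectrum.comap φ ⟨q, hqp⟩ = IsLocalRing.closedPoint (X.presheaf.stalk (p x')) := by
      ext1
      exact hcomap q hqp hIq
    rw [this, Scheme.fromSpecStalk_closedPoint]
  · have : X'.fromSpecStalk x' ⟨q, hqp⟩ ∈ Set.range (X'.fromSpecStalk x') := ⟨_, rfl⟩
    rw [Scheme.range_fromSpecStalk] at this
    exact this
  · intro y hy1 hy2
    have hyx : y ⤳ x' := by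
      refine hy2.trans ?_
      have : X'.fromSpecStalk x' ⟨q, hqp⟩ ∈ Set.range (X'.fromSpecStalk x') := ⟨_, rfl⟩
      rw [Scheme.range_fromSpecStalk] at this
      exact this
    have hyr : y ∈ Set.range (X'.fromSpecStalk x') := by
      rw [Scheme.range_fromSpecStalk]; exact hyx
    obtain ⟨Q', rfl⟩ := hyr
    have hemb : Topology.IsInducing (X'.fromSpecStalk x') :=
      (X'.fromSpecStalk x').isEmbedding.isInducing
    have hsp : Q' ⤳ (⟨q, hqp⟩ : PrimeSpectrum (X'.presheaf.stalk x')) :=
      hemb.specializes_iff.mp hy2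
    have hle : Q'.asIdeal ≤ q := (PrimeSpectrum.le_iff_specializes Q' ⟨q, hqp⟩).mpr hsp
    -- p y = p x'
    have hpy : X.fromSpecStalk (p x') (PrimeSpectrum.comap φ Q') =
        X.fromSpecStalk (p x') (IsLocalRing.closedPoint _) := by
      rw [← hpt, hy1, hpt, Scheme.fromSpecStalk_closedPoint]
      have : PrimeSpectrum.comap φ ⟨q, hqp⟩ = IsLocalRing.closedPoint (X.presheaf.stalk (p x')) := by
        ext1
        exact hcomap q hqp hIq
      rw [this, Scheme.fromSpecStalk_closedPoint]
    have hinj : Function.Injective (X.fromSpecStalk (p x')) :=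
      (X.fromSpecStalk (p x')).isEmbedding.injective
    have hcm := hinj hpy
    have hIQ' : I ≤ Q'.asIdeal := by
      rw [hI, Ideal.map_le_iff_le_comap]
      have := congrArg PrimeSpectrum.asIdeal hcm
      change Ideal.comap φ Q'.asIdeal = _ at this
      rw [this]
      rfl
    have hqQ' : q ≤ Q'.asIdeal := hq.2 ⟨Q'.isPrime, hIQ'⟩ hle
    have hQq : Q' = (⟨q, hqp⟩ : PrimeSpectrum (X'.presheaf.stalk x')) :=
      PrimeSpectrum.ext (le_antisymm hle hqQ')
    rw [hQq]

/-- the dimension function upstairs is at most the shifted one downstairs, with equality only at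
generic points of fibres -/
theorem delta_le_of_shift {X' X : Scheme.{u}} (p : X' ⟶ X) (δ : X → ℤ) (δ' : X' → ℤ)
    (hdim : Cyc.IsDimFun X' δ') (c : ℤ)
    (hc : ∀ x' : X', (∀ y, p y = p x' → y ⤳ x' → y = x') → δ' x' = δ (p x') + c) (x' : X') :
    δ' x' ≤ δ (p x') + c ∧ (δ' x' = δ (p x') + c → ∀ y, p y = p x' → y ⤳ x' → y = x') := by
  obtain ⟨η', h1, h2, h3⟩ := exists_maximal_generization_in_fibre p x'
  have hη := hc η' h3
  rw [h1] at hη
  by_cases he : η' = x'
  · subst he
    exact ⟨hη.le, fun _ => h3⟩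
  · have := (hdim η' x' h2 he).1
    constructor
    · omega
    · intro h; omega

/-- multiplicativity of the fibre multiplicities along a composite of local homs, the second flat -/
theorem length_quot_map_comp {A B C : Type u} [CommRing A] [CommRing B] [CommRing C]
    [IsLocalRing A] [IsLocalRing B] [IsLocalRing C] (φ : A →+* B) (ψ : B →+* C)
    [IsLocalHom ψ] (hψ : ψ.Flat) :
    Module.length C (C ⧸ Ideal.map (ψ.comp φ) (IsLocalRing.maximalIdeal A)) =
      Module.length B (B ⧸ Ideal.map φ (IsLocalRing.maximalIdeal A)) *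
        Module.length C (C ⧸ Ideal.map ψ (IsLocalRing.maximalIdeal B)) := by
  letI := ψ.toAlgebra
  have hfl : Module.Flat B C := hψ
  have hloc : IsLocalHom (algebraMap B C) := ‹IsLocalHom ψ›
  set I := Ideal.map φ (IsLocalRing.maximalIdeal A) with hI
  have h1 := IsLocalRing.length_baseChange B C (B ⧸ I)
  have e := (Algebra.TensorProduct.quotIdealMapEquivTensorQuot C I).toLinearEquiv
  rw [← e.length_eq] at h1
  have hmm : Ideal.map (ψ.comp φ) (IsLocalRing.maximalIdeal A) = I.map (algebraMap B C) := by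
    rw [hI, Ideal.map_map]; rfl
  rw [hmm]
  exact h1

end Groth.Agent.Lib.Helper18.FlatShift
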