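import Mathlib
import Groth.Prelude.Def_Cyc
import Groth.Agent.Lib.Helper28.StalkAdj2
import Groth.Agent.Lib.Helper18.FlatShift

set_option autoImplicit false
universe u
open CategoryTheory AlgebraicGeometry TensorProduct

namespace Groth.Agent.Lib.Helper18.PullStalk

/-- the underlying module of `extendScalars` is the base change along `toAlgebra` -/
noncomputable def extendScalarsEquiv {A B : Type u} [CommRing A] [CommRing B] (φ : A →+* B)
    (M : Type u) [AddCommGroup M] [Module A M] :
    letI := φ.toAlgebra
    ((ModuleCat.extendScalars φ).obj (ModuleCat.of A M)) ≃ₗ[B] (B ⊗[A] M) :=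
  letI := φ.toAlgebra
  LinearEquiv.refl B (B ⊗[A] M)

/-- the stalk of a pullback module, as a linear equivalence with the base change of the stalk -/
noncomputable def stalkPullbackEquiv {X' X : Scheme.{u}} (p : X' ⟶ X) (F : X.Modules) (x' : X') :
    letI := (p.stalkMap x').hom.toAlgebra
    (((Scheme.Modules.pullback p).obj F).presheaf.stalk x') ≃ₗ[X'.presheaf.stalk x']
      ((X'.presheaf.stalk x') ⊗[X.presheaf.stalk (p x')] (F.presheaf.stalk (p x'))) :=
  letI := (p.stalkMap x').hom.toAlgebra
  (((Groth.Agent.Lib.Helper28.StalkTensor.pullStalkNatIso p x').app F).toLinearEquiv).trans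
    (extendScalarsEquiv (p.stalkMap x').hom (F.presheaf.stalk (p x')))

/-- length of the stalk of a flat pullback -/
theorem length_stalk_pullback {X' X : Scheme.{u}} (p : X' ⟶ X) [Flat p] (F : X.Modules) (x' : X') :
    Module.length (X'.presheaf.stalk x') (((Scheme.Modules.pullback p).obj F).presheaf.stalk x') =
      Module.length (X.presheaf.stalk (p x')) (F.presheaf.stalk (p x')) *
        Module.length (X'.presheaf.stalk x') (X'.presheaf.stalk x' ⧸ Ideal.map (p.stalkMap x').hom
          (IsLocalRing.maximalIdeal (X.presheaf.stalk (p x')))) := by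
  letI := (p.stalkMap x').hom.toAlgebra
  have hfl : Module.Flat (X.presheaf.stalk (p x')) (X'.presheaf.stalk x') := Flat.stalkMap p x'
  have hloc : IsLocalHom (algebraMap (X.presheaf.stalk (p x')) (X'.presheaf.stalk x')) :=
    (inferInstance : IsLocalHom (p.stalkMap x').hom)
  rw [(stalkPullbackEquiv p F x').length_eq]
  exact IsLocalRing.length_baseChange _ _ _

/-- nontriviality of the stalk of a pullback forces nontriviality downstairs -/
theorem nontrivial_of_nontrivial_stalk_pullback {X' X : Scheme.{u}} (p : X' ⟶ X) (F : X.Modules)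
    (x' : X') (h : Nontrivial (((Scheme.Modules.pullback p).obj F).presheaf.stalk x')) :
    Nontrivial (F.presheaf.stalk (p x')) := by
  letI := (p.stalkMap x').hom.toAlgebra
  by_contra hn
  rw [not_nontrivial_iff_subsingleton] at hn
  have : Subsingleton ((X'.presheaf.stalk x') ⊗[X.presheaf.stalk (p x')] (F.presheaf.stalk (p x'))) :=
    inferInstance
  have h2 := (stalkPullbackEquiv p F x').toEquiv.subsingleton
  exact not_subsingleton _ h2

end Groth.Agent.Lib.Helper18.PullStalk
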