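import Mathlib
import Groth.Prelude.Def_C1
import Groth.Agent.Lib.Helper18.PullStalk
import Groth.Agent.Lib.Helper18.InvStalk
import Groth.Agent.Lib.Helper28.PullTensor1

/-!
# Pullback of a trivialising section generates the stalks of the pullback freely
-/

set_option autoImplicit false
set_option linter.style.haveILetI false
universe u
open CategoryTheory AlgebraicGeometry TopologicalSpace TensorProduct

namespace Groth.Agent.Lib.Helper18.PullTriv

open Groth.Agent.Lib.Helper29.QCoh Groth.Agent.Lib.Helper28.StalkTensor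
  Groth.Agent.Lib.Helper18.InvStalk Groth.Agent.Lib.Helper18.PullStalk

section Alg

variable {A B M : Type u} [CommRing A] [CommRing B] [Algebra A B] [AddCommGroup M] [Module A M]
  (t₀ : M) (hspan : Submodule.span A {t₀} = ⊤) (hfree : ∀ r : A, r • t₀ = 0 → r = 0)

include hspan in
theorem exists_eq_smul_one_tmul (z : B ⊗[A] M) : ∃ b : B, z = b • ((1 : B) ⊗ₜ[A] t₀) := by
  induction z using TensorProduct.induction_on with
  | zero => exact ⟨0, by rw [zero_smul]⟩
  | tmul b m =>
    have hm : m ∈ Submodule.span A {t₀} := by rw [hspan]; trivial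
    obtain ⟨r, rfl⟩ := Submodule.mem_span_singleton.mp hm
    refine ⟨b * algebraMap A B r, ?_⟩
    rw [TensorProduct.tmul_smul, TensorProduct.smul_tmul', TensorProduct.smul_tmul',
      Algebra.smul_def, smul_eq_mul, mul_one, mul_comm]
  | add z w hz hw =>
    obtain ⟨b, rfl⟩ := hz
    obtain ⟨c, rfl⟩ := hw
    exact ⟨b + c, (add_smul _ _ _).symm⟩

include hspan hfree in
theorem eq_zero_of_smul_one_tmul_eq_zero (b : B) (h : b • ((1 : B) ⊗ₜ[A] t₀) = 0) : b = 0 := by
  have hbij : Function.Bijective (LinearMap.toSpanSingleton A M t₀) := by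
    constructor
    · rw [injective_iff_map_eq_zero]
      intro r hr
      exact hfree r hr
    · intro m
      have hm : m ∈ Submodule.span A {t₀} := by rw [hspan]; trivial
      obtain ⟨r, hr⟩ := Submodule.mem_span_singleton.mp hm
      exact ⟨r, hr⟩
  let lam : A ≃ₗ[A] M := LinearEquiv.ofBijective (LinearMap.toSpanSingleton A M t₀) hbij
  let Φ : B ⊗[A] M →ₗ[A] B :=
    (TensorProduct.rid A B).toLinearMap ∘ₗ (LinearMap.lTensor B lam.symm.toLinearMap)
  have h1 : lam.symm t₀ = 1 := by
    rw [LinearEquiv.symm_apply_eq]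
    change t₀ = (1 : A) • t₀
    rw [one_smul]
  have h2 : Φ (b • ((1 : B) ⊗ₜ[A] t₀)) = b := by
    rw [TensorProduct.smul_tmul', smul_eq_mul, mul_one]
    change (TensorProduct.rid A B) (b ⊗ₜ[A] lam.symm t₀) = b
    rw [h1, TensorProduct.rid_tmul, one_smul]
  rw [h, map_zero] at h2
  exact h2.symm

end Alg

variable {X' X : Scheme.{u}} (f : X' ⟶ X) (L : X.Modules)

theorem stalkPullbackEquiv_germ_etaSec {V : X.Opens} (a : Γ(L, V)) (y : X') (hy : f y ∈ V) :
    letI := (f.stalkMap y).hom.toAlgebra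
    stalkPullbackEquiv f L y
      (((Scheme.Modules.pullback f).obj L).presheaf.germ (f ⁻¹ᵁ V) y hy (etaSec f L V a)) =
      (1 : X'.presheaf.stalk y) ⊗ₜ[X.presheaf.stalk (f y)] (L.presheaf.germ V (f y) hy a) :=
  pullStalk_gm_etaSec f y L V hy a

theorem span_germ_etaSec_eq_top {V : X.Opens} {a : Γ(L, V)} (hT : IsTriv L V a) (y : X')
    (hy : f y ∈ V) :
    Submodule.span (X'.presheaf.stalk y)
      {((Scheme.Modules.pullback f).obj L).presheaf.germ (f ⁻¹ᵁ V) y hy (etaSec f L V a)} = ⊤ := by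
  letI := (f.stalkMap y).hom.toAlgebra
  rw [eq_top_iff]
  intro m _
  obtain ⟨b, hb⟩ := exists_eq_smul_one_tmul (B := X'.presheaf.stalk y) _
    (span_germ_eq_top L hT (f y) hy) (stalkPullbackEquiv f L y m)
  rw [← stalkPullbackEquiv_germ_etaSec f L a y hy, ← map_smul] at hb
  have := (stalkPullbackEquiv f L y).injective hb
  rw [this]
  exact Submodule.smul_mem _ _ (Submodule.subset_span rfl)

theorem smul_germ_etaSec_eq_zero {V : X.Opens} {a : Γ(L, V)} (hT : IsTriv L V a) (y : X')
    (hy : f y ∈ V) (r : X'.presheaf.stalk y)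
    (h : r • ((Scheme.Modules.pullback f).obj L).presheaf.germ (f ⁻¹ᵁ V) y hy (etaSec f L V a) = 0) :
    r = 0 := by
  letI := (f.stalkMap y).hom.toAlgebra
  have h1 := congrArg (stalkPullbackEquiv f L y) h
  rw [map_smul, map_zero, stalkPullbackEquiv_germ_etaSec f L a y hy] at h1
  exact eq_zero_of_smul_one_tmul_eq_zero _ (span_germ_eq_top L hT (f y) hy)
    (smul_germ_eq_zero L hT (f y) hy) r h1

end Groth.Agent.Lib.Helper18.PullTriv
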