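import Mathlib
import Groth.Prelude.Def_C1
import Groth.Agent.Lib.Helper18.PullTriv

/-!
# Properties of the unit sections `etaSec` of a pullback module
-/

set_option autoImplicit false
set_option linter.style.haveILetI false
universe u
open CategoryTheory AlgebraicGeometry TopologicalSpace TensorProduct

namespace Groth.Agent.Lib.Helper18.PullTriv

open Groth.Agent.Lib.Helper29.QCoh Groth.Agent.Lib.Helper28.StalkTensor

variable {X' X : Scheme.{u}} (f : X' ⟶ X) (M : X.Modules)

theorem etaSec_smul (V : X.Opens) (r : Γ(X, V)) (m : Γ(M, V)) :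
    etaSec f M V (r • m) = (f.app V r) • etaSec f M V m := by
  unfold etaSec
  rw [Scheme.Modules.Hom.app_smul]
  rfl

theorem etaSec_res {V V' : X.Opens} (h : V' ≤ V) (m : Γ(M, V)) :
    res ((Scheme.Modules.pullback f).obj M) (f.preimage_mono h) (etaSec f M V m) =
      etaSec f M V' (res M h m) := by
  unfold etaSec
  have := ((Scheme.Modules.pullbackPushforwardAdjunction f).unit.app M).mapPresheaf.naturality
    (homOfLE h).op
  exact (congrArg (fun k => k.hom m) this).symm

end Groth.Agent.Lib.Helper18.PullTriv
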