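import Mathlib
import Groth.Prelude.Def_C1
import Groth.Agent.Lib.Helper18.PullTriv2
import Groth.Agent.Lib.Helper18.C1Add3
import Groth.Agent.Lib.Helper18.ClImm
import Groth.Agent.Lib.Helper29.QCohLocFree

/-!
# Pulling back rational sections of an invertible module
-/

set_option autoImplicit false
set_option linter.style.haveILetI false
universe u
open CategoryTheory AlgebraicGeometry TopologicalSpace TensorProduct

namespace Groth.Agent.Lib.Helper18.PullSec

open Groth.Agent.Lib.Helper29.QCoh Groth.Agent.Lib.Helper28.StalkTensor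
  Groth.Agent.Lib.Helper18.InvStalk Groth.Agent.Lib.Helper18.PullStalk
  Groth.Agent.Lib.Helper18.PullTriv

variable {X' X : Scheme.{u}} (f : X' ⟶ X) (L : X.Modules)

/-- the pullback of a rational section `σ ∈ L(f y)` to `(f^*L)(y)` -/
noncomputable def pullFibre (y : X') (σ : Cyc.secFibre L (f y)) :
    Cyc.secFibre ((Scheme.Modules.pullback f).obj L) y :=
  letI := (f.stalkMap y).hom.toAlgebra
  Submodule.Quotient.mk ((stalkPullbackEquiv f L y).symm
    ((1 : X'.presheaf.stalk y) ⊗ₜ[X.presheaf.stalk (f y)] (Quotient.out σ)))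

theorem pullFibre_eq {V : X.Opens} {a : Γ(L, V)} (hT : IsTriv L V a) (y : X') (hy : f y ∈ V)
    (σ : Cyc.secFibre L (f y)) (ψ : X.presheaf.stalk (f y))
    (e : σ = ψ • (Submodule.Quotient.mk (L.presheaf.germ V (f y) hy a) : Cyc.secFibre L (f y))) :
    pullFibre f L y σ = ((f.stalkMap y).hom ψ) • (Submodule.Quotient.mk
      (((Scheme.Modules.pullback f).obj L).presheaf.germ (f ⁻¹ᵁ V) y hy (etaSec f L V a)) :
        Cyc.secFibre ((Scheme.Modules.pullback f).obj L) y) := by
  letI := (f.stalkMap y).hom.toAlgebra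
  have hspan := span_germ_eq_top L hT (f y) hy
  have hfree := smul_germ_eq_zero L hT (f y) hy
  have hl : Quotient.out σ ∈ Submodule.span (X.presheaf.stalk (f y))
      {L.presheaf.germ V (f y) hy a} := by rw [hspan]; trivial
  obtain ⟨ψ', hψ'⟩ := Submodule.mem_span_singleton.mp hl
  have h1 : (ψ' - ψ) • (Submodule.Quotient.mk (L.presheaf.germ V (f y) hy a) :
      Cyc.secFibre L (f y)) = 0 := by
    rw [sub_smul, ← e, ← Submodule.Quotient.mk_smul, hψ', Submodule.Quotient.mk_out, sub_self]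
  have h2 : ψ' - ψ ∈ IsLocalRing.maximalIdeal (X.presheaf.stalk (f y)) :=
    mem_of_smul_mk_eq_zero _ _ hspan hfree _ h1
  have h3 : (f.stalkMap y).hom (ψ' - ψ) ∈ IsLocalRing.maximalIdeal (X'.presheaf.stalk y) := by
    rw [IsLocalRing.mem_maximalIdeal, mem_nonunits_iff] at h2 ⊢
    intro hu
    exact h2 (isUnit_of_map_unit (f.stalkMap y).hom _ hu)
  have h4 : (stalkPullbackEquiv f L y).symm
      ((1 : X'.presheaf.stalk y) ⊗ₜ[X.presheaf.stalk (f y)] (Quotient.out σ)) =
      (f.stalkMap y).hom ψ' • ((Scheme.Modules.pullback f).obj L).presheaf.germ (f ⁻¹ᵁ V) y hy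
        (etaSec f L V a) := by
    rw [LinearEquiv.symm_apply_eq, map_smul, stalkPullbackEquiv_germ_etaSec f L a y hy, ← hψ',
      TensorProduct.tmul_smul, TensorProduct.smul_tmul', TensorProduct.smul_tmul', Algebra.smul_def,
      smul_eq_mul, mul_one, mul_one]
    rfl
  unfold pullFibre
  rw [h4, Submodule.Quotient.mk_smul]
  have h5 : (f.stalkMap y).hom ψ' = (f.stalkMap y).hom ψ + (f.stalkMap y).hom (ψ' - ψ) := by
    rw [← map_add]; congr 1; ring
  rw [h5, add_smul, add_eq_left, ← Submodule.Quotient.mk_smul, Submodule.Quotient.mk_eq_zero]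
  exact Submodule.smul_mem_smul h3 trivial

theorem pullFibre_ne_zero (hL : PicF.IsInvertible L) (y : X') (σ : Cyc.secFibre L (f y))
    (hσ : σ ≠ 0) : pullFibre f L y σ ≠ 0 := by
  obtain ⟨V, a, hy, hT⟩ := exists_isTriv hL (f y)
  obtain ⟨ψ, e⟩ := exists_smul_mk_eq (IsLocalRing.maximalIdeal (X.presheaf.stalk (f y))) _
    (span_germ_eq_top L hT (f y) hy) σ
  rw [pullFibre_eq f L hT y hy σ ψ e]
  intro h0
  have hmem := mem_of_smul_mk_eq_zero _ _ (span_germ_etaSec_eq_top f L hT y hy)
    (smul_germ_etaSec_eq_zero f L hT y hy) _ h0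
  have hψ : ψ ∈ IsLocalRing.maximalIdeal (X.presheaf.stalk (f y)) := by
    rw [IsLocalRing.mem_maximalIdeal, mem_nonunits_iff] at hmem ⊢
    intro hu
    exact hmem (hu.map (f.stalkMap y).hom)
  apply hσ
  rw [e, ← Submodule.Quotient.mk_smul, Submodule.Quotient.mk_eq_zero]
  exact Submodule.smul_mem_smul hψ trivial

end Groth.Agent.Lib.Helper18.PullSec
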