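import Mathlib
import Groth.Prelude.Def_C1
import Groth.Agent.Lib.Helper18.PullSec
import Groth.Agent.Lib.Helper18.CycMap

/-!
# Orders of pulled back rational sections along a closed immersion
-/

set_option autoImplicit false
set_option linter.style.haveILetI false
universe u
open CategoryTheory AlgebraicGeometry TopologicalSpace TensorProduct

namespace Groth.Agent.Lib.Helper18.PullSec

open Groth.Agent.Lib.Helper29.QCoh Groth.Agent.Lib.Helper28.StalkTensor
  Groth.Agent.Lib.Helper18.InvStalk Groth.Agent.Lib.Helper18.PullStalk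
  Groth.Agent.Lib.Helper18.PullTriv Groth.Agent.Lib.Helper18.C1Add
  Groth.Agent.Lib.Helper26.OrdZ Groth.Agent.Lib.Helper18.DivPull

variable {D X : Scheme.{u}} (i : D ⟶ X) [IsClosedImmersion i] (L : X.Modules)

theorem secOrdAt_pullFibre (δ : X → ℤ) (hX : Cyc.IsSetup X δ) (hL : PicF.IsInvertible L)
    (d d' : D) (h : d' ⤳ d) (h' : i d' ⤳ i d) (h1 : δ (i d) + 1 = δ (i d'))
    (σ : Cyc.secFibre L (i d')) (hσ : σ ≠ 0) :
    Cyc.secOrdAt ((Scheme.Modules.pullback i).obj L) d' d h (pullFibre i L d' σ) =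
      Cyc.secOrdAt L (i d') (i d) h' σ := by
  have hD := ClImm.isSetup i δ hX
  haveI : IsLocallyNoetherian X := hX.1
  haveI : IsLocallyNoetherian D := hD.1
  have hLD : PicF.IsInvertible ((Scheme.Modules.pullback i).obj L) := isInvertible_pullback i hL
  haveI : (RingHom.ker (Cyc.specMap (i d) (i d') h')).IsPrime := RingHom.ker_isPrime _
  haveI : (RingHom.ker (Cyc.specMap d d' h)).IsPrime := RingHom.ker_isPrime _
  haveI : IsDomain (Cyc.LocQuot (i d) (i d') h') := Ideal.Quotient.isDomain _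
  haveI : IsDomain (Cyc.LocQuot d d' h) := Ideal.Quotient.isDomain _
  have hK : Ring.KrullDimLE 1 (Cyc.LocQuot (i d) (i d') h') :=
    krullDimLE_one_locQuot δ hX.2.2 (i d) (i d') h' h1
  have hKD : Ring.KrullDimLE 1 (Cyc.LocQuot d d' h) :=
    krullDimLE_one_locQuot (fun d => δ (i d)) hD.2.2 d d' h h1
  haveI := hK
  haveI := hKD
  haveI : IsFractionRing (Cyc.LocQuot (i d) (i d') h') (X.residueField (i d')) :=
    Groth.Agent.Lib.Helper18.LocStalk.isFractionRing_locQuot _ _ _
  haveI : IsFractionRing (Cyc.LocQuot d d' h) (D.residueField d') :=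
    Groth.Agent.Lib.Helper18.LocStalk.isFractionRing_locQuot _ _ _
  obtain ⟨V, a, hdV, hT⟩ := exists_isTriv hL (i d)
  have hd'V : i d' ∈ V := h'.mem_open V.2 hdV
  obtain ⟨ψ, e⟩ := exists_smul_mk_eq (IsLocalRing.maximalIdeal (X.presheaf.stalk (i d'))) _
    (span_germ_eq_top L hT (i d') hd'V) σ
  -- downstairs
  have hX1 := secOrdAt_eq_of_generators' hL (i d) (i d') h' hK (L.presheaf.germ V (i d) hdV a)
    (span_germ_eq_top L hT (i d) hdV) (L.presheaf.germ V (i d') hd'V a) 1
    (by rw [one_smul]; exact (TopCat.Presheaf.germ_stalkSpecializes_apply _ _ _ _).symm) σ hσ ψ e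
  -- upstairs
  have e' := pullFibre_eq i L hT d' hd'V σ ψ e
  have hD1 := secOrdAt_eq_of_generators' hLD d d' h hKD
    (((Scheme.Modules.pullback i).obj L).presheaf.germ (i ⁻¹ᵁ V) d hdV (etaSec i L V a))
    (span_germ_etaSec_eq_top i L hT d hdV)
    (((Scheme.Modules.pullback i).obj L).presheaf.germ (i ⁻¹ᵁ V) d' hd'V (etaSec i L V a)) 1
    (by rw [one_smul]; exact (TopCat.Presheaf.germ_stalkSpecializes_apply _ _ _ _).symm)
    (pullFibre i L d' σ) (pullFibre_ne_zero i L hL d' σ hσ) _ e'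
  rw [hX1.1, hD1.1]
  have hres : (D.residue d').hom ((i.stalkMap d').hom ψ) =
      (i.residueFieldMap d').hom ((X.residue (i d')).hom ψ) := by
    have := congrArg (fun k => k.hom ψ) (Scheme.residue_residueFieldMap i d')
    exact this.symm
  have h1' : (D.residue d').hom (1 : D.presheaf.stalk d') =
      (i.residueFieldMap d').hom ((X.residue (i d')).hom 1) := by
    rw [map_one, map_one, map_one]
  rw [hres, h1', ClImm.ordAt_eq i δ hX d d' h h' h1, ClImm.ordAt_eq i δ hX d d' h h' h1]

theorem secDivFun_pullFibre (δ : X → ℤ) (hX : Cyc.IsSetup X δ) (hL : PicF.IsInvertible L)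
    (d d' : D) (σ : Cyc.secFibre L (i d')) (hσ : σ ≠ 0) :
    Cyc.secDivFun (fun d => δ (i d)) ((Scheme.Modules.pullback i).obj L) d'
      (pullFibre i L d' σ) d = Cyc.secDivFun δ L (i d') σ (i d) := by
  classical
  unfold Cyc.secDivFun
  by_cases hc : d' ⤳ d ∧ δ (i d) + 1 = δ (i d')
  · have hc' : i d' ⤳ i d ∧ δ (i d) + 1 = δ (i d') := ⟨(ClImm.specializes_iff i d d').mp hc.1, hc.2⟩
    rw [dif_pos hc, dif_pos hc']
    exact secOrdAt_pullFibre i L δ hX hL d d' hc.1 hc'.1 hc.2 σ hσ
  · have hc' : ¬ (i d' ⤳ i d ∧ δ (i d) + 1 = δ (i d')) := fun hh =>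
      hc ⟨(ClImm.specializes_iff i d d').mpr hh.1, hh.2⟩
    rw [dif_neg hc, dif_neg hc']

/-- the residue degree of a closed immersion is one -/
theorem residueDegree_eq_one (d : D) : i.residueDegree d = 1 := by
  unfold Scheme.Hom.residueDegree
  letI := (i.residueFieldMap d).hom.toAlgebra
  have hb : Function.Bijective (algebraMap (X.residueField (i d)) (D.residueField d)) :=
    ClImm.residueFieldMap_bijective i d
  have e : (X.residueField (i d)) ≃ₗ[X.residueField (i d)] (D.residueField d) :=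
    LinearEquiv.ofBijective (Algebra.linearMap _ _) hb
  rw [← e.finrank_eq]
  exact Module.finrank_self _

theorem map_apply_of_mem (δ : X → ℤ) (α : AlgebraicCycle D ℤ) (d : D) :
    AlgebraicCycle.map i (fun d => δ (i d)) δ α (i d) = α d := by
  classical
  have hinj : Function.Injective (i : D → X) := i.isClosedEmbedding.injective
  simp only [AlgebraicCycle.map, Function.locallyFinsupp.map_apply]
  have hs : (i : D → X) ⁻¹' {i d} = {d} := by
    ext z
    simp only [Set.mem_preimage, Set.mem_singleton_iff]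
    exact ⟨fun hz => hinj hz, fun hz => by rw [hz]⟩
  rw [hs, finsum_mem_singleton]
  unfold AlgebraicCycle.mapCoeff
  rw [if_pos rfl, residueDegree_eq_one]
  simp

theorem map_apply_of_notMem (δ : X → ℤ) (α : AlgebraicCycle D ℤ) (x : X)
    (hx : x ∉ Set.range (i : D → X)) :
    AlgebraicCycle.map i (fun d => δ (i d)) δ α x = 0 := by
  classical
  simp only [AlgebraicCycle.map, Function.locallyFinsupp.map_apply]
  apply finsum_mem_eq_zero_of_forall_eq_zero
  intro z hz
  exact absurd ⟨z, hz⟩ hx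

theorem finsum_eq_finsum_comp {α β : Type*} (g : β → α) (hg : Function.Injective g) (F : α → ℤ)
    (h : ∀ a, F a ≠ 0 → a ∈ Set.range g) : ∑ᶠ a, F a = ∑ᶠ b, F (g b) := by
  rw [← finsum_mem_univ, finsum_mem_inter_support_eq' F Set.univ (Set.range g)
    (fun x hx => ⟨fun _ => h x hx, fun _ => trivial⟩), finsum_mem_range hg]

end Groth.Agent.Lib.Helper18.PullSec
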