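import Mathlib
import Groth.Prelude.Def_C1
import Groth.Agent.Lib.Helper18.PullSec2

/-!
# Pushing rational equivalence forward along a closed immersion
-/

set_option autoImplicit false
set_option linter.style.haveILetI false
universe u
open CategoryTheory AlgebraicGeometry TopologicalSpace

namespace Groth.Agent.Lib.Helper18.ClImm

variable {D X : Scheme.{u}} (i : D ⟶ X) [IsClosedImmersion i]

theorem closure_singleton_subset_range (d : D) : closure {i d} ⊆ Set.range (i : D → X) :=
  closure_minimal (Set.singleton_subset_iff.mpr ⟨d, rfl⟩) i.isClosedEmbedding.isClosed_range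

theorem not_specializes_of_notMem_range (d : D) (x : X) (hx : x ∉ Set.range (i : D → X)) :
    ¬ (i d ⤳ x) := by
  intro h
  exact hx (closure_singleton_subset_range i d (specializes_iff_mem_closure.mp h))

theorem divFun_eq (δ : X → ℤ) (hX : Cyc.IsSetup X δ) (d d' : D) (g : X.residueField (i d')) :
    Cyc.divFun (fun d => δ (i d)) d' ((i.residueFieldMap d').hom g) d =
      Cyc.divFun δ (i d') g (i d) := by
  classical
  unfold Cyc.divFun
  by_cases hc : d' ⤳ d ∧ δ (i d) + 1 = δ (i d')
  · have hc' : i d' ⤳ i d ∧ δ (i d) + 1 = δ (i d') := ⟨(specializes_iff i d d').mp hc.1, hc.2⟩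
    rw [dif_pos hc, dif_pos hc']
    exact ordAt_eq i δ hX d d' hc.1 hc'.1 hc.2 g
  · have hc' : ¬ (i d' ⤳ i d ∧ δ (i d) + 1 = δ (i d')) := fun hh =>
      hc ⟨(specializes_iff i d d').mpr hh.1, hh.2⟩
    rw [dif_neg hc, dif_neg hc']

theorem divFun_eq_zero_of_notMem_range (δ : X → ℤ) (d' : D) (g : X.residueField (i d')) (x : X)
    (hx : x ∉ Set.range (i : D → X)) : Cyc.divFun δ (i d') g x = 0 := by
  classical
  unfold Cyc.divFun
  rw [dif_neg]
  intro hh
  exact not_specializes_of_notMem_range i d' x hx hh.1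

/-- proper pushforward along a closed immersion preserves rational equivalence to zero -/
theorem ratEquivZero_map (δ : X → ℤ) (hX : Cyc.IsSetup X δ) (k : ℤ) (A : AlgebraicCycle D ℤ)
    (h : Cyc.RatEquivZero (fun d => δ (i d)) k A) :
    Cyc.RatEquivZero δ k (AlgebraicCycle.map i (fun d => δ (i d)) δ A) := by
  classical
  obtain ⟨I, ξ, f, hδ, hf, hlf, hsum⟩ := h
  let eκ : (d : D) → X.residueField (i d) ≃+* D.residueField d := fun d =>
    RingEquiv.ofBijective (i.residueFieldMap d).hom (residueFieldMap_bijective i d)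
  have heκ : ∀ (d : D) (z : D.residueField d),
      (i.residueFieldMap d).hom ((eκ d).symm z) = z := fun d z => (eκ d).apply_symm_apply z
  refine ⟨I, fun j => i (ξ j), fun j => (eκ (ξ j)).symm (f j), hδ, ?_, ?_, ?_⟩
  · intro j
    exact (map_ne_zero_iff _ (eκ (ξ j)).symm.injective).mpr (hf j)
  · intro x
    by_cases hx : x ∈ Set.range (i : D → X)
    · obtain ⟨d, rfl⟩ := hx
      obtain ⟨U, hUo, hdU, hfin⟩ := hlf d
      obtain ⟨V, hVo, hVU⟩ := i.isClosedEmbedding.isInducing.isOpen_iff.mp hUo
      refine ⟨V, hVo, ?_, hfin.subset ?_⟩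
      · have : d ∈ (i : D → X) ⁻¹' V := by rw [hVU]; exact hdU
        exact this
      · rintro j ⟨z, hz, hzV⟩
        have hcl : closure {i (ξ j)} = (i : D → X) '' closure {ξ j} := by
          rw [← i.isClosedEmbedding.closure_image_eq, Set.image_singleton]
        rw [hcl] at hz
        obtain ⟨z', hz', rfl⟩ := hz
        refine ⟨z', hz', ?_⟩
        rw [← hVU]
        exact hzV
    · refine ⟨(Set.range (i : D → X))ᶜ, i.isClosedEmbedding.isClosed_range.isOpen_compl, hx, ?_⟩
      convert Set.finite_empty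
      ext j
      simp only [Set.mem_setOf_eq, Set.mem_empty_iff_false, iff_false, Set.not_nonempty_iff_eq_empty]
      rw [Set.eq_empty_iff_forall_notMem]
      rintro z ⟨hz, hzc⟩
      exact hzc (closure_singleton_subset_range i (ξ j) hz)
  · intro x
    by_cases hx : x ∈ Set.range (i : D → X)
    · obtain ⟨d, rfl⟩ := hx
      rw [PullSec.map_apply_of_mem, hsum d]
      apply finsum_congr
      intro j
      rw [← divFun_eq i δ hX d (ξ j), heκ]
    · rw [PullSec.map_apply_of_notMem i δ A x hx]
      symm
      apply finsum_eq_zero_of_forall_eq_zero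
      intro j
      exact divFun_eq_zero_of_notMem_range i δ (ξ j) _ x hx

end Groth.Agent.Lib.Helper18.ClImm
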