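import Mathlib

/-!
# Lengths of cokernels: additivity, the index lemma
-/

set_option autoImplicit false
set_option linter.unusedSectionVars false
set_option linter.style.haveILetI false
universe u v

namespace Groth.Agent.Lib.Helper18.DL1

variable {A : Type*} [CommRing A] {M M' : Type*} [AddCommGroup M] [Module A M]
  [AddCommGroup M'] [Module A M']

/-- if `ι : M' → M` is injective with range `N₂ ⊇ N₁` then
`ℓ(M/N₁) = ℓ(M'/ι⁻¹N₁) + ℓ(M/N₂)` -/
theorem length_quotient_of_range (ι : M' →ₗ[A] M) (hι : Function.Injective ι)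
    (N₁ : Submodule A M) (h : N₁ ≤ LinearMap.range ι) :
    Module.length A (M ⧸ N₁) =
      Module.length A (M' ⧸ N₁.comap ι) + Module.length A (M ⧸ LinearMap.range ι) := by
  refine Module.length_eq_add_of_exact (Submodule.mapQ (N₁.comap ι) N₁ ι le_rfl)
    (Submodule.factor h) ?_ (Submodule.factor_surjective h) ?_
  · rw [← LinearMap.ker_eq_bot, Submodule.ker_mapQ]
    simp
  · intro z
    obtain ⟨m, rfl⟩ := Submodule.Quotient.mk_surjective _ z
    change Submodule.factor h (Submodule.mkQ _ m) = 0 ↔ _
    rw [Submodule.factor_mk, Submodule.mkQ_apply, Submodule.Quotient.mk_eq_zero]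
    constructor
    · rintro ⟨m', rfl⟩
      exact ⟨Submodule.Quotient.mk m', by simp⟩
    · rintro ⟨z', hz'⟩
      obtain ⟨m', rfl⟩ := Submodule.Quotient.mk_surjective _ z'
      rw [Submodule.mapQ_apply, Submodule.Quotient.eq] at hz'
      have h1 : ι m' - m ∈ LinearMap.range ι := h hz'
      have h2 : ι m' ∈ LinearMap.range ι := ⟨m', rfl⟩
      have := Submodule.sub_mem _ h2 h1
      simpa using this

/-- the cokernel of a composition of injective endomorphisms -/
theorem length_coker_comp (φ ψ : M →ₗ[A] M) (hφ : Function.Injective φ) :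
    Module.length A (M ⧸ LinearMap.range (φ ∘ₗ ψ)) =
      Module.length A (M ⧸ LinearMap.range ψ) + Module.length A (M ⧸ LinearMap.range φ) := by
  have h : LinearMap.range (φ ∘ₗ ψ) ≤ LinearMap.range φ := LinearMap.range_comp_le_range ψ φ
  rw [length_quotient_of_range φ hφ _ h]
  have e : (LinearMap.range (φ ∘ₗ ψ)).comap φ = LinearMap.range ψ := by
    ext m
    simp only [Submodule.mem_comap, LinearMap.mem_range, LinearMap.comp_apply]
    constructor
    · rintro ⟨m', hm'⟩
      exact ⟨m', hφ hm'⟩
    · rintro ⟨m', rfl⟩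
      exact ⟨m', rfl⟩
  rw [e]

/-- **Index lemma**: a `φ`-stable submodule of finite colength has the same cokernel length. -/
theorem length_coker_restrict (φ : M →ₗ[A] M) (hφ : Function.Injective φ) (F : Submodule A M)
    (hF : ∀ x ∈ F, φ x ∈ F) (hfin : Module.length A (M ⧸ F) ≠ ⊤) :
    Module.length A (F ⧸ LinearMap.range (φ.restrict hF)) =
      Module.length A (M ⧸ LinearMap.range φ) := by
  have hle1 : F.map φ ≤ LinearMap.range F.subtype := by
    rintro _ ⟨x, hx, rfl⟩
    exact ⟨⟨φ x, hF x hx⟩, rfl⟩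
  have hle2 : F.map φ ≤ LinearMap.range φ := by
    rintro _ ⟨x, -, rfl⟩
    exact ⟨x, rfl⟩
  have e1 := length_quotient_of_range F.subtype F.subtype_injective (F.map φ) hle1
  have e2 := length_quotient_of_range φ hφ (F.map φ) hle2
  have c1 : (F.map φ).comap F.subtype = LinearMap.range (φ.restrict hF) := by
    ext ⟨x, hx⟩
    simp only [Submodule.mem_comap, Submodule.subtype_apply, Submodule.mem_map,
      LinearMap.mem_range]
    constructor
    · rintro ⟨y, hy, hyx⟩
      exact ⟨⟨y, hy⟩, Subtype.ext hyx⟩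
    · rintro ⟨⟨y, hy⟩, hyx⟩
      exact ⟨y, hy, congrArg Subtype.val hyx⟩
  have c2 : (F.map φ).comap φ = F := by
    ext x
    simp only [Submodule.mem_comap, Submodule.mem_map]
    constructor
    · rintro ⟨y, hy, hyx⟩
      rwa [← hφ hyx]
    · intro hx
      exact ⟨x, hx, rfl⟩
  rw [c1, Submodule.range_subtype] at e1
  rw [c2] at e2
  rw [e1, add_comm] at e2
  exact (ENat.add_right_injective_of_ne_top hfin) e2

/-- cokernel of a composition of injective maps between different modules -/
theorem length_coker_comp' {M'' : Type*} [AddCommGroup M''] [Module A M''] (Φ : M' →ₗ[A] M)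
    (ψ : M'' →ₗ[A] M') (hΦ : Function.Injective Φ) :
    Module.length A (M ⧸ LinearMap.range (Φ ∘ₗ ψ)) =
      Module.length A (M' ⧸ LinearMap.range ψ) + Module.length A (M ⧸ LinearMap.range Φ) := by
  have h : LinearMap.range (Φ ∘ₗ ψ) ≤ LinearMap.range Φ := LinearMap.range_comp_le_range ψ Φ
  rw [length_quotient_of_range Φ hΦ _ h]
  have e : (LinearMap.range (Φ ∘ₗ ψ)).comap Φ = LinearMap.range ψ := by
    ext m
    simp only [Submodule.mem_comap, LinearMap.mem_range, LinearMap.comp_apply]
    constructor
    · rintro ⟨m', hm'⟩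
      exact ⟨m', hΦ hm'⟩
    · rintro ⟨m', rfl⟩
      exact ⟨m', rfl⟩
  rw [e]

/-- **Index lemma**, second form: an injective map `Φ : M' → M` of finite colength intertwining
injective endomorphisms `φ'` and `φ` identifies the lengths of their cokernels. -/
theorem length_coker_of_intertwine (Φ : M' →ₗ[A] M) (hΦ : Function.Injective Φ)
    (φ : M →ₗ[A] M) (hφ : Function.Injective φ) (φ' : M' →ₗ[A] M')
    (hcomm : Φ ∘ₗ φ' = φ ∘ₗ Φ) (hfin : Module.length A (M ⧸ LinearMap.range Φ) ≠ ⊤) :
    Module.length A (M' ⧸ LinearMap.range φ') = Module.length A (M ⧸ LinearMap.range φ) := by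
  have e1 := length_coker_comp' Φ φ' hΦ
  have e2 := length_coker_comp' φ Φ hφ
  rw [hcomm, e2] at e1
  have e3 : Module.length A (M ⧸ LinearMap.range Φ) + Module.length A (M ⧸ LinearMap.range φ) =
      Module.length A (M ⧸ LinearMap.range Φ) + Module.length A (M' ⧸ LinearMap.range φ') := by
    rw [e1, add_comm]
  exact ((ENat.add_right_injective_of_ne_top hfin) e3).symm

end Groth.Agent.Lib.Helper18.DL1
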