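import Mathlib
import Groth.Agent.Lib.Helper18.DL1

/-!
# The determinant lemma, free case: `ℓ(Aⁿ/N Aⁿ) = ord(det N)`
-/

set_option autoImplicit false
set_option linter.unusedSectionVars false
set_option linter.style.haveILetI false
universe u v

namespace Groth.Agent.Lib.Helper18.DL2

open Matrix Groth.Agent.Lib.Helper18.DL1

variable {A : Type u} [CommRing A] [IsDomain A]
variable {ι : Type*} [Fintype ι] [DecidableEq ι]

/-- the length of the cokernel of a square matrix -/
noncomputable def ck (N : Matrix ι ι A) : ℕ∞ :=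
  Module.length A ((ι → A) ⧸ LinearMap.range N.mulVecLin)

/-- the determinant lemma for the matrix `N` -/
def Q (N : Matrix ι ι A) : Prop := ck N = Ring.ord A N.det

theorem injective_mulVecLin {N : Matrix ι ι A} (hN : N.det ≠ 0) :
    Function.Injective N.mulVecLin := by
  rw [← LinearMap.ker_eq_bot, LinearMap.ker_eq_bot']
  intro v hv
  exact Matrix.eq_zero_of_mulVec_eq_zero hN hv

theorem ck_mul {N₁ N₂ : Matrix ι ι A} (hN₁ : N₁.det ≠ 0) :
    ck (N₁ * N₂) = ck N₂ + ck N₁ := by
  unfold ck
  rw [Matrix.mulVecLin_mul]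
  exact length_coker_comp _ _ (injective_mulVecLin hN₁)

theorem Q_mul {N₁ N₂ : Matrix ι ι A} (hN₁ : N₁.det ≠ 0) (hN₂ : N₂.det ≠ 0) (h₁ : Q N₁)
    (h₂ : Q N₂) : Q (N₁ * N₂) := by
  unfold Q at *
  rw [ck_mul hN₁, h₁, h₂, Matrix.det_mul, Ring.ord_mul A (mem_nonZeroDivisors_of_ne_zero hN₂),
    add_comm]

theorem Q_cancel_left [IsNoetherianRing A] [Ring.KrullDimLE 1 A] {N₁ N₂ : Matrix ι ι A}
    (hN₁ : N₁.det ≠ 0) (hN₂ : N₂.det ≠ 0) (h : Q (N₁ * N₂)) (h₁ : Q N₁) : Q N₂ := by
  unfold Q at *
  rw [ck_mul hN₁, h₁, Matrix.det_mul, Ring.ord_mul A (mem_nonZeroDivisors_of_ne_zero hN₂),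
    add_comm] at h
  exact (ENat.add_right_injective_of_ne_top
    (Ring.ord_ne_top (mem_nonZeroDivisors_of_ne_zero hN₁))) h

theorem ord_prod (s : Finset ι) (a : ι → A) (ha : ∀ i, a i ≠ 0) :
    Ring.ord A (∏ i ∈ s, a i) = ∑ i ∈ s, Ring.ord A (a i) := by
  classical
  induction s using Finset.induction_on with
  | empty => simp
  | insert i s hi ih =>
    rw [Finset.prod_insert hi, Finset.sum_insert hi,
      Ring.ord_mul A (mem_nonZeroDivisors_of_ne_zero (Finset.prod_ne_zero_iff.mpr fun j _ => ha j)),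
      ih]

theorem Q_diagonal (a : ι → A) (ha : ∀ i, a i ≠ 0) : Q (Matrix.diagonal a) := by
  unfold Q ck
  have hr : LinearMap.range (Matrix.diagonal a).mulVecLin =
      Submodule.pi Set.univ (fun i => (Ideal.span {a i} : Submodule A A)) := by
    ext v
    simp only [LinearMap.mem_range, Submodule.mem_pi, Set.mem_univ, forall_true_left]
    constructor
    · rintro ⟨w, rfl⟩ i
      rw [Matrix.mulVecLin_apply, Matrix.mulVec_diagonal]
      exact Ideal.mem_span_singleton'.mpr ⟨w i, mul_comm _ _⟩
    · intro h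
      choose w hw using fun i => Ideal.mem_span_singleton'.mp (h i)
      refine ⟨w, ?_⟩
      ext i
      rw [Matrix.mulVecLin_apply, Matrix.mulVec_diagonal, ← hw i, mul_comm]
  rw [hr, (Submodule.quotientPi _).length_eq, Module.length_pi_of_fintype, Matrix.det_diagonal,
    ord_prod _ _ ha]
  rfl

theorem Q_transvection (i j : ι) (hij : i ≠ j) (a : A) : Q (Matrix.transvection i j a) := by
  unfold Q ck
  rw [Matrix.det_transvection_of_ne i j hij, Ring.ord_one, Module.length_eq_zero_iff,
    Submodule.Quotient.subsingleton_iff, LinearMap.range_eq_top]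
  intro v
  refine ⟨(Matrix.transvection i j (-a)).mulVecLin v, ?_⟩
  rw [← LinearMap.comp_apply, ← Matrix.mulVecLin_mul,
    Matrix.transvection_mul_transvection_same i j hij, add_neg_cancel, Matrix.transvection_zero,
    Matrix.mulVecLin_one]
  rfl

theorem dummy : True := trivial

variable (K : Type v) [Field K] [Algebra A K] [IsFractionRing A K]

/-- the property used in the induction over `GL_n(K)` -/
def P (A : Type u) [CommRing A] [IsDomain A] [Algebra A K] (M : Matrix ι ι K) : Prop :=
  ∃ s : A, s ≠ 0 ∧ ∃ N : Matrix ι ι A,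
    N.map (algebraMap A K) = algebraMap A K s • M ∧ N.det ≠ 0 ∧ Q N

theorem P_mul {M₁ M₂ : Matrix ι ι K} (h₁ : P K A M₁) (h₂ : P K A M₂) : P K A (M₁ * M₂) := by
  obtain ⟨s₁, hs₁, N₁, e₁, d₁, q₁⟩ := h₁
  obtain ⟨s₂, hs₂, N₂, e₂, d₂, q₂⟩ := h₂
  refine ⟨s₁ * s₂, mul_ne_zero hs₁ hs₂, N₁ * N₂, ?_, ?_, Q_mul d₁ d₂ q₁ q₂⟩
  · rw [Matrix.map_mul, e₁, e₂, Matrix.smul_mul, Matrix.mul_smul, smul_smul, map_mul]
  · rw [Matrix.det_mul]
    exact mul_ne_zero d₁ d₂

theorem P_diagonal (D : ι → K) (hD : ∀ i, D i ≠ 0) : P K A (Matrix.diagonal D) := by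
  obtain ⟨b, hb⟩ := IsLocalization.exist_integer_multiples (nonZeroDivisors A) Finset.univ D
  choose a ha using fun i => hb i (Finset.mem_univ i)
  have hb0 : (b : A) ≠ 0 := nonZeroDivisors.coe_ne_zero b
  have hinj := IsFractionRing.injective A K
  have ha0 : ∀ i, a i ≠ 0 := by
    intro i h0
    have := ha i
    rw [h0, map_zero, Algebra.smul_def] at this
    exact mul_ne_zero ((map_ne_zero_iff _ hinj).mpr hb0) (hD i) this.symm
  refine ⟨b, hb0, Matrix.diagonal a, ?_, ?_, Q_diagonal a ha0⟩
  · rw [Matrix.diagonal_map (map_zero _), ← Matrix.diagonal_smul]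
    congr 1
    funext i
    rw [ha i, Pi.smul_apply, Algebra.smul_def, smul_eq_mul]
  · rw [Matrix.det_diagonal]
    exact Finset.prod_ne_zero_iff.mpr fun i _ => ha0 i

theorem P_map_transvection (i j : ι) (hij : i ≠ j) (a : A) :
    P K A ((Matrix.transvection i j a).map (algebraMap A K)) := by
  refine ⟨1, one_ne_zero, Matrix.transvection i j a, ?_, ?_, Q_transvection i j hij a⟩
  · rw [map_one, one_smul]
  · rw [Matrix.det_transvection_of_ne i j hij]
    exact one_ne_zero

theorem P_transvection (i j : ι) (hij : i ≠ j) (c : K) :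
    P K A (Matrix.transvection i j c) := by
  obtain ⟨⟨a, s⟩, hs⟩ := IsLocalization.surj (nonZeroDivisors A) c
  have hs' : c * algebraMap A K s = algebraMap A K a := hs
  have hs0 : (s : A) ≠ 0 := nonZeroDivisors.coe_ne_zero s
  have hinj := IsFractionRing.injective A K
  have hsK : algebraMap A K s ≠ 0 := (map_ne_zero_iff _ hinj).mpr hs0
  have e : Matrix.transvection i j c =
      Matrix.diagonal (fun k => if k = i then (algebraMap A K s)⁻¹ else 1) *
        (Matrix.transvection i j a).map (algebraMap A K) *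
        Matrix.diagonal (fun k => if k = i then algebraMap A K s else 1) := by
    ext k l
    rw [Matrix.mul_diagonal, Matrix.diagonal_mul, Matrix.map_apply]
    unfold Matrix.transvection
    rw [Matrix.add_apply, Matrix.add_apply, Matrix.one_apply, Matrix.one_apply,
      Matrix.single_apply, Matrix.single_apply, map_add]
    by_cases hkl : k = l
    · subst hkl
      have h1 : ¬ (i = k ∧ j = k) := fun h => hij (h.1.trans h.2.symm)
      rw [if_pos rfl, if_pos rfl, if_neg h1, if_neg h1, map_zero, add_zero, add_zero, map_one,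
        mul_one]
      split_ifs
      · exact (inv_mul_cancel₀ hsK).symm
      · exact (one_mul 1).symm
    · rw [if_neg hkl, if_neg hkl, map_zero, zero_add, zero_add]
      by_cases h2 : i = k ∧ j = l
      · rw [if_pos h2, if_pos h2, if_pos h2.1.symm, if_neg (fun h => hij (h2.2.trans h).symm),
          mul_one, ← hs', mul_comm c, ← mul_assoc, inv_mul_cancel₀ hsK, one_mul]
      · rw [if_neg h2, if_neg h2, map_zero, mul_zero, zero_mul]
  rw [e]
  refine P_mul K (P_mul K (P_diagonal K _ ?_) (P_map_transvection K i j hij a))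
    (P_diagonal K _ ?_)
  · intro k
    show (if k = i then (algebraMap A K s)⁻¹ else 1) ≠ 0
    split_ifs
    · exact inv_ne_zero hsK
    · exact one_ne_zero
  · intro k
    show (if k = i then algebraMap A K s else 1) ≠ 0
    split_ifs
    · exact hsK
    · exact one_ne_zero

theorem P_of_det_ne_zero (M : Matrix ι ι K) (hM : M.det ≠ 0) : P K A M := by
  refine Matrix.diagonal_transvection_induction_of_det_ne_zero (P K A) M hM ?_ ?_ ?_
  · intro D hD
    rw [Matrix.det_diagonal] at hD
    exact P_diagonal K D fun i => (Finset.prod_ne_zero_iff.mp hD) i (Finset.mem_univ i)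
  · intro t
    exact P_transvection K t.i t.j t.hij t.c
  · intro M₁ M₂ _ _ h₁ h₂
    exact P_mul K h₁ h₂

/-- **The determinant lemma, free case.** -/
theorem length_coker_eq_ord_det [IsNoetherianRing A] [Ring.KrullDimLE 1 A] (N : Matrix ι ι A)
    (hN : N.det ≠ 0) :
    Module.length A ((ι → A) ⧸ LinearMap.range N.mulVecLin) = Ring.ord A N.det := by
  have hinj := IsFractionRing.injective A (FractionRing A)
  have hM : (N.map (algebraMap A (FractionRing A))).det ≠ 0 := by
    have : (N.map (algebraMap A (FractionRing A))).det = algebraMap A (FractionRing A) N.det :=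
      ((algebraMap A (FractionRing A)).map_det N).symm
    rw [this]
    exact (map_ne_zero_iff _ hinj).mpr hN
  obtain ⟨s, hs, N', e, d, q⟩ := P_of_det_ne_zero (A := A) (FractionRing A) _ hM
  have e' : N' = Matrix.diagonal (fun _ => s) * N := by
    rw [← Matrix.smul_eq_diagonal_mul]
    apply Matrix.map_injective hinj
    change N'.map _ = (s • N).map _
    rw [e]
    ext k l
    simp only [Matrix.map_apply, Matrix.smul_apply, smul_eq_mul, map_mul]
  rw [e'] at q
  have hds : (Matrix.diagonal (fun _ : ι => s)).det ≠ 0 := by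
    rw [Matrix.det_diagonal]
    exact Finset.prod_ne_zero_iff.mpr fun _ _ => hs
  exact Q_cancel_left hds hN q (Q_diagonal _ fun _ => hs)

end Groth.Agent.Lib.Helper18.DL2
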