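import Mathlib
import Groth.Prelude.Def_Tame
import Groth.Agent.Lib.Helper26.OrdZ
import Groth.Agent.Lib.Helper18.DL2

/-!
# The determinant lemma: `ℓ_A(B/bB) = ord_A(Nm b)` for a finite torsion-free domain extension
-/

set_option autoImplicit false
set_option linter.unusedSectionVars false
set_option linter.style.haveILetI false
universe u v

namespace Groth.Agent.Lib.Helper18.DL3

open Matrix Groth.Agent.Lib.Helper18.DL1 Groth.Agent.Lib.Helper18.DL2
open scoped nonZeroDivisors

variable {A B : Type u} {K L : Type v} [CommRing A] [IsDomain A]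
  [CommRing B] [IsDomain B] [Algebra A B] [Module.Finite A B] [FaithfulSMul A B]
  [Field K] [Algebra A K] [IsFractionRing A K]
  [Field L] [Algebra B L] [IsFractionRing B L] [Algebra K L] [Algebra A L] [IsScalarTower A K L]
  [IsScalarTower A B L]

include A B in
theorem finite_KL : Module.Finite K L := by
  haveI : Algebra.IsAlgebraic A B := Algebra.IsIntegral.isAlgebraic
  exact Module.Finite.of_isLocalization A B A⁰

/-- every element of `L` becomes an element of `B` after multiplication by a nonzero element
of `A` -/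
theorem exists_smul_eq (x : L) : ∃ (a : A) (β : B), a ≠ 0 ∧ algebraMap K L (algebraMap A K a) * x =
    algebraMap B L β := by
  haveI : Algebra.IsAlgebraic A B := Algebra.IsIntegral.isAlgebraic
  obtain ⟨⟨β, s⟩, hs⟩ := IsLocalization.surj (Algebra.algebraMapSubmonoid B A⁰) x
  obtain ⟨a, ha, has⟩ := s.2
  refine ⟨a, β, nonZeroDivisors.ne_zero ha, ?_⟩
  have h1 : x * algebraMap B L s.1 = algebraMap B L β := hs
  rw [← h1, ← has, ← IsScalarTower.algebraMap_apply, ← IsScalarTower.algebraMap_apply, mul_comm]

include A in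
/-- a `K`-basis of `L` consisting of elements of `B` -/
theorem exists_basis :
    ∃ (d : ℕ) (e : Module.Basis (Fin d) K L) (β : Fin d → B), ∀ i, e i = algebraMap B L (β i) := by
  haveI : Module.Finite K L := finite_KL (A := A) (B := B)
  let v := Module.finBasis K L
  choose a β ha hβ using fun i => exists_smul_eq (A := A) (B := B) (K := K) (v i)
  have hinj := IsFractionRing.injective A K
  have hu : ∀ i, IsUnit (algebraMap A K (a i)) := fun i =>
    isUnit_iff_ne_zero.mpr ((map_ne_zero_iff _ hinj).mpr (ha i))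
  refine ⟨_, v.isUnitSMul hu, β, fun i => ?_⟩
  rw [Module.Basis.isUnitSMul_apply, ← hβ i, Algebra.smul_def]

section WithBasis

variable {d : ℕ} (e : Module.Basis (Fin d) K L) (β : Fin d → B)
  (he : ∀ i, e i = algebraMap B L (β i))

/-- the embedding of the free lattice -/
noncomputable def Φ : (Fin d → A) →ₗ[A] B := Fintype.linearCombination A β

theorem Φ_apply (w : Fin d → A) : Φ β w = ∑ i, w i • β i := rfl

include he in
theorem map_Φ (w : Fin d → A) :
    algebraMap B L (Φ β w) = ∑ i, algebraMap A K (w i) • e i := by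
  rw [Φ_apply, map_sum]
  refine Finset.sum_congr rfl fun i _ => ?_
  rw [he i, Algebra.smul_def, map_mul, ← IsScalarTower.algebraMap_apply,
    Algebra.smul_def, ← IsScalarTower.algebraMap_apply]

include he in
theorem Φ_injective : Function.Injective (Φ (A := A) β) := by
  rw [← LinearMap.ker_eq_bot, LinearMap.ker_eq_bot']
  intro w hw
  have h1 := map_Φ e β he w
  rw [hw, map_zero] at h1
  have h2 := (Fintype.linearIndependent_iff.mp e.linearIndependent) _ h1.symm
  funext i
  exact (map_eq_zero_iff _ (IsFractionRing.injective A K)).mp (h2 i)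

include he in
/-- a common denominator: `a • B` is contained in the free lattice -/
theorem exists_smul_mem_range : ∃ a : A, a ≠ 0 ∧ ∀ x : B, ∃ w, Φ (A := A) β w = a • x := by
  classical
  obtain ⟨m, g, hg⟩ := Module.Finite.exists_fin (R := A) (M := B)
  obtain ⟨b, hb⟩ := IsLocalization.exist_integer_multiples A⁰
    (Finset.univ : Finset (Fin m × Fin d)) (fun p => e.repr (algebraMap B L (g p.1)) p.2)
  choose n hn using fun p => hb p (Finset.mem_univ p)
  have hinjB : Function.Injective (algebraMap B L) := IsFractionRing.injective B L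
  refine ⟨b, nonZeroDivisors.coe_ne_zero b, ?_⟩
  have hgen : ∀ j, Φ β (fun i => n (j, i)) = (b : A) • g j := by
    intro j
    apply hinjB
    rw [map_Φ e β he]
    have h1 : algebraMap B L ((b : A) • g j) = algebraMap A K (b : A) • algebraMap B L (g j) := by
      rw [Algebra.smul_def, map_mul, ← IsScalarTower.algebraMap_apply, Algebra.smul_def,
        ← IsScalarTower.algebraMap_apply]
    rw [h1]
    conv_rhs => rw [← e.sum_repr (algebraMap B L (g j)), Finset.smul_sum]
    refine Finset.sum_congr rfl fun i _ => ?_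
    rw [hn (j, i), smul_smul, Algebra.smul_def (b : A)]
  intro x
  have hx : x ∈ Submodule.span A (Set.range g) := by rw [hg]; trivial
  obtain ⟨c, rfl⟩ := (Submodule.mem_span_range_iff_exists_fun A).mp hx
  refine ⟨∑ j, c j • (fun i => n (j, i)), ?_⟩
  rw [map_sum, Finset.smul_sum]
  refine Finset.sum_congr rfl fun j _ => ?_
  rw [map_smul, hgen j, smul_comm]

include he in
theorem length_quot_range_ne_top [IsNoetherianRing A] [Ring.KrullDimLE 1 A] :
    Module.length A (B ⧸ LinearMap.range (Φ (A := A) β)) ≠ ⊤ := by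
  classical
  obtain ⟨a, ha, hmem⟩ := exists_smul_mem_range (A := A) e β he
  obtain ⟨m, g, hg⟩ := Module.Finite.exists_fin (R := A) (M := B)
  let G : (Fin m → A) →ₗ[A] B := Fintype.linearCombination A g
  have hGsurj : Function.Surjective G := by
    rw [← LinearMap.range_eq_top, Fintype.range_linearCombination, hg]
  let q : B →ₗ[A] B ⧸ LinearMap.range (Φ (A := A) β) := Submodule.mkQ _
  have hker : LinearMap.range (Matrix.diagonal (fun _ : Fin m => a)).mulVecLin ≤
      LinearMap.ker (q ∘ₗ G) := by
    rintro _ ⟨w, rfl⟩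
    rw [LinearMap.mem_ker, LinearMap.comp_apply, Submodule.mkQ_apply,
      Submodule.Quotient.mk_eq_zero]
    have h1 : (Matrix.diagonal (fun _ : Fin m => a)).mulVecLin w = a • w := by
      ext i
      rw [Matrix.mulVecLin_apply, Matrix.mulVec_diagonal, Pi.smul_apply, smul_eq_mul]
    rw [h1, map_smul]
    obtain ⟨w', hw'⟩ := hmem (G w)
    exact ⟨w', hw'⟩
  have hsurj : Function.Surjective (Submodule.liftQ _ (q ∘ₗ G) hker) := by
    intro z
    obtain ⟨x, rfl⟩ := Submodule.mkQ_surjective _ z
    obtain ⟨w, rfl⟩ := hGsurj x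
    exact ⟨Submodule.Quotient.mk w, rfl⟩
  have hle := Module.length_le_of_surjective _ hsurj
  have hQ : ck (Matrix.diagonal (fun _ : Fin m => a)) = _ := Q_diagonal (fun _ : Fin m => a)
    (fun _ => ha)
  have hfin : ck (Matrix.diagonal (fun _ : Fin m => a)) ≠ ⊤ := by
    rw [hQ]
    apply Ring.ord_ne_top
    apply mem_nonZeroDivisors_of_ne_zero
    rw [Matrix.det_diagonal]
    exact Finset.prod_ne_zero_iff.mpr fun _ _ => ha
  exact ne_top_of_le_ne_top hfin hle

end WithBasis

section Main

variable {d : ℕ} (e : Module.Basis (Fin d) K L) (β : Fin d → B)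
  (he : ∀ i, e i = algebraMap B L (β i))

theorem Φ_single (j : Fin d) : Φ (A := A) β (Pi.single j 1) = β j := by
  rw [Φ_apply, Finset.sum_eq_single j]
  · rw [Pi.single_eq_same, one_smul]
  · intro i _ hij
    rw [Pi.single_eq_of_ne hij, zero_smul]
  · intro h
    exact absurd (Finset.mem_univ j) h

theorem intertwine_N (a : A) (b : B) (N : Matrix (Fin d) (Fin d) A)
    (hN : ∀ j, Φ (A := A) β (fun i => N i j) = a • (b * β j)) :
    Φ β ∘ₗ N.mulVecLin = LinearMap.mulLeft A (algebraMap A B a * b) ∘ₗ Φ β := by
  apply LinearMap.pi_ext'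
  intro j
  apply LinearMap.ext_ring
  rw [LinearMap.comp_apply, LinearMap.comp_apply, LinearMap.comp_apply, LinearMap.single_apply,
    LinearMap.comp_apply]
  have h1 : N.mulVecLin (Pi.single j 1) = fun i => N i j := by
    ext i
    rw [Matrix.mulVecLin_apply, Matrix.mulVec_single_one]
    rfl
  rw [h1, Φ_single, hN j, LinearMap.mulLeft_apply, Algebra.smul_def, mul_assoc]

theorem intertwine_diag (a : A) :
    Φ β ∘ₗ (Matrix.diagonal (fun _ : Fin d => a)).mulVecLin =
      LinearMap.mulLeft A (algebraMap A B a) ∘ₗ Φ β := by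
  apply LinearMap.ext
  intro w
  rw [LinearMap.comp_apply, LinearMap.comp_apply]
  have h1 : (Matrix.diagonal (fun _ : Fin d => a)).mulVecLin w = a • w := by
    ext i
    rw [Matrix.mulVecLin_apply, Matrix.mulVec_diagonal, Pi.smul_apply, smul_eq_mul]
  rw [h1, map_smul, LinearMap.mulLeft_apply, Algebra.smul_def]

include he in
theorem map_N (a : A) (b : B) (N : Matrix (Fin d) (Fin d) A)
    (hN : ∀ j, Φ (A := A) β (fun i => N i j) = a • (b * β j)) :
    N.map (algebraMap A K) =
      algebraMap A K a • Algebra.leftMulMatrix e (algebraMap B L b) := by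
  ext i j
  rw [Matrix.map_apply, Matrix.smul_apply, Algebra.leftMulMatrix_eq_repr_mul, smul_eq_mul]
  have h1 := map_Φ e β he (fun i => N i j)
  rw [hN j] at h1
  have h2 : algebraMap B L (a • (b * β j)) =
      algebraMap A K a • (algebraMap B L b * e j) := by
    rw [Algebra.smul_def, map_mul, map_mul, ← IsScalarTower.algebraMap_apply, he j,
      Algebra.smul_def, ← IsScalarTower.algebraMap_apply]
  rw [h2] at h1
  have h3 := congrArg (fun z => e.repr z i) h1
  simp only [map_smul, Finsupp.smul_apply, smul_eq_mul] at h3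
  rw [h3, e.repr_sum_self]

theorem length_quot_mulLeft (b : B) :
    Module.length A (B ⧸ LinearMap.range (LinearMap.mulLeft A b)) =
      Module.length A (B ⧸ Ideal.span {b}) := by
  have hrange : LinearMap.range (LinearMap.mulLeft A b) = (Ideal.span {b}).restrictScalars A := by
    ext x
    simp only [LinearMap.mem_range, Submodule.restrictScalars_mem, LinearMap.mulLeft_apply]
    rw [Ideal.mem_span_singleton']
    constructor
    · rintro ⟨y, rfl⟩
      exact ⟨y, mul_comm _ _⟩
    · rintro ⟨y, rfl⟩
      exact ⟨y, mul_comm _ _⟩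
  rw [hrange]
  exact (Submodule.Quotient.restrictScalarsEquiv A (Ideal.span {b})).length_eq

set_option maxHeartbeats 400000 in
include he in
theorem lengths_aux [IsNoetherianRing A] [Ring.KrullDimLE 1 A] (a : A) (ha : a ≠ 0) (b : B)
    (hb : b ≠ 0) (N : Matrix (Fin d) (Fin d) A)
    (hN : ∀ j, Φ (A := A) β (fun i => N i j) = a • (b * β j)) (hdet0 : N.det ≠ 0) :
    Ring.ord A N.det = Module.length A (B ⧸ Ideal.span {b}) + Ring.ord A (a ^ d) := by
  classical
  have hinjAB : Function.Injective (algebraMap A B) := FaithfulSMul.algebraMap_injective A B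
  have haB : algebraMap A B a ≠ 0 := (map_ne_zero_iff _ hinjAB).mpr ha
  have hμb : Function.Injective (LinearMap.mulLeft A b) := fun x y h => mul_left_cancel₀ hb h
  have hμa : Function.Injective (LinearMap.mulLeft A (algebraMap A B a)) :=
    fun x y h => mul_left_cancel₀ haB h
  have hμab : Function.Injective (LinearMap.mulLeft A (algebraMap A B a * b)) :=
    fun x y h => mul_left_cancel₀ (mul_ne_zero haB hb) h
  have hΦ := Φ_injective (A := A) e β he
  have hfin := length_quot_range_ne_top (A := A) e β he
  have h1 := intertwine_N β a b N hN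
  have h2 := intertwine_diag (A := A) β a
  have e1 := length_coker_of_intertwine (A := A) (M := B) (M' := Fin d → A) (Φ β) hΦ
    (LinearMap.mulLeft A (algebraMap A B a * b)) hμab N.mulVecLin h1 hfin
  have e2 := length_coker_of_intertwine (A := A) (M := B) (M' := Fin d → A) (Φ β) hΦ
    (LinearMap.mulLeft A (algebraMap A B a)) hμa
    (Matrix.diagonal (fun _ : Fin d => a)).mulVecLin h2 hfin
  have e3 := length_coker_comp (A := A) (M := B) (LinearMap.mulLeft A (algebraMap A B a))
    (LinearMap.mulLeft A b) hμa
  have hcomp : LinearMap.mulLeft A (algebraMap A B a) ∘ₗ LinearMap.mulLeft A b =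
      LinearMap.mulLeft A (algebraMap A B a * b) := by
    apply LinearMap.ext
    intro x
    rw [LinearMap.comp_apply, LinearMap.mulLeft_apply, LinearMap.mulLeft_apply,
      LinearMap.mulLeft_apply, mul_assoc]
  rw [hcomp] at e3
  have q1 := length_coker_eq_ord_det N hdet0
  have hdd : (Matrix.diagonal (fun _ : Fin d => a)).det = a ^ d := by
    rw [Matrix.det_diagonal, Finset.prod_const, Finset.card_univ, Fintype.card_fin]
  have had0 : a ^ d ≠ 0 := pow_ne_zero _ ha
  have q2 := length_coker_eq_ord_det (Matrix.diagonal (fun _ : Fin d => a)) (by rwa [hdd])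
  rw [hdd] at q2
  rw [← q1, e1, e3, ← e2, q2, length_quot_mulLeft]

end Main

/-- the data of the determinant lemma -/
theorem exists_matrix_data [IsNoetherianRing A] [Ring.KrullDimLE 1 A] (b : B) (hb : b ≠ 0) :
    ∃ (d : ℕ) (a : A) (N : Matrix (Fin d) (Fin d) A), a ≠ 0 ∧ N.det ≠ 0 ∧
      algebraMap A K N.det = algebraMap A K (a ^ d) * Algebra.norm K (algebraMap B L b) ∧
      Algebra.norm K (algebraMap B L b) ≠ 0 ∧
      Ring.ord A N.det = Module.length A (B ⧸ Ideal.span {b}) + Ring.ord A (a ^ d) := by
  classical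
  obtain ⟨d, e, β, he⟩ := exists_basis (A := A) (B := B) (K := K) (L := L)
  obtain ⟨a, ha, hmem⟩ := exists_smul_mem_range (A := A) e β he
  have hinjK := IsFractionRing.injective A K
  have hinjB : Function.Injective (algebraMap B L) := IsFractionRing.injective B L
  have haK : algebraMap A K a ≠ 0 := (map_ne_zero_iff _ hinjK).mpr ha
  choose W hW using fun j => hmem (b * β j)
  have hNmap := map_N e β he a b (Matrix.of fun i j => W j i) hW
  have hnorm : Algebra.norm K (algebraMap B L b) ≠ 0 := by
    haveI : Module.Finite K L := finite_KL (A := A) (B := B)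
    rw [Ne, Algebra.norm_eq_zero_iff]
    exact (map_ne_zero_iff _ hinjB).mpr hb
  have hdet : algebraMap A K (Matrix.of fun i j => W j i).det =
      algebraMap A K (a ^ d) * Algebra.norm K (algebraMap B L b) := by
    rw [RingHom.map_det, RingHom.mapMatrix_apply, hNmap, Matrix.det_smul,
      ← Algebra.norm_eq_matrix_det, Fintype.card_fin, map_pow]
  have hdet0 : (Matrix.of fun i j => W j i).det ≠ 0 := by
    intro h0
    rw [h0, map_zero] at hdet
    exact mul_ne_zero (by rw [map_pow]; exact pow_ne_zero _ haK) hnorm hdet.symm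
  exact ⟨d, a, Matrix.of fun i j => W j i, ha, hdet0, hdet, hnorm,
    lengths_aux e β he a ha b hb (Matrix.of fun i j => W j i) hW hdet0⟩

include K L in
/-- finiteness of the length of `B/bB` -/
theorem length_quot_span_ne_top [IsNoetherianRing A] [Ring.KrullDimLE 1 A] (b : B) (hb : b ≠ 0) :
    Module.length A (B ⧸ Ideal.span {b}) ≠ ⊤ := by
  obtain ⟨d, a, N, ha, hdet0, -, -, hlen⟩ := exists_matrix_data (A := A) (K := K) (L := L) b hb
  intro htop
  have : Ring.ord A N.det = ⊤ := by rw [hlen, htop, top_add]
  exact Ring.ord_ne_top (mem_nonZeroDivisors_of_ne_zero hdet0) this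

/-- **The determinant lemma**: for a finite injective extension of domains `A ⊆ B` with `A`
Noetherian of dimension `≤ 1`, `ℓ_A(B/bB) = ord_A(Nm_{L/K} b)`. -/
theorem ordFrac_norm_eq_length [IsNoetherianRing A] [Ring.KrullDimLE 1 A] (b : B) (hb : b ≠ 0) :
    CycAlg.ordFrac A K (Algebra.norm K (algebraMap B L b)) =
      ((Module.length A (B ⧸ Ideal.span {b})).toNat : ℤ) := by
  obtain ⟨d, a, N, ha, hdet0, hdet, hnorm, hlen⟩ := exists_matrix_data (A := A) (K := K) (L := L) b hb
  have hinjK := IsFractionRing.injective A K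
  have had0 : a ^ d ≠ 0 := pow_ne_zero _ ha
  have hord : CycAlg.ordFrac A K (algebraMap A K N.det) =
      CycAlg.ordFrac A K (algebraMap A K (a ^ d)) +
        CycAlg.ordFrac A K (Algebra.norm K (algebraMap B L b)) := by
    rw [hdet]
    exact Groth.Agent.Lib.Helper26.OrdZ.ordFrac_mul
      ((map_ne_zero_iff _ hinjK).mpr had0) hnorm
  rw [Groth.Agent.Lib.Helper26.OrdZ.ordFrac_algebraMap hdet0,
    Groth.Agent.Lib.Helper26.OrdZ.ordFrac_algebraMap had0, hlen] at hord
  have hfa : Ring.ord A (a ^ d) ≠ ⊤ := Ring.ord_ne_top (mem_nonZeroDivisors_of_ne_zero had0)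
  have hfb := length_quot_span_ne_top (A := A) (K := K) (L := L) b hb
  rw [ENat.toNat_add hfb hfa] at hord
  push_cast at hord
  linarith

end Groth.Agent.Lib.Helper18.DL3
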