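import Mathlib
import Groth.Agent.Lib.Helper18.DL3

/-!
# Lengths over a local ring of Artinian algebras; the localized extension
-/

set_option autoImplicit false
set_option linter.unusedSectionVars false
set_option linter.style.haveILetI false
universe u v

namespace Groth.Agent.Lib.Helper18.DL4

open scoped nonZeroDivisors

/-- an Artinian algebra is the product of its localizations: lengths add up -/
theorem length_eq_sum_localization (A E : Type*) [CommRing A] [CommRing E] [Algebra A E]
    [IsArtinianRing E] [Fintype (PrimeSpectrum E)] :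
    Module.length A E = ∑ p : PrimeSpectrum E, Module.length A (Localization.AtPrime p.asIdeal) :=
  ((PrimeSpectrum.toPiLocalizationEquiv E).restrictScalars A).toLinearEquiv.length_eq.trans
    (Module.length_pi_of_fintype A _)

section Setup

variable {R D : Type u} [CommRing R] [IsDomain R] [CommRing D] [IsDomain D] [Algebra R D]
  [Module.Finite R D] [FaithfulSMul R D] (q : Ideal R) [q.IsPrime]
  (A₀ : Type u) [CommRing A₀] [IsDomain A₀] [Algebra R A₀] [IsLocalization.AtPrime A₀ q]

/-- the localization of `D` at `q` -/
abbrev Dq : Type u := Localization (Algebra.algebraMapSubmonoid D q.primeCompl)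

noncomputable instance algA₀Dq : Algebra A₀ (Dq (D := D) q) := localizationAlgebra q.primeCompl D

instance towerRA₀Dq : IsScalarTower R A₀ (Dq (D := D) q) :=
  isScalarTower_localizationAlgebra q.primeCompl D

instance finiteA₀Dq : Module.Finite A₀ (Dq (D := D) q) :=
  Module.Finite.of_isLocalization R D q.primeCompl

instance faithfulA₀Dq : FaithfulSMul A₀ (Dq (D := D) q) := by
  rw [faithfulSMul_iff_algebraMap_injective]
  exact localizationAlgebra_injective (Rₘ := A₀) (Sₘ := Dq (D := D) q)
    (FaithfulSMul.algebraMap_injective R D)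

end Setup

section Fields

variable {R D : Type u} [CommRing R] [IsDomain R] [CommRing D] [IsDomain D] [Algebra R D]
  [Module.Finite R D] [FaithfulSMul R D] (q : Ideal R) [q.IsPrime]
  (A₀ : Type u) [CommRing A₀] [IsDomain A₀] [Algebra R A₀] [IsLocalization.AtPrime A₀ q]
  {K L : Type v} [Field K] [Field L] [Algebra A₀ K] [IsFractionRing A₀ K] [Algebra R K]
  [IsScalarTower R A₀ K] [Algebra D L] [IsFractionRing D L] [Algebra K L] [Algebra R L]
  [IsScalarTower R D L] [IsScalarTower R K L]

theorem isUnit_algebraMap_of_mem (y : Algebra.algebraMapSubmonoid D q.primeCompl) :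
    IsUnit (algebraMap D L y) := by
  obtain ⟨s, hs, hsy⟩ := y.2
  rw [isUnit_iff_ne_zero, ← hsy]
  have hs0 : s ≠ 0 := by
    rintro rfl
    exact hs (Ideal.zero_mem q)
  exact (map_ne_zero_iff _ (IsFractionRing.injective D L)).mpr
    ((map_ne_zero_iff _ (FaithfulSMul.algebraMap_injective R D)).mpr hs0)

/-- **The determinant lemma for the localized extension** `A₀ = R_q → D_q`. -/
theorem ordFrac_norm_eq_length_Dq [IsNoetherianRing A₀] [Ring.KrullDimLE 1 A₀] (b : D)
    (hb : b ≠ 0) :
    CycAlg.ordFrac A₀ K (Algebra.norm K (algebraMap D L b)) =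
      ((Module.length A₀ (Dq (D := D) q ⧸
        (Ideal.span {b}).map (algebraMap D (Dq (D := D) q)))).toNat : ℤ) ∧
    Module.length A₀ (Dq (D := D) q ⧸
        (Ideal.span {b}).map (algebraMap D (Dq (D := D) q))) ≠ ⊤ := by
  letI algDqL : Algebra (Dq (D := D) q) L :=
    (IsLocalization.lift (M := Algebra.algebraMapSubmonoid D q.primeCompl)
      (g := algebraMap D L) (isUnit_algebraMap_of_mem q)).toAlgebra
  haveI : IsScalarTower D (Dq (D := D) q) L :=
    IsScalarTower.of_algebraMap_eq fun x => (IsLocalization.lift_eq _ x).symm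
  haveI : IsFractionRing (Dq (D := D) q) L :=
    IsFractionRing.isFractionRing_of_isDomain_of_isLocalization
      (Algebra.algebraMapSubmonoid D q.primeCompl) (Dq (D := D) q) L
  letI algA₀L : Algebra A₀ L := ((algebraMap K L).comp (algebraMap A₀ K)).toAlgebra
  haveI : IsScalarTower A₀ K L := IsScalarTower.of_algebraMap_eq fun x => rfl
  haveI : IsScalarTower A₀ (Dq (D := D) q) L := by
    apply IsScalarTower.of_algebraMap_eq'
    apply IsLocalization.ringHom_ext q.primeCompl (S := A₀)
    ext r
    simp only [RingHom.coe_comp, Function.comp_apply]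
    change algebraMap K L (algebraMap A₀ K (algebraMap R A₀ r)) = _
    rw [← IsScalarTower.algebraMap_apply R A₀ K, ← IsScalarTower.algebraMap_apply R K L,
      ← IsScalarTower.algebraMap_apply R A₀ (Dq (D := D) q),
      IsScalarTower.algebraMap_apply R D (Dq (D := D) q),
      ← IsScalarTower.algebraMap_apply D (Dq (D := D) q) L,
      ← IsScalarTower.algebraMap_apply R D L]
  have hb' : algebraMap D (Dq (D := D) q) b ≠ 0 := by
    intro h0
    have h1 : algebraMap D L b = 0 := by
      rw [IsScalarTower.algebraMap_apply D (Dq (D := D) q) L, h0, map_zero]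
    exact hb ((map_eq_zero_iff _ (IsFractionRing.injective D L)).mp h1)
  have key := Groth.Agent.Lib.Helper18.DL3.ordFrac_norm_eq_length (A := A₀)
    (B := Dq (D := D) q) (K := K) (L := L) (algebraMap D (Dq (D := D) q) b) hb'
  have key2 := Groth.Agent.Lib.Helper18.DL3.length_quot_span_ne_top (A := A₀)
    (B := Dq (D := D) q) (K := K) (L := L) (algebraMap D (Dq (D := D) q) b) hb'
  rw [← IsScalarTower.algebraMap_apply D (Dq (D := D) q) L] at key
  rw [key, Ideal.map_span, Set.image_singleton]
  exact ⟨rfl, key2⟩

end Fields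

end Groth.Agent.Lib.Helper18.DL4
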