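import Mathlib
import Groth.Agent.Lib.Helper18.DL4

/-!
# Decomposition of `ℓ(D_q/bD_q)` into local terms
-/

set_option autoImplicit false
set_option linter.unusedSectionVars false
set_option linter.style.haveILetI false
universe u v

namespace Groth.Agent.Lib.Helper18.DL5

open Groth.Agent.Lib.Helper18.DL4

section

variable {R D : Type u} [CommRing R] [IsDomain R] [CommRing D] [IsDomain D] [Algebra R D]
  [Module.Finite R D] [FaithfulSMul R D] (q : Ideal R) [q.IsPrime]
  (A₀ : Type u) [CommRing A₀] [IsDomain A₀] [Algebra R A₀] [IsLocalization.AtPrime A₀ q]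
  (b : D)

/-- the Artinian quotient `D_q / b D_q` -/
abbrev E : Type u := Dq (D := D) q ⧸ (Ideal.span {b}).map (algebraMap D (Dq (D := D) q))

theorem algebraMap_D_E (x : D) :
    algebraMap D (E q b) x = Ideal.Quotient.mk _ (algebraMap D (Dq (D := D) q) x) := rfl

theorem algebraMap_A₀_E (a : A₀) :
    algebraMap A₀ (E q b) a = Ideal.Quotient.mk _ (algebraMap A₀ (Dq (D := D) q) a) := rfl

theorem algebraMap_quot_E (x : D) :
    algebraMap (D ⧸ Ideal.span {b}) (E q b) (Ideal.Quotient.mk _ x) =
      Ideal.Quotient.mk _ (algebraMap D (Dq (D := D) q) x) := rfl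

/-- the local comparison -/
theorem length_localization_eq (p : PrimeSpectrum (E q b)) (T : Type u) [CommRing T]
    [Algebra A₀ T] [Algebra D T] [Algebra R T] [IsScalarTower R A₀ T] [IsScalarTower R D T]
    [IsLocalization.AtPrime T (p.asIdeal.comap (algebraMap D (E q b)))] :
    Module.length A₀ (Localization.AtPrime p.asIdeal) =
      Module.length A₀ (T ⧸ (Ideal.span {b}).map (algebraMap D T)) := by
  set I : Ideal D := Ideal.span {b} with hI
  haveI h1 : IsLocalization.AtPrime (Localization.AtPrime p.asIdeal)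
      (p.asIdeal.comap (algebraMap (D ⧸ I) (E q b))) :=
    IsLocalization.isLocalization_isLocalization_atPrime_isLocalization
      (Algebra.algebraMapSubmonoid (D ⧸ I) (Algebra.algebraMapSubmonoid D q.primeCompl)) _
      p.asIdeal
  have hsub : Algebra.algebraMapSubmonoid (D ⧸ I)
      (p.asIdeal.comap (algebraMap D (E q b))).primeCompl =
      (p.asIdeal.comap (algebraMap (D ⧸ I) (E q b))).primeCompl := by
    ext x
    constructor
    · rintro ⟨d, hd, rfl⟩
      exact hd
    · intro hx
      obtain ⟨d, rfl⟩ := Ideal.Quotient.mk_surjective x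
      exact ⟨d, hx, rfl⟩
  haveI h2 : IsLocalization (p.asIdeal.comap (algebraMap (D ⧸ I) (E q b))).primeCompl
      (T ⧸ I.map (algebraMap D T)) := by
    rw [← hsub]
    infer_instance
  let ε := IsLocalization.algEquiv (p.asIdeal.comap (algebraMap (D ⧸ I) (E q b))).primeCompl
    (Localization.AtPrime p.asIdeal) (T ⧸ I.map (algebraMap D T))
  have hcompat : ∀ a : A₀, ε (algebraMap A₀ (Localization.AtPrime p.asIdeal) a) =
      algebraMap A₀ (T ⧸ I.map (algebraMap D T)) a := by
    have : ((ε : Localization.AtPrime p.asIdeal →+* T ⧸ I.map (algebraMap D T)).comp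
        (algebraMap A₀ (Localization.AtPrime p.asIdeal))) =
        algebraMap A₀ (T ⧸ I.map (algebraMap D T)) := by
      apply IsLocalization.ringHom_ext q.primeCompl (S := A₀)
      ext r
      simp only [RingHom.coe_comp, Function.comp_apply, RingHom.coe_coe]
      have e1 : algebraMap A₀ (Localization.AtPrime p.asIdeal) (algebraMap R A₀ r) =
          algebraMap (D ⧸ I) (Localization.AtPrime p.asIdeal)
            (Ideal.Quotient.mk I (algebraMap R D r)) := by
        rw [IsScalarTower.algebraMap_apply A₀ (E q b) (Localization.AtPrime p.asIdeal),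
          IsScalarTower.algebraMap_apply (D ⧸ I) (E q b) (Localization.AtPrime p.asIdeal),
          algebraMap_A₀_E, algebraMap_quot_E,
          ← IsScalarTower.algebraMap_apply R A₀ (Dq (D := D) q),
          ← IsScalarTower.algebraMap_apply R D (Dq (D := D) q)]
      have e2 : algebraMap A₀ (T ⧸ I.map (algebraMap D T)) (algebraMap R A₀ r) =
          algebraMap (D ⧸ I) (T ⧸ I.map (algebraMap D T))
            (Ideal.Quotient.mk I (algebraMap R D r)) := by
        change Ideal.Quotient.mk _ (algebraMap A₀ T (algebraMap R A₀ r)) =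
          Ideal.Quotient.mk _ (algebraMap D T (algebraMap R D r))
        rw [← IsScalarTower.algebraMap_apply R A₀ T, ← IsScalarTower.algebraMap_apply R D T]
      rw [e1, e2, AlgEquiv.commutes]
    intro a
    exact congrArg (fun m => m a) this
  let εl : Localization.AtPrime p.asIdeal ≃ₗ[A₀] T ⧸ I.map (algebraMap D T) :=
    { ε.toRingEquiv.toAddEquiv with
      map_smul' := fun a x => by
        change ε (a • x) = a • ε x
        rw [Algebra.smul_def, map_mul, hcompat, ← Algebra.smul_def] }
  exact εl.length_eq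

theorem algebraMap_D_E_eq : algebraMap D (E q b) =
    (Ideal.Quotient.mk ((Ideal.span {b}).map (algebraMap D (Dq (D := D) q)))).comp
      (algebraMap D (Dq (D := D) q)) := rfl

theorem comap_injective :
    Function.Injective (PrimeSpectrum.comap (algebraMap D (E q b))) := by
  rw [algebraMap_D_E_eq]
  intro p₁ p₂ h
  have h1 : PrimeSpectrum.comap (algebraMap D (Dq (D := D) q))
      (PrimeSpectrum.comap (Ideal.Quotient.mk _) p₁) =
      PrimeSpectrum.comap (algebraMap D (Dq (D := D) q))
      (PrimeSpectrum.comap (Ideal.Quotient.mk _) p₂) := h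
  have h2 := PrimeSpectrum.localization_comap_injective (Dq (D := D) q)
    (Algebra.algebraMapSubmonoid D q.primeCompl) h1
  exact PrimeSpectrum.comap_injective_of_surjective _ Ideal.Quotient.mk_surjective h2

include A₀ in
theorem under_comap [IsArtinianRing (E q b)] (p : PrimeSpectrum (E q b)) :
    (p.asIdeal.comap (algebraMap D (E q b))).under R = q := by
  haveI := IsLocalization.AtPrime.isLocalRing A₀ q
  haveI : p.asIdeal.IsMaximal := IsArtinianRing.isMaximal_of_isPrime p.asIdeal
  haveI : Module.Finite A₀ (E q b) :=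
    Module.Finite.of_surjective (Ideal.Quotient.mkₐ A₀ _).toLinearMap
      (Ideal.Quotient.mkₐ_surjective A₀ _)
  haveI : Algebra.IsIntegral A₀ (E q b) := Algebra.IsIntegral.of_finite A₀ (E q b)
  have hmax : (p.asIdeal.comap (algebraMap A₀ (E q b))).IsMaximal :=
    Ideal.isMaximal_comap_of_isIntegral_of_isMaximal p.asIdeal
  have heq : p.asIdeal.comap (algebraMap A₀ (E q b)) = IsLocalRing.maximalIdeal A₀ :=
    IsLocalRing.eq_maximalIdeal hmax
  have hq := IsLocalization.AtPrime.comap_maximalIdeal A₀ q
  rw [Ideal.under_def, Ideal.comap_comap]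
  refine Eq.trans ?_ hq
  rw [← heq, Ideal.under_def, Ideal.comap_comap]
  congr 1
  ext r
  simp only [RingHom.coe_comp, Function.comp_apply]
  rw [algebraMap_D_E, algebraMap_A₀_E, ← IsScalarTower.algebraMap_apply R A₀ (Dq (D := D) q),
    ← IsScalarTower.algebraMap_apply R D (Dq (D := D) q)]

theorem mem_range_comap (P : PrimeSpectrum D) (hP : P.asIdeal.under R = q) (hbP : b ∈ P.asIdeal) :
    P ∈ Set.range (PrimeSpectrum.comap (algebraMap D (E q b))) := by
  set J := (Ideal.span {b}).map (algebraMap D (Dq (D := D) q)) with hJ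
  have hdisj : Disjoint (Algebra.algebraMapSubmonoid D q.primeCompl : Set D) P.asIdeal := by
    rw [Set.disjoint_left]
    rintro _ ⟨s, hs, rfl⟩ hsP
    apply hs
    rw [← hP]
    exact hsP
  have hprime : (P.asIdeal.map (algebraMap D (Dq (D := D) q))).IsPrime :=
    IsLocalization.isPrime_of_isPrime_disjoint (Algebra.algebraMapSubmonoid D q.primeCompl)
      (Dq (D := D) q) P.asIdeal P.isPrime hdisj
  have hcomap : (P.asIdeal.map (algebraMap D (Dq (D := D) q))).comap
      (algebraMap D (Dq (D := D) q)) = P.asIdeal :=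
    IsLocalization.comap_map_of_isPrime_disjoint (Algebra.algebraMapSubmonoid D q.primeCompl)
      (Dq (D := D) q) P.isPrime hdisj
  have hJle : J ≤ P.asIdeal.map (algebraMap D (Dq (D := D) q)) := by
    apply Ideal.map_mono
    rw [Ideal.span_le]
    intro x hx
    rw [Set.mem_singleton_iff] at hx
    rw [hx]
    exact hbP
  have hker : RingHom.ker (Ideal.Quotient.mk J) ≤
      P.asIdeal.map (algebraMap D (Dq (D := D) q)) := by
    rw [Ideal.mk_ker]
    exact hJle
  have hprime2 : ((P.asIdeal.map (algebraMap D (Dq (D := D) q))).map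
      (Ideal.Quotient.mk J)).IsPrime :=
    Ideal.map_isPrime_of_surjective Ideal.Quotient.mk_surjective hker
  refine ⟨⟨_, hprime2⟩, ?_⟩
  apply PrimeSpectrum.ext
  change ((P.asIdeal.map (algebraMap D (Dq (D := D) q))).map (Ideal.Quotient.mk J)).comap
    (algebraMap D (E q b)) = P.asIdeal
  rw [algebraMap_D_E_eq, ← Ideal.comap_comap,
    Ideal.comap_map_of_surjective _ Ideal.Quotient.mk_surjective, ← RingHom.ker_eq_comap_bot,
    sup_eq_left.mpr hker, hcomap]

end

section Main

variable {R D : Type u} [CommRing R] [IsDomain R] [CommRing D] [IsDomain D] [Algebra R D]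
  [Module.Finite R D] [FaithfulSMul R D] (q : Ideal R) [q.IsPrime]
  (A₀ : Type u) [CommRing A₀] [IsDomain A₀] [Algebra R A₀] [IsLocalization.AtPrime A₀ q]
  {K L : Type v} [Field K] [Field L] [Algebra A₀ K] [IsFractionRing A₀ K] [Algebra R K]
  [IsScalarTower R A₀ K] [Algebra D L] [IsFractionRing D L] [Algebra K L] [Algebra R L]
  [IsScalarTower R D L] [IsScalarTower R K L]

/-- the hypothesis on the local terms: `τ P` is the length over `A₀` of `T/bT` for some
localization `T` of `D` at `P` which is compatibly an `A₀`-algebra -/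
def IsLocalTerm (b : D) (τ : PrimeSpectrum D → ℕ∞) : Prop :=
  ∀ P : PrimeSpectrum D, P.asIdeal.under R = q →
    ∃ (T : Type u) (_ : CommRing T) (_ : Algebra A₀ T) (_ : Algebra D T) (_ : Algebra R T)
      (_ : IsScalarTower R A₀ T) (_ : IsScalarTower R D T)
      (_ : IsLocalization.AtPrime T P.asIdeal),
      τ P = Module.length A₀ (T ⧸ (Ideal.span {b}).map (algebraMap D T))

/-- **Main algebraic theorem**: the order of the norm is the sum of the local lengths. -/
theorem ordFrac_norm_eq_finsum [IsNoetherianRing A₀] [Ring.KrullDimLE 1 A₀] (b : D)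
    (hb : b ≠ 0) (τ : PrimeSpectrum D → ℕ∞) (hτ : IsLocalTerm q A₀ b τ) :
    CycAlg.ordFrac A₀ K (Algebra.norm K (algebraMap D L b)) =
      ∑ᶠ P ∈ {P : PrimeSpectrum D | P.asIdeal.under R = q}, ((τ P).toNat : ℤ) := by
  classical
  obtain ⟨h1, h2⟩ := ordFrac_norm_eq_length_Dq q A₀ (K := K) (L := L) b hb
  haveI : IsArtinianRing (E q b) := by
    have hfl : IsFiniteLength A₀ (E q b) := Module.length_ne_top_iff.mp h2
    have hart : IsArtinian A₀ (E q b) := (isFiniteLength_iff_isNoetherian_isArtinian.mp hfl).2
    exact isArtinian_of_tower A₀ hart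
  haveI : Fintype (PrimeSpectrum (E q b)) := Fintype.ofFinite _
  have hsum := length_eq_sum_localization A₀ (E q b)
  have hterm : ∀ p : PrimeSpectrum (E q b),
      Module.length A₀ (Localization.AtPrime p.asIdeal) ≠ ⊤ := by
    intro p htop
    apply h2
    change Module.length A₀ (E q b) = ⊤
    rw [hsum]
    exact ENat.sum_eq_top.mpr ⟨p, Finset.mem_univ p, htop⟩
  have hnat : Module.length A₀ (E q b) =
      ((∑ p : PrimeSpectrum (E q b),
        (Module.length A₀ (Localization.AtPrime p.asIdeal)).toNat : ℕ) : ℕ∞) := by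
    rw [hsum, Nat.cast_sum]
    exact Finset.sum_congr rfl fun p _ => (ENat.natCast_toNat (hterm p)).symm
  have h1' : CycAlg.ordFrac A₀ K (Algebra.norm K (algebraMap D L b)) =
      ((Module.length A₀ (E q b)).toNat : ℤ) := h1
  rw [h1', hnat, ENat.toNat_natCast, Nat.cast_sum]
  -- reindex
  set g := PrimeSpectrum.comap (algebraMap D (E q b)) with hg
  have hgS : ∀ p, (g p).asIdeal.under R = q := fun p => under_comap q A₀ b p
  have hgτ : ∀ p, τ (g p) = Module.length A₀ (Localization.AtPrime p.asIdeal) := by
    intro p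
    obtain ⟨T, i1, i2, i3, i4, i5, i6, i7, hT⟩ := hτ (g p) (hgS p)
    rw [hT]
    haveI : IsLocalization.AtPrime T (p.asIdeal.comap (algebraMap D (E q b))) := i7
    exact (length_localization_eq q A₀ b p T).symm
  have hzero : ∀ P : PrimeSpectrum D, P.asIdeal.under R = q → b ∉ P.asIdeal → τ P = 0 := by
    intro P hP hbP
    obtain ⟨T, i1, i2, i3, i4, i5, i6, i7, hT⟩ := hτ P hP
    rw [hT, Module.length_eq_zero_iff]
    have hu : IsUnit (algebraMap D T b) :=
      IsLocalization.map_units T (⟨b, hbP⟩ : P.asIdeal.primeCompl)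
    have htop : (Ideal.span {b}).map (algebraMap D T) = ⊤ := by
      apply Ideal.eq_top_of_isUnit_mem _ _ hu
      exact Ideal.mem_map_of_mem _ (Ideal.subset_span rfl)
    rw [htop]
    infer_instance
  have hsupp : {P : PrimeSpectrum D | P.asIdeal.under R = q} ∩
      Function.support (fun P => ((τ P).toNat : ℤ)) =
      Set.range g ∩ Function.support (fun P => ((τ P).toNat : ℤ)) := by
    ext P
    constructor
    · rintro ⟨hP, hs⟩
      refine ⟨?_, hs⟩
      by_contra hrange
      apply hs
      have hbP : b ∉ P.asIdeal := fun hbP => hrange (mem_range_comap q b P hP hbP)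
      simp only [hzero P hP hbP, ENat.toNat_zero, Nat.cast_zero]
    · rintro ⟨⟨p, rfl⟩, hs⟩
      exact ⟨hgS p, hs⟩
  rw [finsum_mem_inter_support_eq _ _ _ hsupp, finsum_mem_range (comap_injective q b),
    finsum_eq_sum_of_fintype]
  exact Finset.sum_congr rfl fun p _ => by rw [hgτ p]

end Main

end Groth.Agent.Lib.Helper18.DL5
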