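import Mathlib

/-!
# Finite flat algebras: the sum of local fibre lengths is the rank
-/

set_option autoImplicit false
set_option linter.unusedSectionVars false
set_option linter.style.haveILetI false
universe u
open TensorProduct

namespace Groth.Agent.Lib.Helper18.FF1

variable {R D : Type u} [CommRing R] [CommRing D] [Algebra R D]

/-- `ℓ_{R_P}(D_r / P D_r)` where `P = r ∩ R`. -/
noncomputable def locLen (r : Ideal D) [r.IsPrime] : ℕ∞ :=
  letI := Localization.AtPrime.algebraOfLiesOver (r.under R) r
  Module.length (Localization.AtPrime (r.under R))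
    (Localization.AtPrime r ⧸ (r.under R).map (algebraMap R (Localization.AtPrime r)))

/-- version with a given prime below -/
noncomputable def locLenOver (P : Ideal R) [P.IsPrime] (r : Ideal D) [r.IsPrime] [r.LiesOver P] :
    ℕ∞ :=
  letI := Localization.AtPrime.algebraOfLiesOver P r
  Module.length (Localization.AtPrime P)
    (Localization.AtPrime r ⧸ P.map (algebraMap R (Localization.AtPrime r)))

theorem locLen_eq_locLenOver (P : Ideal R) [P.IsPrime] (r : Ideal D) [r.IsPrime]
    [h : r.LiesOver P] : locLen (R := R) r = locLenOver P r := by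
  obtain rfl : P = r.under R := h.over
  rfl

theorem locLen_congr (r r' : Ideal D) [r.IsPrime] [r'.IsPrime] (h : r = r') :
    locLen (R := R) r = locLen (R := R) r' := by
  subst h
  rfl

/-- the length of a local ring of the fibre over its residue field -/
theorem length_localization_fiber (P : Ideal R) [P.IsPrime] (q : Ideal (P.Fiber D)) [q.IsPrime] :
    Module.length P.ResidueField (Localization.AtPrime q) =
      locLenOver P (q.comap (Algebra.TensorProduct.includeRight : D →ₐ[R] P.Fiber D)) := by
  letI := Localization.AtPrime.algebraOfLiesOver P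
    (q.comap (Algebra.TensorProduct.includeRight : D →ₐ[R] P.Fiber D))
  have e := Ideal.Fiber.localizationAlgEquivQuotient P q
  unfold locLenOver
  rw [← e.toLinearEquiv.length_eq]
  exact (Module.length_eq_of_surjective (S := Localization.AtPrime P) (R := P.ResidueField)
    (M := Localization.AtPrime q) IsLocalRing.residue_surjective).symm

theorem toNat_locLen_fiber (P : Ideal R) [P.IsPrime] [Module.Finite R D]
    (q : PrimeSpectrum (P.Fiber D)) :
    haveI : (q.asIdeal.comap (Algebra.TensorProduct.includeRight : D →ₐ[R] P.Fiber D)).IsPrime :=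
      Ideal.comap_isPrime _ _
    (locLen (R := R)
      (q.asIdeal.comap (Algebra.TensorProduct.includeRight : D →ₐ[R] P.Fiber D))).toNat =
      Module.finrank P.ResidueField (Localization.AtPrime q.asIdeal) := by
  haveI : IsArtinianRing (P.Fiber D) := IsArtinianRing.of_finite P.ResidueField (P.Fiber D)
  haveI : Module.Finite P.ResidueField (Localization.AtPrime q.asIdeal) :=
    Module.Finite.of_surjective
      (Algebra.algHom P.ResidueField (P.Fiber D) (Localization.AtPrime q.asIdeal)).toLinearMap
      (IsArtinianRing.localization_surjective q.asIdeal.primeCompl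
        (Localization.AtPrime q.asIdeal))
  rw [locLen_eq_locLenOver P, ← length_localization_fiber P q.asIdeal,
    Module.length_eq_finrank, ENat.toNat_natCast]

/-- **The sum of the local fibre lengths of a finite flat algebra is its rank.** -/
theorem finsum_locLen [Module.Finite R D] [Module.Flat R D] (P : PrimeSpectrum R) :
    ∑ᶠ r ∈ (PrimeSpectrum.comap (algebraMap R D)) ⁻¹' {P}, (locLen (R := R) r.asIdeal).toNat =
      Module.rankAtStalk D P := by
  haveI : IsArtinianRing (P.asIdeal.Fiber D) :=
    IsArtinianRing.of_finite P.asIdeal.ResidueField (P.asIdeal.Fiber D)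
  haveI : Fintype (PrimeSpectrum (P.asIdeal.Fiber D)) := Fintype.ofFinite _
  rw [Module.rankAtStalk_eq,
    IsArtinianRing.finrank_eq_sum_primeSpectrum (P.asIdeal.Fiber D) P.asIdeal.ResidueField,
    ← finsum_set_coe_eq_finsum_mem, ← finsum_eq_sum_of_fintype,
    ← finsum_comp_equiv (PrimeSpectrum.preimageEquivFiber R D P).symm]
  apply finsum_congr
  intro q
  rw [← toNat_locLen_fiber P.asIdeal q]
  rfl

end Groth.Agent.Lib.Helper18.FF1
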