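import Mathlib
import Groth.Agent.Lib.Helper18.FF1

/-!
# Transport of the local fibre length to abstract localizations
-/

set_option autoImplicit false
set_option linter.unusedSectionVars false
set_option linter.style.haveILetI false
universe u
open TensorProduct

namespace Groth.Agent.Lib.Helper18.FF2

open Groth.Agent.Lib.Helper18.FF1

/-- length is invariant under bijective semilinear maps over surjective ring homomorphisms -/
theorem length_eq_of_semilinear_bijective {R S : Type*} [CommRing R] [CommRing S] (σ : R →+* S)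
    (hσ : Function.Surjective σ) {M N : Type*} [AddCommGroup M] [Module R M] [AddCommGroup N]
    [Module S N] (φ : M →+ N) (hφ : Function.Bijective φ)
    (hsmul : ∀ (r : R) (m : M), φ (r • m) = σ r • φ m) :
    Module.length R M = Module.length S N := by
  haveI : RingHomSurjective σ := ⟨hσ⟩
  let f : M →ₛₗ[σ] N := ⟨⟨φ, map_add φ⟩, hsmul⟩
  rw [Module.length, Module.length, WithBot.unbot_inj,
    Order.krullDim_eq_of_orderIso (Submodule.orderIsoMapComapOfBijective f hφ)]

variable {R D : Type u} [CommRing R] [CommRing D] [Algebra R D]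

theorem length_eq_locLen (r : Ideal D) [r.IsPrime] (A₀ B₀ : Type u) [CommRing A₀] [CommRing B₀]
    [Algebra R A₀] [IsLocalization.AtPrime A₀ (r.under R)] [Algebra D B₀]
    [IsLocalization.AtPrime B₀ r] [IsLocalRing A₀] (ψ : A₀ →+* B₀)
    (hψ : ∀ a : R, ψ (algebraMap R A₀ a) = algebraMap D B₀ (algebraMap R D a)) :
    letI := ψ.toAlgebra
    Module.length A₀ (B₀ ⧸ Ideal.map ψ (IsLocalRing.maximalIdeal A₀)) = locLen (R := R) r := by
  letI := ψ.toAlgebra
  letI := Localization.AtPrime.algebraOfLiesOver (r.under R) r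
  set P := r.under R with hP
  let σ : A₀ ≃ₐ[R] Localization.AtPrime P :=
    IsLocalization.algEquiv P.primeCompl A₀ (Localization.AtPrime P)
  let τ : B₀ ≃ₐ[D] Localization.AtPrime r :=
    IsLocalization.algEquiv r.primeCompl B₀ (Localization.AtPrime r)
  have hcompat : ∀ a : A₀, τ (ψ a) = algebraMap (Localization.AtPrime P) (Localization.AtPrime r)
      (σ a) := by
    have : (τ : B₀ →+* Localization.AtPrime r).comp ψ =
        (algebraMap (Localization.AtPrime P) (Localization.AtPrime r)).comp
          (σ : A₀ →+* Localization.AtPrime P) := by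
      apply IsLocalization.ringHom_ext P.primeCompl (S := A₀)
      ext a
      simp only [RingHom.coe_comp, Function.comp_apply, RingHom.coe_coe]
      rw [hψ, AlgEquiv.commutes, AlgEquiv.commutes,
        ← IsScalarTower.algebraMap_apply R (Localization.AtPrime P) (Localization.AtPrime r),
        ← IsScalarTower.algebraMap_apply R D (Localization.AtPrime r)]
    intro a
    exact congrArg (fun m => m a) this
  have hmax : IsLocalRing.maximalIdeal A₀ = P.map (algebraMap R A₀) :=
    (IsLocalization.AtPrime.map_eq_maximalIdeal P A₀).symm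
  have hI : Ideal.map (τ : B₀ →+* Localization.AtPrime r)
      (Ideal.map ψ (IsLocalRing.maximalIdeal A₀)) =
      P.map (algebraMap R (Localization.AtPrime r)) := by
    rw [hmax, Ideal.map_map, Ideal.map_map]
    congr 1
    ext a
    simp only [RingHom.coe_comp, Function.comp_apply, RingHom.coe_coe]
    rw [hψ, AlgEquiv.commutes, ← IsScalarTower.algebraMap_apply R D (Localization.AtPrime r)]
  let Φ : (B₀ ⧸ Ideal.map ψ (IsLocalRing.maximalIdeal A₀)) ≃+*
      (Localization.AtPrime r ⧸ P.map (algebraMap R (Localization.AtPrime r))) :=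
    Ideal.quotientEquiv _ _ τ.toRingEquiv hI.symm
  unfold locLen
  refine length_eq_of_semilinear_bijective (σ : A₀ →+* Localization.AtPrime P) σ.surjective
    (Φ : _ →+ _) Φ.bijective ?_
  intro a m
  obtain ⟨b, rfl⟩ := Ideal.Quotient.mk_surjective m
  have h1 : a • (Ideal.Quotient.mk (Ideal.map ψ (IsLocalRing.maximalIdeal A₀)) b) =
      Ideal.Quotient.mk _ (ψ a * b) := rfl
  rw [h1]
  change Ideal.Quotient.mk _ (τ (ψ a * b)) = (σ a) • Ideal.Quotient.mk _ (τ b)
  rw [map_mul, hcompat, ← Algebra.smul_def]
  rfl

/-- flexible version: the prime below is given up to equality -/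
theorem length_eq_locLen' (r : Ideal D) [r.IsPrime] (P : Ideal R) [P.IsPrime]
    (hP : r.under R = P) (A₀ B₀ : Type u) [CommRing A₀] [CommRing B₀]
    [Algebra R A₀] [IsLocalization.AtPrime A₀ P] [Algebra D B₀]
    [IsLocalization.AtPrime B₀ r] [IsLocalRing A₀] (ψ : A₀ →+* B₀)
    (hψ : ∀ a : R, ψ (algebraMap R A₀ a) = algebraMap D B₀ (algebraMap R D a)) :
    letI := ψ.toAlgebra
    Module.length A₀ (B₀ ⧸ Ideal.map ψ (IsLocalRing.maximalIdeal A₀)) = locLen (R := R) r := by
  subst hP
  exact length_eq_locLen r A₀ B₀ ψ hψ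

end Groth.Agent.Lib.Helper18.FF2
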