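import Mathlib
import Groth.Agent.Lib.Helper18.FF1
import Groth.Agent.Lib.Helper18.FF2

/-!
# Finite flat morphisms: the sum of local fibre lengths is the degree
-/

set_option autoImplicit false
set_option linter.unusedSectionVars false
set_option linter.style.haveILetI false
universe u
open AlgebraicGeometry CategoryTheory TopologicalSpace

namespace Groth.Agent.Lib.Helper18.FF3

open Groth.Agent.Lib.Helper18.FF1 Groth.Agent.Lib.Helper18.FF2

variable {G F : Scheme.{u}} (π : G ⟶ F)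

/-- `ℓ_{O_{F,π g}}(O_{G,g}/m_{π g} O_{G,g})` -/
noncomputable def fibLenAt (g : G) : ℕ∞ :=
  letI := (π.stalkMap g).hom.toAlgebra
  Module.length (F.presheaf.stalk (π g))
    (G.presheaf.stalk g ⧸ Ideal.map (π.stalkMap g).hom
      (IsLocalRing.maximalIdeal (F.presheaf.stalk (π g))))

theorem toNat_fibLenAt (g : G) :
    (fibLenAt π g).toNat =
      (Module.length (G.presheaf.stalk g) (G.presheaf.stalk g ⧸ Ideal.map (π.stalkMap g).hom
        (IsLocalRing.maximalIdeal (F.presheaf.stalk (π g))))).toNat * π.residueDegree g := by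
  letI := (π.stalkMap g).hom.toAlgebra
  haveI : IsLocalHom (algebraMap (F.presheaf.stalk (π g)) (G.presheaf.stalk g)) :=
    inferInstanceAs (IsLocalHom (π.stalkMap g).hom)
  unfold fibLenAt
  rw [IsLocalRing.length_restrictScalars (F.presheaf.stalk (π g)) (G.presheaf.stalk g),
    ENat.toNat_mul, Module.length_eq_rank, Cardinal.toNat_toENat]
  congr 1
  have halg : (inferInstance : Algebra (IsLocalRing.ResidueField (F.presheaf.stalk (π g)))
      (IsLocalRing.ResidueField (G.presheaf.stalk g))) = (π.residueFieldMap g).hom.toAlgebra := by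
    apply Algebra.algebra_ext
    intro r
    obtain ⟨x, rfl⟩ := IsLocalRing.residue_surjective r
    rfl
  unfold Scheme.Hom.residueDegree Module.finrank
  rw [← halg]
  rfl

theorem fibLenAt_eq_locLen {V : F.Opens} (hV : IsAffineOpen V) {U : G.Opens} (hU : IsAffineOpen U)
    (hUV : U ≤ π ⁻¹ᵁ V) (g : G) (hg : g ∈ U) :
    letI := (π.appLE V U hUV).hom.toAlgebra
    fibLenAt π g = locLen (R := Γ(F, V)) (hU.primeIdealOf ⟨g, hg⟩).asIdeal := by
  letI := (π.appLE V U hUV).hom.toAlgebra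
  letI := F.presheaf.algebra_section_stalk ⟨π g, hUV hg⟩
  letI := G.presheaf.algebra_section_stalk ⟨g, hg⟩
  haveI := hV.isLocalization_stalk ⟨π g, hUV hg⟩
  haveI := hU.isLocalization_stalk ⟨g, hg⟩
  have hP : (hU.primeIdealOf ⟨g, hg⟩).asIdeal.under Γ(F, V) =
      (hV.primeIdealOf ⟨π g, hUV hg⟩).asIdeal :=
    congrArg PrimeSpectrum.asIdeal (IsAffineOpen.comap_primeIdealOf_appLE V hV U hU hUV hg)
  refine length_eq_locLen' (R := Γ(F, V)) (D := Γ(G, U)) (hU.primeIdealOf ⟨g, hg⟩).asIdeal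
    (hV.primeIdealOf ⟨π g, hUV hg⟩).asIdeal hP (F.presheaf.stalk (π g)) (G.presheaf.stalk g)
    (π.stalkMap g).hom ?_
  intro a
  change (π.stalkMap g) (F.presheaf.germ V (π g) (hUV hg) a) =
    G.presheaf.germ U g hg (π.appLE V U hUV a)
  rw [Scheme.Hom.germ_stalkMap_apply]
  unfold Scheme.Hom.appLE
  rw [CommRingCat.comp_apply]
  exact (G.presheaf.germ_res_apply (homOfLE hUV) g hg _).symm

theorem primeIdealOf_fromSpec {Z : Scheme.{u}} {U : Z.Opens} (hU : IsAffineOpen U)
    (r : PrimeSpectrum Γ(Z, U)) (h : hU.fromSpec r ∈ U) :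
    hU.primeIdealOf ⟨hU.fromSpec r, h⟩ = r :=
  hU.fromSpec.isOpenEmbedding.injective (hU.fromSpec_primeIdealOf ⟨_, h⟩)

theorem fromSpec_mem {Z : Scheme.{u}} {U : Z.Opens} (hU : IsAffineOpen U)
    (r : PrimeSpectrum Γ(Z, U)) : hU.fromSpec r ∈ U := by
  have : hU.fromSpec r ∈ Set.range hU.fromSpec := ⟨r, rfl⟩
  rw [hU.range_fromSpec] at this
  exact this

/-- **For a finite flat morphism the sum of the local fibre lengths is the degree.** -/
theorem finsum_fibLenAt [IsFinite π] [Flat π] (x₀ : F) :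
    ∑ᶠ g ∈ {g : G | π g = x₀}, (fibLenAt π g).toNat = π.finrank x₀ := by
  obtain ⟨V, hV, hxV, -⟩ := exists_isAffineOpen_mem_and_subset (x := x₀) (U := ⊤) trivial
  have hU : IsAffineOpen (π ⁻¹ᵁ V) := hV.preimage π
  set U := π ⁻¹ᵁ V with hUdef
  set φ := π.appLE V U le_rfl with hφ
  letI alg := φ.hom.toAlgebra
  set P₀ := hV.primeIdealOf ⟨x₀, hxV⟩ with hP₀
  have hsq : IsPullback hU.fromSpec (Spec.map φ) π hV.fromSpec := by
    refine (IsOpenImmersion.isPullback (Spec.map φ) hU.fromSpec hV.fromSpec π ?_ ?_).flip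
    · exact (IsAffineOpen.SpecMap_appLE_fromSpec π hV hU le_rfl).symm
    · rw [hV.opensRange_fromSpec, hU.opensRange_fromSpec]
  haveI : IsFinite (Spec.map φ) := MorphismProperty.of_isPullback hsq inferInstance
  haveI : Flat (Spec.map φ) := MorphismProperty.of_isPullback hsq inferInstance
  have hfin : φ.hom.Finite := (IsFinite.SpecMap_iff φ).1 inferInstance
  have hflat : φ.hom.Flat := Flat.SpecMap_iff.1 inferInstance
  haveI : Module.Finite Γ(F, V) Γ(G, U) := hfin
  haveI : Module.Flat Γ(F, V) Γ(G, U) := hflat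
  have hx₀ : hV.fromSpec P₀ = x₀ := hV.fromSpec_primeIdealOf ⟨x₀, hxV⟩
  -- the rank
  have hrank : π.finrank x₀ = Module.rankAtStalk Γ(G, U) P₀ := by
    rw [← hx₀, ← Scheme.Hom.finrank_of_isPullback _ _ _ _ hsq,
      Scheme.Hom.finrank_SpecMap_eq_finrank hfin hflat]
    rfl
  rw [hrank, ← finsum_locLen (R := Γ(F, V)) (D := Γ(G, U)) P₀]
  symm
  refine finsum_mem_eq_of_bijOn (fun r => hU.fromSpec r) ⟨?_, ?_, ?_⟩ ?_
  · -- maps to
    intro r hr
    have hr' : PrimeSpectrum.comap φ.hom r = P₀ := hr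
    change π (hU.fromSpec r) = x₀
    rw [← Scheme.Hom.comp_apply, ← IsAffineOpen.SpecMap_appLE_fromSpec π hV hU le_rfl,
      Scheme.Hom.comp_apply]
    change hV.fromSpec (PrimeSpectrum.comap φ.hom r) = x₀
    rw [hr', hx₀]
  · -- injective
    exact hU.fromSpec.isOpenEmbedding.injective.injOn
  · -- surjective
    intro g hg
    have hg' : π g = x₀ := hg
    have hgU : g ∈ U := by
      change π g ∈ V
      rw [hg']
      exact hxV
    refine ⟨hU.primeIdealOf ⟨g, hgU⟩, ?_, hU.fromSpec_primeIdealOf ⟨g, hgU⟩⟩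
    change PrimeSpectrum.comap φ.hom (hU.primeIdealOf ⟨g, hgU⟩) = P₀
    rw [IsAffineOpen.comap_primeIdealOf_appLE V hV U hU le_rfl hgU]
    congr 1
    exact Subtype.ext hg'
  · intro r _
    have hmem := fromSpec_mem hU r
    have h1 := fibLenAt_eq_locLen π hV hU le_rfl (hU.fromSpec r) hmem
    change (locLen (R := Γ(F, V)) r.asIdeal).toNat = (fibLenAt π (hU.fromSpec r)).toNat
    rw [h1]
    congr 1
    exact locLen_congr _ _ (congrArg PrimeSpectrum.asIdeal (primeIdealOf_fromSpec hU r hmem)).symm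

end Groth.Agent.Lib.Helper18.FF3
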