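import Mathlib
import Groth.Prelude.Def_Cyc
import Groth.Agent.Lib.Helper18.DivPull3
import Groth.Agent.Lib.Helper18.FF3
import Groth.Agent.Lib.Helper18.DL5
import Groth.Agent.Lib.Helper26.FracLength

/-!
# Geometric lemmas for the pushforward of principal divisors
-/

set_option autoImplicit false
set_option linter.unusedSectionVars false
set_option linter.style.haveILetI false
universe u
open AlgebraicGeometry CategoryTheory TopologicalSpace

namespace Groth.Agent.Lib.Helper18.DL6

open Groth.Agent.Lib.Helper18.DivPull

section Ord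

variable {X : Scheme.{u}} [IsIntegral X]

/-- the order of vanishing at a codimension one point of the image of a nonzero element of the
local ring is the length of the quotient -/
theorem ordAt_specMap (δ : X → ℤ) (hδ : Cyc.IsDimFun X δ) [IsLocallyNoetherian X] (x η : X)
    (h : η ⤳ x) (hη : η = genericPoint X) (h1 : δ x + 1 = δ η) (a : X.presheaf.stalk x)
    (ha : a ≠ 0) :
    Cyc.ordAt x η h (Cyc.specMap x η h a) = ((Ring.ord (X.presheaf.stalk x) a).toNat : ℤ) := by
  haveI hpτ : (RingHom.ker (Cyc.specMap x η h)).IsPrime := RingHom.ker_isPrime _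
  haveI : IsDomain (Cyc.LocQuot x η h) := Ideal.Quotient.isDomain _
  haveI : Ring.KrullDimLE 1 (Cyc.LocQuot x η h) := krullDimLE_one_locQuot δ hδ x η h h1
  haveI : IsFractionRing (Cyc.LocQuot x η h) (X.residueField η) :=
    isFractionRing_locQuot_of_generic x η h hη
  have hbij := mk_bijective_of_generic x η h hη
  have ha' : Ideal.Quotient.mk (RingHom.ker (Cyc.specMap x η h)) a ≠ 0 := by
    intro h0
    exact ha (hbij.1 (h0.trans (map_zero _).symm))
  unfold Cyc.ordAt
  rw [← algebraMap_locQuot_mk x η h a, Groth.Agent.Lib.Helper26.OrdZ.ordFrac_algebraMap ha',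
    ord_eq_of_bijective _ hbij a]

theorem ordAt_div (δ : X → ℤ) (hδ : Cyc.IsDimFun X δ) [IsLocallyNoetherian X] (x η : X)
    (h : η ⤳ x) (hη : η = genericPoint X) (h1 : δ x + 1 = δ η) (f g : X.residueField η)
    (hf : f ≠ 0) (hg : g ≠ 0) :
    Cyc.ordAt x η h (f / g) = Cyc.ordAt x η h f - Cyc.ordAt x η h g := by
  haveI hpτ : (RingHom.ker (Cyc.specMap x η h)).IsPrime := RingHom.ker_isPrime _
  haveI : IsDomain (Cyc.LocQuot x η h) := Ideal.Quotient.isDomain _
  haveI : Ring.KrullDimLE 1 (Cyc.LocQuot x η h) := krullDimLE_one_locQuot δ hδ x η h h1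
  haveI : IsFractionRing (Cyc.LocQuot x η h) (X.residueField η) :=
    isFractionRing_locQuot_of_generic x η h hη
  unfold Cyc.ordAt
  exact Groth.Agent.Lib.Helper26.FracLength.ordFrac_div hf hg

end Ord

section Len

variable {G F : Scheme.{u}} (π : G ⟶ F)

/-- the length over the local ring of the base is the length over the local ring upstairs times
the residue degree -/
theorem toNat_length_stalk_quot (g : G) (I : Ideal (G.presheaf.stalk g)) :
    letI := (π.stalkMap g).hom.toAlgebra
    (Module.length (F.presheaf.stalk (π g)) (G.presheaf.stalk g ⧸ I)).toNat =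
      (Module.length (G.presheaf.stalk g) (G.presheaf.stalk g ⧸ I)).toNat * π.residueDegree g := by
  letI := (π.stalkMap g).hom.toAlgebra
  haveI : IsLocalHom (algebraMap (F.presheaf.stalk (π g)) (G.presheaf.stalk g)) :=
    inferInstanceAs (IsLocalHom (π.stalkMap g).hom)
  rw [IsLocalRing.length_restrictScalars (F.presheaf.stalk (π g)) (G.presheaf.stalk g),
    ENat.toNat_mul, Module.length_eq_rank, Cardinal.toNat_toENat]
  congr 1
  have halg : (inferInstance : Algebra (IsLocalRing.ResidueField (F.presheaf.stalk (π g)))
      (IsLocalRing.ResidueField (G.presheaf.stalk g))) = (π.residueFieldMap g).hom.toAlgebra := by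
    apply Algebra.algebra_ext
    intro r
    obtain ⟨x, rfl⟩ := IsLocalRing.residue_surjective r
    rfl
  unfold Scheme.Hom.residueDegree Module.finrank
  rw [← halg]
  rfl

end Len

section Frac

variable {X : Scheme.{u}} [IsIntegral X]

/-- evaluation of sections at a point, as a ring homomorphism -/
noncomputable def ev (U : X.Opens) (x : X) (hx : x ∈ U) : Γ(X, U) →+* X.residueField x :=
  (X.residue x).hom.comp (X.presheaf.germ U x hx).hom

theorem ev_injective (U : X.Opens) (η : X) (hη : η = genericPoint X) (hx : η ∈ U) :
    Function.Injective (ev U η hx) := by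
  subst hη
  have h1 : Function.Injective (X.presheaf.germ U (genericPoint X) hx).hom :=
    germ_injective_of_isIntegral X (genericPoint X) hx
  have h2 : Function.Injective (X.residue (genericPoint X)).hom := by
    change Function.Injective ((X.residue (genericPoint X)).hom : X.functionField →+* _)
    exact RingHom.injective _
  exact h2.comp h1

theorem isFractionRing_ev {U : X.Opens} (hU : IsAffineOpen U) (η : X) (hη : η = genericPoint X)
    (hx : η ∈ U) :
    letI := (ev U η hx).toAlgebra
    IsFractionRing Γ(X, U) (X.residueField η) := by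
  letI := (ev U η hx).toAlgebra
  subst hη
  haveI : Nonempty U := ⟨⟨genericPoint X, hx⟩⟩
  haveI : FaithfulSMul Γ(X, U) (X.residueField (genericPoint X)) :=
    (faithfulSMul_iff_algebraMap_injective _ _).mpr (ev_injective U _ rfl hx)
  haveI := functionField_isFractionRing_of_isAffineOpen X U hU
  apply IsFractionRing.of_field
  intro z
  obtain ⟨w, rfl⟩ := X.residue_surjective (genericPoint X) z
  obtain ⟨a, b, hb, hw⟩ := IsFractionRing.div_surjective (A := Γ(X, U))
    (show X.functionField from w)
  refine ⟨a, b, ?_⟩
  have : (X.residue (genericPoint X)).hom (show X.functionField from w) =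
      (X.residue (genericPoint X)).hom
        (algebraMap Γ(X, U) X.functionField a / algebraMap Γ(X, U) X.functionField b) := by
    rw [hw]
  rw [map_div₀] at this
  exact this

theorem ev_eq_specMap (U : X.Opens) (x η : X) (h : η ⤳ x) (hx : x ∈ U) (s : Γ(X, U)) :
    ev U η (h.mem_open U.2 hx) s = Cyc.specMap x η h (X.presheaf.germ U x hx s) := by
  unfold ev Cyc.specMap
  simp only [RingHom.coe_comp, Function.comp_apply, CommRingCat.hom_comp]
  congr 1
  exact (TopCat.Presheaf.germ_stalkSpecializes_apply X.presheaf (U := U) hx h s).symm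

end Frac

end Groth.Agent.Lib.Helper18.DL6
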