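import Mathlib
import Groth.Agent.Lib.Helper18.DL6

/-!
# The local terms of the pushforward of a principal divisor
-/

set_option autoImplicit false
set_option linter.unusedSectionVars false
set_option linter.style.haveILetI false
universe u
open AlgebraicGeometry CategoryTheory TopologicalSpace

namespace Groth.Agent.Lib.Helper18.DL7

open Groth.Agent.Lib.Helper18.DivPull Groth.Agent.Lib.Helper18.DL5 Groth.Agent.Lib.Helper18.DL6
  Groth.Agent.Lib.Helper18.FF3 Groth.Agent.Lib.Helper18.FF2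

variable {X Y : Scheme.{u}} (p : X ⟶ Y) {V : Y.Opens} (hV : IsAffineOpen V)
  (hU : IsAffineOpen (p ⁻¹ᵁ V))

/-- the local term at a prime of `Γ(X, p⁻¹V)` -/
noncomputable def tau (b : Γ(X, p ⁻¹ᵁ V)) (P : PrimeSpectrum Γ(X, p ⁻¹ᵁ V)) : ℕ∞ :=
  letI := (p.stalkMap (hU.fromSpec P)).hom.toAlgebra
  Module.length (Y.presheaf.stalk (p (hU.fromSpec P)))
    (X.presheaf.stalk (hU.fromSpec P) ⧸
      Ideal.span {X.presheaf.germ (p ⁻¹ᵁ V) (hU.fromSpec P) (fromSpec_mem hU P) b})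

theorem map_fromSpec (P : PrimeSpectrum Γ(X, p ⁻¹ᵁ V)) :
    p (hU.fromSpec P) =
      hV.fromSpec (PrimeSpectrum.comap (p.appLE V (p ⁻¹ᵁ V) le_rfl).hom P) := by
  rw [← Scheme.Hom.comp_apply, ← IsAffineOpen.SpecMap_appLE_fromSpec p hV hU le_rfl,
    Scheme.Hom.comp_apply]
  rfl

theorem germ_appLE (x : X) (hx : x ∈ p ⁻¹ᵁ V) (r : Γ(Y, V)) :
    X.presheaf.germ (p ⁻¹ᵁ V) x hx (p.appLE V (p ⁻¹ᵁ V) le_rfl r) =
      (p.stalkMap x) (Y.presheaf.germ V (p x) hx r) := by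
  rw [Scheme.Hom.germ_stalkMap_apply]
  unfold Scheme.Hom.appLE
  rw [CommRingCat.comp_apply]
  exact (X.presheaf.germ_res_apply (homOfLE le_rfl) x hx _)

section Term

variable (y : Y) (hy : y ∈ V) (ξ : Y) (h : ξ ⤳ y)

/-- the structure of `Γ(Y,V)`-algebra on the local ring `O_{Y,y}/𝔭_ξ` -/
noncomputable def algLocQuot : Algebra Γ(Y, V) (Cyc.LocQuot y ξ h) :=
  ((Ideal.Quotient.mk (RingHom.ker (Cyc.specMap y ξ h))).comp
    (Y.presheaf.germ V y hy).hom).toAlgebra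

theorem isLocalization_locQuot [IsIntegral Y] (hξ : ξ = genericPoint Y) :
    letI := algLocQuot y hy ξ h
    IsLocalization.AtPrime (Cyc.LocQuot y ξ h) (hV.primeIdealOf ⟨y, hy⟩).asIdeal := by
  letI := algLocQuot y hy ξ h
  letI := Y.presheaf.algebra_section_stalk ⟨y, hy⟩
  haveI := hV.isLocalization_stalk ⟨y, hy⟩
  let e : Y.presheaf.stalk y ≃ₐ[Γ(Y, V)] Cyc.LocQuot y ξ h :=
    AlgEquiv.ofBijective
      { (Ideal.Quotient.mk (RingHom.ker (Cyc.specMap y ξ h))) with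
        commutes' := fun r => rfl }
      (mk_bijective_of_generic y ξ h hξ)
  exact IsLocalization.isLocalization_of_algEquiv _ e

end Term

section Local

variable [IsIntegral Y] (P : PrimeSpectrum Γ(X, p ⁻¹ᵁ V)) (ξ : Y)
  (h : ξ ⤳ p (hU.fromSpec P)) (hξ : ξ = genericPoint Y) (b : Γ(X, p ⁻¹ᵁ V))

theorem under_eq :
    letI := (p.appLE V (p ⁻¹ᵁ V) le_rfl).hom.toAlgebra
    P.asIdeal.under Γ(Y, V) =
      (hV.primeIdealOf ⟨p (hU.fromSpec P), fromSpec_mem hU P⟩).asIdeal := by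
  letI := (p.appLE V (p ⁻¹ᵁ V) le_rfl).hom.toAlgebra
  have h1 := IsAffineOpen.comap_primeIdealOf_appLE (f := p) V hV (p ⁻¹ᵁ V) hU le_rfl
    (fromSpec_mem hU P)
  rw [primeIdealOf_fromSpec hU P (fromSpec_mem hU P)] at h1
  exact congrArg PrimeSpectrum.asIdeal h1

include hξ hV in
/-- the local term at `P` is a length over `O_{Y,y}/𝔭_ξ` of `O_{X,x}/b` -/
theorem exists_local :
    letI := (p.appLE V (p ⁻¹ᵁ V) le_rfl).hom.toAlgebra
    letI := algLocQuot (p (hU.fromSpec P)) (fromSpec_mem hU P) ξ h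
    ∃ (T : Type u) (_ : CommRing T)
      (_ : Algebra (Cyc.LocQuot (p (hU.fromSpec P)) ξ h) T)
      (_ : Algebra Γ(X, p ⁻¹ᵁ V) T) (_ : Algebra Γ(Y, V) T)
      (_ : IsScalarTower Γ(Y, V) (Cyc.LocQuot (p (hU.fromSpec P)) ξ h) T)
      (_ : IsScalarTower Γ(Y, V) Γ(X, p ⁻¹ᵁ V) T)
      (_ : IsLocalization.AtPrime T P.asIdeal),
      tau p hU b P = Module.length (Cyc.LocQuot (p (hU.fromSpec P)) ξ h)
        (T ⧸ (Ideal.span {b}).map (algebraMap Γ(X, p ⁻¹ᵁ V) T)) := by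
  letI algRD := (p.appLE V (p ⁻¹ᵁ V) le_rfl).hom.toAlgebra
  letI algRA := algLocQuot (p (hU.fromSpec P)) (fromSpec_mem hU P) ξ h
  haveI hlocA := isLocalization_locQuot hV (p (hU.fromSpec P)) (fromSpec_mem hU P) ξ h hξ
  have hP := under_eq p hV hU P
  set x := hU.fromSpec P with hx
  have hxU : x ∈ p ⁻¹ᵁ V := fromSpec_mem hU P
  letI algDT : Algebra Γ(X, p ⁻¹ᵁ V) (X.presheaf.stalk x) :=
    X.presheaf.algebra_section_stalk ⟨x, hxU⟩
  haveI hlocT : IsLocalization.AtPrime (X.presheaf.stalk x) P.asIdeal := by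
    have h1 := hU.isLocalization_stalk ⟨x, hxU⟩
    have h2 : hU.primeIdealOf ⟨x, hxU⟩ = P := primeIdealOf_fromSpec hU P hxU
    rw [h2] at h1
    exact h1
  letI algRT : Algebra Γ(Y, V) (X.presheaf.stalk x) :=
    ((algebraMap Γ(X, p ⁻¹ᵁ V) (X.presheaf.stalk x)).comp
      (algebraMap Γ(Y, V) Γ(X, p ⁻¹ᵁ V))).toAlgebra
  haveI towRDT : IsScalarTower Γ(Y, V) Γ(X, p ⁻¹ᵁ V) (X.presheaf.stalk x) :=
    IsScalarTower.of_algebraMap_eq fun r => rfl
  have hunits : ∀ s : (hV.primeIdealOf ⟨p x, hxU⟩).asIdeal.primeCompl,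
      IsUnit (algebraMap Γ(Y, V) (X.presheaf.stalk x) s) := by
    intro s
    have hs : algebraMap Γ(Y, V) Γ(X, p ⁻¹ᵁ V) s ∈ P.asIdeal.primeCompl := by
      intro hmem
      have h1 : (s : Γ(Y, V)) ∈ P.asIdeal.under Γ(Y, V) := hmem
      rw [hP] at h1
      exact s.2 h1
    exact IsLocalization.map_units (X.presheaf.stalk x) ⟨_, hs⟩
  letI algAT : Algebra (Cyc.LocQuot (p x) ξ h) (X.presheaf.stalk x) :=
    (IsLocalization.lift (M := (hV.primeIdealOf ⟨p x, hxU⟩).asIdeal.primeCompl)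
      (g := algebraMap Γ(Y, V) (X.presheaf.stalk x)) hunits).toAlgebra
  haveI towRAT : IsScalarTower Γ(Y, V) (Cyc.LocQuot (p x) ξ h) (X.presheaf.stalk x) :=
    IsScalarTower.of_algebraMap_eq fun r => (IsLocalization.lift_eq _ r).symm
  refine ⟨X.presheaf.stalk x, inferInstance, algAT, algDT, algRT, towRAT, towRDT, hlocT, ?_⟩
  -- the comparison of lengths
  have hI : Ideal.span {X.presheaf.germ (p ⁻¹ᵁ V) x hxU b} =
      (Ideal.span {b}).map (algebraMap Γ(X, p ⁻¹ᵁ V) (X.presheaf.stalk x)) := by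
    rw [Ideal.map_span, Set.image_singleton]
    rfl
  -- compatibility of the two actions
  have hcompat : ∀ a : Y.presheaf.stalk (p x),
      algebraMap (Cyc.LocQuot (p x) ξ h) (X.presheaf.stalk x)
        (Ideal.Quotient.mk (RingHom.ker (Cyc.specMap (p x) ξ h)) a) = (p.stalkMap x).hom a := by
    letI := Y.presheaf.algebra_section_stalk ⟨p x, hxU⟩
    haveI := hV.isLocalization_stalk ⟨p x, hxU⟩
    have : (algebraMap (Cyc.LocQuot (p x) ξ h) (X.presheaf.stalk x)).comp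
        (Ideal.Quotient.mk (RingHom.ker (Cyc.specMap (p x) ξ h))) = (p.stalkMap x).hom := by
      apply IsLocalization.ringHom_ext (hV.primeIdealOf ⟨p x, hxU⟩).asIdeal.primeCompl
        (S := Y.presheaf.stalk (p x))
      ext r
      simp only [RingHom.coe_comp, Function.comp_apply]
      have e1 : Ideal.Quotient.mk (RingHom.ker (Cyc.specMap (p x) ξ h))
          (algebraMap Γ(Y, V) (Y.presheaf.stalk (p x)) r) =
          algebraMap Γ(Y, V) (Cyc.LocQuot (p x) ξ h) r := rfl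
      rw [e1, ← IsScalarTower.algebraMap_apply Γ(Y, V) (Cyc.LocQuot (p x) ξ h)
        (X.presheaf.stalk x)]
      exact germ_appLE p x hxU r
    intro a
    exact congrArg (fun m => m a) this
  unfold tau
  letI := (p.stalkMap x).hom.toAlgebra
  refine length_eq_of_semilinear_bijective
    (Ideal.Quotient.mk (RingHom.ker (Cyc.specMap (p x) ξ h))) Ideal.Quotient.mk_surjective
    (Ideal.quotEquivOfEq hI).toRingHom.toAddMonoidHom (Ideal.quotEquivOfEq hI).bijective ?_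
  intro a m
  obtain ⟨t, rfl⟩ := Ideal.Quotient.mk_surjective m
  change Ideal.quotEquivOfEq hI (Ideal.Quotient.mk _ ((p.stalkMap x).hom a * t)) =
    Ideal.Quotient.mk _ (algebraMap (Cyc.LocQuot (p x) ξ h) (X.presheaf.stalk x)
      (Ideal.Quotient.mk _ a) * t)
  rw [hcompat a]
  rfl

end Local

theorem isLocalTerm [IsIntegral Y] (y : Y) (hy : y ∈ V) (ξ : Y) (h : ξ ⤳ y)
    (hξ : ξ = genericPoint Y) (b : Γ(X, p ⁻¹ᵁ V)) :
    letI := (p.appLE V (p ⁻¹ᵁ V) le_rfl).hom.toAlgebra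
    letI := algLocQuot y hy ξ h
    IsLocalTerm (hV.primeIdealOf ⟨y, hy⟩).asIdeal (Cyc.LocQuot y ξ h) b (tau p hU b) := by
  letI := (p.appLE V (p ⁻¹ᵁ V) le_rfl).hom.toAlgebra
  letI := algLocQuot y hy ξ h
  intro P hP
  have hpx : p (hU.fromSpec P) = y := by
    rw [map_fromSpec p hV hU P]
    have : PrimeSpectrum.comap (p.appLE V (p ⁻¹ᵁ V) le_rfl).hom P = hV.primeIdealOf ⟨y, hy⟩ :=
      PrimeSpectrum.ext hP
    rw [this]
    exact hV.fromSpec_primeIdealOf ⟨y, hy⟩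
  subst hpx
  exact exists_local p hV hU P ξ h hξ b

end Groth.Agent.Lib.Helper18.DL7
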