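import Mathlib

/-!
# Finiteness of the generic points of a fibre inside an affine open
-/

set_option autoImplicit false
set_option linter.style.haveILetI false
universe u
open CategoryTheory AlgebraicGeometry TopologicalSpace

namespace Groth.Agent.Lib.Helper18.FibreFin

variable {X' X : Scheme.{u}} (p : X' ⟶ X)

theorem mem_primeIdealOf_iff {Z : Scheme.{u}} {V : Z.Opens} (hV : IsAffineOpen V) (x : Z)
    (hx : x ∈ V) (c : Γ(Z, V)) :
    c ∈ (hV.primeIdealOf ⟨x, hx⟩).asIdeal ↔ ¬ IsUnit (Z.presheaf.germ V x hx c) := by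
  letI := Z.presheaf.algebra_section_stalk ⟨x, hx⟩
  haveI := hV.isLocalization_stalk ⟨x, hx⟩
  rw [← not_iff_not, not_not]
  exact (IsLocalization.AtPrime.isUnit_to_map_iff (Z.presheaf.stalk x)
    (hV.primeIdealOf ⟨x, hx⟩).asIdeal c).symm

theorem primeIdealOf_le_iff {Z : Scheme.{u}} {V : Z.Opens} (hV : IsAffineOpen V) (x y : Z)
    (hx : x ∈ V) (hy : y ∈ V) :
    hV.primeIdealOf ⟨x, hx⟩ ≤ hV.primeIdealOf ⟨y, hy⟩ ↔ x ⤳ y := by
  rw [PrimeSpectrum.le_iff_specializes]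
  have := hV.fromSpec.isOpenEmbedding.isInducing.specializes_iff
    (x := hV.primeIdealOf ⟨x, hx⟩) (y := hV.primeIdealOf ⟨y, hy⟩)
  rw [hV.fromSpec_primeIdealOf, hV.fromSpec_primeIdealOf] at this
  exact this.symm

theorem appLE_mem_primeIdealOf_iff {U' : X'.Opens} (hU' : IsAffineOpen U') {V : X.Opens}
    (hV : IsAffineOpen V) (hUV : U' ≤ p ⁻¹ᵁ V) (y' : X') (hy' : y' ∈ U') (c : Γ(X, V)) :
    p.appLE V U' hUV c ∈ (hU'.primeIdealOf ⟨y', hy'⟩).asIdeal ↔
      c ∈ (hV.primeIdealOf ⟨p y', hUV hy'⟩).asIdeal := by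
  rw [mem_primeIdealOf_iff, mem_primeIdealOf_iff, not_iff_not]
  have h1 : X'.presheaf.germ U' y' hy' (p.appLE V U' hUV c) =
      p.stalkMap y' (X.presheaf.germ V (p y') (hUV hy') c) := by
    rw [Scheme.Hom.germ_stalkMap_apply]
    unfold Scheme.Hom.appLE
    rw [CommRingCat.comp_apply]
    exact X'.presheaf.germ_res_apply (homOfLE hUV) y' hy' _
  rw [h1]
  exact isUnit_map_iff (p.stalkMap y').hom _

theorem finite_fibre_generic [IsLocallyNoetherian X'] {U' : X'.Opens} (hU' : IsAffineOpen U')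
    {V : X.Opens} (hV : IsAffineOpen V) (hUV : U' ≤ p ⁻¹ᵁ V) (ξ : X) :
    {ξ' : X' | ξ' ∈ U' ∧ p ξ' = ξ ∧ ∀ y, p y = p ξ' → y ⤳ ξ' → y = ξ'}.Finite := by
  classical
  by_cases hξ : ξ ∈ V
  swap
  · refine Set.Finite.subset Set.finite_empty ?_
    rintro ξ' ⟨hξ'U, hp, -⟩
    apply hξ
    rw [← hp]
    exact hUV hξ'U
  haveI : IsNoetherianRing Γ(X', U') := IsLocallyNoetherian.component_noetherian ⟨U', hU'⟩
  set P : Ideal Γ(X, V) := (hV.primeIdealOf ⟨ξ, hξ⟩).asIdeal with hP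
  have hfin := (P.map (p.appLE V U' hUV).hom).finite_minimalPrimes_of_isNoetherianRing
  set F : X' → Ideal Γ(X', U') := fun x =>
    if hx : x ∈ U' then (hU'.primeIdealOf ⟨x, hx⟩).asIdeal else ⊤ with hF
  have hinj : Set.InjOn F {x : X' | x ∈ U'} := by
    intro x hx y hy hxy
    simp only [hF, dif_pos (show x ∈ U' from hx), dif_pos (show y ∈ U' from hy)] at hxy
    have h1 : hU'.primeIdealOf ⟨x, hx⟩ = hU'.primeIdealOf ⟨y, hy⟩ := PrimeSpectrum.ext hxy
    have h2 := congrArg hU'.fromSpec h1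
    rw [hU'.fromSpec_primeIdealOf, hU'.fromSpec_primeIdealOf] at h2
    exact h2
  refine Set.Finite.subset (hfin.preimage (hinj.mono ?_)) ?_
  · intro x hx
    by_contra hxU
    have hx' : F x ∈ (P.map (p.appLE V U' hUV).hom).minimalPrimes := hx
    have hFx : F x = ⊤ := by simp only [hF]; exact dif_neg hxU
    rw [hFx] at hx'
    exact hx'.1.1.ne_top rfl
  · rintro ξ' ⟨hξ'U, hp, hgen⟩
    change F ξ' ∈ (P.map (p.appLE V U' hUV).hom).minimalPrimes
    simp only [hF, dif_pos hξ'U]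
    have hPeq : ∀ (y' : X') (hy' : y' ∈ U'), p y' = ξ →
        (hV.primeIdealOf ⟨p y', hUV hy'⟩).asIdeal = P := by
      intro y' hy' he
      have : (⟨p y', hUV hy'⟩ : V) = ⟨ξ, hξ⟩ := Subtype.ext he
      rw [this]
    refine ⟨⟨(hU'.primeIdealOf ⟨ξ', hξ'U⟩).2, ?_⟩, ?_⟩
    · rw [Ideal.map_le_iff_le_comap]
      intro c hc
      rw [Ideal.mem_comap]
      change p.appLE V U' hUV c ∈ _
      rw [appLE_mem_primeIdealOf_iff p hU' hV hUV ξ' hξ'U c, hPeq ξ' hξ'U hp]
      exact hc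
    · rintro Q' ⟨hQ', hle'⟩ hle
      set y' : X' := hU'.fromSpec ⟨Q', hQ'⟩ with hy'
      have hy'U : y' ∈ U' := by
        have : y' ∈ (U' : Set X') := by
          rw [← hU'.range_fromSpec]; exact ⟨_, rfl⟩
        exact this
      have hQ'eq : hU'.primeIdealOf ⟨y', hy'U⟩ = ⟨Q', hQ'⟩ := by
        apply hU'.fromSpec.isOpenEmbedding.injective
        rw [hU'.fromSpec_primeIdealOf]
      have h2 : y' ⤳ ξ' := by
        rw [← primeIdealOf_le_iff hU' y' ξ' hy'U hξ'U, hQ'eq]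
        change Q' ≤ _
        exact hle
      have h3 : p y' ⤳ ξ := by
        rw [← hp]
        exact p.base.hom.map_specializes h2
      have h4 : ξ ⤳ p y' := by
        rw [← primeIdealOf_le_iff hV ξ (p y') hξ (hUV hy'U)]
        change P ≤ _
        intro c hc
        rw [← appLE_mem_primeIdealOf_iff p hU' hV hUV y' hy'U c, hQ'eq]
        exact hle' (Ideal.mem_map_of_mem _ hc)
      have h5 : p y' = ξ := (h3.antisymm h4).eq
      have h6 : y' = ξ' := hgen y' (h5.trans hp.symm) h2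
      have : (⟨Q', hQ'⟩ : PrimeSpectrum Γ(X', U')) = hU'.primeIdealOf ⟨ξ', hξ'U⟩ := by
        rw [← hQ'eq]; congr 1; exact Subtype.ext h6
      rw [← this]

end Groth.Agent.Lib.Helper18.FibreFin
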