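import Mathlib
import Groth.Agent.Lib.Helper18.DL8
import Groth.Agent.Lib.Helper18.FibreFin

/-!
# Per-point identities, reindexing and finite neighbourhoods
-/

set_option autoImplicit false
set_option linter.unusedSectionVars false
set_option linter.style.haveILetI false
universe u
open AlgebraicGeometry CategoryTheory TopologicalSpace

namespace Groth.Agent.Lib.Helper18.DL9

open Groth.Agent.Lib.Helper18.DivPull Groth.Agent.Lib.Helper18.DL5 Groth.Agent.Lib.Helper18.DL6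
  Groth.Agent.Lib.Helper18.DL7 Groth.Agent.Lib.Helper18.DL8 Groth.Agent.Lib.Helper18.FF3
  Groth.Agent.Lib.Helper18.FF2

section Point

variable {X Y : Scheme.{u}} [IsIntegral X] (p : X ⟶ Y) {V : Y.Opens}
  (hU : IsAffineOpen (p ⁻¹ᵁ V)) (δX : X → ℤ) (hX : Cyc.IsSetup X δX)

include hX in
/-- the local term is the order of vanishing times the residue degree -/
theorem tau_eq (η : X) (hη : η = genericPoint X) (hηU : η ∈ p ⁻¹ᵁ V)
    (b : Γ(X, p ⁻¹ᵁ V)) (hb : b ≠ 0) (P : PrimeSpectrum Γ(X, p ⁻¹ᵁ V))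
    (hx : η ⤳ hU.fromSpec P) (h1 : δX (hU.fromSpec P) + 1 = δX η) :
    ((tau p hU b P).toNat : ℤ) =
      Cyc.ordAt (hU.fromSpec P) η hx (ev (p ⁻¹ᵁ V) η hηU b) *
        ((p.residueDegree (hU.fromSpec P) : ℕ) : ℤ) := by
  haveI : IsLocallyNoetherian X := hX.1
  have hxU := fromSpec_mem hU P
  have hgerm : X.presheaf.germ (p ⁻¹ᵁ V) (hU.fromSpec P) hxU b ≠ 0 := by
    intro h0
    exact hb (germ_injective_of_isIntegral X _ hxU (h0.trans (map_zero _).symm))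
  have e1 := ev_eq_specMap (p ⁻¹ᵁ V) (hU.fromSpec P) η hx hxU b
  have e2 := ordAt_specMap δX hX.2.2 (hU.fromSpec P) η hx hη h1 _ hgerm
  have e3 := toNat_length_stalk_quot p (hU.fromSpec P)
    (Ideal.span {X.presheaf.germ (p ⁻¹ᵁ V) (hU.fromSpec P) hxU b})
  unfold tau
  rw [e3]
  have e4 : ev (p ⁻¹ᵁ V) η hηU b = Cyc.specMap (hU.fromSpec P) η hx
      (X.presheaf.germ (p ⁻¹ᵁ V) (hU.fromSpec P) hxU b) := e1
  rw [e4, e2]
  push_cast
  rfl

end Point

section Reindex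

variable {X Y : Scheme.{u}} (p : X ⟶ Y) {V : Y.Opens} (hV : IsAffineOpen V)
  (hU : IsAffineOpen (p ⁻¹ᵁ V))

/-- sums over the fibre are sums over the primes above -/
theorem finsum_fibre_eq (y : Y) (hy : y ∈ V) (G : X → ℤ) :
    letI := (p.appLE V (p ⁻¹ᵁ V) le_rfl).hom.toAlgebra
    ∑ᶠ x ∈ (p ⁻¹' {y} : Set X), G x =
      ∑ᶠ P ∈ {P : PrimeSpectrum Γ(X, p ⁻¹ᵁ V) |
        P.asIdeal.under Γ(Y, V) = (hV.primeIdealOf ⟨y, hy⟩).asIdeal}, G (hU.fromSpec P) := by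
  letI := (p.appLE V (p ⁻¹ᵁ V) le_rfl).hom.toAlgebra
  symm
  refine finsum_mem_eq_of_bijOn (fun P => hU.fromSpec P) ⟨?_, ?_, ?_⟩ (fun _ _ => rfl)
  · intro P hP
    have hP' : P.asIdeal.under Γ(Y, V) = (hV.primeIdealOf ⟨y, hy⟩).asIdeal := hP
    change p (hU.fromSpec P) = y
    rw [map_fromSpec p hV hU P]
    have : PrimeSpectrum.comap (p.appLE V (p ⁻¹ᵁ V) le_rfl).hom P = hV.primeIdealOf ⟨y, hy⟩ :=
      PrimeSpectrum.ext hP'
    rw [this]
    exact hV.fromSpec_primeIdealOf ⟨y, hy⟩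
  · exact hU.fromSpec.isOpenEmbedding.injective.injOn
  · intro x hx
    have hx' : p x = y := hx
    have hxU : x ∈ p ⁻¹ᵁ V := by
      change p x ∈ V
      rw [hx']
      exact hy
    refine ⟨hU.primeIdealOf ⟨x, hxU⟩, ?_, hU.fromSpec_primeIdealOf ⟨x, hxU⟩⟩
    change (hU.primeIdealOf ⟨x, hxU⟩).asIdeal.under Γ(Y, V) = _
    have h1 := IsAffineOpen.comap_primeIdealOf_appLE (f := p) V hV (p ⁻¹ᵁ V) hU le_rfl hxU
    have h2 : hV.primeIdealOf ⟨p x, hxU⟩ = hV.primeIdealOf ⟨y, hy⟩ := by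
      congr 1
      exact Subtype.ext hx'
    rw [h2] at h1
    exact congrArg PrimeSpectrum.asIdeal h1

end Reindex

section Nbhd

variable {X Y : Scheme.{u}} (p : X ⟶ Y)

/-- restriction of a finite restriction -/
theorem isFinite_morphismRestrict_of_le {V₀ V : Y.Opens} (hle : V ≤ V₀)
    (h : IsFinite (p ∣_ V₀)) : IsFinite (p ∣_ V) := by
  have h1 : IsFinite (p ∣_ V₀ ∣_ (V₀.ι ⁻¹ᵁ V)) := inferInstance
  have e : V₀.ι ''ᵁ (V₀.ι ⁻¹ᵁ V) = V := by
    rw [Scheme.Hom.image_preimage_eq_opensRange_inf, Scheme.Opens.opensRange_ι]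
    exact inf_eq_right.mpr hle
  have i1 := morphismRestrictRestrict p V₀ (V₀.ι ⁻¹ᵁ V)
  have i2 := morphismRestrictEq p e
  exact ((MorphismProperty.arrow_mk_iso_iff @IsFinite (i1 ≪≫ i2))).mp h1

/-- a finite restriction over an affine open: the preimage is affine and the ring map is finite -/
theorem affine_and_finite_of_isFinite {V : Y.Opens} (hV : IsAffineOpen V)
    (h : IsFinite (p ∣_ V)) :
    ∃ hU : IsAffineOpen (p ⁻¹ᵁ V), (p.appLE V (p ⁻¹ᵁ V) le_rfl).hom.Finite := by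
  haveI : IsAffine V := hV
  have hU : IsAffineOpen (p ⁻¹ᵁ V) := isAffine_of_isAffineHom (p ∣_ V)
  refine ⟨hU, ?_⟩
  have e : Spec.map (p.appLE V (p ⁻¹ᵁ V) le_rfl) =
      hU.isoSpec.inv ≫ (p ∣_ V) ≫ hV.isoSpec.hom := by
    rw [← cancel_mono hV.isoSpec.inv, ← cancel_mono V.ι]
    simp only [Category.assoc, Iso.hom_inv_id, Category.comp_id]
    have h1 := IsAffineOpen.SpecMap_appLE_fromSpec p hV hU le_rfl
    rw [IsAffineOpen.fromSpec, IsAffineOpen.fromSpec] at h1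
    rw [h1, morphismRestrict_ι]
    simp only [Category.assoc]
  have hfin : IsFinite (Spec.map (p.appLE V (p ⁻¹ᵁ V) le_rfl)) := by
    rw [e]
    infer_instance
  exact (IsFinite.SpecMap_iff _).mp hfin

end Nbhd

end Groth.Agent.Lib.Helper18.DL9
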