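import Mathlib
import Groth.Prelude.Def_Cyc
import Groth.Agent.Lib.Helper18.FF3

/-!
# Pushforward coefficients under `DeltaCompat`; finite flat pushforward of a flat pullback
-/

set_option autoImplicit false
set_option linter.unusedSectionVars false
set_option linter.style.haveILetI false
universe u
open AlgebraicGeometry CategoryTheory TopologicalSpace

namespace Groth.Agent.Lib.Helper18.FF4

open Groth.Agent.Lib.Helper18.FF3

variable {X Y : Scheme.{u}} (f : X ⟶ Y)

theorem residueDegree_eq_zero_of_ne (δX : X → ℤ) (δY : Y → ℤ) (hδ : Cyc.DeltaCompat f δX δY)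
    (x : X) (h : δX x ≠ δY (f x)) : f.residueDegree x = 0 := by
  obtain ⟨n, hn1, hn2⟩ := hδ x
  letI := (f.residueFieldMap x).hom.toAlgebra
  by_contra hne
  have hpos : 0 < Module.finrank (Y.residueField (f x)) (X.residueField x) :=
    Nat.pos_of_ne_zero hne
  haveI : Module.Finite (Y.residueField (f x)) (X.residueField x) :=
    Module.finite_of_finrank_pos hpos
  have h0 : Algebra.trdeg (Y.residueField (f x)) (X.residueField x) = 0 := trdeg_eq_zero
  rw [h0] at hn1
  have : n = 0 := by exact_mod_cast hn1.symm
  subst this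
  apply h
  simpa using hn2

theorem mapCoeff_eq_residueDegree (δX : X → ℤ) (δY : Y → ℤ) (hδ : Cyc.DeltaCompat f δX δY)
    (x : X) : AlgebraicCycle.mapCoeff f δX δY x = f.residueDegree x := by
  unfold AlgebraicCycle.mapCoeff
  split_ifs with h
  · rfl
  · exact (residueDegree_eq_zero_of_ne f δX δY hδ x h).symm

end Groth.Agent.Lib.Helper18.FF4
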