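import Mathlib
import Groth.Prelude.Def_Cyc
import Groth.Agent.Lib.Helper18.FF4

/-!
# Local lemmas for the base change formula: flat local lengths, stalk-surjective morphisms
-/

set_option autoImplicit false
set_option linter.unusedSectionVars false
set_option linter.style.haveILetI false
universe u
open AlgebraicGeometry CategoryTheory TopologicalSpace

namespace Groth.Agent.Lib.Helper18.FF5

open Groth.Agent.Lib.Helper18.FF2 Groth.Agent.Lib.Helper18.FF3

/-- `ℓ(B) = ℓ(A) · ℓ(B/m_A B)` for a flat local homomorphism `A → B` -/
theorem length_self_of_flat {A B : Type u} [CommRing A] [CommRing B] [IsLocalRing A]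
    [IsLocalRing B] (ψ : A →+* B) [IsLocalHom ψ] (hψ : ψ.Flat) :
    Module.length B B = Module.length A A *
      Module.length B (B ⧸ Ideal.map ψ (IsLocalRing.maximalIdeal A)) := by
  letI := ψ.toAlgebra
  have hfl : Module.Flat A B := hψ
  have hloc : IsLocalHom (algebraMap A B) := ‹IsLocalHom ψ›
  have h1 := IsLocalRing.length_baseChange A B A
  rw [(TensorProduct.AlgebraTensorModule.rid A B B).length_eq] at h1
  exact h1

variable {G F : Scheme.{u}} (π : G ⟶ F)

/-- for a flat morphism: `ℓ(O_{G,g}) · [κ(g):κ(π g)] = ℓ(O_{F,π g}) · ℓ_{O_{F,π g}}(O_{G,g}/m O_{G,g})` -/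
theorem toNat_length_stalk_mul_residueDegree [Flat π] (g : G) :
    (Module.length (G.presheaf.stalk g) (G.presheaf.stalk g)).toNat * π.residueDegree g =
      (Module.length (F.presheaf.stalk (π g)) (F.presheaf.stalk (π g))).toNat *
        (fibLenAt π g).toNat := by
  rw [toNat_fibLenAt, length_self_of_flat (π.stalkMap g).hom (Flat.stalkMap π g), ENat.toNat_mul]
  ring

/-- length of the target modulo the kernel of a surjective ring hom -/
theorem length_quot_ker_of_surjective {A B : Type u} [CommRing A] [CommRing B] (σ : A →+* B)
    (hσ : Function.Surjective σ) (I : Ideal A) (hI : RingHom.ker σ = I) :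
    Module.length A (A ⧸ I) = Module.length B B := by
  subst hI
  refine length_eq_of_semilinear_bijective σ hσ
    ((RingHom.quotientKerEquivOfSurjective hσ : (A ⧸ RingHom.ker σ) ≃+* B) : _ →+ _)
    (RingHom.quotientKerEquivOfSurjective hσ).bijective ?_
  intro a m
  obtain ⟨b, rfl⟩ := Ideal.Quotient.mk_surjective m
  change (RingHom.quotientKerEquivOfSurjective hσ) (Ideal.Quotient.mk _ (a * b)) = _
  rw [RingHom.quotientKerEquivOfSurjective_apply_mk, map_mul]
  rfl

variable {Z W : Scheme.{u}} (i : Z ⟶ W)

/-- a morphism with surjective stalk map has residue degree one -/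
theorem residueDegree_eq_one_of_surjective (z : Z)
    (hs : Function.Surjective (i.stalkMap z).hom) : i.residueDegree z = 1 := by
  letI := (i.residueFieldMap z).hom.toAlgebra
  have hsurj : Function.Surjective (algebraMap (W.residueField (i z)) (Z.residueField z)) := by
    intro r
    obtain ⟨b, rfl⟩ := IsLocalRing.residue_surjective r
    obtain ⟨a, rfl⟩ := hs b
    exact ⟨IsLocalRing.residue _ a, rfl⟩
  have hbij : Function.Bijective (algebraMap (W.residueField (i z)) (Z.residueField z)) :=
    ⟨(algebraMap (W.residueField (i z)) (Z.residueField z)).injective, hsurj⟩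
  let e : W.residueField (i z) ≃ₗ[W.residueField (i z)] Z.residueField z :=
    LinearEquiv.ofBijective (Algebra.linearMap _ _) hbij
  change Module.finrank (W.residueField (i z)) (Z.residueField z) = 1
  rw [← e.finrank_eq, Module.finrank_self]

/-- finiteness of the residue field extension from `trdeg = 0` for a morphism locally of finite
type -/
theorem finite_residueFieldMap_of_delta_eq {X Y : Scheme.{u}} (f : X ⟶ Y) [LocallyOfFiniteType f]
    (δX : X → ℤ) (δY : Y → ℤ) (hδ : Cyc.DeltaCompat f δX δY) (x : X) (h : δX x = δY (f x)) :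
    (f.residueFieldMap x).hom.Finite := by
  obtain ⟨n, hn1, hn2⟩ := hδ x
  letI := (f.residueFieldMap x).hom.toAlgebra
  have hn0 : n = 0 := by
    have : (n : ℤ) = 0 := by linarith
    exact_mod_cast this
  subst hn0
  have halg : Algebra.IsAlgebraic (Y.residueField (f x)) (X.residueField x) := by
    rw [← _root_.trdeg_eq_zero_iff]
    exact_mod_cast hn1
  have hess : (f.residueFieldMap x).hom.EssFiniteType :=
    RingHom.EssFiniteType.residueFieldMap (LocallyOfFiniteType.stalkMap f x)
  haveI : Algebra.EssFiniteType (Y.residueField (f x)) (X.residueField x) := hess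
  exact Algebra.finite_of_essFiniteType_of_isAlgebraic

end Groth.Agent.Lib.Helper18.FF5
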