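import Mathlib
import Groth.Agent.Lib.Helper18.DL9
import Groth.Agent.Lib.Helper18.FF5

/-!
# Proper pushforward of a principal divisor is the divisor of the norm
-/

set_option autoImplicit false
set_option linter.unusedSectionVars false
set_option linter.style.haveILetI false
universe u
open AlgebraicGeometry CategoryTheory TopologicalSpace

namespace Groth.Agent.Lib.Helper18.DL10

open Groth.Agent.Lib.Helper18.DivPull Groth.Agent.Lib.Helper18.DL5 Groth.Agent.Lib.Helper18.DL6
  Groth.Agent.Lib.Helper18.DL7 Groth.Agent.Lib.Helper18.DL8 Groth.Agent.Lib.Helper18.DL9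
  Groth.Agent.Lib.Helper18.FF3 Groth.Agent.Lib.Helper18.FF2

variable {X Y : Scheme.{u}} [IsIntegral X] [IsIntegral Y] (δX : X → ℤ) (δY : Y → ℤ)
  (hX : Cyc.IsSetup X δX) (hY : Cyc.IsSetup Y δY) (p : X ⟶ Y) [IsProper p]
  (hδ : Cyc.DeltaCompat p δX δY) (hdom : p (genericPoint X) = genericPoint Y)
  (hn : δX (genericPoint X) = δY (genericPoint Y))

include hX hδ hdom hn in
/-- the points of the fibre over a codimension one point have codimension one -/
theorem fibre_facts (y : Y) (h1 : δY y + 1 = δY (p (genericPoint X))) (x : X) (hx : p x = y) :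
    δX x + 1 = δX (genericPoint X) ∧ δX x = δY (p x) := by
  have hne : genericPoint X ≠ x := by
    intro h
    rw [← h] at hx
    rw [hx] at h1
    omega
  have hlt := (hX.2.2 (genericPoint X) x (genericPoint_specializes x) hne).1
  obtain ⟨n, -, hn'⟩ := hδ x
  rw [hx] at hn' ⊢
  have h3 : δX (genericPoint X) = δY (p (genericPoint X)) := by rw [hn, hdom]
  constructor <;> omega

include hX hδ hdom hn in
theorem finite_fibre (y : Y) (h1 : δY y + 1 = δY (p (genericPoint X))) :
    (p ⁻¹' {y} : Set X).Finite := by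
  haveI : IsLocallyNoetherian X := hX.1
  obtain ⟨W, hW, hyW, -⟩ := exists_isAffineOpen_mem_and_subset (x := y) (U := ⊤) trivial
  have hc : IsCompact (p ⁻¹ᵁ W : Set X) := p.isSpectralMap.2 W.isOpen hW.isCompact
  obtain ⟨s, hs, hsU⟩ := (isCompact_iff_finite_and_eq_biUnion_affineOpens (U := p ⁻¹ᵁ W)).mp hc
  have hle : ∀ U' ∈ s, (U' : X.Opens) ≤ p ⁻¹ᵁ W := by
    intro U' hU'
    rw [hsU]
    exact le_iSup₂ (f := fun (i : X.affineOpens) (_ : i ∈ s) => (i : X.Opens)) U' hU'
  have hfin : (⋃ U' ∈ s, {ξ' : X | ξ' ∈ (U' : X.Opens) ∧ p ξ' = y ∧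
      ∀ z, p z = p ξ' → z ⤳ ξ' → z = ξ'}).Finite := by
    refine hs.biUnion fun U' hU' => ?_
    exact Groth.Agent.Lib.Helper18.FibreFin.finite_fibre_generic p U'.2 hW (hle U' hU') y
  refine hfin.subset ?_
  intro x hx
  have hx' : p x = y := hx
  have hxW : x ∈ p ⁻¹ᵁ W := by
    change p x ∈ W
    rw [hx']
    exact hyW
  rw [hsU] at hxW
  simp only [Opens.mem_iSup] at hxW
  obtain ⟨U', hU's, hxU'⟩ := hxW
  refine Set.mem_biUnion hU's ⟨hxU', hx', ?_⟩
  intro z hz hzx
  by_contra hne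
  have hlt := (hX.2.2 z x hzx hne).1
  have h1z := (fibre_facts δX δY hX p hδ hdom hn y h1 z (hz.trans hx')).1
  have h1x := (fibre_facts δX δY hX p hδ hdom hn y h1 x hx').1
  omega

theorem normGen_ne_zero (η : X) (g : X.residueField η) (hg : g ≠ 0) :
    Cyc.normGen p η g ≠ 0 := by
  unfold Cyc.normGen
  letI := (p.residueFieldMap η).hom.toAlgebra
  by_cases hfin : Module.Finite (Y.residueField (p η)) (X.residueField η)
  · rw [Ne, Algebra.norm_eq_zero_iff]
    exact hg
  · rw [Algebra.norm_eq_one_of_not_module_finite hfin]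
    exact one_ne_zero

theorem normGen_div (η : X) (g₁ g₂ : X.residueField η) (hg₂ : g₂ ≠ 0) :
    Cyc.normGen p η (g₁ / g₂) = Cyc.normGen p η g₁ / Cyc.normGen p η g₂ := by
  have h0 := normGen_ne_zero p η g₂ hg₂
  rw [eq_div_iff h0]
  unfold Cyc.normGen
  letI := (p.residueFieldMap η).hom.toAlgebra
  rw [← map_mul, div_mul_cancel₀ g₁ hg₂]

include hX hY hδ hdom hn in
/-- **Proper pushforward of a principal divisor is the divisor of the norm.** -/
theorem map_divFun (f : X.residueField (genericPoint X)) (hf : f ≠ 0) (α : AlgebraicCycle X ℤ)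
    (hα : ⇑α = Cyc.divFun δX (genericPoint X) f) :
    ⇑(AlgebraicCycle.map p δX δY α) =
      Cyc.divFun δY (p (genericPoint X)) (Cyc.normGen p (genericPoint X) f) := by
  classical
  funext y
  simp only [AlgebraicCycle.map, Function.locallyFinsupp.map_apply]
  have hspecY : p (genericPoint X) ⤳ y := by
    rw [hdom]
    exact genericPoint_specializes y
  by_cases h1 : δY y + 1 = δY (p (genericPoint X))
  swap
  · -- the coefficient vanishes on both sides
    have hR : Cyc.divFun δY (p (genericPoint X)) (Cyc.normGen p (genericPoint X) f) y = 0 := by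
      unfold Cyc.divFun
      rw [dif_neg (fun h => h1 h.2)]
    rw [hR]
    apply finsum_mem_eq_zero_of_forall_eq_zero
    intro x hx
    have hx' : p x = y := hx
    by_contra hne
    have h2 : α x ≠ 0 := left_ne_zero_of_mul hne
    have h3 : ((AlgebraicCycle.mapCoeff p δX δY x : ℕ) : ℤ) ≠ 0 := right_ne_zero_of_mul hne
    rw [hα] at h2
    unfold Cyc.divFun at h2
    split_ifs at h2 with hc
    · unfold AlgebraicCycle.mapCoeff at h3
      split_ifs at h3 with hd
      · apply h1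
        have hd' : δX x = δY (p x) := hd
        rw [← hx', ← hd', hc.2, hn, hdom]
      · exact h3 rfl
    · exact h2 rfl
  · -- the main case
    have hfacts := fibre_facts δX δY hX p hδ hdom hn y h1
    have hfinF := finite_fibre δX δY hX p hδ hdom hn y h1
    obtain ⟨V₀, hyV₀, hV₀fin⟩ :=
      exists_isFinite_morphismRestrict_of_finite_preimage_singleton p y hfinF
    obtain ⟨V, hV, hyV, hVV₀⟩ := exists_isAffineOpen_mem_and_subset (x := y) (U := V₀) hyV₀
    have hVfin := isFinite_morphismRestrict_of_le p hVV₀ hV₀fin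
    obtain ⟨hU, hφfin⟩ := affine_and_finite_of_isFinite p hV hVfin
    have hηU : genericPoint X ∈ p ⁻¹ᵁ V := hspecY.mem_open V.2 hyV
    haveI : Nonempty ↥(p ⁻¹ᵁ V) := ⟨⟨genericPoint X, hηU⟩⟩
    letI algDL : Algebra Γ(X, p ⁻¹ᵁ V) (X.residueField (genericPoint X)) :=
      (ev (p ⁻¹ᵁ V) (genericPoint X) hηU).toAlgebra
    haveI := isFractionRing_ev hU (genericPoint X) rfl hηU
    obtain ⟨b₁, b₂, hb₂, hfrac⟩ := IsFractionRing.div_surjective (A := Γ(X, p ⁻¹ᵁ V)) f
    have hfrac' : ev (p ⁻¹ᵁ V) (genericPoint X) hηU b₁ / ev (p ⁻¹ᵁ V) (genericPoint X) hηU b₂ =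
        f := hfrac
    have hb₂0 : b₂ ≠ 0 := nonZeroDivisors.ne_zero hb₂
    have hb₁0 : b₁ ≠ 0 := by
      rintro rfl
      rw [map_zero, zero_div] at hfrac'
      exact hf hfrac'.symm
    have hinj := ev_injective (p ⁻¹ᵁ V) (genericPoint X) rfl hηU
    have he₁ : ev (p ⁻¹ᵁ V) (genericPoint X) hηU b₁ ≠ 0 := (map_ne_zero_iff _ hinj).mpr hb₁0
    have he₂ : ev (p ⁻¹ᵁ V) (genericPoint X) hηU b₂ ≠ 0 := (map_ne_zero_iff _ hinj).mpr hb₂0
    have e₁ := norm_formula p hV hU δY hY hφfin (genericPoint X) rfl hηU hdom y hyV hspecY h1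
      b₁ hb₁0
    have e₂ := norm_formula p hV hU δY hY hφfin (genericPoint X) rfl hηU hdom y hyV hspecY h1
      b₂ hb₂0
    -- the right hand side
    have hR : Cyc.divFun δY (p (genericPoint X)) (Cyc.normGen p (genericPoint X) f) y =
        Cyc.ordAt y (p (genericPoint X)) hspecY (Cyc.normGen p (genericPoint X) f) := by
      unfold Cyc.divFun
      rw [dif_pos ⟨hspecY, h1⟩]
    haveI : IsLocallyNoetherian Y := hY.1
    rw [hR, ← hfrac', normGen_div p _ _ _ he₂,
      ordAt_div δY hY.2.2 y (p (genericPoint X)) hspecY hdom h1 _ _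
        (normGen_ne_zero p _ _ he₁) (normGen_ne_zero p _ _ he₂), e₁, e₂,
      finsum_fibre_eq p hV hU y hyV]
    -- finiteness of the index set
    letI := (p.appLE V (p ⁻¹ᵁ V) le_rfl).hom.toAlgebra
    have hSfin : {P : PrimeSpectrum Γ(X, p ⁻¹ᵁ V) |
        P.asIdeal.under Γ(Y, V) = (hV.primeIdealOf ⟨y, hyV⟩).asIdeal}.Finite := by
      refine Set.Finite.of_finite_image (f := fun P => hU.fromSpec P) (hfinF.subset ?_)
        hU.fromSpec.isOpenEmbedding.injective.injOn
      rintro _ ⟨P, hP, rfl⟩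
      have hP' : P.asIdeal.under Γ(Y, V) = (hV.primeIdealOf ⟨y, hyV⟩).asIdeal := hP
      change p (hU.fromSpec P) = y
      rw [map_fromSpec p hV hU P]
      have : PrimeSpectrum.comap (p.appLE V (p ⁻¹ᵁ V) le_rfl).hom P =
          hV.primeIdealOf ⟨y, hyV⟩ := PrimeSpectrum.ext hP'
      rw [this]
      exact hV.fromSpec_primeIdealOf ⟨y, hyV⟩
    rw [← finsum_mem_sub_distrib _ _ hSfin]
    apply finsum_mem_congr rfl
    intro P hP
    have hP' : P.asIdeal.under Γ(Y, V) = (hV.primeIdealOf ⟨y, hyV⟩).asIdeal := hP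
    have hpx : p (hU.fromSpec P) = y := by
      rw [map_fromSpec p hV hU P]
      have : PrimeSpectrum.comap (p.appLE V (p ⁻¹ᵁ V) le_rfl).hom P =
          hV.primeIdealOf ⟨y, hyV⟩ := PrimeSpectrum.ext hP'
      rw [this]
      exact hV.fromSpec_primeIdealOf ⟨y, hyV⟩
    obtain ⟨hc1, hc2⟩ := hfacts (hU.fromSpec P) hpx
    have hsx : genericPoint X ⤳ hU.fromSpec P := genericPoint_specializes _
    haveI : IsLocallyNoetherian X := hX.1
    rw [tau_eq p hU δX hX (genericPoint X) rfl hηU b₁ hb₁0 P hsx hc1,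
      tau_eq p hU δX hX (genericPoint X) rfl hηU b₂ hb₂0 P hsx hc1, ← sub_mul,
      ← ordAt_div δX hX.2.2 (hU.fromSpec P) (genericPoint X) hsx rfl hc1 _ _ he₁ he₂, hfrac',
      Groth.Agent.Lib.Helper18.FF4.mapCoeff_eq_residueDegree p δX δY hδ, hα]
    unfold Cyc.divFun
    rw [dif_pos ⟨hsx, hc1⟩]

end Groth.Agent.Lib.Helper18.DL10
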