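import Mathlib
import Groth.Prelude.Def_C1
import Groth.Agent.Lib.Helper18.DivPull3

/-!
# The principal divisor of a rational function has locally finite support
-/

set_option autoImplicit false
set_option linter.style.haveILetI false
universe u
open CategoryTheory AlgebraicGeometry TopologicalSpace

namespace Groth.Agent.Lib.Helper18.DivLocFin

open Groth.Agent.Lib.Helper18.DivPull

variable {X : Scheme.{u}}

/-- on an affine open, finitely many immediate specializations of `ξ` lie in the zero locus of a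
function not vanishing at `ξ` -/
theorem finite_immSpec_notUnit [IsLocallyNoetherian X] (δ : X → ℤ) (hδ : Cyc.IsDimFun X δ)
    {V : X.Opens} (hV : IsAffineOpen V) (ξ : X) (hξ : ξ ∈ V) (c : Γ(X, V))
    (hc : IsUnit (X.presheaf.germ V ξ hξ c)) :
    {x : X | ∃ hx : x ∈ V, ξ ⤳ x ∧ δ x + 1 = δ ξ ∧ ¬ IsUnit (X.presheaf.germ V x hx c)}.Finite := by
  classical
  haveI : IsNoetherianRing Γ(X, V) := IsLocallyNoetherian.component_noetherian ⟨V, hV⟩
  set P : Ideal Γ(X, V) := (hV.primeIdealOf ⟨ξ, hξ⟩).asIdeal with hP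
  have hfin := (P ⊔ Ideal.span {c}).finite_minimalPrimes_of_isNoetherianRing
  have hmem : ∀ (x : X) (hx : x ∈ V), c ∈ (hV.primeIdealOf ⟨x, hx⟩).asIdeal ↔
      ¬ IsUnit (X.presheaf.germ V x hx c) := by
    intro x hx
    letI := X.presheaf.algebra_section_stalk ⟨x, hx⟩
    haveI := hV.isLocalization_stalk ⟨x, hx⟩
    rw [← not_iff_not, not_not]
    exact (IsLocalization.AtPrime.isUnit_to_map_iff (X.presheaf.stalk x)
      (hV.primeIdealOf ⟨x, hx⟩).asIdeal c).symm
  have hcP : c ∉ P := fun h => ((hmem ξ hξ).mp h) hc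
  have hspec : ∀ (x y : X) (hx : x ∈ V) (hy : y ∈ V),
      hV.primeIdealOf ⟨x, hx⟩ ≤ hV.primeIdealOf ⟨y, hy⟩ ↔ x ⤳ y := by
    intro x y hx hy
    rw [PrimeSpectrum.le_iff_specializes]
    have := hV.fromSpec.isOpenEmbedding.isInducing.specializes_iff
      (x := hV.primeIdealOf ⟨x, hx⟩) (y := hV.primeIdealOf ⟨y, hy⟩)
    rw [hV.fromSpec_primeIdealOf, hV.fromSpec_primeIdealOf] at this
    exact this.symm
  set F : X → Ideal Γ(X, V) := fun x =>
    if hx : x ∈ V then (hV.primeIdealOf ⟨x, hx⟩).asIdeal else ⊥ with hF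
  have hinj : Set.InjOn F {x : X | x ∈ V} := by
    intro x hx y hy hxy
    simp only [hF, dif_pos (show x ∈ V from hx), dif_pos (show y ∈ V from hy)] at hxy
    have h1 : hV.primeIdealOf ⟨x, hx⟩ = hV.primeIdealOf ⟨y, hy⟩ := PrimeSpectrum.ext hxy
    have h2 := congrArg hV.fromSpec h1
    rw [hV.fromSpec_primeIdealOf, hV.fromSpec_primeIdealOf] at h2
    exact h2
  refine Set.Finite.subset (hfin.preimage (hinj.mono ?_)) ?_
  · intro x hx
    by_contra hxV
    have hx' : F x ∈ (P ⊔ Ideal.span {c}).minimalPrimes := hx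
    have hFx : F x = ⊥ := by simp only [hF]; exact dif_neg hxV
    rw [hFx] at hx'
    have : c ∈ (⊥ : Ideal Γ(X, V)) :=
      hx'.1.2 (Ideal.mem_sup_right (Ideal.subset_span rfl))
    have hc0 : c = 0 := this
    exact hcP (hc0 ▸ P.zero_mem)
  · rintro x ⟨hx, hsp, hδx, hnu⟩
    change F x ∈ (P ⊔ Ideal.span {c}).minimalPrimes
    simp only [hF, dif_pos hx]
    have hcx : c ∈ (hV.primeIdealOf ⟨x, hx⟩).asIdeal := (hmem x hx).mpr hnu
    have hPx : P ≤ (hV.primeIdealOf ⟨x, hx⟩).asIdeal := (hspec ξ x hξ hx).mpr hsp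
    refine ⟨⟨(hV.primeIdealOf ⟨x, hx⟩).2,
      sup_le hPx ((Ideal.span_singleton_le_iff_mem _).mpr hcx)⟩, ?_⟩
    rintro P' ⟨hP', hle'⟩ hle
    -- the point of `P'`
    set x' : X := hV.fromSpec ⟨P', hP'⟩ with hx'
    have hx'V : x' ∈ V := by
      have : x' ∈ (V : Set X) := by
        rw [← hV.range_fromSpec]; exact ⟨_, rfl⟩
      exact this
    have hP'eq : hV.primeIdealOf ⟨x', hx'V⟩ = ⟨P', hP'⟩ := by
      apply hV.fromSpec.isOpenEmbedding.injective
      rw [hV.fromSpec_primeIdealOf]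
    have h1 : ξ ⤳ x' := by
      rw [← hspec ξ x' hξ hx'V, hP'eq]
      change P ≤ P'
      exact le_trans le_sup_left hle'
    have h2 : x' ⤳ x := by
      rw [← hspec x' x hx'V hx, hP'eq]
      change P' ≤ _
      exact hle
    by_cases hxx : x' = x
    · have : (⟨P', hP'⟩ : PrimeSpectrum Γ(X, V)) = hV.primeIdealOf ⟨x, hx⟩ := by
        rw [← hP'eq]; congr 1; exact Subtype.ext hxx
      rw [← this]
    · exfalso
      have h3 := (hδ x' x h2 hxx).1
      have hξx' : ξ = x' := by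
        by_contra hne
        have := (hδ ξ x' h1 hne).1
        omega
      have : (⟨P', hP'⟩ : PrimeSpectrum Γ(X, V)) = hV.primeIdealOf ⟨ξ, hξ⟩ := by
        rw [← hP'eq]; congr 1; exact Subtype.ext hξx'.symm
      have hP'P : P' = P := congrArg PrimeSpectrum.asIdeal this
      apply hcP
      rw [← hP'P]
      exact hle' (Ideal.mem_sup_right (Ideal.subset_span rfl))

/-- a nonzero rational function is a unit near the generic point -/
theorem exists_open_ordAt_eq_zero (ξ : X) (f : X.residueField ξ) (hf : f ≠ 0) :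
    ∃ W : X.Opens, ξ ∈ W ∧ ∀ (x : X) (_ : x ∈ W) (h : ξ ⤳ x), Cyc.ordAt x ξ h f = 0 := by
  obtain ⟨s, rfl⟩ := X.residue_surjective ξ f
  obtain ⟨W, hξW, a, rfl⟩ := X.presheaf.exists_germ_eq (x := ξ) s
  have hu : IsUnit (X.presheaf.germ W ξ hξW a) := by
    by_contra hnu
    apply hf
    exact (IsLocalRing.residue_eq_zero_iff _).mpr ((IsLocalRing.mem_maximalIdeal _).mpr hnu)
  refine ⟨X.basicOpen a, (X.mem_basicOpen a ξ hξW).mpr hu, ?_⟩
  intro x hx h
  have hxW : x ∈ W := X.basicOpen_le a hx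
  have hux : IsUnit (X.presheaf.germ W x hxW a) := (X.mem_basicOpen a x hxW).mp hx
  have e : (X.residue ξ).hom (X.presheaf.germ W ξ hξW a) =
      algebraMap (Cyc.LocQuot x ξ h) (X.residueField ξ)
        (Ideal.Quotient.mk (RingHom.ker (Cyc.specMap x ξ h)) (X.presheaf.germ W x hxW a)) := by
    rw [algebraMap_locQuot_mk]
    unfold Cyc.specMap
    rw [CommRingCat.hom_comp, RingHom.comp_apply,
      TopCat.Presheaf.germ_stalkSpecializes_apply]
  unfold Cyc.ordAt
  rw [e]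
  exact ordFrac_algebraMap_of_isUnit _ (hux.map _)

theorem finite_inter_support_divFun (δ : X → ℤ) (hX : Cyc.IsSetup X δ) (ξ : X)
    (f : X.residueField ξ) (hf : f ≠ 0) {V : X.Opens} (hV : IsAffineOpen V) :
    ((V : Set X) ∩ Function.support (Cyc.divFun δ ξ f)).Finite := by
  classical
  haveI : IsLocallyNoetherian X := hX.1
  have hsupp : ∀ x, Cyc.divFun δ ξ f x ≠ 0 →
      ∃ h : ξ ⤳ x ∧ δ x + 1 = δ ξ, Cyc.ordAt x ξ h.1 f ≠ 0 := by
    intro x hx
    unfold Cyc.divFun at hx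
    by_cases hc : ξ ⤳ x ∧ δ x + 1 = δ ξ
    · rw [dif_pos hc] at hx
      exact ⟨hc, hx⟩
    · rw [dif_neg hc] at hx
      exact absurd rfl hx
  by_cases hξ : ξ ∈ V
  · obtain ⟨W, hξW, hW⟩ := exists_open_ordAt_eq_zero ξ f hf
    obtain ⟨c, hcW, hξc⟩ := hV.exists_basicOpen_le (V := W) ⟨ξ, hξW⟩ hξ
    have hcu : IsUnit (X.presheaf.germ V ξ hξ c) := (X.mem_basicOpen c ξ hξ).mp hξc
    refine (finite_immSpec_notUnit δ hX.2.2 hV ξ hξ c hcu).subset ?_
    rintro x ⟨hxV, hx⟩
    obtain ⟨hcond, hord⟩ := hsupp x hx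
    refine ⟨hxV, hcond.1, hcond.2, ?_⟩
    intro hu
    have hxc : x ∈ X.basicOpen c := (X.mem_basicOpen c x hxV).mpr hu
    exact hord (hW x (hcW hxc) hcond.1)
  · refine Set.Finite.subset Set.finite_empty ?_
    rintro x ⟨hxV, hx⟩
    obtain ⟨hcond, -⟩ := hsupp x hx
    exact hξ (hcond.1.mem_open V.2 hxV)

end Groth.Agent.Lib.Helper18.DivLocFin
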