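import Mathlib
import Groth.Prelude.Def_Cyc

/-!
# Cancellation and uniqueness for induced dimension functions
-/

set_option autoImplicit false
set_option linter.unusedSectionVars false
set_option linter.style.haveILetI false
universe u
open AlgebraicGeometry CategoryTheory

namespace Groth.Agent.Lib.Helper18.FF8

/-- if `δ₁` is induced from `δ₃` along `a ≫ b` and `δ₂` is induced from `δ₃` along `b`, then `δ₁` is
induced from `δ₂` along `a` -/
theorem deltaCompat_cancel {A B C : Scheme.{u}} (a : A ⟶ B) (b : B ⟶ C) (δ₁ : A → ℤ) (δ₂ : B → ℤ)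
    (δ₃ : C → ℤ) (hab : Cyc.DeltaCompat (a ≫ b) δ₁ δ₃) (hb : Cyc.DeltaCompat b δ₂ δ₃) :
    Cyc.DeltaCompat a δ₁ δ₂ := by
  intro x
  obtain ⟨n, hn, hδn⟩ := hab x
  obtain ⟨m, hm, hδm⟩ := hb (a x)
  let algBA : Algebra (B.residueField (a x)) (A.residueField x) := (a.residueFieldMap x).hom.toAlgebra
  let algCB : Algebra (C.residueField (b (a x))) (B.residueField (a x)) :=
    (b.residueFieldMap (a x)).hom.toAlgebra
  let algCA : Algebra (C.residueField (b (a x))) (A.residueField x) :=
    ((a ≫ b).residueFieldMap x).hom.toAlgebra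
  have hST : IsScalarTower (C.residueField (b (a x))) (B.residueField (a x)) (A.residueField x) :=
    IsScalarTower.of_algebraMap_eq' (by
      change ((a ≫ b).residueFieldMap x).hom =
        (a.residueFieldMap x).hom.comp (b.residueFieldMap (a x)).hom
      rw [Scheme.residueFieldMap_comp]; rfl)
  have h1 : FaithfulSMul (C.residueField (b (a x))) (B.residueField (a x)) :=
    (faithfulSMul_iff_algebraMap_injective _ _).mpr (RingHom.injective _)
  have h2 : FaithfulSMul (B.residueField (a x)) (A.residueField x) :=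
    (faithfulSMul_iff_algebraMap_injective _ _).mpr (RingHom.injective _)
  have key := trdeg_add_eq (C.residueField (b (a x))) (B.residueField (a x))
    (A := A.residueField x)
  have hn' : Algebra.trdeg (C.residueField (b (a x))) (A.residueField x) = n := hn
  rw [hn', hm] at key
  -- the middle transcendence degree is a natural number
  have hle : Algebra.trdeg (B.residueField (a x)) (A.residueField x) ≤ (n : Cardinal) := by
    rw [← key]
    exact le_add_self
  obtain ⟨l, hl⟩ := Cardinal.lt_aleph0.mp (lt_of_le_of_lt hle (Cardinal.nat_lt_aleph0 n))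
  refine ⟨l, hl, ?_⟩
  rw [hl] at key
  have hnat : m + l = n := by exact_mod_cast key
  have e1 : (a ≫ b) x = b (a x) := rfl
  rw [e1] at hδn
  rw [hδn, hδm, ← hnat]
  push_cast
  ring

/-- the induced dimension function is unique -/
theorem deltaCompat_unique {A B : Scheme.{u}} (a : A ⟶ B) (δ₁ δ₂ : A → ℤ) (δ : B → ℤ)
    (h₁ : Cyc.DeltaCompat a δ₁ δ) (h₂ : Cyc.DeltaCompat a δ₂ δ) : δ₁ = δ₂ := by
  funext x
  obtain ⟨n, hn, hδn⟩ := h₁ x
  obtain ⟨m, hm, hδm⟩ := h₂ x
  have : (n : Cardinal) = m := hn.symm.trans hm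
  have hnm : n = m := by exact_mod_cast this
  rw [hδn, hδm, hnm]

end Groth.Agent.Lib.Helper18.FF8
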