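import Mathlib

/-!
# A regular element with flat quotient stays regular modulo an ideal of the base
-/

set_option autoImplicit false
set_option linter.style.haveILetI false
universe u
open scoped Pointwise TensorProduct

namespace Groth.Agent.Lib.Helper18.FlatQuotReg

variable {A B : Type u} [CommRing A] [CommRing B] [Algebra A B]

/-- if `f ∈ B` is a nonzerodivisor and `B/fB` is flat over `A` then `f` is a nonzerodivisor on
`B/IB` for every ideal `I` of `A` -/
theorem isSMulRegular_quot_map (f : B) (hf : IsSMulRegular B f)
    [Module.Flat A (B ⧸ Ideal.span {f})] (I : Ideal A) :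
    IsSMulRegular (B ⧸ I.map (algebraMap A B)) f := by
  let g : B →ₗ[A] B := (LinearMap.lsmul B B f).restrictScalars A
  have hg : Function.Injective g := hf
  let π : B →ₗ[A] B ⧸ Ideal.span {f} := (Ideal.Quotient.mkₐ A (Ideal.span {f})).toLinearMap
  have hπ : Function.Surjective π := Ideal.Quotient.mk_surjective
  have H : Function.Exact g π := by
    intro x
    change Ideal.Quotient.mk (Ideal.span {f}) x = 0 ↔ x ∈ Set.range g
    rw [Ideal.Quotient.eq_zero_iff_mem, Ideal.mem_span_singleton']
    constructor
    · rintro ⟨c, rfl⟩
      exact ⟨c, by change f • c = c * f; rw [smul_eq_mul, mul_comm]⟩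
    · rintro ⟨c, rfl⟩
      exact ⟨c, by change c * f = f • c; rw [smul_eq_mul, mul_comm]⟩
  have hinj := LinearMap.lTensor_injective_of_exact_of_flat π hπ g hg H (A ⧸ I)
  have hinj' : Function.Injective (g.rTensor (A ⧸ I)) := by
    intro x y hxy
    have h1 := congrArg (TensorProduct.comm A B (A ⧸ I)) hxy
    rw [← LinearMap.lTensor_comm, ← LinearMap.lTensor_comm] at h1
    exact (TensorProduct.comm A B (A ⧸ I)).injective (hinj h1)
  have hsm : ∀ z : B ⊗[A] (A ⧸ I), g.rTensor (A ⧸ I) z = f • z := by
    intro z
    induction z using TensorProduct.induction_on with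
    | zero => rw [map_zero, smul_zero]
    | tmul b a =>
      rw [LinearMap.rTensor_tmul, TensorProduct.smul_tmul']
      rfl
    | add x y hx hy => rw [map_add, hx, hy, smul_add]
  let e := (Algebra.TensorProduct.quotIdealMapEquivTensorQuot B I).toLinearEquiv
  intro y z hyz
  apply e.injective
  apply hinj'
  rw [hsm, hsm, ← map_smul, ← map_smul]
  exact congrArg e hyz

end Groth.Agent.Lib.Helper18.FlatQuotReg
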