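import Mathlib
import Groth.Agent.Lib.Helper26.FracLength
import Groth.Agent.Lib.Helper18.PushStalk

/-!
# Algebra for the relative length formula: `B/𝔭B` for a flat local homomorphism `A → B`
-/

set_option autoImplicit false
set_option linter.style.haveILetI false
set_option linter.unusedSectionVars false
universe u v
open scoped Pointwise TensorProduct

namespace Groth.Agent.Lib.Helper18.RelAlg

section quot

variable {R : Type u} [CommRing R] (I : Ideal R) (r : R)

/-- `(R/I)/r(R/I) ≅ R/(I + (r))` as `R`-modules -/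
theorem length_quot_smul_top :
    Module.length R ((R ⧸ I) ⧸ r • (⊤ : Submodule R (R ⧸ I))) =
      Module.length R (R ⧸ (I ⊔ Ideal.span {r})) := by
  have hle : (I : Submodule R R) ≤ (I ⊔ Ideal.span {r} : Ideal R) := le_sup_left
  have hmap : Submodule.map (Submodule.mkQ (I : Submodule R R))
      ((I ⊔ Ideal.span {r} : Ideal R) : Submodule R R) = r • (⊤ : Submodule R (R ⧸ I)) := by
    ext y
    rw [Submodule.mem_smul_pointwise_iff_exists]
    constructor
    · rintro ⟨z, hz, rfl⟩
      obtain ⟨i, hi, w, hw, rfl⟩ := Submodule.mem_sup.mp hz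
      obtain ⟨c, rfl⟩ := Ideal.mem_span_singleton'.mp hw
      refine ⟨Submodule.Quotient.mk c, trivial, ?_⟩
      rw [map_add]
      have h0 : Submodule.mkQ (I : Submodule R R) i = 0 := by
        rw [Submodule.mkQ_apply, Submodule.Quotient.mk_eq_zero]; exact hi
      rw [h0, zero_add, Submodule.mkQ_apply, ← Submodule.Quotient.mk_smul, smul_eq_mul, mul_comm]
    · rintro ⟨z, -, rfl⟩
      obtain ⟨z, rfl⟩ := Submodule.Quotient.mk_surjective _ z
      refine ⟨r * z, ?_, ?_⟩
      · exact Ideal.mem_sup_right (Ideal.mul_mem_right _ _ (Ideal.mem_span_singleton_self r))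
      · rw [Submodule.mkQ_apply, ← Submodule.Quotient.mk_smul, smul_eq_mul]
  have e := Submodule.quotientQuotientEquivQuotient (I : Submodule R R)
    ((I ⊔ Ideal.span {r} : Ideal R) : Submodule R R) hle
  rw [← e.length_eq]
  exact (Submodule.quotEquivOfEq _ _ hmap.symm).length_eq

end quot

section flat

variable {A B : Type u} [CommRing A] [CommRing B] [IsLocalRing A] [IsLocalRing B] [Algebra A B]
  [IsNoetherianRing A] [Module.Flat A B] [IsLocalHom (algebraMap A B)] (𝔭 : Ideal A) [𝔭.IsPrime] (a : A) (ha : a ∉ 𝔭)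

include ha in
/-- `a ∉ 𝔭` is regular on `B/𝔭B` -/
theorem isSMulRegular_quot_map :
    IsSMulRegular (B ⧸ 𝔭.map (algebraMap A B)) (algebraMap A B a) := by
  have h0 : IsSMulRegular (A ⧸ 𝔭) a := by
    intro y z hyz
    obtain ⟨y, rfl⟩ := Ideal.Quotient.mk_surjective y
    obtain ⟨z, rfl⟩ := Ideal.Quotient.mk_surjective z
    have h1 : Ideal.Quotient.mk 𝔭 a * (Ideal.Quotient.mk 𝔭 y - Ideal.Quotient.mk 𝔭 z) = 0 := by
      rw [mul_sub, sub_eq_zero]
      exact hyz
    have h2 : Ideal.Quotient.mk 𝔭 a ≠ 0 := by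
      rwa [Ne, Ideal.Quotient.eq_zero_iff_mem]
    rcases mul_eq_zero.mp h1 with h | h
    · exact absurd h h2
    · exact sub_eq_zero.mp h
  have h1 : IsSMulRegular (B ⊗[A] (A ⧸ 𝔭)) a := IsSMulRegular.lTensor B h0
  let e := (Algebra.TensorProduct.quotIdealMapEquivTensorQuot B 𝔭).toLinearEquiv
  intro y z hyz
  apply e.injective
  apply h1
  have := congrArg e hyz
  simp only [map_smul] at this
  rw [algebraMap_smul, algebraMap_smul] at this
  exact this

/-- `ℓ_B((B/𝔭B)/a(B/𝔭B)) = ord_{A/𝔭}(a) · ℓ_B(B/𝔪_A B)` -/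
theorem length_quot_quot_map :
    Module.length B ((B ⧸ 𝔭.map (algebraMap A B)) ⧸
        (algebraMap A B a) • (⊤ : Submodule B (B ⧸ 𝔭.map (algebraMap A B)))) =
      Ring.ord (A ⧸ 𝔭) (Ideal.Quotient.mk 𝔭 a) *
        Module.length B (B ⧸ (IsLocalRing.maximalIdeal A).map (algebraMap A B)) := by
  rw [length_quot_smul_top]
  have hJ : (𝔭.map (algebraMap A B) ⊔ Ideal.span {algebraMap A B a}) =
      (𝔭 ⊔ Ideal.span {a}).map (algebraMap A B) := by
    rw [Ideal.map_sup, Ideal.map_span, Set.image_singleton]
  rw [hJ]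
  have h1 := IsLocalRing.length_baseChange A B (A ⧸ (𝔭 ⊔ Ideal.span {a}))
  have e := (Algebra.TensorProduct.quotIdealMapEquivTensorQuot B (𝔭 ⊔ Ideal.span {a})).toLinearEquiv
  rw [← e.length_eq] at h1
  rw [h1, ← length_quot_smul_top]
  congr 1
  exact Groth.Agent.Lib.Helper26.SuppMult.wt_eq_ord a ⟨𝔭, inferInstance⟩

end flat

section loc

variable {B S : Type u} [CommRing B] [CommRing S] [Algebra B S] (q : Ideal B) [q.IsPrime]
  [IsLocalization.AtPrime S q]

/-- the length of a localized module computed through any model of the localization -/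
theorem length_localizedModule {M N : Type u} [AddCommGroup M] [Module B M] [AddCommGroup N]
    [Module B N] [Module S N] [IsScalarTower B S N] (f : M →ₗ[B] N)
    [IsLocalizedModule q.primeCompl f] :
    Module.length (Localization.AtPrime q) (LocalizedModule q.primeCompl M) = Module.length S N := by
  let σ : Localization.AtPrime q ≃ₐ[B] S := IsLocalization.algEquiv q.primeCompl _ S
  letI : Module (Localization.AtPrime q) N := Module.compHom N (σ : Localization.AtPrime q →+* S)
  haveI : IsScalarTower B (Localization.AtPrime q) N := by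
    refine ⟨fun b l n => ?_⟩
    change σ (b • l) • n = b • (σ l • n)
    rw [map_smul, smul_assoc]
  let e₀ : LocalizedModule q.primeCompl M ≃ₗ[B] N := IsLocalizedModule.iso q.primeCompl f
  let e : LocalizedModule q.primeCompl M ≃ₗ[Localization.AtPrime q] N :=
    e₀.extendScalarsOfIsLocalization q.primeCompl (Localization.AtPrime q)
  rw [e.length_eq]
  refine Groth.Agent.Lib.Helper18.PushStalk.length_eq_of_semilinear_bijective
    (σ : Localization.AtPrime q →+* S) σ.surjective (AddMonoidHom.id N) Function.bijective_id ?_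
  intro r m
  rfl

/-- `ℓ((B/I)_𝔮) = ℓ_S(S/IS)` -/
theorem length_localizedModule_quot (I : Ideal B) :
    Module.length (Localization.AtPrime q) (LocalizedModule q.primeCompl (B ⧸ I)) =
      Module.length S (S ⧸ I.map (algebraMap B S)) := by
  have h1 := length_localizedModule (S := S) q
    (Submodule.toLocalizedQuotient' S q.primeCompl (Algebra.linearMap B S) (I : Submodule B B))
  rw [h1]
  exact (Submodule.quotEquivOfEq _ _ (Ideal.localized'_eq_map S q.primeCompl I)).length_eq

end loc

end Groth.Agent.Lib.Helper18.RelAlg
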