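import Mathlib
import Groth.Prelude.Def_Cyc
import Groth.Agent.Lib.Helper21.FibDim11

set_option autoImplicit false
universe u
open CategoryTheory AlgebraicGeometry

namespace Groth.Agent.Lib.Helper18.RelDimShift

open Groth.Agent.Lib.Helper21.FibDim

/-- for a morphism locally of finite type of relative dimension `r`, the induced dimension
function is shifted by `r` at the generic points of the fibres -/
theorem shift_of_hasRelDim {X Y : Scheme.{u}} (f : X ⟶ Y) [LocallyOfFiniteType f]
    (δX : X → ℤ) (δY : Y → ℤ) (r : ℕ) (hr : Cyc.HasRelDim f r) (hδ : Cyc.DeltaCompat f δX δY)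
    (x : X) (hmax : ∀ y, f y = f x → y ⤳ x → y = x) : δX x = δY (f x) + r := by
  obtain ⟨n, hn1, hn2⟩ := fibreDimAt_eq_trdeg_of_maximal f x (fun x' h1 h2 => hmax x' h2 h1)
  have h1 := fibreDimAt_eq_of_hasRelDim f r hr x
  rw [h1] at hn1
  have hrn : r = n := by exact_mod_cast hn1
  obtain ⟨m, hm1, hm2⟩ := hδ x
  have hmn : m = n := by
    have : ((m : ℕ) : Cardinal.{u}) = n := by rw [← hm1, ← hn2]
    exact_mod_cast this
  rw [hm2, hmn, hrn]

end Groth.Agent.Lib.Helper18.RelDimShift
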