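import Mathlib
import Groth.Prelude.Def_C1
import Groth.Agent.Lib.Helper18.ClImm
import Groth.Agent.Lib.Helper18.RelDimShift
import Groth.Agent.Lib.Helper18.FlatShift
import Groth.Agent.Lib.Helper18.FlatQuotReg
import Groth.Agent.Lib.Helper18.RelAlg
import Groth.Agent.Lib.Helper18.PushStalk

/-!
# Relative effective Cartier divisors: local algebra at a point of the divisor
-/

set_option autoImplicit false
set_option linter.style.haveILetI false
universe u
open CategoryTheory AlgebraicGeometry TopologicalSpace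
open scoped Pointwise

namespace Groth.Agent.Lib.Helper18.RelCartier

variable {X Y D : Scheme.{u}} (i : D ⟶ X) [IsClosedImmersion i] (p : X ⟶ Y)

/-- the dimension function restricted to a closed subscheme is induced from the base -/
theorem deltaCompat_comp (δX : X → ℤ) (δY : Y → ℤ) (hδ : Cyc.DeltaCompat p δX δY) :
    Cyc.DeltaCompat (i ≫ p) (fun d => δX (i d)) δY := by
  intro d
  obtain ⟨n, hn1, hn2⟩ := hδ (i d)
  refine ⟨n, ?_, hn2⟩
  rw [← hn1]
  letI a1 : Algebra (Y.residueField (p (i d))) (X.residueField (i d)) :=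
    (p.residueFieldMap (i d)).hom.toAlgebra
  letI a2 : Algebra (Y.residueField (p (i d))) (D.residueField d) :=
    ((i ≫ p).residueFieldMap d).hom.toAlgebra
  change Algebra.trdeg (Y.residueField (p (i d))) (D.residueField d) =
    Algebra.trdeg (Y.residueField (p (i d))) (X.residueField (i d))
  have hbij := Groth.Agent.Lib.Helper18.ClImm.residueFieldMap_bijective i d
  let e0 : X.residueField (i d) ≃+* D.residueField d :=
    RingEquiv.ofBijective (i.residueFieldMap d).hom hbij
  let e : X.residueField (i d) ≃ₐ[Y.residueField (p (i d))] D.residueField d :=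
    { e0 with
      commutes' := by
        intro r
        change (i.residueFieldMap d).hom ((p.residueFieldMap (i d)).hom r) =
          ((i ≫ p).residueFieldMap d).hom r
        rw [Scheme.residueFieldMap_comp]
        rfl }
  exact e.trdeg_eq.symm

/-- points of a closed subscheme of relative dimension `r` have `δ ≤ δ(base) + r` -/
theorem delta_le [LocallyOfFiniteType p] (δX : X → ℤ) (δY : Y → ℤ) (hX : Cyc.IsSetup X δX)
    (hδ : Cyc.DeltaCompat p δX δY) (r : ℕ) (hr : Cyc.HasRelDim (i ≫ p) r) (d : D) :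
    δX (i d) ≤ δY (p (i d)) + r := by
  have hD := Groth.Agent.Lib.Helper18.ClImm.isSetup i δX hX
  have hc := deltaCompat_comp i p δX δY hδ
  exact (Groth.Agent.Lib.Helper18.FlatShift.delta_le_of_shift (i ≫ p) δY (fun d => δX (i d))
    hD.2.2 (r : ℤ)
    (fun d' hmax => Groth.Agent.Lib.Helper18.RelDimShift.shift_of_hasRelDim (i ≫ p)
      (fun d => δX (i d)) δY r hr hc d' hmax) d).1

/-- points of `X` of relative dimension `r` have `δ ≤ δ(base) + r` -/
theorem delta_le' [LocallyOfFiniteType p] (δX : X → ℤ) (δY : Y → ℤ) (hX : Cyc.IsSetup X δX)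
    (hδ : Cyc.DeltaCompat p δX δY) (r : ℕ) (hr : Cyc.HasRelDim p r) (x : X) :
    δX x ≤ δY (p x) + r :=
  (Groth.Agent.Lib.Helper18.FlatShift.delta_le_of_shift p δY δX hX.2.2 (r : ℤ)
    (fun x' hmax => Groth.Agent.Lib.Helper18.RelDimShift.shift_of_hasRelDim p δX δY r hr hδ
      x' hmax) x).1

section Alg

variable {A B C : Type u} [CommRing A] [CommRing B] [CommRing C] (φ : A →+* B) (σ : B →+* C)
  (hσ : Function.Surjective σ) (f : B) (hker : RingHom.ker σ = Ideal.span {f})

include hσ hker in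
/-- if `C = B/(f)` is flat over `A` then so is `B ⧸ (f)` -/
theorem flat_quot (hfl : (σ.comp φ).Flat) :
    letI := φ.toAlgebra
    Module.Flat A (B ⧸ Ideal.span {f}) := by
  letI := φ.toAlgebra
  letI := (σ.comp φ).toAlgebra
  have hflat : Module.Flat A C := hfl
  let e0 : (B ⧸ RingHom.ker σ) ≃+* C := RingHom.quotientKerEquivOfSurjective hσ
  let e1 : (B ⧸ Ideal.span {f}) ≃+* (B ⧸ RingHom.ker σ) :=
    Ideal.quotEquivOfEq hker.symm
  let e : C ≃ₗ[A] (B ⧸ Ideal.span {f}) :=
    { (e1.trans e0).symm with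
      map_smul' := by
        intro a c
        obtain ⟨b, rfl⟩ := hσ c
        change (e1.trans e0).symm (σ (φ a) * σ b) = Ideal.Quotient.mk _ (φ a) *
          (e1.trans e0).symm (σ b)
        rw [← map_mul]
        have h1 : ∀ b' : B, (e1.trans e0).symm (σ b') = Ideal.Quotient.mk _ b' := by
          intro b'
          rw [RingEquiv.symm_apply_eq]
          rfl
        rw [h1, h1, map_mul] }
  exact Module.Flat.of_linearEquiv e.symm

include hσ hker in
/-- `ℓ_C(C/𝔞C) = ℓ_B((B/𝔞B)/f(B/𝔞B))` for `C = B/(f)` -/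
theorem length_quot_map (𝔞 : Ideal A) :
    Module.length C (C ⧸ 𝔞.map (σ.comp φ)) =
      Module.length B ((B ⧸ 𝔞.map φ) ⧸ f • (⊤ : Submodule B (B ⧸ 𝔞.map φ))) := by
  rw [Groth.Agent.Lib.Helper18.RelAlg.length_quot_smul_top]
  have hle : 𝔞.map φ ⊔ Ideal.span {f} ≤ Ideal.comap σ (𝔞.map (σ.comp φ)) := by
    rw [sup_le_iff]
    constructor
    · rw [Ideal.map_le_iff_le_comap]
      intro a ha
      exact Ideal.mem_map_of_mem (σ.comp φ) ha
    · rw [← hker]
      intro b hb
      rw [Ideal.mem_comap, RingHom.mem_ker.mp hb]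
      exact Ideal.zero_mem _
  have hge : Ideal.comap σ (𝔞.map (σ.comp φ)) ≤ 𝔞.map φ ⊔ Ideal.span {f} := by
    rw [← Ideal.map_map, Ideal.comap_map_of_surjective σ hσ, ← RingHom.ker_eq_comap_bot, hker]
  let ψ : (B ⧸ (𝔞.map φ ⊔ Ideal.span {f})) →+* (C ⧸ 𝔞.map (σ.comp φ)) :=
    Ideal.quotientMap _ σ hle
  have hψs : Function.Surjective ψ := Ideal.quotientMap_surjective hσ
  have hψi : Function.Injective ψ := Ideal.quotientMap_injective' hge
  symm
  refine Groth.Agent.Lib.Helper18.PushStalk.length_eq_of_semilinear_bijective σ hσ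
    ψ.toAddMonoidHom ⟨hψi, hψs⟩ ?_
  intro b m
  obtain ⟨m, rfl⟩ := Ideal.Quotient.mk_surjective m
  change ψ (Ideal.Quotient.mk _ (b * m)) = σ b • ψ (Ideal.Quotient.mk _ m)
  rw [Ideal.quotientMap_mk, Ideal.quotientMap_mk, map_mul]
  rfl

end Alg

end Groth.Agent.Lib.Helper18.RelCartier
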