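import Mathlib

/-!
# Local structure of the affine space over a scheme
-/

set_option autoImplicit false
set_option linter.unusedSectionVars false
set_option linter.style.haveILetI false
universe u
open AlgebraicGeometry CategoryTheory TopologicalSpace AlgebraicGeometry.AffineSpace

namespace Groth.Agent.Lib.Helper18.CL2

variable (n : Type u) (X : Scheme.{u})

/-- the restriction of the coordinate to an open -/
noncomputable def coordOn (U : 𝔸(n; X).Opens) (i : n) : Γ(𝔸(n; X), U) :=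
  (𝔸(n; X)).presheaf.map (homOfLE le_top).op (coord X i)

/-- the evaluation map from polynomials over `Γ(X, X₁)` to the sections over the preimage -/
noncomputable def evW (X₁ : X.Opens) :
    MvPolynomial n Γ(X, X₁) →+* Γ(𝔸(n; X), (𝔸(n; X) ↘ X) ⁻¹ᵁ X₁) :=
  MvPolynomial.eval₂Hom ((𝔸(n; X) ↘ X).app X₁).hom (coordOn n X _)

theorem isOpenImmersion_map (X₁ : X.Opens) : IsOpenImmersion (map n X₁.ι) :=
  MorphismProperty.of_isPullback (isPullback_map (n := n) X₁.ι).flip inferInstance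

theorem opensRange_map (X₁ : X.Opens) :
    haveI := isOpenImmersion_map n X X₁
    (map n X₁.ι).opensRange = (𝔸(n; X) ↘ X) ⁻¹ᵁ X₁ := by
  haveI := isOpenImmersion_map n X X₁
  have hp := isPullback_map (n := n) X₁.ι
  apply Opens.ext
  ext z
  constructor
  · rintro ⟨z', rfl⟩
    change (𝔸(n; X) ↘ X) ((map n X₁.ι) z') ∈ X₁
    rw [← Scheme.Hom.comp_apply, map_over, Scheme.Hom.comp_apply]
    exact ((𝔸(n; ↑X₁) ↘ ↑X₁) z').2
  · intro hz
    obtain ⟨w, hw1, -⟩ := Scheme.exists_preimage_of_isPullback hp z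
      ⟨(𝔸(n; X) ↘ X) z, hz⟩ rfl
    exact ⟨w, hw1⟩

theorem evalTop_bijective (S : Scheme.{u}) [IsAffine S] :
    Function.Bijective (MvPolynomial.eval₂Hom ((𝔸(n; S) ↘ S).appTop).hom (coord S)) := by
  have h1 := isoOfIsAffine_hom_appTop (n := n) (S := S)
  have h2 : IsIso (CommRingCat.ofHom
      (MvPolynomial.eval₂Hom ((𝔸(n; S) ↘ S).appTop).hom (coord S))) := by
    have : CommRingCat.ofHom
        (MvPolynomial.eval₂Hom ((𝔸(n; S) ↘ S).appTop).hom (coord S)) =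
        (Scheme.ΓSpecIso _).inv ≫ (isoOfIsAffine n S).hom.appTop := by
      rw [h1, Iso.inv_hom_id_assoc]
    rw [this]
    haveI h3 : IsIso (isoOfIsAffine n S).hom := inferInstance
    haveI : IsIso (Scheme.Hom.appTop (isoOfIsAffine n S).hom) := by
      unfold Scheme.Hom.appTop
      exact inferInstanceAs (IsIso (Scheme.Hom.app (isoOfIsAffine n S).hom ⊤))
    infer_instance
  exact ConcreteCategory.bijective_of_isIso (CommRingCat.ofHom
      (MvPolynomial.eval₂Hom ((𝔸(n; S) ↘ S).appTop).hom (coord S)))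

theorem appLE_congr_hom {A B : Scheme.{u}} {f g : A ⟶ B} (h : f = g) (U : B.Opens) (V : A.Opens)
    (e : V ≤ f ⁻¹ᵁ U) : f.appLE U V e = g.appLE U V (h ▸ e) := by
  subst h
  rfl

theorem appLE_top_top {A B : Scheme.{u}} (f : A ⟶ B) (e : (⊤ : A.Opens) ≤ f ⁻¹ᵁ ⊤) :
    f.appLE ⊤ ⊤ e = f.appTop := by
  unfold Scheme.Hom.appLE
  have : A.presheaf.map (homOfLE e).op = 𝟙 _ := A.presheaf.map_id _
  rw [this]
  exact Category.comp_id _

theorem ι_appLE_topIso_hom (X₁ : X.Opens) (a : Γ(↑X₁, ⊤)) :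
    X₁.ι.appLE X₁ ⊤ X₁.ι_preimage_self.ge (X₁.topIso.hom a) = a := by
  have h1 : X₁.topIso.hom ≫ X₁.ι.appLE X₁ ⊤ X₁.ι_preimage_self.ge = 𝟙 _ := by
    rw [Scheme.Opens.ι_appLE, Scheme.Opens.topIso_hom]
    erw [← X.presheaf.map_comp]
    exact X.presheaf.map_id _
  exact congrArg (fun k => k.hom a) h1

theorem evW_surjective {X₁ : X.Opens} (h : IsAffineOpen X₁) :
    Function.Surjective (evW n X X₁) := by
  haveI : IsAffine ↑X₁ := h
  haveI := isOpenImmersion_map n X X₁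
  have hr := opensRange_map n X X₁
  have hle : (⊤ : 𝔸(n; ↑X₁).Opens) ≤ map n X₁.ι ⁻¹ᵁ ((𝔸(n; X) ↘ X) ⁻¹ᵁ X₁) := by
    rw [← hr]
    intro z _
    exact ⟨z, rfl⟩
  have hinj : Function.Injective ((map n X₁.ι).appLE ((𝔸(n; X) ↘ X) ⁻¹ᵁ X₁) ⊤ hle) := by
    have key : ∀ (V : 𝔸(n; X).Opens) (hV : V = map n X₁.ι ''ᵁ ⊤) (hle' : ⊤ ≤ map n X₁.ι ⁻¹ᵁ V),
        Function.Injective ((map n X₁.ι).appLE V ⊤ hle') := by
      rintro _ rfl hle'
      have h1 := Scheme.Hom.appIso_hom' (map n X₁.ι) ⊤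
      have h2 : Function.Bijective ((map n X₁.ι).appIso ⊤).hom :=
        ConcreteCategory.bijective_of_isIso _
      rw [h1] at h2
      exact h2.1
    exact key _ (by rw [Scheme.Hom.image_top_eq_opensRange, hr]) hle
  intro s
  obtain ⟨G', hG'⟩ := (evalTop_bijective n ↑X₁).2
    ((map n X₁.ι).appLE ((𝔸(n; X) ↘ X) ⁻¹ᵁ X₁) ⊤ hle s)
  refine ⟨MvPolynomial.map (X₁.topIso.hom).hom G', ?_⟩
  apply hinj
  rw [← hG']
  have hcomp : ((map n X₁.ι).appLE ((𝔸(n; X) ↘ X) ⁻¹ᵁ X₁) ⊤ hle).hom.comp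
      ((evW n X X₁).comp (MvPolynomial.map (X₁.topIso.hom).hom)) =
      MvPolynomial.eval₂Hom ((𝔸(n; ↑X₁) ↘ ↑X₁).appTop).hom (coord ↑X₁) := by
    apply MvPolynomial.ringHom_ext
    · intro a
      simp only [RingHom.coe_comp, Function.comp_apply, MvPolynomial.map_C, evW,
        MvPolynomial.coe_eval₂Hom, MvPolynomial.eval₂_C]
      have e1 : (𝔸(n; X) ↘ X).app X₁ ≫
          (map n X₁.ι).appLE ((𝔸(n; X) ↘ X) ⁻¹ᵁ X₁) ⊤ hle =
          X₁.ι.appLE X₁ ⊤ X₁.ι_preimage_self.ge ≫ (𝔸(n; ↑X₁) ↘ ↑X₁).appTop := by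
        rw [← Scheme.Hom.comp_appLE, appLE_congr_hom (map_over (n := n) X₁.ι),
          ← appLE_top_top (𝔸(n; ↑X₁) ↘ ↑X₁) le_rfl, Scheme.Hom.appLE_comp_appLE]
      have e2 := congrArg (fun k => k.hom (X₁.topIso.hom a)) e1
      simp only [CommRingCat.hom_comp, RingHom.coe_comp, Function.comp_apply] at e2
      rw [e2]
      congr 1
      exact ι_appLE_topIso_hom X X₁ a
    · intro i
      simp only [RingHom.coe_comp, Function.comp_apply, MvPolynomial.map_X, evW,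
        MvPolynomial.coe_eval₂Hom, MvPolynomial.eval₂_X]
      unfold coordOn
      rw [← CommRingCat.comp_apply, Scheme.Hom.map_appLE, appLE_top_top]
      exact map_appTop_coord (n := n) X₁.ι i
  exact congrArg (fun k => k G') hcomp

/-- the evaluation map at the level of stalks -/
noncomputable def evStalk (z : 𝔸(n; X)) :
    MvPolynomial n (X.presheaf.stalk ((𝔸(n; X) ↘ X) z)) →+* (𝔸(n; X)).presheaf.stalk z :=
  MvPolynomial.eval₂Hom ((𝔸(n; X) ↘ X).stalkMap z).hom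
    (fun i => (𝔸(n; X)).presheaf.germ ⊤ z trivial (coord X i))

theorem evStalk_map_germ (z : 𝔸(n; X)) (X₁ : X.Opens) (hz : (𝔸(n; X) ↘ X) z ∈ X₁)
    (G : MvPolynomial n Γ(X, X₁)) :
    evStalk n X z (MvPolynomial.map (X.presheaf.germ X₁ _ hz).hom G) =
      (𝔸(n; X)).presheaf.germ ((𝔸(n; X) ↘ X) ⁻¹ᵁ X₁) z hz (evW n X X₁ G) := by
  have hcomp : (evStalk n X z).comp (MvPolynomial.map (X.presheaf.germ X₁ _ hz).hom) =
      ((𝔸(n; X)).presheaf.germ ((𝔸(n; X) ↘ X) ⁻¹ᵁ X₁) z hz).hom.comp (evW n X X₁) := by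
    apply MvPolynomial.ringHom_ext
    · intro a
      simp only [RingHom.coe_comp, Function.comp_apply, MvPolynomial.map_C, evW, evStalk,
        MvPolynomial.coe_eval₂Hom, MvPolynomial.eval₂_C]
      exact Scheme.Hom.germ_stalkMap_apply (𝔸(n; X) ↘ X) X₁ z hz a
    · intro i
      simp only [RingHom.coe_comp, Function.comp_apply, MvPolynomial.map_X, evW, evStalk,
        MvPolynomial.coe_eval₂Hom, MvPolynomial.eval₂_X]
      unfold coordOn
      exact ((𝔸(n; X)).presheaf.germ_res_apply (homOfLE le_top) z hz (coord X i)).symm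
  exact congrArg (fun k => k G) hcomp

/-- every element of a local ring of the affine space is a fraction of polynomials in the
coordinates with coefficients in the local ring of the base -/
theorem exists_fraction (z : 𝔸(n; X)) (l : (𝔸(n; X)).presheaf.stalk z) :
    ∃ g h : MvPolynomial n (X.presheaf.stalk ((𝔸(n; X) ↘ X) z)),
      IsUnit (evStalk n X z h) ∧ l * evStalk n X z h = evStalk n X z g := by
  obtain ⟨_, ⟨X₁, hX₁ : IsAffineOpen X₁, rfl⟩, hxX₁, -⟩ :=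
    X.isBasis_affineOpens.exists_subset_of_mem_open (Set.mem_univ ((𝔸(n; X) ↘ X) z)) isOpen_univ
  have hW : IsAffineOpen ((𝔸(n; X) ↘ X) ⁻¹ᵁ X₁) := hX₁.preimage _
  have hz : z ∈ (𝔸(n; X) ↘ X) ⁻¹ᵁ X₁ := hxX₁
  letI := (𝔸(n; X)).presheaf.algebra_section_stalk ⟨z, hz⟩
  haveI := hW.isLocalization_stalk ⟨z, hz⟩
  obtain ⟨⟨γ, θ⟩, hγθ⟩ := IsLocalization.surj (hW.primeIdealOf ⟨z, hz⟩).asIdeal.primeCompl l
  obtain ⟨G, rfl⟩ := evW_surjective n X hX₁ γ
  obtain ⟨H, hH⟩ := evW_surjective n X hX₁ (θ : Γ(𝔸(n; X), (𝔸(n; X) ↘ X) ⁻¹ᵁ X₁))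
  refine ⟨MvPolynomial.map (X.presheaf.germ X₁ _ hxX₁).hom G,
    MvPolynomial.map (X.presheaf.germ X₁ _ hxX₁).hom H, ?_, ?_⟩
  · rw [evStalk_map_germ n X z X₁ hxX₁ H, hH]
    exact IsLocalization.map_units _ θ
  · rw [evStalk_map_germ n X z X₁ hxX₁ H, evStalk_map_germ n X z X₁ hxX₁ G, hH]
    exact hγθ

end Groth.Agent.Lib.Helper18.CL2
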