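import Mathlib
import Groth.Agent.Lib.Helper18.CL2

/-!
# The affine line over a scheme: zero section
-/

set_option autoImplicit false
set_option linter.unusedSectionVars false
set_option linter.style.haveILetI false
universe u
open AlgebraicGeometry CategoryTheory TopologicalSpace AlgebraicGeometry.AffineSpace

namespace Groth.Agent.Lib.Helper18.CL3

open Groth.Agent.Lib.Helper18.CL2

/-- the affine line over `X` -/
noncomputable abbrev A1 (X : Scheme.{u}) : Scheme.{u} := 𝔸(PUnit.{u+1}; X)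

variable (X : Scheme.{u})

/-- the projection -/
noncomputable abbrev pr : A1 X ⟶ X := 𝔸(PUnit.{u+1}; X) ↘ X

/-- the coordinate -/
noncomputable def T : Γ(A1 X, ⊤) := coord X PUnit.unit

/-- the zero section -/
noncomputable def zeroSec : X ⟶ A1 X := homOfVector (𝟙 X) (fun _ => 0)

@[reassoc (attr := simp)]
theorem zeroSec_pr : zeroSec X ≫ pr X = 𝟙 X := homOfVector_over _ _

theorem zeroSec_appTop_T : (zeroSec X).appTop (T X) = 0 := homOfVector_appTop_coord _ _ _

theorem pr_zeroSec (x : X) : pr X (zeroSec X x) = x := by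
  have := congrArg (fun k => k x) (zeroSec_pr X)
  exact this

variable {X} in
theorem zeroSec_map {Y : Scheme.{u}} (p : X ⟶ Y) :
    zeroSec X ≫ map PUnit.{u+1} p = p ≫ zeroSec Y := by
  apply AffineSpace.hom_ext
  · simp [zeroSec]
  · intro i
    simp [zeroSec]

/-- the germ of the coordinate -/
noncomputable def Tg (z : A1 X) : (A1 X).presheaf.stalk z :=
  (A1 X).presheaf.germ ⊤ z trivial (T X)

/-- evaluation of polynomials over the local ring of the base at the coordinate -/
noncomputable def evP (z : A1 X) :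
    Polynomial (X.presheaf.stalk (pr X z)) →+* (A1 X).presheaf.stalk z :=
  Polynomial.eval₂RingHom ((pr X).stalkMap z).hom (Tg X z)

theorem evP_C (z : A1 X) (a : X.presheaf.stalk (pr X z)) :
    evP X z (Polynomial.C a) = ((pr X).stalkMap z).hom a := by
  simp [evP]

theorem evP_X (z : A1 X) : evP X z Polynomial.X = Tg X z := by
  simp [evP]

theorem evP_uniqueAlgEquiv (z : A1 X)
    (g : MvPolynomial PUnit.{u+1} (X.presheaf.stalk (pr X z))) :
    evP X z (MvPolynomial.uniqueAlgEquiv _ PUnit.{u+1} g) = evStalk PUnit.{u+1} X z g := by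
  have hcomp : (evP X z).comp
      (MvPolynomial.uniqueAlgEquiv (X.presheaf.stalk (pr X z)) PUnit.{u+1}).toRingEquiv.toRingHom =
      evStalk PUnit.{u+1} X z := by
    apply MvPolynomial.ringHom_ext
    · intro a
      simp [evP, evStalk]
    · intro i
      simp [evP, evStalk, Tg, T]
  exact congrArg (fun k => k g) hcomp

theorem exists_fraction' (z : A1 X) (l : (A1 X).presheaf.stalk z) :
    ∃ g h : Polynomial (X.presheaf.stalk (pr X z)),
      IsUnit (evP X z h) ∧ l * evP X z h = evP X z g := by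
  obtain ⟨g, h, h1, h2⟩ := exists_fraction PUnit.{u+1} X z l
  refine ⟨MvPolynomial.uniqueAlgEquiv _ PUnit.{u+1} g, MvPolynomial.uniqueAlgEquiv _ PUnit.{u+1} h, ?_, ?_⟩
  · rw [evP_uniqueAlgEquiv]; exact h1
  · rw [evP_uniqueAlgEquiv, evP_uniqueAlgEquiv]; exact h2

/-- the composite `O_{X,π(σx)} → O_{A1,σx} → O_{X,x}` -/
noncomputable def rho (x : X) :
    X.presheaf.stalk (pr X (zeroSec X x)) →+* X.presheaf.stalk x :=
  ((zeroSec X).stalkMap x).hom.comp ((pr X).stalkMap (zeroSec X x)).hom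

theorem rho_bijective (x : X) : Function.Bijective (rho X x) := by
  have h1 := Scheme.Hom.stalkMap_comp (zeroSec X) (pr X) x
  have h2 := Scheme.Hom.stalkMap_congr_hom (zeroSec X ≫ pr X) (𝟙 X) (zeroSec_pr X) x
  rw [Scheme.Hom.stalkMap_id] at h2
  have h3 : IsIso ((pr X).stalkMap (zeroSec X x) ≫ (zeroSec X).stalkMap x) := by
    rw [← h1, h2]
    exact IsIso.comp_isIso' (Iso.isIso_hom _) (IsIso.id _)
  exact ConcreteCategory.bijective_of_isIso
    ((pr X).stalkMap (zeroSec X x) ≫ (zeroSec X).stalkMap x)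

theorem stalkMap_zeroSec_Tg (x : X) :
    ((zeroSec X).stalkMap x).hom (Tg X (zeroSec X x)) = 0 := by
  unfold Tg
  have h1 := Scheme.Hom.germ_stalkMap_apply (zeroSec X) ⊤ x trivial (T X)
  have h2 : (zeroSec X).app ⊤ (T X) = 0 := zeroSec_appTop_T X
  rw [h2, map_zero] at h1
  exact h1

theorem stalkMap_zeroSec_evP (x : X) (g : Polynomial (X.presheaf.stalk (pr X (zeroSec X x)))) :
    ((zeroSec X).stalkMap x).hom (evP X (zeroSec X x) g) = rho X x (g.coeff 0) := by
  have hcomp : ((zeroSec X).stalkMap x).hom.comp (evP X (zeroSec X x)) =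
      (rho X x).comp Polynomial.constantCoeff := by
    apply Polynomial.ringHom_ext
    · intro a
      simp only [RingHom.coe_comp, Function.comp_apply, evP_C, Polynomial.constantCoeff_apply,
        Polynomial.coeff_C_zero]
      rfl
    · simp only [RingHom.coe_comp, Function.comp_apply, evP_X, Polynomial.constantCoeff_apply,
        Polynomial.coeff_X_zero, map_zero]
      exact stalkMap_zeroSec_Tg X x
  exact congrArg (fun k => k g) hcomp

theorem stalkMap_zeroSec_surjective (x : X) :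
    Function.Surjective ((zeroSec X).stalkMap x).hom := by
  intro a
  obtain ⟨b, rfl⟩ := (rho_bijective X x).2 a
  exact ⟨((pr X).stalkMap (zeroSec X x)).hom b, rfl⟩

theorem ker_stalkMap_zeroSec (x : X) :
    RingHom.ker ((zeroSec X).stalkMap x).hom = Ideal.span {Tg X (zeroSec X x)} := by
  apply le_antisymm
  · intro l hl
    obtain ⟨g, h, hu, e⟩ := exists_fraction' X (zeroSec X x) l
    have e' := congrArg ((zeroSec X).stalkMap x).hom e
    rw [map_mul, RingHom.mem_ker.mp hl, zero_mul, stalkMap_zeroSec_evP] at e'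
    have hg0 : g.coeff 0 = 0 :=
      (rho_bijective X x).1 (e'.symm.trans (map_zero _).symm)
    obtain ⟨g', rfl⟩ := Polynomial.X_dvd_iff.mpr hg0
    rw [map_mul, evP_X] at e
    rw [Ideal.mem_span_singleton']
    refine ⟨evP X (zeroSec X x) g' * ↑hu.unit⁻¹, ?_⟩
    have e2 : l = Tg X (zeroSec X x) * evP X (zeroSec X x) g' * ↑hu.unit⁻¹ := by
      rw [← e, mul_assoc l, IsUnit.mul_val_inv, mul_one]
    rw [e2]
    ring
  · rw [Ideal.span_le, Set.singleton_subset_iff]
    exact RingHom.mem_ker.mpr (stalkMap_zeroSec_Tg X x)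

theorem Tg_zeroSec_mem (x : X) :
    Tg X (zeroSec X x) ∈ IsLocalRing.maximalIdeal ((A1 X).presheaf.stalk (zeroSec X x)) := by
  rw [IsLocalRing.mem_maximalIdeal, mem_nonunits_iff]
  intro hu
  have h1 := hu.map ((zeroSec X).stalkMap x).hom
  rw [stalkMap_zeroSec_Tg] at h1
  exact not_isUnit_zero h1

theorem isUnit_evP_iff (z : A1 X)
    (hT : Tg X z ∈ IsLocalRing.maximalIdeal ((A1 X).presheaf.stalk z))
    (g : Polynomial (X.presheaf.stalk (pr X z))) :
    IsUnit (evP X z g) ↔ IsUnit (g.coeff 0) := by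
  have h1 : evP X z g = Tg X z * evP X z g.divX + ((pr X).stalkMap z).hom (g.coeff 0) := by
    conv_lhs => rw [← Polynomial.X_mul_divX_add g]
    rw [map_add, map_mul, evP_X, evP_C]
  have h2 : Tg X z * evP X z g.divX ∈ IsLocalRing.maximalIdeal ((A1 X).presheaf.stalk z) :=
    Ideal.mul_mem_right _ _ hT
  have h3 : evP X z g ∈ IsLocalRing.maximalIdeal ((A1 X).presheaf.stalk z) ↔
      ((pr X).stalkMap z).hom (g.coeff 0) ∈
        IsLocalRing.maximalIdeal ((A1 X).presheaf.stalk z) := by
    rw [h1]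
    exact Ideal.add_mem_iff_right _ h2
  rw [IsLocalRing.mem_maximalIdeal, IsLocalRing.mem_maximalIdeal, mem_nonunits_iff,
    mem_nonunits_iff, not_iff_not] at h3
  rw [h3]
  exact isUnit_map_iff ((pr X).stalkMap z).hom _

theorem coeff_zero_uniqueAlgEquiv {R : Type u} [CommRing R] (g : MvPolynomial PUnit.{u+1} R) :
    (MvPolynomial.uniqueAlgEquiv R PUnit.{u+1} g).coeff 0 = MvPolynomial.constantCoeff g := by
  have hcomp : (Polynomial.constantCoeff (R := R)).comp
      (MvPolynomial.uniqueAlgEquiv R PUnit.{u+1}).toRingEquiv.toRingHom =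
      MvPolynomial.constantCoeff := by
    apply MvPolynomial.ringHom_ext
    · intro a
      simp
    · intro i
      simp
  exact congrArg (fun k => k g) hcomp

/-- germs of sections over the preimage of an affine open at a point where the coordinate
vanishes are units iff the constant coefficient does not vanish at the image point -/
theorem isUnit_germ_evW_iff (z : A1 X)
    (hT : Tg X z ∈ IsLocalRing.maximalIdeal ((A1 X).presheaf.stalk z))
    (X₁ : X.Opens) (hz : pr X z ∈ X₁) (G : MvPolynomial PUnit.{u+1} Γ(X, X₁)) :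
    IsUnit ((A1 X).presheaf.germ ((pr X) ⁻¹ᵁ X₁) z hz (evW PUnit.{u+1} X X₁ G)) ↔
      pr X z ∈ X.basicOpen (MvPolynomial.constantCoeff G) := by
  rw [← evStalk_map_germ PUnit.{u+1} X z X₁ hz G, ← evP_uniqueAlgEquiv, isUnit_evP_iff X z hT,
    coeff_zero_uniqueAlgEquiv, MvPolynomial.constantCoeff_map]
  exact (Scheme.mem_basicOpen X (MvPolynomial.constantCoeff G) (pr X z) hz).symm

/-- a point of the affine line at which the coordinate vanishes lies on the zero section -/
theorem eq_zeroSec_of_Tg_mem (z : A1 X)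
    (hT : Tg X z ∈ IsLocalRing.maximalIdeal ((A1 X).presheaf.stalk z)) :
    z = zeroSec X (pr X z) := by
  obtain ⟨_, ⟨X₁, hX₁ : IsAffineOpen X₁, rfl⟩, hxX₁, -⟩ :=
    X.isBasis_affineOpens.exists_subset_of_mem_open (Set.mem_univ (pr X z)) isOpen_univ
  have hW : IsAffineOpen ((pr X) ⁻¹ᵁ X₁) := hX₁.preimage _
  have hz : z ∈ (pr X) ⁻¹ᵁ X₁ := hxX₁
  have hpz' : pr X (zeroSec X (pr X z)) = pr X z := pr_zeroSec X _
  have hz' : zeroSec X (pr X z) ∈ (pr X) ⁻¹ᵁ X₁ := by
    change pr X (zeroSec X (pr X z)) ∈ X₁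
    rw [hpz']
    exact hxX₁
  have key : hW.primeIdealOf ⟨z, hz⟩ = hW.primeIdealOf ⟨zeroSec X (pr X z), hz'⟩ := by
    apply PrimeSpectrum.ext
    ext γ
    obtain ⟨G, rfl⟩ := evW_surjective PUnit.{u+1} X hX₁ γ
    rw [hW.primeIdealOf_eq_map_closedPoint, hW.primeIdealOf_eq_map_closedPoint]
    change (A1 X).presheaf.germ _ z hz _ ∈ IsLocalRing.maximalIdeal _ ↔
      (A1 X).presheaf.germ _ (zeroSec X (pr X z)) hz' _ ∈ IsLocalRing.maximalIdeal _
    rw [IsLocalRing.mem_maximalIdeal, IsLocalRing.mem_maximalIdeal, mem_nonunits_iff,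
      mem_nonunits_iff, not_iff_not, isUnit_germ_evW_iff X z hT X₁ hxX₁ G,
      isUnit_germ_evW_iff X _ (Tg_zeroSec_mem X _) X₁ (hpz'.symm ▸ hxX₁) G, hpz']
  have h1 := hW.fromSpec_primeIdealOf ⟨z, hz⟩
  have h2 := hW.fromSpec_primeIdealOf ⟨zeroSec X (pr X z), hz'⟩
  rw [← key] at h2
  exact h1.symm.trans h2

end Groth.Agent.Lib.Helper18.CL3
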