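import Mathlib
import Groth.Prelude.Def_Cyc
import Groth.Agent.Lib.Helper18.CL3

/-!
# The point of the affine line over `X` defined by an element of a residue field
-/

set_option autoImplicit false
set_option linter.unusedSectionVars false
set_option linter.style.haveILetI false
universe u
open AlgebraicGeometry CategoryTheory TopologicalSpace AlgebraicGeometry.AffineSpace

namespace Groth.Agent.Lib.Helper18.CL7a

open Groth.Agent.Lib.Helper18.CL2 Groth.Agent.Lib.Helper18.CL3

variable (X : Scheme.{u}) (x : X) (f : X.residueField x)

/-- the morphism `Spec κ(x) ⟶ 𝔸¹_X` given by `f ∈ κ(x)` -/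
noncomputable def fHom : Spec (.of (X.residueField x)) ⟶ A1 X :=
  homOfVector (X.fromSpecResidueField x)
    (fun _ => (Scheme.ΓSpecIso (.of (X.residueField x))).inv f)

/-- the point of `𝔸¹_X` over `x` defined by `f` -/
noncomputable def xi : A1 X := fHom X x f (IsLocalRing.closedPoint (X.residueField x))

theorem fHom_pr : fHom X x f ≫ pr X = X.fromSpecResidueField x := homOfVector_over _ _

theorem pr_xi : pr X (xi X x f) = x := by
  have h := congrArg (fun k => k (IsLocalRing.closedPoint (X.residueField x))) (fHom_pr X x f)
  exact h.trans (Scheme.fromSpecResidueField_apply x _)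

/-- the comparison of residue fields -/
noncomputable def theta : (A1 X).residueField (xi X x f) →+* X.residueField x :=
  (Scheme.descResidueField (Scheme.stalkClosedPointTo (fHom X x f))).hom

theorem theta_comp (a : X.residueField (pr X (xi X x f))) :
    theta X x f (((pr X).residueFieldMap (xi X x f)).hom a) =
      (X.residueFieldCongr (pr_xi X x f)).hom.hom a := by
  have h1 := Scheme.descResidueField_stalkClosedPointTo_comp (f := pr X) (g := fHom X x f)
  have h2 : (Scheme.SpecToEquivOfField (X.residueField x) X) (fHom X x f ≫ pr X) =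
      ⟨x, 𝟙 _⟩ := by
    rw [fHom_pr, ← Equiv.eq_symm_apply]
    change X.fromSpecResidueField x = Spec.map (𝟙 _) ≫ X.fromSpecResidueField x
    rw [Spec.map_id, Category.id_comp]
  obtain ⟨e, h3⟩ := Scheme.SpecToEquivOfField_eq_iff.mp h2
  simp only [Scheme.SpecToEquivOfField_apply_snd, Category.comp_id] at h3
  have h4 := h1.symm.trans h3
  have h5 := congrArg (fun k => k.hom a) h4
  exact h5

theorem theta_Tg :
    theta X x f (((A1 X).residue (xi X x f)).hom (Tg X (xi X x f))) = f := by
  unfold theta Tg
  have h1 := Scheme.residue_descResidueField (Scheme.stalkClosedPointTo (fHom X x f))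
  have h2 := Scheme.germ_stalkClosedPointTo (fHom X x f) ⊤ trivial
  have h3 : (fHom X x f).appTop (T X) = (Scheme.ΓSpecIso (.of (X.residueField x))).inv f :=
    homOfVector_appTop_coord _ _ _
  have h4 := congrArg (fun k => k.hom ((A1 X).presheaf.germ ⊤ (xi X x f) trivial (T X))) h1
  have h5 := congrArg (fun k => k.hom (T X)) h2
  simp only [CommRingCat.hom_comp, RingHom.coe_comp, Function.comp_apply] at h4 h5
  refine h4.trans (h5.trans ?_)
  change (Scheme.ΓSpecIso (.of (X.residueField x))).hom.hom _ = f
  have h6 : (fHom X x f).app ⊤ (T X) = (Scheme.ΓSpecIso (.of (X.residueField x))).inv f := h3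
  rw [h6]
  simp

theorem residueFieldMap_pr_xi_bijective :
    Function.Bijective ((pr X).residueFieldMap (xi X x f)).hom := by
  refine ⟨RingHom.injective _, ?_⟩
  have hθ : Function.Injective (theta X x f) := RingHom.injective _
  have hc : Function.Bijective (X.residueFieldCongr (pr_xi X x f)).hom.hom :=
    ConcreteCategory.bijective_of_isIso (X.residueFieldCongr (pr_xi X x f)).hom
  intro b
  obtain ⟨a, ha⟩ := hc.2 (theta X x f b)
  refine ⟨a, hθ ?_⟩
  rw [theta_comp, ha]

end Groth.Agent.Lib.Helper18.CL7a
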