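import Mathlib
import Groth.Agent.Lib.Helper26.TameM
import Groth.Agent.Lib.Helper26.TameN

set_option autoImplicit false
set_option linter.style.haveILetI false
set_option linter.unusedSectionVars false

/-! Key formula (S1920), part 1: transport of tame symbols along ring isomorphisms. -/

namespace Groth.Agent.Lib.Helper18.KF1

open Function IsLocalRing CycAlg

universe u

variable {R R' : Type u} [CommRing R] [CommRing R'] [IsLocalRing R] [IsLocalRing R']

/-- transport of tame data along a ring isomorphism -/
noncomputable def transport (e : R ≃+* R') {a b : R} (D : TameData R a b) :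
    TameData R' (e a) (e b) :=
  letI alg : Algebra R' D.B := ((algebraMap R D.B).comp (e.symm : R' →+* R)).toAlgebra
  have hmap : ∀ (q : MaximalSpectrum D.B) (x : R'),
      algebraMap R' (Localization.AtPrime q.asIdeal) x =
        algebraMap R (Localization.AtPrime q.asIdeal) (e.symm x) := by
    intro q x
    rw [IsScalarTower.algebraMap_apply R' D.B (Localization.AtPrime q.asIdeal),
      IsScalarTower.algebraMap_apply R D.B (Localization.AtPrime q.asIdeal)]
    rfl
  { B := D.B
    commRing := D.commRing
    algebra := alg
    isFinExt := by
      obtain ⟨h1, h2, n, hn⟩ := D.isFinExt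
      refine ⟨?_, ?_, n, ?_⟩
      · intro x y hxy
        have : algebraMap R D.B (e.symm x) = algebraMap R D.B (e.symm y) := hxy
        exact e.symm.injective (h1 this)
      · haveI := h2
        exact Module.Finite.of_equiv_equiv e (RingEquiv.refl D.B) (by
          ext x
          show algebraMap R D.B (e.symm (e x)) = algebraMap R D.B x
          rw [RingEquiv.symm_apply_apply])
      · intro r hr b'
        have hr' : e.symm r ∈ maximalIdeal R ^ n := by
          have h3 : (maximalIdeal R').map (e.symm : R' →+* R) = maximalIdeal R :=
            map_maximalIdeal_of_surjective (e.symm : R' →+* R) e.symm.surjective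
          have h4 := Ideal.mem_map_of_mem (e.symm : R' →+* R) hr
          rw [Ideal.map_pow, h3] at h4
          exact h4
        obtain ⟨y, hy⟩ := hn (e.symm r) hr' b'
        refine ⟨e y, ?_⟩
        show algebraMap R D.B (e.symm (e y)) = r • b'
        rw [RingEquiv.symm_apply_apply, hy, Algebra.smul_def, Algebra.smul_def]
        rfl
    isLocalHom := by
      intro q
      haveI := D.isLocalHom q
      constructor
      intro x hx
      rw [hmap] at hx
      have := isUnit_of_map_unit (algebraMap R (Localization.AtPrime q.asIdeal)) _ hx
      have h2 := this.map e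
      rwa [RingEquiv.apply_symm_apply] at h2
    π := D.π
    π_mem := D.π_mem
    u₁ := D.u₁
    u₂ := D.u₂
    e₁ := D.e₁
    e₂ := D.e₂
    fac₁ := by
      intro q
      rw [hmap, RingEquiv.symm_apply_apply]
      exact D.fac₁ q
    fac₂ := by
      intro q
      rw [hmap, RingEquiv.symm_apply_apply]
      exact D.fac₂ q }


theorem localFactor_transport (e : R ≃+* R') {a b : R} (D : TameData R a b)
    (q : MaximalSpectrum D.B) :
    (transport e D).localFactor q = ResidueField.mapEquiv e (D.localFactor q) := by
  letI alg : Algebra R' D.B := ((algebraMap R D.B).comp (e.symm : R' →+* R)).toAlgebra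
  haveI h1 := D.isLocalHom q
  haveI h2 : IsLocalHom (algebraMap R' (Localization.AtPrime q.asIdeal)) :=
    (transport e D).isLocalHom q
  unfold TameData.localFactor
  rw [map_pow]
  congr 1
  symm
  refine Algebra.norm_eq_of_ringEquiv (ResidueField.mapEquiv e) ?_ _
  ext x
  obtain ⟨x, rfl⟩ := IsLocalRing.residue_surjective x
  show residue _ (algebraMap R' (Localization.AtPrime q.asIdeal) (e x)) =
    residue _ (algebraMap R (Localization.AtPrime q.asIdeal) x)
  congr 1
  rw [IsScalarTower.algebraMap_apply R' D.B (Localization.AtPrime q.asIdeal),
    IsScalarTower.algebraMap_apply R D.B (Localization.AtPrime q.asIdeal)]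
  congr 1
  show algebraMap R D.B (e.symm (e x)) = _
  rw [RingEquiv.symm_apply_apply]

theorem value_transport (e : R ≃+* R') {a b : R} (D : TameData R a b) :
    (transport e D).value = ResidueField.mapEquiv e D.value := by
  unfold TameData.value
  have h := MonoidHom.map_finprod_of_injective
    (((ResidueField.mapEquiv e : ResidueField R ≃+* ResidueField R') :
      ResidueField R →+* ResidueField R') : ResidueField R →* ResidueField R')
    (ResidueField.mapEquiv e).injective (fun q => D.localFactor q)
  refine Eq.trans ?_ h.symm
  apply finprod_congr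
  intro q
  exact localFactor_transport e D q

variable [IsNoetherianRing R] [IsNoetherianRing R']

/-- **transport of the tame symbol along a ring isomorphism** -/
theorem tameSymbol_ringEquiv (hR : ringKrullDim R = 1) (e : R ≃+* R') {a b : R}
    (ha : a ∈ nonZeroDivisors R) (hb : b ∈ nonZeroDivisors R) :
    tameSymbol R' (e a) (e b) = ResidueField.mapEquiv e (tameSymbol R a b) := by
  have hR' : ringKrullDim R' = 1 := by rw [← hR]; exact (ringKrullDim_eq_of_ringEquiv e).symm
  have ha' : e a ∈ nonZeroDivisors R' :=
    Groth.Agent.Lib.Helper26.TameN.ringEquiv_mem_nonZeroDivisors e a ha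
  have hb' : e b ∈ nonZeroDivisors R' :=
    Groth.Agent.Lib.Helper26.TameN.ringEquiv_mem_nonZeroDivisors e b hb
  obtain ⟨D, -⟩ := Groth.Agent.Lib.Helper26.TameL.exists_tameData (a₁ := a) (a₂ := b) hR ha hb
    (FractionRing R) Empty (fun t => t.elim) (fun t => t.elim) ⊥
  rw [Groth.Agent.Lib.Helper26.TameM.tameSymbol_eq hR ha hb D,
    Groth.Agent.Lib.Helper26.TameM.tameSymbol_eq hR' ha' hb' (transport e D)]
  exact value_transport e D

end Groth.Agent.Lib.Helper18.KF1
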