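import Mathlib
import Groth.Agent.Lib.Helper26.TameM
import Groth.Agent.Lib.Helper26.OrdZ

set_option autoImplicit false
set_option linter.style.haveILetI false
set_option linter.unusedSectionVars false

/-! Key formula (S1920), part 2: the tame symbol on the fraction field. -/

namespace Groth.Agent.Lib.Helper18.KF2

open Function IsLocalRing CycAlg
open Groth.Agent.Lib.Helper26.TameM Groth.Agent.Lib.Helper26.OrdZ

universe u

variable (R : Type u) [CommRing R] [IsDomain R] [IsNoetherianRing R] [IsLocalRing R]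
  [Ring.KrullDimLE 1 R]

section Laws

variable {R}
variable (hR : ringKrullDim R = 1)

theorem nzd {a : R} (ha : a ≠ 0) : a ∈ nonZeroDivisors R := mem_nonZeroDivisors_of_ne_zero ha

include hR in
theorem sym_ne_zero {a b : R} (ha : a ≠ 0) (hb : b ≠ 0) : tameSymbol R a b ≠ 0 :=
  law_nonvanishing hR a b (nzd ha) (nzd hb)

include hR in
theorem sym_mul_left {a a' b : R} (ha : a ≠ 0) (ha' : a' ≠ 0) (hb : b ≠ 0) :
    tameSymbol R (a * a') b = tameSymbol R a b * tameSymbol R a' b :=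
  (law_mul hR a a' b (nzd ha) (nzd ha') (nzd hb)).1

include hR in
theorem sym_mul_right {a a' b : R} (ha : a ≠ 0) (ha' : a' ≠ 0) (hb : b ≠ 0) :
    tameSymbol R b (a * a') = tameSymbol R b a * tameSymbol R b a' :=
  (law_mul hR a a' b (nzd ha) (nzd ha') (nzd hb)).2

/-- the order as a natural number -/
noncomputable def m (a : R) : ℕ := (Ring.ord R a).toNat

theorem m_mul {a b : R} (ha : a ≠ 0) (hb : b ≠ 0) : m (a * b) = m a + m b := by
  unfold m
  rw [Ring.ord_mul R (nzd hb), ENat.toNat_add (Ring.ord_ne_top (nzd ha)) (Ring.ord_ne_top (nzd hb))]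

include hR in
theorem sym_self {b : R} (hb : b ≠ 0) : tameSymbol R b b = (-1) ^ m b :=
  law_self hR b (nzd hb)

include hR in
theorem sym_unit_left (c : Rˣ) {b : R} (hb : b ≠ 0) :
    tameSymbol R (c : R) b = residue R (c : R) ^ m b :=
  law_unit hR c b (nzd hb)

include hR in
/-- skew-symmetry -/
theorem sym_skew {a b : R} (ha : a ≠ 0) (hb : b ≠ 0) :
    tameSymbol R a b * tameSymbol R b a = 1 := by
  have hab : a * b ≠ 0 := mul_ne_zero ha hb
  have h1 := sym_self hR hab
  rw [sym_mul_left hR ha hb hab, sym_mul_right hR ha hb ha, sym_mul_right hR ha hb hb,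
    sym_self hR ha, sym_self hR hb, m_mul ha hb, pow_add] at h1
  have hne : ((-1 : ResidueField R) ^ m a * (-1) ^ m b) ≠ 0 :=
    mul_ne_zero (pow_ne_zero _ (by simp)) (pow_ne_zero _ (by simp))
  apply mul_left_cancel₀ hne
  linear_combination h1

include hR in
theorem sym_unit_right (c : Rˣ) {a : R} (ha : a ≠ 0) :
    tameSymbol R a (c : R) = (residue R (c : R) ^ m a)⁻¹ := by
  have h := sym_skew hR ha c.ne_zero
  rw [sym_unit_left hR c ha] at h
  exact eq_inv_of_mul_eq_one_left h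

end Laws


section Sym4

variable {R}
variable (hR : ringKrullDim R = 1)

/-- the four-term symbol `∂(x₁/x₂, y₁/y₂)` -/
noncomputable def sym4 (x1 x2 y1 y2 : R) : ResidueField R :=
  (tameSymbol R x1 y1 / tameSymbol R x2 y1) * (tameSymbol R x2 y2 / tameSymbol R x1 y2)

theorem sym4_eq' (x1 x2 y1 y2 : R) : sym4 x1 x2 y1 y2 =
    (tameSymbol R x1 y1 / tameSymbol R x1 y2) * (tameSymbol R x2 y2 / tameSymbol R x2 y1) := by
  unfold sym4
  rw [div_mul_div_comm, div_mul_div_comm, mul_comm (tameSymbol R x2 y1)]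

include hR in
theorem ratio_left {x1 x2 x1' x2' y : R} (h1 : x1 ≠ 0) (h2 : x2 ≠ 0) (h1' : x1' ≠ 0)
    (h2' : x2' ≠ 0) (hy : y ≠ 0) (h : x1 * x2' = x1' * x2) :
    tameSymbol R x1 y / tameSymbol R x2 y = tameSymbol R x1' y / tameSymbol R x2' y := by
  rw [div_eq_div_iff (sym_ne_zero hR h2 hy) (sym_ne_zero hR h2' hy),
    ← sym_mul_left hR h1 h2' hy, ← sym_mul_left hR h1' h2 hy, h]

include hR in
theorem ratio_right {y1 y2 y1' y2' x : R} (h1 : y1 ≠ 0) (h2 : y2 ≠ 0) (h1' : y1' ≠ 0)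
    (h2' : y2' ≠ 0) (hx : x ≠ 0) (h : y1 * y2' = y1' * y2) :
    tameSymbol R x y1 / tameSymbol R x y2 = tameSymbol R x y1' / tameSymbol R x y2' := by
  rw [div_eq_div_iff (sym_ne_zero hR hx h2) (sym_ne_zero hR hx h2'),
    ← sym_mul_right hR h1 h2' hx, ← sym_mul_right hR h1' h2 hx, h]

include hR in
theorem sym4_congr_left {x1 x2 x1' x2' y1 y2 : R} (h1 : x1 ≠ 0) (h2 : x2 ≠ 0) (h1' : x1' ≠ 0)
    (h2' : x2' ≠ 0) (hy1 : y1 ≠ 0) (hy2 : y2 ≠ 0) (h : x1 * x2' = x1' * x2) :
    sym4 x1 x2 y1 y2 = sym4 x1' x2' y1 y2 := by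
  unfold sym4
  rw [ratio_left hR h1 h2 h1' h2' hy1 h,
    ratio_left hR h2 h1 h2' h1' hy2 (by rw [mul_comm x2, mul_comm x2', h])]

include hR in
theorem sym4_congr_right {x1 x2 y1 y2 y1' y2' : R} (hx1 : x1 ≠ 0) (hx2 : x2 ≠ 0) (h1 : y1 ≠ 0)
    (h2 : y2 ≠ 0) (h1' : y1' ≠ 0) (h2' : y2' ≠ 0) (h : y1 * y2' = y1' * y2) :
    sym4 x1 x2 y1 y2 = sym4 x1 x2 y1' y2' := by
  rw [sym4_eq', sym4_eq']
  rw [ratio_right hR h1 h2 h1' h2' hx1 h,
    ratio_right hR h2 h1 h2' h1' hx2 (by rw [mul_comm y2, mul_comm y2', h])]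

include hR in
theorem sym4_mul_left {x1 x2 x1' x2' y1 y2 : R} (h1 : x1 ≠ 0) (h2 : x2 ≠ 0) (h1' : x1' ≠ 0)
    (h2' : x2' ≠ 0) (hy1 : y1 ≠ 0) (hy2 : y2 ≠ 0) :
    sym4 (x1 * x1') (x2 * x2') y1 y2 = sym4 x1 x2 y1 y2 * sym4 x1' x2' y1 y2 := by
  unfold sym4
  rw [sym_mul_left hR h1 h1' hy1, sym_mul_left hR h2 h2' hy1, sym_mul_left hR h2 h2' hy2,
    sym_mul_left hR h1 h1' hy2, mul_div_mul_comm, mul_div_mul_comm]
  ring

include hR in
theorem sym4_mul_right {x1 x2 y1 y2 y1' y2' : R} (hx1 : x1 ≠ 0) (hx2 : x2 ≠ 0) (h1 : y1 ≠ 0)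
    (h2 : y2 ≠ 0) (h1' : y1' ≠ 0) (h2' : y2' ≠ 0) :
    sym4 x1 x2 (y1 * y1') (y2 * y2') = sym4 x1 x2 y1 y2 * sym4 x1 x2 y1' y2' := by
  unfold sym4
  rw [sym_mul_right hR h1 h1' hx1, sym_mul_right hR h1 h1' hx2, sym_mul_right hR h2 h2' hx2,
    sym_mul_right hR h2 h2' hx1, mul_div_mul_comm, mul_div_mul_comm]
  ring

include hR in
theorem sym4_ne_zero {x1 x2 y1 y2 : R} (h1 : x1 ≠ 0) (h2 : x2 ≠ 0) (hy1 : y1 ≠ 0)
    (hy2 : y2 ≠ 0) : sym4 x1 x2 y1 y2 ≠ 0 := by
  unfold sym4
  exact mul_ne_zero (div_ne_zero (sym_ne_zero hR h1 hy1) (sym_ne_zero hR h2 hy1))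
    (div_ne_zero (sym_ne_zero hR h2 hy2) (sym_ne_zero hR h1 hy2))

end Sym4

section TameK

variable (K : Type u) [Field K] [Algebra R K] [IsFractionRing R K]

/-- chosen numerator -/
noncomputable def num (x : K) : R := (IsLocalization.sec (nonZeroDivisors R) x).1

/-- chosen denominator -/
noncomputable def den (x : K) : R := ((IsLocalization.sec (nonZeroDivisors R) x).2 : R)

theorem num_den (x : K) : x * algebraMap R K (den R K x) = algebraMap R K (num R K x) :=
  IsLocalization.sec_spec _ x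

theorem den_ne_zero (x : K) : den R K x ≠ 0 := nonZeroDivisors.coe_ne_zero _

theorem num_ne_zero {x : K} (hx : x ≠ 0) : num R K x ≠ 0 := by
  intro h
  have h1 := num_den R K x
  rw [h, map_zero] at h1
  rcases mul_eq_zero.mp h1 with h2 | h2
  · exact hx h2
  · exact den_ne_zero R K x ((map_eq_zero_iff _ (IsFractionRing.injective R K)).mp h2)

/-- the tame symbol on the fraction field -/
noncomputable def tameK (x y : K) : ResidueField R :=
  sym4 (num R K x) (den R K x) (num R K y) (den R K y)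

variable {R K}
variable (hR : ringKrullDim R = 1)

theorem eq_div_alg {x : K} {x1 x2 : R} (h2 : x2 ≠ 0)
    (hx : x * algebraMap R K x2 = algebraMap R K x1) : num R K x * x2 = x1 * den R K x := by
  apply IsFractionRing.injective R K
  rw [map_mul, map_mul, ← num_den R K x, ← hx]
  ring

include hR in
theorem tameK_eq {x y : K} {x1 x2 y1 y2 : R} (h1 : x1 ≠ 0) (h2 : x2 ≠ 0) (hy1 : y1 ≠ 0)
    (hy2 : y2 ≠ 0) (hx : x * algebraMap R K x2 = algebraMap R K x1)
    (hy : y * algebraMap R K y2 = algebraMap R K y1) :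
    tameK R K x y = sym4 x1 x2 y1 y2 := by
  have hx0 : x ≠ 0 := by
    intro h; rw [h, zero_mul] at hx
    exact h1 ((map_eq_zero_iff _ (IsFractionRing.injective R K)).mp hx.symm)
  have hy0 : y ≠ 0 := by
    intro h; rw [h, zero_mul] at hy
    exact hy1 ((map_eq_zero_iff _ (IsFractionRing.injective R K)).mp hy.symm)
  unfold tameK
  rw [sym4_congr_left hR (num_ne_zero R K hx0) (den_ne_zero R K x) h1 h2
      (num_ne_zero R K hy0) (den_ne_zero R K y) (eq_div_alg h2 hx),
    sym4_congr_right hR h1 h2 (num_ne_zero R K hy0) (den_ne_zero R K y) hy1 hy2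
      (eq_div_alg hy2 hy)]

include hR in
theorem tameK_ne_zero {x y : K} (hx : x ≠ 0) (hy : y ≠ 0) : tameK R K x y ≠ 0 :=
  sym4_ne_zero hR (num_ne_zero R K hx) (den_ne_zero R K x) (num_ne_zero R K hy)
    (den_ne_zero R K y)

include hR in
theorem tameK_mul_left {x x' y : K} (hx : x ≠ 0) (hx' : x' ≠ 0) (hy : y ≠ 0) :
    tameK R K (x * x') y = tameK R K x y * tameK R K x' y := by
  have e : x * x' * algebraMap R K (den R K x * den R K x') =
      algebraMap R K (num R K x * num R K x') := by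
    rw [map_mul, map_mul, ← num_den R K x, ← num_den R K x']; ring
  rw [tameK_eq hR (mul_ne_zero (num_ne_zero R K hx) (num_ne_zero R K hx'))
    (mul_ne_zero (den_ne_zero R K x) (den_ne_zero R K x')) (num_ne_zero R K hy)
    (den_ne_zero R K y) e (num_den R K y)]
  exact sym4_mul_left hR (num_ne_zero R K hx) (den_ne_zero R K x) (num_ne_zero R K hx')
    (den_ne_zero R K x') (num_ne_zero R K hy) (den_ne_zero R K y)

include hR in
theorem tameK_mul_right {x y y' : K} (hx : x ≠ 0) (hy : y ≠ 0) (hy' : y' ≠ 0) :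
    tameK R K x (y * y') = tameK R K x y * tameK R K x y' := by
  have e : y * y' * algebraMap R K (den R K y * den R K y') =
      algebraMap R K (num R K y * num R K y') := by
    rw [map_mul, map_mul, ← num_den R K y, ← num_den R K y']; ring
  rw [tameK_eq hR (num_ne_zero R K hx) (den_ne_zero R K x)
    (mul_ne_zero (num_ne_zero R K hy) (num_ne_zero R K hy'))
    (mul_ne_zero (den_ne_zero R K y) (den_ne_zero R K y')) (num_den R K x) e]
  exact sym4_mul_right hR (num_ne_zero R K hx) (den_ne_zero R K x) (num_ne_zero R K hy)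
    (den_ne_zero R K y) (num_ne_zero R K hy') (den_ne_zero R K y')

end TameK


section Units

variable {R}
variable {K : Type u} [Field K] [Algebra R K] [IsFractionRing R K]
variable (hR : ringKrullDim R = 1)

include hR in
theorem sym_one_left {b : R} (hb : b ≠ 0) : tameSymbol R 1 b = 1 := by
  have := sym_unit_left hR (1 : Rˣ) hb
  simpa using this

include hR in
theorem sym_one_right {a : R} (ha : a ≠ 0) : tameSymbol R a 1 = 1 := by
  have := sym_unit_right hR (1 : Rˣ) ha
  simpa using this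

include hR in
theorem tameK_algebraMap {a b : R} (ha : a ≠ 0) (hb : b ≠ 0) :
    tameK R K (algebraMap R K a) (algebraMap R K b) = tameSymbol R a b := by
  rw [tameK_eq hR ha one_ne_zero hb one_ne_zero (by simp) (by simp)]
  unfold sym4
  rw [sym_one_left hR hb, sym_one_right hR ha, sym_one_left hR one_ne_zero]
  simp

theorem ordFrac_eq_sub {y : K} (hy : y ≠ 0) {y1 y2 : R} (hy1 : y1 ≠ 0) (hy2 : y2 ≠ 0)
    (h : y * algebraMap R K y2 = algebraMap R K y1) :
    CycAlg.ordFrac R K y = (m y1 : ℤ) - (m y2 : ℤ) := by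
  have h2 : algebraMap R K y2 ≠ 0 :=
    fun h0 => hy2 ((map_eq_zero_iff _ (IsFractionRing.injective R K)).mp h0)
  have h3 := ordFrac_mul (A := R) hy h2
  rw [h, ordFrac_algebraMap hy1, ordFrac_algebraMap hy2] at h3
  unfold m
  linarith

theorem residue_unit_ne_zero (c : Rˣ) : residue R (c : R) ≠ 0 := by
  intro h
  have := (IsLocalRing.residue_eq_zero_iff _).mp h
  exact this c.isUnit

include hR in
theorem tameK_unit_left (c : Rˣ) {y : K} (hy : y ≠ 0) :
    tameK R K (algebraMap R K (c : R)) y = residue R (c : R) ^ (CycAlg.ordFrac R K y) := by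
  have hny := num_ne_zero R K hy
  have hdy := den_ne_zero R K y
  rw [tameK_eq hR c.ne_zero one_ne_zero hny hdy (by simp) (num_den R K y),
    ordFrac_eq_sub hy hny hdy (num_den R K y)]
  unfold sym4
  rw [sym_one_left hR hny, sym_one_left hR hdy, sym_unit_left hR c hny, sym_unit_left hR c hdy,
    zpow_sub₀ (residue_unit_ne_zero c), zpow_natCast, zpow_natCast]
  simp [div_eq_mul_inv]

include hR in
theorem tameK_unit_right (c : Rˣ) {x : K} (hx : x ≠ 0) :
    tameK R K x (algebraMap R K (c : R)) = (residue R (c : R) ^ (CycAlg.ordFrac R K x))⁻¹ := by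
  have hnx := num_ne_zero R K hx
  have hdx := den_ne_zero R K x
  rw [tameK_eq hR hnx hdx c.ne_zero one_ne_zero (num_den R K x) (by simp),
    ordFrac_eq_sub hx hnx hdx (num_den R K x)]
  unfold sym4
  rw [sym_one_right hR hnx, sym_one_right hR hdx, sym_unit_right hR c hnx,
    sym_unit_right hR c hdx, zpow_sub₀ (residue_unit_ne_zero c), zpow_natCast, zpow_natCast]
  have h1 := pow_ne_zero (m (num R K x)) (residue_unit_ne_zero c)
  have h2 := pow_ne_zero (m (den R K x)) (residue_unit_ne_zero c)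
  field_simp

theorem ordFrac_unit (c : Rˣ) : CycAlg.ordFrac R K (algebraMap R K (c : R)) = 0 := by
  rw [ordFrac_algebraMap c.ne_zero, Ring.ord_of_isUnit c.isUnit]
  rfl

include hR in
theorem tameK_units (c c' : Rˣ) :
    tameK R K (algebraMap R K (c : R)) (algebraMap R K (c' : R)) = 1 := by
  have h0 : algebraMap R K (c' : R) ≠ 0 :=
    fun h0 => c'.ne_zero ((map_eq_zero_iff _ (IsFractionRing.injective R K)).mp h0)
  rw [tameK_unit_left hR c h0, ordFrac_unit, zpow_zero]

end Units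

end Groth.Agent.Lib.Helper18.KF2
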