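import Mathlib
import Groth.Agent.Lib.Helper18.KF1
import Groth.Agent.Lib.Helper18.KF2

set_option autoImplicit false
set_option linter.style.haveILetI false
set_option linter.unusedSectionVars false

/-! Key formula (S1920), part 3: transport of the terms of the key lemma to arbitrary models of
the localisation and of the residue data. -/

namespace Groth.Agent.Lib.Helper18.KF3

open Function IsLocalRing CycAlg
open Groth.Agent.Lib.Helper26.OrdZ

universe u

section OrdTransport

variable {D D' F F' : Type u} [CommRing D] [CommRing D'] [Field F] [Field F'] [Algebra D F]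
  [Algebra D' F'] [IsDomain D] [IsNoetherianRing D] [Ring.KrullDimLE 1 D] [IsFractionRing D F]
  [IsFractionRing D' F']

theorem ordFrac_div {a b : D} (ha : a ≠ 0) (hb : b ≠ 0) :
    CycAlg.ordFrac D F (algebraMap D F a / algebraMap D F b) =
      ((Ring.ord D a).toNat : ℤ) - ((Ring.ord D b).toNat : ℤ) := by
  have h2 : algebraMap D F b ≠ 0 :=
    fun h0 => hb ((map_eq_zero_iff _ (IsFractionRing.injective D F)).mp h0)
  have h1 : algebraMap D F a ≠ 0 :=
    fun h0 => ha ((map_eq_zero_iff _ (IsFractionRing.injective D F)).mp h0)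
  have h3 := ordFrac_mul (A := D) (div_ne_zero h1 h2) h2
  rw [div_mul_cancel₀ _ h2, ordFrac_algebraMap ha, ordFrac_algebraMap hb] at h3
  linarith

theorem ordFrac_zero : CycAlg.ordFrac D F (0 : F) = 0 := by
  rw [ordFrac_eq, map_zero]
  rfl

theorem ordFrac_transport (φ : D ≃+* D') (Φ : F →+* F')
    (h : ∀ d, Φ (algebraMap D F d) = algebraMap D' F' (φ d)) (z : F) :
    CycAlg.ordFrac D' F' (Φ z) = CycAlg.ordFrac D F z := by
  haveI : IsDomain D' := φ.symm.injective.isDomain
  haveI : IsNoetherianRing D' := isNoetherianRing_of_ringEquiv D φ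
  haveI : Ring.KrullDimLE 1 D' := by
    rw [Ring.krullDimLE_iff, ← ringKrullDim_eq_of_ringEquiv φ]
    exact Ring.krullDimLE_iff.mp inferInstance
  by_cases hz : z = 0
  · rw [hz, map_zero, ordFrac_zero, ordFrac_zero]
  obtain ⟨a, b, hb, rfl⟩ := IsFractionRing.div_surjective (A := D) z
  have hb0 : b ≠ 0 := nonZeroDivisors.ne_zero hb
  have ha0 : a ≠ 0 := by
    intro h0; apply hz; rw [h0, map_zero, zero_div]
  rw [map_div₀, h, h, ordFrac_div ha0 hb0,
    ordFrac_div ((map_ne_zero_iff _ φ.injective).mpr ha0) ((map_ne_zero_iff _ φ.injective).mpr hb0),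
    Groth.Agent.Lib.Helper26.TameN.ord_ringEquiv, Groth.Agent.Lib.Helper26.TameN.ord_ringEquiv]

end OrdTransport


section PerPrime

variable {A : Type u} [CommRing A] [IsDomain A] [IsNoetherianRing A]
  (q : Ideal A) [q.IsPrime] [Ring.KrullDimLE 1 (A ⧸ q)]
  (R : Type u) [CommRing R] [Algebra A R] [IsLocalization.AtPrime R q] [IsLocalRing R]
  {k : Type u} [Field k] (ρ : R →+* k) [IsLocalHom ρ]
  {Abar : Type u} [CommRing Abar] [Algebra Abar k] [IsFractionRing Abar k]
  (π : A →+* Abar)

set_option synthInstance.maxHeartbeats 400000 in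
set_option maxHeartbeats 1600000 in
/-- the term of the key lemma at `q` computed in an arbitrary model `R` of `A_q`, with
residue data `(Ā, k)` -/
theorem per_prime_transport (hq : ringKrullDim (Localization.AtPrime q) = 1)
    (hπ : Function.Surjective π) (hker : RingHom.ker π = q)
    (hcompat : ∀ a, ρ (algebraMap A R a) = algebraMap Abar k (π a))
    {α β : A} (hα : α ≠ 0) (hβ : β ≠ 0) :
    CycAlg.ordFrac Abar k (ResidueField.lift ρ
        (tameSymbol R (algebraMap A R α) (algebraMap A R β))) =
      CycAlg.ordFrac (A ⧸ q) q.ResidueField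
        (tameSymbol (Localization.AtPrime q) (algebraMap A (Localization.AtPrime q) α)
          (algebraMap A (Localization.AtPrime q) β)) := by
  let e : Localization.AtPrime q ≃ₐ[A] R := IsLocalization.algEquiv q.primeCompl _ _
  haveI : IsNoetherianRing R := IsLocalization.isNoetherianRing q.primeCompl R inferInstance
  have hinj : Function.Injective (algebraMap A (Localization.AtPrime q)) :=
    IsLocalization.injective _ q.primeCompl_le_nonZeroDivisors
  have hnz : ∀ x : A, x ≠ 0 → algebraMap A (Localization.AtPrime q) x ∈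
      nonZeroDivisors (Localization.AtPrime q) := fun x hx =>
    mem_nonZeroDivisors_of_ne_zero ((map_ne_zero_iff _ hinj).mpr hx)
  have hTT := Groth.Agent.Lib.Helper18.KF1.tameSymbol_ringEquiv hq e.toRingEquiv
    (hnz α hα) (hnz β hβ)
  have e1 : ∀ x : A, e.toRingEquiv (algebraMap A (Localization.AtPrime q) x) = algebraMap A R x :=
    fun x => e.commutes x
  rw [e1, e1] at hTT
  rw [hTT]
  let Φ : q.ResidueField →+* k :=
    (ResidueField.lift ρ).comp
      ((ResidueField.mapEquiv e.toRingEquiv : ResidueField (Localization.AtPrime q) ≃+*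
        ResidueField R) : ResidueField (Localization.AtPrime q) →+* ResidueField R)
  let φ : A ⧸ q ≃+* Abar :=
    (Ideal.quotEquivOfEq hker.symm).trans (RingHom.quotientKerEquivOfSurjective hπ)
  have hφ : ∀ a : A, φ (Ideal.Quotient.mk q a) = π a := fun a => rfl
  have hΦ : ∀ d : A ⧸ q, Φ (algebraMap (A ⧸ q) q.ResidueField d) = algebraMap Abar k (φ d) := by
    intro d
    obtain ⟨a, rfl⟩ := Ideal.Quotient.mk_surjective d
    rw [hφ, ← hcompat, Ideal.algebraMap_quotient_residueField_mk,
      IsScalarTower.algebraMap_apply A (Localization.AtPrime q) q.ResidueField,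
      IsLocalRing.ResidueField.algebraMap_eq]
    show ResidueField.lift ρ (ResidueField.mapEquiv e.toRingEquiv
      (residue _ (algebraMap A (Localization.AtPrime q) a))) = _
    have : ResidueField.mapEquiv e.toRingEquiv
        (residue _ (algebraMap A (Localization.AtPrime q) a)) =
        residue R (e.toRingEquiv (algebraMap A (Localization.AtPrime q) a)) := rfl
    rw [this, e1, ResidueField.lift_residue_apply]
  haveI : IsDomain (A ⧸ q) := Ideal.Quotient.isDomain q
  exact ordFrac_transport φ Φ hΦ _

end PerPrime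

end Groth.Agent.Lib.Helper18.KF3
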