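import Mathlib
import Groth.Agent.Lib.Helper18.KF3

/-!
# The local lemma: the order of a fraction through the ideals `A ∩ f·A[f]`
-/

set_option autoImplicit false
set_option linter.unusedSectionVars false
set_option linter.style.haveILetI false
universe u

namespace Groth.Agent.Lib.Helper18.CL1

section Colon

variable {A : Type u} [CommRing A]

/-- the colon ideal `(J : d)` -/
def colon (J : Ideal A) (d : A) : Ideal A := Submodule.comap (LinearMap.mulLeft A d) J

theorem mem_colon (J : Ideal A) (d c : A) : c ∈ colon J d ↔ d * c ∈ J := Iff.rfl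

/-- `ℓ(A/J) = ℓ(A/(J:d)) + ℓ(A/(J + dA))` -/
theorem length_quot_eq_add (J : Ideal A) (d : A) :
    Module.length A (A ⧸ J) =
      Module.length A (A ⧸ colon J d) + Module.length A (A ⧸ (J ⊔ Ideal.span {d})) := by
  let f₁ : (A ⧸ colon J d) →ₗ[A] (A ⧸ J) :=
    Submodule.mapQ (colon J d) J (LinearMap.mulLeft A d) le_rfl
  let f₂ : (A ⧸ J) →ₗ[A] (A ⧸ (J ⊔ Ideal.span {d})) :=
    Submodule.mapQ J (J ⊔ Ideal.span {d}) LinearMap.id le_sup_left
  have hinj : Function.Injective f₁ := by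
    rw [← LinearMap.ker_eq_bot, LinearMap.ker_eq_bot']
    intro y hy
    obtain ⟨c, rfl⟩ := Submodule.Quotient.mk_surjective _ y
    have h1 : Submodule.Quotient.mk (p := J) (d * c) = 0 := hy
    rw [Submodule.Quotient.mk_eq_zero] at h1 ⊢
    exact h1
  have hsurj : Function.Surjective f₂ := by
    intro y
    obtain ⟨c, rfl⟩ := Submodule.Quotient.mk_surjective _ y
    exact ⟨Submodule.Quotient.mk c, rfl⟩
  have hex : Function.Exact f₁ f₂ := by
    intro y
    obtain ⟨c, rfl⟩ := Submodule.Quotient.mk_surjective _ y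
    constructor
    · intro h
      have h1 : Submodule.Quotient.mk (p := J ⊔ Ideal.span {d}) c = 0 := h
      rw [Submodule.Quotient.mk_eq_zero, Submodule.mem_sup] at h1
      obtain ⟨j, hj, t, ht, rfl⟩ := h1
      obtain ⟨r, rfl⟩ := Ideal.mem_span_singleton'.mp ht
      refine ⟨Submodule.Quotient.mk r, ?_⟩
      change Submodule.Quotient.mk (p := J) (d * r) = Submodule.Quotient.mk (j + r * d)
      rw [Submodule.Quotient.eq]
      have : d * r - (j + r * d) = -j := by ring
      rw [this]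
      exact J.neg_mem hj
    · rintro ⟨y', hy'⟩
      obtain ⟨r, rfl⟩ := Submodule.Quotient.mk_surjective _ y'
      have h1 : Submodule.Quotient.mk (p := J) (d * r) = Submodule.Quotient.mk c := hy'
      rw [← h1]
      change Submodule.Quotient.mk (p := J ⊔ Ideal.span {d}) (d * r) = 0
      rw [Submodule.Quotient.mk_eq_zero]
      exact Submodule.mem_sup_right (Ideal.mem_span_singleton'.mpr ⟨r, mul_comm r d⟩)
  exact Module.length_eq_add_of_exact f₁ f₂ hinj hsurj hex

end Colon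

section Gen

variable {A : Type u} [CommRing A]

/-- the generators `a^i b^(k-i)` of `(a,b)^k` -/
def gen (a b : A) (k : ℕ) (i : Fin (k + 1)) : A := a ^ (i : ℕ) * b ^ (k - (i : ℕ))

/-- the ideal `(a,b)^k` -/
def Ik (a b : A) (k : ℕ) : Ideal A := Ideal.span (Set.range (gen a b k))

theorem gen_rev (a b : A) (k : ℕ) (i : Fin (k + 1)) : gen a b k (Fin.rev i) = gen b a k i := by
  unfold gen
  have hi : (i : ℕ) ≤ k := Nat.lt_succ_iff.mp i.2
  rw [Fin.val_rev]
  have e1 : k + 1 - ((i : ℕ) + 1) = k - (i : ℕ) := by omega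
  have e2 : k - (k - (i : ℕ)) = (i : ℕ) := by omega
  rw [e1, e2, mul_comm]

theorem Ik_symm (a b : A) (k : ℕ) : Ik a b k = Ik b a k := by
  unfold Ik
  congr 1
  ext y
  constructor
  · rintro ⟨i, rfl⟩
    exact ⟨Fin.rev i, gen_rev b a k i⟩
  · rintro ⟨i, rfl⟩
    exact ⟨Fin.rev i, gen_rev a b k i⟩

theorem gen_zero (a b : A) (k : ℕ) : gen a b k 0 = b ^ k := by
  simp [gen]

theorem gen_last (a b : A) (k : ℕ) : gen a b k (Fin.last k) = a ^ k := by
  simp [gen]

theorem gen_succ (a b : A) (k : ℕ) (i : Fin (k + 1)) :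
    gen a b (k + 1) i.succ = a * gen a b k i := by
  unfold gen
  rw [Fin.val_succ, Nat.succ_sub_succ, pow_succ]
  ring

theorem Ik_succ (a b : A) (k : ℕ) :
    Ideal.span {a} * Ik a b k ⊔ Ideal.span {b ^ (k + 1)} = Ik a b (k + 1) := by
  apply le_antisymm
  · apply sup_le
    · rw [Ideal.span_singleton_mul_le_iff]
      intro z hz
      unfold Ik at hz
      induction hz using Submodule.span_induction with
      | mem y hy =>
        obtain ⟨i, rfl⟩ := hy
        rw [← gen_succ]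
        exact Ideal.subset_span ⟨i.succ, rfl⟩
      | zero => simp
      | add x y _ _ hx hy => rw [mul_add]; exact Ideal.add_mem _ hx hy
      | smul r x _ hx =>
        rw [smul_eq_mul, mul_left_comm]
        exact Ideal.mul_mem_left _ _ hx
    · rw [Ideal.span_le, Set.singleton_subset_iff, ← gen_zero a b (k + 1)]
      exact Ideal.subset_span ⟨0, rfl⟩
  · unfold Ik
    rw [Ideal.span_le]
    rintro _ ⟨j, rfl⟩
    induction j using Fin.cases with
    | zero =>
      rw [gen_zero]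
      exact Submodule.mem_sup_right (Ideal.mem_span_singleton_self _)
    | succ i =>
      rw [gen_succ]
      exact Submodule.mem_sup_left
        (Ideal.mul_mem_mul (Ideal.mem_span_singleton_self a) (Ideal.subset_span ⟨i, rfl⟩))

end Gen

section JplusDef

variable {A K : Type u} [CommRing A] [Field K] [Algebra A K]

/-- `A ∩ f·A[f]` -/
def Jplus (f : K) : Ideal A where
  carrier := {c | ∃ q : Polynomial A, algebraMap A K c = f * Polynomial.aeval f q}
  zero_mem' := ⟨0, by simp⟩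
  add_mem' := by
    rintro x y ⟨q₁, h₁⟩ ⟨q₂, h₂⟩
    exact ⟨q₁ + q₂, by simp only [map_add, h₁, h₂, mul_add]⟩
  smul_mem' := by
    rintro r x ⟨q, h⟩
    refine ⟨Polynomial.C r * q, ?_⟩
    simp only [smul_eq_mul, map_mul, h, Polynomial.aeval_C]
    ring

theorem mem_Jplus (f : K) (c : A) : c ∈ Jplus (A := A) f ↔
    ∃ q : Polynomial A, algebraMap A K c = f * Polynomial.aeval f q := Iff.rfl

/-- transport of `Jplus` along a surjection of rings and an embedding of fields -/
theorem Jplus_comap {A' K' : Type u} [CommRing A'] [Field K'] [Algebra A' K'] (φ : A →+* A')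
    (hφ : Function.Surjective φ) (Θ : K' →+* K)
    (hc : ∀ a, Θ (algebraMap A' K' (φ a)) = algebraMap A K a) (f : K') :
    Jplus (A := A) (Θ f) = Ideal.comap φ (Jplus (A := A') f) := by
  have hΘ : ∀ q : Polynomial A, Θ (Polynomial.aeval f (q.map φ)) = Polynomial.aeval (Θ f) q := by
    intro q
    rw [Polynomial.aeval_def, Polynomial.aeval_def, Polynomial.hom_eval₂, Polynomial.eval₂_map]
    congr 1
    exact RingHom.ext hc
  ext c
  rw [Ideal.mem_comap, mem_Jplus, mem_Jplus]
  constructor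
  · rintro ⟨q, hq⟩
    refine ⟨q.map φ, ?_⟩
    apply Θ.injective
    rw [hc, hq, map_mul, hΘ]
  · rintro ⟨q', hq'⟩
    obtain ⟨q, rfl⟩ := Polynomial.map_surjective φ hφ q'
    refine ⟨q, ?_⟩
    rw [← hc, hq', map_mul, hΘ]

end JplusDef

section Main

variable {A K : Type u} [CommRing A] [IsDomain A] [Field K] [Algebra A K] [IsFractionRing A K]

/-- `A ∩ (f A + f² A + ... + f^(k+1) A)` -/
def Jp (k : ℕ) (f : K) : Ideal A where
  carrier := {c | ∃ c' : Fin (k + 1) → A,
    algebraMap A K c = ∑ i, algebraMap A K (c' i) * f ^ ((i : ℕ) + 1)}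
  zero_mem' := ⟨0, by simp⟩
  add_mem' := by
    rintro x y ⟨c₁, h₁⟩ ⟨c₂, h₂⟩
    refine ⟨c₁ + c₂, ?_⟩
    simp only [map_add, h₁, h₂, Pi.add_apply, add_mul, Finset.sum_add_distrib]
  smul_mem' := by
    rintro r x ⟨c₁, h₁⟩
    refine ⟨r • c₁, ?_⟩
    simp only [smul_eq_mul, map_mul, h₁, Pi.smul_apply, Finset.mul_sum, mul_assoc]

theorem mem_Jp (k : ℕ) (f : K) (c : A) : c ∈ Jp (A := A) k f ↔ ∃ c' : Fin (k + 1) → A,
    algebraMap A K c = ∑ i, algebraMap A K (c' i) * f ^ ((i : ℕ) + 1) := Iff.rfl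

theorem Jp_le_Jplus (k : ℕ) (f : K) : Jp (A := A) k f ≤ Jplus f := by
  rintro c ⟨c', hc⟩
  refine ⟨∑ i : Fin (k + 1), Polynomial.C (c' i) * Polynomial.X ^ (i : ℕ), ?_⟩
  rw [hc, map_sum, Finset.mul_sum]
  apply Finset.sum_congr rfl
  intro i _
  simp only [map_mul, Polynomial.aeval_C, map_pow, Polynomial.aeval_X, pow_succ]
  ring

theorem Jp_mono (f : K) : Monotone (fun k => Jp (A := A) k f) := by
  apply monotone_nat_of_le_succ
  rintro k c ⟨c', hc⟩
  refine ⟨Fin.snoc c' 0, ?_⟩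
  rw [hc]
  symm
  rw [Fin.sum_univ_castSucc]
  simp

theorem Jplus_le_iSup (f : K) (c : A) (hc : c ∈ Jplus (A := A) f) : ∃ k, c ∈ Jp (A := A) k f := by
  obtain ⟨q, hq⟩ := hc
  refine ⟨q.natDegree, fun i => q.coeff i, ?_⟩
  rw [hq, Polynomial.aeval_eq_sum_range, Finset.mul_sum, Finset.sum_range]
  apply Finset.sum_congr rfl
  intro i _
  rw [Algebra.smul_def, pow_succ]
  ring

theorem exists_Jp_eq_Jplus [IsNoetherianRing A] (f : K) :
    ∃ k₀, ∀ k, k₀ ≤ k → Jp (A := A) k f = Jplus f := by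
  obtain ⟨k₀, hk₀⟩ := monotone_stabilizes_iff_noetherian.mpr inferInstance
    ⟨fun k => Jp (A := A) k f, Jp_mono f⟩
  refine ⟨k₀, fun k hk => le_antisymm (Jp_le_Jplus k f) ?_⟩
  intro c hc
  obtain ⟨m, hm⟩ := Jplus_le_iSup f c hc
  have h1 : Jp (A := A) (max m k) f = Jp k f := by
    have e1 := hk₀ (max m k) (le_trans hk (le_max_right _ _))
    have e2 := hk₀ k hk
    exact (e1.symm.trans e2)
  rw [← h1]
  exact Jp_mono f (le_max_left m k) hm

theorem colon_mul_self (a : A) (ha : a ≠ 0) (I : Ideal A) :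
    colon (Ideal.span {a} * I) a = I := by
  ext c
  rw [mem_colon, Ideal.mem_span_singleton_mul]
  constructor
  · rintro ⟨z, hz, e⟩
    rwa [← mul_left_cancel₀ ha e]
  · intro hc
    exact ⟨c, hc, rfl⟩

theorem mul_sup_span (a : A) (I : Ideal A) :
    Ideal.span {a} * I ⊔ Ideal.span {a} = Ideal.span {a} :=
  sup_eq_right.mpr Ideal.mul_le_left

theorem term_eq (a b : A) (hb : b ≠ 0) (k : ℕ) (i : Fin (k + 1)) :
    (algebraMap A K a / algebraMap A K b) ^ ((i : ℕ) + 1) * (algebraMap A K b) ^ (k + 1) =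
      algebraMap A K (a * gen a b k i) := by
  have hb' : algebraMap A K b ≠ 0 :=
    fun h0 => hb ((map_eq_zero_iff _ (IsFractionRing.injective A K)).mp h0)
  have hi : (i : ℕ) ≤ k := Nat.lt_succ_iff.mp i.2
  unfold gen
  rw [map_mul, map_mul, map_pow, map_pow, div_pow]
  have e : (algebraMap A K b) ^ (k + 1) =
      (algebraMap A K b) ^ ((i : ℕ) + 1) * (algebraMap A K b) ^ (k - (i : ℕ)) := by
    rw [← pow_add]
    congr 1
    omega
  rw [e, ← mul_assoc, div_mul_cancel₀ _ (pow_ne_zero _ hb'), pow_succ]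
  ring

theorem colon_pow_eq_Jp (a b : A) (hb : b ≠ 0) (k : ℕ) :
    colon (Ideal.span {a} * Ik a b k) (b ^ (k + 1)) =
      Jp k (algebraMap A K a / algebraMap A K b) := by
  have hb' : algebraMap A K b ≠ 0 :=
    fun h0 => hb ((map_eq_zero_iff _ (IsFractionRing.injective A K)).mp h0)
  ext c
  rw [mem_colon, Ideal.mem_span_singleton_mul, mem_Jp]
  constructor
  · rintro ⟨z, hz, e⟩
    obtain ⟨c', rfl⟩ := Ideal.mem_span_range_iff_exists_fun.mp hz
    refine ⟨c', ?_⟩
    apply mul_right_cancel₀ (pow_ne_zero (k + 1) hb')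
    rw [Finset.sum_mul]
    have e' := congrArg (algebraMap A K) e
    rw [map_mul (algebraMap A K) (b ^ (k + 1)) c, map_pow] at e'
    rw [mul_comm (algebraMap A K c), ← e', Finset.mul_sum, map_sum]
    apply Finset.sum_congr rfl
    intro i _
    rw [mul_assoc, term_eq a b hb k i, map_mul, map_mul, map_mul]
    ring
  · rintro ⟨c', hc⟩
    refine ⟨∑ i, c' i * gen a b k i, Ideal.mem_span_range_iff_exists_fun.mpr ⟨c', rfl⟩, ?_⟩
    apply IsFractionRing.injective A K
    rw [map_mul (algebraMap A K) (b ^ (k + 1)) c, map_pow, hc, Finset.mul_sum, Finset.mul_sum,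
      map_sum]
    apply Finset.sum_congr rfl
    intro i _
    rw [mul_comm ((algebraMap A K b) ^ (k + 1)), mul_assoc, term_eq a b hb k i, map_mul, map_mul,
      map_mul]
    ring

/-- the key length identity -/
theorem length_identity (a b : A) (ha : a ≠ 0) (hb : b ≠ 0) (k : ℕ) :
    Module.length A (A ⧸ Jp (A := A) k (algebraMap A K a / algebraMap A K b)) +
        Module.length A (A ⧸ Ik a b (k + 1)) =
      Module.length A (A ⧸ Ik a b k) + Module.length A (A ⧸ Ideal.span {a}) := by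
  have h1 := length_quot_eq_add (Ideal.span {a} * Ik a b k) (b ^ (k + 1))
  have h2 := length_quot_eq_add (Ideal.span {a} * Ik a b k) a
  rw [colon_pow_eq_Jp (K := K) a b hb k, Ik_succ] at h1
  rw [colon_mul_self a ha, mul_sup_span] at h2
  rw [← h1, h2]

theorem length_quot_ne_top [IsNoetherianRing A] [Ring.KrullDimLE 1 A] (J : Ideal A) (x : A)
    (hx : x ∈ J) (hx0 : x ≠ 0) : Module.length A (A ⧸ J) ≠ ⊤ := by
  have h1 : Ring.ord A x ≠ ⊤ := Ring.ord_ne_top (mem_nonZeroDivisors_of_ne_zero hx0)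
  have hle : Ideal.span {x} ≤ J := (Ideal.span_singleton_le_iff_mem J).mpr hx
  have h2 : Module.length A (A ⧸ J) ≤ Module.length A (A ⧸ Ideal.span {x}) := by
    refine Module.length_le_of_surjective (Submodule.mapQ (Ideal.span {x}) J LinearMap.id hle) ?_
    intro y
    obtain ⟨c, rfl⟩ := Submodule.Quotient.mk_surjective _ y
    exact ⟨Submodule.Quotient.mk c, rfl⟩
  exact ne_top_of_le_ne_top h1 h2

theorem mem_Jp_of_eq (a b : A) (hb : b ≠ 0) (k : ℕ) :
    a ∈ Jp (A := A) k (algebraMap A K a / algebraMap A K b) := by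
  have hb' : algebraMap A K b ≠ 0 :=
    fun h0 => hb ((map_eq_zero_iff _ (IsFractionRing.injective A K)).mp h0)
  apply Jp_mono _ (Nat.zero_le k)
  refine ⟨fun _ => b, ?_⟩
  rw [Fin.sum_univ_one]
  simp only [Fin.val_zero, zero_add, pow_one]
  rw [mul_div_cancel₀ _ hb']

theorem pow_mem_Ik (a b : A) (k : ℕ) : a ^ k ∈ Ik a b k := by
  rw [← gen_last a b k]
  exact Ideal.subset_span ⟨Fin.last k, rfl⟩

/-- **The local lemma**: `ord_A(f) = ℓ(A/(A ∩ f A[f])) − ℓ(A/(A ∩ f⁻¹ A[f⁻¹]))`. -/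
theorem ordFrac_eq_length_sub [IsNoetherianRing A] [Ring.KrullDimLE 1 A] (f : K) (hf : f ≠ 0) :
    CycAlg.ordFrac A K f =
      ((Module.length A (A ⧸ Jplus (A := A) f)).toNat : ℤ) -
        ((Module.length A (A ⧸ Jplus (A := A) f⁻¹)).toNat : ℤ) := by
  obtain ⟨a, b, hb, rfl⟩ := IsFractionRing.div_surjective (A := A) f
  have hb0 : b ≠ 0 := nonZeroDivisors.ne_zero hb
  have ha0 : a ≠ 0 := by
    rintro rfl
    simp at hf
  obtain ⟨k₁, hk₁⟩ := exists_Jp_eq_Jplus (A := A) (algebraMap A K a / algebraMap A K b)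
  obtain ⟨k₂, hk₂⟩ := exists_Jp_eq_Jplus (A := A) (algebraMap A K b / algebraMap A K a)
  have e1 := length_identity (K := K) a b ha0 hb0 (max k₁ k₂)
  have e2 := length_identity (K := K) b a hb0 ha0 (max k₁ k₂)
  have m1 := mem_Jp_of_eq (K := K) a b hb0 (max k₁ k₂)
  have m2 := mem_Jp_of_eq (K := K) b a ha0 (max k₁ k₂)
  rw [hk₁ _ (le_max_left _ _)] at e1 m1
  rw [hk₂ _ (le_max_right _ _), Ik_symm b a, Ik_symm b a] at e2
  rw [hk₂ _ (le_max_right _ _)] at m2
  rw [inv_div, Groth.Agent.Lib.Helper18.KF3.ordFrac_div ha0 hb0]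
  unfold Ring.ord
  have f1 := length_quot_ne_top _ a m1 ha0
  have f2 := length_quot_ne_top _ b m2 hb0
  have f3 := length_quot_ne_top _ _ (pow_mem_Ik a b (max k₁ k₂ + 1)) (pow_ne_zero _ ha0)
  have f4 := length_quot_ne_top _ _ (pow_mem_Ik a b (max k₁ k₂)) (pow_ne_zero _ ha0)
  have f5 := length_quot_ne_top _ a (Ideal.mem_span_singleton_self a) ha0
  have f6 := length_quot_ne_top _ b (Ideal.mem_span_singleton_self b) hb0
  lift Module.length A (A ⧸ Jplus (A := A) (algebraMap A K a / algebraMap A K b)) to ℕ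
    using f1 with n1
  lift Module.length A (A ⧸ Jplus (A := A) (algebraMap A K b / algebraMap A K a)) to ℕ
    using f2 with n2
  lift Module.length A (A ⧸ Ik a b (max k₁ k₂ + 1)) to ℕ using f3 with n3
  lift Module.length A (A ⧸ Ik a b (max k₁ k₂)) to ℕ using f4 with n4
  lift Module.length A (A ⧸ Ideal.span {a}) to ℕ using f5 with n5
  lift Module.length A (A ⧸ Ideal.span {b}) to ℕ using f6 with n6
  simp only [ENat.toNat_coe]
  have e1' : n1 + n3 = n4 + n5 := by exact_mod_cast e1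
  have e2' : n2 + n3 = n4 + n6 := by exact_mod_cast e2
  omega

end Main

end Groth.Agent.Lib.Helper18.CL1
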