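import Mathlib
import Groth.Agent.Lib.Helper18.CL1
import Groth.Agent.Lib.Helper18.PushStalk

/-!
# Two algebraic lemmas for the local terms of the curve lemma
-/

set_option autoImplicit false
set_option linter.unusedSectionVars false
set_option linter.style.haveILetI false
universe u

namespace Groth.Agent.Lib.Helper18.CL4

open Groth.Agent.Lib.Helper18.CL1

section Square

variable {Λ B C Λ₀ K₀ : Type u} [CommRing Λ] [CommRing B] [CommRing C] [CommRing Λ₀] [CommRing K₀]

/-- comparison of lengths along a commutative square of surjections -/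
theorem length_quot_eq_of_square (a : Λ →+* B) (ha : Function.Surjective a) (s : Λ →+* C)
    (hs : Function.Surjective s) (P : Λ₀ →+* Λ) (s₀ : Λ₀ →+* K₀) (hs₀ : Function.Surjective s₀)
    (p : K₀ →+* C) (hsq : ∀ r, s (P r) = p (s₀ r)) (t : Λ)
    (ht : RingHom.ker s = Ideal.span {t}) :
    letI := (a.comp P).toAlgebra
    letI := p.toAlgebra
    Module.length Λ₀ (B ⧸ Ideal.span {a t}) =
      Module.length K₀ (C ⧸ Ideal.map s (RingHom.ker a)) := by
  letI := (a.comp P).toAlgebra
  letI := p.toAlgebra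
  -- the map `B → C / s(ker a)`
  let g : Λ →+* C ⧸ Ideal.map s (RingHom.ker a) := (Ideal.Quotient.mk _).comp s
  have hg : RingHom.ker a ≤ RingHom.ker g := by
    intro l hl
    rw [RingHom.mem_ker]
    change Ideal.Quotient.mk _ (s l) = 0
    rw [Ideal.Quotient.eq_zero_iff_mem]
    exact Ideal.mem_map_of_mem s hl
  let g' : B →+* C ⧸ Ideal.map s (RingHom.ker a) := RingHom.liftOfSurjective a ha ⟨g, hg⟩
  have hg' : ∀ l, g' (a l) = Ideal.Quotient.mk _ (s l) := fun l =>
    RingHom.liftOfRightInverse_comp_apply a _ (Function.rightInverse_surjInv ha) ⟨g, hg⟩ l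
  have hst : s t = 0 := by
    have : t ∈ RingHom.ker s := by rw [ht]; exact Ideal.mem_span_singleton_self t
    exact RingHom.mem_ker.mp this
  have hkill : ∀ b ∈ Ideal.span {a t}, g' b = 0 := by
    intro b hb
    obtain ⟨r, rfl⟩ := Ideal.mem_span_singleton'.mp hb
    rw [map_mul, hg', hst, map_zero, mul_zero]
  let φ : B ⧸ Ideal.span {a t} →+* C ⧸ Ideal.map s (RingHom.ker a) :=
    Ideal.Quotient.lift _ g' hkill
  have hφ : ∀ l, φ (Ideal.Quotient.mk _ (a l)) = Ideal.Quotient.mk _ (s l) := fun l => by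
    change g' (a l) = _
    exact hg' l
  have hbij : Function.Bijective φ := by
    constructor
    · rw [injective_iff_map_eq_zero]
      intro m hm
      obtain ⟨b, rfl⟩ := Ideal.Quotient.mk_surjective m
      obtain ⟨l, rfl⟩ := ha b
      rw [hφ, Ideal.Quotient.eq_zero_iff_mem, Ideal.mem_map_iff_of_surjective s hs] at hm
      obtain ⟨κ, hκ, hκl⟩ := hm
      have h1 : l - κ ∈ RingHom.ker s := by
        rw [RingHom.mem_ker, map_sub, hκl, sub_self]
      rw [ht] at h1
      obtain ⟨r, hr⟩ := Ideal.mem_span_singleton'.mp h1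
      rw [Ideal.Quotient.eq_zero_iff_mem, Ideal.mem_span_singleton']
      refine ⟨a r, ?_⟩
      rw [← map_mul, hr, map_sub, RingHom.mem_ker.mp hκ, sub_zero]
    · intro m
      obtain ⟨c, rfl⟩ := Ideal.Quotient.mk_surjective m
      obtain ⟨l, rfl⟩ := hs c
      exact ⟨Ideal.Quotient.mk _ (a l), hφ l⟩
  refine Groth.Agent.Lib.Helper18.PushStalk.length_eq_of_semilinear_bijective s₀ hs₀
    φ.toAddMonoidHom hbij ?_
  intro r m
  obtain ⟨b, rfl⟩ := Ideal.Quotient.mk_surjective m
  obtain ⟨l, rfl⟩ := ha b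
  change φ (r • Ideal.Quotient.mk _ (a l)) = s₀ r • φ (Ideal.Quotient.mk _ (a l))
  have e1 : r • (Ideal.Quotient.mk (Ideal.span {a t})) (a l) =
      Ideal.Quotient.mk _ (a (P r * l)) := by
    rw [map_mul]
    rfl
  rw [e1, hφ, hφ, map_mul, hsq]
  rfl

end Square

section MapKer

variable {Λ C K : Type u} [CommRing Λ] [CommRing C] [Field K] [Algebra C K]

/-- the image under the zero section of the kernel of the evaluation at `ξ` is `C ∩ f·C[f]` -/
theorem map_ker_eq_Jplus (s : Λ →+* C) (ψ : Λ →+* K) (r : C →+* Λ) (t : Λ)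
    (hsr : ∀ c, s (r c) = c) (hst : s t = 0) (hψr : ∀ c, ψ (r c) = algebraMap C K c)
    (hfrac : ∀ l : Λ, ∃ g h : Polynomial C, IsUnit (Polynomial.eval₂ r t h) ∧
      l * Polynomial.eval₂ r t h = Polynomial.eval₂ r t g) :
    Ideal.map s (RingHom.ker ψ) = Jplus (A := C) (ψ t) := by
  have hs : Function.Surjective s := fun c => ⟨r c, hsr c⟩
  have hsE : ∀ g : Polynomial C, s (Polynomial.eval₂ r t g) = g.coeff 0 := by
    intro g
    rw [Polynomial.hom_eval₂, hst]
    have : s.comp r = RingHom.id C := RingHom.ext hsr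
    rw [this, Polynomial.eval₂_id, ← Polynomial.coeff_zero_eq_eval_zero]
  have hψE : ∀ g : Polynomial C, ψ (Polynomial.eval₂ r t g) = Polynomial.aeval (ψ t) g := by
    intro g
    rw [Polynomial.hom_eval₂, Polynomial.aeval_def]
    congr 1
    exact RingHom.ext hψr
  apply le_antisymm
  · rw [Ideal.map_le_iff_le_comap]
    intro l hl
    rw [Ideal.mem_comap, mem_Jplus]
    obtain ⟨g, h, hu, e⟩ := hfrac l
    have e1 := congrArg ψ e
    rw [map_mul, RingHom.mem_ker.mp hl, zero_mul, hψE] at e1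
    have e2 := congrArg s e
    rw [map_mul, hsE, hsE] at e2
    have hu' : IsUnit (h.coeff 0) := by
      rw [← hsE]
      exact hu.map s
    obtain ⟨w, hw⟩ := hu'
    -- g = X * divX g + C (coeff 0)
    have e3 : Polynomial.aeval (ψ t) g =
        ψ t * Polynomial.aeval (ψ t) g.divX + algebraMap C K (g.coeff 0) := by
      conv_lhs => rw [← Polynomial.X_mul_divX_add g]
      rw [map_add, map_mul, Polynomial.aeval_X, Polynomial.aeval_C]
    refine ⟨-(Polynomial.C (↑w⁻¹ : C) * g.divX), ?_⟩
    have e4 : s l = g.coeff 0 * ↑w⁻¹ := by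
      rw [← e2, ← hw, mul_assoc, Units.mul_inv, mul_one]
    rw [e4, map_mul, map_neg, map_mul, Polynomial.aeval_C]
    have e5 : algebraMap C K (g.coeff 0) = -(ψ t * Polynomial.aeval (ψ t) g.divX) := by
      have := e1.trans e3
      linear_combination -this
    rw [e5]
    ring
  · intro c hc
    obtain ⟨q, hq⟩ := (mem_Jplus _ _).mp hc
    have hmem : r c - t * Polynomial.eval₂ r t q ∈ RingHom.ker ψ := by
      rw [RingHom.mem_ker, map_sub, map_mul, hψr, hψE, hq, sub_self]
    have h1 := Ideal.mem_map_of_mem s hmem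
    rw [map_sub, map_mul, hst, zero_mul, sub_zero, hsr] at h1
    exact h1

end MapKer

end Groth.Agent.Lib.Helper18.CL4
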