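import Mathlib
import Groth.Agent.Lib.Helper18.CL3

/-!
# The retraction of the local ring of the affine line at a point of the zero section
-/

set_option autoImplicit false
set_option linter.unusedSectionVars false
set_option linter.style.haveILetI false
universe u
open AlgebraicGeometry CategoryTheory TopologicalSpace AlgebraicGeometry.AffineSpace

namespace Groth.Agent.Lib.Helper18.CL5

open Groth.Agent.Lib.Helper18.CL2 Groth.Agent.Lib.Helper18.CL3

variable (X : Scheme.{u})

/-- the retraction `O_{A1,z} → O_{X,π z}` at a point of the zero section -/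
noncomputable def sec (z : A1 X)
    (hT : Tg X z ∈ IsLocalRing.maximalIdeal ((A1 X).presheaf.stalk z)) :
    (A1 X).presheaf.stalk z →+* X.presheaf.stalk (pr X z) :=
  ((zeroSec X).stalkMap (pr X z)).hom.comp
    ((A1 X).presheaf.stalkCongr (.of_eq (eq_zeroSec_of_Tg_mem X z hT))).hom.hom

theorem sec_Tg (z : A1 X)
    (hT : Tg X z ∈ IsLocalRing.maximalIdeal ((A1 X).presheaf.stalk z)) :
    sec X z hT (Tg X z) = 0 := by
  unfold sec
  rw [RingHom.comp_apply]
  have h1 : ((A1 X).presheaf.stalkCongr (.of_eq (eq_zeroSec_of_Tg_mem X z hT))).hom.hom (Tg X z) =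
      Tg X (zeroSec X (pr X z)) := by
    unfold Tg
    exact congrArg (fun k => k.hom (T X))
      ((A1 X).presheaf.germ_stalkSpecializes (U := ⊤) (y := z) trivial
        (Inseparable.of_eq (eq_zeroSec_of_Tg_mem X z hT)).ge)
  rw [h1]
  exact stalkMap_zeroSec_Tg X (pr X z)

theorem stalkCongr_loop {x₁ x₂ : X} (e₁ : x₁ = x₂) (e₂ : x₂ = x₁) (a : X.presheaf.stalk x₁) :
    (X.presheaf.stalkCongr (.of_eq e₂)).hom.hom ((X.presheaf.stalkCongr (.of_eq e₁)).hom.hom a) =
      a := by
  subst e₁
  have h : (X.presheaf.stalkCongr (.of_eq rfl : Inseparable x₁ x₁)).hom ≫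
      (X.presheaf.stalkCongr (.of_eq e₂)).hom = 𝟙 _ := by
    change X.presheaf.stalkSpecializes (Inseparable.of_eq rfl).ge ≫
      X.presheaf.stalkSpecializes (Inseparable.of_eq e₂).ge = 𝟙 _
    rw [TopCat.Presheaf.stalkSpecializes_comp]
    exact TopCat.Presheaf.stalkSpecializes_refl _ _
  exact congrArg (fun k => k.hom a) h

theorem sec_stalkMap (z : A1 X)
    (hT : Tg X z ∈ IsLocalRing.maximalIdeal ((A1 X).presheaf.stalk z))
    (a : X.presheaf.stalk (pr X z)) :
    sec X z hT (((pr X).stalkMap z).hom a) = a := by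
  have e := eq_zeroSec_of_Tg_mem X z hT
  have h_a := Scheme.Hom.stalkMap_congr_point (pr X) z (zeroSec X (pr X z)) e
  have h_b := Scheme.Hom.stalkMap_comp (zeroSec X) (pr X) (pr X z)
  have h_c := Scheme.Hom.stalkMap_congr_hom (zeroSec X ≫ pr X) (𝟙 X) (zeroSec_pr X) (pr X z)
  rw [Scheme.Hom.stalkMap_id] at h_c
  have h1 := congrArg (fun k => k.hom a) h_a
  simp only [CommRingCat.hom_comp, RingHom.coe_comp, Function.comp_apply] at h1
  unfold sec
  rw [RingHom.comp_apply, h1]
  have h2 := congrArg (fun k => k.hom ((X.presheaf.stalkCongr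
    (.of_eq (e ▸ rfl : pr X z = pr X (zeroSec X (pr X z))))).hom.hom a)) (h_b.symm.trans h_c)
  simp only [CommRingCat.hom_comp, RingHom.coe_comp, Function.comp_apply] at h2
  refine Eq.trans h2 ?_
  exact stalkCongr_loop X (x₁ := pr X z) (x₂ := pr X (zeroSec X (pr X z)))
    (congrArg (pr X) e) (pr_zeroSec X (pr X z)) a

theorem sec_evP (z : A1 X)
    (hT : Tg X z ∈ IsLocalRing.maximalIdeal ((A1 X).presheaf.stalk z))
    (g : Polynomial (X.presheaf.stalk (pr X z))) :
    sec X z hT (evP X z g) = g.coeff 0 := by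
  have hcomp : (sec X z hT).comp (evP X z) = Polynomial.constantCoeff := by
    apply Polynomial.ringHom_ext
    · intro a
      simp only [RingHom.coe_comp, Function.comp_apply, evP_C, Polynomial.constantCoeff_apply,
        Polynomial.coeff_C_zero]
      exact sec_stalkMap X z hT a
    · simp only [RingHom.coe_comp, Function.comp_apply, evP_X, Polynomial.constantCoeff_apply,
        Polynomial.coeff_X_zero]
      exact sec_Tg X z hT
  exact congrArg (fun k => k g) hcomp

theorem sec_surjective (z : A1 X)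
    (hT : Tg X z ∈ IsLocalRing.maximalIdeal ((A1 X).presheaf.stalk z)) :
    Function.Surjective (sec X z hT) :=
  fun a => ⟨((pr X).stalkMap z).hom a, sec_stalkMap X z hT a⟩

theorem ker_sec (z : A1 X)
    (hT : Tg X z ∈ IsLocalRing.maximalIdeal ((A1 X).presheaf.stalk z)) :
    RingHom.ker (sec X z hT) = Ideal.span {Tg X z} := by
  apply le_antisymm
  · intro l hl
    obtain ⟨g, h, hu, e⟩ := exists_fraction' X z l
    have e' := congrArg (sec X z hT) e
    rw [map_mul, RingHom.mem_ker.mp hl, zero_mul, sec_evP] at e'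
    obtain ⟨g', rfl⟩ := Polynomial.X_dvd_iff.mpr e'.symm
    rw [map_mul, evP_X] at e
    rw [Ideal.mem_span_singleton']
    refine ⟨evP X z g' * ↑hu.unit⁻¹, ?_⟩
    have e2 : l = Tg X z * evP X z g' * ↑hu.unit⁻¹ := by
      rw [← e, mul_assoc l, IsUnit.mul_val_inv, mul_one]
    rw [e2]
    ring
  · rw [Ideal.span_le, Set.singleton_subset_iff]
    exact RingHom.mem_ker.mpr (sec_Tg X z hT)

/-- ring homomorphisms out of a local ring of the affine line are determined by their values on
the base and on the coordinate -/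
theorem ringHom_ext_stalk (z : A1 X) {R : Type u} [CommRing R]
    (φ₁ φ₂ : (A1 X).presheaf.stalk z →+* R)
    (h1 : ∀ a, φ₁ (((pr X).stalkMap z).hom a) = φ₂ (((pr X).stalkMap z).hom a))
    (h2 : φ₁ (Tg X z) = φ₂ (Tg X z)) : φ₁ = φ₂ := by
  have hE : ∀ g : Polynomial (X.presheaf.stalk (pr X z)), φ₁ (evP X z g) = φ₂ (evP X z g) := by
    intro g
    have hcomp : φ₁.comp (evP X z) = φ₂.comp (evP X z) := by
      apply Polynomial.ringHom_ext
      · intro a
        simp only [RingHom.coe_comp, Function.comp_apply, evP_C]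
        exact h1 a
      · simp only [RingHom.coe_comp, Function.comp_apply, evP_X]
        exact h2
    exact congrArg (fun k => k g) hcomp
  ext l
  obtain ⟨g, h, hu, e⟩ := exists_fraction' X z l
  have e1 := congrArg φ₁ e
  have e2 := congrArg φ₂ e
  rw [map_mul] at e1 e2
  rw [hE g, ← e2, hE h] at e1
  exact (hu.map φ₂).mul_left_injective e1

section Square

variable {X} {Y : Scheme.{u}} (p : X ⟶ Y)

theorem stalkMap_map_Tg (z : A1 X) :
    ((map PUnit.{u+1} p).stalkMap z).hom (Tg Y (map PUnit.{u+1} p z)) = Tg X z := by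
  unfold Tg
  have h1 := Scheme.Hom.germ_stalkMap_apply (map PUnit.{u+1} p) ⊤ z trivial (T Y)
  have h2 : (map PUnit.{u+1} p).app ⊤ (T Y) = T X := map_appTop_coord p PUnit.unit
  rw [h2] at h1
  exact h1

theorem Tg_map_mem (z : A1 X)
    (hT : Tg X z ∈ IsLocalRing.maximalIdeal ((A1 X).presheaf.stalk z)) :
    Tg Y (map PUnit.{u+1} p z) ∈
      IsLocalRing.maximalIdeal ((A1 Y).presheaf.stalk (map PUnit.{u+1} p z)) := by
  rw [IsLocalRing.mem_maximalIdeal, mem_nonunits_iff] at hT ⊢
  intro hu
  apply hT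
  rw [← stalkMap_map_Tg p z]
  exact hu.map _

theorem pr_map (z : A1 X) : pr Y (map PUnit.{u+1} p z) = p (pr X z) := by
  have := congrArg (fun k => k z) (map_over (n := PUnit.{u+1}) p)
  exact this

/-- the retractions are compatible with a morphism of the bases -/
theorem sec_square (z : A1 X)
    (hT : Tg X z ∈ IsLocalRing.maximalIdeal ((A1 X).presheaf.stalk z))
    (l : (A1 Y).presheaf.stalk (map PUnit.{u+1} p z)) :
    sec X z hT (((map PUnit.{u+1} p).stalkMap z).hom l) =
      (p.stalkMap (pr X z)).hom ((Y.presheaf.stalkCongr (.of_eq (pr_map p z))).hom.hom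
        (sec Y (map PUnit.{u+1} p z) (Tg_map_mem p z hT) l)) := by
  have key : (sec X z hT).comp ((map PUnit.{u+1} p).stalkMap z).hom =
      ((p.stalkMap (pr X z)).hom.comp
        (Y.presheaf.stalkCongr (.of_eq (pr_map p z))).hom.hom).comp
        (sec Y (map PUnit.{u+1} p z) (Tg_map_mem p z hT)) := by
    apply ringHom_ext_stalk Y (map PUnit.{u+1} p z)
    · intro b
      simp only [RingHom.coe_comp, Function.comp_apply]
      rw [sec_stalkMap]
      have h1 := Scheme.Hom.stalkMap_comp (map PUnit.{u+1} p) (pr Y) z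
      have h2 := Scheme.Hom.stalkMap_congr_hom (map PUnit.{u+1} p ≫ pr Y) (pr X ≫ p)
        (map_over (n := PUnit.{u+1}) p) z
      have h3 := Scheme.Hom.stalkMap_comp (pr X) p z
      have h4 := congrArg (fun k => k.hom b) (h1.symm.trans (h2.trans (by rw [h3])))
      simp only [CommRingCat.hom_comp, RingHom.coe_comp, Function.comp_apply] at h4
      refine (congrArg (sec X z hT) h4).trans ?_
      exact sec_stalkMap X z hT _
    · simp only [RingHom.coe_comp, Function.comp_apply]
      rw [stalkMap_map_Tg, sec_Tg, sec_Tg, map_zero, map_zero]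
  exact congrArg (fun k => k l) key

end Square

end Groth.Agent.Lib.Helper18.CL5
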