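import Mathlib
import Groth.Prelude.Def_Cyc
import Groth.Agent.Lib.Helper18.CL4
import Groth.Agent.Lib.Helper18.CL5
import Groth.Agent.Lib.Helper18.DL6

/-!
# The local terms of the norm formula for the closure of a rational point of the generic fibre
of the affine line
-/

set_option autoImplicit false
set_option linter.unusedSectionVars false
set_option linter.style.haveILetI false
universe u
open AlgebraicGeometry CategoryTheory TopologicalSpace AlgebraicGeometry.AffineSpace

namespace Groth.Agent.Lib.Helper18.CL6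

open Groth.Agent.Lib.Helper18.CL1 Groth.Agent.Lib.Helper18.CL2 Groth.Agent.Lib.Helper18.CL3
  Groth.Agent.Lib.Helper18.CL4 Groth.Agent.Lib.Helper18.CL5 Groth.Agent.Lib.Helper18.DivPull

theorem length_congr_algebra {R S : Type u} [CommRing R] [CommRing S] (f g : R →+* S)
    (h : f = g) (I : Ideal S) :
    (letI := f.toAlgebra; Module.length R (S ⧸ I)) =
      (letI := g.toAlgebra; Module.length R (S ⧸ I)) := by
  subst h
  rfl

variable {X Y : Scheme.{u}} (p : X ⟶ Y) {W : Scheme.{u}}

/-- the local term of the norm formula at a point of `W` -/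
noncomputable def G (φ : W ⟶ A1 Y) (u : W) : ℕ :=
  letI := (φ.stalkMap u).hom.toAlgebra
  (Module.length ((A1 Y).presheaf.stalk (φ u))
    (W.presheaf.stalk u ⧸ Ideal.span {W.presheaf.germ ⊤ u trivial (φ.appTop (T Y))})).toNat

variable [IsIntegral W] (ι : W ⟶ A1 X) [IsClosedImmersion ι]

/-- the kernel of the stalk map of a closed immersion from an integral scheme -/
theorem ker_stalkMap_eq (u : W) (h : ι (genericPoint W) ⤳ ι u) :
    RingHom.ker (ι.stalkMap u).hom =
      RingHom.ker (Cyc.specMap (ι u) (ι (genericPoint W)) h) := by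
  have hW : genericPoint W ⤳ u := genericPoint_specializes u
  ext l
  have key := specMap_stalkMap ι u (genericPoint W) hW h l
  rw [RingHom.mem_ker, RingHom.mem_ker]
  constructor
  · intro h0
    rw [h0, map_zero] at key
    exact (map_eq_zero_iff _ (RingHom.injective _)).mp key.symm
  · intro h0
    rw [h0, map_zero] at key
    exact (specMap_injective_of_generic u (genericPoint W) hW rfl) (key.trans (map_zero _).symm)

theorem germ_appTop_T (u : W) :
    W.presheaf.germ ⊤ u trivial ((ι ≫ map PUnit.{u+1} p).appTop (T Y)) =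
      (ι.stalkMap u).hom (Tg X (ι u)) := by
  have h1 : (ι ≫ map PUnit.{u+1} p).appTop (T Y) = ι.appTop (T X) := by
    rw [Scheme.Hom.comp_appTop, CommRingCat.comp_apply]
    congr 1
    exact map_appTop_coord p PUnit.unit
  rw [h1]
  unfold Tg
  exact (Scheme.Hom.germ_stalkMap_apply ι ⊤ u trivial (T X)).symm

theorem G_eq_length (u : W)
    (hT : Tg X (ι u) ∈ IsLocalRing.maximalIdeal ((A1 X).presheaf.stalk (ι u))) :
    letI := (p.stalkMap (pr X (ι u))).hom.toAlgebra
    G (ι ≫ map PUnit.{u+1} p) u =
      (Module.length (Y.presheaf.stalk (p (pr X (ι u))))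
        (X.presheaf.stalk (pr X (ι u)) ⧸
          Ideal.map (sec X (ι u) hT) (RingHom.ker (ι.stalkMap u).hom))).toNat := by
  have hs₀ : Function.Surjective ((Y.presheaf.stalkCongr (.of_eq (pr_map p (ι u)))).hom.hom.comp
      (sec Y (map PUnit.{u+1} p (ι u)) (Tg_map_mem p (ι u) hT))) := by
    rw [RingHom.coe_comp]
    exact (ConcreteCategory.bijective_of_isIso
      (Y.presheaf.stalkCongr (.of_eq (pr_map p (ι u)))).hom).2.comp (sec_surjective Y _ _)
  have key := length_quot_eq_of_square (ι.stalkMap u).hom (ι.stalkMap_surjective u)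
    (sec X (ι u) hT) (sec_surjective X (ι u) hT) ((map PUnit.{u+1} p).stalkMap (ι u)).hom
    ((Y.presheaf.stalkCongr (.of_eq (pr_map p (ι u)))).hom.hom.comp
      (sec Y (map PUnit.{u+1} p (ι u)) (Tg_map_mem p (ι u) hT))) hs₀
    (p.stalkMap (pr X (ι u))).hom (fun r => sec_square p (ι u) hT r) (Tg X (ι u))
    (ker_sec X (ι u) hT)
  unfold G
  rw [germ_appTop_T p ι u]
  congr 1
  refine Eq.trans ?_ key
  have hh : ((ι ≫ map PUnit.{u+1} p).stalkMap u).hom =
      (ι.stalkMap u).hom.comp ((map PUnit.{u+1} p).stalkMap (ι u)).hom := by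
    rw [Scheme.Hom.stalkMap_comp]
    rfl
  exact length_congr_algebra _ _ hh _

end Groth.Agent.Lib.Helper18.CL6
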