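import Mathlib
import Groth.Prelude.Def_Cyc
import Groth.Agent.Lib.Helper18.CL6

/-!
# The local terms of the norm formula, in terms of the ideals `A ∩ f·A[f]`
-/

set_option autoImplicit false
set_option linter.unusedSectionVars false
set_option linter.style.haveILetI false
universe u
open AlgebraicGeometry CategoryTheory TopologicalSpace AlgebraicGeometry.AffineSpace

namespace Groth.Agent.Lib.Helper18.CL6b

open Groth.Agent.Lib.Helper18.CL1 Groth.Agent.Lib.Helper18.CL2 Groth.Agent.Lib.Helper18.CL3
  Groth.Agent.Lib.Helper18.CL4 Groth.Agent.Lib.Helper18.CL5 Groth.Agent.Lib.Helper18.DivPull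
  Groth.Agent.Lib.Helper18.CL6

/-- length of a quotient by the preimage of an ideal under a surjection -/
theorem length_quot_comap {A A' : Type u} [CommRing A] [CommRing A'] (φ : A →+* A')
    (hφ : Function.Surjective φ) (J : Ideal A') :
    Module.length A (A ⧸ Ideal.comap φ J) = Module.length A' (A' ⧸ J) := by
  have hinj : Function.Injective (Ideal.quotientMap J φ le_rfl) :=
    Ideal.quotientMap_injective' le_rfl
  have hsurj : Function.Surjective (Ideal.quotientMap J φ le_rfl) :=
    Ideal.quotientMap_surjective hφ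
  refine Groth.Agent.Lib.Helper18.PushStalk.length_eq_of_semilinear_bijective φ hφ
    (Ideal.quotientMap J φ le_rfl).toAddMonoidHom ⟨hinj, hsurj⟩ ?_
  intro r m
  obtain ⟨a, rfl⟩ := Ideal.Quotient.mk_surjective m
  change Ideal.quotientMap J φ le_rfl (Ideal.Quotient.mk _ (r * a)) =
    φ r • Ideal.quotientMap J φ le_rfl (Ideal.Quotient.mk _ a)
  rw [Ideal.quotientMap_mk, Ideal.quotientMap_mk, map_mul]
  rfl

theorem specMap_Tg {X : Scheme.{u}} (z ξ : A1 X) (h : ξ ⤳ z) :
    Cyc.specMap z ξ h (Tg X z) = ((A1 X).residue ξ).hom (Tg X ξ) := by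
  unfold Cyc.specMap Tg
  simp only [CommRingCat.hom_comp, RingHom.coe_comp, Function.comp_apply]
  congr 1
  exact TopCat.Presheaf.germ_stalkSpecializes_apply (A1 X).presheaf (U := ⊤) trivial h (T X)

variable {X Y : Scheme.{u}} (p : X ⟶ Y) {W : Scheme.{u}}
variable [IsIntegral W] (ι : W ⟶ A1 X) [IsClosedImmersion ι]

/-- the local term of the norm formula at a point of the zero section -/
theorem G_eq (u : W)
    (hT : Tg X (ι u) ∈ IsLocalRing.maximalIdeal ((A1 X).presheaf.stalk (ι u)))
    (h : ι (genericPoint W) ⤳ ι u)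
    (h' : pr X (ι (genericPoint W)) ⤳ pr X (ι u))
    (f : X.residueField (pr X (ι (genericPoint W))))
    (hf : ((pr X).residueFieldMap (ι (genericPoint W))).hom f =
      ((A1 X).residue (ι (genericPoint W))).hom (Tg X (ι (genericPoint W)))) :
    G (ι ≫ map PUnit.{u+1} p) u =
      (Module.length (Cyc.LocQuot (pr X (ι u)) (pr X (ι (genericPoint W))) h')
        (Cyc.LocQuot (pr X (ι u)) (pr X (ι (genericPoint W))) h' ⧸
          Jplus (A := Cyc.LocQuot (pr X (ι u)) (pr X (ι (genericPoint W))) h') f)).toNat *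
        p.residueDegree (pr X (ι u)) := by
  rw [G_eq_length p ι u hT, ker_stalkMap_eq ι u h]
  letI alg : Algebra (X.presheaf.stalk (pr X (ι u))) ((A1 X).residueField (ι (genericPoint W))) :=
    ((Cyc.specMap (ι u) (ι (genericPoint W)) h).comp ((pr X).stalkMap (ι u)).hom).toAlgebra
  have e1 := map_ker_eq_Jplus (sec X (ι u) hT) (Cyc.specMap (ι u) (ι (genericPoint W)) h)
    ((pr X).stalkMap (ι u)).hom (Tg X (ι u)) (sec_stalkMap X (ι u) hT) (sec_Tg X (ι u) hT)
    (fun c => rfl) (exists_fraction' X (ι u))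
  have e3 := Jplus_comap (A := X.presheaf.stalk (pr X (ι u)))
    (K := (A1 X).residueField (ι (genericPoint W)))
    (A' := Cyc.LocQuot (pr X (ι u)) (pr X (ι (genericPoint W))) h')
    (K' := X.residueField (pr X (ι (genericPoint W))))
    (Ideal.Quotient.mk _) Ideal.Quotient.mk_surjective
    ((pr X).residueFieldMap (ι (genericPoint W))).hom
    (fun a => (specMap_stalkMap (pr X) (ι u) (ι (genericPoint W)) h h' a).symm) f
  rw [e1, specMap_Tg, ← hf, e3, Groth.Agent.Lib.Helper18.DL6.toNat_length_stalk_quot p (pr X (ι u))]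
  congr 2
  exact length_quot_comap _ Ideal.Quotient.mk_surjective _

end Groth.Agent.Lib.Helper18.CL6b
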