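import Mathlib
import Groth.Prelude.Def_Cyc
import Groth.Agent.Lib.Helper18.CL6b
import Groth.Agent.Lib.Helper18.FibreFin

/-!
# General facts on the points of the affine line over a scheme
-/

set_option autoImplicit false
set_option linter.unusedSectionVars false
set_option linter.style.haveILetI false
universe u
open AlgebraicGeometry CategoryTheory TopologicalSpace AlgebraicGeometry.AffineSpace

namespace Groth.Agent.Lib.Helper18.CL7b

open Groth.Agent.Lib.Helper18.CL1 Groth.Agent.Lib.Helper18.CL2 Groth.Agent.Lib.Helper18.CL3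
  Groth.Agent.Lib.Helper18.CL4 Groth.Agent.Lib.Helper18.CL5 Groth.Agent.Lib.Helper18.DivPull
  Groth.Agent.Lib.Helper18.CL6 Groth.Agent.Lib.Helper18.CL6b

variable (S : Scheme.{u})

/-- the value of the coordinate at a point -/
noncomputable def tz (z : A1 S) : (A1 S).residueField z := ((A1 S).residue z).hom (Tg S z)

/-- the coefficient map at a point -/
noncomputable def cz (z : A1 S) : S.presheaf.stalk (pr S z) →+* (A1 S).residueField z :=
  ((A1 S).residue z).hom.comp ((pr S).stalkMap z).hom

theorem cz_eq (z : A1 S) (a : S.presheaf.stalk (pr S z)) :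
    cz S z a = ((pr S).residueFieldMap z).hom ((S.residue (pr S z)).hom a) := by
  have h := congrArg (fun k => k.hom a) (Scheme.residue_residueFieldMap (pr S) z)
  simp only [CommRingCat.hom_comp, RingHom.coe_comp, Function.comp_apply] at h
  exact h.symm

theorem residue_evP (z : A1 S) (g : Polynomial (S.presheaf.stalk (pr S z))) :
    ((A1 S).residue z).hom (evP S z g) = Polynomial.eval₂ (cz S z) (tz S z) g := by
  unfold evP cz tz
  rw [Polynomial.coe_eval₂RingHom, Polynomial.hom_eval₂]

theorem residue_evP' (z : A1 S) (g : Polynomial (S.presheaf.stalk (pr S z))) :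
    ((A1 S).residue z).hom (evP S z g) =
      Polynomial.eval₂ ((pr S).residueFieldMap z).hom (tz S z)
        (g.map (S.residue (pr S z)).hom) := by
  rw [residue_evP, Polynomial.eval₂_map]
  have : cz S z = ((pr S).residueFieldMap z).hom.comp (S.residue (pr S z)).hom :=
    RingHom.ext (cz_eq S z)
  rw [this]

/-- the residue field of a point of the affine line is generated by the residue field of the
base point and the value of the coordinate -/
theorem closure_eq_top (z : A1 S) :
    Subfield.closure (Set.range ((pr S).residueFieldMap z).hom ∪ {tz S z}) = ⊤ := by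
  rw [eq_top_iff]
  intro k _
  set F := Subfield.closure (Set.range ((pr S).residueFieldMap z).hom ∪ {tz S z}) with hF
  have ht : tz S z ∈ F := Subfield.subset_closure (Or.inr rfl)
  have hc : ∀ a, cz S z a ∈ F := fun a => by
    rw [cz_eq]
    exact Subfield.subset_closure (Or.inl ⟨_, rfl⟩)
  have hmem : ∀ g : Polynomial (S.presheaf.stalk (pr S z)),
      ((A1 S).residue z).hom (evP S z g) ∈ F := by
    intro g
    rw [residue_evP, Polynomial.eval₂_eq_sum_range]
    exact sum_mem fun i _ => mul_mem (hc _) (pow_mem ht i)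
  obtain ⟨l, rfl⟩ := Scheme.residue_surjective (A1 S) z k
  obtain ⟨g, h, hu, e⟩ := exists_fraction' S z l
  have e' := congrArg ((A1 S).residue z).hom e
  rw [map_mul] at e'
  have hne : ((A1 S).residue z).hom (evP S z h) ≠ 0 := (hu.map ((A1 S).residue z).hom).ne_zero
  have : ((A1 S).residue z).hom l =
      ((A1 S).residue z).hom (evP S z g) / ((A1 S).residue z).hom (evP S z h) :=
    eq_div_of_mul_eq hne e'
  change ((A1 S).residue z).hom l ∈ F
  rw [this]
  exact div_mem (hmem g) (hmem h)

theorem residue_injective_of_generic [IsIntegral S] (x : S) (hx : x = genericPoint S) :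
    Function.Injective (S.residue x).hom := by
  subst hx
  change Function.Injective ((S.residue (genericPoint S)).hom : S.functionField →+* _)
  exact RingHom.injective _

/-- a point of the affine line over the generic point at which the coordinate is transcendental
is the generic point -/
theorem eq_genericPoint_of_transcendental [IsIntegral S] (z : A1 S)
    (hz : pr S z = genericPoint S)
    (htr : ∀ g : Polynomial (S.residueField (pr S z)), g ≠ 0 →
      Polynomial.eval₂ ((pr S).residueFieldMap z).hom (tz S z) g ≠ 0) :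
    z = genericPoint (A1 S) := by
  obtain ⟨_, ⟨S₁, hS₁ : IsAffineOpen S₁, rfl⟩, hxS₁, -⟩ :=
    S.isBasis_affineOpens.exists_subset_of_mem_open (Set.mem_univ (pr S z)) isOpen_univ
  have hV : IsAffineOpen ((pr S) ⁻¹ᵁ S₁) := hS₁.preimage _
  have hzV : z ∈ (pr S) ⁻¹ᵁ S₁ := hxS₁
  have hgV : genericPoint (A1 S) ∈ (pr S) ⁻¹ᵁ S₁ :=
    ((genericPoint_spec (A1 S)).mem_open_set_iff ((pr S) ⁻¹ᵁ S₁).isOpen).mpr ⟨z, trivial, hzV⟩
  have hbot : (hV.primeIdealOf ⟨z, hzV⟩).asIdeal = ⊥ := by
    rw [eq_bot_iff]
    intro s hs
    obtain ⟨G, rfl⟩ := evW_surjective PUnit.{u+1} S hS₁ s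
    rw [Groth.Agent.Lib.Helper18.FibreFin.mem_primeIdealOf_iff hV z hzV] at hs
    have h0 : ((A1 S).residue z).hom ((A1 S).presheaf.germ ((pr S) ⁻¹ᵁ S₁) z hzV
        (evW PUnit.{u+1} S S₁ G)) = 0 := by
      by_contra hne
      apply hs
      have := (IsLocalRing.residue_ne_zero_iff_isUnit
        ((A1 S).presheaf.germ ((pr S) ⁻¹ᵁ S₁) z hzV (evW PUnit.{u+1} S S₁ G))).mp hne
      exact this
    rw [← evStalk_map_germ PUnit.{u+1} S z S₁ hzV G, ← evP_uniqueAlgEquiv, residue_evP'] at h0
    have h1 : (MvPolynomial.uniqueAlgEquiv _ PUnit.{u+1}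
        (MvPolynomial.map (S.presheaf.germ S₁ (pr S z) hzV).hom G)).map
          (S.residue (pr S z)).hom = 0 := by
      by_contra hne
      exact htr _ hne h0
    have h2 : MvPolynomial.uniqueAlgEquiv _ PUnit.{u+1}
        (MvPolynomial.map (S.presheaf.germ S₁ (pr S z) hzV).hom G) = 0 := by
      apply Polynomial.map_injective _ (residue_injective_of_generic S _ hz)
      rw [h1, Polynomial.map_zero]
    have h3 : MvPolynomial.map (S.presheaf.germ S₁ (pr S z) hzV).hom G = 0 := by
      apply (MvPolynomial.uniqueAlgEquiv _ PUnit.{u+1}).injective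
      rw [h2, map_zero]
    have h4 : G = 0 := by
      apply MvPolynomial.map_injective _ (germ_injective_of_isIntegral S (pr S z) hzV)
      rw [h3, map_zero]
    rw [h4, map_zero]
    exact Submodule.zero_mem _
  have hle : hV.primeIdealOf ⟨z, hzV⟩ ≤ hV.primeIdealOf ⟨genericPoint (A1 S), hgV⟩ := by
    change (hV.primeIdealOf ⟨z, hzV⟩).asIdeal ≤ _
    rw [hbot]
    exact bot_le
  have hsp := (Groth.Agent.Lib.Helper18.FibreFin.primeIdealOf_le_iff hV z _ hzV hgV).mp hle
  exact (hsp.antisymm (genericPoint_specializes z)).eq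

end Groth.Agent.Lib.Helper18.CL7b
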