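import Mathlib
import Groth.Prelude.Def_Cyc
import Groth.Agent.Lib.Helper18.CL7b
import Groth.Agent.Lib.Helper18.DL9

/-!
# The local ring of the affine line at the generic point of the zero section; variants of the
norm formula without dimension functions
-/

set_option autoImplicit false
set_option linter.unusedSectionVars false
set_option linter.style.haveILetI false
universe u
open AlgebraicGeometry CategoryTheory TopologicalSpace AlgebraicGeometry.AffineSpace

namespace Groth.Agent.Lib.Helper18.CL7c

open Groth.Agent.Lib.Helper18.CL1 Groth.Agent.Lib.Helper18.CL2 Groth.Agent.Lib.Helper18.CL3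
  Groth.Agent.Lib.Helper18.CL4 Groth.Agent.Lib.Helper18.CL5 Groth.Agent.Lib.Helper18.DivPull
  Groth.Agent.Lib.Helper18.CL6 Groth.Agent.Lib.Helper18.CL6b Groth.Agent.Lib.Helper18.CL7b
  Groth.Agent.Lib.Helper18.DL5 Groth.Agent.Lib.Helper18.DL6
  Groth.Agent.Lib.Helper18.DL7 Groth.Agent.Lib.Helper18.DL8 Groth.Agent.Lib.Helper18.FF3
  Groth.Agent.Lib.Helper18.FF2

section General

theorem specMap_surjective_of_eq {X : Scheme.{u}} (x ξ : X) (h : ξ ⤳ x) (e : ξ = x) :
    Function.Surjective (Cyc.specMap x ξ h) := by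
  subst e
  unfold Cyc.specMap
  rw [TopCat.Presheaf.stalkSpecializes_refl, Category.id_comp]
  exact Scheme.residue_surjective X ξ

theorem eq_zero_of_not_isUnit_of_generic {S : Scheme.{u}} [IsIntegral S] (x : S)
    (hx : x = genericPoint S) (a : S.presheaf.stalk x) (ha : ¬ IsUnit a) : a = 0 := by
  subst hx
  by_contra h0
  exact ha ((isUnit_iff_ne_zero (G₀ := S.functionField)).mpr h0)

theorem isField_stalk_of_generic {S : Scheme.{u}} [IsIntegral S] (x : S)
    (hx : x = genericPoint S) : IsField (S.presheaf.stalk x) := by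
  subst hx
  exact Field.toIsField S.functionField

end General

variable (S : Scheme.{u}) [IsIntegral S]

/-- a point of the affine line whose coordinate value is a nonzero element coming from the base
does not specialize to a point of the zero section over the generic point -/
theorem tz_eq_zero_of_specializes (z ξ : A1 S) (h : ξ ⤳ z)
    (hT : Tg S z ∈ IsLocalRing.maximalIdeal ((A1 S).presheaf.stalk z))
    (hz : pr S z = genericPoint S)
    (hsurj : tz S ξ ∈ Set.range ((pr S).residueFieldMap ξ).hom) : tz S ξ = 0 := by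
  have h' : pr S ξ ⤳ pr S z := h.map (pr S).continuous
  have e : pr S ξ = pr S z := by
    have h2 : pr S z ⤳ pr S ξ := by
      rw [hz]
      exact genericPoint_specializes _
    exact (h'.antisymm h2).eq
  obtain ⟨f', hf'⟩ := hsurj
  obtain ⟨a, ha⟩ := specMap_surjective_of_eq (pr S z) (pr S ξ) h' e f'
  have h1 : Cyc.specMap z ξ h (((pr S).stalkMap z).hom a) = tz S ξ := by
    rw [specMap_stalkMap (pr S) z ξ h h' a, ha, hf']
  have h2 : Cyc.specMap z ξ h (Tg S z) = tz S ξ := specMap_Tg z ξ h
  have h3 : Cyc.specMap z ξ h (((pr S).stalkMap z).hom a - Tg S z) = 0 := by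
    rw [map_sub, h1, h2, sub_self]
  have h4 : ((pr S).stalkMap z).hom a - Tg S z ∈
      IsLocalRing.maximalIdeal ((A1 S).presheaf.stalk z) := by
    rw [IsLocalRing.mem_maximalIdeal, mem_nonunits_iff]
    intro hu
    have := hu.map (Cyc.specMap z ξ h)
    rw [h3] at this
    exact not_isUnit_zero this
  have h5 : ((pr S).stalkMap z).hom a ∈ IsLocalRing.maximalIdeal ((A1 S).presheaf.stalk z) := by
    have := Ideal.add_mem _ h4 hT
    rwa [sub_add_cancel] at this
  have h6 : ¬ IsUnit a := by
    intro hu
    rw [IsLocalRing.mem_maximalIdeal, mem_nonunits_iff] at h5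
    exact h5 (hu.map _)
  have h7 : a = 0 := eq_zero_of_not_isUnit_of_generic (pr S z) hz a h6
  rw [← h1, h7, map_zero, map_zero]

/-- at a point of the zero section over the generic point the maximal ideal is generated by the
coordinate -/
theorem maximalIdeal_eq_span_Tg (z : A1 S)
    (hT : Tg S z ∈ IsLocalRing.maximalIdeal ((A1 S).presheaf.stalk z))
    (hz : pr S z = genericPoint S) :
    IsLocalRing.maximalIdeal ((A1 S).presheaf.stalk z) = Ideal.span {Tg S z} := by
  letI : Field (S.presheaf.stalk (pr S z)) := (isField_stalk_of_generic (pr S z) hz).toField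
  have hmax : (RingHom.ker (sec S z hT)).IsMaximal :=
    RingHom.ker_isMaximal_of_surjective (sec S z hT) (sec_surjective S z hT)
  rw [ker_sec] at hmax
  exact (IsLocalRing.eq_maximalIdeal hmax).symm

theorem ord_Tg (z : A1 S)
    (hT : Tg S z ∈ IsLocalRing.maximalIdeal ((A1 S).presheaf.stalk z))
    (hz : pr S z = genericPoint S) :
    Ring.ord ((A1 S).presheaf.stalk z) (Tg S z) = 1 := by
  unfold Ring.ord
  rw [← maximalIdeal_eq_span_Tg S z hT hz, Module.length_eq_one_iff, isSimpleModule_iff_isCoatom,
    ← Ideal.isMaximal_def]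
  infer_instance

theorem krullDimLE_one_stalk [IsLocallyNoetherian S] (z : A1 S)
    (hT : Tg S z ∈ IsLocalRing.maximalIdeal ((A1 S).presheaf.stalk z))
    (hz : pr S z = genericPoint S) :
    Ring.KrullDimLE 1 ((A1 S).presheaf.stalk z) := by
  haveI : IsLocallyNoetherian (A1 S) := LocallyOfFiniteType.isLocallyNoetherian (pr S)
  have hp : (IsLocalRing.maximalIdeal ((A1 S).presheaf.stalk z)).IsPrincipal :=
    ⟨⟨Tg S z, maximalIdeal_eq_span_Tg S z hT hz⟩⟩
  haveI : IsPrincipalIdealRing ((A1 S).presheaf.stalk z) :=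
    ((tfae_of_isNoetherianRing_of_isLocalRing_of_isDomain ((A1 S).presheaf.stalk z)).out 4 0).mp hp
  infer_instance

section Variants

variable {X Y : Scheme.{u}} [IsIntegral X]

/-- variant of `DL6.ordAt_specMap` without dimension functions -/
theorem ordAt_specMap' [IsLocallyNoetherian X] (x η : X)
    (h : η ⤳ x) (hη : η = genericPoint X) (hK : Ring.KrullDimLE 1 (X.presheaf.stalk x))
    (a : X.presheaf.stalk x) (ha : a ≠ 0) :
    Cyc.ordAt x η h (Cyc.specMap x η h a) = ((Ring.ord (X.presheaf.stalk x) a).toNat : ℤ) := by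
  haveI hpτ : (RingHom.ker (Cyc.specMap x η h)).IsPrime := RingHom.ker_isPrime _
  haveI : IsDomain (Cyc.LocQuot x η h) := Ideal.Quotient.isDomain _
  have hbij := mk_bijective_of_generic x η h hη
  haveI : Ring.KrullDimLE 1 (Cyc.LocQuot x η h) := by
    rw [Ring.krullDimLE_iff] at hK ⊢
    rw [← ringKrullDim_eq_of_ringEquiv (RingEquiv.ofBijective _ hbij)]
    exact hK
  haveI : IsFractionRing (Cyc.LocQuot x η h) (X.residueField η) :=
    isFractionRing_locQuot_of_generic x η h hη
  have ha' : Ideal.Quotient.mk (RingHom.ker (Cyc.specMap x η h)) a ≠ 0 := by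
    intro h0
    exact ha (hbij.1 (h0.trans (map_zero _).symm))
  unfold Cyc.ordAt
  rw [← algebraMap_locQuot_mk x η h a, Groth.Agent.Lib.Helper26.OrdZ.ordFrac_algebraMap ha',
    ord_eq_of_bijective _ hbij a]

theorem krullDimLE_one_locQuot' [IsLocallyNoetherian X] (x η : X)
    (h : η ⤳ x) (hη : η = genericPoint X) (hK : Ring.KrullDimLE 1 (X.presheaf.stalk x)) :
    Ring.KrullDimLE 1 (Cyc.LocQuot x η h) := by
  have hbij := mk_bijective_of_generic x η h hη
  rw [Ring.krullDimLE_iff] at hK ⊢
  rw [← ringKrullDim_eq_of_ringEquiv (RingEquiv.ofBijective _ hbij)]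
  exact hK

end Variants

end Groth.Agent.Lib.Helper18.CL7c
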