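import Mathlib
import Groth.Agent.Lib.Helper18.DL8

/-!
# The norm formula over a finite affine neighbourhood
-/

set_option autoImplicit false
set_option linter.unusedSectionVars false
set_option linter.style.haveILetI false
universe u
open AlgebraicGeometry CategoryTheory TopologicalSpace

namespace Groth.Agent.Lib.Helper18.CL7d

open Groth.Agent.Lib.Helper18.DL8 Groth.Agent.Lib.Helper18.DivPull Groth.Agent.Lib.Helper18.DL5 Groth.Agent.Lib.Helper18.DL6
  Groth.Agent.Lib.Helper18.DL7 Groth.Agent.Lib.Helper18.FF3 Groth.Agent.Lib.Helper18.FF2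

variable {X Y : Scheme.{u}} [IsIntegral X] [IsIntegral Y] (p : X ⟶ Y) {V : Y.Opens}
  (hV : IsAffineOpen V) (hU : IsAffineOpen (p ⁻¹ᵁ V))

/-- **The norm formula**: the order at `y` of the norm of a nonzero section is the sum of the
local terms over the primes above `y`. -/
theorem norm_formula' [IsLocallyNoetherian Y] (hfin : (p.appLE V (p ⁻¹ᵁ V) le_rfl).hom.Finite) (η : X)
    (hη : η = genericPoint X) (hηU : η ∈ p ⁻¹ᵁ V) (hξ : p η = genericPoint Y) (y : Y)
    (hy : y ∈ V) (h : p η ⤳ y) (hK : Ring.KrullDimLE 1 (Cyc.LocQuot y (p η) h)) (b : Γ(X, p ⁻¹ᵁ V)) (hb : b ≠ 0) :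
    letI := (p.appLE V (p ⁻¹ᵁ V) le_rfl).hom.toAlgebra
    Cyc.ordAt y (p η) h (Cyc.normGen p η (ev (p ⁻¹ᵁ V) η hηU b)) =
      ∑ᶠ P ∈ {P : PrimeSpectrum Γ(X, p ⁻¹ᵁ V) |
        P.asIdeal.under Γ(Y, V) = (hV.primeIdealOf ⟨y, hy⟩).asIdeal},
        ((tau p hU b P).toNat : ℤ) := by
  haveI : Nonempty V := ⟨⟨y, hy⟩⟩
  haveI : Nonempty (p ⁻¹ᵁ V) := ⟨⟨η, hηU⟩⟩
  letI algRD := (p.appLE V (p ⁻¹ᵁ V) le_rfl).hom.toAlgebra
  haveI : Module.Finite Γ(Y, V) Γ(X, p ⁻¹ᵁ V) := hfin
  letI algRA := algLocQuot y hy (p η) h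
  haveI hlocA := isLocalization_locQuot hV y hy (p η) h hξ
  haveI hpσ : (RingHom.ker (Cyc.specMap y (p η) h)).IsPrime := RingHom.ker_isPrime _
  haveI : IsDomain (Cyc.LocQuot y (p η) h) := Ideal.Quotient.isDomain _
  haveI : Ring.KrullDimLE 1 (Cyc.LocQuot y (p η) h) := hK
  haveI : IsFractionRing (Cyc.LocQuot y (p η) h) (Y.residueField (p η)) :=
    isFractionRing_locQuot_of_generic y (p η) h hξ
  letI algRK : Algebra Γ(Y, V) (Y.residueField (p η)) :=
    ((algebraMap (Cyc.LocQuot y (p η) h) (Y.residueField (p η))).comp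
      (algebraMap Γ(Y, V) (Cyc.LocQuot y (p η) h))).toAlgebra
  haveI : IsScalarTower Γ(Y, V) (Cyc.LocQuot y (p η) h) (Y.residueField (p η)) :=
    IsScalarTower.of_algebraMap_eq fun r => rfl
  letI algDL : Algebra Γ(X, p ⁻¹ᵁ V) (X.residueField η) := (ev (p ⁻¹ᵁ V) η hηU).toAlgebra
  haveI : IsFractionRing Γ(X, p ⁻¹ᵁ V) (X.residueField η) := isFractionRing_ev hU η hη hηU
  letI algKL : Algebra (Y.residueField (p η)) (X.residueField η) :=
    (p.residueFieldMap η).hom.toAlgebra
  letI algRL : Algebra Γ(Y, V) (X.residueField η) :=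
    ((algebraMap Γ(X, p ⁻¹ᵁ V) (X.residueField η)).comp
      (algebraMap Γ(Y, V) Γ(X, p ⁻¹ᵁ V))).toAlgebra
  haveI : IsScalarTower Γ(Y, V) Γ(X, p ⁻¹ᵁ V) (X.residueField η) :=
    IsScalarTower.of_algebraMap_eq fun r => rfl
  have htower : ∀ r : Γ(Y, V), algebraMap Γ(Y, V) (X.residueField η) r =
      algebraMap (Y.residueField (p η)) (X.residueField η)
        (algebraMap Γ(Y, V) (Y.residueField (p η)) r) := by
    intro r
    change ev (p ⁻¹ᵁ V) η hηU (p.appLE V (p ⁻¹ᵁ V) le_rfl r) =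
      (p.residueFieldMap η).hom (Cyc.specMap y (p η) h (Y.presheaf.germ V y hy r))
    rw [ev_appLE, ← ev_eq_specMap V y (p η) h hy r]
  haveI : IsScalarTower Γ(Y, V) (Y.residueField (p η)) (X.residueField η) :=
    IsScalarTower.of_algebraMap_eq htower
  haveI : FaithfulSMul Γ(Y, V) Γ(X, p ⁻¹ᵁ V) := by
    rw [faithfulSMul_iff_algebraMap_injective]
    have hinj : Function.Injective (algebraMap Γ(Y, V) (X.residueField η)) := by
      have e : algebraMap Γ(Y, V) (X.residueField η) =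
          (algebraMap (Y.residueField (p η)) (X.residueField η)).comp
            (algebraMap Γ(Y, V) (Y.residueField (p η))) := RingHom.ext htower
      rw [e, RingHom.coe_comp]
      refine (RingHom.injective (algebraMap (Y.residueField (p η)) (X.residueField η))).comp ?_
      have e2 : algebraMap Γ(Y, V) (Y.residueField (p η)) =
          (algebraMap (Cyc.LocQuot y (p η) h) (Y.residueField (p η))).comp
            (algebraMap Γ(Y, V) (Cyc.LocQuot y (p η) h)) := rfl
      rw [e2, RingHom.coe_comp]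
      refine (algebraMap_locQuot_injective y (p η) h).comp ?_
      have e3 : algebraMap Γ(Y, V) (Cyc.LocQuot y (p η) h) =
          (Ideal.Quotient.mk (RingHom.ker (Cyc.specMap y (p η) h))).comp
            (Y.presheaf.germ V y hy).hom := rfl
      rw [e3, RingHom.coe_comp]
      exact (mk_bijective_of_generic y (p η) h hξ).1.comp (germ_injective_of_isIntegral Y y hy)
    exact Function.Injective.of_comp (f := algebraMap Γ(X, p ⁻¹ᵁ V) (X.residueField η)) hinj
  have key := ordFrac_norm_eq_finsum (hV.primeIdealOf ⟨y, hy⟩).asIdeal (Cyc.LocQuot y (p η) h)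
    (K := Y.residueField (p η)) (L := X.residueField η) b hb (tau p hU b)
    (isLocalTerm p hV hU y hy (p η) h hξ b)
  exact key

end Groth.Agent.Lib.Helper18.CL7d
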