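import Mathlib
import Groth.Prelude.Def_Cyc
import Groth.Agent.Lib.Helper18.CL7c
import Groth.Agent.Lib.Helper18.CL7d
import Groth.Agent.Lib.Helper18.FibreFin

/-!
# The fibre of the closure of a rational point over the generic point of the zero section
-/

set_option autoImplicit false
set_option linter.unusedSectionVars false
set_option linter.style.haveILetI false
universe u
open AlgebraicGeometry CategoryTheory TopologicalSpace AlgebraicGeometry.AffineSpace

namespace Groth.Agent.Lib.Helper18.CL7e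

open Groth.Agent.Lib.Helper18.CL1 Groth.Agent.Lib.Helper18.CL2 Groth.Agent.Lib.Helper18.CL3
  Groth.Agent.Lib.Helper18.CL4 Groth.Agent.Lib.Helper18.CL5 Groth.Agent.Lib.Helper18.DivPull
  Groth.Agent.Lib.Helper18.CL6 Groth.Agent.Lib.Helper18.CL6b Groth.Agent.Lib.Helper18.CL7b
  Groth.Agent.Lib.Helper18.CL7c

section Fin

variable {X' X : Scheme.{u}} (φ : X' ⟶ X)

/-- a fibre without nontrivial specializations of a quasi-compact morphism from a locally
Noetherian scheme is finite -/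
theorem finite_preimage_of_no_spec [QuasiCompact φ] [IsLocallyNoetherian X'] (y : X)
    (h : ∀ u z, φ u = y → φ z = y → z ⤳ u → z = u) : (φ ⁻¹' {y} : Set X').Finite := by
  obtain ⟨W, hW, hyW, -⟩ := exists_isAffineOpen_mem_and_subset (x := y) (U := ⊤) trivial
  have hc : IsCompact (φ ⁻¹ᵁ W : Set X') := φ.isSpectralMap.2 W.isOpen hW.isCompact
  obtain ⟨s, hs, hsU⟩ := (isCompact_iff_finite_and_eq_biUnion_affineOpens (U := φ ⁻¹ᵁ W)).mp hc
  have hle : ∀ U' ∈ s, (U' : X'.Opens) ≤ φ ⁻¹ᵁ W := by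
    intro U' hU'
    rw [hsU]
    exact le_iSup₂ (f := fun (i : X'.affineOpens) (_ : i ∈ s) => (i : X'.Opens)) U' hU'
  have hfin : (⋃ U' ∈ s, {ξ' : X' | ξ' ∈ (U' : X'.Opens) ∧ φ ξ' = y ∧
      ∀ z, φ z = φ ξ' → z ⤳ ξ' → z = ξ'}).Finite := by
    refine hs.biUnion fun U' hU' => ?_
    exact Groth.Agent.Lib.Helper18.FibreFin.finite_fibre_generic φ U'.2 hW (hle U' hU') y
  refine hfin.subset ?_
  intro x hx
  have hx' : φ x = y := hx
  have hxW : x ∈ φ ⁻¹ᵁ W := by
    change φ x ∈ W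
    rw [hx']
    exact hyW
  rw [hsU] at hxW
  simp only [Opens.mem_iSup] at hxW
  obtain ⟨U', hU's, hxU'⟩ := hxW
  refine Set.mem_biUnion hU's ⟨hxU', hx', ?_⟩
  intro z hz hzx
  exact h x z hx' (hz.trans hx') hzx

end Fin

section Fibre

theorem Tg_mem_of_eq {S : Scheme.{u}} {z z' : A1 S} (e : z = z')
    (h : Tg S z' ∈ IsLocalRing.maximalIdeal ((A1 S).presheaf.stalk z')) :
    Tg S z ∈ IsLocalRing.maximalIdeal ((A1 S).presheaf.stalk z) := by
  subst e
  exact h

variable {X Y : Scheme.{u}} (p : X ⟶ Y)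

/-- the coordinate vanishes at the points over a point of the zero section -/
theorem Tg_mem_of_map_eq (z : A1 X) (y : Y) (hz : map PUnit.{u+1} p z = zeroSec Y y) :
    Tg X z ∈ IsLocalRing.maximalIdeal ((A1 X).presheaf.stalk z) := by
  have h1 : Tg Y (map PUnit.{u+1} p z) ∈
      IsLocalRing.maximalIdeal ((A1 Y).presheaf.stalk (map PUnit.{u+1} p z)) :=
    Tg_mem_of_eq hz (Tg_zeroSec_mem Y y)
  rw [IsLocalRing.mem_maximalIdeal, mem_nonunits_iff] at h1 ⊢
  intro hu
  apply h1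
  rw [← stalkMap_map_Tg p z] at hu
  exact (isUnit_map_iff ((map PUnit.{u+1} p).stalkMap z).hom _).mp hu

theorem map_pr_of_map_eq (z : A1 X) (y : Y) (hz : map PUnit.{u+1} p z = zeroSec Y y) :
    p (pr X z) = y := by
  rw [← pr_map, hz, pr_zeroSec]

end Fibre

end Groth.Agent.Lib.Helper18.CL7e
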