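import Mathlib
import Groth.Prelude.Def_Cyc
import Groth.Agent.Lib.Helper18.CL7e
import Groth.Agent.Lib.Helper18.C1Indep1

/-!
# The norm formula for the closure of a rational point of the generic fibre of the affine line
-/

set_option autoImplicit false
set_option linter.unusedSectionVars false
set_option linter.style.haveILetI false
universe u
open AlgebraicGeometry CategoryTheory TopologicalSpace AlgebraicGeometry.AffineSpace

namespace Groth.Agent.Lib.Helper18.CL7f

open Groth.Agent.Lib.Helper18.CL1 Groth.Agent.Lib.Helper18.CL2 Groth.Agent.Lib.Helper18.CL3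
  Groth.Agent.Lib.Helper18.CL4 Groth.Agent.Lib.Helper18.CL5 Groth.Agent.Lib.Helper18.DivPull
  Groth.Agent.Lib.Helper18.CL6 Groth.Agent.Lib.Helper18.CL6b Groth.Agent.Lib.Helper18.CL7b
  Groth.Agent.Lib.Helper18.CL7c Groth.Agent.Lib.Helper18.CL7d Groth.Agent.Lib.Helper18.CL7e
  Groth.Agent.Lib.Helper18.DL5 Groth.Agent.Lib.Helper18.DL6
  Groth.Agent.Lib.Helper18.DL7 Groth.Agent.Lib.Helper18.DL8 Groth.Agent.Lib.Helper18.DL9
  Groth.Agent.Lib.Helper18.FF3 Groth.Agent.Lib.Helper18.FF2

variable {X Y : Scheme.{u}} [IsIntegral X] [IsIntegral Y] [IsLocallyNoetherian X]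
  [IsLocallyNoetherian Y] (p : X ⟶ Y) [IsProper p] {W : Scheme.{u}} [IsIntegral W]
  (ι : W ⟶ A1 X) [IsClosedImmersion ι]

theorem isProper_map : IsProper (map PUnit.{u+1} p) :=
  MorphismProperty.of_isPullback (isPullback_map (n := PUnit.{u+1}) p).flip inferInstance

theorem finite_fibre (hne : tz X (ι (genericPoint W)) ≠ 0)
    (hsurj : tz X (ι (genericPoint W)) ∈
      Set.range ((pr X).residueFieldMap (ι (genericPoint W))).hom)
    (hfib : ∀ x x', p x = genericPoint Y → p x' = genericPoint Y → x ≠ genericPoint X →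
      x ⤳ x' → x = x') :
    ((ι ≫ map PUnit.{u+1} p) ⁻¹' {zeroSec Y (genericPoint Y)} : Set W).Finite := by
  haveI : IsLocallyNoetherian (A1 X) := LocallyOfFiniteType.isLocallyNoetherian (pr X)
  haveI : IsLocallyNoetherian W := LocallyOfFiniteType.isLocallyNoetherian ι
  haveI : IsProper (map PUnit.{u+1} p) := isProper_map p
  apply finite_preimage_of_no_spec
  intro u z hu hz hzu
  have hu' : map PUnit.{u+1} p (ι u) = zeroSec Y (genericPoint Y) := hu
  have hz' : map PUnit.{u+1} p (ι z) = zeroSec Y (genericPoint Y) := hz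
  have hTu := Tg_mem_of_map_eq p (ι u) _ hu'
  have hTz := Tg_mem_of_map_eq p (ι z) _ hz'
  have hxu := map_pr_of_map_eq p (ι u) _ hu'
  have hxz := map_pr_of_map_eq p (ι z) _ hz'
  have hzu' : pr X (ι z) ⤳ pr X (ι u) := (hzu.map ι.continuous).map (pr X).continuous
  have hzne : pr X (ι z) ≠ genericPoint X := by
    intro hgen
    have hsp : ι (genericPoint W) ⤳ ι z := (genericPoint_specializes z).map ι.continuous
    exact hne (tz_eq_zero_of_specializes X (ι z) (ι (genericPoint W)) hsp hTz hgen hsurj)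
  have e := hfib _ _ hxz hxu hzne hzu'
  have e2 : ι z = ι u := by
    calc ι z = zeroSec X (pr X (ι z)) := eq_zeroSec_of_Tg_mem X (ι z) hTz
      _ = zeroSec X (pr X (ι u)) := by rw [e]
      _ = ι u := (eq_zeroSec_of_Tg_mem X (ι u) hTu).symm
  exact ι.isClosedEmbedding.injective e2


theorem normGen_residueFieldMap {A B : Scheme.{u}} (φ : A ⟶ B) (a : A) (c : B.residueField (φ a)) :
    Cyc.normGen φ a ((φ.residueFieldMap a).hom c) = c ^ φ.residueDegree a := by
  unfold Cyc.normGen Scheme.Hom.residueDegree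
  letI := (φ.residueFieldMap a).hom.toAlgebra
  exact Algebra.norm_algebraMap c

theorem tz_map (z : A1 X) :
    ((map PUnit.{u+1} p).residueFieldMap z).hom (tz Y (map PUnit.{u+1} p z)) = tz X z := by
  unfold tz
  have h := congrArg (fun k => k.hom (Tg Y (map PUnit.{u+1} p z)))
    (Scheme.residue_residueFieldMap (map PUnit.{u+1} p) z)
  simp only [CommRingCat.hom_comp, RingHom.coe_comp, Function.comp_apply] at h
  rw [h, stalkMap_map_Tg]

/-- the value at a point of `W` of the coordinate -/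
theorem ev_b (φ : W ⟶ A1 Y) (V : (A1 Y).Opens) (w : W) (hw : w ∈ φ ⁻¹ᵁ V) :
    ev (φ ⁻¹ᵁ V) w hw (W.presheaf.map (homOfLE (le_top : φ ⁻¹ᵁ V ≤ ⊤)).op (φ.appTop (T Y))) =
      (φ.residueFieldMap w).hom (tz Y (φ w)) := by
  unfold ev tz Tg
  simp only [RingHom.coe_comp, Function.comp_apply]
  have h1 : W.presheaf.germ (φ ⁻¹ᵁ V) w hw
      (W.presheaf.map (homOfLE (le_top : φ ⁻¹ᵁ V ≤ ⊤)).op (φ.appTop (T Y))) =
      W.presheaf.germ ⊤ w trivial (φ.appTop (T Y)) :=
    W.presheaf.germ_res_apply (homOfLE le_top) w hw _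
  have h2 : W.presheaf.germ ⊤ w trivial (φ.appTop (T Y)) =
      (φ.stalkMap w).hom ((A1 Y).presheaf.germ ⊤ (φ w) trivial (T Y)) :=
    (Scheme.Hom.germ_stalkMap_apply φ ⊤ w trivial (T Y)).symm
  have h3 := congrArg (fun k => k.hom ((A1 Y).presheaf.germ ⊤ (φ w) trivial (T Y)))
    (Scheme.residue_residueFieldMap φ w)
  simp only [CommRingCat.hom_comp, RingHom.coe_comp, Function.comp_apply] at h3
  rw [h1, h2]
  exact h3.symm

end Groth.Agent.Lib.Helper18.CL7f
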