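import Mathlib
import Groth.Prelude.Def_Cyc
import Groth.Agent.Lib.Helper18.CL7f

/-!
# The norm formula for the closure of a rational point of the generic fibre of the affine line:
the sum of the local terms
-/

set_option autoImplicit false
set_option linter.unusedSectionVars false
set_option linter.style.haveILetI false
universe u
open AlgebraicGeometry CategoryTheory TopologicalSpace AlgebraicGeometry.AffineSpace

namespace Groth.Agent.Lib.Helper18.CL7g

open Groth.Agent.Lib.Helper18.CL1 Groth.Agent.Lib.Helper18.CL2 Groth.Agent.Lib.Helper18.CL3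
  Groth.Agent.Lib.Helper18.CL4 Groth.Agent.Lib.Helper18.CL5 Groth.Agent.Lib.Helper18.DivPull
  Groth.Agent.Lib.Helper18.CL6 Groth.Agent.Lib.Helper18.CL6b Groth.Agent.Lib.Helper18.CL7b
  Groth.Agent.Lib.Helper18.CL7c Groth.Agent.Lib.Helper18.CL7d Groth.Agent.Lib.Helper18.CL7e
  Groth.Agent.Lib.Helper18.CL7f
  Groth.Agent.Lib.Helper18.DL5 Groth.Agent.Lib.Helper18.DL6
  Groth.Agent.Lib.Helper18.DL7 Groth.Agent.Lib.Helper18.DL8 Groth.Agent.Lib.Helper18.DL9
  Groth.Agent.Lib.Helper18.FF3 Groth.Agent.Lib.Helper18.FF2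

variable {X Y : Scheme.{u}} [IsIntegral X] [IsIntegral Y] [IsLocallyNoetherian X]
  [IsLocallyNoetherian Y] (p : X ⟶ Y) [IsProper p] {W : Scheme.{u}} [IsIntegral W]
  (ι : W ⟶ A1 X) [IsClosedImmersion ι]

theorem sum_G_eq (hgen : (ι ≫ map PUnit.{u+1} p) (genericPoint W) = genericPoint (A1 Y))
    (hne : tz X (ι (genericPoint W)) ≠ 0)
    (hsurj : tz X (ι (genericPoint W)) ∈
      Set.range ((pr X).residueFieldMap (ι (genericPoint W))).hom)
    (hfib : ∀ x x', p x = genericPoint Y → p x' = genericPoint Y → x ≠ genericPoint X →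
      x ⤳ x' → x = x') :
    ∑ᶠ u ∈ ((ι ≫ map PUnit.{u+1} p) ⁻¹' {zeroSec Y (genericPoint Y)} : Set W),
      (G (ι ≫ map PUnit.{u+1} p) u : ℤ) =
    ((ι ≫ map PUnit.{u+1} p).residueDegree (genericPoint W) : ℤ) := by
  haveI : IsLocallyNoetherian (A1 X) := LocallyOfFiniteType.isLocallyNoetherian (pr X)
  haveI : IsLocallyNoetherian (A1 Y) := LocallyOfFiniteType.isLocallyNoetherian (pr Y)
  haveI : IsLocallyNoetherian W := LocallyOfFiniteType.isLocallyNoetherian ι
  haveI : IsProper (map PUnit.{u+1} p) := isProper_map p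
  have hfinF := finite_fibre p ι hne hsurj hfib
  have htne : tz Y ((ι ≫ map PUnit.{u+1} p) (genericPoint W)) ≠ 0 := by
    intro h0
    apply hne
    rw [← tz_map p (ι (genericPoint W))]
    have : tz Y (map PUnit.{u+1} p (ι (genericPoint W))) = 0 := h0
    rw [this, map_zero]
  generalize hφ : ι ≫ map PUnit.{u+1} p = φ at *
  haveI : IsProper φ := by
    rw [← hφ]
    infer_instance
  generalize hy₀ : zeroSec Y (genericPoint Y) = y₀ at *
  have hT₀ : Tg Y y₀ ∈ IsLocalRing.maximalIdeal ((A1 Y).presheaf.stalk y₀) := by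
    rw [← hy₀]
    exact Tg_zeroSec_mem Y _
  have hpr₀ : pr Y y₀ = genericPoint Y := by
    rw [← hy₀]
    exact pr_zeroSec Y _
  have hK := krullDimLE_one_stalk Y y₀ hT₀ hpr₀
  have hspec : φ (genericPoint W) ⤳ y₀ := by
    rw [hgen]
    exact genericPoint_specializes _
  have hKQ := krullDimLE_one_locQuot' y₀ (φ (genericPoint W)) hspec hgen hK
  obtain ⟨V₀, hyV₀, hV₀fin⟩ :=
    exists_isFinite_morphismRestrict_of_finite_preimage_singleton φ y₀ hfinF
  obtain ⟨V, hV, hyV, hVV₀⟩ := exists_isAffineOpen_mem_and_subset (x := y₀) (U := V₀) hyV₀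
  have hVfin := isFinite_morphismRestrict_of_le φ hVV₀ hV₀fin
  obtain ⟨hU, hφfin⟩ := affine_and_finite_of_isFinite φ hV hVfin
  have hηU : genericPoint W ∈ φ ⁻¹ᵁ V := hspec.mem_open V.2 hyV
  have hevb := ev_b φ V (genericPoint W) hηU
  generalize hb : W.presheaf.map (homOfLE (le_top : φ ⁻¹ᵁ V ≤ ⊤)).op (φ.appTop (T Y)) = b at *
  have hb0 : b ≠ 0 := by
    intro h0
    rw [h0, map_zero] at hevb
    exact htne ((map_eq_zero_iff _ (RingHom.injective _)).mp hevb.symm)
  have e₁ := norm_formula' φ hV hU hφfin (genericPoint W) rfl hηU hgen y₀ hyV hspec hKQ b hb0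
  rw [hevb, normGen_residueFieldMap] at e₁
  -- the left hand side
  have hsT : Cyc.specMap y₀ (φ (genericPoint W)) hspec (Tg Y y₀) = tz Y (φ (genericPoint W)) :=
    specMap_Tg y₀ (φ (genericPoint W)) hspec
  have hTne : Tg Y y₀ ≠ 0 := by
    intro h0
    rw [h0, map_zero] at hsT
    exact htne hsT.symm
  have hord1 : Cyc.ordAt y₀ (φ (genericPoint W)) hspec (tz Y (φ (genericPoint W))) = 1 := by
    rw [← hsT, ordAt_specMap' y₀ _ hspec hgen hK (Tg Y y₀) hTne, ord_Tg Y y₀ hT₀ hpr₀]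
    rfl
  have hL : Cyc.ordAt y₀ (φ (genericPoint W)) hspec
      (tz Y (φ (genericPoint W)) ^ φ.residueDegree (genericPoint W)) =
      (φ.residueDegree (genericPoint W) : ℤ) := by
    haveI hpτ : (RingHom.ker (Cyc.specMap y₀ (φ (genericPoint W)) hspec)).IsPrime :=
      RingHom.ker_isPrime _
    haveI : IsDomain (Cyc.LocQuot y₀ (φ (genericPoint W)) hspec) := Ideal.Quotient.isDomain _
    haveI : Ring.KrullDimLE 1 (Cyc.LocQuot y₀ (φ (genericPoint W)) hspec) := hKQ
    haveI : IsFractionRing (Cyc.LocQuot y₀ (φ (genericPoint W)) hspec)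
        ((A1 Y).residueField (φ (genericPoint W))) :=
      isFractionRing_locQuot_of_generic y₀ (φ (genericPoint W)) hspec hgen
    have h1 := Groth.Agent.Lib.Helper18.C1Indep.ordFrac_zpow
      (A := Cyc.LocQuot y₀ (φ (genericPoint W)) hspec) htne (φ.residueDegree (genericPoint W) : ℤ)
    rw [zpow_natCast] at h1
    unfold Cyc.ordAt at hord1 ⊢
    rw [h1, hord1, mul_one]
  rw [hL] at e₁
  rw [finsum_fibre_eq φ hV hU y₀ hyV, e₁]
  apply finsum_mem_congr rfl
  intro P hP
  have hgermP : W.presheaf.germ (φ ⁻¹ᵁ V) (hU.fromSpec P) (fromSpec_mem hU P) b =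
      W.presheaf.germ ⊤ (hU.fromSpec P) trivial (φ.appTop (T Y)) := by
    rw [← hb]
    exact W.presheaf.germ_res_apply (homOfLE le_top) (hU.fromSpec P) (fromSpec_mem hU P) _
  unfold tau G
  rw [hgermP]

end Groth.Agent.Lib.Helper18.CL7g
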