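import Mathlib
import Groth.Prelude.Def_Cyc
import Groth.Agent.Lib.Helper18.CL7g

/-!
# The local terms at the points which are not on the closure of the rational point
-/

set_option autoImplicit false
set_option linter.unusedSectionVars false
set_option linter.style.haveILetI false
universe u
open AlgebraicGeometry CategoryTheory TopologicalSpace AlgebraicGeometry.AffineSpace

namespace Groth.Agent.Lib.Helper18.CL8a

open Groth.Agent.Lib.Helper18.CL1 Groth.Agent.Lib.Helper18.CL2 Groth.Agent.Lib.Helper18.CL3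
  Groth.Agent.Lib.Helper18.CL4 Groth.Agent.Lib.Helper18.CL5 Groth.Agent.Lib.Helper18.DivPull
  Groth.Agent.Lib.Helper18.CL6 Groth.Agent.Lib.Helper18.CL6b Groth.Agent.Lib.Helper18.CL7b
  Groth.Agent.Lib.Helper18.CL7c

/-- the length of the quotient by `A ∩ f·A[f]` for `A` the local ring at `x` of the closure of
`η` -/
noncomputable def Hp {X : Scheme.{u}} (x η : X) (h : η ⤳ x) (f : X.residueField η) : ℕ :=
  (Module.length (Cyc.LocQuot x η h)
    (Cyc.LocQuot x η h ⧸ Jplus (A := Cyc.LocQuot x η h) f)).toNat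

theorem Hp_congr {X : Scheme.{u}} (x η η' : X) (e : η = η') (h : η ⤳ x)
    (f : X.residueField η) :
    Hp x η h f = Hp x η' (e ▸ h) ((X.residueFieldCongr e).hom f) := by
  subst e
  have : (X.residueFieldCongr (rfl : η = η)).hom f = f := by
    rw [Scheme.residueFieldCongr_refl]
    rfl
  rw [this]

theorem Hp_eq_zero_of_top {X : Scheme.{u}} (x η : X) (h : η ⤳ x) (f : X.residueField η)
    (ht : Jplus (A := Cyc.LocQuot x η h) f = ⊤) : Hp x η h f = 0 := by
  unfold Hp
  rw [ht]
  haveI : Subsingleton (Cyc.LocQuot x η h ⧸ (⊤ : Ideal (Cyc.LocQuot x η h))) :=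
    Ideal.Quotient.subsingleton_iff.mpr rfl
  rw [Module.length_eq_zero]
  rfl

variable (X : Scheme.{u})

/-- the value at `z` of a polynomial section in terms of the value of the coordinate -/
theorem residue_germ_evW (x : X) (z : A1 X) (h' : pr X z ⤳ x) (X₁ : X.Opens) (hx : x ∈ X₁)
    (f : X.residueField (pr X z)) (hrfm : ((pr X).residueFieldMap z).hom f = tz X z)
    (G : MvPolynomial PUnit.{u+1} Γ(X, X₁)) :
    ((A1 X).residue z).hom ((A1 X).presheaf.germ ((pr X) ⁻¹ᵁ X₁) z (h'.mem_open X₁.2 hx)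
      (evW PUnit.{u+1} X X₁ G)) =
    ((pr X).residueFieldMap z).hom (Polynomial.aeval f
      ((MvPolynomial.uniqueAlgEquiv _ PUnit.{u+1} G).map
        ((Ideal.Quotient.mk (RingHom.ker (Cyc.specMap x (pr X z) h'))).comp
          (X.presheaf.germ X₁ x hx).hom))) := by
  have hz : pr X z ∈ X₁ := h'.mem_open X₁.2 hx
  have hcomp : (((A1 X).residue z).hom.comp
      ((A1 X).presheaf.germ ((pr X) ⁻¹ᵁ X₁) z hz).hom).comp (evW PUnit.{u+1} X X₁) =
      ((((pr X).residueFieldMap z).hom.comp
        (Polynomial.aeval (R := Cyc.LocQuot x (pr X z) h') f).toRingHom).comp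
        (Polynomial.mapRingHom
          ((Ideal.Quotient.mk (RingHom.ker (Cyc.specMap x (pr X z) h'))).comp
            (X.presheaf.germ X₁ x hx).hom))).comp
        (MvPolynomial.uniqueAlgEquiv Γ(X, X₁) PUnit.{u+1}).toRingEquiv.toRingHom := by
    apply MvPolynomial.ringHom_ext
    · intro r
      simp only [RingHom.coe_comp, Function.comp_apply, evW, MvPolynomial.coe_eval₂Hom,
        MvPolynomial.eval₂_C]
      have e1 : (MvPolynomial.uniqueAlgEquiv Γ(X, X₁) PUnit.{u+1}).toRingEquiv.toRingHom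
          (MvPolynomial.C r) = Polynomial.C r := by simp
      rw [e1]
      simp only [Polynomial.coe_mapRingHom, Polynomial.map_C, AlgHom.toRingHom_eq_coe,
        RingHom.coe_coe, Polynomial.aeval_C, RingHom.coe_comp, Function.comp_apply]
      rw [algebraMap_locQuot_mk]
      have e2 : Cyc.specMap x (pr X z) h' (X.presheaf.germ X₁ x hx r) =
          (X.residue (pr X z)).hom (X.presheaf.germ X₁ (pr X z) hz r) := by
        unfold Cyc.specMap
        simp only [CommRingCat.hom_comp, RingHom.coe_comp, Function.comp_apply]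
        congr 1
        exact TopCat.Presheaf.germ_stalkSpecializes_apply X.presheaf (U := X₁) hx h' r
      rw [e2, ← cz_eq]
      unfold cz
      simp only [RingHom.coe_comp, Function.comp_apply]
      congr 1
      exact (Scheme.Hom.germ_stalkMap_apply (pr X) X₁ z hz r).symm
    · intro i
      simp only [RingHom.coe_comp, Function.comp_apply, evW, MvPolynomial.coe_eval₂Hom,
        MvPolynomial.eval₂_X]
      have e1 : (MvPolynomial.uniqueAlgEquiv Γ(X, X₁) PUnit.{u+1}).toRingEquiv.toRingHom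
          (MvPolynomial.X i) = Polynomial.X := by simp
      rw [e1]
      simp only [Polynomial.coe_mapRingHom, Polynomial.map_X, AlgHom.toRingHom_eq_coe,
        RingHom.coe_coe, Polynomial.aeval_X]
      rw [hrfm]
      unfold tz Tg coordOn T
      congr 1
      exact (A1 X).presheaf.germ_res_apply (homOfLE le_top) z hz (coord X i)
  exact congrArg (fun k => k G) hcomp


/-- at a point of the zero section which is not on the closure of `z` the ideal `A ∩ f·A[f]`
is the unit ideal -/
theorem Jplus_eq_top (x : X) (z : A1 X) (h' : pr X z ⤳ x) (hns : ¬ z ⤳ zeroSec X x)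
    (f : X.residueField (pr X z)) (hrfm : ((pr X).residueFieldMap z).hom f = tz X z) :
    Jplus (A := Cyc.LocQuot x (pr X z) h') f = ⊤ := by
  obtain ⟨O, hσO, hzO⟩ : ∃ O : (A1 X).Opens, zeroSec X x ∈ O ∧ z ∉ O := by
    rw [specializes_iff_forall_open] at hns
    push_neg at hns
    obtain ⟨O, hO, hy, hz⟩ := hns
    exact ⟨⟨O, hO⟩, hy, hz⟩
  obtain ⟨_, ⟨X₁, hX₁ : IsAffineOpen X₁, rfl⟩, hxX₁, -⟩ :=
    X.isBasis_affineOpens.exists_subset_of_mem_open (Set.mem_univ x) isOpen_univ
  have hV : IsAffineOpen ((pr X) ⁻¹ᵁ X₁) := hX₁.preimage _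
  have hσX₁ : pr X (zeroSec X x) ∈ X₁ := by
    rw [pr_zeroSec]
    exact hxX₁
  have hσV : zeroSec X x ∈ (pr X) ⁻¹ᵁ X₁ := hσX₁
  have hηX₁ : pr X z ∈ X₁ := h'.mem_open X₁.2 hxX₁
  have hzV : z ∈ (pr X) ⁻¹ᵁ X₁ := hηX₁
  obtain ⟨s, hsO, hσs⟩ := hV.exists_basicOpen_le (V := O) ⟨zeroSec X x, hσO⟩ hσV
  obtain ⟨G, rfl⟩ := evW_surjective PUnit.{u+1} X hX₁ s
  have hzs : z ∉ (A1 X).basicOpen (evW PUnit.{u+1} X X₁ G) := fun hc => hzO (hsO hc)
  -- the constant coefficient is a unit at `x`
  have hunit : IsUnit (X.presheaf.germ X₁ x hxX₁ (MvPolynomial.constantCoeff G)) := by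
    have h1 := (Scheme.mem_basicOpen (A1 X) _ (zeroSec X x) hσV).mp hσs
    have h2 := (isUnit_germ_evW_iff X (zeroSec X x) (Tg_zeroSec_mem X x) X₁ hσX₁ G).mp h1
    have h3 : x ∈ X.basicOpen (MvPolynomial.constantCoeff G) := by
      rw [pr_zeroSec] at h2
      exact h2
    exact (Scheme.mem_basicOpen X _ x hxX₁).mp h3
  -- vanishing at `z`
  have hvan : ((A1 X).residue z).hom ((A1 X).presheaf.germ ((pr X) ⁻¹ᵁ X₁) z hzV
      (evW PUnit.{u+1} X X₁ G)) = 0 := by
    by_contra hne
    apply hzs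
    rw [Scheme.mem_basicOpen _ _ z hzV]
    exact (IsLocalRing.residue_ne_zero_iff_isUnit _).mp hne
  rw [residue_germ_evW X x z h' X₁ hxX₁ f hrfm G] at hvan
  have hq0 := (map_eq_zero_iff _ (RingHom.injective _)).mp hvan
  set q := (MvPolynomial.uniqueAlgEquiv _ PUnit.{u+1} G).map
      ((Ideal.Quotient.mk (RingHom.ker (Cyc.specMap x (pr X z) h'))).comp
        (X.presheaf.germ X₁ x hxX₁).hom) with hq
  have hc0 : IsUnit (q.coeff 0) := by
    rw [hq, Polynomial.coeff_map, coeff_zero_uniqueAlgEquiv, RingHom.comp_apply]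
    exact hunit.map (Ideal.Quotient.mk (RingHom.ker (Cyc.specMap x (pr X z) h')))
  obtain ⟨w, hw⟩ := hc0
  have e3 : Polynomial.aeval f q =
      f * Polynomial.aeval f q.divX +
        algebraMap (Cyc.LocQuot x (pr X z) h') (X.residueField (pr X z)) (q.coeff 0) := by
    conv_lhs => rw [← Polynomial.X_mul_divX_add q]
    rw [map_add, map_mul, Polynomial.aeval_X, Polynomial.aeval_C]
  rw [Ideal.eq_top_iff_one, mem_Jplus]
  refine ⟨-(Polynomial.C (↑w⁻¹ : Cyc.LocQuot x (pr X z) h') * q.divX), ?_⟩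
  have e4 : (1 : Cyc.LocQuot x (pr X z) h') = q.coeff 0 * ↑w⁻¹ := by
    rw [← hw, Units.mul_inv]
  rw [e4, map_mul, map_neg, map_mul, Polynomial.aeval_C]
  have e5 : algebraMap (Cyc.LocQuot x (pr X z) h') (X.residueField (pr X z)) (q.coeff 0) =
      -(f * Polynomial.aeval f q.divX) := by
    have := hq0.symm.trans e3
    linear_combination -this
  rw [e5]
  ring

end Groth.Agent.Lib.Helper18.CL8a
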