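import Mathlib
import Groth.Prelude.Def_Cyc
import Groth.Agent.Lib.Helper18.CL8a

/-!
# The sum over the generic fibre of the lengths `ℓ(A/(A ∩ f·A[f]))`
-/

set_option autoImplicit false
set_option linter.unusedSectionVars false
set_option linter.style.haveILetI false
universe u
open AlgebraicGeometry CategoryTheory TopologicalSpace AlgebraicGeometry.AffineSpace

namespace Groth.Agent.Lib.Helper18.CL8b

open Groth.Agent.Lib.Helper18.CL1 Groth.Agent.Lib.Helper18.CL2 Groth.Agent.Lib.Helper18.CL3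
  Groth.Agent.Lib.Helper18.CL4 Groth.Agent.Lib.Helper18.CL5 Groth.Agent.Lib.Helper18.DivPull
  Groth.Agent.Lib.Helper18.CL6 Groth.Agent.Lib.Helper18.CL6b Groth.Agent.Lib.Helper18.CL7b
  Groth.Agent.Lib.Helper18.CL7c Groth.Agent.Lib.Helper18.CL7e Groth.Agent.Lib.Helper18.CL7f
  Groth.Agent.Lib.Helper18.CL7g Groth.Agent.Lib.Helper18.CL8a

variable {X Y : Scheme.{u}} [IsIntegral X] [IsIntegral Y] [IsLocallyNoetherian X]
  [IsLocallyNoetherian Y] (p : X ⟶ Y) [IsProper p] {W : Scheme.{u}} [IsIntegral W]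
  (ι : W ⟶ A1 X) [IsClosedImmersion ι]

theorem range_eq_closure : Set.range ι = closure {ι (genericPoint W)} := by
  have h1 := ι.isClosedEmbedding.closure_image_eq ({genericPoint W} : Set W)
  rw [Set.image_singleton] at h1
  rw [h1, (genericPoint_spec W).def, Set.image_univ]

/-- the local term at a point of the fibre -/
theorem G_eq_Hp (hs : ∀ x, pr X (ι (genericPoint W)) ⤳ x)
    (f : X.residueField (pr X (ι (genericPoint W))))
    (hrfm : ((pr X).residueFieldMap (ι (genericPoint W))).hom f = tz X (ι (genericPoint W)))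
    (u : W) (hu : (ι ≫ map PUnit.{u+1} p) u = zeroSec Y (genericPoint Y)) :
    (G (ι ≫ map PUnit.{u+1} p) u : ℤ) =
      (Hp (pr X (ι u)) (pr X (ι (genericPoint W))) (hs _) f : ℤ) *
        (p.residueDegree (pr X (ι u)) : ℤ) := by
  have hu' : map PUnit.{u+1} p (ι u) = zeroSec Y (genericPoint Y) := hu
  have hTu := Tg_mem_of_map_eq p (ι u) _ hu'
  have hsp : ι (genericPoint W) ⤳ ι u := (genericPoint_specializes u).map ι.continuous
  rw [G_eq p ι u hTu hsp (hs _) f hrfm]
  push_cast
  rfl

theorem sum_Hp_eq (hgen : (ι ≫ map PUnit.{u+1} p) (genericPoint W) = genericPoint (A1 Y))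
    (hs : ∀ x, pr X (ι (genericPoint W)) ⤳ x)
    (f : X.residueField (pr X (ι (genericPoint W)))) (hf : f ≠ 0)
    (hrfm : ((pr X).residueFieldMap (ι (genericPoint W))).hom f = tz X (ι (genericPoint W)))
    (hfib : ∀ x x', p x = genericPoint Y → p x' = genericPoint Y → x ≠ genericPoint X →
      x ⤳ x' → x = x') :
    ∑ᶠ x ∈ (p ⁻¹' {genericPoint Y} : Set X),
      ((Hp x (pr X (ι (genericPoint W))) (hs x) f : ℤ) * (p.residueDegree x : ℤ)) =
    ((ι ≫ map PUnit.{u+1} p).residueDegree (genericPoint W) : ℤ) ∧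
    ((p ⁻¹' {genericPoint Y} : Set X) ∩ Function.support (fun x =>
      ((Hp x (pr X (ι (genericPoint W))) (hs x) f : ℤ) * (p.residueDegree x : ℤ)))).Finite := by
  have hne : tz X (ι (genericPoint W)) ≠ 0 := by
    rw [← hrfm]
    exact (map_ne_zero _).mpr hf
  have hsurj : tz X (ι (genericPoint W)) ∈
      Set.range ((pr X).residueFieldMap (ι (genericPoint W))).hom := ⟨f, hrfm⟩
  have S := sum_G_eq p ι hgen hne hsurj hfib
  have hfinF := finite_fibre p ι hne hsurj hfib
  set F : X → ℤ := fun x =>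
    ((Hp x (pr X (ι (genericPoint W))) (hs x) f : ℤ) * (p.residueDegree x : ℤ)) with hF
  set e : W → X := fun u => pr X (ι u) with he
  have hinj : Set.InjOn e ((ι ≫ map PUnit.{u+1} p) ⁻¹' {zeroSec Y (genericPoint Y)}) := by
    intro u hu v hv huv
    have hu' : map PUnit.{u+1} p (ι u) = zeroSec Y (genericPoint Y) := hu
    have hv' : map PUnit.{u+1} p (ι v) = zeroSec Y (genericPoint Y) := hv
    have hTu := Tg_mem_of_map_eq p (ι u) _ hu'
    have hTv := Tg_mem_of_map_eq p (ι v) _ hv'
    have huv' : pr X (ι u) = pr X (ι v) := huv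
    have e2 : ι u = ι v := by
      calc ι u = zeroSec X (pr X (ι u)) := eq_zeroSec_of_Tg_mem X (ι u) hTu
        _ = zeroSec X (pr X (ι v)) := by rw [huv']
        _ = ι v := (eq_zeroSec_of_Tg_mem X (ι v) hTv).symm
    exact ι.isClosedEmbedding.injective e2
  have hsupp : ∀ x ∈ Function.support F, x ∈ (p ⁻¹' {genericPoint Y} : Set X) ↔
      x ∈ e '' ((ι ≫ map PUnit.{u+1} p) ⁻¹' {zeroSec Y (genericPoint Y)}) := by
    intro x hx
    constructor
    · intro hpx
      have hpx' : p x = genericPoint Y := hpx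
      by_contra hnot
      apply hx
      have hns : ¬ ι (genericPoint W) ⤳ zeroSec X x := by
        intro hsp
        rw [specializes_iff_mem_closure, ← range_eq_closure ι] at hsp
        obtain ⟨u, hu⟩ := hsp
        apply hnot
        refine ⟨u, ?_, ?_⟩
        · change map PUnit.{u+1} p (ι u) = zeroSec Y (genericPoint Y)
          rw [hu, ← hpx']
          exact congrArg (fun k => k x) (zeroSec_map p)
        · change pr X (ι u) = x
          rw [hu, pr_zeroSec]
      have htop := Jplus_eq_top X x (ι (genericPoint W)) (hs x) hns f hrfm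
      change (Hp x (pr X (ι (genericPoint W))) (hs x) f : ℤ) * (p.residueDegree x : ℤ) = 0
      rw [Hp_eq_zero_of_top x _ (hs x) f htop]
      simp
    · rintro ⟨u, hu, rfl⟩
      have hu' : map PUnit.{u+1} p (ι u) = zeroSec Y (genericPoint Y) := hu
      exact map_pr_of_map_eq p (ι u) _ hu'
  constructor
  · rw [finsum_mem_inter_support_eq' F _ _ hsupp, finsum_mem_image hinj, ← S]
    apply finsum_mem_congr rfl
    intro u hu
    exact (G_eq_Hp p ι hs f hrfm u hu).symm
  · refine (hfinF.image e).subset ?_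
    rintro x ⟨hx1, hx2⟩
    exact (hsupp x hx2).mp hx1

end Groth.Agent.Lib.Helper18.CL8b
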