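import Mathlib
import Groth.Prelude.Def_Cyc
import Groth.Agent.Lib.Helper18.CL8b
import Groth.Agent.Lib.Helper18.ClImm

/-!
# The degree of the closure of a rational point over the affine line of the base
-/

set_option autoImplicit false
set_option linter.unusedSectionVars false
set_option linter.style.haveILetI false
universe u
open AlgebraicGeometry CategoryTheory TopologicalSpace AlgebraicGeometry.AffineSpace

namespace Groth.Agent.Lib.Helper18.CL8c

open Groth.Agent.Lib.Helper18.CL1 Groth.Agent.Lib.Helper18.CL2 Groth.Agent.Lib.Helper18.CL3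
  Groth.Agent.Lib.Helper18.CL4 Groth.Agent.Lib.Helper18.CL5 Groth.Agent.Lib.Helper18.DivPull
  Groth.Agent.Lib.Helper18.CL6 Groth.Agent.Lib.Helper18.CL6b Groth.Agent.Lib.Helper18.CL7b
  Groth.Agent.Lib.Helper18.CL7c Groth.Agent.Lib.Helper18.CL7e Groth.Agent.Lib.Helper18.CL7f
  Groth.Agent.Lib.Helper18.CL7g Groth.Agent.Lib.Helper18.CL8a

theorem finrank_eq_fieldRange {K₀ L₀ L : Type u} [Field K₀] [Field L₀] [Field L]
    (g : K₀ →+* L₀) (j : L₀ ≃+* L) :
    (letI := g.toAlgebra; Module.finrank K₀ L₀) =
      Module.finrank ((j.toRingHom.comp g).fieldRange) L := by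
  letI := g.toAlgebra
  refine Algebra.finrank_eq_of_equiv_equiv ((j.toRingHom.comp g).rangeRestrictFieldEquiv) j ?_
  ext a
  rfl

variable {X Y : Scheme.{u}} (p : X ⟶ Y)

/-- the square of residue fields of the affine lines -/
theorem rfm_square (z : A1 X) (a : Y.residueField (pr Y (map PUnit.{u+1} p z))) :
    ((map PUnit.{u+1} p).residueFieldMap z).hom
      (((pr Y).residueFieldMap (map PUnit.{u+1} p z)).hom a) =
    ((pr X).residueFieldMap z).hom ((p.residueFieldMap (pr X z)).hom
      ((Y.residueFieldCongr (pr_map p z)).hom.hom a)) := by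
  have h1 := Scheme.residueFieldMap_comp (map PUnit.{u+1} p) (pr Y) z
  have h2 := Scheme.residueFieldMap_comp (pr X) p z
  have h3 := Scheme.Hom.residueFieldMap_congr (map_over (n := PUnit.{u+1}) p) z
  rw [h1, h2] at h3
  have h4 := congrArg (fun k => k.hom a) h3
  simp only [CommRingCat.hom_comp, RingHom.coe_comp, Function.comp_apply] at h4
  exact h4


theorem tz_map' (z : A1 X) :
    ((map PUnit.{u+1} p).residueFieldMap z).hom (tz Y (map PUnit.{u+1} p z)) = tz X z := by
  unfold tz
  have h := congrArg (fun k => k.hom (Tg Y (map PUnit.{u+1} p z)))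
    (Scheme.residue_residueFieldMap (map PUnit.{u+1} p) z)
  simp only [CommRingCat.hom_comp, RingHom.coe_comp, Function.comp_apply] at h
  rw [h, stalkMap_map_Tg]

variable {W : Scheme.{u}} [IsIntegral W] (ι : W ⟶ A1 X) [IsClosedImmersion ι]

/-- the degree of `W` over the affine line of the base -/
theorem residueDegree_eq (f : X.residueField (pr X (ι (genericPoint W))))
    (hrfm : ((pr X).residueFieldMap (ι (genericPoint W))).hom f = tz X (ι (genericPoint W)))
    (hbij : Function.Bijective ((pr X).residueFieldMap (ι (genericPoint W))).hom) :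
    (ι ≫ map PUnit.{u+1} p).residueDegree (genericPoint W) =
      Module.finrank
        (Subfield.closure
          (Set.range (p.residueFieldMap (pr X (ι (genericPoint W)))).hom ∪ {f}))
        (X.residueField (pr X (ι (genericPoint W)))) := by
  let jι : (A1 X).residueField (ι (genericPoint W)) ≃+* W.residueField (genericPoint W) :=
    RingEquiv.ofBijective (ι.residueFieldMap (genericPoint W)).hom
      (Groth.Agent.Lib.Helper18.ClImm.residueFieldMap_bijective ι _)
  let jX : X.residueField (pr X (ι (genericPoint W))) ≃+*
      (A1 X).residueField (ι (genericPoint W)) :=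
    RingEquiv.ofBijective ((pr X).residueFieldMap (ι (genericPoint W))).hom hbij
  let j : W.residueField (genericPoint W) ≃+* X.residueField (pr X (ι (genericPoint W))) :=
    jι.symm.trans jX.symm
  have hcomp : ∀ c : (A1 Y).residueField (map PUnit.{u+1} p (ι (genericPoint W))),
      j (((ι ≫ map PUnit.{u+1} p).residueFieldMap (genericPoint W)).hom c) =
        jX.symm (((map PUnit.{u+1} p).residueFieldMap (ι (genericPoint W))).hom c) := by
    intro c
    have h1 := Scheme.residueFieldMap_comp ι (map PUnit.{u+1} p) (genericPoint W)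
    have h2 := congrArg (fun k => k.hom c) h1
    simp only [CommRingCat.hom_comp, RingHom.coe_comp, Function.comp_apply] at h2
    rw [h2]
    change jX.symm (jι.symm (jι _)) = _
    rw [RingEquiv.symm_apply_apply]
    rfl
  unfold Scheme.Hom.residueDegree
  rw [finrank_eq_fieldRange ((ι ≫ map PUnit.{u+1} p).residueFieldMap (genericPoint W)).hom j]
  have hE : (j.toRingHom.comp
      ((ι ≫ map PUnit.{u+1} p).residueFieldMap (genericPoint W)).hom).fieldRange =
      Subfield.closure
        (Set.range (p.residueFieldMap (pr X (ι (genericPoint W)))).hom ∪ {f}) := by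
    rw [RingHom.fieldRange_eq_map]
    have htop : (⊤ : Subfield ((A1 Y).residueField
        ((ι ≫ map PUnit.{u+1} p) (genericPoint W)))) =
        Subfield.closure (Set.range
          ((pr Y).residueFieldMap ((ι ≫ map PUnit.{u+1} p) (genericPoint W))).hom ∪
            {tz Y ((ι ≫ map PUnit.{u+1} p) (genericPoint W))}) :=
      (closure_eq_top Y (map PUnit.{u+1} p (ι (genericPoint W)))).symm
    rw [htop, RingHom.map_field_closure]
    congr 1
    rw [Set.image_union, Set.image_singleton, ← Set.range_comp]
    congr 1
    · ext k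
      constructor
      · rintro ⟨a, rfl⟩
        refine ⟨(Y.residueFieldCongr (pr_map p (ι (genericPoint W)))).hom.hom a, ?_⟩
        symm
        change j (((ι ≫ map PUnit.{u+1} p).residueFieldMap (genericPoint W)).hom _) = _
        rw [hcomp]
        exact (congrArg jX.symm (rfm_square p (ι (genericPoint W)) a)).trans
          (jX.symm_apply_apply _)
      · rintro ⟨b, rfl⟩
        obtain ⟨a, rfl⟩ := (ConcreteCategory.bijective_of_isIso
          (Y.residueFieldCongr (pr_map p (ι (genericPoint W)))).hom).2 b
        refine ⟨a, ?_⟩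
        change j (((ι ≫ map PUnit.{u+1} p).residueFieldMap (genericPoint W)).hom _) = _
        rw [hcomp]
        exact (congrArg jX.symm (rfm_square p (ι (genericPoint W)) a)).trans
          (jX.symm_apply_apply _)
    · congr 1
      change j (((ι ≫ map PUnit.{u+1} p).residueFieldMap (genericPoint W)).hom _) = _
      rw [hcomp]
      refine (congrArg jX.symm (tz_map' p (ι (genericPoint W)))).trans ?_
      rw [← hrfm]
      exact jX.symm_apply_apply f
  rw [hE]

end Groth.Agent.Lib.Helper18.CL8c
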