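import Mathlib
import Groth.Prelude.Def_Cyc
import Groth.Agent.Lib.Helper18.CL8c
import Groth.Agent.Lib.Helper18.CL7a
import Groth.Agent.Lib.Helper21.EquiGU1

/-!
# The curve lemma for transcendental functions: the sum of the lengths `ℓ(A/(A ∩ f·A[f]))`
over the generic fibre is the degree `[κ(η_X) : κ(η_Y)(f)]`
-/

set_option autoImplicit false
set_option linter.unusedSectionVars false
set_option linter.style.haveILetI false
universe u
open AlgebraicGeometry CategoryTheory TopologicalSpace AlgebraicGeometry.AffineSpace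

namespace Groth.Agent.Lib.Helper18.CL8d

open Groth.Agent.Lib.Helper18.CL1 Groth.Agent.Lib.Helper18.CL2 Groth.Agent.Lib.Helper18.CL3
  Groth.Agent.Lib.Helper18.CL4 Groth.Agent.Lib.Helper18.CL5 Groth.Agent.Lib.Helper18.DivPull
  Groth.Agent.Lib.Helper18.CL6 Groth.Agent.Lib.Helper18.CL6b Groth.Agent.Lib.Helper18.CL7b
  Groth.Agent.Lib.Helper18.CL7c Groth.Agent.Lib.Helper18.CL7e Groth.Agent.Lib.Helper18.CL7f
  Groth.Agent.Lib.Helper18.CL7g Groth.Agent.Lib.Helper18.CL8a Groth.Agent.Lib.Helper18.CL8b
  Groth.Agent.Lib.Helper18.CL8c Groth.Agent.Lib.Helper18.CL7a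

theorem range_eq_closure' {W Z : Scheme.{u}} [IsIntegral W] (ι : W ⟶ Z) [IsClosedImmersion ι] :
    Set.range ι = closure {ι (genericPoint W)} := by
  have h1 := ι.isClosedEmbedding.closure_image_eq ({genericPoint W} : Set W)
  rw [Set.image_singleton] at h1
  rw [h1, (genericPoint_spec W).def, Set.image_univ]

/-- the closure of a point as an integral closed subscheme -/
theorem exists_integral_closure {Z : Scheme.{u}} (ξ : Z) :
    ∃ (W : Scheme.{u}) (_ : IsIntegral W) (ι : W ⟶ Z) (_ : IsClosedImmersion ι),
      ι (genericPoint W) = ξ := by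
  let Wc : TopologicalSpace.Closeds Z := ⟨closure {ξ}, isClosed_closure⟩
  have hirr : IsIrreducible (Wc : Set Z) := isIrreducible_singleton.closure
  haveI := Groth.Agent.Lib.Helper21.EquiGU.isIntegral_subscheme_vanishingIdeal Wc hirr
  refine ⟨(Scheme.IdealSheafData.vanishingIdeal Wc).subscheme, inferInstance,
    (Scheme.IdealSheafData.vanishingIdeal Wc).subschemeι, inferInstance, ?_⟩
  have hr := Groth.Agent.Lib.Helper21.CondT.range_subschemeι_vanishingIdeal Wc
  have h1 := range_eq_closure' (Scheme.IdealSheafData.vanishingIdeal Wc).subschemeι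
  have h2 : closure {(Scheme.IdealSheafData.vanishingIdeal Wc).subschemeι
      (genericPoint ↥(Scheme.IdealSheafData.vanishingIdeal Wc).subscheme)} = closure {ξ} := by
    rw [← h1]
    exact hr
  have g1 : IsGenericPoint ((Scheme.IdealSheafData.vanishingIdeal Wc).subschemeι
      (genericPoint ↥(Scheme.IdealSheafData.vanishingIdeal Wc).subscheme)) (closure {ξ}) := h2
  have g2 : IsGenericPoint ξ (closure {ξ}) := rfl
  exact g1.eq g2


section Main

variable {X Y : Scheme.{u}} [IsIntegral Y] (p : X ⟶ Y)

/-- the statement of the curve lemma for a function on the closure of `η` -/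
def Q (η : X) (f : X.residueField η) : Prop :=
  ∀ hs : (∀ x, η ⤳ x),
    ∑ᶠ x ∈ (p ⁻¹' {genericPoint Y} : Set X),
      ((Hp x η (hs x) f : ℤ) * (p.residueDegree x : ℤ)) =
      (Module.finrank (Subfield.closure (Set.range (p.residueFieldMap η).hom ∪ {f}))
        (X.residueField η) : ℤ) ∧
    ((p ⁻¹' {genericPoint Y} : Set X) ∩ Function.support (fun x =>
      ((Hp x η (hs x) f : ℤ) * (p.residueDegree x : ℤ)))).Finite

theorem congr_refl_apply (η : X) (f : X.residueField η) :
    (X.residueFieldCongr (rfl : η = η)).hom f = f := by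
  rw [Scheme.residueFieldCongr_refl]
  rfl

theorem Q_congr (η η' : X) (e : η = η') (f : X.residueField η) (h : Q p η f) :
    Q p η' ((X.residueFieldCongr e).hom f) := by
  subst e
  rw [congr_refl_apply]
  exact h

theorem htr_congr (x x' : X) (e : x = x') (f'' : X.residueField x)
    (h : ∀ g : Polynomial (Y.residueField (p x')), g ≠ 0 →
      Polynomial.eval₂ (p.residueFieldMap x').hom ((X.residueFieldCongr e).hom f'') g ≠ 0) :
    ∀ g : Polynomial (Y.residueField (p x)), g ≠ 0 →
      Polynomial.eval₂ (p.residueFieldMap x).hom f'' g ≠ 0 := by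
  subst e
  rw [congr_refl_apply] at h
  exact h

/-- the properties of the rational point `ξ` -/
def R (η : X) (f : X.residueField η) (z : A1 X) : Prop :=
  ∃ (e : pr X z = η) (f'' : X.residueField (pr X z)),
    ((pr X).residueFieldMap z).hom f'' = tz X z ∧
    (X.residueFieldCongr e).hom f'' = f ∧
    Function.Bijective ((pr X).residueFieldMap z).hom

theorem R_xi (η : X) (f : X.residueField η) : R η f (xi X η f) := by
  have hinv : (X.residueFieldCongr (pr_xi X η f)).hom.hom
      ((X.residueFieldCongr (pr_xi X η f)).inv.hom f) = f := by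
    have := congrArg (fun k => k.hom f) (X.residueFieldCongr (pr_xi X η f)).inv_hom_id
    exact this
  refine ⟨pr_xi X η f, (X.residueFieldCongr (pr_xi X η f)).inv.hom f, ?_, hinv,
    residueFieldMap_pr_xi_bijective X η f⟩
  apply (theta X η f).injective
  rw [theta_comp, hinv]
  exact (theta_Tg X η f).symm

end Main

section Final

variable {X Y : Scheme.{u}} [IsIntegral X] [IsIntegral Y] [IsLocallyNoetherian X]
  [IsLocallyNoetherian Y] (p : X ⟶ Y) [IsProper p]

/-- **The curve lemma for transcendental functions.** -/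
theorem curve_lemma_transcendental (hdom : p (genericPoint X) = genericPoint Y)
    (hfib : ∀ x x', p x = genericPoint Y → p x' = genericPoint Y → x ≠ genericPoint X →
      x ⤳ x' → x = x')
    (f : X.residueField (genericPoint X)) (hf : f ≠ 0)
    (htr : ∀ g : Polynomial (Y.residueField (p (genericPoint X))), g ≠ 0 →
      Polynomial.eval₂ (p.residueFieldMap (genericPoint X)).hom f g ≠ 0) :
    Q p (genericPoint X) f := by
  obtain ⟨W, hW, ι, hι, hιξ⟩ := exists_integral_closure (xi X (genericPoint X) f)
  have hR : R (genericPoint X) f (ι (genericPoint W)) := hιξ ▸ R_xi (genericPoint X) f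
  obtain ⟨e, f'', hrfm, hcongr, hbij⟩ := hR
  rw [← hcongr]
  apply Q_congr p _ _ e f''
  have hf'' : f'' ≠ 0 := by
    rintro rfl
    rw [map_zero] at hcongr
    exact hf hcongr.symm
  have htr'' := htr_congr p _ _ e f'' (by rw [hcongr]; exact htr)
  have hgen : (ι ≫ map PUnit.{u+1} p) (genericPoint W) = genericPoint (A1 Y) := by
    apply eq_genericPoint_of_transcendental Y
    · change pr Y (map PUnit.{u+1} p (ι (genericPoint W))) = genericPoint Y
      rw [pr_map, e, hdom]
    · intro g hg h0
      have h0' : Polynomial.eval₂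
          ((pr Y).residueFieldMap (map PUnit.{u+1} p (ι (genericPoint W)))).hom
          (tz Y (map PUnit.{u+1} p (ι (genericPoint W)))) g = 0 := h0
      have h1 := congrArg ((map PUnit.{u+1} p).residueFieldMap (ι (genericPoint W))).hom h0'
      rw [Polynomial.hom_eval₂, map_zero] at h1
      have hc : ((map PUnit.{u+1} p).residueFieldMap (ι (genericPoint W))).hom.comp
          ((pr Y).residueFieldMap (map PUnit.{u+1} p (ι (genericPoint W)))).hom =
          ((pr X).residueFieldMap (ι (genericPoint W))).hom.comp
            ((p.residueFieldMap (pr X (ι (genericPoint W)))).hom.comp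
              (Y.residueFieldCongr (pr_map p (ι (genericPoint W)))).hom.hom) :=
        RingHom.ext (fun a => rfm_square p (ι (genericPoint W)) a)
      rw [hc, tz_map' p (ι (genericPoint W)), ← hrfm, ← Polynomial.hom_eval₂,
        ← Polynomial.eval₂_map] at h1
      have h2 := (map_eq_zero_iff _ (RingHom.injective _)).mp h1
      refine htr'' _ ?_ h2
      rw [Ne, Polynomial.map_eq_zero_iff (RingHom.injective _)]
      exact hg
  intro hs'
  obtain ⟨S1, S2⟩ := sum_Hp_eq p ι hgen hs' f'' hf'' hrfm hfib
  refine ⟨?_, S2⟩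
  rw [S1, residueDegree_eq p ι f'' hrfm hbij]

end Final

end Groth.Agent.Lib.Helper18.CL8d
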