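import Mathlib
import Groth.Prelude.Def_Cyc
import Groth.Agent.Lib.Helper18.CL8d

/-!
# The curve lemma: the degree of a principal divisor on the generic fibre is zero
-/

set_option autoImplicit false
set_option linter.unusedSectionVars false
set_option linter.style.haveILetI false
universe u
open AlgebraicGeometry CategoryTheory TopologicalSpace AlgebraicGeometry.AffineSpace

namespace Groth.Agent.Lib.Helper18.CL9a

open Groth.Agent.Lib.Helper18.CL1 Groth.Agent.Lib.Helper18.DivPull
  Groth.Agent.Lib.Helper18.CL7c Groth.Agent.Lib.Helper18.CL8a Groth.Agent.Lib.Helper18.CL8d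

section Local

variable {X : Scheme.{u}} [IsIntegral X] [IsLocallyNoetherian X]

/-- the local lemma at a point -/
theorem ordAt_eq_Hp_sub (x η : X) (h : η ⤳ x) (hη : η = genericPoint X)
    (hK : Ring.KrullDimLE 1 (Cyc.LocQuot x η h)) (f : X.residueField η) (hf : f ≠ 0) :
    Cyc.ordAt x η h f = (Hp x η h f : ℤ) - (Hp x η h f⁻¹ : ℤ) := by
  haveI hpτ : (RingHom.ker (Cyc.specMap x η h)).IsPrime := RingHom.ker_isPrime _
  haveI : IsDomain (Cyc.LocQuot x η h) := Ideal.Quotient.isDomain _
  haveI : Ring.KrullDimLE 1 (Cyc.LocQuot x η h) := hK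
  haveI : IsFractionRing (Cyc.LocQuot x η h) (X.residueField η) :=
    isFractionRing_locQuot_of_generic x η h hη
  unfold Cyc.ordAt Hp
  exact ordFrac_eq_length_sub f hf

/-- at the generic point itself the lengths vanish -/
theorem Hp_self (η : X) (h : η ⤳ η) (f : X.residueField η) (hf : f ≠ 0) : Hp η η h f = 0 := by
  apply Hp_eq_zero_of_top
  rw [Ideal.eq_top_iff_one, mem_Jplus]
  obtain ⟨a, ha⟩ := specMap_surjective_of_eq η η h rfl f⁻¹
  refine ⟨Polynomial.C (Ideal.Quotient.mk _ a), ?_⟩
  rw [Polynomial.aeval_C, algebraMap_locQuot_mk, ha, map_one, mul_inv_cancel₀ hf]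

end Local

section Field

variable {K L : Type u} [Field K] [Field L] (c : K →+* L)

theorem closure_inv_eq (f : L) :
    Subfield.closure (Set.range c ∪ {f⁻¹}) = Subfield.closure (Set.range c ∪ {f}) := by
  apply le_antisymm
  · rw [Subfield.closure_le]
    rintro k (hk | hk)
    · exact Subfield.subset_closure (Or.inl hk)
    · rw [Set.mem_singleton_iff] at hk
      rw [hk]
      exact inv_mem (Subfield.subset_closure (Or.inr rfl))
  · rw [Subfield.closure_le]
    rintro k (hk | hk)
    · exact Subfield.subset_closure (Or.inl hk)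
    · rw [Set.mem_singleton_iff] at hk
      rw [hk]
      have : f⁻¹ ∈ Subfield.closure (Set.range c ∪ {f⁻¹}) :=
        Subfield.subset_closure (Or.inr rfl)
      have h2 := inv_mem this
      rwa [inv_inv] at h2

end Field

end Groth.Agent.Lib.Helper18.CL9a
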