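import Mathlib
import Groth.Prelude.Def_Cyc
import Groth.Agent.Lib.Helper18.CL9a
import Groth.Agent.Lib.Helper26.FracLength

/-!
# The curve lemma: the degree of a principal divisor on the generic fibre is zero
-/

set_option autoImplicit false
set_option linter.unusedSectionVars false
set_option linter.style.haveILetI false
universe u
open AlgebraicGeometry CategoryTheory TopologicalSpace

namespace Groth.Agent.Lib.Helper18.CL9b

open Groth.Agent.Lib.Helper18.CL1 Groth.Agent.Lib.Helper18.DivPull
  Groth.Agent.Lib.Helper18.CL7c Groth.Agent.Lib.Helper18.CL8a Groth.Agent.Lib.Helper18.CL8d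
  Groth.Agent.Lib.Helper18.CL9a

theorem finsum_mem_sub_of_finite {α : Type*} (s : Set α) (F1 F2 : α → ℤ)
    (h1 : (s ∩ Function.support F1).Finite) (h2 : (s ∩ Function.support F2).Finite) :
    ∑ᶠ x ∈ s, (F1 x - F2 x) = ∑ᶠ x ∈ s, F1 x - ∑ᶠ x ∈ s, F2 x := by
  set t := (s ∩ Function.support F1) ∪ (s ∩ Function.support F2) with ht
  have htfin : t.Finite := h1.union h2
  have hts : ∀ x, x ∈ t → x ∈ s := by
    rintro x (h | h) <;> exact h.1
  have e1 : ∑ᶠ x ∈ s, F1 x = ∑ᶠ x ∈ t, F1 x :=
    finsum_mem_inter_support_eq' F1 s t (fun x hx => ⟨fun hs => Or.inl ⟨hs, hx⟩, hts x⟩)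
  have e2 : ∑ᶠ x ∈ s, F2 x = ∑ᶠ x ∈ t, F2 x :=
    finsum_mem_inter_support_eq' F2 s t (fun x hx => ⟨fun hs => Or.inr ⟨hs, hx⟩, hts x⟩)
  have e3 : ∑ᶠ x ∈ s, (F1 x - F2 x) = ∑ᶠ x ∈ t, (F1 x - F2 x) := by
    refine finsum_mem_inter_support_eq' _ s t (fun x hx => ⟨fun hs => ?_, hts x⟩)
    by_cases h : F1 x = 0
    · refine Or.inr ⟨hs, ?_⟩
      intro h2'
      apply hx
      change F1 x - F2 x = 0
      rw [h, h2', sub_zero]
    · exact Or.inl ⟨hs, h⟩
  rw [e1, e2, e3, finsum_mem_sub_distrib F1 F2 htfin]

variable {X Y : Scheme.{u}} [IsIntegral X] [IsIntegral Y] [IsLocallyNoetherian X]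
  [IsLocallyNoetherian Y] (p : X ⟶ Y) [IsProper p]

/-- the term of the degree of a principal divisor -/
noncomputable def term (f : X.residueField (genericPoint X)) (x : X) : ℤ :=
  Cyc.ordAt x (genericPoint X) (genericPoint_specializes x) f * (p.residueDegree x : ℤ)

theorem sum_ordAt_of_transcendental (hdom : p (genericPoint X) = genericPoint Y)
    (hfib : ∀ x x', p x = genericPoint Y → p x' = genericPoint Y → x ≠ genericPoint X →
      x ⤳ x' → x = x')
    (hK : ∀ x, p x = genericPoint Y → x ≠ genericPoint X →
      Ring.KrullDimLE 1 (Cyc.LocQuot x (genericPoint X) (genericPoint_specializes x)))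
    (f : X.residueField (genericPoint X)) (hf : f ≠ 0)
    (htr : letI := (p.residueFieldMap (genericPoint X)).hom.toAlgebra
      Transcendental (Y.residueField (p (genericPoint X))) f) :
    ∑ᶠ x ∈ {x : X | p x = genericPoint Y ∧ x ≠ genericPoint X}, term p f x = 0 ∧
    ({x : X | p x = genericPoint Y ∧ x ≠ genericPoint X} ∩
      Function.support (term p f)).Finite := by
  letI alg := (p.residueFieldMap (genericPoint X)).hom.toAlgebra
  have htr' : ∀ t : X.residueField (genericPoint X),
      Transcendental (Y.residueField (p (genericPoint X))) t →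
      ∀ g : Polynomial (Y.residueField (p (genericPoint X))), g ≠ 0 →
      Polynomial.eval₂ (p.residueFieldMap (genericPoint X)).hom t g ≠ 0 := by
    intro t ht g hg h0
    exact hg (transcendental_iff.mp ht g (by rw [Polynomial.aeval_def]; exact h0))
  have htrinv : Transcendental (Y.residueField (p (genericPoint X))) f⁻¹ :=
    fun h => htr (IsAlgebraic.inv_iff.mp h)
  have hfinv : f⁻¹ ≠ 0 := inv_ne_zero hf
  obtain ⟨S1, T1⟩ := curve_lemma_transcendental p hdom hfib f hf (htr' f htr)
    (fun x => genericPoint_specializes x)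
  obtain ⟨S2, T2⟩ := curve_lemma_transcendental p hdom hfib f⁻¹ hfinv (htr' f⁻¹ htrinv)
    (fun x => genericPoint_specializes x)
  rw [closure_inv_eq] at S2
  set s : Set X := p ⁻¹' {genericPoint Y} with hs
  set s' : Set X := {x : X | p x = genericPoint Y ∧ x ≠ genericPoint X} with hs'
  set F1 : X → ℤ := fun x => (Hp x (genericPoint X) (genericPoint_specializes x) f : ℤ) *
    (p.residueDegree x : ℤ) with hF1
  set F2 : X → ℤ := fun x => (Hp x (genericPoint X) (genericPoint_specializes x) f⁻¹ : ℤ) *
    (p.residueDegree x : ℤ) with hF2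
  have hsub := finsum_mem_sub_of_finite s F1 F2 T1 T2
  rw [S1, S2, sub_self] at hsub
  have hterm : ∀ x ∈ s', term p f x = F1 x - F2 x := by
    rintro x ⟨hx1, hx2⟩
    unfold term
    rw [ordAt_eq_Hp_sub x (genericPoint X) (genericPoint_specializes x) rfl (hK x hx1 hx2) f hf,
      sub_mul]
  have hgen0 : F1 (genericPoint X) - F2 (genericPoint X) = 0 := by
    simp only [hF1, hF2]
    rw [Hp_self (genericPoint X) _ f hf, Hp_self (genericPoint X) _ f⁻¹ hfinv]
    simp
  have hss' : ∑ᶠ x ∈ s', (F1 x - F2 x) = ∑ᶠ x ∈ s, (F1 x - F2 x) := by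
    refine finsum_mem_inter_support_eq' _ s' s (fun x hx => ⟨fun h => h.1, fun h => ⟨h, ?_⟩⟩)
    rintro rfl
    exact hx hgen0
  constructor
  · rw [finsum_mem_congr rfl hterm, hss', hsub]
  · refine (T1.union T2).subset ?_
    rintro x ⟨hx1, hx2⟩
    have hx2' : term p f x ≠ 0 := hx2
    rw [hterm x hx1] at hx2'
    by_cases h : F1 x = 0
    · refine Or.inr ⟨hx1.1, ?_⟩
      intro h2'
      apply hx2'
      rw [h, h2', sub_zero]
    · exact Or.inl ⟨hx1.1, h⟩


/-- **The curve lemma**: the degree over the generic point of the base of a principal divisor is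
zero, when the function field extension has a transcendental element. -/
theorem sum_ordAt_eq_zero (hdom : p (genericPoint X) = genericPoint Y)
    (hfib : ∀ x x', p x = genericPoint Y → p x' = genericPoint Y → x ≠ genericPoint X →
      x ⤳ x' → x = x')
    (hK : ∀ x, p x = genericPoint Y → x ≠ genericPoint X →
      Ring.KrullDimLE 1 (Cyc.LocQuot x (genericPoint X) (genericPoint_specializes x)))
    (htrans : letI := (p.residueFieldMap (genericPoint X)).hom.toAlgebra
      ∃ t : X.residueField (genericPoint X),
        Transcendental (Y.residueField (p (genericPoint X))) t)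
    (f : X.residueField (genericPoint X)) (hf : f ≠ 0) :
    ∑ᶠ x ∈ {x : X | p x = genericPoint Y ∧ x ≠ genericPoint X}, term p f x = 0 := by
  letI alg := (p.residueFieldMap (genericPoint X)).hom.toAlgebra
  by_cases htr : Transcendental (Y.residueField (p (genericPoint X))) f
  · exact (sum_ordAt_of_transcendental p hdom hfib hK f hf htr).1
  · have halg : IsAlgebraic (Y.residueField (p (genericPoint X))) f := not_not.mp htr
    obtain ⟨t, ht⟩ := htrans
    have ht0 : t ≠ 0 := by
      rintro rfl
      exact ht isAlgebraic_zero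
    have hft : Transcendental (Y.residueField (p (genericPoint X))) (f * t) := by
      intro h
      apply ht
      have e : t = f⁻¹ * (f * t) := by rw [← mul_assoc, inv_mul_cancel₀ hf, one_mul]
      rw [e]
      exact (halg.inv).mul h
    have hft0 : f * t ≠ 0 := mul_ne_zero hf ht0
    obtain ⟨A1, B1⟩ := sum_ordAt_of_transcendental p hdom hfib hK (f * t) hft0 hft
    obtain ⟨A2, B2⟩ := sum_ordAt_of_transcendental p hdom hfib hK t ht0 ht
    have hterm : ∀ x ∈ {x : X | p x = genericPoint Y ∧ x ≠ genericPoint X},
        term p f x = term p (f * t) x - term p t x := by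
      rintro x ⟨hx1, hx2⟩
      unfold term
      rw [← sub_mul]
      congr 1
      haveI hpτ : (RingHom.ker (Cyc.specMap x (genericPoint X)
          (genericPoint_specializes x))).IsPrime := RingHom.ker_isPrime _
      haveI : IsDomain (Cyc.LocQuot x (genericPoint X) (genericPoint_specializes x)) :=
        Ideal.Quotient.isDomain _
      haveI : Ring.KrullDimLE 1 (Cyc.LocQuot x (genericPoint X) (genericPoint_specializes x)) :=
        hK x hx1 hx2
      haveI : IsFractionRing (Cyc.LocQuot x (genericPoint X) (genericPoint_specializes x))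
          (X.residueField (genericPoint X)) :=
        isFractionRing_locQuot_of_generic x (genericPoint X) (genericPoint_specializes x) rfl
      have h1 := Groth.Agent.Lib.Helper26.FracLength.ordFrac_div
        (R := Cyc.LocQuot x (genericPoint X) (genericPoint_specializes x)) hft0 ht0
      rw [mul_div_assoc, div_self ht0, mul_one] at h1
      unfold Cyc.ordAt
      exact h1
    rw [finsum_mem_congr rfl hterm, finsum_mem_sub_of_finite _ _ _ B1 B2, A1, A2, sub_zero]

end Groth.Agent.Lib.Helper18.CL9b
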