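import Mathlib
import Groth.Prelude.Def_Cyc
import Groth.Agent.S16921
import Groth.Agent.Lib.Helper18.DL10
import Groth.Agent.Lib.Helper18.ClImmRat
import Groth.Agent.Lib.Helper18.CycMap
import Groth.Agent.Lib.Helper18.DivLocFin
import Groth.Agent.Lib.Helper18.RelCartier1
import Groth.Agent.Lib.Helper18.FF8

/-!
# Proper pushforward of a principal divisor on a closed integral subscheme
-/

set_option autoImplicit false
set_option linter.unusedSectionVars false
set_option linter.style.haveILetI false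
universe u
open AlgebraicGeometry CategoryTheory TopologicalSpace

namespace Groth.Agent.Lib.Helper18.CL10

open Groth.Agent.Lib.Helper18.CL8d

section Lift

/-- a morphism from a reduced scheme with image in a reduced closed subscheme factors through
it -/
theorem exists_lift_of_reduced {W W' Y : Scheme.{u}} [IsReduced W] [IsReduced W'] (j' : W' ⟶ Y)
    [IsClosedImmersion j'] (g : W ⟶ Y) (h : Set.range g ⊆ Set.range j') :
    ∃ q : W ⟶ W', q ≫ j' = g := by
  have hker : j'.ker ≤ g.ker := by
    rw [Groth.Agent.Lib.Helper16.ker_eq_vanishingIdeal_of_isReduced,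
      Groth.Agent.Lib.Helper16.ker_eq_vanishingIdeal_of_isReduced]
    apply Scheme.IdealSheafData.vanishingIdeal_antimono
    exact closure_mono h
  exact ⟨IsClosedImmersion.lift j' g hker, IsClosedImmersion.lift_fac _ _ _⟩

end Lift

section Congr

variable {X Y : Scheme.{u}}

theorem divFun_congr (δ : X → ℤ) (ξ ξ' : X) (e : ξ' = ξ) (f : X.residueField ξ') :
    Cyc.divFun δ ξ' f = Cyc.divFun δ ξ ((X.residueFieldCongr e).hom f) := by
  subst e
  rw [congr_refl_apply]

theorem map_congr_hom {f g : X ⟶ Y} (e : f = g) [QuasiCompact f] [QuasiCompact g]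
    (δX : X → ℤ) (δY : Y → ℤ) (A : AlgebraicCycle X ℤ) :
    AlgebraicCycle.map f δX δY A = AlgebraicCycle.map g δX δY A := by
  subst e
  rfl

theorem map_zero' (f : X ⟶ Y) [QuasiCompact f] (δX : X → ℤ) (δY : Y → ℤ) :
    AlgebraicCycle.map f δX δY (0 : AlgebraicCycle X ℤ) = 0 := by
  ext y
  simp only [AlgebraicCycle.map, Function.locallyFinsupp.map_apply]
  apply finsum_mem_eq_zero_of_forall_eq_zero
  intro x _
  simp

/-- the cycle of a principal divisor -/
noncomputable def divCycle (δ : X → ℤ) (hX : Cyc.IsSetup X δ) (ξ : X) (f : X.residueField ξ)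
    (hf : f ≠ 0) : AlgebraicCycle X ℤ where
  toFun := Cyc.divFun δ ξ f
  supportWithinDomain' := Set.subset_univ _
  supportLocallyFiniteWithinDomain' := fun x _ => by
    obtain ⟨V, hV, hxV, -⟩ := exists_isAffineOpen_mem_and_subset (x := x) (U := ⊤) trivial
    exact ⟨V, V.2.mem_nhds hxV,
      Groth.Agent.Lib.Helper18.DivLocFin.finite_inter_support_divFun δ hX ξ f hf hV⟩

theorem coe_divCycle (δ : X → ℤ) (hX : Cyc.IsSetup X δ) (ξ : X) (f : X.residueField ξ)
    (hf : f ≠ 0) : ⇑(divCycle δ hX ξ f hf) = Cyc.divFun δ ξ f := rfl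

end Congr


section PD

variable {X Y : Scheme.{u}} (δX : X → ℤ) (δY : Y → ℤ) (hX : Cyc.IsSetup X δX)
  (hY : Cyc.IsSetup Y δY) (p : X ⟶ Y) [IsProper p] (hδ : Cyc.DeltaCompat p δX δY)

include hX hY hδ in
/-- **Proper pushforward of a principal divisor**: it is a principal divisor if the dimension
is preserved, and zero otherwise. -/
theorem map_divCycle (ξ : X) (f : X.residueField ξ) (hf : f ≠ 0) (D : AlgebraicCycle X ℤ)
    (hD : ⇑D = Cyc.divFun δX ξ f) :
    (δX ξ = δY (p ξ) → ∃ g : Y.residueField (p ξ), g ≠ 0 ∧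
      ⇑(AlgebraicCycle.map p δX δY D) = Cyc.divFun δY (p ξ) g) ∧
    (δX ξ ≠ δY (p ξ) → AlgebraicCycle.map p δX δY D = 0) := by
  classical
  obtain ⟨W, hWint, ιW, hιWc, hιW⟩ := exists_integral_closure ξ
  obtain ⟨W', hW'int, ιW', hιW'c, hιW'⟩ := exists_integral_closure (p ξ)
  have hrange : Set.range (ιW ≫ p) ⊆ Set.range ιW' := by
    rw [range_eq_closure' ιW', hιW']
    rintro _ ⟨w, rfl⟩
    have h1 : ιW w ∈ closure {ξ} := by
      rw [← hιW, ← range_eq_closure' ιW]
      exact ⟨w, rfl⟩
    have h2 := image_closure_subset_closure_image p.continuous ⟨ιW w, h1, rfl⟩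
    rw [Set.image_singleton] at h2
    exact h2
  obtain ⟨q, hq⟩ := exists_lift_of_reduced ιW' (ιW ≫ p) hrange
  set δW : W → ℤ := fun w => δX (ιW w) with hδW
  set δW' : W' → ℤ := fun w' => δY (ιW' w') with hδW'
  have hW := Groth.Agent.Lib.Helper18.ClImm.isSetup ιW δX hX
  have hW' := Groth.Agent.Lib.Helper18.ClImm.isSetup ιW' δY hY
  have hδq : Cyc.DeltaCompat q δW δW' := by
    refine Groth.Agent.Lib.Helper18.FF8.deltaCompat_cancel q ιW' δW δW' δY ?_
      (Groth.Agent.Lib.Helper18.ClImm.deltaCompat ιW' δY)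
    rw [hq]
    exact Groth.Agent.Lib.Helper18.RelCartier.deltaCompat_comp ιW p δX δY hδ
  haveI : IsProper q := by
    haveI : IsProper (q ≫ ιW') := by
      rw [hq]
      infer_instance
    exact IsProper.of_comp q ιW'
  have hdomq : q (genericPoint W) = genericPoint W' := by
    apply ιW'.isClosedEmbedding.injective
    have h1 : ιW' (q (genericPoint W)) = p (ιW (genericPoint W)) :=
      congrArg (fun k => k (genericPoint W)) hq
    rw [h1, hιW, hιW']
  -- the function on `W`
  set f₀ : X.residueField (ιW (genericPoint W)) := (X.residueFieldCongr hιW.symm).hom f with hf₀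
  have hf₀0 : f₀ ≠ 0 := by
    rw [hf₀]
    exact (map_ne_zero_iff _ (RingHom.injective _)).mpr hf
  have hf₀' : (X.residueFieldCongr hιW).hom f₀ = f := by
    rw [hf₀]
    have := congrArg (fun k => k.hom f) (X.residueFieldCongr hιW.symm).hom_inv_id
    exact this
  set f' : W.residueField (genericPoint W) := (ιW.residueFieldMap (genericPoint W)).hom f₀
    with hf'
  have hf'0 : f' ≠ 0 := (map_ne_zero_iff _ (RingHom.injective _)).mpr hf₀0
  set A : AlgebraicCycle W ℤ := divCycle δW hW (genericPoint W) f' hf'0 with hA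
  have hDdiv : Cyc.divFun δX ξ f = Cyc.divFun δX (ιW (genericPoint W)) f₀ := by
    rw [divFun_congr δX ξ (ιW (genericPoint W)) hιW f₀, hf₀']
  have hDA : D = AlgebraicCycle.map ιW δW δX A := by
    ext x
    by_cases hx : x ∈ Set.range (ιW : W → X)
    · obtain ⟨w, rfl⟩ := hx
      rw [Groth.Agent.Lib.Helper18.PullSec.map_apply_of_mem ιW δX A w, hD, hDdiv]
      exact (Groth.Agent.Lib.Helper18.ClImm.divFun_eq ιW δX hX w (genericPoint W) f₀).symm
    · rw [Groth.Agent.Lib.Helper18.PullSec.map_apply_of_notMem ιW δX A x hx, hD, hDdiv]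
      exact Groth.Agent.Lib.Helper18.ClImm.divFun_eq_zero_of_notMem_range ιW δX
        (genericPoint W) f₀ x hx
  have hmap : AlgebraicCycle.map p δX δY D =
      AlgebraicCycle.map ιW' δW' δY (AlgebraicCycle.map q δW δW' A) := by
    rw [hDA, Groth.Agent.Lib.Helper18.CycMap.map_map ιW p δW δX δY
      (Groth.Agent.Lib.Helper18.ClImm.deltaCompat ιW δX) hδ A,
      Groth.Agent.Lib.Helper18.CycMap.map_map q ιW' δW δW' δY hδq
      (Groth.Agent.Lib.Helper18.ClImm.deltaCompat ιW' δY) A]
    exact map_congr_hom hq.symm δW δY A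
  have hδ1 : δW (genericPoint W) = δX ξ := by
    change δX (ιW (genericPoint W)) = δX ξ
    rw [hιW]
  have hδ2 : δW' (genericPoint W') = δY (p ξ) := by
    change δY (ιW' (genericPoint W')) = δY (p ξ)
    rw [hιW']
  constructor
  · intro hdim
    have hn : δW (genericPoint W) = δW' (genericPoint W') := by rw [hδ1, hδ2, hdim]
    have hS := Groth.Agent.Lib.Helper18.DL10.map_divFun δW δW' hW hW' q hδq hdomq hn f' hf'0 A rfl
    have hN0 := Groth.Agent.Lib.Helper18.DL10.normGen_ne_zero q (genericPoint W) f' hf'0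
    obtain ⟨g₀, hg₀⟩ := (Groth.Agent.Lib.Helper18.ClImm.residueFieldMap_bijective ιW'
      (q (genericPoint W))).2 (Cyc.normGen q (genericPoint W) f')
    have hg₀0 : g₀ ≠ 0 := by
      rintro rfl
      rw [map_zero] at hg₀
      exact hN0 hg₀.symm
    have e' : ιW' (q (genericPoint W)) = p ξ := by rw [hdomq, hιW']
    refine ⟨(Y.residueFieldCongr e').hom g₀, (map_ne_zero_iff _ (RingHom.injective _)).mpr hg₀0, ?_⟩
    rw [hmap, ← divFun_congr δY (p ξ) (ιW' (q (genericPoint W))) e' g₀]
    funext y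
    by_cases hy : y ∈ Set.range (ιW' : W' → Y)
    · obtain ⟨w', rfl⟩ := hy
      rw [Groth.Agent.Lib.Helper18.PullSec.map_apply_of_mem ιW' δY _ w', hS, ← hg₀]
      exact Groth.Agent.Lib.Helper18.ClImm.divFun_eq ιW' δY hY w' (q (genericPoint W)) g₀
    · rw [Groth.Agent.Lib.Helper18.PullSec.map_apply_of_notMem ιW' δY _ y hy]
      exact (Groth.Agent.Lib.Helper18.ClImm.divFun_eq_zero_of_notMem_range ιW' δY
        (q (genericPoint W)) g₀ y hy).symm
  · intro hdim
    have hn : δW (genericPoint W) ≠ δW' (genericPoint W') := by rw [hδ1, hδ2]; exact hdim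
    have hS := Groth.Agent.S16921.result W W' δW δW' hW hW' q hδq hdomq hn f' hf'0 A rfl
    rw [hmap, hS]
    exact map_zero' ιW' δW' δY

end PD

end Groth.Agent.Lib.Helper18.CL10
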