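import Mathlib
import Groth.Prelude.Def_Cyc
import Groth.Agent.Lib.Helper18.CL10

/-!
# Proper pushforward preserves rational equivalence
-/

set_option autoImplicit false
set_option linter.unusedSectionVars false
set_option linter.style.haveILetI false
universe u
open AlgebraicGeometry CategoryTheory TopologicalSpace

namespace Groth.Agent.Lib.Helper18.CL11

open Groth.Agent.Lib.Helper18.CL10 Groth.Agent.Lib.Helper18.CL9b

variable {X Y : Scheme.{u}} (δX : X → ℤ) (δY : Y → ℤ) (p : X ⟶ Y) [IsProper p]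

theorem finite_fibre_inter_support (α : AlgebraicCycle X ℤ) (y : Y) :
    ((p ⁻¹' {y} : Set X) ∩ Function.support ⇑α).Finite := by
  obtain ⟨V, hV, hyV, -⟩ := exists_isAffineOpen_mem_and_subset (x := y) (U := ⊤) trivial
  have hc : IsCompact (p ⁻¹ᵁ V : Set X) := p.isSpectralMap.2 V.isOpen hV.isCompact
  refine (α.locallyFiniteSupport.finite_inter_support_of_isCompact hc).subset ?_
  rintro x ⟨hx1, hx2⟩
  refine ⟨?_, hx2⟩
  change p x ∈ V
  have : p x = y := hx1
  rw [this]
  exact hyV

theorem map_sub' (α β : AlgebraicCycle X ℤ) :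
    AlgebraicCycle.map p δX δY (α - β) =
      AlgebraicCycle.map p δX δY α - AlgebraicCycle.map p δX δY β := by
  classical
  ext y
  have h1 : ∀ γ : AlgebraicCycle X ℤ, (AlgebraicCycle.map p δX δY γ) y =
      ∑ᶠ x ∈ (p ⁻¹' {y} : Set X), γ x * ((AlgebraicCycle.mapCoeff p δX δY x : ℕ) : ℤ) := by
    intro γ
    simp only [AlgebraicCycle.map, Function.locallyFinsupp.map_apply]
  have hfin : ∀ γ : AlgebraicCycle X ℤ, ((p ⁻¹' {y} : Set X) ∩ Function.support
      (fun x => γ x * ((AlgebraicCycle.mapCoeff p δX δY x : ℕ) : ℤ))).Finite := by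
    intro γ
    refine (finite_fibre_inter_support p γ y).subset ?_
    rintro x ⟨hx1, hx2⟩
    exact ⟨hx1, left_ne_zero_of_mul hx2⟩
  have h2 : (AlgebraicCycle.map p δX δY α - AlgebraicCycle.map p δX δY β) y =
      (AlgebraicCycle.map p δX δY α) y - (AlgebraicCycle.map p δX δY β) y := rfl
  rw [h2, h1, h1, h1, ← finsum_mem_sub_of_finite _ _ _ (hfin α) (hfin β)]
  apply finsum_mem_congr rfl
  intro x _
  have : (α - β) x = α x - β x := rfl
  rw [this, sub_mul]


variable (hX : Cyc.IsSetup X δX) (hY : Cyc.IsSetup Y δY) (hδ : Cyc.DeltaCompat p δX δY)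

include hX hY hδ in
/-- **Proper pushforward preserves rational equivalence to zero.** -/
theorem ratEquivZero_map (k : ℤ) (γ : AlgebraicCycle X ℤ) (h : Cyc.RatEquivZero δX k γ) :
    Cyc.RatEquivZero δY k (AlgebraicCycle.map p δX δY γ) := by
  classical
  obtain ⟨I, ξ, f, hδξ, hf, hlf, hsum⟩ := h
  -- the principal divisors and their pushforwards
  let D : I → AlgebraicCycle X ℤ := fun i => divCycle δX hX (ξ i) (f i) (hf i)
  have hD : ∀ i, ⇑(D i) = Cyc.divFun δX (ξ i) (f i) := fun i => rfl
  have hPD := fun i => map_divCycle δX δY hX hY p hδ (ξ i) (f i) (hf i) (D i) (hD i)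
  let g : (i : I) → Y.residueField (p (ξ i)) := fun i =>
    if hi : δX (ξ i) = δY (p (ξ i)) then ((hPD i).1 hi).choose else 1
  have hg0 : ∀ i, g i ≠ 0 := by
    intro i
    by_cases hi : δX (ξ i) = δY (p (ξ i))
    · simp only [g, dif_pos hi]
      exact ((hPD i).1 hi).choose_spec.1
    · simp only [g, dif_neg hi]
      exact one_ne_zero
  have hg1 : ∀ i, δX (ξ i) = δY (p (ξ i)) → ∀ y,
      (AlgebraicCycle.map p δX δY (D i)) y = Cyc.divFun δY (p (ξ i)) (g i) y := by
    intro i hi y
    simp only [g, dif_pos hi]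
    exact congrFun ((hPD i).1 hi).choose_spec.2 y
  have hg2 : ∀ i, δX (ξ i) ≠ δY (p (ξ i)) → ∀ y,
      (AlgebraicCycle.map p δX δY (D i)) y = 0 := by
    intro i hi y
    rw [(hPD i).2 hi]
    rfl
  -- compactness
  have hcompact : ∀ y : Y, ∃ V : Y.Opens, y ∈ V ∧ IsCompact (p ⁻¹ᵁ V : Set X) ∧
      {i | (closure {ξ i} ∩ (p ⁻¹ᵁ V : Set X)).Nonempty}.Finite := by
    intro y
    obtain ⟨V, hV, hyV, -⟩ := exists_isAffineOpen_mem_and_subset (x := y) (U := ⊤) trivial
    have hc : IsCompact (p ⁻¹ᵁ V : Set X) := p.isSpectralMap.2 V.isOpen hV.isCompact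
    refine ⟨V, hyV, hc, ?_⟩
    choose U hUo hxU hUfin using hlf
    obtain ⟨t, -, htc⟩ := hc.elim_nhds_subcover U (fun x _ => (hUo x).mem_nhds (hxU x))
    refine (t.finite_toSet.biUnion (fun x _ => hUfin x)).subset ?_
    rintro i ⟨z, hz1, hz2⟩
    obtain ⟨x, hxt, hzx⟩ := Set.mem_iUnion₂.mp (htc hz2)
    exact Set.mem_biUnion hxt ⟨z, hz1, hzx⟩
  refine ⟨{i : I // δX (ξ i) = δY (p (ξ i))}, fun j => p (ξ j.1), fun j => g j.1, ?_, ?_, ?_, ?_⟩
  · intro j
    rw [← j.2, hδξ]
  · intro j
    exact hg0 j.1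
  · intro y
    obtain ⟨V, hyV, -, hfin⟩ := hcompact y
    refine ⟨V, V.2, hyV, ?_⟩
    refine Set.Finite.subset (hfin.preimage Subtype.val_injective.injOn) ?_
    rintro j ⟨z, hz1, hz2⟩
    have hsp : p (ξ j.1) ⤳ z := specializes_iff_mem_closure.mpr hz1
    have hpV : p (ξ j.1) ∈ V := hsp.mem_open V.2 hz2
    exact ⟨ξ j.1, subset_closure rfl, hpV⟩
  · intro y
    obtain ⟨V, hyV, hc, hTfin⟩ := hcompact y
    set c : X → ℤ := fun x => ((AlgebraicCycle.mapCoeff p δX δY x : ℕ) : ℤ) with hc_def
    have h1 : ∀ γ' : AlgebraicCycle X ℤ, (AlgebraicCycle.map p δX δY γ') y =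
        ∑ᶠ x ∈ (p ⁻¹' {y} : Set X), γ' x * c x := by
      intro γ'
      simp only [AlgebraicCycle.map, Function.locallyFinsupp.map_apply]
      rfl
    -- the double sum
    let H : X × I → ℤ := fun a => if p a.1 = y then Cyc.divFun δX (ξ a.2) (f a.2) a.1 * c a.1 else 0
    have hHfin : (Function.support H).Finite := by
      have hfin2 : (⋃ i ∈ {i | (closure {ξ i} ∩ (p ⁻¹ᵁ V : Set X)).Nonempty},
          (fun x : X => ((x, i) : X × I)) ''
            ((p ⁻¹ᵁ V : Set X) ∩ Function.support ⇑(D i))).Finite :=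
        hTfin.biUnion (fun i _ =>
          ((D i).locallyFiniteSupport.finite_inter_support_of_isCompact hc).image _)
      refine hfin2.subset ?_
      rintro ⟨x, i⟩ hxi
      rw [Function.mem_support] at hxi
      simp only [H] at hxi
      by_cases hpx : p x = y
      · rw [if_pos hpx] at hxi
        have hd : Cyc.divFun δX (ξ i) (f i) x ≠ 0 := left_ne_zero_of_mul hxi
        have hxV : x ∈ (p ⁻¹ᵁ V : Set X) := by
          change p x ∈ V
          rw [hpx]
          exact hyV
        have hsp : ξ i ⤳ x := by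
          by_contra hns
          apply hd
          unfold Cyc.divFun
          rw [dif_neg (fun hh => hns hh.1)]
        refine Set.mem_biUnion (x := i) ⟨x, specializes_iff_mem_closure.mp hsp, hxV⟩
          ⟨x, ⟨hxV, ?_⟩, rfl⟩
        rw [Function.mem_support, hD]
        exact hd
      · rw [if_neg hpx] at hxi
        exact absurd rfl hxi
    have hL : (AlgebraicCycle.map p δX δY γ) y = ∑ᶠ a, H a := by
      rw [h1, finsum_curry H hHfin, finsum_mem_def]
      apply finsum_congr
      intro x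
      by_cases hpx : p x = y
      · rw [Set.indicator_of_mem (show x ∈ (p ⁻¹' {y} : Set X) from hpx), hsum, finsum_mul]
        apply finsum_congr
        intro i
        simp only [H, if_pos hpx]
      · rw [Set.indicator_of_notMem (show x ∉ (p ⁻¹' {y} : Set X) from hpx)]
        symm
        apply finsum_eq_zero_of_forall_eq_zero
        intro i
        simp only [H, if_neg hpx]
    have hHfin' : (Function.support (H ∘ (Equiv.prodComm I X))).Finite :=
      (hHfin.preimage (Equiv.prodComm I X).injective.injOn)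
    have hR : ∑ᶠ a, H a = ∑ᶠ i, (AlgebraicCycle.map p δX δY (D i)) y := by
      rw [← finsum_comp_equiv (Equiv.prodComm I X)]
      change ∑ᶠ a, (H ∘ (Equiv.prodComm I X)) a = _
      rw [finsum_curry _ hHfin']
      apply finsum_congr
      intro i
      rw [h1, finsum_mem_def]
      apply finsum_congr
      intro x
      by_cases hpx : p x = y
      · rw [Set.indicator_of_mem (show x ∈ (p ⁻¹' {y} : Set X) from hpx)]
        simp only [Function.comp, Equiv.prodComm_apply, Prod.swap_prod_mk, H, if_pos hpx]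
        rfl
      · rw [Set.indicator_of_notMem (show x ∉ (p ⁻¹' {y} : Set X) from hpx)]
        simp only [Function.comp, Equiv.prodComm_apply, Prod.swap_prod_mk, H, if_neg hpx]
    rw [hL, hR, finsum_subtype_eq_finsum_cond (fun i : I => δX (ξ i) = δY (p (ξ i)))
      (f := fun i => Cyc.divFun δY (p (ξ i)) (g i) y)]
    apply finsum_congr
    intro i
    rw [finsum_eq_if]
    by_cases hi : δX (ξ i) = δY (p (ξ i))
    · rw [if_pos hi, hg1 i hi y]
    · rw [if_neg hi, hg2 i hi y]

end Groth.Agent.Lib.Helper18.CL11
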