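import Mathlib
import Groth.Prelude.Def_Cyc
import Groth.Agent.Lib.Helper18.CL11

/-!
# Proper pushforward of a principal divisor: the explicit norm
-/

set_option autoImplicit false
set_option linter.unusedSectionVars false
set_option linter.style.haveILetI false
universe u
open AlgebraicGeometry CategoryTheory TopologicalSpace

namespace Groth.Agent.Lib.Helper18.EX1

open Groth.Agent.Lib.Helper18.CL8d Groth.Agent.Lib.Helper18.CL10

section Sq

theorem rfc_rfc {D : Scheme.{u}} {y1 y2 y3 : D} (e : y1 = y2) (e' : y2 = y3)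
    (a : D.residueField y1) :
    (D.residueFieldCongr e').hom ((D.residueFieldCongr e).hom a) =
      (D.residueFieldCongr (e.trans e')).hom a := by
  subst e e'
  rfl

theorem rfc_self {D : Scheme.{u}} {y : D} (e : y = y) (a : D.residueField y) :
    (D.residueFieldCongr e).hom a = a := rfl

theorem sq_elem {W W' X Y : Scheme.{u}} (ιW : W ⟶ X) (ιW' : W' ⟶ Y) (p : X ⟶ Y) (q : W ⟶ W')
    (hq : q ≫ ιW' = ιW ≫ p) (w : W) (ξ : X) (hξ : ιW w = ξ) (e' : ιW' (q w) = p ξ)
    (t : Y.residueField (p ξ)) :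
    (q.residueFieldMap w).hom ((ιW'.residueFieldMap (q w)).hom
      ((Y.residueFieldCongr e'.symm).hom t)) =
    (ιW.residueFieldMap w).hom ((X.residueFieldCongr hξ.symm).hom
      ((p.residueFieldMap ξ).hom t)) := by
  subst hξ
  have e1 : (q ≫ ιW') w = (ιW ≫ p) w := by rw [hq]
  have h1 : (q ≫ ιW').residueFieldMap w =
      (Y.residueFieldCongr e1).hom ≫ (ιW ≫ p).residueFieldMap w :=
    Scheme.Hom.residueFieldMap_congr hq w
  set s := (Y.residueFieldCongr e'.symm).hom t with hs
  have h3 : (Y.residueFieldCongr e1).hom s = t :=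
    (rfc_rfc e'.symm e1 t).trans (rfc_self _ t)
  refine (calc (q.residueFieldMap w).hom ((ιW'.residueFieldMap (q w)).hom s)
      = ((q ≫ ιW').residueFieldMap w).hom s :=
        (congrArg (fun k => k.hom s) (Scheme.residueFieldMap_comp q ιW' w)).symm
    _ = ((Y.residueFieldCongr e1).hom ≫ (ιW ≫ p).residueFieldMap w).hom s :=
        congrArg (fun k => k.hom s) h1
    _ = ((ιW ≫ p).residueFieldMap w).hom ((Y.residueFieldCongr e1).hom s) := rfl
    _ = ((ιW ≫ p).residueFieldMap w).hom t :=
        congrArg (fun z => ((ιW ≫ p).residueFieldMap w).hom z) h3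
    _ = (ιW.residueFieldMap w).hom ((p.residueFieldMap (ιW w)).hom t) :=
        congrArg (fun k => k.hom t) (Scheme.residueFieldMap_comp ιW p w)).trans ?_
  rfl

end Sq

section PD

variable {X Y : Scheme.{u}} (δX : X → ℤ) (δY : Y → ℤ) (hX : Cyc.IsSetup X δX)
  (hY : Cyc.IsSetup Y δY) (p : X ⟶ Y) [IsProper p] (hδ : Cyc.DeltaCompat p δX δY)

include hX hY hδ in
/-- **Proper pushforward of a principal divisor** with the explicit norm. -/
theorem map_divCycle_norm (ξ : X) (f : X.residueField ξ) (hf : f ≠ 0) (D : AlgebraicCycle X ℤ)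
    (hD : ⇑D = Cyc.divFun δX ξ f) (hdim : δX ξ = δY (p ξ)) :
    ⇑(AlgebraicCycle.map p δX δY D) = Cyc.divFun δY (p ξ) (Cyc.normGen p ξ f) := by
  classical
  obtain ⟨W, hWint, ιW, hιWc, hιW⟩ := exists_integral_closure ξ
  obtain ⟨W', hW'int, ιW', hιW'c, hιW'⟩ := exists_integral_closure (p ξ)
  have hrange : Set.range (ιW ≫ p) ⊆ Set.range ιW' := by
    rw [range_eq_closure' ιW', hιW']
    rintro _ ⟨w, rfl⟩
    have h1 : ιW w ∈ closure {ξ} := by
      rw [← hιW, ← range_eq_closure' ιW]
      exact ⟨w, rfl⟩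
    have h2 := image_closure_subset_closure_image p.continuous ⟨ιW w, h1, rfl⟩
    rw [Set.image_singleton] at h2
    exact h2
  obtain ⟨q, hq⟩ := exists_lift_of_reduced ιW' (ιW ≫ p) hrange
  set δW : W → ℤ := fun w => δX (ιW w) with hδW
  set δW' : W' → ℤ := fun w' => δY (ιW' w') with hδW'
  have hW := Groth.Agent.Lib.Helper18.ClImm.isSetup ιW δX hX
  have hW' := Groth.Agent.Lib.Helper18.ClImm.isSetup ιW' δY hY
  have hδq : Cyc.DeltaCompat q δW δW' := by
    refine Groth.Agent.Lib.Helper18.FF8.deltaCompat_cancel q ιW' δW δW' δY ?_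
      (Groth.Agent.Lib.Helper18.ClImm.deltaCompat ιW' δY)
    rw [hq]
    exact Groth.Agent.Lib.Helper18.RelCartier.deltaCompat_comp ιW p δX δY hδ
  haveI : IsProper q := by
    haveI : IsProper (q ≫ ιW') := by
      rw [hq]
      infer_instance
    exact IsProper.of_comp q ιW'
  have hdomq : q (genericPoint W) = genericPoint W' := by
    apply ιW'.isClosedEmbedding.injective
    have h1 : ιW' (q (genericPoint W)) = p (ιW (genericPoint W)) :=
      congrArg (fun k => k (genericPoint W)) hq
    rw [h1, hιW, hιW']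
  -- the function on `W`
  set f₀ : X.residueField (ιW (genericPoint W)) := (X.residueFieldCongr hιW.symm).hom f with hf₀
  have hf₀0 : f₀ ≠ 0 := by
    rw [hf₀]
    exact (map_ne_zero_iff _ (RingHom.injective _)).mpr hf
  have hf₀' : (X.residueFieldCongr hιW).hom f₀ = f := by
    rw [hf₀]
    have := congrArg (fun k => k.hom f) (X.residueFieldCongr hιW.symm).hom_inv_id
    exact this
  set f' : W.residueField (genericPoint W) := (ιW.residueFieldMap (genericPoint W)).hom f₀
    with hf'
  have hf'0 : f' ≠ 0 := (map_ne_zero_iff _ (RingHom.injective _)).mpr hf₀0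
  set A : AlgebraicCycle W ℤ := divCycle δW hW (genericPoint W) f' hf'0 with hA
  have hDdiv : Cyc.divFun δX ξ f = Cyc.divFun δX (ιW (genericPoint W)) f₀ := by
    rw [divFun_congr δX ξ (ιW (genericPoint W)) hιW f₀, hf₀']
  have hDA : D = AlgebraicCycle.map ιW δW δX A := by
    ext x
    by_cases hx : x ∈ Set.range (ιW : W → X)
    · obtain ⟨w, rfl⟩ := hx
      rw [Groth.Agent.Lib.Helper18.PullSec.map_apply_of_mem ιW δX A w, hD, hDdiv]
      exact (Groth.Agent.Lib.Helper18.ClImm.divFun_eq ιW δX hX w (genericPoint W) f₀).symm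
    · rw [Groth.Agent.Lib.Helper18.PullSec.map_apply_of_notMem ιW δX A x hx, hD, hDdiv]
      exact Groth.Agent.Lib.Helper18.ClImm.divFun_eq_zero_of_notMem_range ιW δX
        (genericPoint W) f₀ x hx
  have hmap : AlgebraicCycle.map p δX δY D =
      AlgebraicCycle.map ιW' δW' δY (AlgebraicCycle.map q δW δW' A) := by
    rw [hDA, Groth.Agent.Lib.Helper18.CycMap.map_map ιW p δW δX δY
      (Groth.Agent.Lib.Helper18.ClImm.deltaCompat ιW δX) hδ A,
      Groth.Agent.Lib.Helper18.CycMap.map_map q ιW' δW δW' δY hδq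
      (Groth.Agent.Lib.Helper18.ClImm.deltaCompat ιW' δY) A]
    exact map_congr_hom hq.symm δW δY A
  have hδ1 : δW (genericPoint W) = δX ξ := by
    change δX (ιW (genericPoint W)) = δX ξ
    rw [hιW]
  have hδ2 : δW' (genericPoint W') = δY (p ξ) := by
    change δY (ιW' (genericPoint W')) = δY (p ξ)
    rw [hιW']
  have hn : δW (genericPoint W) = δW' (genericPoint W') := by rw [hδ1, hδ2, hdim]
  have hS := Groth.Agent.Lib.Helper18.DL10.map_divFun δW δW' hW hW' q hδq hdomq hn f' hf'0 A rfl
  have e' : ιW' (q (genericPoint W)) = p ξ := by rw [hdomq, hιW']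
  -- the norm identification
  have hbW := Groth.Agent.Lib.Helper18.ClImm.residueFieldMap_bijective ιW (genericPoint W)
  have hbW' := Groth.Agent.Lib.Helper18.ClImm.residueFieldMap_bijective ιW' (q (genericPoint W))
  let e₂ : X.residueField ξ ≃+* W.residueField (genericPoint W) :=
    (X.residueFieldCongr hιW.symm).commRingCatIsoToRingEquiv.trans
      (RingEquiv.ofBijective (ιW.residueFieldMap (genericPoint W)).hom hbW)
  let e₁ : Y.residueField (p ξ) ≃+* W'.residueField (q (genericPoint W)) :=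
    (Y.residueFieldCongr e'.symm).commRingCatIsoToRingEquiv.trans
      (RingEquiv.ofBijective (ιW'.residueFieldMap (q (genericPoint W))).hom hbW')
  have hnorm : Cyc.normGen p ξ f = e₁.symm (Cyc.normGen q (genericPoint W) f') := by
    unfold Cyc.normGen
    letI := (p.residueFieldMap ξ).hom.toAlgebra
    letI := (q.residueFieldMap (genericPoint W)).hom.toAlgebra
    refine Algebra.norm_eq_of_equiv_equiv e₁ e₂ ?_ f
    ext a
    exact sq_elem ιW ιW' p q hq (genericPoint W) ξ hιW e' a
  set g₀ : Y.residueField (ιW' (q (genericPoint W))) :=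
    (Y.residueFieldCongr e'.symm).hom (Cyc.normGen p ξ f) with hg₀def
  have hg₀ : (ιW'.residueFieldMap (q (genericPoint W))).hom g₀ =
      Cyc.normGen q (genericPoint W) f' := by
    have : e₁ (Cyc.normGen p ξ f) = Cyc.normGen q (genericPoint W) f' := by
      rw [hnorm, RingEquiv.apply_symm_apply]
    exact this
  have hg₀' : (Y.residueFieldCongr e').hom g₀ = Cyc.normGen p ξ f := by
    rw [hg₀def]
    have := congrArg (fun k => k.hom (Cyc.normGen p ξ f)) (Y.residueFieldCongr e'.symm).hom_inv_id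
    exact this
  rw [hmap, ← hg₀', ← divFun_congr δY (p ξ) (ιW' (q (genericPoint W))) e' g₀]
  funext y
  by_cases hy : y ∈ Set.range (ιW' : W' → Y)
  · obtain ⟨w', rfl⟩ := hy
    rw [Groth.Agent.Lib.Helper18.PullSec.map_apply_of_mem ιW' δY _ w', hS, ← hg₀]
    exact Groth.Agent.Lib.Helper18.ClImm.divFun_eq ιW' δY hY w' (q (genericPoint W)) g₀
  · rw [Groth.Agent.Lib.Helper18.PullSec.map_apply_of_notMem ιW' δY _ y hy]
    exact (Groth.Agent.Lib.Helper18.ClImm.divFun_eq_zero_of_notMem_range ιW' δY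
      (q (genericPoint W)) g₀ y hy).symm

end PD

end Groth.Agent.Lib.Helper18.EX1
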