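import Mathlib
import Groth.Prelude.Def_Cyc
import Groth.Agent.Lib.Helper18.EX1

/-!
# Cycles of locally finite families of principal divisors, and their proper pushforward
-/

set_option autoImplicit false
set_option linter.unusedSectionVars false
set_option linter.style.haveILetI false
universe u
open AlgebraicGeometry CategoryTheory TopologicalSpace

namespace Groth.Agent.Lib.Helper18.EX2

open Groth.Agent.Lib.Helper18.CL10 Groth.Agent.Lib.Helper18.CL9b

section Rat

variable {X : Scheme.{u}} (δ : X → ℤ) (hX : Cyc.IsSetup X δ)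

theorem specializes_of_divFun_ne_zero (ξ : X) (f : X.residueField ξ) (x : X)
    (h : Cyc.divFun δ ξ f x ≠ 0) : ξ ⤳ x := by
  by_contra hns
  apply h
  unfold Cyc.divFun
  rw [dif_neg (fun hh => hns hh.1)]

/-- the cycle of a locally finite family of principal divisors -/
noncomputable def ratCycle {I : Type u} (ξ : I → X) (f : (i : I) → X.residueField (ξ i))
    (hf : ∀ i, f i ≠ 0)
    (hlf : ∀ x : X, ∃ U : Set X, IsOpen U ∧ x ∈ U ∧ {i | (closure {ξ i} ∩ U).Nonempty}.Finite) :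
    AlgebraicCycle X ℤ where
  toFun := fun x => ∑ᶠ i, Cyc.divFun δ (ξ i) (f i) x
  supportWithinDomain' := Set.subset_univ _
  supportLocallyFiniteWithinDomain' := fun x _ => by
    obtain ⟨U, hU, hxU, hfin⟩ := hlf x
    obtain ⟨V, hV, hxV, hVU⟩ := exists_isAffineOpen_mem_and_subset (x := x) (U := ⟨U, hU⟩) hxU
    refine ⟨V, V.2.mem_nhds hxV, ?_⟩
    refine (hfin.biUnion (fun i _ =>
      Groth.Agent.Lib.Helper18.DivLocFin.finite_inter_support_divFun δ hX (ξ i) (f i) (hf i)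
        hV)).subset ?_
    rintro z ⟨hzV, hz⟩
    have hz' : ∑ᶠ i, Cyc.divFun δ (ξ i) (f i) z ≠ 0 := hz
    have : ∃ i, Cyc.divFun δ (ξ i) (f i) z ≠ 0 := by
      by_contra hcon
      push_neg at hcon
      exact hz' (finsum_eq_zero_of_forall_eq_zero hcon)
    obtain ⟨i, hi⟩ := this
    have hsp := specializes_of_divFun_ne_zero δ (ξ i) (f i) z hi
    exact Set.mem_biUnion (x := i) ⟨z, specializes_iff_mem_closure.mp hsp, hVU hzV⟩ ⟨hzV, hi⟩

theorem ratCycle_apply {I : Type u} (ξ : I → X) (f : (i : I) → X.residueField (ξ i))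
    (hf : ∀ i, f i ≠ 0)
    (hlf : ∀ x : X, ∃ U : Set X, IsOpen U ∧ x ∈ U ∧ {i | (closure {ξ i} ∩ U).Nonempty}.Finite)
    (x : X) : ratCycle δ hX ξ f hf hlf x = ∑ᶠ i, Cyc.divFun δ (ξ i) (f i) x := rfl

theorem ratCycle_ratEquivZero {I : Type u} (ξ : I → X) (f : (i : I) → X.residueField (ξ i))
    (hf : ∀ i, f i ≠ 0)
    (hlf : ∀ x : X, ∃ U : Set X, IsOpen U ∧ x ∈ U ∧ {i | (closure {ξ i} ∩ U).Nonempty}.Finite)
    (k : ℤ) (hδξ : ∀ i, δ (ξ i) = k + 1) : Cyc.RatEquivZero δ k (ratCycle δ hX ξ f hf hlf) :=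
  ⟨I, ξ, f, hδξ, hf, hlf, fun _ => rfl⟩

/-- a cycle rationally equivalent to zero is a `k`-cycle -/
theorem mem_Zk_of_ratEquivZero (k : ℤ) (α : AlgebraicCycle X ℤ) (h : Cyc.RatEquivZero δ k α) :
    α ∈ Cyc.Zk X δ k := by
  obtain ⟨I, ξ, f, hδξ, hf, hlf, hsum⟩ := h
  intro x hx
  rw [hsum x]
  apply finsum_eq_zero_of_forall_eq_zero
  intro i
  unfold Cyc.divFun
  rw [dif_neg]
  rintro ⟨-, h2⟩
  rw [hδξ i] at h2
  omega

end Rat

section Push

variable {X Y : Scheme.{u}} (δX : X → ℤ) (δY : Y → ℤ) (p : X ⟶ Y) [IsProper p]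
  (hX : Cyc.IsSetup X δX)

include hX in
/-- pushforward commutes with locally finite sums of principal divisors -/
theorem map_eq_finsum {I : Type u} (ξ : I → X) (f : (i : I) → X.residueField (ξ i))
    (hf : ∀ i, f i ≠ 0)
    (hlf : ∀ x : X, ∃ U : Set X, IsOpen U ∧ x ∈ U ∧ {i | (closure {ξ i} ∩ U).Nonempty}.Finite)
    (γ : AlgebraicCycle X ℤ) (hsum : ∀ x : X, γ x = ∑ᶠ i, Cyc.divFun δX (ξ i) (f i) x) (y : Y) :
    (AlgebraicCycle.map p δX δY γ) y =
      ∑ᶠ i, (AlgebraicCycle.map p δX δY (divCycle δX hX (ξ i) (f i) (hf i))) y := by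
  classical
  let D : I → AlgebraicCycle X ℤ := fun i => divCycle δX hX (ξ i) (f i) (hf i)
  have hD : ∀ i, ⇑(D i) = Cyc.divFun δX (ξ i) (f i) := fun i => rfl
  have hcompact : ∃ V : Y.Opens, y ∈ V ∧ IsCompact (p ⁻¹ᵁ V : Set X) ∧
      {i | (closure {ξ i} ∩ (p ⁻¹ᵁ V : Set X)).Nonempty}.Finite := by
    obtain ⟨V, hV, hyV, -⟩ := exists_isAffineOpen_mem_and_subset (x := y) (U := ⊤) trivial
    have hc : IsCompact (p ⁻¹ᵁ V : Set X) := p.isSpectralMap.2 V.isOpen hV.isCompact
    refine ⟨V, hyV, hc, ?_⟩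
    choose U hUo hxU hUfin using hlf
    obtain ⟨t, -, htc⟩ := hc.elim_nhds_subcover U (fun x _ => (hUo x).mem_nhds (hxU x))
    refine (t.finite_toSet.biUnion (fun x _ => hUfin x)).subset ?_
    rintro i ⟨z, hz1, hz2⟩
    obtain ⟨x, hxt, hzx⟩ := Set.mem_iUnion₂.mp (htc hz2)
    exact Set.mem_biUnion hxt ⟨z, hz1, hzx⟩
  obtain ⟨V, hyV, hc, hTfin⟩ := hcompact
  set c : X → ℤ := fun x => ((AlgebraicCycle.mapCoeff p δX δY x : ℕ) : ℤ) with hc_def
  have h1 : ∀ γ' : AlgebraicCycle X ℤ, (AlgebraicCycle.map p δX δY γ') y =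
      ∑ᶠ x ∈ (p ⁻¹' {y} : Set X), γ' x * c x := by
    intro γ'
    simp only [AlgebraicCycle.map, Function.locallyFinsupp.map_apply]
    rfl
  let H : X × I → ℤ := fun a => if p a.1 = y then Cyc.divFun δX (ξ a.2) (f a.2) a.1 * c a.1 else 0
  have hHfin : (Function.support H).Finite := by
    have hfin2 : (⋃ i ∈ {i | (closure {ξ i} ∩ (p ⁻¹ᵁ V : Set X)).Nonempty},
        (fun x : X => ((x, i) : X × I)) ''
          ((p ⁻¹ᵁ V : Set X) ∩ Function.support ⇑(D i))).Finite :=
      hTfin.biUnion (fun i _ =>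
        ((D i).locallyFiniteSupport.finite_inter_support_of_isCompact hc).image _)
    refine hfin2.subset ?_
    rintro ⟨x, i⟩ hxi
    rw [Function.mem_support] at hxi
    simp only [H] at hxi
    by_cases hpx : p x = y
    · rw [if_pos hpx] at hxi
      have hd : Cyc.divFun δX (ξ i) (f i) x ≠ 0 := left_ne_zero_of_mul hxi
      have hxV : x ∈ (p ⁻¹ᵁ V : Set X) := by
        change p x ∈ V
        rw [hpx]
        exact hyV
      have hsp : ξ i ⤳ x := specializes_of_divFun_ne_zero δX (ξ i) (f i) x hd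
      refine Set.mem_biUnion (x := i) ⟨x, specializes_iff_mem_closure.mp hsp, hxV⟩
        ⟨x, ⟨hxV, ?_⟩, rfl⟩
      rw [Function.mem_support, hD]
      exact hd
    · rw [if_neg hpx] at hxi
      exact absurd rfl hxi
  have hL : (AlgebraicCycle.map p δX δY γ) y = ∑ᶠ a, H a := by
    rw [h1, finsum_curry H hHfin, finsum_mem_def]
    apply finsum_congr
    intro x
    by_cases hpx : p x = y
    · rw [Set.indicator_of_mem (show x ∈ (p ⁻¹' {y} : Set X) from hpx), hsum, finsum_mul]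
      apply finsum_congr
      intro i
      simp only [H, if_pos hpx]
    · rw [Set.indicator_of_notMem (show x ∉ (p ⁻¹' {y} : Set X) from hpx)]
      symm
      apply finsum_eq_zero_of_forall_eq_zero
      intro i
      simp only [H, if_neg hpx]
  have hHfin' : (Function.support (H ∘ (Equiv.prodComm I X))).Finite :=
    (hHfin.preimage (Equiv.prodComm I X).injective.injOn)
  have hR : ∑ᶠ a, H a = ∑ᶠ i, (AlgebraicCycle.map p δX δY (D i)) y := by
    rw [← finsum_comp_equiv (Equiv.prodComm I X)]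
    change ∑ᶠ a, (H ∘ (Equiv.prodComm I X)) a = _
    rw [finsum_curry _ hHfin']
    apply finsum_congr
    intro i
    rw [h1, finsum_mem_def]
    apply finsum_congr
    intro x
    by_cases hpx : p x = y
    · rw [Set.indicator_of_mem (show x ∈ (p ⁻¹' {y} : Set X) from hpx)]
      simp only [Function.comp, Equiv.prodComm_apply, Prod.swap_prod_mk, H, if_pos hpx]
      rfl
    · rw [Set.indicator_of_notMem (show x ∉ (p ⁻¹' {y} : Set X) from hpx)]
      simp only [Function.comp, Equiv.prodComm_apply, Prod.swap_prod_mk, H, if_neg hpx]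
  rw [hL, hR]

end Push

end Groth.Agent.Lib.Helper18.EX2
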