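import Mathlib
import Groth.Prelude.Def_CycAlg
import Groth.Agent.Lib.Helper26.Herb3
import Groth.Agent.Lib.Helper26.Herb4
import Groth.Agent.Lib.Helper26.SuppMult

set_option autoImplicit false
set_option linter.style.haveILetI false
set_option linter.unusedSectionVars false

/-! Key lemma (S1851), part A: general facts on Herbrand quotients. -/

namespace Groth.Agent.Lib.Helper18.KeyA

open Function LinearMap CycAlg
open scoped Pointwise
open Groth.Agent.Lib.Helper26.Herb1 Groth.Agent.Lib.Helper26.Herb2 Groth.Agent.Lib.Helper26.Herb3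

universe u v

variable {R : Type u} [CommRing R]

section Transfer

variable {M M' : Type v} [AddCommGroup M] [Module R M] [AddCommGroup M'] [Module R M']

/-- variant of `main_1870` which also outputs finiteness of the cohomology of the target. -/
theorem herbrand_transfer (φ ψ : M →ₗ[R] M) (φ' ψ' : M' →ₗ[R] M') (h : IsPeriodic φ ψ)
    (h' : IsPeriodic φ' ψ') (f : M →ₗ[R] M') (cφ : φ' ∘ₗ f = f ∘ₗ φ) (cψ : ψ' ∘ₗ f = f ∘ₗ ψ)
    (hfin : FinCoh R φ ψ)
    (hker : Module.length R (ker f) < ⊤) (hcoker : Module.length R (M' ⧸ range f) < ⊤) :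
    FinCoh R φ' ψ' ∧ herbrand R φ ψ = herbrand R φ' ψ' := by
  have hφK : ∀ x ∈ ker f, φ x ∈ ker f := by
    intro x hx
    rw [mem_ker] at hx ⊢
    rw [← comm_apply cφ, hx, map_zero]
  have hψK : ∀ x ∈ ker f, ψ x ∈ ker f := by
    intro x hx
    rw [mem_ker] at hx ⊢
    rw [← comm_apply cψ, hx, map_zero]
  have hφI : ∀ y ∈ range f, φ' y ∈ range f := by
    rintro _ ⟨x, rfl⟩
    exact ⟨φ x, (comm_apply cφ x).symm⟩
  have hψI : ∀ y ∈ range f, ψ' y ∈ range f := by
    rintro _ ⟨x, rfl⟩
    exact ⟨ψ x, (comm_apply cψ x).symm⟩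
  have hK : IsPeriodic (φ.restrict hφK) (ψ.restrict hψK) := by
    constructor
    · apply LinearMap.ext; intro x; apply Subtype.ext; exact per_apply₁ h x
    · apply LinearMap.ext; intro x; apply Subtype.ext; exact per_apply₂ h x
  have hI : IsPeriodic (φ'.restrict hφI) (ψ'.restrict hψI) := by
    constructor
    · apply LinearMap.ext; intro x; apply Subtype.ext; exact per_apply₁ h' x
    · apply LinearMap.ext; intro x; apply Subtype.ext; exact per_apply₂ h' x
  obtain ⟨hKfin, hK0⟩ := herbrand_eq_zero_of_finite _ _ hK hker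
  have hexact : Exact (ker f).subtype f.rangeRestrict := by
    intro y
    constructor
    · intro hy
      have h0 : f y = 0 := congrArg Subtype.val hy
      exact ⟨⟨y, h0⟩, rfl⟩
    · rintro ⟨⟨x, hx⟩, rfl⟩
      apply Subtype.ext
      exact hx
  have key1 := main_1869 (φ.restrict hφK) (ψ.restrict hψK) φ ψ (φ'.restrict hφI)
    (ψ'.restrict hψI) hK h hI (ker f).subtype (ker f).subtype f.rangeRestrict f.rangeRestrict
    (by apply LinearMap.ext; intro x; rfl) (by apply LinearMap.ext; intro x; rfl)
    (by apply LinearMap.ext; intro x; apply Subtype.ext; exact comm_apply cφ x)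
    (by apply LinearMap.ext; intro x; apply Subtype.ext; exact comm_apply cψ x)
    (Submodule.injective_subtype _) (Submodule.injective_subtype _)
    (surjective_rangeRestrict f) (surjective_rangeRestrict f) hexact hexact
    (Or.inl ⟨hKfin, hfin⟩)
  obtain ⟨-, -, hIfin, hadd1⟩ := key1
  have hQ : IsPeriodic ((range f).mapQ (range f) φ' hφI) ((range f).mapQ (range f) ψ' hψI) := by
    constructor
    · apply LinearMap.ext; intro x
      obtain ⟨x, rfl⟩ := Submodule.Quotient.mk_surjective _ x
      simp only [LinearMap.comp_apply, Submodule.mapQ_apply, LinearMap.zero_apply]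
      rw [per_apply₁ h' x, Submodule.Quotient.mk_zero]
    · apply LinearMap.ext; intro x
      obtain ⟨x, rfl⟩ := Submodule.Quotient.mk_surjective _ x
      simp only [LinearMap.comp_apply, Submodule.mapQ_apply, LinearMap.zero_apply]
      rw [per_apply₂ h' x, Submodule.Quotient.mk_zero]
  obtain ⟨hCfin, hC0⟩ := herbrand_eq_zero_of_finite _ _ hQ hcoker
  have key2 := herbrand_sub_quot φ' ψ' h' (range f) hφI hψI (Or.inr (Or.inl ⟨hIfin, hCfin⟩))
  obtain ⟨-, hfin', -, hadd2⟩ := key2
  refine ⟨hfin', ?_⟩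
  rw [hadd1, hadd2, hK0, hC0]
  ring

end Transfer

lemma mem_submoduleOf_iff {M : Type*} [AddCommGroup M] [Module R M] (p q : Submodule R M) (z : q) :
    z ∈ p.submoduleOf q ↔ (z : M) ∈ p := Iff.rfl

section Pi

variable {J : Type v} [Fintype J] (N : J → Type v) [∀ j, AddCommGroup (N j)] [∀ j, Module R (N j)]
  (x y : R)

/-- the cohomology of a finite product of complexes (with scalar differentials). -/
noncomputable def perHPi :
    perH (x • (LinearMap.id : (∀ j, N j) →ₗ[R] (∀ j, N j))) (y • LinearMap.id) →ₗ[R]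
      (∀ j, perH (x • (LinearMap.id : N j →ₗ[R] N j)) (y • LinearMap.id)) :=
  Submodule.liftQ _ (LinearMap.pi (fun j =>
    (Submodule.mkQ _) ∘ₗ (LinearMap.codRestrict (ker (x • (LinearMap.id : N j →ₗ[R] N j)))
      ((LinearMap.proj j) ∘ₗ (ker (x • (LinearMap.id : (∀ j, N j) →ₗ[R] (∀ j, N j)))).subtype)
      (by
        rintro ⟨n, hn⟩
        rw [mem_ker] at hn ⊢
        have := congrFun hn j
        simpa using this))))
    (by
      rintro ⟨n, hn⟩ hmem
      rw [mem_submoduleOf_iff] at hmem
      obtain ⟨m, hm⟩ := hmem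
      rw [mem_ker]
      ext j
      simp only [LinearMap.pi_apply, LinearMap.comp_apply, Submodule.mkQ_apply, Pi.zero_apply]
      rw [Submodule.Quotient.mk_eq_zero, mem_submoduleOf_iff]
      refine ⟨m j, ?_⟩
      have := congrFun hm j
      simpa using this)

theorem perHPi_bijective : Bijective (perHPi N x y) := by
  constructor
  · rw [← LinearMap.ker_eq_bot, eq_bot_iff]
    intro z hz
    obtain ⟨⟨n, hn⟩, rfl⟩ := Submodule.Quotient.mk_surjective _ z
    rw [mem_ker] at hz
    rw [Submodule.mem_bot, Submodule.Quotient.mk_eq_zero, mem_submoduleOf_iff]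
    have h1 : ∀ j, ∃ m : N j, y • m = n j := by
      intro j
      have := congrFun hz j
      simp only [perHPi, Submodule.liftQ_apply, LinearMap.pi_apply, LinearMap.comp_apply,
        Submodule.mkQ_apply, Pi.zero_apply] at this
      rw [Submodule.Quotient.mk_eq_zero, mem_submoduleOf_iff] at this
      obtain ⟨m, hm⟩ := this
      exact ⟨m, by simpa using hm⟩
    choose m hm using h1
    refine ⟨m, ?_⟩
    ext j
    simpa using hm j
  · intro w
    have h1 : ∀ j, ∃ n : N j, x • n = 0 ∧
        ∃ hn : n ∈ ker (x • (LinearMap.id : N j →ₗ[R] N j)),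
          (Submodule.Quotient.mk ⟨n, hn⟩ : perH (x • (LinearMap.id : N j →ₗ[R] N j))
            (y • LinearMap.id)) = w j := by
      intro j
      obtain ⟨⟨n, hn⟩, hw⟩ := Submodule.Quotient.mk_surjective _ (w j)
      refine ⟨n, by simpa using hn, hn, hw⟩
    choose n hn0 hn hw using h1
    have hmem : n ∈ ker (x • (LinearMap.id : (∀ j, N j) →ₗ[R] (∀ j, N j))) := by
      rw [mem_ker]
      ext j
      simpa using hn0 j
    refine ⟨Submodule.Quotient.mk ⟨n, hmem⟩, ?_⟩
    ext j
    rw [← hw j]
    rfl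

theorem length_perH_pi :
    Module.length R (perH (x • (LinearMap.id : (∀ j, N j) →ₗ[R] (∀ j, N j))) (y • LinearMap.id)) =
      ∑ j, Module.length R (perH (x • (LinearMap.id : N j →ₗ[R] N j)) (y • LinearMap.id)) := by
  rw [(LinearEquiv.ofBijective (perHPi N x y) (perHPi_bijective N x y)).length_eq,
    Module.length_pi_of_fintype]

theorem finCoh_of_pi
    (h : FinCoh R (x • (LinearMap.id : (∀ j, N j) →ₗ[R] (∀ j, N j))) (y • LinearMap.id)) (j : J) :
    FinCoh R (x • (LinearMap.id : N j →ₗ[R] N j)) (y • LinearMap.id) := by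
  obtain ⟨h0, h1⟩ := h
  rw [length_perH_pi] at h0 h1
  constructor
  · exact lt_of_le_of_lt (Finset.single_le_sum (f := fun j =>
      Module.length R (perH (x • (LinearMap.id : N j →ₗ[R] N j)) (y • LinearMap.id)))
      (fun _ _ => bot_le) (Finset.mem_univ j)) h0
  · exact lt_of_le_of_lt (Finset.single_le_sum (f := fun j =>
      Module.length R (perH (y • (LinearMap.id : N j →ₗ[R] N j)) (x • LinearMap.id)))
      (fun _ _ => bot_le) (Finset.mem_univ j)) h1

theorem herbrand_pi
    (h : FinCoh R (x • (LinearMap.id : (∀ j, N j) →ₗ[R] (∀ j, N j))) (y • LinearMap.id)) :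
    herbrand R (x • (LinearMap.id : (∀ j, N j) →ₗ[R] (∀ j, N j))) (y • LinearMap.id) =
      ∑ j, herbrand R (x • (LinearMap.id : N j →ₗ[R] N j)) (y • LinearMap.id) := by
  have hj := finCoh_of_pi N x y h
  unfold herbrand
  rw [length_perH_pi, length_perH_pi, Finset.sum_sub_distrib]
  congr 1
  · rw [ENat.toNat_sum (fun j _ => (hj j).1.ne)]
    push_cast
    rfl
  · rw [ENat.toNat_sum (fun j _ => (hj j).2.ne)]
    push_cast
    rfl

end Pi

end Groth.Agent.Lib.Helper18.KeyA
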