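import Mathlib
import Groth.Prelude.Def_CycAlg
import Groth.Agent.Lib.Helper18.KeyA

set_option autoImplicit false
set_option linter.style.haveILetI false
set_option linter.unusedSectionVars false

/-! Key lemma (S1851), part B: the effect of multiplying a differential by an element outside
the prime `q`, for modules supported on `{q, 𝔪}`. -/

namespace Groth.Agent.Lib.Helper18.KeyB

open Function LinearMap CycAlg IsLocalRing
open scoped Pointwise
open Groth.Agent.Lib.Helper26.Herb1 Groth.Agent.Lib.Helper26.Herb2 Groth.Agent.Lib.Helper26.Herb3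
open Groth.Agent.Lib.Helper12.MultFormula

universe u v

variable {R : Type u} [CommRing R] [IsNoetherianRing R] [IsLocalRing R]
  {M : Type v} [AddCommGroup M] [Module R M] [Module.Finite R M]

/-- `half_1832` with the hypothesis in the form `Cond`. -/
theorem half_1832' (φ ψ : M →ₗ[R] M) (hper : IsPeriodic φ ψ) (hfin : FinCoh R φ ψ) (x : R)
    (hC : Cond x ↥(range φ)) :
    FinCoh R (x • φ) ψ ∧ herbrand R (x • φ) ψ = herbrand R φ ψ -
      herbrand R (0 : ↥(range φ) →ₗ[R] ↥(range φ)) (x • LinearMap.id) := by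
  have hk := length_ker_lt_top hC
  have hq := length_quot_lt_top hC
  have e0 := length_H0_smul φ ψ x hper
  have e1 := length_H1_smul φ ψ x hper
  have z0 := length_perH_zero_smul (I := ↥(range φ)) x
  have z1 := length_perH_smul_zero (I := ↥(range φ)) x
  obtain ⟨f0, f1⟩ := hfin
  rw [herbrand, herbrand, herbrand, FinCoh, e0, e1, z0, z1]
  change Module.length R (↥(range φ) ⧸ x • (⊤ : Submodule R ↥(range φ))) < ⊤ at hq
  generalize Module.length R (perH φ ψ) = L0 at *
  generalize Module.length R (perH ψ φ) = L1 at *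
  generalize Module.length R (ker (x • (LinearMap.id : ↥(range φ) →ₗ[R] ↥(range φ)))) = K at *
  generalize Module.length R (↥(range φ) ⧸ x • (⊤ : Submodule R ↥(range φ))) = Q at *
  lift L0 to ℕ using f0.ne
  lift L1 to ℕ using f1.ne
  lift K to ℕ using hk.ne
  lift Q to ℕ using hq.ne
  refine ⟨⟨?_, ?_⟩, ?_⟩
  · rw [← Nat.cast_add]; exact ENat.natCast_lt_top _
  · rw [← Nat.cast_add]; exact ENat.natCast_lt_top _
  · simp only [← Nat.cast_add, ENat.toNat_natCast]
    push_cast
    ring

variable (q : PrimeSpectrum R) (hq : q ≠ closedPoint R)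

/-- the integer `ord_{R/q}(x)`. -/
noncomputable def ordq (x : R) : ℤ :=
  ((Ring.ord (R ⧸ q.asIdeal) (Ideal.Quotient.mk q.asIdeal x)).toNat : ℤ)

/-- the integer `length_{R_q}(N_q)`. -/
noncomputable def ellq (N : Type v) [AddCommGroup N] [Module R N] : ℤ :=
  ((ell q.asIdeal N).toNat : ℤ)

include hq in
theorem herbrand_zero_smul (N : Type v) [AddCommGroup N] [Module R N] [Module.Finite R N]
    (hS : ∀ P ∈ Module.support R N, P = closedPoint R ∨ P = q) (x : R) (hx : x ∉ q.asIdeal) :
    herbrand R (0 : N →ₗ[R] N) (x • LinearMap.id) = ellq q N * ordq q x := by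
  classical
  have hC : Cond x N := by
    intro P hP hxP
    rcases hS P hP with h | h
    · exact h
    · exact absurd (h ▸ hxP) hx
  have hform := formula (t := x) (T := {q})
    (by
      rw [Finset.mem_singleton]
      exact fun h => hq h.symm)
    (by
      intro p hp p' hp' _
      rw [Finset.mem_singleton] at hp hp'
      rw [hp, hp'])
    N hC
    (by
      intro P hP
      rcases hS P hP with h | h
      · exact Or.inl h
      · exact Or.inr (by rw [Finset.mem_singleton]; exact h))
  have hk := length_ker_lt_top hC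
  have hQ := length_quot_lt_top hC
  rw [wsum, Finset.sum_singleton, Groth.Agent.Lib.Helper26.SuppMult.wt_eq_ord] at hform
  rw [herbrand, length_perH_zero_smul, length_perH_smul_zero]
  change Module.length R (QuotSMulTop x N) = _ at hform
  change ((Module.length R (QuotSMulTop x N)).toNat : ℤ) - _ = _
  rw [hform, ellq, ordq]
  rw [hform] at hQ
  generalize Module.length R (ker (x • (LinearMap.id : N →ₗ[R] N))) = K at *
  generalize ell q.asIdeal N = E at *
  generalize Ring.ord (R ⧸ q.asIdeal) (Ideal.Quotient.mk q.asIdeal x) = W at *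
  lift K to ℕ using hk.ne
  have hEW : E * W ≠ ⊤ := by
    intro h
    rw [h] at hQ
    simp at hQ
  rw [ENat.toNat_add (ENat.coe_ne_top K) hEW, ENat.toNat_coe, ENat.toNat_mul]
  push_cast
  ring

include hq in
/-- **Lemma H**. -/
theorem herbrand_smul_left (hS : ∀ P ∈ Module.support R M, P = closedPoint R ∨ P = q)
    (φ ψ : M →ₗ[R] M) (hper : IsPeriodic φ ψ) (hfin : FinCoh R φ ψ) (x : R)
    (hx : x ∉ q.asIdeal) :
    FinCoh R (x • φ) ψ ∧ herbrand R (x • φ) ψ = herbrand R φ ψ - ellq q ↥(range φ) * ordq q x := by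
  have hS' : ∀ P ∈ Module.support R ↥(range φ), P = closedPoint R ∨ P = q := fun P hP =>
    hS P (Module.support_subset_of_injective (range φ).subtype (Submodule.injective_subtype _) hP)
  have hC : Cond x ↥(range φ) := by
    intro P hP hxP
    rcases hS' P hP with h | h
    · exact h
    · exact absurd (h ▸ hxP) hx
  obtain ⟨h1, h2⟩ := half_1832' φ ψ hper hfin x hC
  refine ⟨h1, ?_⟩
  rw [h2, herbrand_zero_smul q hq ↥(range φ) hS' x hx]

include hq in
theorem herbrand_smul_right (hS : ∀ P ∈ Module.support R M, P = closedPoint R ∨ P = q)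
    (φ ψ : M →ₗ[R] M) (hper : IsPeriodic φ ψ) (hfin : FinCoh R φ ψ) (x : R)
    (hx : x ∉ q.asIdeal) :
    FinCoh R φ (x • ψ) ∧ herbrand R φ (x • ψ) = herbrand R φ ψ + ellq q ↥(range ψ) * ordq q x := by
  obtain ⟨h1, h2⟩ := herbrand_smul_left q hq hS ψ φ (per_symm hper) ⟨hfin.2, hfin.1⟩ x hx
  refine ⟨⟨h1.2, h1.1⟩, ?_⟩
  have e1 : herbrand R φ (x • ψ) = - herbrand R (x • ψ) φ := by
    rw [herbrand, herbrand]; ring
  have e2 : herbrand R ψ φ = - herbrand R φ ψ := by
    rw [herbrand, herbrand]; ring
  rw [e1, h2, e2]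
  ring

end Groth.Agent.Lib.Helper18.KeyB
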