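import Mathlib
import Groth.Prelude.Def_CycAlg
import Groth.Agent.Lib.Helper18.KeyB

set_option autoImplicit false
set_option linter.style.haveILetI false
set_option linter.unusedSectionVars false

/-! Key lemma (S1851), part C: the module `R ⧸ I_q`, `I_q = ker (R → R_q / t R_q)`. -/

namespace Groth.Agent.Lib.Helper18.KeyC

open Function LinearMap CycAlg IsLocalRing
open scoped Pointwise
open Groth.Agent.Lib.Helper12.MultFormula

universe u v

section Basic

variable {R : Type u} [CommRing R] (q : PrimeSpectrum R) (t : R)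

/-- the contraction of `t R_q`. -/
def Iq : Ideal R :=
  Ideal.comap (algebraMap R (Localization.AtPrime q.asIdeal))
    (Ideal.span {algebraMap R (Localization.AtPrime q.asIdeal) t})

theorem mem_Iq_iff' (r : R) : r ∈ Iq q t ↔
    algebraMap R (Localization.AtPrime q.asIdeal) r ∈
      Ideal.span {algebraMap R (Localization.AtPrime q.asIdeal) t} := Iff.rfl

theorem self_mem_Iq : t ∈ Iq q t := by
  rw [mem_Iq_iff']
  exact Ideal.mem_span_singleton_self _

theorem mem_Iq_iff (r : R) : r ∈ Iq q t ↔ ∃ s : R, s ∉ q.asIdeal ∧ s * r ∈ Ideal.span {t} := by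
  rw [mem_Iq_iff']
  constructor
  · intro h
    obtain ⟨y, hy⟩ := Ideal.mem_span_singleton'.mp h
    obtain ⟨c, s, rfl⟩ := IsLocalization.exists_mk'_eq q.asIdeal.primeCompl y
    have h1 : algebraMap R (Localization.AtPrime q.asIdeal) (c * t) =
        algebraMap R (Localization.AtPrime q.asIdeal) (r * s) := by
      rw [map_mul, map_mul, ← hy]
      rw [mul_comm (IsLocalization.mk' _ c s), mul_assoc, IsLocalization.mk'_spec]
      ring
    obtain ⟨s', hs'⟩ := (IsLocalization.eq_iff_exists q.asIdeal.primeCompl _).mp h1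
    refine ⟨s' * s, (s' * s).2, ?_⟩
    rw [Ideal.mem_span_singleton']
    refine ⟨s' * c, ?_⟩
    rw [mul_assoc, hs']
    push_cast
    ring
  · rintro ⟨s, hs, h⟩
    obtain ⟨c, hc⟩ := Ideal.mem_span_singleton'.mp h
    have hu : IsUnit (algebraMap R (Localization.AtPrime q.asIdeal) s) :=
      IsLocalization.map_units _ (⟨s, hs⟩ : q.asIdeal.primeCompl)
    obtain ⟨w, hw⟩ := hu
    rw [Ideal.mem_span_singleton']
    refine ⟨(w⁻¹ : (Localization.AtPrime q.asIdeal)ˣ) * algebraMap R _ c, ?_⟩
    rw [mul_assoc, ← map_mul, hc, map_mul, ← hw, ← mul_assoc, Units.inv_mul, one_mul]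

theorem Iq_le : Iq q t ≤ q.asIdeal ∨ t ∉ q.asIdeal := by
  by_cases ht : t ∈ q.asIdeal
  · left
    intro r hr
    obtain ⟨s, hs, h⟩ := (mem_Iq_iff q t r).mp hr
    have h1 : s * r ∈ q.asIdeal := (Ideal.span_singleton_le_iff_mem _ |>.mpr ht) h
    exact (q.2.mem_or_mem h1).resolve_left hs
  · exact Or.inr ht

theorem map_Iq : (Iq q t).map (algebraMap R (Localization.AtPrime q.asIdeal)) =
    Ideal.span {algebraMap R (Localization.AtPrime q.asIdeal) t} :=
  IsLocalization.map_comap q.asIdeal.primeCompl _ _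

/-- the length of the localization of a cyclic module. -/
theorem ell_quot (K : Ideal R) :
    ell q.asIdeal (R ⧸ K) = Module.length (Localization.AtPrime q.asIdeal)
      (Localization.AtPrime q.asIdeal ⧸ K.map (algebraMap R (Localization.AtPrime q.asIdeal))) := by
  let S := q.asIdeal.primeCompl
  let L := Localization.AtPrime q.asIdeal
  let f := Submodule.toLocalizedQuotient' L S (Algebra.linearMap R L) K
  let e1 : LocalizedModule S (R ⧸ K) ≃ₗ[R] (L ⧸ Submodule.localized' L S (Algebra.linearMap R L) K) :=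
    IsLocalizedModule.iso S f
  let e2 : LocalizedModule S (R ⧸ K) ≃ₗ[L] (L ⧸ Submodule.localized' L S (Algebra.linearMap R L) K) :=
    e1.extendScalarsOfIsLocalization S L
  rw [ell, e2.length_eq]
  exact (Submodule.quotEquivOfEq _ _ (Ideal.localized'_eq_map L S K)).length_eq

end Basic

section Range

variable {R : Type u} [CommRing R] (q : PrimeSpectrum R) (t : R)

/-- the localized length of `x • (R ⧸ I_q)`. -/
theorem ell_range_smul (x : R) (z : Localization.AtPrime q.asIdeal)
    (hx : algebraMap R (Localization.AtPrime q.asIdeal) x ∈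
      nonZeroDivisors (Localization.AtPrime q.asIdeal))
    (hz : algebraMap R (Localization.AtPrime q.asIdeal) x * z =
      algebraMap R (Localization.AtPrime q.asIdeal) t) :
    ell q.asIdeal ↥(range (x • (LinearMap.id : (R ⧸ Iq q t) →ₗ[R] (R ⧸ Iq q t)))) =
      Ring.ord (Localization.AtPrime q.asIdeal) z := by
  let L := Localization.AtPrime q.asIdeal
  let g : R →ₗ[R] (R ⧸ Iq q t) := (x • (LinearMap.id : (R ⧸ Iq q t) →ₗ[R] (R ⧸ Iq q t))) ∘ₗ
    (Submodule.mkQ (Iq q t))
  have hrange : range g = range (x • (LinearMap.id : (R ⧸ Iq q t) →ₗ[R] (R ⧸ Iq q t))) := by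
    rw [LinearMap.range_comp, Submodule.range_mkQ, Submodule.map_top]
  let K : Ideal R := ker g
  have hK : ∀ r : R, r ∈ K ↔ x * r ∈ Iq q t := by
    intro r
    show g r = 0 ↔ _
    have : g r = Ideal.Quotient.mk (Iq q t) (x * r) := by
      show x • (Ideal.Quotient.mk (Iq q t) r) = _
      rw [Algebra.smul_def, Ideal.Quotient.algebraMap_eq, ← map_mul]
    rw [this, Ideal.Quotient.eq_zero_iff_mem]
  let e : (R ⧸ K) ≃ₗ[R] ↥(range (x • (LinearMap.id : (R ⧸ Iq q t) →ₗ[R] (R ⧸ Iq q t)))) :=
    (LinearMap.quotKerEquivRange g).trans (LinearEquiv.ofEq _ _ hrange)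
  rw [← ell_congr q.asIdeal e, ell_quot]
  have hmap : K.map (algebraMap R L) = Ideal.span {z} := by
    apply le_antisymm
    · rw [Ideal.map_le_iff_le_comap]
      intro r hr
      rw [Ideal.mem_comap, Ideal.mem_span_singleton']
      have h1 := (hK r).mp hr
      rw [mem_Iq_iff', map_mul, Ideal.mem_span_singleton'] at h1
      obtain ⟨w, hw⟩ := h1
      refine ⟨w, ?_⟩
      rw [← hz] at hw
      have h0 : algebraMap R L x * (w * z - algebraMap R L r) = 0 := by
        linear_combination hw
      exact sub_eq_zero.mp ((mem_nonZeroDivisors_iff.mp hx).1 _ h0)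
    · rw [Ideal.span_singleton_le_iff_mem]
      obtain ⟨r₀, s₀, rfl⟩ := IsLocalization.exists_mk'_eq q.asIdeal.primeCompl z
      have hr₀ : r₀ ∈ K := by
        rw [hK, mem_Iq_iff', map_mul, Ideal.mem_span_singleton']
        refine ⟨algebraMap R L s₀, ?_⟩
        rw [← hz]
        have := IsLocalization.mk'_spec L r₀ s₀
        linear_combination (algebraMap R L x) * this
      have h2 : IsLocalization.mk' L r₀ s₀ = IsLocalization.mk' L 1 s₀ * algebraMap R L r₀ := by
        rw [mul_comm, IsLocalization.mul_mk'_eq_mk'_of_mul, mul_one]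
      rw [h2]
      exact Ideal.mul_mem_left _ _ (Ideal.mem_map_of_mem _ hr₀)
  rw [hmap]
  rfl

end Range

end Groth.Agent.Lib.Helper18.KeyC
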