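import Mathlib
import Groth.Prelude.Def_CycAlg
import Groth.Agent.Lib.Helper18.KeyC

set_option autoImplicit false
set_option linter.style.haveILetI false
set_option linter.unusedSectionVars false

/-! Key lemma (S1851), part D: the local computation of the Herbrand quotient of `R ⧸ I_q`. -/

namespace Groth.Agent.Lib.Helper18.KeyD

open Function LinearMap CycAlg IsLocalRing
open scoped Pointwise
open Groth.Agent.Lib.Helper12.MultFormula
open Groth.Agent.Lib.Helper18.KeyA Groth.Agent.Lib.Helper18.KeyB Groth.Agent.Lib.Helper18.KeyC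
open Groth.Agent.Lib.Helper26.Herb1

universe u v

variable {R : Type u} [CommRing R] [IsNoetherianRing R] [IsLocalRing R]

/-- finite length criterion: support in `{q, 𝔪}` and every element killed by something outside
`q`. -/
theorem length_lt_top_of_torsion (q : PrimeSpectrum R) (H : Type v) [AddCommGroup H] [Module R H]
    [Module.Finite R H]
    (hS : ∀ P ∈ Module.support R H, P = closedPoint R ∨ P = q)
    (htors : ∀ h : H, ∃ s : R, s ∉ q.asIdeal ∧ s • h = 0) : Module.length R H < ⊤ := by
  rw [lt_top_iff_ne_top, Module.length_ne_top_iff]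
  apply isFiniteLength_of_support
  intro P hP
  rcases hS P hP with h | h
  · exact h
  · exfalso
    rw [h, Module.mem_support_iff_exists_annihilator] at hP
    obtain ⟨m, hm⟩ := hP
    obtain ⟨s, hs, hsm⟩ := htors m
    apply hs
    apply hm
    rw [Submodule.mem_annihilator_span_singleton]
    exact hsm

variable (q : PrimeSpectrum R) (t : R)

local notation "L" => Localization.AtPrime q.asIdeal
local notation "N" => R ⧸ Iq q t

theorem smul_id_congr {x y : R} (h : algebraMap R L x = algebraMap R L y) :
    x • (LinearMap.id : N →ₗ[R] N) = y • LinearMap.id := by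
  apply LinearMap.ext
  intro n
  obtain ⟨r, rfl⟩ := Ideal.Quotient.mk_surjective n
  simp only [LinearMap.smul_apply, LinearMap.id_apply]
  rw [Algebra.smul_def, Algebra.smul_def, Ideal.Quotient.algebraMap_eq, ← map_mul, ← map_mul,
    Ideal.Quotient.eq, mem_Iq_iff', map_sub, map_mul, map_mul, h, sub_self]
  exact Ideal.zero_mem _

theorem smul_id_eq_zero {x : R} (h : algebraMap R L x ∈ Ideal.span {algebraMap R L t}) :
    x • (LinearMap.id : N →ₗ[R] N) = 0 := by
  apply LinearMap.ext
  intro n
  obtain ⟨r, rfl⟩ := Ideal.Quotient.mk_surjective n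
  simp only [LinearMap.smul_apply, LinearMap.id_apply, LinearMap.zero_apply]
  rw [Algebra.smul_def, Ideal.Quotient.algebraMap_eq, ← map_mul, Ideal.Quotient.eq_zero_iff_mem,
    mem_Iq_iff', map_mul]
  exact Ideal.mul_mem_right _ _ h

/-- exactness after localization gives finite length cohomology. -/
theorem length_perH_lt_top
    (hS : ∀ P ∈ Module.support R N, P = closedPoint R ∨ P = q) (x y : R)
    (hx : algebraMap R L x ∈ nonZeroDivisors L)
    (hxy : Ideal.span {algebraMap R L x * algebraMap R L y} = Ideal.span {algebraMap R L t}) :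
    Module.length R (perH (x • (LinearMap.id : N →ₗ[R] N)) (y • LinearMap.id)) < ⊤ := by
  apply length_lt_top_of_torsion q
  · intro P hP
    apply hS P
    have h1 := Module.support_subset_of_surjective
      (Submodule.mkQ ((range (y • (LinearMap.id : N →ₗ[R] N))).submoduleOf
        (ker (x • (LinearMap.id : N →ₗ[R] N))))) (Submodule.mkQ_surjective _) hP
    exact Module.support_subset_of_injective (ker (x • (LinearMap.id : N →ₗ[R] N))).subtype
      (Submodule.injective_subtype _) h1
  · intro h
    obtain ⟨⟨n, hn⟩, rfl⟩ := Submodule.Quotient.mk_surjective _ h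
    obtain ⟨r, rfl⟩ := Ideal.Quotient.mk_surjective n
    rw [mem_ker, LinearMap.smul_apply, LinearMap.id_apply, Algebra.smul_def,
      Ideal.Quotient.algebraMap_eq, ← map_mul, Ideal.Quotient.eq_zero_iff_mem, mem_Iq_iff',
      map_mul, ← hxy, Ideal.mem_span_singleton'] at hn
    obtain ⟨w, hw⟩ := hn
    have h0 : algebraMap R L x * (w * algebraMap R L y - algebraMap R L r) = 0 := by
      linear_combination hw
    have h1 : w * algebraMap R L y = algebraMap R L r :=
      sub_eq_zero.mp ((mem_nonZeroDivisors_iff.mp hx).1 _ h0)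
    obtain ⟨c, s, rfl⟩ := IsLocalization.exists_mk'_eq q.asIdeal.primeCompl w
    have h2 : algebraMap R L (c * y) = algebraMap R L (r * s) := by
      rw [map_mul, map_mul, ← h1]
      have := IsLocalization.mk'_spec L c s
      linear_combination (algebraMap R L y) * this.symm
    obtain ⟨s', hs'⟩ := (IsLocalization.eq_iff_exists q.asIdeal.primeCompl _).mp h2
    refine ⟨s' * s, (s' * s).2, ?_⟩
    rw [← Submodule.Quotient.mk_smul, Submodule.Quotient.mk_eq_zero, mem_submoduleOf_iff]
    refine ⟨Ideal.Quotient.mk _ (s' * c), ?_⟩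
    show y • (Ideal.Quotient.mk (Iq q t) ((s' : R) * c)) =
      ((s' * s : q.asIdeal.primeCompl) : R) • (Ideal.Quotient.mk (Iq q t) r)
    rw [Algebra.smul_def, Algebra.smul_def, Ideal.Quotient.algebraMap_eq, ← map_mul, ← map_mul]
    congr 1
    push_cast
    linear_combination hs'

end Groth.Agent.Lib.Helper18.KeyD
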