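import Mathlib
import Groth.Prelude.Def_CycAlg
import Groth.Agent.Lib.Helper18.KeyD

set_option autoImplicit false
set_option linter.style.haveILetI false
set_option linter.unusedSectionVars false

/-! Key lemma (S1851), part E: the Herbrand quotient of `(R ⧸ I_q, a, b)`. -/

namespace Groth.Agent.Lib.Helper18.KeyE

open Function LinearMap CycAlg IsLocalRing
open scoped Pointwise
open Groth.Agent.Lib.Helper12.MultFormula
open Groth.Agent.Lib.Helper18.KeyA Groth.Agent.Lib.Helper18.KeyB Groth.Agent.Lib.Helper18.KeyC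
  Groth.Agent.Lib.Helper18.KeyD
open Groth.Agent.Lib.Helper26.Herb1

universe u

variable {R : Type u} [CommRing R] [IsNoetherianRing R] [IsLocalRing R]

theorem toNat_nsmul (k : ℕ) (m : ℕ∞) : (((k • m : ℕ∞)).toNat : ℤ) = k * (m.toNat : ℤ) := by
  rw [nsmul_eq_mul, ENat.toNat_mul, ENat.toNat_coe]
  push_cast
  rfl

variable (q : PrimeSpectrum R) (hq : q ≠ closedPoint R) (a b : R)

local notation "L" => Localization.AtPrime q.asIdeal
local notation "N" => R ⧸ Iq q (a * b)

include hq in
theorem local_herbrand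
    (hS : ∀ P ∈ Module.support R N, P = closedPoint R ∨ P = q)
    (ht : a * b ∈ q.asIdeal)
    (haL : algebraMap R L a ∈ nonZeroDivisors L) (hbL : algebraMap R L b ∈ nonZeroDivisors L)
    (p u v s : R) (e f : ℕ) (hu : u ∉ q.asIdeal) (hv : v ∉ q.asIdeal) (hs : s ∉ q.asIdeal)
    (hp : algebraMap R L p ∈ nonZeroDivisors L)
    (hfa : algebraMap R L (s * a) = algebraMap R L (u * p ^ e))
    (hfb : algebraMap R L (s * b) = algebraMap R L (v * p ^ f)) :
    FinCoh R (a • (LinearMap.id : N →ₗ[R] N)) (b • LinearMap.id) ∧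
      herbrand R (a • (LinearMap.id : N →ₗ[R] N)) (b • LinearMap.id) =
        - ((Ring.ord L (algebraMap R L p)).toNat : ℤ) *
          (f * (ordq q u - ordq q s) - e * (ordq q v - ordq q s)) := by
  have hunit : ∀ x : R, x ∉ q.asIdeal → IsUnit (algebraMap R L x) := fun x hx =>
    IsLocalization.map_units L (⟨x, hx⟩ : q.asIdeal.primeCompl)
  obtain ⟨U, hU⟩ := hunit u hu
  obtain ⟨V, hV⟩ := hunit v hv
  obtain ⟨S, hS'⟩ := hunit s hs
  set A := algebraMap R L a with hA
  set B := algebraMap R L b with hB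
  set P := algebraMap R L p with hP
  rw [map_mul, map_mul, map_pow, ← hU, ← hS'] at hfa
  rw [map_mul, map_mul, map_pow, ← hV, ← hS'] at hfb
  -- A = S⁻¹ U P^e, B = S⁻¹ V P^f
  have hA' : A = ((S⁻¹ * U : Lˣ) : L) * P ^ e := by
    have : (S : L) * A = (S : L) * (((S⁻¹ * U : Lˣ) : L) * P ^ e) := by
      rw [hfa]; push_cast; rw [← mul_assoc, ← mul_assoc, Units.mul_inv, one_mul]
    exact S.isUnit.mul_left_cancel this
  have hB' : B = ((S⁻¹ * V : Lˣ) : L) * P ^ f := by
    have : (S : L) * B = (S : L) * (((S⁻¹ * V : Lˣ) : L) * P ^ f) := by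
      rw [hfb]; push_cast; rw [← mul_assoc, ← mul_assoc, Units.mul_inv, one_mul]
    exact S.isUnit.mul_left_cancel this
  set W : Lˣ := (S⁻¹ * U) * (S⁻¹ * V) with hW
  have hT : algebraMap R L (a * b) = (W : L) * P ^ (e + f) := by
    rw [map_mul, ← hA, ← hB, hA', hB', hW, pow_add]; push_cast; ring
  -- n = e + f > 0
  have hn : 0 < e + f := by
    by_contra h0
    have he : e = 0 := by omega
    have hf : f = 0 := by omega
    rw [he, hf, pow_zero, mul_one] at hT
    have h1 : IsUnit (algebraMap R L (a * b)) := hT ▸ W.isUnit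
    rw [IsLocalization.AtPrime.isUnit_to_map_iff L q.asIdeal] at h1
    exact h1 ht
  have hordA : Ring.ord L A = e • Ring.ord L P := by
    rw [hA', Ring.ord_mul_of_isUnit_left (Units.isUnit _), Ring.ord_pow hp]
  have hordB : Ring.ord L B = f • Ring.ord L P := by
    rw [hB', Ring.ord_mul_of_isUnit_left (Units.isUnit _), Ring.ord_pow hp]
  -- basic facts about the maps
  have hμ0 : ∀ x : R, algebraMap R L x ∈ Ideal.span {algebraMap R L (a * b)} →
      x • (LinearMap.id : N →ₗ[R] N) = 0 := fun x hx => smul_id_eq_zero q (a * b) hx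
  have hpn0 : (p ^ (e + f)) • (LinearMap.id : N →ₗ[R] N) = 0 := by
    apply hμ0
    rw [Ideal.mem_span_singleton', hT, map_pow]
    refine ⟨((W⁻¹ : Lˣ) : L), ?_⟩
    rw [← mul_assoc, Units.inv_mul, one_mul]
  have hpow : ∀ k : ℕ, (p • (LinearMap.id : N →ₗ[R] N)) ^ k = (p ^ k) • LinearMap.id := by
    intro k
    rw [← Module.End.one_eq_id, smul_pow, one_pow]
  have hspanp : ∀ k l : ℕ, k + l = e + f →
      Ideal.span {algebraMap R L (p ^ k) * algebraMap R L (p ^ l)} =
        Ideal.span {algebraMap R L (a * b)} := by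
    intro k l hkl
    rw [hT, ← map_mul, ← pow_add, hkl, map_pow, mul_comm (W : L),
      Ideal.span_singleton_mul_right_unit W.isUnit]
  have hpk : ∀ k : ℕ, algebraMap R L (p ^ k) ∈ nonZeroDivisors L := fun k => by
    rw [map_pow]; exact pow_mem hp k
  -- S1831
  have hfin31 : Module.length R (perH (p • (LinearMap.id : N →ₗ[R] N))
      ((p • (LinearMap.id : N →ₗ[R] N)) ^ (e + f - 1))) < ⊤ := by
    rw [hpow]
    have := length_perH_lt_top q (a * b) hS (p ^ 1) (p ^ (e + f - 1)) (hpk 1)
      (hspanp 1 (e + f - 1) (by omega))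
    rwa [pow_one] at this
  obtain ⟨hfc0, hh0⟩ := Groth.Agent.Lib.Helper26.Herb4.main_1831
    (p • (LinearMap.id : N →ₗ[R] N)) (e + f) hn (by rw [hpow]; exact hpn0) hfin31 e (by omega)
  rw [hpow, hpow, Nat.add_sub_cancel_left] at hfc0 hh0
  -- periodicity
  have hper0 : IsPeriodic ((p ^ e) • (LinearMap.id : N →ₗ[R] N)) ((p ^ f) • LinearMap.id) := by
    constructor
    · rw [LinearMap.smul_comp, LinearMap.comp_smul, LinearMap.id_comp, smul_smul, ← pow_add]
      exact hpn0
    · rw [LinearMap.smul_comp, LinearMap.comp_smul, LinearMap.id_comp, smul_smul, ← pow_add,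
        add_comm]
      exact hpn0
  have hSN : ∀ P ∈ Module.support R N, P = closedPoint R ∨ P = q := hS
  obtain ⟨hfc1, hh1⟩ := herbrand_smul_left q hq hSN _ _ hper0 hfc0 u hu
  have hper1 : IsPeriodic (u • (p ^ e) • (LinearMap.id : N →ₗ[R] N)) ((p ^ f) • LinearMap.id) := by
    constructor
    · rw [LinearMap.smul_comp, hper0.1, smul_zero]
    · rw [LinearMap.comp_smul, hper0.2, smul_zero]
  obtain ⟨hfc2, hh2⟩ := herbrand_smul_right q hq hSN _ _ hper1 hfc1 v hv
  -- the complex (a, b)
  have hfcab : FinCoh R (a • (LinearMap.id : N →ₗ[R] N)) (b • LinearMap.id) := by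
    constructor
    · exact length_perH_lt_top q (a * b) hS a b haL (by rw [map_mul])
    · exact length_perH_lt_top q (a * b) hS b a hbL (by rw [map_mul, mul_comm])
  have hab0 : (a * b) • (LinearMap.id : N →ₗ[R] N) = 0 :=
    hμ0 _ (Ideal.mem_span_singleton_self _)
  have hperab : IsPeriodic (a • (LinearMap.id : N →ₗ[R] N)) (b • LinearMap.id) := by
    constructor
    · rw [LinearMap.smul_comp, LinearMap.comp_smul, LinearMap.id_comp, smul_smul]
      exact hab0
    · rw [LinearMap.smul_comp, LinearMap.comp_smul, LinearMap.id_comp, smul_smul, mul_comm b a]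
      exact hab0
  obtain ⟨hfc3, hh3⟩ := herbrand_smul_left q hq hSN _ _ hperab hfcab s hs
  have hper3 : IsPeriodic (s • a • (LinearMap.id : N →ₗ[R] N)) (b • LinearMap.id) := by
    constructor
    · rw [LinearMap.smul_comp, hperab.1, smul_zero]
    · rw [LinearMap.comp_smul, hperab.2, smul_zero]
  obtain ⟨hfc4, hh4⟩ := herbrand_smul_right q hq hSN _ _ hper3 hfc3 s hs
  -- the two complexes agree
  have heq1 : s • a • (LinearMap.id : N →ₗ[R] N) = u • (p ^ e) • LinearMap.id := by
    rw [smul_smul, smul_smul]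
    apply smul_id_congr
    rw [map_mul, map_mul, map_pow, ← hU, ← hS']
    exact hfa
  have heq2 : s • b • (LinearMap.id : N →ₗ[R] N) = v • (p ^ f) • LinearMap.id := by
    rw [smul_smul, smul_smul]
    apply smul_id_congr
    rw [map_mul, map_mul, map_pow, ← hV, ← hS']
    exact hfb
  -- the lengths
  have hl1 : ellq q ↥(range ((p ^ e) • (LinearMap.id : N →ₗ[R] N))) =
      f * ((Ring.ord L P).toNat : ℤ) := by
    rw [ellq, ell_range_smul q (a * b) (p ^ e) ((W : L) * P ^ f) (hpk e)
      (by rw [hT, map_pow, pow_add]; ring),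
      Ring.ord_mul_of_isUnit_left (Units.isUnit _), Ring.ord_pow hp, toNat_nsmul]
  have hl2 : ellq q ↥(range ((p ^ f) • (LinearMap.id : N →ₗ[R] N))) =
      e * ((Ring.ord L P).toNat : ℤ) := by
    rw [ellq, ell_range_smul q (a * b) (p ^ f) ((W : L) * P ^ e) (hpk f)
      (by rw [hT, map_pow, pow_add]; ring),
      Ring.ord_mul_of_isUnit_left (Units.isUnit _), Ring.ord_pow hp, toNat_nsmul]
  have hl3 : ellq q ↥(range (a • (LinearMap.id : N →ₗ[R] N))) =
      f * ((Ring.ord L P).toNat : ℤ) := by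
    rw [ellq, ell_range_smul q (a * b) a B haL (by rw [map_mul]), hordB, toNat_nsmul]
  have hl4 : ellq q ↥(range (b • (LinearMap.id : N →ₗ[R] N))) =
      e * ((Ring.ord L P).toNat : ℤ) := by
    rw [ellq, ell_range_smul q (a * b) b A hbL (by rw [map_mul, mul_comm]), hordA, toNat_nsmul]
  refine ⟨hfcab, ?_⟩
  rw [hl1] at hh1
  rw [hl2] at hh2
  rw [hl3] at hh3
  rw [hl4] at hh4
  rw [hh0] at hh1
  rw [hh1] at hh2
  rw [hh3, heq1, heq2, hh2] at hh4
  linear_combination -hh4

end Groth.Agent.Lib.Helper18.KeyE
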