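import Mathlib
import Groth.Prelude.Def_CycAlg
import Groth.Agent.Lib.Helper18.KeyE

set_option autoImplicit false
set_option linter.style.haveILetI false
set_option linter.unusedSectionVars false

/-! Key lemma (S1851), part F: the global statement in the good case, in terms of orders. -/

namespace Groth.Agent.Lib.Helper18.KeyF

open Function LinearMap CycAlg IsLocalRing
open scoped Pointwise
open Groth.Agent.Lib.Helper12.MultFormula
open Groth.Agent.Lib.Helper18.KeyA Groth.Agent.Lib.Helper18.KeyB Groth.Agent.Lib.Helper18.KeyC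
  Groth.Agent.Lib.Helper18.KeyD Groth.Agent.Lib.Helper18.KeyE
open Groth.Agent.Lib.Helper26.Herb1

universe u v

variable {R : Type u} [CommRing R] [IsNoetherianRing R] [IsLocalRing R]

/-- finite length criterion. -/
theorem length_lt_top_of_torsion' (H : Type v) [AddCommGroup H] [Module R H]
    [Module.Finite R H]
    (htors : ∀ P ∈ Module.support R H, P ≠ closedPoint R →
      ∀ h : H, ∃ s : R, s ∉ P.asIdeal ∧ s • h = 0) : Module.length R H < ⊤ := by
  rw [lt_top_iff_ne_top, Module.length_ne_top_iff]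
  apply isFiniteLength_of_support
  intro P hP
  by_contra hne
  have hP' := hP
  rw [Module.mem_support_iff_exists_annihilator] at hP
  obtain ⟨m, hm⟩ := hP
  obtain ⟨s, hs, hsm⟩ := htors P hP' hne m
  apply hs
  apply hm
  rw [Submodule.mem_annihilator_span_singleton]
  exact hsm

variable {J : Type u} [Fintype J] (q : J → PrimeSpectrum R) (t : R)
  (hcover : ∀ P : PrimeSpectrum R, t ∈ P.asIdeal → P = closedPoint R ∨ ∃ j, P = q j)
  (hanti : ∀ j k, (q j).asIdeal ≤ (q k).asIdeal → j = k)

include hcover hanti in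
/-- an element of `I_j` outside `q_k`. -/
theorem exists_mem_Iq_notMem (j k : J) (hjk : j ≠ k) :
    ∃ y : R, y ∈ Iq (q j) t ∧ y ∉ (q k).asIdeal := by
  classical
  have h1 : ∀ l : J, ∃ w : R, w ∉ (q j).asIdeal ∧ (l ≠ j → w ∈ (q l).asIdeal) := by
    intro l
    by_cases hl : l = j
    · exact ⟨1, fun h => (q j).2.ne_top ((Ideal.eq_top_iff_one _).mpr h), fun h => absurd hl h⟩
    · have : ¬ (q l).asIdeal ≤ (q j).asIdeal := fun h => hl (hanti l j h)
      obtain ⟨w, hw1, hw2⟩ := SetLike.not_le_iff_exists.mp this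
      exact ⟨w, hw2, fun _ => hw1⟩
  choose w hw1 hw2 using h1
  have h2 : ¬ (q j).asIdeal ≤ (q k).asIdeal := fun h => hjk (hanti j k h)
  obtain ⟨x, hx1, hx2⟩ := SetLike.not_le_iff_exists.mp h2
  set W := ∏ l, w l with hW
  have hWj : W ∉ (q j).asIdeal := by
    rw [hW]
    intro h
    haveI := (q j).2
    obtain ⟨l, -, hl⟩ := Ideal.IsPrime.prod_mem_iff.mp h
    exact hw1 l hl
  have hWl : ∀ l, l ≠ j → W ∈ (q l).asIdeal := by
    intro l hl
    rw [hW]
    haveI := (q l).2
    exact Ideal.IsPrime.prod_mem_iff.mpr ⟨l, Finset.mem_univ l, hw2 l hl⟩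
  have hrad : x * W ∈ (Ideal.span {t}).radical := by
    rw [Ideal.radical_eq_sInf, Ideal.mem_sInf]
    rintro P ⟨hP1, hP2⟩
    have htP : t ∈ P := hP1 (Ideal.mem_span_singleton_self t)
    rcases hcover ⟨P, hP2⟩ htP with h | ⟨l, h⟩
    · have hle : (q j).asIdeal ≤ P := by
        have := IsLocalRing.le_maximalIdeal (q j).2.ne_top
        rw [show P = maximalIdeal R from congrArg PrimeSpectrum.asIdeal h]
        exact this
      exact Ideal.mul_mem_right _ _ (hle hx1)
    · have hP : P = (q l).asIdeal := congrArg PrimeSpectrum.asIdeal h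
      by_cases hl : l = j
      · rw [hP, hl]
        exact Ideal.mul_mem_right _ _ hx1
      · rw [hP]
        exact Ideal.mul_mem_left _ _ (hWl l hl)
  obtain ⟨n, hn⟩ := hrad
  rw [mul_pow] at hn
  refine ⟨x ^ n, ?_, ?_⟩
  · rw [mem_Iq_iff]
    refine ⟨W ^ n, fun h => hWj ((q j).2.mem_of_pow_mem n h), ?_⟩
    rw [mul_comm]
    exact hn
  · exact fun h => hx2 ((q k).2.mem_of_pow_mem n h)

include hcover hanti in
theorem support_quot_Iq (j : J) (ht : t ∈ (q j).asIdeal) :
    ∀ P ∈ Module.support R (R ⧸ Iq (q j) t), P = closedPoint R ∨ P = q j := by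
  intro P hP
  rw [Module.mem_support_iff_of_finite, Ideal.annihilator_quotient] at hP
  have htP : t ∈ P.asIdeal := hP (self_mem_Iq (q j) t)
  rcases hcover P htP with h | ⟨k, h⟩
  · exact Or.inl h
  · right
    by_cases hjk : j = k
    · rw [h, hjk]
    · exfalso
      obtain ⟨y, hy1, hy2⟩ := exists_mem_Iq_notMem q t hcover hanti j k hjk
      apply hy2
      rw [← h]
      exact hP hy1

end Groth.Agent.Lib.Helper18.KeyF
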