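import Mathlib
import Groth.Prelude.Def_CycAlg
import Groth.Agent.Lib.Helper18.KeyF

set_option autoImplicit false
set_option linter.style.haveILetI false
set_option linter.unusedSectionVars false

/-! Key lemma (S1851), part G: the global statement in the good case, in terms of orders. -/

namespace Groth.Agent.Lib.Helper18.KeyG

open Function LinearMap CycAlg IsLocalRing
open scoped Pointwise
open Groth.Agent.Lib.Helper12.MultFormula
open Groth.Agent.Lib.Helper18.KeyA Groth.Agent.Lib.Helper18.KeyB Groth.Agent.Lib.Helper18.KeyC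
  Groth.Agent.Lib.Helper18.KeyD Groth.Agent.Lib.Helper18.KeyE Groth.Agent.Lib.Helper18.KeyF
open Groth.Agent.Lib.Helper26.Herb1

universe u

variable {R : Type u} [CommRing R] [IsNoetherianRing R] [IsLocalRing R]

section Exact

variable (a b : R) (ha : a ∈ nonZeroDivisors R)

include ha in
theorem subsingleton_perH :
    Subsingleton (perH (a • (LinearMap.id : (R ⧸ Ideal.span {a * b}) →ₗ[R] (R ⧸ Ideal.span {a * b})))
      (b • LinearMap.id)) := by
  constructor
  intro z z'
  have key : ∀ w : perH (a • (LinearMap.id : (R ⧸ Ideal.span {a * b}) →ₗ[R] (R ⧸ Ideal.span {a * b})))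
      (b • LinearMap.id), w = 0 := by
    intro w
    obtain ⟨⟨n, hn⟩, rfl⟩ := Submodule.Quotient.mk_surjective _ w
    obtain ⟨r, rfl⟩ := Ideal.Quotient.mk_surjective n
    rw [Submodule.Quotient.mk_eq_zero, mem_submoduleOf_iff]
    rw [mem_ker, LinearMap.smul_apply, LinearMap.id_apply, Algebra.smul_def,
      Ideal.Quotient.algebraMap_eq, ← map_mul, Ideal.Quotient.eq_zero_iff_mem,
      Ideal.mem_span_singleton'] at hn
    obtain ⟨c, hc⟩ := hn
    have h0 : a * (c * b - r) = 0 := by linear_combination hc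
    have h1 : c * b = r := sub_eq_zero.mp ((mem_nonZeroDivisors_iff.mp ha).1 _ h0)
    refine ⟨Ideal.Quotient.mk _ c, ?_⟩
    show b • (Ideal.Quotient.mk (Ideal.span {a * b}) c) = Ideal.Quotient.mk _ r
    rw [Algebra.smul_def, Ideal.Quotient.algebraMap_eq, ← map_mul, ← h1, mul_comm b c]
  rw [key z, key z']

end Exact

theorem global_good (a b : R) (ha : a ∈ nonZeroDivisors R) (hb : b ∈ nonZeroDivisors R)
    {J : Type u} [Fintype J] (q : J → PrimeSpectrum R)
    (hqmax : ∀ j, q j ≠ closedPoint R) (hqt : ∀ j, a * b ∈ (q j).asIdeal)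
    (hcover : ∀ P : PrimeSpectrum R, a * b ∈ P.asIdeal → P = closedPoint R ∨ ∃ j, P = q j)
    (hanti : ∀ j k, (q j).asIdeal ≤ (q k).asIdeal → j = k)
    (p u v s : J → R) (e f : J → ℕ)
    (hu : ∀ j, u j ∉ (q j).asIdeal) (hv : ∀ j, v j ∉ (q j).asIdeal)
    (hs : ∀ j, s j ∉ (q j).asIdeal)
    (hp : ∀ j, algebraMap R (Localization.AtPrime (q j).asIdeal) (p j) ∈
      nonZeroDivisors (Localization.AtPrime (q j).asIdeal))
    (hfa : ∀ j, algebraMap R (Localization.AtPrime (q j).asIdeal) (s j * a) =
      algebraMap R (Localization.AtPrime (q j).asIdeal) (u j * p j ^ e j))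
    (hfb : ∀ j, algebraMap R (Localization.AtPrime (q j).asIdeal) (s j * b) =
      algebraMap R (Localization.AtPrime (q j).asIdeal) (v j * p j ^ f j)) :
    ∑ j, ((Ring.ord (Localization.AtPrime (q j).asIdeal)
        (algebraMap R (Localization.AtPrime (q j).asIdeal) (p j))).toNat : ℤ) *
      (f j * (ordq (q j) (u j) - ordq (q j) (s j)) -
        e j * (ordq (q j) (v j) - ordq (q j) (s j))) = 0 := by
  classical
  set t := a * b with ht
  have hloc : ∀ j, ∀ x ∈ nonZeroDivisors R,
      algebraMap R (Localization.AtPrime (q j).asIdeal) x ∈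
        nonZeroDivisors (Localization.AtPrime (q j).asIdeal) := fun j x hx =>
    IsLocalization.map_nonZeroDivisors_le (q j).asIdeal.primeCompl _
      (Submonoid.mem_map_of_mem _ hx)
  have hSj : ∀ j, ∀ P ∈ Module.support R (R ⧸ Iq (q j) t), P = closedPoint R ∨ P = q j :=
    fun j => support_quot_Iq q t hcover hanti j (hqt j)
  have hlocal := fun j => local_herbrand (q j) (hqmax j) a b (hSj j) (hqt j) (hloc j a ha)
    (hloc j b hb) (p j) (u j) (v j) (s j) (e j) (f j) (hu j) (hv j) (hs j) (hp j) (hfa j) (hfb j)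
  -- the map Φ
  have hle : ∀ j, Ideal.span {t} ≤ ker (Submodule.mkQ (Iq (q j) t)) := by
    intro j
    rw [Submodule.ker_mkQ, Ideal.span_singleton_le_iff_mem]
    exact self_mem_Iq (q j) t
  let Φ : (R ⧸ Ideal.span {t}) →ₗ[R] (∀ j, R ⧸ Iq (q j) t) :=
    LinearMap.pi (fun j => Submodule.liftQ (Ideal.span {t}) (Submodule.mkQ (Iq (q j) t)) (hle j))
  have hΦ : ∀ (r : R) (j : J), Φ (Ideal.Quotient.mk _ r) j = Ideal.Quotient.mk _ r := fun r j => rfl
  have hkill : ∀ (j : J) (x : R) (n : R ⧸ Iq (q j) t), x ∈ Iq (q j) t → x • n = 0 := by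
    intro j x n hx
    obtain ⟨r, rfl⟩ := Ideal.Quotient.mk_surjective n
    rw [Algebra.smul_def, Ideal.Quotient.algebraMap_eq, ← map_mul, Ideal.Quotient.eq_zero_iff_mem]
    exact Ideal.mul_mem_right _ _ hx
  -- kernel
  have hker : Module.length R (ker Φ) < ⊤ := by
    apply length_lt_top_of_torsion'
    intro P hP hne h
    have hP1 : P ∈ Module.support R (R ⧸ Ideal.span {t}) :=
      Module.support_subset_of_injective (ker Φ).subtype (Submodule.injective_subtype _) hP
    rw [Module.mem_support_iff_of_finite, Ideal.annihilator_quotient] at hP1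
    have htP : t ∈ P.asIdeal := hP1 (Ideal.mem_span_singleton_self t)
    rcases hcover P htP with h' | ⟨k, rfl⟩
    · exact absurd h' hne
    · obtain ⟨n, hn⟩ := h
      obtain ⟨r, rfl⟩ := Ideal.Quotient.mk_surjective n
      rw [mem_ker] at hn
      have h1 : Ideal.Quotient.mk (Iq (q k) t) r = 0 := by
        rw [← hΦ r k, hn]; rfl
      rw [Ideal.Quotient.eq_zero_iff_mem, mem_Iq_iff] at h1
      obtain ⟨s', hs', hs'r⟩ := h1
      refine ⟨s', hs', ?_⟩
      apply Subtype.ext
      show s' • (Ideal.Quotient.mk (Ideal.span {t}) r) = 0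
      rw [Algebra.smul_def, Ideal.Quotient.algebraMap_eq, ← map_mul,
        Ideal.Quotient.eq_zero_iff_mem]
      exact hs'r
  -- cokernel
  have hcoker : Module.length R ((∀ j, R ⧸ Iq (q j) t) ⧸ range Φ) < ⊤ := by
    apply length_lt_top_of_torsion'
    intro P hP hne h
    have hann : t ∈ Module.annihilator R ((∀ j, R ⧸ Iq (q j) t) ⧸ range Φ) := by
      rw [Module.mem_annihilator]
      intro h
      obtain ⟨y, rfl⟩ := Submodule.Quotient.mk_surjective _ h
      rw [← Submodule.Quotient.mk_smul]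
      have : t • y = 0 := by
        ext j
        exact hkill j t (y j) (self_mem_Iq (q j) t)
      rw [this, Submodule.Quotient.mk_zero]
    have htP : t ∈ P.asIdeal := Module.annihilator_le_of_mem_support hP hann
    rcases hcover P htP with h' | ⟨k, rfl⟩
    · exact absurd h' hne
    · obtain ⟨y, rfl⟩ := Submodule.Quotient.mk_surjective _ h
      have h1 : ∀ j, ∃ z : R, z ∉ (q k).asIdeal ∧ (j ≠ k → z ∈ Iq (q j) t) := by
        intro j
        by_cases hj : j = k
        · exact ⟨1, fun h => (q k).2.ne_top ((Ideal.eq_top_iff_one _).mpr h),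
            fun h => absurd hj h⟩
        · obtain ⟨z, hz1, hz2⟩ := exists_mem_Iq_notMem q t hcover hanti j k hj
          exact ⟨z, hz2, fun _ => hz1⟩
      choose z hz1 hz2 using h1
      set s' := ∏ j, z j with hs'
      have hs'k : s' ∉ (q k).asIdeal := by
        intro h
        haveI := (q k).2
        obtain ⟨l, -, hl⟩ := Ideal.IsPrime.prod_mem_iff.mp h
        exact hz1 l hl
      have hs'j : ∀ j, j ≠ k → s' ∈ Iq (q j) t := by
        intro j hj
        obtain ⟨c, hc⟩ := Finset.dvd_prod_of_mem z (Finset.mem_univ j)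
        rw [hs', hc]
        exact Ideal.mul_mem_right _ _ (hz2 j hj)
      refine ⟨s', hs'k, ?_⟩
      rw [← Submodule.Quotient.mk_smul, Submodule.Quotient.mk_eq_zero]
      obtain ⟨r, hr⟩ := Ideal.Quotient.mk_surjective (y k)
      refine ⟨Ideal.Quotient.mk _ (s' * r), ?_⟩
      ext j
      rw [hΦ]
      by_cases hj : j = k
      · subst hj
        rw [Pi.smul_apply, ← hr, Algebra.smul_def, Ideal.Quotient.algebraMap_eq, ← map_mul]
      · rw [Pi.smul_apply, hkill j s' (y j) (hs'j j hj), Ideal.Quotient.eq_zero_iff_mem]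
        exact Ideal.mul_mem_right _ _ (hs'j j hj)
  -- the source complex
  have hper0 : IsPeriodic (a • (LinearMap.id : (R ⧸ Ideal.span {t}) →ₗ[R] (R ⧸ Ideal.span {t})))
      (b • LinearMap.id) := by
    have h0 : t • (LinearMap.id : (R ⧸ Ideal.span {t}) →ₗ[R] (R ⧸ Ideal.span {t})) = 0 := by
      apply LinearMap.ext
      intro n
      obtain ⟨r, rfl⟩ := Ideal.Quotient.mk_surjective n
      simp only [LinearMap.smul_apply, LinearMap.id_apply, LinearMap.zero_apply]
      rw [Algebra.smul_def, Ideal.Quotient.algebraMap_eq, ← map_mul,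
        Ideal.Quotient.eq_zero_iff_mem]
      exact Ideal.mul_mem_right _ _ (Ideal.mem_span_singleton_self t)
    constructor
    · rw [LinearMap.smul_comp, LinearMap.comp_smul, LinearMap.id_comp, smul_smul]
      exact h0
    · rw [LinearMap.smul_comp, LinearMap.comp_smul, LinearMap.id_comp, smul_smul, mul_comm b a]
      exact h0
  have hss1 := subsingleton_perH a b ha
  have hss2 : Subsingleton (perH (b • (LinearMap.id : (R ⧸ Ideal.span {t}) →ₗ[R]
      (R ⧸ Ideal.span {t}))) (a • LinearMap.id)) := by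
    have := subsingleton_perH b a hb
    rw [mul_comm b a] at this
    exact this
  have hfin0 : FinCoh R (a • (LinearMap.id : (R ⧸ Ideal.span {t}) →ₗ[R] (R ⧸ Ideal.span {t})))
      (b • LinearMap.id) := by
    constructor
    · rw [Module.length_eq_zero_iff.mpr hss1]; exact (by simp : (0 : ℕ∞) < ⊤)
    · rw [Module.length_eq_zero_iff.mpr hss2]; exact (by simp : (0 : ℕ∞) < ⊤)
  have hh0 : herbrand R (a • (LinearMap.id : (R ⧸ Ideal.span {t}) →ₗ[R] (R ⧸ Ideal.span {t})))
      (b • LinearMap.id) = 0 := by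
    rw [herbrand, Module.length_eq_zero_iff.mpr hss1, Module.length_eq_zero_iff.mpr hss2]
    simp
  -- the target complex
  have hper1 : IsPeriodic (a • (LinearMap.id : (∀ j, R ⧸ Iq (q j) t) →ₗ[R] (∀ j, R ⧸ Iq (q j) t)))
      (b • LinearMap.id) := by
    have h0 : t • (LinearMap.id : (∀ j, R ⧸ Iq (q j) t) →ₗ[R] (∀ j, R ⧸ Iq (q j) t)) = 0 := by
      apply LinearMap.ext
      intro y
      ext j
      exact hkill j t (y j) (self_mem_Iq (q j) t)
    constructor
    · rw [LinearMap.smul_comp, LinearMap.comp_smul, LinearMap.id_comp, smul_smul]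
      exact h0
    · rw [LinearMap.smul_comp, LinearMap.comp_smul, LinearMap.id_comp, smul_smul, mul_comm b a]
      exact h0
  obtain ⟨hfin1, hh1⟩ := herbrand_transfer _ _ _ _ hper0 hper1 Φ
    (by apply LinearMap.ext; intro x; simp only [LinearMap.comp_apply, LinearMap.smul_apply,
      LinearMap.id_apply, map_smul])
    (by apply LinearMap.ext; intro x; simp only [LinearMap.comp_apply, LinearMap.smul_apply,
      LinearMap.id_apply, map_smul])
    hfin0 hker hcoker
  have hpi := herbrand_pi (fun j => R ⧸ Iq (q j) t) a b hfin1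
  rw [← hh1, hh0] at hpi
  have hsum : ∑ j, herbrand R (a • (LinearMap.id : (R ⧸ Iq (q j) t) →ₗ[R] (R ⧸ Iq (q j) t)))
      (b • LinearMap.id) = ∑ j, - (((Ring.ord (Localization.AtPrime (q j).asIdeal)
        (algebraMap R (Localization.AtPrime (q j).asIdeal) (p j))).toNat : ℤ) *
      (f j * (ordq (q j) (u j) - ordq (q j) (s j)) -
        e j * (ordq (q j) (v j) - ordq (q j) (s j)))) := by
    apply Finset.sum_congr rfl
    intro j _
    rw [(hlocal j).2]
    ring
  rw [hsum, Finset.sum_neg_distrib] at hpi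
  linarith

end Groth.Agent.Lib.Helper18.KeyG
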