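import Mathlib

set_option autoImplicit false
set_option linter.style.haveILetI false
set_option linter.unusedSectionVars false

/-! Key lemma (S1851), part H: the local subalgebra `A + 𝔪 C` of a finite algebra `C`. -/

namespace Groth.Agent.Lib.Helper18.KeyH

open Function IsLocalRing

universe u

variable {A : Type u} [CommRing A] [IsLocalRing A] {T : Type u} [CommRing T] [Algebra A T]
  (C : Subalgebra A T)

/-- `𝔪 C`. -/
def mC : Submodule A T := (maximalIdeal A) • (Subalgebra.toSubmodule C)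

theorem mC_le : mC C ≤ Subalgebra.toSubmodule C := Submodule.smul_le_right

theorem mul_mem_mC {x y : T} (hx : x ∈ mC C) (hy : y ∈ C) : x * y ∈ mC C := by
  unfold mC at hx ⊢
  refine Submodule.smul_induction_on hx ?_ ?_
  · intro m hm c hc
    rw [smul_mul_assoc]
    exact Submodule.smul_mem_smul hm (C.mul_mem hc hy)
  · intro x y hx hy
    rw [add_mul]
    exact Submodule.add_mem _ hx hy

theorem algebraMap_mem_mC {α : A} (hα : α ∈ maximalIdeal A) : algebraMap A T α ∈ mC C := by
  rw [Algebra.algebraMap_eq_smul_one]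
  exact Submodule.smul_mem_smul hα C.one_mem

/-- the subalgebra `A + 𝔪 C`. -/
def glue : Subalgebra A T :=
  Submodule.toSubalgebra (Subalgebra.toSubmodule (⊥ : Subalgebra A T) ⊔ mC C)
    (Submodule.mem_sup_left (Subalgebra.one_mem _))
    (by
      intro x y hx hy
      rw [Submodule.mem_sup] at hx hy ⊢
      obtain ⟨x1, hx1, x2, hx2, rfl⟩ := hx
      obtain ⟨y1, hy1, y2, hy2, rfl⟩ := hy
      rw [Subalgebra.mem_toSubmodule, Algebra.mem_bot] at hx1 hy1
      obtain ⟨α, rfl⟩ := hx1
      obtain ⟨β, rfl⟩ := hy1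
      refine ⟨algebraMap A T (α * β), ?_, algebraMap A T α * y2 + x2 * (algebraMap A T β + y2),
        ?_, ?_⟩
      · rw [Subalgebra.mem_toSubmodule, Algebra.mem_bot]; exact ⟨_, rfl⟩
      · apply Submodule.add_mem
        · rw [← Algebra.smul_def]
          exact Submodule.smul_mem _ _ hy2
        · apply mul_mem_mC C hx2
          exact C.add_mem (C.algebraMap_mem β) (mC_le C hy2)
      · rw [map_mul]; ring)

theorem mem_glue {x : T} : x ∈ glue C ↔ ∃ α : A, x - algebraMap A T α ∈ mC C := by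
  show x ∈ Subalgebra.toSubmodule (⊥ : Subalgebra A T) ⊔ mC C ↔ _
  rw [Submodule.mem_sup]
  constructor
  · rintro ⟨x1, hx1, x2, hx2, rfl⟩
    rw [Subalgebra.mem_toSubmodule, Algebra.mem_bot] at hx1
    obtain ⟨α, rfl⟩ := hx1
    exact ⟨α, by rw [add_sub_cancel_left]; exact hx2⟩
  · rintro ⟨α, h⟩
    refine ⟨algebraMap A T α, ?_, _, h, by ring⟩
    rw [Subalgebra.mem_toSubmodule, Algebra.mem_bot]; exact ⟨_, rfl⟩

theorem mC_le_glue {x : T} (hx : x ∈ mC C) : x ∈ glue C :=
  (mem_glue C).mpr ⟨0, by rw [map_zero, sub_zero]; exact hx⟩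

theorem glue_le : glue C ≤ C := by
  intro x hx
  obtain ⟨α, h⟩ := (mem_glue C).mp hx
  have : x = algebraMap A T α + (x - algebraMap A T α) := by ring
  rw [this]
  exact C.add_mem (C.algebraMap_mem α) (mC_le C h)

section Local

variable [Nontrivial T] [Module.Finite A C]

/-- `1 + y` is invertible in `C` for `y ∈ 𝔪 C`. -/
theorem exists_inv_one_add {y : T} (hy : y ∈ mC C) : ∃ w ∈ C, (1 + y) * w = 1 := by
  haveI : Algebra.IsIntegral A C := Algebra.IsIntegral.of_finite A C
  have hmem : ∀ M : Ideal C, M.IsMaximal → ∀ z ∈ mC C, ∀ hz : z ∈ C, (⟨z, hz⟩ : C) ∈ M := by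
    intro M hM z hz
    have hcomap : M.comap (algebraMap A C) = maximalIdeal A :=
      IsLocalRing.eq_maximalIdeal (Ideal.isMaximal_comap_of_isIntegral_of_isMaximal M)
    unfold mC at hz
    have key : z ∈ C ∧ ∀ hz : z ∈ C, (⟨z, hz⟩ : C) ∈ M := by
      refine Submodule.smul_induction_on hz ?_ ?_
      · intro m hm c hc
        refine ⟨C.smul_mem hc m, ?_⟩
        intro hz
        have h1 : algebraMap A C m ∈ M := by
          rw [← Ideal.mem_comap, hcomap]; exact hm
        have h2 : (⟨m • c, hz⟩ : C) = algebraMap A C m * ⟨c, hc⟩ := by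
          apply Subtype.ext
          show m • c = algebraMap A T m * c
          rw [Algebra.smul_def]
        rw [h2]
        exact Ideal.mul_mem_right _ _ h1
      · rintro x y ⟨hxC, hx⟩ ⟨hyC, hy⟩
        refine ⟨C.add_mem hxC hyC, ?_⟩
        intro hz
        have h2 : (⟨x + y, hz⟩ : C) = ⟨x, hxC⟩ + ⟨y, hyC⟩ := rfl
        rw [h2]
        exact Ideal.add_mem _ (hx hxC) (hy hyC)
    exact key.2
  have hyC : y ∈ C := mC_le C hy
  have hjac : (⟨y, hyC⟩ : C) ∈ Ideal.jacobson (⊥ : Ideal C) := by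
    rw [Ideal.jacobson, Ideal.mem_sInf]
    rintro M ⟨-, hM⟩
    exact hmem M hM y hy hyC
  have hu := Ideal.mem_jacobson_bot.mp hjac 1
  rw [mul_one] at hu
  obtain ⟨w, hw⟩ := hu.exists_right_inv
  refine ⟨(w : T), w.2, ?_⟩
  have := congrArg Subtype.val hw
  rw [add_comm]
  exact this

theorem one_notMem_mC : (1 : T) ∉ mC C := by
  intro h
  obtain ⟨w, -, hw⟩ := exists_inv_one_add C (y := -1) (neg_mem h)
  rw [add_neg_cancel, zero_mul] at hw
  exact zero_ne_one hw

/-- elements `α + y` with `α` a unit are units of `A + 𝔪 C`. -/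
theorem isUnit_of_unit_add {α : A} (hα : IsUnit α) {y : T} (hy : y ∈ mC C)
    (hx : algebraMap A T α + y ∈ glue C) : IsUnit (⟨algebraMap A T α + y, hx⟩ : glue C) := by
  obtain ⟨α', rfl⟩ := hα
  have hy' : ((α'⁻¹ : Aˣ) : A) • y ∈ mC C := Submodule.smul_mem _ _ hy
  obtain ⟨w, hwC, hw⟩ := exists_inv_one_add C hy'
  have hwB : w ∈ glue C := by
    rw [mem_glue]
    refine ⟨1, ?_⟩
    have : w - algebraMap A T 1 = - ((((α'⁻¹ : Aˣ) : A) • y) * w) := by
      rw [map_one]; linear_combination hw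
    rw [this]
    exact neg_mem (mul_mem_mC C hy' hwC)
  have hinvB : algebraMap A T ((α'⁻¹ : Aˣ) : A) * w ∈ glue C :=
    (glue C).mul_mem ((glue C).algebraMap_mem _) hwB
  rw [isUnit_iff_exists_inv]
  refine ⟨⟨_, hinvB⟩, ?_⟩
  apply Subtype.ext
  show (algebraMap A T (α' : A) + y) * (algebraMap A T ((α'⁻¹ : Aˣ) : A) * w) = 1
  have h1 : algebraMap A T (α' : A) * algebraMap A T ((α'⁻¹ : Aˣ) : A) = 1 := by
    rw [← map_mul, Units.mul_inv, map_one]
  rw [Algebra.smul_def] at hw
  linear_combination hw + w * h1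

instance isLocalRing_glue : IsLocalRing (glue C) := by
  haveI : Nontrivial (glue C) := ⟨⟨0, 1, fun h => zero_ne_one (congrArg Subtype.val h)⟩⟩
  apply IsLocalRing.of_isUnit_or_isUnit_one_sub_self
  rintro ⟨x, hx⟩
  obtain ⟨α, hα⟩ := (mem_glue C).mp hx
  by_cases hαu : IsUnit α
  · left
    have := isUnit_of_unit_add C hαu hα (by rw [add_sub_cancel]; exact hx)
    have e : (⟨x, hx⟩ : glue C) = ⟨algebraMap A T α + (x - algebraMap A T α),
        by rw [add_sub_cancel]; exact hx⟩ := Subtype.ext (by ring)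
    rw [e]
    exact this
  · right
    have h1 : IsUnit (1 - α) := by
      have hm : α ∈ maximalIdeal A := hαu
      rcases IsLocalRing.isUnit_or_isUnit_one_sub_self α with h | h
      · exact absurd h hαu
      · exact h
    have h2 : (1 : T) - x = algebraMap A T (1 - α) + (-(x - algebraMap A T α)) := by
      rw [map_sub, map_one]; ring
    have h3 : algebraMap A T (1 - α) + (-(x - algebraMap A T α)) ∈ glue C := by
      rw [← h2]; exact (glue C).sub_mem (glue C).one_mem hx
    have := isUnit_of_unit_add C h1 (neg_mem hα) h3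
    have e : (1 - ⟨x, hx⟩ : glue C) = ⟨algebraMap A T (1 - α) + (-(x - algebraMap A T α)), h3⟩ :=
      Subtype.ext h2
    rw [e]
    exact this

/-- elements of `𝔪 C` lie in the maximal ideal of `A + 𝔪 C`. -/
theorem mem_maximalIdeal_of_mem_mC {y : T} (hy : y ∈ mC C) :
    (⟨y, mC_le_glue C hy⟩ : glue C) ∈ maximalIdeal (glue C) := by
  rw [IsLocalRing.mem_maximalIdeal, mem_nonunits_iff]
  intro hu
  obtain ⟨⟨w, hw⟩, hyw⟩ := isUnit_iff_exists_inv.mp hu
  have h1 : y * w = 1 := congrArg Subtype.val hyw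
  apply one_notMem_mC C
  rw [← h1]
  exact mul_mem_mC C hy (glue_le C hw)

theorem exists_sub_mem_maximalIdeal (x : glue C) :
    ∃ α : A, x - algebraMap A (glue C) α ∈ maximalIdeal (glue C) := by
  obtain ⟨x, hx⟩ := x
  obtain ⟨α, hα⟩ := (mem_glue C).mp hx
  refine ⟨α, ?_⟩
  have := mem_maximalIdeal_of_mem_mC C hα
  have e : (⟨x, hx⟩ : glue C) - algebraMap A (glue C) α =
      ⟨x - algebraMap A T α, mC_le_glue C hα⟩ := Subtype.ext rfl
  rw [e]
  exact this

instance isLocalHom_glue : IsLocalHom (algebraMap A (glue C)) := by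
  constructor
  intro α hα
  by_contra hαu
  have hm : α ∈ maximalIdeal A := hαu
  have h1 := mem_maximalIdeal_of_mem_mC C (algebraMap_mem_mC C hm)
  rw [IsLocalRing.mem_maximalIdeal, mem_nonunits_iff] at h1
  apply h1
  have e : algebraMap A (glue C) α = ⟨algebraMap A T α, mC_le_glue C (algebraMap_mem_mC C hm)⟩ :=
    Subtype.ext rfl
  rw [← e]
  exact hα

end Local

end Groth.Agent.Lib.Helper18.KeyH
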