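import Mathlib
import Groth.Agent.Lib.Helper26.TameD

set_option autoImplicit false
set_option linter.style.haveILetI false
set_option linter.unusedSectionVars false

/-! Key lemma (S1851), part I: `Frac(A_q)` is the localization of `A_t` at `A ∖ q`, and lifting
integral elements. -/

namespace Groth.Agent.Lib.Helper18.KeyI

open Function IsLocalRing

universe u

variable {A : Type u} [CommRing A] (t : A) (q : Ideal A) [q.IsPrime] (htq : t ∈ q)
  {L K At : Type u} [CommRing L] [CommRing K] [CommRing At]
  [Algebra A L] [IsLocalization.AtPrime L q] [Algebra L K] [IsFractionRing L K] [Algebra A K]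
  [IsScalarTower A L K] [Algebra A At] [IsLocalization.Away t At] [Algebra At K]
  [IsScalarTower A At K]
  [IsNoetherianRing L] [IsLocalRing L] (hL : ringKrullDim L = 1)
  (htL : algebraMap A L t ∈ nonZeroDivisors L)

include htL in
theorem isUnit_t : IsUnit (algebraMap A K t) := by
  rw [IsScalarTower.algebraMap_apply A L K]
  exact IsLocalization.map_units K (⟨_, htL⟩ : nonZeroDivisors L)

include htq hL htL in
theorem exists_num (f : K) : ∃ (x : At) (s : A), s ∉ q ∧ f * algebraMap A K s = algebraMap At K x := by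
  obtain ⟨l, d, rfl⟩ := IsLocalization.exists_mk'_eq (nonZeroDivisors L) f
  obtain ⟨k, hk⟩ := Groth.Agent.Lib.Helper26.TameD.exists_pow_le_span hL d.2
  have htm : algebraMap A L t ∈ maximalIdeal L :=
    (IsLocalization.AtPrime.to_map_mem_maximal_iff L q t).mpr htq
  obtain ⟨d', hd'⟩ := Ideal.mem_span_singleton'.mp (hk (Ideal.pow_mem_pow htm k))
  obtain ⟨a', s₀, h⟩ := IsLocalization.exists_mk'_eq q.primeCompl (l * d')
  have h1 : l * d' * algebraMap A L s₀ = algebraMap A L a' := by
    rw [← h, IsLocalization.mk'_spec]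
  refine ⟨IsLocalization.mk' At a' (⟨t ^ k, ⟨k, rfl⟩⟩ : Submonoid.powers t), s₀, s₀.2, ?_⟩
  have hu : IsUnit (algebraMap A K t ^ k) := (isUnit_t t htL).pow k
  apply hu.mul_left_injective
  show _ * algebraMap A K t ^ k = _ * algebraMap A K t ^ k
  have h2 : algebraMap At K (IsLocalization.mk' At a' (⟨t ^ k, ⟨k, rfl⟩⟩ : Submonoid.powers t)) *
      algebraMap A K t ^ k = algebraMap A K a' := by
    rw [← map_pow, IsScalarTower.algebraMap_apply A At K, ← map_mul]
    have := IsLocalization.mk'_spec At a' (⟨t ^ k, ⟨k, rfl⟩⟩ : Submonoid.powers t)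
    rw [this, ← IsScalarTower.algebraMap_apply]
  rw [h2, IsScalarTower.algebraMap_apply A L K a', ← h1, map_mul, map_mul,
    ← IsScalarTower.algebraMap_apply A L K]
  have h3 : algebraMap A K t ^ k = algebraMap L K d' * algebraMap L K d := by
    rw [IsScalarTower.algebraMap_apply A L K, ← map_pow, ← hd', map_mul]
  have h4 : IsLocalization.mk' K l d * algebraMap L K d = algebraMap L K l :=
    IsLocalization.mk'_spec K l d
  rw [h3]
  linear_combination (algebraMap L K d' * algebraMap A K (s₀ : A)) * h4

include htL in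
theorem exists_kill (x : At) (hx : algebraMap At K x = 0) :
    ∃ s : A, s ∉ q ∧ algebraMap A At s * x = 0 := by
  obtain ⟨a', ⟨_, k, rfl⟩, rfl⟩ := IsLocalization.exists_mk'_eq (Submonoid.powers t) x
  have h2 : algebraMap At K (IsLocalization.mk' At a' (⟨t ^ k, ⟨k, rfl⟩⟩ : Submonoid.powers t)) *
      algebraMap A K t ^ k = algebraMap A K a' := by
    rw [← map_pow, IsScalarTower.algebraMap_apply A At K, ← map_mul]
    have := IsLocalization.mk'_spec At a' (⟨t ^ k, ⟨k, rfl⟩⟩ : Submonoid.powers t)
    rw [this, ← IsScalarTower.algebraMap_apply]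
  rw [hx, zero_mul, IsScalarTower.algebraMap_apply A L K] at h2
  have h3 : algebraMap A L a' = 0 := by
    apply IsFractionRing.injective L K
    rw [← h2, map_zero]
  obtain ⟨s, hs⟩ := (IsLocalization.map_eq_zero_iff q.primeCompl L a').mp h3
  refine ⟨s, s.2, ?_⟩
  have hu : IsUnit (algebraMap A At (t ^ k)) :=
    IsLocalization.map_units At (⟨t ^ k, ⟨k, rfl⟩⟩ : Submonoid.powers t)
  apply hu.mul_left_injective
  show _ * algebraMap A At (t ^ k) = 0 * algebraMap A At (t ^ k)
  rw [zero_mul, mul_assoc]
  have := IsLocalization.mk'_spec At a' (⟨t ^ k, ⟨k, rfl⟩⟩ : Submonoid.powers t)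
  rw [this, ← map_mul, hs, map_zero]

include htq hL htL in
theorem isLocalization_K : IsLocalization (Algebra.algebraMapSubmonoid At q.primeCompl) K where
  map_units := by
    rintro ⟨_, s, hs, rfl⟩
    show IsUnit (algebraMap At K (algebraMap A At s))
    rw [← IsScalarTower.algebraMap_apply, IsScalarTower.algebraMap_apply A L K]
    exact (IsLocalization.map_units L (⟨s, hs⟩ : q.primeCompl)).map _
  surj := by
    intro f
    obtain ⟨x, s, hs, h⟩ := exists_num t q htq hL htL (At := At) f
    refine ⟨⟨x, ⟨algebraMap A At s, s, hs, rfl⟩⟩, ?_⟩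
    show f * algebraMap At K (algebraMap A At s) = algebraMap At K x
    rw [← IsScalarTower.algebraMap_apply]
    exact h
  exists_of_eq := by
    intro x y hxy
    have h0 : algebraMap At K (x - y) = 0 := by rw [map_sub, hxy, sub_self]
    obtain ⟨s, hs, h⟩ := exists_kill t q htL (x - y) h0
    refine ⟨⟨algebraMap A At s, s, hs, rfl⟩, ?_⟩
    show algebraMap A At s * x = algebraMap A At s * y
    linear_combination h

include htq hL htL in
/-- an element of `K` integral over `A_q` has a multiple by an element outside `q` which lifts to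
an element of `A_t` integral over `A`. -/
theorem exists_integral_lift (f : K) (hf : IsIntegral L f) :
    ∃ (y : At) (s : A), s ∉ q ∧ IsIntegral A y ∧ algebraMap At K y = algebraMap A K s * f := by
  haveI := isLocalization_K t q htq hL htL (K := K) (At := At)
  obtain ⟨m₁, hm₁⟩ := IsIntegral.exists_multiple_integral_of_isLocalization q.primeCompl f hf
  obtain ⟨x₀, s₀, hs₀, hx₀⟩ := exists_num t q htq hL htL (At := At) f
  rw [Submonoid.smul_def, Algebra.smul_def] at hm₁
  have hint : IsIntegral A (algebraMap At K ((m₁ : A) • x₀)) := by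
    have : algebraMap At K ((m₁ : A) • x₀) = algebraMap A K s₀ * (algebraMap A K (m₁ : A) * f) := by
      rw [Algebra.smul_def, map_mul, ← IsScalarTower.algebraMap_apply, ← hx₀]
      ring
    rw [this]
    exact IsIntegral.mul isIntegral_algebraMap hm₁
  obtain ⟨m₃, hm₃, hy⟩ := IsLocalization.exists_isIntegral_smul_of_isIntegral_map
    (R := A) (S := At) (Sₘ := K) q.primeCompl hint
  refine ⟨m₃ • ((m₁ : A) • x₀), m₃ * (m₁ * s₀), ?_, hy, ?_⟩
  · exact (q.primeCompl.mul_mem hm₃ (q.primeCompl.mul_mem m₁.2 hs₀))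
  · rw [Algebra.smul_def, Algebra.smul_def, map_mul, map_mul, ← IsScalarTower.algebraMap_apply,
      ← IsScalarTower.algebraMap_apply, ← hx₀, map_mul, map_mul]
    ring

end Groth.Agent.Lib.Helper18.KeyI
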