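import Mathlib
import Groth.Agent.Lib.Helper18.KeyI

set_option autoImplicit false
set_option linter.style.haveILetI false
set_option linter.unusedSectionVars false

/-! Key lemma (S1851), part K: the image `C_q` of `A_q ⊗ B` in `Frac(A_q)` is a localization of
`B`. -/

namespace Groth.Agent.Lib.Helper18.KeyK

open Function IsLocalRing TensorProduct
open Groth.Agent.Lib.Helper18.KeyI

universe u

variable {A : Type u} [CommRing A] (t : A) (q : Ideal A) [q.IsPrime]
  {L K At : Type u} [CommRing L] [CommRing K] [CommRing At]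
  [Algebra A L] [IsLocalization.AtPrime L q] [Algebra L K] [IsFractionRing L K] [Algebra A K]
  [IsScalarTower A L K] [Algebra A At] [IsLocalization.Away t At] [Algebra At K]
  [IsScalarTower A At K]
  (B : Subalgebra A At)

/-- the map `B → K`. -/
noncomputable def iota : B →ₐ[A] K := (IsScalarTower.toAlgHom A At K).comp B.val

theorem iota_apply (b : B) : iota (K := K) B b = algebraMap At K (b : At) := rfl

variable (L) in
/-- the map `A_q ⊗ B → K`. -/
noncomputable def phi : L ⊗[A] B →ₐ[L] K :=
  Algebra.TensorProduct.lift (Algebra.ofId L K) (iota (K := K) B) (fun _ _ => Commute.all _ _)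

theorem phi_tmul (l : L) (b : B) : phi L (K := K) B (l ⊗ₜ b) = algebraMap L K l * iota (K := K) B b := by
  simp [phi, Algebra.ofId_apply]

variable (L K) in
/-- the subalgebra `C_q`. -/
noncomputable def Cq : Subalgebra L K := (phi L (K := K) B).range

instance finite_Cq [Module.Finite A B] : Module.Finite L (Cq L K B) :=
  Module.Finite.of_surjective (phi L (K := K) B).rangeRestrict.toLinearMap
    (phi L (K := K) B).rangeRestrict_surjective

theorem iota_mem (b : B) : iota (K := K) B b ∈ Cq L K B :=
  ⟨1 ⊗ₜ b, by
    show (phi L (K := K) B) (1 ⊗ₜ[A] b) = _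
    rw [phi_tmul, map_one, one_mul]⟩

variable (L K) in
/-- the ring map `B → C_q`. -/
noncomputable def toCq : B →+* Cq L K B :=
  (iota (K := K) B).toRingHom.codRestrict (Cq L K B) (fun b => iota_mem B b)

theorem toCq_coe (b : B) : ((toCq L K B b : Cq L K B) : K) = algebraMap At K (b : At) := rfl

include q in
theorem exists_num_Cq (c : Cq L K B) : ∃ (b : B) (s : A), s ∉ q ∧
    (c : K) * algebraMap A K s = iota (K := K) B b := by
  obtain ⟨c, z, rfl⟩ := c
  induction z using TensorProduct.induction_on with
  | zero => exact ⟨0, 1, fun h => (Ideal.IsPrime.ne_top inferInstance)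
      ((Ideal.eq_top_iff_one q).mpr h), by simp⟩
  | tmul l b =>
    obtain ⟨a', s, rfl⟩ := IsLocalization.exists_mk'_eq q.primeCompl l
    refine ⟨a' • b, s, s.2, ?_⟩
    show (phi L (K := K) B) (IsLocalization.mk' L a' s ⊗ₜ[A] b) * algebraMap A K s = _
    rw [phi_tmul, map_smul, Algebra.smul_def, IsScalarTower.algebraMap_apply A L K (s : A),
      IsScalarTower.algebraMap_apply A L K a']
    have := IsLocalization.mk'_spec L a' s
    rw [← this, map_mul]
    ring
  | add z₁ z₂ h₁ h₂ =>
    obtain ⟨b₁, s₁, hs₁, e₁⟩ := h₁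
    obtain ⟨b₂, s₂, hs₂, e₂⟩ := h₂
    refine ⟨s₂ • b₁ + s₁ • b₂, s₁ * s₂, q.primeCompl.mul_mem hs₁ hs₂, ?_⟩
    show (phi L (K := K) B) (z₁ + z₂) * algebraMap A K (s₁ * s₂) = _
    change (phi L (K := K) B) z₁ * algebraMap A K s₁ = _ at e₁
    change (phi L (K := K) B) z₂ * algebraMap A K s₂ = _ at e₂
    rw [map_add, map_add, map_smul, map_smul, Algebra.smul_def, Algebra.smul_def, ← e₁, ← e₂,
      map_mul]
    ring

variable [IsNoetherianRing L] [IsLocalRing L] (htL : algebraMap A L t ∈ nonZeroDivisors L)

include htL in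
theorem isLocalization_Cq :
    letI : Algebra B (Cq L K B) := (toCq L K B).toAlgebra
    IsLocalization (Algebra.algebraMapSubmonoid B q.primeCompl) (Cq L K B) := by
  letI : Algebra B (Cq L K B) := (toCq L K B).toAlgebra
  refine ⟨?_, ?_, ?_⟩
  · rintro ⟨_, s, hs, rfl⟩
    have h1 : IsUnit (algebraMap L (Cq L K B) (algebraMap A L s)) :=
      (IsLocalization.map_units L (⟨s, hs⟩ : q.primeCompl)).map _
    have h2 : algebraMap B (Cq L K B) (algebraMap A B s) =
        algebraMap L (Cq L K B) (algebraMap A L s) := by
      apply Subtype.ext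
      show algebraMap At K ((algebraMap A B s : B) : At) = algebraMap L K (algebraMap A L s)
      rw [← IsScalarTower.algebraMap_apply A L K]
      show algebraMap At K (algebraMap A At s) = _
      rw [← IsScalarTower.algebraMap_apply A At K]
    show IsUnit (algebraMap B (Cq L K B) (algebraMap A B s))
    rw [h2]
    exact h1
  · intro c
    obtain ⟨b, s, hs, h⟩ := exists_num_Cq q B c
    refine ⟨⟨b, ⟨algebraMap A B s, s, hs, rfl⟩⟩, ?_⟩
    apply Subtype.ext
    show (c : K) * algebraMap At K ((algebraMap A B s : B) : At) = algebraMap At K (b : At)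
    rw [show ((algebraMap A B s : B) : At) = algebraMap A At s from rfl,
      ← IsScalarTower.algebraMap_apply A At K]
    exact h
  · intro x y hxy
    have h0 : algebraMap At K ((x : At) - (y : At)) = 0 := by
      rw [map_sub, sub_eq_zero]
      exact congrArg Subtype.val hxy
    obtain ⟨s, hs, h⟩ := exists_kill t q htL ((x : At) - (y : At)) h0
    refine ⟨⟨algebraMap A B s, s, hs, rfl⟩, ?_⟩
    apply Subtype.ext
    show algebraMap A At s * (x : At) = algebraMap A At s * (y : At)
    linear_combination h

end Groth.Agent.Lib.Helper18.KeyK
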