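import Mathlib
import Groth.Prelude.Def_Tame
import Groth.Agent.Lib.Helper26.TameM

set_option autoImplicit false
set_option linter.style.haveILetI false
set_option linter.unusedSectionVars false

/-! Key lemma (S1851), part J: the tame symbol of two monomials, from the laws. -/

namespace Groth.Agent.Lib.Helper18.KeyJ

open Function IsLocalRing CycAlg

universe u

variable {L : Type u} [CommRing L] [IsNoetherianRing L] [IsLocalRing L]

theorem tameSymbol_monomial (hL : ringKrullDim L = 1) (π : L) (hπ : π ∈ nonZeroDivisors L)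
    (U V : Lˣ) (e f : ℕ) :
    tameSymbol L ((U : L) * π ^ e) ((V : L) * π ^ f) =
      ((-1) ^ (e * f) * residue L (U : L) ^ f * (residue L (V : L) ^ e)⁻¹) ^
        (Ring.ord L π).toNat := by
  obtain ⟨hnv, hmul, hself, hunit, -⟩ := Groth.Agent.Lib.Helper26.TameM.main_1848 L hL
  haveI : Ring.KrullDimLE 1 L := by
    rw [Ring.krullDimLE_iff, hL]; rfl
  set m := (Ring.ord L π).toNat with hm
  have hU : (U : L) ∈ nonZeroDivisors L := U.isUnit.mem_nonZeroDivisors
  have hV : (V : L) ∈ nonZeroDivisors L := V.isUnit.mem_nonZeroDivisors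
  have hπk : ∀ k, π ^ k ∈ nonZeroDivisors L := fun k => pow_mem hπ k
  have hM : ∀ b : L, (Module.length L (L ⧸ Ideal.span {b})).toNat = (Ring.ord L b).toNat :=
    fun b => rfl
  -- ∂(1, b) = 1
  have h1b : ∀ b ∈ nonZeroDivisors L, tameSymbol L 1 b = 1 := by
    intro b hb
    have := hunit 1 b hb
    rw [Units.val_one, map_one, one_pow] at this
    exact this
  -- ∂(b, 1) = 1
  have hb1 : ∀ b ∈ nonZeroDivisors L, tameSymbol L b 1 = 1 := by
    intro b hb
    have h := (hmul 1 1 b (one_mem _) (one_mem _) hb).2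
    rw [mul_one] at h
    have hne := hnv b 1 hb (one_mem _)
    have : tameSymbol L b 1 * (tameSymbol L b 1 - 1) = 0 := by linear_combination -h
    rcases mul_eq_zero.mp this with h0 | h0
    · exact absurd h0 hne
    · exact sub_eq_zero.mp h0
  -- powers
  have hpowL : ∀ (x b : L), x ∈ nonZeroDivisors L → b ∈ nonZeroDivisors L → ∀ k : ℕ,
      tameSymbol L (x ^ k) b = tameSymbol L x b ^ k := by
    intro x b hx hb k
    induction k with
    | zero => rw [pow_zero, pow_zero, h1b b hb]
    | succ k ih => rw [pow_succ, (hmul _ _ b (pow_mem hx k) hx hb).1, ih, pow_succ]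
  have hpowR : ∀ (x b : L), x ∈ nonZeroDivisors L → b ∈ nonZeroDivisors L → ∀ k : ℕ,
      tameSymbol L b (x ^ k) = tameSymbol L b x ^ k := by
    intro x b hx hb k
    induction k with
    | zero => rw [pow_zero, pow_zero, hb1 b hb]
    | succ k ih => rw [pow_succ, (hmul _ _ b (pow_mem hx k) hx hb).2, ih, pow_succ]
  -- antisymmetry
  have hanti : ∀ x y : L, x ∈ nonZeroDivisors L → y ∈ nonZeroDivisors L →
      tameSymbol L x y * tameSymbol L y x = 1 := by
    intro x y hx hy
    have hxy : x * y ∈ nonZeroDivisors L := mul_mem hx hy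
    have e1 := hself (x * y) hxy
    rw [(hmul x y (x * y) hx hy hxy).1, (hmul x y x hx hy hx).2, (hmul x y y hx hy hy).2,
      hself x hx, hself y hy, hM, hM, hM, Ring.ord_mul L hy,
      ENat.toNat_add (Ring.ord_ne_top hx) (Ring.ord_ne_top hy), pow_add] at e1
    have hne : ((-1 : ResidueField L) ^ (Ring.ord L x).toNat * (-1) ^ (Ring.ord L y).toNat) ≠ 0 :=
      mul_ne_zero (pow_ne_zero _ (neg_ne_zero.mpr one_ne_zero))
        (pow_ne_zero _ (neg_ne_zero.mpr one_ne_zero))
    apply mul_left_cancel₀ hne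
    linear_combination e1
  have hordV : (Ring.ord L ((V : L) * π ^ f)).toNat = f * m := by
    rw [Ring.ord_mul_of_isUnit_left V.isUnit, Ring.ord_pow hπ, nsmul_eq_mul, ENat.toNat_mul,
      ENat.toNat_natCast]
  have hVπ : (V : L) * π ^ f ∈ nonZeroDivisors L := mul_mem hV (hπk f)
  -- ∂(π, V) = (resV^m)⁻¹
  have hπV : tameSymbol L π (V : L) = (residue L (V : L) ^ m)⁻¹ := by
    have h := hanti π (V : L) hπ hV
    rw [hunit V π hπ, hM] at h
    exact eq_inv_of_mul_eq_one_left h
  have hππ : tameSymbol L π π = (-1) ^ m := by rw [hself π hπ, hM]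
  rw [(hmul _ _ _ hU (hπk e) hVπ).1, hunit U _ hVπ, hM, hordV, hpowL π _ hπ hVπ,
    (hmul _ _ π hV (hπk f) hπ).2, hπV, hpowR π π hπ hπ, hππ]
  have hVne : residue L (V : L) ≠ 0 := by
    intro h
    rw [residue_eq_zero_iff] at h
    exact h V.isUnit
  field_simp
  ring

end Groth.Agent.Lib.Helper18.KeyJ
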