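import Mathlib
import Groth.Prelude.Def_Tame
import Groth.Agent.Lib.Helper18.KeyJ

set_option autoImplicit false
set_option linter.style.haveILetI false
set_option linter.unusedSectionVars false

/-! Key lemma (S1851), part L: clearing denominators in monomial data. -/

namespace Groth.Agent.Lib.Helper18.KeyL

open Function IsLocalRing CycAlg
open Groth.Agent.Lib.Helper18.KeyJ

universe u

variable {B Ln : Type u} [CommRing B] [CommRing Ln] [Algebra B Ln] (P : Ideal B) [P.IsPrime]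
  [IsLocalization.AtPrime Ln P] [IsLocalRing Ln] [IsNoetherianRing Ln]

theorem exists_data (hdim : ringKrullDim Ln = 1) (a b : B)
    (π : Ln) (hπ : π ∈ nonZeroDivisors Ln) (U V : Lnˣ) (e f : ℕ)
    (hfa : algebraMap B Ln a = (U : Ln) * π ^ e) (hfb : algebraMap B Ln b = (V : Ln) * π ^ f) :
    ∃ p u v s : B, u ∉ P ∧ v ∉ P ∧ s ∉ P ∧ algebraMap B Ln p ∈ nonZeroDivisors Ln ∧
      algebraMap B Ln (s * a) = algebraMap B Ln (u * p ^ e) ∧
      algebraMap B Ln (s * b) = algebraMap B Ln (v * p ^ f) ∧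
      tameSymbol Ln (algebraMap B Ln a) (algebraMap B Ln b) =
        ((-1) ^ (e * f) *
          (residue Ln (algebraMap B Ln u) / residue Ln (algebraMap B Ln s)) ^ f *
          ((residue Ln (algebraMap B Ln v) / residue Ln (algebraMap B Ln s)) ^ e)⁻¹) ^
          (Ring.ord Ln (algebraMap B Ln p)).toNat := by
  have hunit : ∀ x : B, x ∉ P → IsUnit (algebraMap B Ln x) := fun x hx =>
    IsLocalization.map_units Ln (⟨x, hx⟩ : P.primeCompl)
  obtain ⟨p₀, s₀, hps⟩ := IsLocalization.exists_mk'_eq P.primeCompl π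
  have h0 : π * algebraMap B Ln s₀ = algebraMap B Ln p₀ := by
    rw [← hps, IsLocalization.mk'_spec]
  obtain ⟨S₀, hS₀⟩ := hunit s₀ s₀.2
  have hπ' : algebraMap B Ln p₀ ∈ nonZeroDivisors Ln := by
    rw [← h0]
    exact mul_mem hπ (hS₀ ▸ S₀.isUnit.mem_nonZeroDivisors)
  have hπeq : π = algebraMap B Ln p₀ * ((S₀⁻¹ : Lnˣ) : Ln) := by
    rw [← h0, ← hS₀, mul_assoc, Units.mul_inv, mul_one]
  set U' : Lnˣ := U * (S₀⁻¹) ^ e with hU'
  set V' : Lnˣ := V * (S₀⁻¹) ^ f with hV'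
  have hfa' : algebraMap B Ln a = (U' : Ln) * algebraMap B Ln p₀ ^ e := by
    rw [hfa, hπeq, hU', mul_pow]; push_cast; ring
  have hfb' : algebraMap B Ln b = (V' : Ln) * algebraMap B Ln p₀ ^ f := by
    rw [hfb, hπeq, hV', mul_pow]; push_cast; ring
  obtain ⟨u₀, s₁, hu₀⟩ := IsLocalization.exists_mk'_eq P.primeCompl (U' : Ln)
  obtain ⟨v₀, s₂, hv₀⟩ := IsLocalization.exists_mk'_eq P.primeCompl (V' : Ln)
  have h1 : (U' : Ln) * algebraMap B Ln s₁ = algebraMap B Ln u₀ := by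
    rw [← hu₀, IsLocalization.mk'_spec]
  have h2 : (V' : Ln) * algebraMap B Ln s₂ = algebraMap B Ln v₀ := by
    rw [← hv₀, IsLocalization.mk'_spec]
  have hu₀P : u₀ ∉ P := by
    have : IsUnit (algebraMap B Ln u₀) := h1 ▸ U'.isUnit.mul (hunit s₁ s₁.2)
    exact (IsLocalization.AtPrime.isUnit_to_map_iff Ln P u₀).mp this
  have hv₀P : v₀ ∉ P := by
    have : IsUnit (algebraMap B Ln v₀) := h2 ▸ V'.isUnit.mul (hunit s₂ s₂.2)
    exact (IsLocalization.AtPrime.isUnit_to_map_iff Ln P v₀).mp this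
  refine ⟨p₀, u₀ * s₂, v₀ * s₁, s₁ * s₂, ?_, ?_, ?_, hπ', ?_, ?_, ?_⟩
  · exact P.primeCompl.mul_mem hu₀P s₂.2
  · exact P.primeCompl.mul_mem hv₀P s₁.2
  · exact P.primeCompl.mul_mem s₁.2 s₂.2
  · simp only [map_mul, map_pow]
    rw [hfa', ← h1]; ring
  · simp only [map_mul, map_pow]
    rw [hfb', ← h2]; ring
  · rw [hfa', hfb', tameSymbol_monomial hdim _ hπ' U' V' e f]
    have hs1 : residue Ln (algebraMap B Ln (s₁ : B)) ≠ 0 := by
      rw [Ne, residue_eq_zero_iff]; exact fun h => h (hunit s₁ s₁.2)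
    have hs2 : residue Ln (algebraMap B Ln (s₂ : B)) ≠ 0 := by
      rw [Ne, residue_eq_zero_iff]; exact fun h => h (hunit s₂ s₂.2)
    have hrU : residue Ln (U' : Ln) = residue Ln (algebraMap B Ln (u₀ * s₂)) /
        residue Ln (algebraMap B Ln (s₁ * s₂)) := by
      rw [map_mul, map_mul, map_mul, map_mul, ← h1, map_mul]
      field_simp
    have hrV : residue Ln (V' : Ln) = residue Ln (algebraMap B Ln (v₀ * s₁)) /
        residue Ln (algebraMap B Ln (s₁ * s₂)) := by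
      rw [map_mul, map_mul, map_mul, map_mul, ← h2, map_mul]
      field_simp
    rw [hrU, hrV]

end Groth.Agent.Lib.Helper18.KeyL
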