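import Mathlib
import Groth.Prelude.Def_Tame
import Groth.Agent.Lib.Helper26.NormLength

set_option autoImplicit false
set_option linter.style.haveILetI false
set_option linter.unusedSectionVars false

/-! Key lemma (S1851), part M: the order of a norm for a finite extension of one-dimensional
local domains with the same residue field. -/

namespace Groth.Agent.Lib.Helper18.KeyM

open Function IsLocalRing

universe u

section norm

variable {A₀ B₀ K₀ L₀ : Type u} [CommRing A₀] [IsDomain A₀] [IsNoetherianRing A₀]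
  [Ring.KrullDimLE 1 A₀] [CommRing B₀] [IsDomain B₀] [Algebra A₀ B₀] [Module.Finite A₀ B₀]
  [Field K₀] [Field L₀] [Algebra A₀ K₀] [IsFractionRing A₀ K₀] [Algebra B₀ L₀]
  [IsFractionRing B₀ L₀] [Algebra K₀ L₀] [Algebra A₀ L₀] [IsScalarTower A₀ B₀ L₀]
  [IsScalarTower A₀ K₀ L₀] [FiniteDimensional K₀ L₀] [IsLocalRing A₀] [IsLocalRing B₀]
  [IsLocalHom (algebraMap A₀ B₀)]

theorem length_residueField_eq_one
    (hres : ∀ x : B₀, ∃ α : A₀, x - algebraMap A₀ B₀ α ∈ maximalIdeal B₀) :
    Module.length (ResidueField A₀) (ResidueField B₀) = 1 := by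
  have hsurj : Surjective (algebraMap (ResidueField A₀) (ResidueField B₀)) := by
    intro y
    obtain ⟨x, rfl⟩ := IsLocalRing.residue_surjective y
    obtain ⟨α, hα⟩ := hres x
    refine ⟨residue A₀ α, ?_⟩
    rw [IsLocalRing.ResidueField.algebraMap_residue]
    symm
    rw [← sub_eq_zero, ← map_sub, residue_eq_zero_iff]
    exact hα
  rw [Module.length_eq_of_surjective hsurj, Module.length_eq_finrank, Module.finrank_self]
  rfl

theorem ordFrac_norm_eq
    (hres : ∀ x : B₀, ∃ α : A₀, x - algebraMap A₀ B₀ α ∈ maximalIdeal B₀) (r : B₀) (hr : r ≠ 0) :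
    CycAlg.ordFrac A₀ K₀ (Algebra.norm K₀ (algebraMap B₀ L₀ r)) = ((Ring.ord B₀ r).toNat : ℤ) := by
  obtain ⟨-, hkey⟩ := Groth.Agent.Lib.Helper26.NormLength.main_14503 (A := A₀) (B := B₀)
    (K := K₀) (L := L₀) r hr
  rw [← hkey]
  congr 2
  rw [IsLocalRing.length_restrictScalars A₀ B₀ (B₀ ⧸ Ideal.span {r}),
    length_residueField_eq_one hres, mul_one]
  rfl

end norm

section frac

variable {B S : Type u} [CommRing B] [CommRing S] [Algebra B S] (P : Ideal B) [P.IsPrime]
  [IsLocalization.AtPrime S P] [IsLocalRing S] [Algebra (B ⧸ P) (ResidueField S)]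

theorem isFractionRing_residue
    (hcompat : ∀ x : B, algebraMap (B ⧸ P) (ResidueField S) (Ideal.Quotient.mk P x) =
      residue S (algebraMap B S x)) : IsFractionRing (B ⧸ P) (ResidueField S) := by
  have hinj : Injective (algebraMap (B ⧸ P) (ResidueField S)) := by
    rw [injective_iff_map_eq_zero]
    intro x hx
    obtain ⟨x, rfl⟩ := Ideal.Quotient.mk_surjective x
    rw [hcompat, residue_eq_zero_iff, IsLocalization.AtPrime.to_map_mem_maximal_iff S P] at hx
    exact Ideal.Quotient.eq_zero_iff_mem.mpr hx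
  refine ⟨?_, ?_, ?_⟩
  · intro y
    exact isUnit_iff_ne_zero.mpr (map_ne_zero_of_mem_nonZeroDivisors _ hinj y.2)
  · intro x
    obtain ⟨x, rfl⟩ := IsLocalRing.residue_surjective x
    obtain ⟨x, ⟨s, hs⟩, rfl⟩ := IsLocalization.exists_mk'_eq P.primeCompl x
    refine ⟨⟨Ideal.Quotient.mk _ x, ⟨Ideal.Quotient.mk _ s, ?_⟩⟩, ?_⟩
    · rwa [mem_nonZeroDivisors_iff_ne_zero, ne_eq, Ideal.Quotient.eq_zero_iff_mem]
    · show residue S (IsLocalization.mk' S x ⟨s, hs⟩) *
        algebraMap (B ⧸ P) (ResidueField S) (Ideal.Quotient.mk P s) =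
        algebraMap (B ⧸ P) (ResidueField S) (Ideal.Quotient.mk P x)
      rw [hcompat, hcompat, ← map_mul, IsLocalization.mk'_spec]
  · intro x y e
    exact ⟨1, by rw [hinj e]⟩

end frac

end Groth.Agent.Lib.Helper18.KeyM
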