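import Mathlib
import Groth.Prelude.Def_Tame
import Groth.Agent.Lib.Helper18.KeyB
import Groth.Agent.Lib.Helper18.KeyL
import Groth.Agent.Lib.Helper18.KeyM
import Groth.Agent.Lib.Helper26.OrdZ
import Groth.Agent.Lib.Helper26.TameN

set_option autoImplicit false
set_option linter.style.haveILetI false
set_option linter.unusedSectionVars false

/-! Key lemma (S1851), part N: the contribution of one prime. -/

namespace Groth.Agent.Lib.Helper18.KeyN

open Function IsLocalRing CycAlg
open Groth.Agent.Lib.Helper18.KeyM Groth.Agent.Lib.Helper18.KeyL Groth.Agent.Lib.Helper18.KeyB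

universe u

theorem hom_formula {F : Type*} [Field F] (o : F → ℤ) (h1 : o 1 = 0)
    (hmul : ∀ x y, x ≠ 0 → y ≠ 0 → o (x * y) = o x + o y) (U S V : F) (hU : U ≠ 0) (hS : S ≠ 0)
    (hV : V ≠ 0) (e f m : ℕ) :
    o (((-1) ^ (e * f) * (U / S) ^ f * ((V / S) ^ e)⁻¹) ^ m) =
      m * (f * (o U - o S) - e * (o V - o S)) := by
  have hpow : ∀ (x : F), x ≠ 0 → ∀ k : ℕ, o (x ^ k) = k * o x := by
    intro x hx k
    induction k with
    | zero => simp [h1]
    | succ k ih => rw [pow_succ, hmul _ _ (pow_ne_zero k hx) hx, ih]; push_cast; ring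
  have hinv : ∀ x : F, x ≠ 0 → o x⁻¹ = - o x := by
    intro x hx
    have := hmul x x⁻¹ hx (inv_ne_zero hx)
    rw [mul_inv_cancel₀ hx, h1] at this
    linarith
  have hneg : o (-1) = 0 := by
    have := hmul (-1) (-1) (neg_ne_zero.mpr one_ne_zero) (neg_ne_zero.mpr one_ne_zero)
    rw [neg_mul_neg, one_mul, h1] at this
    linarith
  have hdiv : ∀ x y : F, x ≠ 0 → y ≠ 0 → o (x / y) = o x - o y := by
    intro x y hx hy
    rw [div_eq_mul_inv, hmul _ _ hx (inv_ne_zero hy), hinv y hy]; ring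
  have hm1 : ((-1 : F) ^ (e * f)) ≠ 0 := pow_ne_zero _ (neg_ne_zero.mpr one_ne_zero)
  have hUS : (U / S) ^ f ≠ 0 := pow_ne_zero _ (div_ne_zero hU hS)
  have hVS : ((V / S) ^ e)⁻¹ ≠ 0 := inv_ne_zero (pow_ne_zero _ (div_ne_zero hV hS))
  rw [hpow _ (mul_ne_zero (mul_ne_zero hm1 hUS) hVS), hmul _ _ (mul_ne_zero hm1 hUS) hVS,
    hmul _ _ hm1 hUS, hpow _ (neg_ne_zero.mpr one_ne_zero), hneg,
    hpow _ (div_ne_zero hU hS), hdiv U S hU hS, hinv _ (pow_ne_zero _ (div_ne_zero hV hS)),
    hpow _ (div_ne_zero hV hS), hdiv V S hV hS]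
  ring

section

variable {A B : Type u} [CommRing A] [CommRing B] [IsNoetherianRing A] [IsLocalRing A]
  [IsLocalRing B] [Algebra A B] [Module.Finite A B] [IsLocalHom (algebraMap A B)]
  (hres : ∀ x : B, ∃ α : A, x - algebraMap A B α ∈ maximalIdeal B)
  (q : Ideal A) [q.IsPrime] [Ring.KrullDimLE 1 (A ⧸ q)]
  (P : Ideal B) [P.IsPrime] (hPq : P.comap (algebraMap A B) = q)
  {Ln : Type u} [CommRing Ln] [IsLocalRing Ln] [Algebra B Ln] [IsLocalization.AtPrime Ln P]
  [Algebra (Localization.AtPrime q) Ln] [Algebra A Ln]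
  [IsScalarTower A (Localization.AtPrime q) Ln] [IsScalarTower A B Ln]
  [IsLocalHom (algebraMap (Localization.AtPrime q) Ln)]
  [FiniteDimensional q.ResidueField (ResidueField Ln)]

include hres hPq in
theorem ordFrac_norm_residue (x : B) (hx : x ∉ P) :
    CycAlg.ordFrac (A ⧸ q) q.ResidueField
      (Algebra.norm q.ResidueField (residue Ln (algebraMap B Ln x))) =
      ((Ring.ord (B ⧸ P) (Ideal.Quotient.mk P x)).toNat : ℤ) := by
  have hle : ∀ α ∈ q, ((Ideal.Quotient.mk P).comp (algebraMap A B)) α = 0 := by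
    intro α hα
    rw [RingHom.comp_apply, Ideal.Quotient.eq_zero_iff_mem, ← Ideal.mem_comap, hPq]
    exact hα
  letI algAB : Algebra (A ⧸ q) (B ⧸ P) :=
    (Ideal.Quotient.lift q ((Ideal.Quotient.mk P).comp (algebraMap A B)) hle).toAlgebra
  haveI tow1 : IsScalarTower A (A ⧸ q) (B ⧸ P) := IsScalarTower.of_algebraMap_eq (fun α => rfl)
  haveI : Module.Finite A (B ⧸ P) :=
    Module.Finite.of_surjective (Ideal.Quotient.mkₐ A P).toLinearMap Ideal.Quotient.mk_surjective
  haveI : Module.Finite (A ⧸ q) (B ⧸ P) := Module.Finite.of_restrictScalars_finite A _ _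
  haveI : IsLocalRing (A ⧸ q) :=
    IsLocalRing.of_surjective' (Ideal.Quotient.mk q) Ideal.Quotient.mk_surjective
  haveI : IsLocalRing (B ⧸ P) :=
    IsLocalRing.of_surjective' (Ideal.Quotient.mk P) Ideal.Quotient.mk_surjective
  haveI hlocA : IsLocalHom (Ideal.Quotient.mk q) :=
    IsLocalHom.of_surjective _ Ideal.Quotient.mk_surjective
  haveI hlocB : IsLocalHom (Ideal.Quotient.mk P) :=
    IsLocalHom.of_surjective _ Ideal.Quotient.mk_surjective
  haveI : IsLocalHom (algebraMap (A ⧸ q) (B ⧸ P)) := by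
    constructor
    intro y hy
    obtain ⟨α, rfl⟩ := Ideal.Quotient.mk_surjective y
    have h1 : IsUnit (Ideal.Quotient.mk P (algebraMap A B α)) := hy
    have h2 : IsUnit (algebraMap A B α) := hlocB.map_nonunit _ h1
    have h3 : IsUnit α := IsLocalHom.map_nonunit (f := algebraMap A B) _ h2
    exact h3.map _
  have hres₀ : ∀ y : B ⧸ P, ∃ α : A ⧸ q, y - algebraMap (A ⧸ q) (B ⧸ P) α ∈ maximalIdeal (B ⧸ P) := by
    intro y
    obtain ⟨y, rfl⟩ := Ideal.Quotient.mk_surjective y
    obtain ⟨α, hα⟩ := hres y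
    refine ⟨Ideal.Quotient.mk q α, ?_⟩
    have : Ideal.Quotient.mk P y - algebraMap (A ⧸ q) (B ⧸ P) (Ideal.Quotient.mk q α) =
        Ideal.Quotient.mk P (y - algebraMap A B α) := by
      rw [map_sub]; rfl
    rw [this, IsLocalRing.mem_maximalIdeal, mem_nonunits_iff]
    intro hu
    exact hα (hlocB.map_nonunit _ hu)
  have hle' : ∀ z ∈ P, ((residue Ln).comp (algebraMap B Ln)) z = 0 := by
    intro z hz
    rw [RingHom.comp_apply, residue_eq_zero_iff, IsLocalization.AtPrime.to_map_mem_maximal_iff Ln P]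
    exact hz
  letI algBL : Algebra (B ⧸ P) (ResidueField Ln) :=
    (Ideal.Quotient.lift P ((residue Ln).comp (algebraMap B Ln)) hle').toAlgebra
  haveI : IsFractionRing (B ⧸ P) (ResidueField Ln) := isFractionRing_residue P (fun z => rfl)
  letI algAL : Algebra (A ⧸ q) (ResidueField Ln) :=
    ((algebraMap q.ResidueField (ResidueField Ln)).comp
      (algebraMap (A ⧸ q) q.ResidueField)).toAlgebra
  haveI : IsScalarTower (A ⧸ q) q.ResidueField (ResidueField Ln) :=
    IsScalarTower.of_algebraMap_eq (fun _ => rfl)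
  haveI : IsScalarTower (A ⧸ q) (B ⧸ P) (ResidueField Ln) := by
    apply IsScalarTower.of_algebraMap_eq
    intro y
    obtain ⟨α, rfl⟩ := Ideal.Quotient.mk_surjective y
    show algebraMap q.ResidueField (ResidueField Ln)
      (algebraMap (A ⧸ q) q.ResidueField (Ideal.Quotient.mk q α)) =
      residue Ln (algebraMap B Ln (algebraMap A B α))
    rw [Ideal.algebraMap_quotient_residueField_mk,
      IsScalarTower.algebraMap_apply A (Localization.AtPrime q) q.ResidueField,
      ResidueField.algebraMap_eq, IsLocalRing.ResidueField.algebraMap_residue,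
      ← IsScalarTower.algebraMap_apply A (Localization.AtPrime q) Ln,
      ← IsScalarTower.algebraMap_apply A B Ln]
  have hx0 : Ideal.Quotient.mk P x ≠ 0 := by
    rw [Ne, Ideal.Quotient.eq_zero_iff_mem]; exact hx
  exact ordFrac_norm_eq (A₀ := A ⧸ q) (B₀ := B ⧸ P) (K₀ := q.ResidueField)
    (L₀ := ResidueField Ln) hres₀ (Ideal.Quotient.mk P x) hx0

end

end Groth.Agent.Lib.Helper18.KeyN
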