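import Mathlib
import Groth.Prelude.Def_Tame
import Groth.Agent.Lib.Helper18.KeyN

set_option autoImplicit false
set_option linter.style.haveILetI false
set_option linter.unusedSectionVars false

/-! Key lemma (S1851), part O: the contribution of one prime, assembled. -/

namespace Groth.Agent.Lib.Helper18.KeyO

open Function IsLocalRing CycAlg
open Groth.Agent.Lib.Helper18.KeyM Groth.Agent.Lib.Helper18.KeyL Groth.Agent.Lib.Helper18.KeyB
  Groth.Agent.Lib.Helper18.KeyN

universe u

variable {A B : Type u} [CommRing A] [CommRing B] [IsNoetherianRing A] [IsLocalRing A]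
  [IsLocalRing B] [Algebra A B] [Module.Finite A B] [IsLocalHom (algebraMap A B)]
  (hres : ∀ x : B, ∃ α : A, x - algebraMap A B α ∈ maximalIdeal B)
  (q : Ideal A) [q.IsPrime] [Ring.KrullDimLE 1 (A ⧸ q)]
  (P : Ideal B) [P.IsPrime] (hPq : P.comap (algebraMap A B) = q)
  {Ln : Type u} [CommRing Ln] [IsLocalRing Ln] [Algebra B Ln] [IsLocalization.AtPrime Ln P]
  [Algebra (Localization.AtPrime q) Ln] [Algebra A Ln]
  [IsScalarTower A (Localization.AtPrime q) Ln] [IsScalarTower A B Ln]
  [IsLocalHom (algebraMap (Localization.AtPrime q) Ln)]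
  [FiniteDimensional q.ResidueField (ResidueField Ln)] [IsNoetherianRing Ln]

include hres hPq in
theorem per_prime (hdim : ringKrullDim Ln = 1) (a b : A)
    (π : Ln) (hπ : π ∈ nonZeroDivisors Ln) (U V : Lnˣ) (e f : ℕ)
    (hfa : algebraMap A Ln a = (U : Ln) * π ^ e) (hfb : algebraMap A Ln b = (V : Ln) * π ^ f) :
    ∃ p u v s : B, u ∉ P ∧ v ∉ P ∧ s ∉ P ∧
      algebraMap B (Localization.AtPrime P) p ∈ nonZeroDivisors (Localization.AtPrime P) ∧
      algebraMap B (Localization.AtPrime P) (s * algebraMap A B a) =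
        algebraMap B (Localization.AtPrime P) (u * p ^ e) ∧
      algebraMap B (Localization.AtPrime P) (s * algebraMap A B b) =
        algebraMap B (Localization.AtPrime P) (v * p ^ f) ∧
      CycAlg.ordFrac (A ⧸ q) q.ResidueField (Algebra.norm q.ResidueField
          (tameSymbol Ln (algebraMap A Ln a) (algebraMap A Ln b))) =
        ((Ring.ord (Localization.AtPrime P) (algebraMap B (Localization.AtPrime P) p)).toNat : ℤ) *
          (f * (ordq (⟨P, inferInstance⟩ : PrimeSpectrum B) u -
              ordq (⟨P, inferInstance⟩ : PrimeSpectrum B) s) -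
            e * (ordq (⟨P, inferInstance⟩ : PrimeSpectrum B) v -
              ordq (⟨P, inferInstance⟩ : PrimeSpectrum B) s)) := by
  have hfa' : algebraMap B Ln (algebraMap A B a) = (U : Ln) * π ^ e := by
    rw [← IsScalarTower.algebraMap_apply A B Ln]; exact hfa
  have hfb' : algebraMap B Ln (algebraMap A B b) = (V : Ln) * π ^ f := by
    rw [← IsScalarTower.algebraMap_apply A B Ln]; exact hfb
  obtain ⟨p, u, v, s, hu, hv, hs, hp, h1, h2, hsym⟩ :=
    exists_data P hdim (algebraMap A B a) (algebraMap A B b) π hπ U V e f hfa' hfb'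
  let σ : Ln ≃ₐ[B] Localization.AtPrime P :=
    IsLocalization.algEquiv P.primeCompl Ln (Localization.AtPrime P)
  have hσ : ∀ x : B, σ (algebraMap B Ln x) = algebraMap B (Localization.AtPrime P) x :=
    fun x => σ.commutes x
  refine ⟨p, u, v, s, hu, hv, hs, ?_, ?_, ?_, ?_⟩
  · rw [← hσ]
    exact Groth.Agent.Lib.Helper26.TameN.ringEquiv_mem_nonZeroDivisors σ.toRingEquiv _ hp
  · rw [← hσ, ← hσ, h1]
  · rw [← hσ, ← hσ, h2]
  · have hord : Ring.ord (Localization.AtPrime P) (algebraMap B (Localization.AtPrime P) p) =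
        Ring.ord Ln (algebraMap B Ln p) := by
      rw [← hσ]
      exact Groth.Agent.Lib.Helper26.TameN.ord_ringEquiv σ.toRingEquiv _
    rw [hord, IsScalarTower.algebraMap_apply A B Ln a, IsScalarTower.algebraMap_apply A B Ln b, hsym]
    have hunit : ∀ x : B, x ∉ P → residue Ln (algebraMap B Ln x) ≠ 0 := by
      intro x hx
      rw [Ne, residue_eq_zero_iff]
      exact fun h => h (IsLocalization.map_units Ln (⟨x, hx⟩ : P.primeCompl))
    have key := hom_formula
      (fun x : ResidueField Ln => CycAlg.ordFrac (A ⧸ q) q.ResidueField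
        (Algebra.norm q.ResidueField x))
      (by
        show CycAlg.ordFrac (A ⧸ q) q.ResidueField (Algebra.norm q.ResidueField 1) = 0
        rw [map_one]
        exact Groth.Agent.Lib.Helper26.OrdZ.ordFrac_one)
      (by
        intro x y hx hy
        show CycAlg.ordFrac (A ⧸ q) q.ResidueField (Algebra.norm q.ResidueField (x * y)) = _
        rw [map_mul]
        exact Groth.Agent.Lib.Helper26.OrdZ.ordFrac_mul
          (Algebra.norm_ne_zero_iff.mpr hx) (Algebra.norm_ne_zero_iff.mpr hy))
      (residue Ln (algebraMap B Ln u)) (residue Ln (algebraMap B Ln s))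
      (residue Ln (algebraMap B Ln v)) (hunit u hu) (hunit s hs) (hunit v hv) e f
      (Ring.ord Ln (algebraMap B Ln p)).toNat
    rw [key, ordFrac_norm_residue hres q P hPq u hu, ordFrac_norm_residue hres q P hPq v hv,
      ordFrac_norm_residue hres q P hPq s hs]
    rfl

end Groth.Agent.Lib.Helper18.KeyO
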