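import Mathlib
import Groth.Prelude.Def_Tame
import Groth.Agent.Lib.Helper18.KeyO

set_option autoImplicit false
set_option linter.style.haveILetI false
set_option linter.unusedSectionVars false

/-! Key lemma (S1851), part P: the contribution of a height one prime `q` of `A`, in terms of the
primes of `B` above it (abstract `C_q`). -/

namespace Groth.Agent.Lib.Helper18.KeyP

open Function IsLocalRing CycAlg
open Groth.Agent.Lib.Helper18.KeyB Groth.Agent.Lib.Helper18.KeyO

universe u

variable {A B : Type u} [CommRing A] [CommRing B] [IsNoetherianRing A] [IsLocalRing A]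
  [IsLocalRing B] [Algebra A B] [Module.Finite A B] [IsLocalHom (algebraMap A B)]
  (hres : ∀ x : B, ∃ α : A, x - algebraMap A B α ∈ maximalIdeal B)
  (q : Ideal A) [q.IsPrime] [Ring.KrullDimLE 1 (A ⧸ q)]
  (hL : ringKrullDim (Localization.AtPrime q) = 1)
  {Cq : Type u} [CommRing Cq] [Algebra (Localization.AtPrime q) Cq] [Algebra A Cq]
  [IsScalarTower A (Localization.AtPrime q) Cq] [Algebra B Cq] [IsScalarTower A B Cq]
  [Module.Finite (Localization.AtPrime q) Cq]
  [IsLocalization (Algebra.algebraMapSubmonoid B q.primeCompl) Cq]

/-- the prime of `B` below a maximal ideal of `C_q`. -/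
def below (n : MaximalSpectrum Cq) : PrimeSpectrum B :=
  ⟨n.asIdeal.comap (algebraMap B Cq), (haveI := n.isMaximal.isPrime; Ideal.comap_isPrime _ _)⟩

theorem below_comap (n : MaximalSpectrum Cq) :
    (below (B := B) n).asIdeal.comap (algebraMap A B) = q := by
  haveI := n.isMaximal
  haveI : Algebra.IsIntegral (Localization.AtPrime q) Cq := Algebra.IsIntegral.of_finite _ _
  have h1 : (n.asIdeal.comap (algebraMap (Localization.AtPrime q) Cq)) =
      maximalIdeal (Localization.AtPrime q) :=
    IsLocalRing.eq_maximalIdeal (Ideal.isMaximal_comap_of_isIntegral_of_isMaximal n.asIdeal)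
  show (n.asIdeal.comap (algebraMap B Cq)).comap (algebraMap A B) = q
  rw [Ideal.comap_comap, ← IsScalarTower.algebraMap_eq A B Cq,
    IsScalarTower.algebraMap_eq A (Localization.AtPrime q) Cq, ← Ideal.comap_comap, h1]
  exact IsLocalization.AtPrime.comap_maximalIdeal (Localization.AtPrime q) q

include q in
theorem below_le (n n' : MaximalSpectrum Cq)
    (h : (below (B := B) n).asIdeal ≤ (below (B := B) n').asIdeal) : n = n' := by
  have e1 := IsLocalization.map_comap (Algebra.algebraMapSubmonoid B q.primeCompl) Cq n.asIdeal
  have e2 := IsLocalization.map_comap (Algebra.algebraMapSubmonoid B q.primeCompl) Cq n'.asIdeal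
  simp only [Ideal.under_def] at e1 e2
  have hle : n.asIdeal ≤ n'.asIdeal := by
    rw [← e1, ← e2]
    exact Ideal.map_mono h
  apply MaximalSpectrum.ext
  exact n.isMaximal.eq_of_le n'.isMaximal.ne_top hle

theorem exists_below (P : Ideal B) [P.IsPrime] (hP : P.comap (algebraMap A B) = q) :
    ∃ n : MaximalSpectrum Cq, (below (B := B) n).asIdeal = P := by
  haveI : Algebra.IsIntegral (Localization.AtPrime q) Cq := Algebra.IsIntegral.of_finite _ _
  have hdisj : Disjoint (Algebra.algebraMapSubmonoid B q.primeCompl : Set B) (P : Set B) := by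
    rw [Set.disjoint_left]
    rintro _ ⟨s, hs, rfl⟩ hmem
    apply hs
    rw [← hP]
    exact hmem
  have hcm := IsLocalization.under_map_of_isPrime_disjoint
    (Algebra.algebraMapSubmonoid B q.primeCompl) Cq (I := P) inferInstance hdisj
  rw [Ideal.under_def] at hcm
  have hprime : (P.map (algebraMap B Cq)).IsPrime :=
    IsLocalization.isPrime_of_isPrime_disjoint (Algebra.algebraMapSubmonoid B q.primeCompl) Cq P
      inferInstance hdisj
  -- its contraction to `A_q` is the maximal ideal
  have h1 : ((P.map (algebraMap B Cq)).comap (algebraMap (Localization.AtPrime q) Cq)).comap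
      (algebraMap A (Localization.AtPrime q)) = q := by
    rw [Ideal.comap_comap, ← IsScalarTower.algebraMap_eq A (Localization.AtPrime q) Cq,
      IsScalarTower.algebraMap_eq A B Cq, ← Ideal.comap_comap, hcm, hP]
  have h2 : (P.map (algebraMap B Cq)).comap (algebraMap (Localization.AtPrime q) Cq) =
      maximalIdeal (Localization.AtPrime q) := by
    have := IsLocalization.map_comap q.primeCompl (Localization.AtPrime q)
      ((P.map (algebraMap B Cq)).comap (algebraMap (Localization.AtPrime q) Cq))
    rw [Ideal.under_def, h1, IsLocalization.AtPrime.map_eq_maximalIdeal] at this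
    exact this.symm
  have hmax : (P.map (algebraMap B Cq)).IsMaximal := by
    apply Ideal.isMaximal_of_isIntegral_of_isMaximal_comap (R := Localization.AtPrime q)
    rw [h2]
    infer_instance
  exact ⟨⟨P.map (algebraMap B Cq), hmax⟩, hcm⟩

end Groth.Agent.Lib.Helper18.KeyP
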