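import Mathlib
import Groth.Prelude.Def_Tame
import Groth.Agent.Lib.Helper18.KeyP

set_option autoImplicit false
set_option linter.style.haveILetI false
set_option linter.unusedSectionVars false

/-! Key lemma (S1851), part Q: the contribution of a height one prime `q` of `A` (abstract `C_q`).
-/

namespace Groth.Agent.Lib.Helper18.KeyQ

open Function IsLocalRing CycAlg
open Groth.Agent.Lib.Helper18.KeyB Groth.Agent.Lib.Helper18.KeyO Groth.Agent.Lib.Helper18.KeyP

universe u

section ordprod

variable {R : Type u} [CommRing R] [IsDomain R] [IsNoetherianRing R] [Ring.KrullDimLE 1 R]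
  {K : Type u} [Field K] [Algebra R K] [IsFractionRing R K]

theorem ordFrac_prod {ι : Type*} (s : Finset ι) (g : ι → K) (hg : ∀ i ∈ s, g i ≠ 0) :
    CycAlg.ordFrac R K (∏ i ∈ s, g i) = ∑ i ∈ s, CycAlg.ordFrac R K (g i) := by
  classical
  induction s using Finset.induction_on with
  | empty => simp [Groth.Agent.Lib.Helper26.OrdZ.ordFrac_one]
  | insert i s hi ih =>
    rw [Finset.prod_insert hi, Finset.sum_insert hi,
      Groth.Agent.Lib.Helper26.OrdZ.ordFrac_mul (hg i (Finset.mem_insert_self i s))
        (Finset.prod_ne_zero_iff.mpr (fun j hj => hg j (Finset.mem_insert_of_mem hj))),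
      ih (fun j hj => hg j (Finset.mem_insert_of_mem hj))]

end ordprod

variable {A B : Type u} [CommRing A] [CommRing B] [IsNoetherianRing A] [IsLocalRing A]
  [IsLocalRing B] [Algebra A B] [Module.Finite A B] [IsLocalHom (algebraMap A B)]
  (hres : ∀ x : B, ∃ α : A, x - algebraMap A B α ∈ maximalIdeal B)
  (q : Ideal A) [q.IsPrime] [Ring.KrullDimLE 1 (A ⧸ q)]
  (hL : ringKrullDim (Localization.AtPrime q) = 1)
  {Cq : Type u} [CommRing Cq] [Algebra (Localization.AtPrime q) Cq] [Algebra A Cq]
  [IsScalarTower A (Localization.AtPrime q) Cq] [Algebra B Cq] [IsScalarTower A B Cq]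
  [Module.Finite (Localization.AtPrime q) Cq]
  [IsLocalization (Algebra.algebraMapSubmonoid B q.primeCompl) Cq]

include hres hL in
theorem contribution
    (hB : IsFinExt (Localization.AtPrime q) Cq (maximalIdeal (Localization.AtPrime q)))
    (hass : maximalIdeal (Localization.AtPrime q) ∉ associatedPrimes (Localization.AtPrime q) Cq)
    (a b t : A)
    (haL : algebraMap A (Localization.AtPrime q) a ∈ nonZeroDivisors (Localization.AtPrime q))
    (hbL : algebraMap A (Localization.AtPrime q) b ∈ nonZeroDivisors (Localization.AtPrime q))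
    (htq : t ∈ q)
    (htC : algebraMap (Localization.AtPrime q) Cq (algebraMap A (Localization.AtPrime q) t) ∈
      nonZeroDivisors Cq)
    (hmono : ∀ n : MaximalSpectrum Cq, ∃ π : Localization.AtPrime n.asIdeal,
      π ∈ nonZeroDivisors (Localization.AtPrime n.asIdeal) ∧
      ∃ (U V : (Localization.AtPrime n.asIdeal)ˣ) (e f : ℕ),
        algebraMap (Localization.AtPrime q) (Localization.AtPrime n.asIdeal)
          (algebraMap A (Localization.AtPrime q) a) = (U : Localization.AtPrime n.asIdeal) * π ^ e ∧
        algebraMap (Localization.AtPrime q) (Localization.AtPrime n.asIdeal)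
          (algebraMap A (Localization.AtPrime q) b) = (V : Localization.AtPrime n.asIdeal) * π ^ f) :
    ∃ (p u v s : MaximalSpectrum Cq → B) (e f : MaximalSpectrum Cq → ℕ),
      (∀ n : MaximalSpectrum Cq, u n ∉ (below (B := B) n).asIdeal ∧
        v n ∉ (below (B := B) n).asIdeal ∧ s n ∉ (below (B := B) n).asIdeal ∧
        algebraMap B (Localization.AtPrime (below (B := B) n).asIdeal) (p n) ∈
          nonZeroDivisors (Localization.AtPrime (below (B := B) n).asIdeal) ∧
        algebraMap B (Localization.AtPrime (below (B := B) n).asIdeal) (s n * algebraMap A B a) =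
          algebraMap B (Localization.AtPrime (below (B := B) n).asIdeal) (u n * p n ^ e n) ∧
        algebraMap B (Localization.AtPrime (below (B := B) n).asIdeal) (s n * algebraMap A B b) =
          algebraMap B (Localization.AtPrime (below (B := B) n).asIdeal) (v n * p n ^ f n)) ∧
      CycAlg.ordFrac (A ⧸ q) q.ResidueField
          (tameSymbol (Localization.AtPrime q) (algebraMap A (Localization.AtPrime q) a)
            (algebraMap A (Localization.AtPrime q) b)) =
        ∑ᶠ n : MaximalSpectrum Cq,
          ((Ring.ord (Localization.AtPrime (below (B := B) n).asIdeal)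
            (algebraMap B (Localization.AtPrime (below (B := B) n).asIdeal) (p n))).toNat : ℤ) *
          (f n * (ordq (below (B := B) n) (u n) - ordq (below (B := B) n) (s n)) -
            e n * (ordq (below (B := B) n) (v n) - ordq (below (B := B) n) (s n))) := by
  classical
  haveI : Algebra.IsIntegral (Localization.AtPrime q) Cq := Algebra.IsIntegral.of_finite _ _
  haveI : IsNoetherianRing Cq := IsNoetherianRing.of_finite (Localization.AtPrime q) Cq
  haveI hloc : ∀ n : MaximalSpectrum Cq,
      IsLocalHom (algebraMap (Localization.AtPrime q) (Localization.AtPrime n.asIdeal)) := fun n =>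
    (haveI := n.isMaximal; Groth.Agent.Lib.Helper26.TameL.isLocalHom_of_integral n.asIdeal)
  have hcm : algebraMap A (Localization.AtPrime q) t ∈ maximalIdeal (Localization.AtPrime q) :=
    (IsLocalization.AtPrime.to_map_mem_maximal_iff _ q t).mpr htq
  have haC := Groth.Agent.Lib.Helper26.TameN.algebraMap_mem_nonZeroDivisors_of_notMem_ass hB hass
    _ haL
  have hbC := Groth.Agent.Lib.Helper26.TameN.algebraMap_mem_nonZeroDivisors_of_notMem_ass hB hass
    _ hbL
  have hdim : ∀ n : MaximalSpectrum Cq, ringKrullDim (Localization.AtPrime n.asIdeal) = 1 := by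
    intro n
    haveI := n.isMaximal
    exact Groth.Agent.Lib.Helper26.TameN.ringKrullDim_localization_eq_one hL n.asIdeal
      (algebraMap A (Localization.AtPrime q) t) hcm htC
  have hper : ∀ n : MaximalSpectrum Cq, ∃ (e f : ℕ) (p u v s : B),
      (u ∉ (below (B := B) n).asIdeal ∧
        v ∉ (below (B := B) n).asIdeal ∧ s ∉ (below (B := B) n).asIdeal ∧
        algebraMap B (Localization.AtPrime (below (B := B) n).asIdeal) p ∈
          nonZeroDivisors (Localization.AtPrime (below (B := B) n).asIdeal) ∧
        algebraMap B (Localization.AtPrime (below (B := B) n).asIdeal) (s * algebraMap A B a) =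
          algebraMap B (Localization.AtPrime (below (B := B) n).asIdeal) (u * p ^ e) ∧
        algebraMap B (Localization.AtPrime (below (B := B) n).asIdeal) (s * algebraMap A B b) =
          algebraMap B (Localization.AtPrime (below (B := B) n).asIdeal) (v * p ^ f)) ∧
      CycAlg.ordFrac (A ⧸ q) q.ResidueField (Algebra.norm q.ResidueField
          (tameSymbol (Localization.AtPrime n.asIdeal)
            (algebraMap (Localization.AtPrime q) (Localization.AtPrime n.asIdeal)
              (algebraMap A (Localization.AtPrime q) a))
            (algebraMap (Localization.AtPrime q) (Localization.AtPrime n.asIdeal)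
              (algebraMap A (Localization.AtPrime q) b)))) =
        ((Ring.ord (Localization.AtPrime (below (B := B) n).asIdeal)
            (algebraMap B (Localization.AtPrime (below (B := B) n).asIdeal) p)).toNat : ℤ) *
          (f * (ordq (below (B := B) n) u - ordq (below (B := B) n) s) -
            e * (ordq (below (B := B) n) v - ordq (below (B := B) n) s)) := by
    intro n
    haveI := n.isMaximal
    haveI := hloc n
    obtain ⟨π, hπ, U, V, e, f, hfa, hfb⟩ := hmono n
    haveI : IsLocalization.AtPrime (Localization.AtPrime n.asIdeal) (below (B := B) n).asIdeal :=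
      IsLocalization.isLocalization_isLocalization_atPrime_isLocalization
        (Algebra.algebraMapSubmonoid B q.primeCompl) (Localization.AtPrime n.asIdeal) n.asIdeal
    haveI : FiniteDimensional q.ResidueField (ResidueField (Localization.AtPrime n.asIdeal)) :=
      Groth.Agent.Lib.Helper26.TameK1.finite_residueField n.asIdeal
    rw [← IsScalarTower.algebraMap_apply A (Localization.AtPrime q)
      (Localization.AtPrime n.asIdeal)] at hfa hfb
    obtain ⟨p, u, v, s, hu, hv, hs, hp, h1, h2, hval⟩ :=
      per_prime hres q (below (B := B) n).asIdeal (below_comap q n) (hdim n) a b π hπ U V e f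
        hfa hfb
    refine ⟨e, f, p, u, v, s, ⟨hu, hv, hs, hp, h1, h2⟩, ?_⟩
    rw [← IsScalarTower.algebraMap_apply A (Localization.AtPrime q)
      (Localization.AtPrime n.asIdeal), ← IsScalarTower.algebraMap_apply A (Localization.AtPrime q)
      (Localization.AtPrime n.asIdeal)]
    exact hval
  choose e f p u v s hcond hval using hper
  refine ⟨p, u, v, s, e, f, hcond, ?_⟩
  rw [Groth.Agent.Lib.Helper26.TameN.main_1849 (Localization.AtPrime q) hL Cq hB hass _ _ haL hbL]
  haveI : Finite (MaximalSpectrum Cq) :=
    Groth.Agent.Lib.Helper26.TameD.finite_maximalSpectrum (Localization.AtPrime q) Cq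
  haveI : Fintype (MaximalSpectrum Cq) := Fintype.ofFinite _
  rw [finprod_eq_prod_of_fintype, finsum_eq_sum_of_fintype, ordFrac_prod]
  · exact Finset.sum_congr rfl (fun n _ => hval n)
  · intro n _
    haveI := n.isMaximal
    haveI := hloc n
    haveI : FiniteDimensional q.ResidueField (ResidueField (Localization.AtPrime n.asIdeal)) :=
      Groth.Agent.Lib.Helper26.TameK1.finite_residueField n.asIdeal
    rw [Algebra.norm_ne_zero_iff]
    apply Groth.Agent.Lib.Helper26.TameM.law_nonvanishing (hdim n)
    · rw [IsScalarTower.algebraMap_apply (Localization.AtPrime q) Cq]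
      exact IsLocalization.map_nonZeroDivisors_le n.asIdeal.primeCompl _
        (Submonoid.mem_map_of_mem _ haC)
    · rw [IsScalarTower.algebraMap_apply (Localization.AtPrime q) Cq]
      exact IsLocalization.map_nonZeroDivisors_le n.asIdeal.primeCompl _
        (Submonoid.mem_map_of_mem _ hbC)

end Groth.Agent.Lib.Helper18.KeyQ
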