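import Mathlib
import Groth.Prelude.Def_Tame
import Groth.Agent.Lib.Helper18.KeyQ
import Groth.Agent.Lib.Helper18.KeyK
import Groth.Agent.Lib.Helper26.TameG

set_option autoImplicit false
set_option linter.style.haveILetI false
set_option linter.unusedSectionVars false

/-! Key lemma (S1851), part R: the contribution of a height one prime `q` of `A`, concretely. -/

namespace Groth.Agent.Lib.Helper18.KeyR

open Function IsLocalRing CycAlg
open Groth.Agent.Lib.Helper18.KeyB Groth.Agent.Lib.Helper18.KeyP Groth.Agent.Lib.Helper18.KeyQ
  Groth.Agent.Lib.Helper18.KeyK Groth.Agent.Lib.Helper18.KeyI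

universe u

variable {A : Type u} [CommRing A] [IsNoetherianRing A] [IsLocalRing A]

set_option synthInstance.maxHeartbeats 400000 in
set_option maxHeartbeats 1600000 in
theorem per_q (a b : A) (ha : a ∈ nonZeroDivisors A) (hb : b ∈ nonZeroDivisors A)
    (q : Ideal A) [q.IsPrime] [Ring.KrullDimLE 1 (A ⧸ q)]
    (hL : ringKrullDim (Localization.AtPrime q) = 1) (htq : a * b ∈ q) :
    ∃ Y : Finset (Localization.Away (a * b)), (∀ y ∈ Y, IsIntegral A y) ∧
      ∀ (B : Subalgebra A (Localization.Away (a * b))) [Module.Finite A B] [IsLocalRing B]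
        [IsLocalHom (algebraMap A B)],
        (∀ x : B, ∃ α : A, x - algebraMap A B α ∈ maximalIdeal B) →
        (∀ y ∈ Y, ∃ z : A, z ∉ q ∧ z • y ∈ B) →
        ∃ (Jq : Type u) (_ : Fintype Jq) (P : Jq → PrimeSpectrum B) (p u v s : Jq → B)
          (e f : Jq → ℕ),
          (∀ j, (P j).asIdeal.comap (algebraMap A B) = q) ∧
          (∀ j k, (P j).asIdeal ≤ (P k).asIdeal → j = k) ∧
          (∀ P' : Ideal B, P'.IsPrime → P'.comap (algebraMap A B) = q → ∃ j, (P j).asIdeal = P') ∧
          (∀ j, u j ∉ (P j).asIdeal ∧ v j ∉ (P j).asIdeal ∧ s j ∉ (P j).asIdeal ∧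
            algebraMap B (Localization.AtPrime (P j).asIdeal) (p j) ∈
              nonZeroDivisors (Localization.AtPrime (P j).asIdeal) ∧
            algebraMap B (Localization.AtPrime (P j).asIdeal) (s j * algebraMap A B a) =
              algebraMap B (Localization.AtPrime (P j).asIdeal) (u j * p j ^ e j) ∧
            algebraMap B (Localization.AtPrime (P j).asIdeal) (s j * algebraMap A B b) =
              algebraMap B (Localization.AtPrime (P j).asIdeal) (v j * p j ^ f j)) ∧
          CycAlg.ordFrac (A ⧸ q) q.ResidueField
              (tameSymbol (Localization.AtPrime q) (algebraMap A (Localization.AtPrime q) a)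
                (algebraMap A (Localization.AtPrime q) b)) =
            ∑ j, ((Ring.ord (Localization.AtPrime (P j).asIdeal)
                (algebraMap B (Localization.AtPrime (P j).asIdeal) (p j))).toNat : ℤ) *
              (f j * (ordq (P j) (u j) - ordq (P j) (s j)) -
                e j * (ordq (P j) (v j) - ordq (P j) (s j))) := by
  classical
  set t := a * b with ht
  have htnzd : t ∈ nonZeroDivisors A := mul_mem ha hb
  have hloc : ∀ x ∈ nonZeroDivisors A, algebraMap A (Localization.AtPrime q) x ∈
      nonZeroDivisors (Localization.AtPrime q) := fun x hx =>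
    IsLocalization.map_nonZeroDivisors_le q.primeCompl _ (Submonoid.mem_map_of_mem _ hx)
  have haL := hloc a ha
  have hbL := hloc b hb
  have htL := hloc t htnzd
  have hunit : IsUnit (algebraMap A (FractionRing (Localization.AtPrime q)) t) :=
    isUnit_t t htL
  letI algAtK : Algebra (Localization.Away t) (FractionRing (Localization.AtPrime q)) :=
    (IsLocalization.Away.lift t hunit).toAlgebra
  haveI tow : IsScalarTower A (Localization.Away t) (FractionRing (Localization.AtPrime q)) :=
    IsScalarTower.of_algebraMap_eq (fun x => (IsLocalization.Away.lift_eq t hunit x).symm)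
  obtain ⟨F, hFint, hF⟩ := Groth.Agent.Lib.Helper26.TameG.exists_monomial hL
    (FractionRing (Localization.AtPrime q)) 2
    ![algebraMap A (Localization.AtPrime q) a, algebraMap A (Localization.AtPrime q) b]
    (by
      intro i
      fin_cases i
      · exact haL
      · exact hbL)
  have hlift : ∀ f : F, ∃ (y : Localization.Away t) (s : A), s ∉ q ∧ IsIntegral A y ∧
      algebraMap (Localization.Away t) (FractionRing (Localization.AtPrime q)) y =
        algebraMap A (FractionRing (Localization.AtPrime q)) s * (f : FractionRing _) := fun f =>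
    exists_integral_lift t q htq hL htL (f : FractionRing (Localization.AtPrime q))
      (hFint f.1 f.2)
  choose y s hs hyint hyf using hlift
  refine ⟨Finset.univ.image y, ?_, ?_⟩
  · intro y' hy'
    obtain ⟨f, -, rfl⟩ := Finset.mem_image.mp hy'
    exact hyint f
  intro B _ _ _ hres hYB
  -- `F ⊆ C_q`
  have hFC : (↑F : Set (FractionRing (Localization.AtPrime q))) ⊆
      (Cq (Localization.AtPrime q) (FractionRing (Localization.AtPrime q)) B : Set _) := by
    intro f hf
    obtain ⟨z, hz, hzy⟩ := hYB (y ⟨f, hf⟩) (Finset.mem_image_of_mem y (Finset.mem_univ _))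
    have h1 := iota_mem (L := Localization.AtPrime q)
      (K := FractionRing (Localization.AtPrime q)) B ⟨z • y ⟨f, hf⟩, hzy⟩
    rw [iota_apply] at h1
    have h2 : algebraMap (Localization.Away t) (FractionRing (Localization.AtPrime q))
        (z • y ⟨f, hf⟩) = algebraMap (Localization.AtPrime q) (FractionRing _)
          (algebraMap A (Localization.AtPrime q) (z * s ⟨f, hf⟩)) * f := by
      rw [Algebra.smul_def, map_mul, ← IsScalarTower.algebraMap_apply A (Localization.Away t),
        hyf ⟨f, hf⟩, ← IsScalarTower.algebraMap_apply A (Localization.AtPrime q), map_mul]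
      ring
    have hu : IsUnit (algebraMap A (Localization.AtPrime q) (z * s ⟨f, hf⟩)) :=
      IsLocalization.map_units _ (⟨z * s ⟨f, hf⟩,
        q.primeCompl.mul_mem hz (hs ⟨f, hf⟩)⟩ : q.primeCompl)
    obtain ⟨W, hW⟩ := hu
    have h3 : f = algebraMap (Localization.AtPrime q) (FractionRing _) ((W⁻¹ : _ˣ) : _) *
        algebraMap (Localization.Away t) (FractionRing (Localization.AtPrime q))
          (z • y ⟨f, hf⟩) := by
      rw [h2, ← hW, ← mul_assoc, ← map_mul, Units.inv_mul, map_one, one_mul]
    show f ∈ Cq (Localization.AtPrime q) (FractionRing (Localization.AtPrime q)) B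
    rw [h3]
    exact Subalgebra.mul_mem _ (Subalgebra.algebraMap_mem _ _) h1
  have hmono0 := hF (Cq (Localization.AtPrime q) (FractionRing (Localization.AtPrime q)) B) hFC
    inferInstance
  letI algBC : Algebra B (Cq (Localization.AtPrime q) (FractionRing (Localization.AtPrime q)) B) :=
    (toCq (Localization.AtPrime q) (FractionRing (Localization.AtPrime q)) B).toAlgebra
  haveI tow2 : IsScalarTower A B
      (Cq (Localization.AtPrime q) (FractionRing (Localization.AtPrime q)) B) := by
    apply IsScalarTower.of_algebraMap_eq
    intro x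
    apply Subtype.ext
    show algebraMap A (FractionRing (Localization.AtPrime q)) x =
      algebraMap (Localization.Away t) (FractionRing (Localization.AtPrime q))
        (algebraMap A (Localization.Away t) x)
    rw [← IsScalarTower.algebraMap_apply]
  haveI hlocC := isLocalization_Cq t q (L := Localization.AtPrime q)
    (K := FractionRing (Localization.AtPrime q)) B htL
  have hB := Groth.Agent.Lib.Helper26.TameD.isFinExt_of_finite hL
    (Cq (Localization.AtPrime q) (FractionRing (Localization.AtPrime q)) B)
  have hunitL : IsUnit (algebraMap (Localization.AtPrime q) (FractionRing (Localization.AtPrime q))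
      (algebraMap A (Localization.AtPrime q) t)) := by
    rw [← IsScalarTower.algebraMap_apply]; exact hunit
  have htC : algebraMap (Localization.AtPrime q)
      (Cq (Localization.AtPrime q) (FractionRing (Localization.AtPrime q)) B)
      (algebraMap A (Localization.AtPrime q) t) ∈ nonZeroDivisors _ :=
    Groth.Agent.Lib.Helper26.TameD.mem_nonZeroDivisors_of_isUnit_coe _ _ hunitL
  have hass : maximalIdeal (Localization.AtPrime q) ∉ associatedPrimes (Localization.AtPrime q)
      (Cq (Localization.AtPrime q) (FractionRing (Localization.AtPrime q)) B) := by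
    intro h
    obtain ⟨hprime, x, hx⟩ := (isAssociatedPrime_iff (R := Localization.AtPrime q)).mp h
    have htm : algebraMap A (Localization.AtPrime q) t ∈ maximalIdeal (Localization.AtPrime q) :=
      (IsLocalization.AtPrime.to_map_mem_maximal_iff _ q t).mpr htq
    rw [hx, Submodule.mem_colon_singleton, Submodule.mem_bot, Algebra.smul_def] at htm
    have hx0 : x = 0 := by
      have := (mem_nonZeroDivisors_iff.mp htC).1 x htm
      exact this
    rw [hx0] at hx
    apply hprime.ne_top
    rw [hx, eq_top_iff]
    intro r _
    rw [Submodule.mem_colon_singleton, smul_zero]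
    exact Submodule.zero_mem _
  have hmono : ∀ n : MaximalSpectrum
      (Cq (Localization.AtPrime q) (FractionRing (Localization.AtPrime q)) B),
      ∃ π : Localization.AtPrime n.asIdeal,
      π ∈ nonZeroDivisors (Localization.AtPrime n.asIdeal) ∧
      ∃ (U V : (Localization.AtPrime n.asIdeal)ˣ) (e f : ℕ),
        algebraMap (Localization.AtPrime q) (Localization.AtPrime n.asIdeal)
          (algebraMap A (Localization.AtPrime q) a) = (U : Localization.AtPrime n.asIdeal) * π ^ e ∧
        algebraMap (Localization.AtPrime q) (Localization.AtPrime n.asIdeal)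
          (algebraMap A (Localization.AtPrime q) b) = (V : Localization.AtPrime n.asIdeal) * π ^ f := by
    intro n
    haveI := n.isMaximal
    obtain ⟨π, hπ, h⟩ := hmono0 n.asIdeal
    obtain ⟨U, e, hU⟩ := h 0
    obtain ⟨V, f, hV⟩ := h 1
    exact ⟨π, hπ, U, V, e, f, hU, hV⟩
  obtain ⟨p, u, v, s', e, f, hcond, hval⟩ := contribution hres q hL hB hass a b t haL hbL htq htC
    hmono
  haveI : Finite (MaximalSpectrum
      (Cq (Localization.AtPrime q) (FractionRing (Localization.AtPrime q)) B)) :=
    Groth.Agent.Lib.Helper26.TameD.finite_maximalSpectrum (Localization.AtPrime q) _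
  letI instFin : Fintype (MaximalSpectrum
      (Cq (Localization.AtPrime q) (FractionRing (Localization.AtPrime q)) B)) := Fintype.ofFinite _
  refine ⟨MaximalSpectrum (Cq (Localization.AtPrime q) (FractionRing (Localization.AtPrime q)) B),
    instFin, below (B := B), p, u, v, s', e, f, ?_, ?_, ?_, hcond, ?_⟩
  · intro n
    exact below_comap q n
  · intro n n' h
    exact below_le q n n' h
  · intro P' hP' hP'q
    exact exists_below q P' hP'q
  · rw [hval, finsum_eq_sum_of_fintype]

end Groth.Agent.Lib.Helper18.KeyR
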