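import Mathlib
import Groth.Agent.Lib.Helper18.KeyG
import Groth.Agent.Lib.Helper18.KeyH
import Groth.Agent.Lib.Helper18.KeyR

set_option autoImplicit false
set_option linter.style.haveILetI false
set_option linter.unusedSectionVars false

/-! Key lemma (S1851), part S: final assembly. -/

namespace Groth.Agent.Lib.Helper18.KeyS

open Function IsLocalRing CycAlg
open Groth.Agent.Lib.Helper18.KeyB Groth.Agent.Lib.Helper18.KeyG Groth.Agent.Lib.Helper18.KeyH
  Groth.Agent.Lib.Helper18.KeyR

universe u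

variable {A : Type u} [CommRing A] [IsNoetherianRing A] [IsLocalRing A]

theorem finite_Q (t : A) (ht : t ∈ nonZeroDivisors A) :
    {q : PrimeSpectrum A | q.asIdeal.height = 1 ∧ t ∈ q.asIdeal}.Finite := by
  have hfin := Ideal.finite_minimalPrimes_of_isNoetherianRing A (Ideal.span {t})
  refine (hfin.preimage (f := PrimeSpectrum.asIdeal) ?_).subset ?_
  · intro x _ y _ h; exact PrimeSpectrum.ext h
  · rintro q ⟨hq1, hqt⟩
    simp only [Set.mem_preimage]
    haveI := q.2
    have hle : Ideal.span {t} ≤ q.asIdeal := (Ideal.span_singleton_le_iff_mem _).mpr hqt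
    refine Ideal.mem_minimalPrimes_of_height_le hle ?_
    rw [hq1]
    exact Ideal.one_le_height_span_singleton_of_mem_nonZeroDivisors ht

theorem ordFrac_one' (R : Type u) [CommRing R] (K : Type u) [Field K] [Algebra R K] :
    CycAlg.ordFrac R K (1 : K) = 0 := by
  unfold CycAlg.ordFrac
  split_ifs with h
  · haveI := h.1; haveI := h.2.1; haveI := h.2.2.1; haveI := h.2.2.2
    rw [map_one]
    rfl
  · rfl

theorem term_zero (a b : A) (q : Ideal A) [q.IsPrime] (htq : a * b ∉ q) :
    CycAlg.ordFrac (A ⧸ q) q.ResidueField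
      (tameSymbol (Localization.AtPrime q) (algebraMap A (Localization.AtPrime q) a)
        (algebraMap A (Localization.AtPrime q) b)) = 0 := by
  have ha : a ∉ q := fun h => htq (q.mul_mem_right b h)
  have hb : b ∉ q := fun h => htq (q.mul_mem_left a h)
  have hua : IsUnit (algebraMap A (Localization.AtPrime q) a) :=
    IsLocalization.map_units (Localization.AtPrime q) (⟨a, ha⟩ : q.primeCompl)
  have hub : IsUnit (algebraMap A (Localization.AtPrime q) b) :=
    IsLocalization.map_units (Localization.AtPrime q) (⟨b, hb⟩ : q.primeCompl)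
  rw [Groth.Agent.Lib.Helper26.TameN.tameSymbol_eq_one_of_isUnit' hua hub]
  exact ordFrac_one' _ _

theorem krullDimLE_quot (hA : ringKrullDim A = 2) (t : A) (ht : t ∈ nonZeroDivisors A)
    (q : Ideal A) [q.IsPrime] (htq : t ∈ q) : Ring.KrullDimLE 1 (A ⧸ q) := by
  rw [Ring.krullDimLE_iff]
  have h := ringKrullDim_succ_le_of_surjective (Ideal.Quotient.mk q)
    Ideal.Quotient.mk_surjective ht (Ideal.Quotient.eq_zero_iff_mem.mpr htq)
  rw [hA] at h
  induction' hx : ringKrullDim (A ⧸ q) using WithBot.recBotCoe with n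
  · exact bot_le
  · rw [hx] at h
    have h2 : ((n + 1 : ℕ∞) : WithBot ℕ∞) ≤ ((2 : ℕ∞) : WithBot ℕ∞) := by
      rw [WithBot.coe_add]; exact h
    rw [WithBot.coe_le_coe] at h2
    have h3 : n ≤ 1 := by
      have : (2 : ℕ∞) = 1 + 1 := by norm_num
      rw [this] at h2
      exact (ENat.add_le_add_iff_right (by simp)).mp h2
    rw [Nat.cast_one]
    exact_mod_cast h3

theorem dim_loc (q : Ideal A) [q.IsPrime] (hq : q.height = 1) :
    ringKrullDim (Localization.AtPrime q) = 1 := by
  rw [IsLocalization.AtPrime.ringKrullDim_eq_height q (Localization.AtPrime q), hq]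
  rfl

theorem exists_mem_notMem (hA : ringKrullDim A = 2) (q : Ideal A) [q.IsPrime] (hq : q.height = 1) :
    ∃ z ∈ maximalIdeal A, z ∉ q := by
  have hne : q ≠ maximalIdeal A := by
    intro h
    have h1 := IsLocalRing.maximalIdeal_height_eq_ringKrullDim (R := A)
    rw [← h, hq, hA] at h1
    exact absurd h1 (by decide)
  have hlt : q < maximalIdeal A := lt_of_le_of_ne (IsLocalRing.le_maximalIdeal (Ideal.IsPrime.ne_top inferInstance)) hne
  obtain ⟨z, hz, hzq⟩ := SetLike.exists_of_lt hlt
  exact ⟨z, hz, hzq⟩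


set_option synthInstance.maxHeartbeats 400000 in
set_option maxHeartbeats 1600000 in
theorem key_sum (hA : ringKrullDim A = 2) (a b : A) (ha : a ∈ nonZeroDivisors A)
    (hb : b ∈ nonZeroDivisors A) :
    ∑ q ∈ (finite_Q (a * b) (mul_mem ha hb)).toFinset,
      CycAlg.ordFrac (A ⧸ q.asIdeal) q.asIdeal.ResidueField
        (tameSymbol (Localization.AtPrime q.asIdeal)
          (algebraMap A (Localization.AtPrime q.asIdeal) a)
          (algebraMap A (Localization.AtPrime q.asIdeal) b)) = 0 := by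
  classical
  have htnzd : a * b ∈ nonZeroDivisors A := mul_mem ha hb
  set Q := (finite_Q (a * b) htnzd).toFinset with hQ
  have hQmem : ∀ q ∈ Q, q.asIdeal.height = 1 ∧ a * b ∈ q.asIdeal :=
    fun q hq => (Set.Finite.mem_toFinset (finite_Q (a * b) htnzd)).mp hq
  have hmemQ : ∀ q : PrimeSpectrum A, q.asIdeal.height = 1 → a * b ∈ q.asIdeal → q ∈ Q :=
    fun q h1 h2 => (Set.Finite.mem_toFinset (finite_Q (a * b) htnzd)).mpr ⟨h1, h2⟩
  -- per q data
  have hper : ∀ q : {q // q ∈ Q}, ∃ Y : Finset (Localization.Away (a * b)),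
      (∀ y ∈ Y, IsIntegral A y) ∧
      ∀ (B : Subalgebra A (Localization.Away (a * b))) [Module.Finite A B] [IsLocalRing B]
        [IsLocalHom (algebraMap A B)],
        (∀ x : B, ∃ α : A, x - algebraMap A B α ∈ maximalIdeal B) →
        (∀ y ∈ Y, ∃ z : A, z ∉ q.1.asIdeal ∧ z • y ∈ B) →
        ∃ (Jq : Type u) (_ : Fintype Jq) (P : Jq → PrimeSpectrum B) (p u v s : Jq → B)
          (e f : Jq → ℕ),
          (∀ j, (P j).asIdeal.comap (algebraMap A B) = q.1.asIdeal) ∧
          (∀ j k, (P j).asIdeal ≤ (P k).asIdeal → j = k) ∧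
          (∀ P' : Ideal B, P'.IsPrime → P'.comap (algebraMap A B) = q.1.asIdeal →
            ∃ j, (P j).asIdeal = P') ∧
          (∀ j, u j ∉ (P j).asIdeal ∧ v j ∉ (P j).asIdeal ∧ s j ∉ (P j).asIdeal ∧
            algebraMap B (Localization.AtPrime (P j).asIdeal) (p j) ∈
              nonZeroDivisors (Localization.AtPrime (P j).asIdeal) ∧
            algebraMap B (Localization.AtPrime (P j).asIdeal) (s j * algebraMap A B a) =
              algebraMap B (Localization.AtPrime (P j).asIdeal) (u j * p j ^ e j) ∧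
            algebraMap B (Localization.AtPrime (P j).asIdeal) (s j * algebraMap A B b) =
              algebraMap B (Localization.AtPrime (P j).asIdeal) (v j * p j ^ f j)) ∧
          CycAlg.ordFrac (A ⧸ q.1.asIdeal) q.1.asIdeal.ResidueField
              (tameSymbol (Localization.AtPrime q.1.asIdeal)
                (algebraMap A (Localization.AtPrime q.1.asIdeal) a)
                (algebraMap A (Localization.AtPrime q.1.asIdeal) b)) =
            ∑ j, ((Ring.ord (Localization.AtPrime (P j).asIdeal)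
                (algebraMap B (Localization.AtPrime (P j).asIdeal) (p j))).toNat : ℤ) *
              (f j * (ordq (P j) (u j) - ordq (P j) (s j)) -
                e j * (ordq (P j) (v j) - ordq (P j) (s j))) := by
    rintro ⟨q, hq⟩
    obtain ⟨h1, h2⟩ := hQmem q hq
    haveI := krullDimLE_quot hA (a * b) htnzd q.asIdeal h2
    exact per_q a b ha hb q.asIdeal (dim_loc q.asIdeal h1) h2
  choose Y hYint hY using hper
  -- the finite algebra C
  set Yall : Finset (Localization.Away (a * b)) := Finset.univ.biUnion Y with hYall_def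
  have hYall : ∀ y ∈ Yall, IsIntegral A y := by
    intro y hy
    obtain ⟨q, _, hyq⟩ := Finset.mem_biUnion.mp hy
    exact hYint q y hyq
  set C : Subalgebra A (Localization.Away (a * b)) :=
    Algebra.adjoin A (Yall : Set (Localization.Away (a * b))) with hC
  haveI hCfin : Module.Finite A C :=
    Module.Finite.iff_fg.mpr (fg_adjoin_of_finite Yall.finite_toSet hYall)
  have hinj : Function.Injective (algebraMap A (Localization.Away (a * b))) :=
    IsLocalization.injective (Localization.Away (a * b))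
      (Submonoid.powers_le.mpr htnzd)
  haveI : Nontrivial (Localization.Away (a * b)) := hinj.nontrivial
  haveI hBloc : IsLocalRing (glue C) := isLocalRing_glue C
  haveI hBhom : IsLocalHom (algebraMap A (glue C)) := isLocalHom_glue C
  haveI hBfin : Module.Finite A (glue C) :=
    Module.Finite.of_injective (Subalgebra.inclusion (glue_le C)).toLinearMap
      (Subalgebra.inclusion_injective (glue_le C))
  have hres : ∀ x : glue C, ∃ α : A, x - algebraMap A (glue C) α ∈ maximalIdeal (glue C) :=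
    exists_sub_mem_maximalIdeal C
  have hYB : ∀ q : {q // q ∈ Q}, ∀ y ∈ Y q, ∃ z : A, z ∉ q.1.asIdeal ∧ z • y ∈ glue C := by
    intro q y hy
    obtain ⟨h1, h2⟩ := hQmem q.1 q.2
    obtain ⟨z, hzm, hzq⟩ := exists_mem_notMem hA q.1.asIdeal h1
    refine ⟨z, hzq, mC_le_glue C ?_⟩
    exact Submodule.smul_mem_smul hzm
      (Algebra.subset_adjoin (Finset.mem_biUnion.mpr ⟨q, Finset.mem_univ _, hy⟩))
  have hdata := fun q => hY q (glue C) hres (hYB q)
  choose Jq hJq P p u v s e f hcomap hanti hcov hcond hformula using hdata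
  letI instJq : ∀ q, Fintype (Jq q) := hJq
  haveI hBnoeth : IsNoetherianRing (glue C) := IsNoetherianRing.of_finite A (glue C)
  have hnzdB : ∀ x ∈ nonZeroDivisors A, algebraMap A (glue C) x ∈ nonZeroDivisors (glue C) := by
    intro x hx
    have h1 : algebraMap A (Localization.Away (a * b)) x ∈
        nonZeroDivisors (Localization.Away (a * b)) :=
      IsLocalization.map_nonZeroDivisors_le (Submonoid.powers (a * b)) _
        (Submonoid.mem_map_of_mem _ hx)
    exact mem_nonZeroDivisors_of_injective (f := (glue C).val) Subtype.val_injective h1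
  have hmaxcomap : (maximalIdeal (glue C)).comap (algebraMap A (glue C)) = maximalIdeal A :=
    IsLocalRing.maximalIdeal_comap _
  have hmaxht : (maximalIdeal A).height = 2 := by
    have h1 := IsLocalRing.maximalIdeal_height_eq_ringKrullDim (R := A)
    rw [hA] at h1
    have h2 : ((maximalIdeal A).height : WithBot ℕ∞) = ((2 : ℕ∞) : WithBot ℕ∞) := h1
    exact WithBot.coe_injective h2
  have hqmax : ∀ x : (Σ q : {q // q ∈ Q}, Jq q), P x.1 x.2 ≠ closedPoint (glue C) := by
    rintro ⟨q, j⟩ h
    have h1 := hcomap q j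
    rw [h] at h1
    change (maximalIdeal (glue C)).comap (algebraMap A (glue C)) = q.1.asIdeal at h1
    rw [hmaxcomap] at h1
    obtain ⟨hq1, _⟩ := hQmem q.1 q.2
    rw [← h1, hmaxht] at hq1
    exact absurd hq1 (by decide)
  have hqt : ∀ x : (Σ q : {q // q ∈ Q}, Jq q),
      algebraMap A (glue C) a * algebraMap A (glue C) b ∈ (P x.1 x.2).asIdeal := by
    rintro ⟨q, j⟩
    obtain ⟨_, hq2⟩ := hQmem q.1 q.2
    rw [← hcomap q j, Ideal.mem_comap, map_mul] at hq2
    exact hq2
  have hcover : ∀ P' : PrimeSpectrum (glue C),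
      algebraMap A (glue C) a * algebraMap A (glue C) b ∈ P'.asIdeal →
      P' = closedPoint (glue C) ∨ ∃ x : (Σ q : {q // q ∈ Q}, Jq q), P' = P x.1 x.2 := by
    intro P' hP'
    haveI := P'.2
    set q₀ := P'.asIdeal.comap (algebraMap A (glue C)) with hq₀
    haveI hq₀p : q₀.IsPrime := Ideal.comap_isPrime _ _
    have htq₀ : a * b ∈ q₀ := by rw [hq₀, Ideal.mem_comap, map_mul]; exact hP'
    by_cases hm : q₀ = maximalIdeal A
    · left
      haveI hmx : (P'.asIdeal.comap (algebraMap A (glue C))).IsMaximal := by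
        rw [← hq₀, hm]; infer_instance
      have hmax : P'.asIdeal.IsMaximal :=
        Ideal.isMaximal_of_isIntegral_of_isMaximal_comap (R := A) P'.asIdeal hmx
      exact PrimeSpectrum.ext (IsLocalRing.eq_maximalIdeal hmax)
    · right
      have hlt : q₀ < maximalIdeal A :=
        lt_of_le_of_ne (IsLocalRing.le_maximalIdeal hq₀p.ne_top) hm
      have h2 : q₀.height < 2 := by
        rw [← hmaxht]; exact Ideal.height_strict_mono_of_isPrime_of_isPrime hlt
      have h1 : 1 ≤ q₀.height :=
        (Ideal.one_le_height_span_singleton_of_mem_nonZeroDivisors htnzd).trans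
          (Ideal.height_mono ((Ideal.span_singleton_le_iff_mem _).mpr htq₀))
      have h3 : q₀.height = 1 := by
        refine le_antisymm ?_ h1
        have h22 : (2 : ℕ∞) = 1 + 1 := by norm_num
        rw [h22] at h2
        exact (ENat.lt_add_one_iff (by simp)).mp h2
      have hmem : (⟨q₀, hq₀p⟩ : PrimeSpectrum A) ∈ Q := hmemQ ⟨q₀, hq₀p⟩ h3 htq₀
      obtain ⟨j, hj⟩ := hcov ⟨⟨q₀, hq₀p⟩, hmem⟩ P'.asIdeal P'.2 rfl
      exact ⟨⟨⟨⟨q₀, hq₀p⟩, hmem⟩, j⟩, PrimeSpectrum.ext hj.symm⟩
  have hanti' : ∀ x y : (Σ q : {q // q ∈ Q}, Jq q),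
      (P x.1 x.2).asIdeal ≤ (P y.1 y.2).asIdeal → x = y := by
    rintro ⟨q1, j1⟩ ⟨q2, j2⟩ hle
    have h12 : q1.1.asIdeal ≤ q2.1.asIdeal := by
      rw [← hcomap q1 j1, ← hcomap q2 j2]; exact Ideal.comap_mono hle
    haveI := q1.1.2
    have heq : q1.1.asIdeal = q2.1.asIdeal :=
      Ideal.eq_of_le_of_height_le _ h12 (by rw [(hQmem q1.1 q1.2).1, (hQmem q2.1 q2.2).1])
    have hq : q1 = q2 := Subtype.ext (PrimeSpectrum.ext heq)
    subst hq
    have := hanti q1 j1 j2 hle
    rw [this]
  have key := global_good (R := glue C) (algebraMap A (glue C) a) (algebraMap A (glue C) b)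
    (hnzdB a ha) (hnzdB b hb)
    (J := Σ q : {q // q ∈ Q}, Jq q) (fun x => P x.1 x.2) hqmax hqt hcover hanti'
    (fun x => p x.1 x.2) (fun x => u x.1 x.2) (fun x => v x.1 x.2) (fun x => s x.1 x.2)
    (fun x => e x.1 x.2) (fun x => f x.1 x.2)
    (fun x => (hcond x.1 x.2).1) (fun x => (hcond x.1 x.2).2.1) (fun x => (hcond x.1 x.2).2.2.1)
    (fun x => (hcond x.1 x.2).2.2.2.1) (fun x => (hcond x.1 x.2).2.2.2.2.1)
    (fun x => (hcond x.1 x.2).2.2.2.2.2)
  rw [← Finset.sum_coe_sort Q]
  rw [Finset.sum_congr rfl (fun q _ => hformula q)]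
  exact (Fintype.sum_sigma' _).symm.trans key


theorem key_lemma (hA : ringKrullDim A = 2) (a b : A) (ha : a ∈ nonZeroDivisors A)
    (hb : b ∈ nonZeroDivisors A) :
    ∑ᶠ (q : PrimeSpectrum A) (_ : q.asIdeal.height = 1),
      CycAlg.ordFrac (A ⧸ q.asIdeal) q.asIdeal.ResidueField
        (CycAlg.tameSymbol (Localization.AtPrime q.asIdeal)
          (algebraMap A (Localization.AtPrime q.asIdeal) a)
          (algebraMap A (Localization.AtPrime q.asIdeal) b)) = 0 := by
  rw [← key_sum hA a b ha hb]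
  show ∑ᶠ q ∈ {q : PrimeSpectrum A | q.asIdeal.height = 1}, _ = _
  apply finsum_mem_eq_sum_of_inter_support_eq
  ext q
  simp only [Set.mem_inter_iff, Function.mem_support, Set.Finite.coe_toFinset, Set.mem_setOf_eq]
  constructor
  · rintro ⟨h1, h2⟩
    refine ⟨⟨h1, ?_⟩, h2⟩
    by_contra htq
    haveI := q.2
    exact h2 (term_zero a b q.asIdeal htq)
  · rintro ⟨⟨h1, _⟩, h2⟩
    exact ⟨h1, h2⟩

end Groth.Agent.Lib.Helper18.KeyS
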