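import Mathlib
import Groth.Agent.Lib.Helper18.KF3
import Groth.Agent.Lib.Helper18.KeyS

set_option autoImplicit false
set_option linter.style.haveILetI false
set_option linter.unusedSectionVars false

/-! Key formula (S1920), part 4: the key lemma for fractions. -/

namespace Groth.Agent.Lib.Helper18.KF4

open Function IsLocalRing CycAlg
open Groth.Agent.Lib.Helper26.OrdZ Groth.Agent.Lib.Helper18.KF2 Groth.Agent.Lib.Helper18.KF3

universe u

section T

variable {A : Type u} [CommRing A]

/-- the term of the key lemma at the prime `q` -/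
noncomputable def T (q : Ideal A) [q.IsPrime] (α β : A) : ℤ :=
  CycAlg.ordFrac (A ⧸ q) q.ResidueField
    (tameSymbol (Localization.AtPrime q) (algebraMap A (Localization.AtPrime q) α)
      (algebraMap A (Localization.AtPrime q) β))

/-- the four term combination -/
noncomputable def T4 (q : Ideal A) [q.IsPrime] (α1 α2 β1 β2 : A) : ℤ :=
  T q α1 β1 + T q α2 β2 - T q α1 β2 - T q α2 β1

variable [IsNoetherianRing A] [IsLocalRing A]

theorem T_eq_zero (q : Ideal A) [q.IsPrime] {α β : A} (h : α * β ∉ q) : T q α β = 0 :=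
  Groth.Agent.Lib.Helper18.KeyS.term_zero α β q h

theorem key_T (hA : ringKrullDim A = 2) {α β : A} (hα : α ∈ nonZeroDivisors A)
    (hβ : β ∈ nonZeroDivisors A) :
    ∑ᶠ q ∈ {q : PrimeSpectrum A | q.asIdeal.height = 1}, T q.asIdeal α β = 0 :=
  Groth.Agent.Lib.Helper18.KeyS.key_lemma hA α β hα hβ

theorem finite_support_T {α β : A} (hα : α ∈ nonZeroDivisors A) (hβ : β ∈ nonZeroDivisors A) :
    ({q : PrimeSpectrum A | q.asIdeal.height = 1} ∩
      Function.support (fun q : PrimeSpectrum A => T q.asIdeal α β)).Finite := by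
  refine (Groth.Agent.Lib.Helper18.KeyS.finite_Q (α * β) (mul_mem hα hβ)).subset ?_
  rintro q ⟨h1, h2⟩
  refine ⟨h1, ?_⟩
  by_contra hq
  exact h2 (T_eq_zero q.asIdeal hq)

theorem key_T4 (hA : ringKrullDim A = 2) {α1 α2 β1 β2 : A} (h1 : α1 ∈ nonZeroDivisors A)
    (h2 : α2 ∈ nonZeroDivisors A) (h3 : β1 ∈ nonZeroDivisors A) (h4 : β2 ∈ nonZeroDivisors A) :
    ∑ᶠ q ∈ {q : PrimeSpectrum A | q.asIdeal.height = 1}, T4 q.asIdeal α1 α2 β1 β2 = 0 := by
  unfold T4
  have e : ∀ q : PrimeSpectrum A, T q.asIdeal α1 β1 + T q.asIdeal α2 β2 - T q.asIdeal α1 β2 -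
      T q.asIdeal α2 β1 = T q.asIdeal α1 β1 + T q.asIdeal α2 β2 + (- T q.asIdeal α1 β2) +
      (- T q.asIdeal α2 β1) := fun q => by ring
  simp only [e]
  have f11 := finite_support_T h1 h3
  have f22 := finite_support_T h2 h4
  have f12 := finite_support_T h1 h4
  have f21 := finite_support_T h2 h3
  have n12 : ({q : PrimeSpectrum A | q.asIdeal.height = 1} ∩
      Function.support (fun q : PrimeSpectrum A => - T q.asIdeal α1 β2)).Finite := by
    refine f12.subset ?_
    rintro q ⟨h, h'⟩
    exact ⟨h, fun h0 => h' (by show - T q.asIdeal α1 β2 = 0; exact neg_eq_zero.mpr h0)⟩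
  have n21 : ({q : PrimeSpectrum A | q.asIdeal.height = 1} ∩
      Function.support (fun q : PrimeSpectrum A => - T q.asIdeal α2 β1)).Finite := by
    refine f21.subset ?_
    rintro q ⟨h, h'⟩
    exact ⟨h, fun h0 => h' (by show - T q.asIdeal α2 β1 = 0; exact neg_eq_zero.mpr h0)⟩
  have s2 : ({q : PrimeSpectrum A | q.asIdeal.height = 1} ∩
      Function.support (fun q : PrimeSpectrum A => T q.asIdeal α1 β1 + T q.asIdeal α2 β2)).Finite :=
    (f11.union f22).subset (by
      rw [← Set.inter_union_distrib_left]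
      exact Set.inter_subset_inter_right _ (Function.support_add _ _))
  have s3 : ({q : PrimeSpectrum A | q.asIdeal.height = 1} ∩
      Function.support (fun q : PrimeSpectrum A => T q.asIdeal α1 β1 + T q.asIdeal α2 β2 +
        - T q.asIdeal α1 β2)).Finite :=
    (s2.union n12).subset (by
      rw [← Set.inter_union_distrib_left]
      exact Set.inter_subset_inter_right _ (Function.support_add _ _))
  rw [finsum_mem_add_distrib' s3 n21, finsum_mem_add_distrib' s2 n12,
    finsum_mem_add_distrib' f11 f22]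
  have neg : ∀ (f : PrimeSpectrum A → ℤ),
      ∑ᶠ q ∈ {q : PrimeSpectrum A | q.asIdeal.height = 1}, - f q =
        - ∑ᶠ q ∈ {q : PrimeSpectrum A | q.asIdeal.height = 1}, f q := by
    intro f
    rw [finsum_mem_def, finsum_mem_def, ← finsum_neg_distrib]
    apply finsum_congr
    intro q
    by_cases hq : q ∈ {q : PrimeSpectrum A | q.asIdeal.height = 1}
    · rw [Set.indicator_of_mem hq, Set.indicator_of_mem hq]
    · rw [Set.indicator_of_notMem hq, Set.indicator_of_notMem hq, neg_zero]
  rw [neg, neg, key_T hA h1 h3, key_T hA h2 h4, key_T hA h1 h4, key_T hA h2 h3]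
  simp

end T


section PerPrimeFrac

theorem ordFrac_div' {D F : Type u} [CommRing D] [Field F] [Algebra D F] [IsDomain D]
    [IsNoetherianRing D] [Ring.KrullDimLE 1 D] [IsFractionRing D F] {x y : F} (hx : x ≠ 0)
    (hy : y ≠ 0) : CycAlg.ordFrac D F (x / y) = CycAlg.ordFrac D F x - CycAlg.ordFrac D F y := by
  have h3 := ordFrac_mul (A := D) (div_ne_zero hx hy) hy
  rw [div_mul_cancel₀ _ hy] at h3
  linarith

variable {A : Type u} [CommRing A] [IsDomain A] [IsNoetherianRing A]
  (q : Ideal A) [q.IsPrime] [Ring.KrullDimLE 1 (A ⧸ q)]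
  (R : Type u) [CommRing R] [IsDomain R] [Algebra A R] [IsLocalization.AtPrime R q]
  [IsLocalRing R]
  (K : Type u) [Field K] [Algebra A K] [Algebra R K] [IsScalarTower A R K] [IsFractionRing R K]
  {k : Type u} [Field k] (ρ : R →+* k) [IsLocalHom ρ]
  {Abar : Type u} [CommRing Abar] [IsDomain Abar] [IsNoetherianRing Abar]
  [Ring.KrullDimLE 1 Abar] [Algebra Abar k] [IsFractionRing Abar k]
  (π : A →+* Abar)

include q in
theorem dim_model (hq : ringKrullDim (Localization.AtPrime q) = 1) : ringKrullDim R = 1 := by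
  rw [← hq]
  exact (ringKrullDim_eq_of_ringEquiv
    (IsLocalization.algEquiv q.primeCompl (Localization.AtPrime q) R).toRingEquiv).symm

set_option synthInstance.maxHeartbeats 400000 in
set_option maxHeartbeats 1600000 in
theorem per_prime_frac (hq : ringKrullDim (Localization.AtPrime q) = 1)
    (hπ : Function.Surjective π) (hker : RingHom.ker π = q)
    (hcompat : ∀ a, ρ (algebraMap A R a) = algebraMap Abar k (π a))
    {x y : K} {α1 α2 β1 β2 : A} (h1 : α1 ≠ 0) (h2 : α2 ≠ 0) (h3 : β1 ≠ 0) (h4 : β2 ≠ 0)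
    (hx : x * algebraMap A K α2 = algebraMap A K α1)
    (hy : y * algebraMap A K β2 = algebraMap A K β1) :
    haveI : IsNoetherianRing R := IsLocalization.isNoetherianRing q.primeCompl R inferInstance
    haveI : Ring.KrullDimLE 1 R := Ring.krullDimLE_iff.mpr (le_of_eq (dim_model q R hq))
    CycAlg.ordFrac Abar k (ResidueField.lift ρ (tameK R K x y)) = T4 q α1 α2 β1 β2 := by
  haveI : IsNoetherianRing R := IsLocalization.isNoetherianRing q.primeCompl R inferInstance
  have hR : ringKrullDim R = 1 := dim_model q R hq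
  haveI : Ring.KrullDimLE 1 R := Ring.krullDimLE_iff.mpr (le_of_eq hR)
  have hinjR : Function.Injective (algebraMap A R) :=
    IsLocalization.injective R q.primeCompl_le_nonZeroDivisors
  have hne : ∀ a : A, a ≠ 0 → algebraMap A R a ≠ 0 := fun a ha => (map_ne_zero_iff _ hinjR).mpr ha
  have hx' : x * algebraMap R K (algebraMap A R α2) = algebraMap R K (algebraMap A R α1) := by
    rw [← IsScalarTower.algebraMap_apply, ← IsScalarTower.algebraMap_apply]; exact hx
  have hy' : y * algebraMap R K (algebraMap A R β2) = algebraMap R K (algebraMap A R β1) := by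
    rw [← IsScalarTower.algebraMap_apply, ← IsScalarTower.algebraMap_apply]; exact hy
  show CycAlg.ordFrac Abar k (ResidueField.lift ρ (tameK R K x y)) = T4 q α1 α2 β1 β2
  rw [tameK_eq hR (hne _ h1) (hne _ h2) (hne _ h3) (hne _ h4) hx' hy']
  unfold sym4
  rw [map_mul, map_div₀, map_div₀]
  have hP : ∀ a b : A, a ≠ 0 → b ≠ 0 → ResidueField.lift ρ
      (tameSymbol R (algebraMap A R a) (algebraMap A R b)) ≠ 0 := fun a b ha hb =>
    (map_ne_zero _).mpr (sym_ne_zero hR (hne a ha) (hne b hb))
  have hT : ∀ a b : A, a ≠ 0 → b ≠ 0 → CycAlg.ordFrac Abar k (ResidueField.lift ρ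
      (tameSymbol R (algebraMap A R a) (algebraMap A R b))) = T q a b := fun a b ha hb =>
    per_prime_transport q R ρ π hq hπ hker hcompat ha hb
  rw [ordFrac_mul (div_ne_zero (hP _ _ h1 h3) (hP _ _ h2 h3))
      (div_ne_zero (hP _ _ h2 h4) (hP _ _ h1 h4)),
    ordFrac_div' (hP _ _ h1 h3) (hP _ _ h2 h3), ordFrac_div' (hP _ _ h2 h4) (hP _ _ h1 h4),
    hT _ _ h1 h3, hT _ _ h2 h3, hT _ _ h2 h4, hT _ _ h1 h4]
  unfold T4
  ring

end PerPrimeFrac

end Groth.Agent.Lib.Helper18.KF4
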