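import Mathlib
import Groth.Agent.Lib.Helper18.KF4
import Groth.Agent.Lib.Helper18.C1Indep1

set_option autoImplicit false
set_option linter.style.haveILetI false
set_option linter.unusedSectionVars false

/-! Key formula (S1920), part 5: the rational function attached to a codimension one point. -/

namespace Groth.Agent.Lib.Helper18.KF5

open Function IsLocalRing CycAlg
open Groth.Agent.Lib.Helper26.OrdZ Groth.Agent.Lib.Helper18.KF2 Groth.Agent.Lib.Helper18.KF3
  Groth.Agent.Lib.Helper18.KF4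

universe u

variable {R : Type u} [CommRing R] [IsDomain R] [IsNoetherianRing R] [IsLocalRing R]
  [Ring.KrullDimLE 1 R]
  {K : Type u} [Field K] [Algebra R K] [IsFractionRing R K]
  {k : Type u} [Field k] (ρ : R →+* k) [IsLocalHom ρ]

/-- the rational function attached to the data `(a, b, ū, v̄)` -/
noncomputable def Fsym (a b : K) (ub vb : k) : k :=
  ResidueField.lift ρ (tameK R K a b) * ub ^ (CycAlg.ordFrac R K a) *
    (vb ^ (CycAlg.ordFrac R K b))⁻¹

variable (hR : ringKrullDim R = 1)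

theorem alg_unit_ne_zero (c : Rˣ) : algebraMap R K (c : R) ≠ 0 :=
  fun h0 => c.ne_zero ((map_eq_zero_iff _ (IsFractionRing.injective R K)).mp h0)

theorem rho_unit_ne_zero (c : Rˣ) : ρ (c : R) ≠ 0 := (c.isUnit.map ρ).ne_zero

include hR in
theorem Fsym_ne_zero {a b : K} {ub vb : k} (ha : a ≠ 0) (hb : b ≠ 0) (hu : ub ≠ 0)
    (hv : vb ≠ 0) : Fsym ρ a b ub vb ≠ 0 := by
  unfold Fsym
  exact mul_ne_zero (mul_ne_zero ((map_ne_zero _).mpr (tameK_ne_zero hR ha hb))
    (zpow_ne_zero _ hu)) (inv_ne_zero (zpow_ne_zero _ hv))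

include hR in
/-- independence of the generators -/
theorem Fsym_indep {a b a₂ b₂ : K} {ub vb ub₂ vb₂ : k} (c c' : Rˣ) (ha₂ : a₂ ≠ 0) (hb₂ : b₂ ≠ 0)
    (hu₂ : ub₂ ≠ 0) (hv₂ : vb₂ ≠ 0)
    (ha : a = a₂ * algebraMap R K (c : R)) (hb : b = b₂ * algebraMap R K (c' : R))
    (hu : ub = ub₂ * ρ (c' : R)) (hv : vb = vb₂ * ρ (c : R)) :
    Fsym ρ a b ub vb = Fsym ρ a₂ b₂ ub₂ vb₂ := by
  have hc := alg_unit_ne_zero (K := K) c
  have hc' := alg_unit_ne_zero (K := K) c'
  have oa : CycAlg.ordFrac R K a = CycAlg.ordFrac R K a₂ := by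
    rw [ha, ordFrac_mul ha₂ hc, ordFrac_unit, add_zero]
  have ob : CycAlg.ordFrac R K b = CycAlg.ordFrac R K b₂ := by
    rw [hb, ordFrac_mul hb₂ hc', ordFrac_unit, add_zero]
  have ht : tameK R K a b = tameK R K a₂ b₂ *
      (residue R (c : R) ^ (CycAlg.ordFrac R K b₂)) *
      (residue R (c' : R) ^ (CycAlg.ordFrac R K a₂))⁻¹ := by
    rw [ha, hb, tameK_mul_left hR ha₂ hc (mul_ne_zero hb₂ hc'),
      tameK_mul_right hR ha₂ hb₂ hc', tameK_mul_right hR hc hb₂ hc',
      tameK_unit_left hR c hb₂, tameK_unit_right hR c' ha₂, tameK_units hR c c']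
    ring
  unfold Fsym
  rw [oa, ob, ht, hu, hv, map_mul, map_mul, map_inv₀, map_zpow₀, map_zpow₀,
    ResidueField.lift_residue_apply, ResidueField.lift_residue_apply, mul_zpow, mul_zpow]
  have h1 := zpow_ne_zero (CycAlg.ordFrac R K b₂) (rho_unit_ne_zero ρ c)
  have h2 := zpow_ne_zero (CycAlg.ordFrac R K a₂) (rho_unit_ne_zero ρ c')
  have h3 := zpow_ne_zero (CycAlg.ordFrac R K b₂) hv₂
  field_simp

include hR in
theorem Fsym_units (c c' : Rˣ) (ub vb : k) :
    Fsym ρ (algebraMap R K (c : R)) (algebraMap R K (c' : R)) ub vb = 1 := by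
  unfold Fsym
  rw [tameK_units hR c c', ordFrac_unit, ordFrac_unit, map_one]
  simp

theorem ordFrac_inv' {D F : Type u} [CommRing D] [Field F] [Algebra D F] [IsDomain D]
    [IsNoetherianRing D] [Ring.KrullDimLE 1 D] [IsFractionRing D F] {x : F} (hx : x ≠ 0) :
    CycAlg.ordFrac D F x⁻¹ = - CycAlg.ordFrac D F x := by
  have h3 := ordFrac_mul (A := D) hx (inv_ne_zero hx)
  rw [mul_inv_cancel₀ hx, ordFrac_one] at h3
  linarith

include hR in
theorem ordFrac_Fsym {D : Type u} [CommRing D] [Algebra D k] [IsDomain D]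
    [IsNoetherianRing D] [Ring.KrullDimLE 1 D] [IsFractionRing D k]
    {a b : K} {ub vb : k} (ha : a ≠ 0) (hb : b ≠ 0) (hu : ub ≠ 0) (hv : vb ≠ 0) :
    CycAlg.ordFrac D k (Fsym ρ a b ub vb) =
      CycAlg.ordFrac D k (ResidueField.lift ρ (tameK R K a b)) +
        CycAlg.ordFrac R K a * CycAlg.ordFrac D k ub -
        CycAlg.ordFrac R K b * CycAlg.ordFrac D k vb := by
  unfold Fsym
  have h1 : ResidueField.lift ρ (tameK R K a b) ≠ 0 :=
    (map_ne_zero _).mpr (tameK_ne_zero hR ha hb)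
  have h2 := zpow_ne_zero (CycAlg.ordFrac R K a) hu
  have h3 := zpow_ne_zero (CycAlg.ordFrac R K b) hv
  rw [ordFrac_mul (mul_ne_zero h1 h2) (inv_ne_zero h3), ordFrac_mul h1 h2, ordFrac_inv' h3,
    Groth.Agent.Lib.Helper18.C1Indep.ordFrac_zpow hu,
    Groth.Agent.Lib.Helper18.C1Indep.ordFrac_zpow hv]
  ring

end Groth.Agent.Lib.Helper18.KF5
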