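import Mathlib
import Groth.Prelude.Def_Cyc
import Groth.Agent.Lib.Helper18.EX2
import Groth.Agent.Lib.Helper18.C1Indep2
import Groth.Agent.Lib.Helper18.DivPull3
import Groth.Agent.Lib.Helper18.LocStalk2
import Groth.Agent.Lib.Helper18.KF5
import Groth.Agent.Lib.Helper18.PullSec2

/-!
# The projective line, part E: the principal divisor of a coordinate function with multiplicities

On a scheme `Y` with two opens `V₀ ∪ V₁ = Y` and functions `a` on `V₀`, `b` on `V₁` inverse to each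
other on `V₀ ∩ V₁`, the cycle `∑_ζ n_ζ · div(a|_ζ)` and its values.
-/

set_option autoImplicit false
set_option linter.unusedSectionVars false
set_option linter.style.haveILetI false
universe u
open AlgebraicGeometry CategoryTheory TopologicalSpace

namespace Groth.Agent.Lib.Helper18.PLE

open Groth.Agent.Lib.Helper18.DivPull Groth.Agent.Lib.Helper18.LocStalk

variable {Y : Scheme.{u}} (δ : Y → ℤ) (hY : Cyc.IsSetup Y δ)
  (V₀ V₁ : Y.Opens) (a : Γ(Y, V₀)) (b : Γ(Y, V₁))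

/-- the rational function induced by `a` at the point `ζ` -/
noncomputable def tfun (ζ : Y) : Y.residueField ζ :=
  open Classical in
  if h : ζ ∈ V₀ then (Y.residue ζ).hom (Y.presheaf.germ V₀ ζ h a) else 1

/-- `a` and `b` are inverse to each other on the overlap -/
def Inv : Prop :=
  ∀ (y : Y) (h0 : y ∈ V₀) (h1 : y ∈ V₁),
    Y.presheaf.germ V₀ y h0 a * Y.presheaf.germ V₁ y h1 b = 1

theorem specMap_germ (V : Y.Opens) (s : Γ(Y, V)) (y ζ : Y) (h : ζ ⤳ y) (hy : y ∈ V) :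
    Cyc.specMap y ζ h (Y.presheaf.germ V y hy s) =
      (Y.residue ζ).hom (Y.presheaf.germ V ζ (h.mem_open V.2 hy) s) := by
  unfold Cyc.specMap
  rw [CommRingCat.hom_comp, RingHom.comp_apply]
  congr 1
  exact congrArg (fun φ => φ.hom s) (TopCat.Presheaf.germ_stalkSpecializes Y.presheaf hy h)

variable {V₀ V₁ a b}

theorem tfun_of_mem (ζ : Y) (h : ζ ∈ V₀) :
    tfun V₀ a ζ = (Y.residue ζ).hom (Y.presheaf.germ V₀ ζ h a) := by
  unfold tfun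
  rw [dif_pos h]

theorem tfun_mul (hab : Inv V₀ V₁ a b) (ζ : Y) (h0 : ζ ∈ V₀) (h1 : ζ ∈ V₁) :
    tfun V₀ a ζ * (Y.residue ζ).hom (Y.presheaf.germ V₁ ζ h1 b) = 1 := by
  rw [tfun_of_mem ζ h0, ← map_mul, hab ζ h0 h1, map_one]

theorem tfun_ne_zero (hab : Inv V₀ V₁ a b) (ζ : Y) (h0 : ζ ∈ V₀) (h1 : ζ ∈ V₁) :
    tfun V₀ a ζ ≠ 0 := left_ne_zero_of_mul_eq_one (tfun_mul hab ζ h0 h1)

include hY in
/-- order of the coordinate function along a specialization inside `V₀` -/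
theorem ordAt_tfun_of_mem_V₀ (hab : Inv V₀ V₁ a b) (y ζ : Y) (h : ζ ⤳ y) (hd : δ y + 1 = δ ζ)
    (hy : y ∈ V₀) (hζ1 : ζ ∈ V₁) :
    Cyc.ordAt y ζ h (tfun V₀ a ζ) =
      ((Ring.ord (Cyc.LocQuot y ζ h)
        (Ideal.Quotient.mk (RingHom.ker (Cyc.specMap y ζ h)) (Y.presheaf.germ V₀ y hy a))).toNat : ℤ) := by
  haveI : IsLocallyNoetherian Y := hY.1
  haveI : (RingHom.ker (Cyc.specMap y ζ h)).IsPrime := RingHom.ker_isPrime _
  haveI : IsDomain (Cyc.LocQuot y ζ h) := Ideal.Quotient.isDomain _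
  haveI : Ring.KrullDimLE 1 (Cyc.LocQuot y ζ h) := krullDimLE_one_locQuot δ hY.2.2 y ζ h hd
  haveI : IsFractionRing (Cyc.LocQuot y ζ h) (Y.residueField ζ) := isFractionRing_locQuot y ζ h
  have hζ0 : ζ ∈ V₀ := h.mem_open V₀.2 hy
  have e : tfun V₀ a ζ = algebraMap (Cyc.LocQuot y ζ h) (Y.residueField ζ)
      (Ideal.Quotient.mk (RingHom.ker (Cyc.specMap y ζ h)) (Y.presheaf.germ V₀ y hy a)) := by
    rw [algebraMap_locQuot_mk, specMap_germ, tfun_of_mem ζ hζ0]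
  have hne : Ideal.Quotient.mk (RingHom.ker (Cyc.specMap y ζ h)) (Y.presheaf.germ V₀ y hy a) ≠ 0 := by
    intro h0
    apply tfun_ne_zero hab ζ hζ0 hζ1
    rw [e, h0, map_zero]
  unfold Cyc.ordAt
  rw [e, Groth.Agent.Lib.Helper26.OrdZ.ordFrac_algebraMap hne]

include hY in
/-- order of the coordinate function along a specialization inside `V₁` -/
theorem ordAt_tfun_of_mem_V₁ (hab : Inv V₀ V₁ a b) (y ζ : Y) (h : ζ ⤳ y) (hd : δ y + 1 = δ ζ)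
    (hy : y ∈ V₁) (hζ0 : ζ ∈ V₀) :
    Cyc.ordAt y ζ h (tfun V₀ a ζ) =
      -((Ring.ord (Cyc.LocQuot y ζ h)
        (Ideal.Quotient.mk (RingHom.ker (Cyc.specMap y ζ h)) (Y.presheaf.germ V₁ y hy b))).toNat : ℤ) := by
  haveI : IsLocallyNoetherian Y := hY.1
  haveI : (RingHom.ker (Cyc.specMap y ζ h)).IsPrime := RingHom.ker_isPrime _
  haveI : IsDomain (Cyc.LocQuot y ζ h) := Ideal.Quotient.isDomain _
  haveI : Ring.KrullDimLE 1 (Cyc.LocQuot y ζ h) := krullDimLE_one_locQuot δ hY.2.2 y ζ h hd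
  haveI : IsFractionRing (Cyc.LocQuot y ζ h) (Y.residueField ζ) := isFractionRing_locQuot y ζ h
  have hζ1 : ζ ∈ V₁ := h.mem_open V₁.2 hy
  have hmul := tfun_mul hab ζ hζ0 hζ1
  have e : (Y.residue ζ).hom (Y.presheaf.germ V₁ ζ hζ1 b) =
      algebraMap (Cyc.LocQuot y ζ h) (Y.residueField ζ)
      (Ideal.Quotient.mk (RingHom.ker (Cyc.specMap y ζ h)) (Y.presheaf.germ V₁ y hy b)) := by
    rw [algebraMap_locQuot_mk, specMap_germ]
  have hne0 : (Y.residue ζ).hom (Y.presheaf.germ V₁ ζ hζ1 b) ≠ 0 :=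
    right_ne_zero_of_mul_eq_one hmul
  have hne : Ideal.Quotient.mk (RingHom.ker (Cyc.specMap y ζ h)) (Y.presheaf.germ V₁ y hy b) ≠ 0 := by
    intro h0
    apply hne0
    rw [e, h0, map_zero]
  have e2 : tfun V₀ a ζ = ((Y.residue ζ).hom (Y.presheaf.germ V₁ ζ hζ1 b))⁻¹ :=
    eq_inv_of_mul_eq_one_left hmul
  unfold Cyc.ordAt
  rw [e2, Groth.Agent.Lib.Helper18.KF5.ordFrac_inv' hne0, e,
    Groth.Agent.Lib.Helper26.OrdZ.ordFrac_algebraMap hne]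

/-- order of the coordinate function along a specialization inside the overlap -/
theorem ordAt_tfun_of_mem_both (hab : Inv V₀ V₁ a b) (y ζ : Y) (h : ζ ⤳ y)
    (hy0 : y ∈ V₀) (hy1 : y ∈ V₁) :
    Cyc.ordAt y ζ h (tfun V₀ a ζ) = 0 := by
  have hζ0 : ζ ∈ V₀ := h.mem_open V₀.2 hy0
  have e : tfun V₀ a ζ = algebraMap (Cyc.LocQuot y ζ h) (Y.residueField ζ)
      (Ideal.Quotient.mk (RingHom.ker (Cyc.specMap y ζ h)) (Y.presheaf.germ V₀ y hy0 a)) := by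
    rw [algebraMap_locQuot_mk, specMap_germ, tfun_of_mem ζ hζ0]
  have hu : IsUnit (Y.presheaf.germ V₀ y hy0 a) :=
    IsUnit.of_mul_eq_one _ (hab y hy0 hy1)
  unfold Cyc.ordAt
  rw [e]
  exact Groth.Agent.Lib.Helper18.DivPull.ordFrac_algebraMap_of_isUnit _ (hu.map _)

section Cycle

variable (k : ℤ) (n : Y → ℕ)

/-- the index set: points of δ-dimension `k + 1` with nonzero multiplicity -/
def Idx : Type u := {ζ : Y // δ ζ = k + 1 ∧ n ζ ≠ 0}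

variable (hab : Inv V₀ V₁ a b) (hI : ∀ ζ : Y, δ ζ = k + 1 → n ζ ≠ 0 → ζ ∈ V₀ ∧ ζ ∈ V₁)
  (hlf : ∀ y : Y, ∃ U : Set Y, IsOpen U ∧ y ∈ U ∧
    {ζ : Idx δ k n | (closure {ζ.1} ∩ U).Nonempty}.Finite)

include hab hI in
theorem f_ne_zero (ζ : Idx δ k n) : tfun V₀ a ζ.1 ^ n ζ.1 ≠ 0 :=
  pow_ne_zero _ (tfun_ne_zero hab ζ.1 (hI ζ.1 ζ.2.1 ζ.2.2).1 (hI ζ.1 ζ.2.1 ζ.2.2).2)

/-- the cycle `∑_ζ n_ζ · div(a|_ζ)` -/
noncomputable def gam : AlgebraicCycle Y ℤ :=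
  Groth.Agent.Lib.Helper18.EX2.ratCycle δ hY (fun ζ : Idx δ k n => ζ.1)
    (fun ζ => tfun V₀ a ζ.1 ^ n ζ.1) (f_ne_zero δ k n hab hI) hlf

theorem gam_ratEquivZero : Cyc.RatEquivZero δ k (gam δ hY k n hab hI hlf) :=
  Groth.Agent.Lib.Helper18.EX2.ratCycle_ratEquivZero δ hY _ _ _ _ k (fun ζ => ζ.2.1)

open Classical in
theorem gam_apply (y : Y) (hy : δ y = k) :
    gam δ hY k n hab hI hlf y = ∑ᶠ ξ : Y, if h : ξ ⤳ y ∧ δ y + 1 = δ ξ then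
      (n ξ : ℤ) * Cyc.ordAt y ξ h.1 (tfun V₀ a ξ) else 0 := by
  set F : Y → ℤ := fun ξ => if h : ξ ⤳ y ∧ δ y + 1 = δ ξ then
      (n ξ : ℤ) * Cyc.ordAt y ξ h.1 (tfun V₀ a ξ) else 0 with hF
  have h1 : gam δ hY k n hab hI hlf y = ∑ᶠ ζ : Idx δ k n, F ζ.1 := by
    unfold gam
    rw [Groth.Agent.Lib.Helper18.EX2.ratCycle_apply]
    apply finsum_congr
    intro ζ
    have hz := Groth.Agent.Lib.Helper18.C1Indep.divFun_zpow δ hY ζ.1 (tfun V₀ a ζ.1)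
      (tfun_ne_zero hab ζ.1 (hI ζ.1 ζ.2.1 ζ.2.2).1 (hI ζ.1 ζ.2.1 ζ.2.2).2) (n ζ.1 : ℤ) y
    rw [zpow_natCast] at hz
    rw [hz]
    change _ = if h : ζ.1 ⤳ y ∧ δ y + 1 = δ ζ.1 then
      (n ζ.1 : ℤ) * Cyc.ordAt y ζ.1 h.1 (tfun V₀ a ζ.1) else 0
    unfold Cyc.divFun
    by_cases hc : ζ.1 ⤳ y ∧ δ y + 1 = δ ζ.1
    · rw [dif_pos hc, dif_pos hc]
    · rw [dif_neg hc, dif_neg hc, mul_zero]
  rw [h1]
  symm
  refine Groth.Agent.Lib.Helper18.PullSec.finsum_eq_finsum_comp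
    (Subtype.val : Idx δ k n → Y) Subtype.val_injective F ?_
  intro ξ hξ
  by_cases hc : ξ ⤳ y ∧ δ y + 1 = δ ξ
  · have hξ' : (n ξ : ℤ) * Cyc.ordAt y ξ hc.1 (tfun V₀ a ξ) ≠ 0 := by
      have : F ξ = (n ξ : ℤ) * Cyc.ordAt y ξ hc.1 (tfun V₀ a ξ) := dif_pos hc
      rwa [this] at hξ
    refine ⟨⟨ξ, by rw [← hc.2, hy], ?_⟩, rfl⟩
    intro h0
    apply hξ'
    rw [h0]
    simp
  · have : F ξ = 0 := dif_neg hc
    exact absurd this hξ

open Classical in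
theorem gam_apply_both (y : Y) (hy : δ y = k) (h0 : y ∈ V₀) (h1 : y ∈ V₁) :
    gam δ hY k n hab hI hlf y = 0 := by
  rw [gam_apply δ hY k n hab hI hlf y hy]
  apply finsum_eq_zero_of_forall_eq_zero
  intro ξ
  by_cases hc : ξ ⤳ y ∧ δ y + 1 = δ ξ
  · rw [dif_pos hc, ordAt_tfun_of_mem_both hab y ξ hc.1 h0 h1, mul_zero]
  · rw [dif_neg hc]

open Classical in
theorem gam_apply_V₀ (y : Y) (hy : δ y = k) (h0 : y ∈ V₀) :
    gam δ hY k n hab hI hlf y = ∑ᶠ ξ : Y, if h : ξ ⤳ y ∧ δ y + 1 = δ ξ then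
      (n ξ : ℤ) * ((Ring.ord (Cyc.LocQuot y ξ h.1)
        (Ideal.Quotient.mk (RingHom.ker (Cyc.specMap y ξ h.1))
          (Y.presheaf.germ V₀ y h0 a))).toNat : ℤ) else 0 := by
  rw [gam_apply δ hY k n hab hI hlf y hy]
  apply finsum_congr
  intro ξ
  by_cases hc : ξ ⤳ y ∧ δ y + 1 = δ ξ
  · rw [dif_pos hc, dif_pos hc]
    by_cases hn : n ξ = 0
    · rw [hn]; simp
    · have hξ := hI ξ (by rw [← hc.2, hy]) hn
      rw [ordAt_tfun_of_mem_V₀ δ hY hab y ξ hc.1 hc.2 h0 hξ.2]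
  · rw [dif_neg hc, dif_neg hc]

open Classical in
theorem gam_apply_V₁ (y : Y) (hy : δ y = k) (h1 : y ∈ V₁) :
    gam δ hY k n hab hI hlf y = -∑ᶠ ξ : Y, if h : ξ ⤳ y ∧ δ y + 1 = δ ξ then
      (n ξ : ℤ) * ((Ring.ord (Cyc.LocQuot y ξ h.1)
        (Ideal.Quotient.mk (RingHom.ker (Cyc.specMap y ξ h.1))
          (Y.presheaf.germ V₁ y h1 b))).toNat : ℤ) else 0 := by
  rw [gam_apply δ hY k n hab hI hlf y hy, ← finsum_neg_distrib]
  apply finsum_congr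
  intro ξ
  by_cases hc : ξ ⤳ y ∧ δ y + 1 = δ ξ
  · rw [dif_pos hc, dif_pos hc]
    by_cases hn : n ξ = 0
    · rw [hn]; simp
    · have hξ := hI ξ (by rw [← hc.2, hy]) hn
      rw [ordAt_tfun_of_mem_V₁ δ hY hab y ξ hc.1 hc.2 h1 hξ.1, mul_neg]
  · rw [dif_neg hc, dif_neg hc, neg_zero]

end Cycle

end Groth.Agent.Lib.Helper18.PLE
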