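import Mathlib
import Groth.Prelude.Def_Cyc
import Groth.Agent.Lib.Helper18.PLE
import Groth.Agent.Lib.Helper18.DivPull3
import Groth.Agent.Lib.Helper18.LocStalk2
import Groth.Agent.Lib.Helper26.OrdZ

/-!
# Affine bundles, part 2: orders of vanishing of germs
-/

set_option autoImplicit false
set_option linter.unusedSectionVars false
set_option linter.style.haveILetI false
universe u
open AlgebraicGeometry CategoryTheory TopologicalSpace

namespace Groth.Agent.Lib.Helper18.AB2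

open Groth.Agent.Lib.Helper18.DivPull Groth.Agent.Lib.Helper18.LocStalk

variable {Z : Scheme.{u}} (δ : Z → ℤ) (hZ : Cyc.IsSetup Z δ)

include hZ in
/-- the order of vanishing of the image of a germ -/
theorem ordAt_specMap (x ξ : Z) (h : ξ ⤳ x) (hd : δ x + 1 = δ ξ) (b : Z.presheaf.stalk x)
    (hb : Cyc.specMap x ξ h b ≠ 0) :
    Cyc.ordAt x ξ h (Cyc.specMap x ξ h b) =
      ((Ring.ord (Cyc.LocQuot x ξ h)
        (Ideal.Quotient.mk (RingHom.ker (Cyc.specMap x ξ h)) b)).toNat : ℤ) := by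
  haveI : IsLocallyNoetherian Z := hZ.1
  haveI : (RingHom.ker (Cyc.specMap x ξ h)).IsPrime := RingHom.ker_isPrime _
  haveI : IsDomain (Cyc.LocQuot x ξ h) := Ideal.Quotient.isDomain _
  haveI : Ring.KrullDimLE 1 (Cyc.LocQuot x ξ h) := krullDimLE_one_locQuot δ hZ.2.2 x ξ h hd
  haveI : IsFractionRing (Cyc.LocQuot x ξ h) (Z.residueField ξ) := isFractionRing_locQuot x ξ h
  have e : Cyc.specMap x ξ h b = algebraMap (Cyc.LocQuot x ξ h) (Z.residueField ξ)
      (Ideal.Quotient.mk (RingHom.ker (Cyc.specMap x ξ h)) b) := by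
    rw [algebraMap_locQuot_mk]
  have hne : Ideal.Quotient.mk (RingHom.ker (Cyc.specMap x ξ h)) b ≠ 0 := by
    intro h0
    apply hb
    rw [e, h0, map_zero]
  unfold Cyc.ordAt
  rw [e, Groth.Agent.Lib.Helper26.OrdZ.ordFrac_algebraMap hne]

include hZ in
theorem ordAt_of_isUnit (x ξ : Z) (h : ξ ⤳ x) (hd : δ x + 1 = δ ξ) (b : Z.presheaf.stalk x)
    (hu : IsUnit b) :
    Cyc.ordAt x ξ h (Cyc.specMap x ξ h b) = 0 := by
  have hb : Cyc.specMap x ξ h b ≠ 0 := (hu.map (Cyc.specMap x ξ h)).ne_zero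
  rw [ordAt_specMap δ hZ x ξ h hd b hb]
  have hu' : IsUnit (Ideal.Quotient.mk (RingHom.ker (Cyc.specMap x ξ h)) b) := hu.map _
  have : Ring.ord (Cyc.LocQuot x ξ h)
      (Ideal.Quotient.mk (RingHom.ker (Cyc.specMap x ξ h)) b) = 0 := by
    have h1 := Ring.ord_mul_of_isUnit_left (R := Cyc.LocQuot x ξ h) hu' 1
    rw [mul_one, Ring.ord_one] at h1
    exact h1
  rw [this]
  rfl

include hZ in
theorem ordAt_of_maximal (x ξ : Z) (h : ξ ⤳ x) (hd : δ x + 1 = δ ξ) (b : Z.presheaf.stalk x)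
    (hb : Cyc.specMap x ξ h b ≠ 0) (hbm : b ∈ IsLocalRing.maximalIdeal (Z.presheaf.stalk x))
    (hmax : IsLocalRing.maximalIdeal (Z.presheaf.stalk x) ≤
      RingHom.ker (Cyc.specMap x ξ h) ⊔ Ideal.span {b}) :
    Cyc.ordAt x ξ h (Cyc.specMap x ξ h b) = 1 := by
  rw [ordAt_specMap δ hZ x ξ h hd b hb]
  haveI : (RingHom.ker (Cyc.specMap x ξ h)).IsPrime := RingHom.ker_isPrime _
  set I := RingHom.ker (Cyc.specMap x ξ h) with hI
  have hspan : Ideal.span {Ideal.Quotient.mk I b} =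
      (IsLocalRing.maximalIdeal (Z.presheaf.stalk x)).map (Ideal.Quotient.mk I) := by
    apply le_antisymm
    · rw [Ideal.span_singleton_le_iff_mem]
      exact Ideal.mem_map_of_mem _ hbm
    · refine (Ideal.map_mono hmax).trans ?_
      rw [Ideal.map_sup, Ideal.map_quotient_self, bot_sup_eq, Ideal.map_span, Set.image_singleton]
  have hle : I ≤ IsLocalRing.maximalIdeal (Z.presheaf.stalk x) :=
    IsLocalRing.le_maximalIdeal (Ideal.IsPrime.ne_top inferInstance)
  have hmaxI : ((IsLocalRing.maximalIdeal (Z.presheaf.stalk x)).map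
      (Ideal.Quotient.mk I)).IsMaximal := by
    refine Ideal.IsMaximal.map_of_surjective_of_ker_le Ideal.Quotient.mk_surjective ?_
    rw [Ideal.mk_ker]
    exact hle
  have : Ring.ord (Cyc.LocQuot x ξ h) (Ideal.Quotient.mk I b) = 1 := by
    unfold Ring.ord
    change Module.length (Cyc.LocQuot x ξ h) (Cyc.LocQuot x ξ h ⧸ Ideal.span {Ideal.Quotient.mk I b}) = 1
    rw [hspan, Module.length_eq_one_iff, isSimpleModule_iff_isCoatom]
    exact Ideal.isMaximal_def.mp hmaxI
  rw [this]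
  rfl

end Groth.Agent.Lib.Helper18.AB2
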