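import Mathlib
import Groth.Prelude.Def_Cyc
import Groth.Agent.Lib.Helper18.AB1
import Groth.Agent.Lib.Helper18.AB2
import Groth.Agent.Lib.Helper18.PLE

/-!
# Affine bundles, part 3: the affine line over an affine scheme
-/

set_option autoImplicit false
set_option linter.unusedSectionVars false
set_option linter.style.haveILetI false
universe u
open AlgebraicGeometry CategoryTheory TopologicalSpace Polynomial

namespace Groth.Agent.Lib.Helper18.AB3

section Stalk

variable (A : Type u) [CommRing A]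

/-- the canonical map to the stalk -/
noncomputable def ts (x : Spec (CommRingCat.of A)) :
    A →+* (Spec (CommRingCat.of A)).presheaf.stalk x :=
  (StructureSheaf.toStalk A x).hom

theorem ts_eq_germ (x : Spec (CommRingCat.of A)) (a : A) :
    ts A x a = (Spec (CommRingCat.of A)).presheaf.germ ⊤ x trivial
      ((Scheme.ΓSpecIso (CommRingCat.of A)).inv a) := rfl

theorem isLocalization_ts (x : Spec (CommRingCat.of A)) :
    @IsLocalization.AtPrime A _ ((Spec (CommRingCat.of A)).presheaf.stalk x) _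
      (ts A x).toAlgebra x.asIdeal _ :=
  StructureSheaf.IsLocalization.to_stalk (R := A) x

theorem isUnit_ts_iff (x : Spec (CommRingCat.of A)) (a : A) :
    IsUnit (ts A x a) ↔ a ∉ x.asIdeal := by
  letI := (ts A x).toAlgebra
  haveI := isLocalization_ts A x
  exact IsLocalization.AtPrime.isUnit_to_map_iff _ x.asIdeal a

theorem ts_mem_maximalIdeal_iff (x : Spec (CommRingCat.of A)) (a : A) :
    ts A x a ∈ IsLocalRing.maximalIdeal ((Spec (CommRingCat.of A)).presheaf.stalk x) ↔
      a ∈ x.asIdeal := by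
  rw [IsLocalRing.mem_maximalIdeal, mem_nonunits_iff, isUnit_ts_iff, not_not]

theorem exists_ts_eq (x : Spec (CommRingCat.of A))
    (z : (Spec (CommRingCat.of A)).presheaf.stalk x) :
    ∃ s t : A, t ∉ x.asIdeal ∧ z * ts A x t = ts A x s := by
  letI := (ts A x).toAlgebra
  haveI := isLocalization_ts A x
  obtain ⟨⟨s, t⟩, h⟩ := IsLocalization.surj x.asIdeal.primeCompl z
  exact ⟨s, t.1, t.2, h⟩

theorem specMap_ts (x ξ : Spec (CommRingCat.of A)) (h : ξ ⤳ x) (a : A) :
    Cyc.specMap x ξ h (ts A x a) =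
      ((Spec (CommRingCat.of A)).residue ξ).hom (ts A ξ a) := by
  rw [ts_eq_germ, ts_eq_germ]
  exact PLE.specMap_germ ⊤ _ x ξ h trivial

theorem residue_ts_eq_zero_iff (ξ : Spec (CommRingCat.of A)) (a : A) :
    ((Spec (CommRingCat.of A)).residue ξ).hom (ts A ξ a) = 0 ↔ a ∈ ξ.asIdeal := by
  rw [← ts_mem_maximalIdeal_iff A ξ a]
  exact IsLocalRing.residue_eq_zero_iff _

theorem specMap_ts_eq_zero_iff (x ξ : Spec (CommRingCat.of A)) (h : ξ ⤳ x) (a : A) :
    Cyc.specMap x ξ h (ts A x a) = 0 ↔ a ∈ ξ.asIdeal := by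
  rw [specMap_ts, residue_ts_eq_zero_iff]

variable {A}

/-- orders of vanishing of a global function on an affine scheme -/
theorem ordAt_ts (δ : Spec (CommRingCat.of A) → ℤ) (hZ : Cyc.IsSetup (Spec (CommRingCat.of A)) δ)
    (x ξ : Spec (CommRingCat.of A)) (h : ξ ⤳ x) (hd : δ x + 1 = δ ξ) (a : A)
    (ha : a ∉ ξ.asIdeal) :
    (a ∉ x.asIdeal → Cyc.ordAt x ξ h
      (((Spec (CommRingCat.of A)).residue ξ).hom (ts A ξ a)) = 0) ∧
    (a ∈ x.asIdeal →
      (∀ b ∈ x.asIdeal, ∃ c : A, c ∉ x.asIdeal ∧ ∃ g : A, c * b - a * g ∈ ξ.asIdeal) →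
      Cyc.ordAt x ξ h (((Spec (CommRingCat.of A)).residue ξ).hom (ts A ξ a)) = 1) := by
  rw [← specMap_ts A x ξ h a]
  have hb : Cyc.specMap x ξ h (ts A x a) ≠ 0 := fun h0 =>
    ha ((specMap_ts_eq_zero_iff A x ξ h a).mp h0)
  refine ⟨fun hax => ?_, fun hax hgen => ?_⟩
  · exact AB2.ordAt_of_isUnit δ hZ x ξ h hd _ ((isUnit_ts_iff A x a).mpr hax)
  · refine AB2.ordAt_of_maximal δ hZ x ξ h hd _ hb ((ts_mem_maximalIdeal_iff A x a).mpr hax) ?_
    intro z hz
    obtain ⟨s, t, ht, hst⟩ := exists_ts_eq A x z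
    have hs : s ∈ x.asIdeal := by
      rw [← ts_mem_maximalIdeal_iff A x s, ← hst]
      exact Ideal.mul_mem_right _ _ hz
    obtain ⟨c, hc, g, hg⟩ := hgen s hs
    set J := RingHom.ker (Cyc.specMap x ξ h) ⊔ Ideal.span {ts A x a} with hJ
    have h1 : ts A x c * ts A x s ∈ J := by
      have e : ts A x c * ts A x s = ts A x (c * s - a * g) + ts A x a * ts A x g := by
        rw [← map_mul, ← map_mul, ← map_add]; congr 1; ring
      rw [e]
      refine J.add_mem (Ideal.mem_sup_left ?_) (Ideal.mem_sup_right ?_)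
      · exact RingHom.mem_ker.mpr ((specMap_ts_eq_zero_iff A x ξ h _).mpr hg)
      · exact Ideal.mul_mem_right _ _ (Ideal.mem_span_singleton_self _)
    have h2 : ts A x s ∈ J :=
      (Ideal.unit_mul_mem_iff_mem J ((isUnit_ts_iff A x c).mpr hc)).mp h1
    rw [← hst] at h2
    exact (Ideal.mul_unit_mem_iff_mem J ((isUnit_ts_iff A x t).mpr ht)).mp h2

end Stalk

end Groth.Agent.Lib.Helper18.AB3
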