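import Mathlib
import Groth.Prelude.Def_Cyc
import Groth.Agent.Lib.Helper18.FF5
import Groth.Agent.S9501
import Groth.Agent.Lib.Helper18.CycMap

/-!
# The core identity for flat base change of proper pushforward
-/

set_option autoImplicit false
set_option linter.unusedSectionVars false
set_option linter.style.haveILetI false
universe u
open AlgebraicGeometry CategoryTheory TopologicalSpace Limits

namespace Groth.Agent.Lib.Helper18.FF6

open Groth.Agent.Lib.Helper18.FF2 Groth.Agent.Lib.Helper18.FF3 Groth.Agent.Lib.Helper18.FF5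

/-- the multiplicity of the fibre at a point -/
noncomputable def multN {X' X : Scheme.{u}} (p : X' ⟶ X) (ξ' : X') : ℕ :=
  (Module.length (X'.presheaf.stalk ξ') (X'.presheaf.stalk ξ' ⧸
    Ideal.map (p.stalkMap ξ').hom (IsLocalRing.maximalIdeal (X.presheaf.stalk (p ξ'))))).toNat

theorem pullFun_eq {X' X : Scheme.{u}} (p : X' ⟶ X) (δ : X → ℤ) (δ' : X' → ℤ) (c : ℤ)
    (α : X → ℤ) (x' : X') :
    Cyc.pullFun p δ' δ c α x' =
      if δ' x' = δ (p x') + c then α (p x') * (multN p x' : ℤ) else 0 := rfl

/-- the multiplicity at a point of the fibre is the length of the local ring of the fibre -/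
theorem multN_fiberι {X' X : Scheme.{u}} (p : X' ⟶ X) (s : X) (z : p.fiber s) :
    multN p (p.fiberι s z) =
      (Module.length ((p.fiber s).presheaf.stalk z) ((p.fiber s).presheaf.stalk z)).toNat := by
  obtain ⟨hsurj, hker⟩ := Groth.Agent.S9501.result p s z
  unfold multN
  congr 1
  exact length_quot_ker_of_surjective _ hsurj _ hker

theorem residueDegree_fiberι {X' X : Scheme.{u}} (p : X' ⟶ X) (s : X) (z : p.fiber s) :
    (p.fiberι s).residueDegree z = 1 :=
  residueDegree_eq_one_of_surjective _ z (Groth.Agent.S9501.result p s z).1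

theorem length_stalk_congr {Z : Scheme.{u}} {z z' : Z} (h : z = z') :
    Module.length (Z.presheaf.stalk z) (Z.presheaf.stalk z) =
      Module.length (Z.presheaf.stalk z') (Z.presheaf.stalk z') := by
  subst h
  rfl

variable {X X' Y : Scheme.{u}} (f : Y ⟶ X) (p : X' ⟶ X)

/-- **Core identity**: for `y ∈ Y`, `x' ∈ X'` over the same point of `X` with `κ(y)/κ(f y)` finite,
`∑_{y' ↦ (y, x')} mult_q(y') [κ(y'):κ(x')] = [κ(y):κ(f y)] mult_p(x')`. -/
theorem core_identity [Flat p] (y : Y) (x' : X') (h : f y = p x')
    (hfin : (f.residueFieldMap y).hom.Finite) :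
    ∑ᶠ y' ∈ {y' : ↥(pullback f p) | pullback.fst f p y' = y ∧ pullback.snd f p y' = x'},
      multN (pullback.fst f p) y' * (pullback.snd f p).residueDegree y' =
      f.residueDegree y * multN p x' := by
  set q := pullback.fst f p with hq
  set f' := pullback.snd f p with hf'
  have hsq0 : IsPullback f' q p f := (IsPullback.of_hasPullback f p).flip
  have hsq := isPullback_fiberToSpecResidueField_of_isPullback hsq0 y
  set π : q.fiber y ⟶ p.fiber (f y) :=
    pullback.map _ _ _ _ f' (Spec.map (f.residueFieldMap y)) f hsq0.w.symm (by simp) with hπ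
  have hπι : π ≫ p.fiberι (f y) = q.fiberι y ≫ f' := pullback.lift_fst _ _ _
  -- the base change of a finite field extension
  haveI : IsFinite (Spec.map (f.residueFieldMap y)) := (IsFinite.SpecMap_iff _).2 hfin
  have hflat0 : (f.residueFieldMap y).hom.Flat := by
    letI := (f.residueFieldMap y).hom.toAlgebra
    exact (inferInstance : Module.Flat (X.residueField (f y)) (Y.residueField y))
  haveI : Flat (Spec.map (f.residueFieldMap y)) := Flat.SpecMap_iff.2 hflat0
  haveI : IsFinite π := MorphismProperty.of_isPullback hsq.flip inferInstance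
  haveI : Flat π := MorphismProperty.of_isPullback hsq.flip inferInstance
  have hrank : ∀ z : p.fiber (f y), π.finrank z = f.residueDegree y := by
    intro z
    refine (Scheme.Hom.finrank_of_isPullback _ _ _ _ hsq.flip z).trans ?_
    rw [Scheme.Hom.finrank_SpecMap_eq_finrank hfin hflat0]
    letI := (f.residueFieldMap y).hom.toAlgebra
    change Module.rankAtStalk (R := X.residueField (f y)) (Y.residueField y) _ = _
    rw [Module.rankAtStalk_eq_finrank_of_free]
    rfl
  -- the point of the fibre of `p`
  set z₀ : p.fiber (f y) := (p.fiberHomeo (f y)).symm ⟨x', h.symm⟩ with hz₀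
  have hz₀x : p.fiberι (f y) z₀ = x' := p.fiberι_fiberHomeo_symm (f y) ⟨x', h.symm⟩
  -- reindex the sum
  have hreindex : ∑ᶠ y' ∈ {y' : ↥(pullback f p) | q y' = y ∧ f' y' = x'},
      multN q y' * f'.residueDegree y' =
      ∑ᶠ g ∈ {g : q.fiber y | π g = z₀},
        multN q (q.fiberι y g) * f'.residueDegree (q.fiberι y g) := by
    symm
    refine finsum_mem_eq_of_bijOn (fun g => q.fiberι y g) ⟨?_, ?_, ?_⟩ (fun _ _ => rfl)
    · intro g hg
      have hg' : π g = z₀ := hg
      refine ⟨?_, ?_⟩
      · have : q.fiberι y g ∈ Set.range (q.fiberι y) := ⟨g, rfl⟩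
        rw [q.range_fiberι y] at this
        exact this
      · change (q.fiberι y ≫ f') g = x'
        rw [← hπι, Scheme.Hom.comp_apply, hg', hz₀x]
    · exact (q.fiberι y).isEmbedding.injective.injOn
    · rintro y' ⟨hy1, hy2⟩
      have : y' ∈ Set.range (q.fiberι y) := by
        rw [q.range_fiberι y]
        exact hy1
      obtain ⟨g, rfl⟩ := this
      refine ⟨g, ?_, rfl⟩
      apply (p.fiberι (f y)).isEmbedding.injective
      change (π ≫ p.fiberι (f y)) g = _
      rw [hπι, Scheme.Hom.comp_apply, hy2, hz₀x]
  rw [hreindex]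
  -- compute the terms
  have hterm : ∀ g ∈ {g : q.fiber y | π g = z₀},
      multN q (q.fiberι y g) * f'.residueDegree (q.fiberι y g) =
        multN p x' * (fibLenAt π g).toNat := by
    intro g hg
    have hg' : π g = z₀ := hg
    have hdeg : f'.residueDegree (q.fiberι y g) = π.residueDegree g := by
      have h1 := Groth.Agent.Lib.Helper18.CycMap.residueDegree_comp (q.fiberι y) f' g
      have h2 := Groth.Agent.Lib.Helper18.CycMap.residueDegree_comp π (p.fiberι (f y)) g
      rw [residueDegree_fiberι, mul_one] at h1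
      rw [residueDegree_fiberι, one_mul] at h2
      rw [← h1, ← h2]
      exact congrArg (fun m => Scheme.Hom.residueDegree m g) hπι.symm
    rw [hdeg, multN_fiberι, toNat_length_stalk_mul_residueDegree π g, length_stalk_congr hg',
      ← multN_fiberι p (f y) z₀]
    congr 2
  rw [finsum_mem_congr rfl hterm, ← mul_finsum_mem, finsum_fibLenAt π z₀, hrank z₀, mul_comm]

end Groth.Agent.Lib.Helper18.FF6
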