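import Mathlib
import Groth.Prelude.Def_Cyc
import Groth.Agent.Lib.Helper18.AB3
import Groth.Agent.Lib.Helper18.FF6

/-!
# Affine bundles, part 4: the morphism `Spec R[X] → Spec R`
-/

set_option autoImplicit false
set_option linter.unusedSectionVars false
set_option linter.style.haveILetI false
universe u
open AlgebraicGeometry CategoryTheory TopologicalSpace Polynomial

namespace Groth.Agent.Lib.Helper18.AB4

open Groth.Agent.Lib.Helper18.AB3

variable (R : Type u) [CommRing R]

noncomputable abbrev X₀ : Scheme.{u} := Spec (CommRingCat.of R[X])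
noncomputable abbrev Y₀ : Scheme.{u} := Spec (CommRingCat.of R)

/-- the affine line over `Spec R` -/
noncomputable def f₀ : X₀ R ⟶ Y₀ R := Spec.map (CommRingCat.ofHom (C : R →+* R[X]))

theorem f₀_asIdeal (x : X₀ R) : (f₀ R x).asIdeal = x.asIdeal.comap C := rfl

/-- the generic point of the fibre -/
noncomputable def gp (y : Y₀ R) : X₀ R :=
  haveI := y.isPrime
  ⟨y.asIdeal.map C, Ideal.isPrime_map_C_of_isPrime⟩

theorem gp_asIdeal (y : Y₀ R) : (gp R y).asIdeal = y.asIdeal.map C := rfl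

theorem comap_map_C (I : Ideal R) : (I.map C).comap (C : R →+* R[X]) = I := by
  ext r
  rw [Ideal.mem_comap, Ideal.mem_map_C_iff]
  constructor
  · intro h
    have := h 0
    rwa [coeff_C_zero] at this
  · intro h n
    rw [coeff_C]
    split_ifs
    · exact h
    · exact I.zero_mem

theorem f₀_gp (y : Y₀ R) : f₀ R (gp R y) = y := by
  apply PrimeSpectrum.ext
  rw [f₀_asIdeal, gp_asIdeal, comap_map_C]

theorem gp_specializes (x : X₀ R) : gp R (f₀ R x) ⤳ x := by
  refine (PrimeSpectrum.le_iff_specializes (gp R (f₀ R x)) x).mp ?_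
  change (gp R (f₀ R x)).asIdeal ≤ x.asIdeal
  rw [gp_asIdeal, f₀_asIdeal]
  exact Ideal.map_comap_le

theorem stalkMap_ts (x : X₀ R) (r : R) :
    ((f₀ R).stalkMap x).hom (ts R (f₀ R x) r) = ts R[X] x (C r) := by
  rw [ts_eq_germ, ts_eq_germ]
  refine (Scheme.Hom.germ_stalkMap_apply (f₀ R) ⊤ x trivial _).trans ?_
  have h2 : (f₀ R).app ⊤ ((Scheme.ΓSpecIso (CommRingCat.of R)).inv r) =
      (Scheme.ΓSpecIso (CommRingCat.of R[X])).inv (C r) :=
    (congrArg (fun ψ => ψ.hom r)
      (Scheme.ΓSpecIso_inv_naturality (CommRingCat.ofHom (C : R →+* R[X])))).symm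
  rw [h2]
  rfl

/-- the fibre is reduced at its generic point -/
theorem map_maximalIdeal_gp (y : Y₀ R) :
    (IsLocalRing.maximalIdeal ((Y₀ R).presheaf.stalk (f₀ R (gp R y)))).map
      ((f₀ R).stalkMap (gp R y)).hom =
    IsLocalRing.maximalIdeal ((X₀ R).presheaf.stalk (gp R y)) := by
  apply le_antisymm
  · have hloc : IsLocalHom ((f₀ R).stalkMap (gp R y)).hom := inferInstance
    exact ((IsLocalRing.local_hom_TFAE ((f₀ R).stalkMap (gp R y)).hom).out 0 2).mp hloc
  · intro z hz
    obtain ⟨s, t, ht, hst⟩ := exists_ts_eq R[X] (gp R y) z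
    have hs : s ∈ (gp R y).asIdeal := by
      rw [← ts_mem_maximalIdeal_iff R[X] (gp R y) s, ← hst]
      exact Ideal.mul_mem_right _ _ hz
    set J := (IsLocalRing.maximalIdeal ((Y₀ R).presheaf.stalk (f₀ R (gp R y)))).map
      ((f₀ R).stalkMap (gp R y)).hom with hJ
    have h1 : ts R[X] (gp R y) s ∈ J := by
      have hle : (gp R y).asIdeal ≤ J.comap (ts R[X] (gp R y)) := by
        rw [gp_asIdeal, Ideal.map_le_iff_le_comap]
        intro r hr
        rw [Ideal.mem_comap, Ideal.mem_comap, ← stalkMap_ts]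
        apply Ideal.mem_map_of_mem
        rw [ts_mem_maximalIdeal_iff, f₀_gp]
        exact hr
      exact hle hs
    rw [← hst] at h1
    exact (Ideal.mul_unit_mem_iff_mem J ((isUnit_ts_iff R[X] (gp R y) t).mpr ht)).mp h1

theorem multN_gp (y : Y₀ R) : FF6.multN (f₀ R) (gp R y) = 1 := by
  unfold FF6.multN
  rw [map_maximalIdeal_gp]
  have : Module.length ((X₀ R).presheaf.stalk (gp R y))
      ((X₀ R).presheaf.stalk (gp R y) ⧸
        IsLocalRing.maximalIdeal ((X₀ R).presheaf.stalk (gp R y))) = 1 := by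
    rw [Module.length_eq_one_iff, isSimpleModule_iff_isCoatom]
    exact Ideal.isMaximal_def.mp inferInstance
  rw [this]
  rfl

open Classical in
/-- **Lemma L**: a rational function on the generic fibre with a simple zero at `x` and no other
zeros or poles on the fibre -/
theorem lemmaL (δ : X₀ R → ℤ) (hX : Cyc.IsSetup (X₀ R) δ) (x : X₀ R)
    (hx : x ≠ gp R (f₀ R x)) :
    ∃ g : (X₀ R).residueField (gp R (f₀ R x)), g ≠ 0 ∧
      ∀ (x'' : X₀ R) (h : gp R (f₀ R x) ⤳ x''), f₀ R x'' = f₀ R x → x'' ≠ gp R (f₀ R x) →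
        δ x'' + 1 = δ (gp R (f₀ R x)) →
        Cyc.ordAt x'' (gp R (f₀ R x)) h g = if x'' = x then 1 else 0 := by
  classical
  haveI := x.isPrime
  haveI : (f₀ R x).asIdeal.IsPrime := (f₀ R x).isPrime
  have hne : x.asIdeal ≠ (f₀ R x).asIdeal.map C := by
    intro h
    apply hx
    apply PrimeSpectrum.ext
    rw [gp_asIdeal]; exact h
  obtain ⟨a, ha, hanot, hgen, huniq⟩ :=
    AB1.exists_gen (𝔭 := (f₀ R x).asIdeal) x.asIdeal (f₀_asIdeal R x).symm hne
  refine ⟨((X₀ R).residue (gp R (f₀ R x))).hom (ts R[X] (gp R (f₀ R x)) a), ?_, ?_⟩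
  · intro h0
    exact hanot ((residue_ts_eq_zero_iff R[X] (gp R (f₀ R x)) a).mp h0)
  · intro x'' h hf hx'' hd
    have hord := ordAt_ts δ hX x'' (gp R (f₀ R x)) h hd a hanot
    by_cases hxx : x'' = x
    · rw [if_pos hxx]
      subst hxx
      apply hord.2 ha
      intro b hb
      obtain ⟨c, hc, g, hg⟩ := hgen b hb
      refine ⟨C c, ?_, g, hg⟩
      intro hcm
      exact hc hcm
    · rw [if_neg hxx]
      apply hord.1
      intro ha''
      apply hxx
      apply PrimeSpectrum.ext
      haveI := x''.isPrime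
      refine huniq x''.asIdeal x''.isPrime ?_ ha''
      rw [← f₀_asIdeal, hf]

end Groth.Agent.Lib.Helper18.AB4
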