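import Mathlib
import Groth.Prelude.Def_Cyc
import Groth.Agent.Lib.Helper18.FF6
import Groth.Agent.Lib.Helper18.EX2
import Groth.Agent.Lib.Helper18.C1Indep1
import Groth.Agent.Lib.Helper18.DivPull3
import Groth.Agent.Lib.Helper18.LocStalk2

/-!
# Affine bundles, part 5: the general framework
-/

set_option autoImplicit false
set_option linter.unusedSectionVars false
set_option linter.style.haveILetI false
universe u
open AlgebraicGeometry CategoryTheory TopologicalSpace

namespace Groth.Agent.Lib.Helper18.AB5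

open Groth.Agent.Lib.Helper18.DivPull Groth.Agent.Lib.Helper18.LocStalk

/-- a locally finite family of points meets a compact set finitely often -/
theorem finite_inter_support {X : Scheme.{u}} (β : AlgebraicCycle X ℤ) (K : Set X)
    (hK : IsCompact K) : (K ∩ Function.support β).Finite := by
  choose t ht hfin using fun z : X => β.supportLocallyFiniteWithinDomain' z (Set.mem_univ z)
  obtain ⟨s, -, hs⟩ := hK.elim_nhds_subcover t (fun z _ => ht z)
  refine (s.finite_toSet.biUnion (fun z _ => hfin z)).subset ?_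
  rintro x ⟨hxK, hx⟩
  obtain ⟨z, hz, hxz⟩ := Set.mem_iUnion₂.mp (hs hxK)
  exact Set.mem_biUnion hz ⟨hxz, hx⟩

variable {X Y : Scheme.{u}} (f : X ⟶ Y) (δX : X → ℤ) (δY : Y → ℤ) (r : ℕ)

/-- surjectivity of flat pullback on Chow groups, on the level of cycles -/
def Surj : Prop :=
  ∀ (k : ℤ) (β : AlgebraicCycle X ℤ), β ∈ Cyc.Zk X δX (k + r) →
    ∃ (α : AlgebraicCycle Y ℤ) (β' : AlgebraicCycle X ℤ), α ∈ Cyc.Zk Y δY k ∧
      ⇑β' = Cyc.pullFun f δX δY r ⇑α ∧ Cyc.RatEquiv δX (k + r) β β'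

/-- the fibres are irreducible and generically reduced of dimension `r` -/
structure FibData where
  gp : Y → X
  f_gp : ∀ y, f (gp y) = y
  spec : ∀ x, gp (f x) ⤳ x
  mult : ∀ y, FF6.multN f (gp y) = 1
  delta : ∀ y, δX (gp y) = δY y + r

variable {f δX δY r} (hX : Cyc.IsSetup X δX)

include hX in
theorem FibData.delta_eq_iff (D : FibData f δX δY r) (x : X) : δX x = δY (f x) + r ↔ x = D.gp (f x) := by
  constructor
  · intro h
    by_contra hne
    have := (hX.2.2 _ _ (D.spec x) (fun e => hne e.symm)).1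
    rw [D.delta] at this
    omega
  · intro h
    rw [h, D.f_gp, D.delta]

include hX in
theorem FibData.delta_le (D : FibData f δX δY r) (x : X) : δX x ≤ δY (f x) + r := by
  by_cases hne : x = D.gp (f x)
  · exact ((D.delta_eq_iff hX x).mpr hne).le
  · have := (hX.2.2 _ _ (D.spec x) (fun e => hne e.symm)).1
    rw [D.delta] at this
    omega

open Classical in
include hX in
theorem FibData.pullFun_eq (D : FibData f δX δY r) (α : Y → ℤ) (x : X) :
    Cyc.pullFun f δX δY r α x = if x = D.gp (f x) then α (f x) else 0 := by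
  rw [FF6.pullFun_eq]
  by_cases h : x = D.gp (f x)
  · rw [if_pos h, if_pos ((D.delta_eq_iff hX x).mpr h)]
    have : FF6.multN f x = 1 := by
      have := D.mult (f x)
      rwa [← h] at this
    rw [this]; simp
  · rw [if_neg h, if_neg (fun e => h ((D.delta_eq_iff hX x).mp e))]

include hX in
/-- a cycle supported at generic points of fibres is a flat pullback -/
theorem FibData.exists_pull (D : FibData f δX δY r) [QuasiCompact f] (k : ℤ) (β : AlgebraicCycle X ℤ)
    (hβ : β ∈ Cyc.Zk X δX (k + r)) (hsupp : ∀ x, β x ≠ 0 → x = D.gp (f x)) :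
    ∃ α : AlgebraicCycle Y ℤ, α ∈ Cyc.Zk Y δY k ∧ ⇑β = Cyc.pullFun f δX δY r ⇑α := by
  classical
  let α : AlgebraicCycle Y ℤ :=
    { toFun := fun y => β (D.gp y)
      supportWithinDomain' := Set.subset_univ _
      supportLocallyFiniteWithinDomain' := fun y₀ _ => by
        obtain ⟨V, hV, hyV, -⟩ := exists_isAffineOpen_mem_and_subset (x := y₀) (U := ⊤) trivial
        refine ⟨V, V.2.mem_nhds hyV, ?_⟩
        have hK : IsCompact (f ⁻¹' (V : Set Y)) :=
          QuasiCompact.isCompact_preimage (f := f) _ V.2 hV.isCompact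
        refine ((finite_inter_support β _ hK).image f).subset ?_
        rintro y ⟨hyV', hy⟩
        refine ⟨D.gp y, ⟨?_, hy⟩, D.f_gp y⟩
        change f (D.gp y) ∈ V
        rw [D.f_gp]; exact hyV' }
  have hα : ∀ y, α y = β (D.gp y) := fun _ => rfl
  refine ⟨α, ?_, ?_⟩
  · intro y hy
    rw [hα]
    apply hβ
    rw [D.delta]
    omega
  · funext x
    rw [D.pullFun_eq hX]
    by_cases h : x = D.gp (f x)
    · rw [if_pos h, hα, ← h]
    · rw [if_neg h]
      by_contra hne
      exact h (hsupp x hne)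

theorem ordAt_zpow {Z : Scheme.{u}} (δ : Z → ℤ) (hZ : Cyc.IsSetup Z δ) (x ξ : Z) (h : ξ ⤳ x)
    (hd : δ x + 1 = δ ξ) (g : Z.residueField ξ) (hg : g ≠ 0) (n : ℤ) :
    Cyc.ordAt x ξ h (g ^ n) = n * Cyc.ordAt x ξ h g := by
  haveI : IsLocallyNoetherian Z := hZ.1
  haveI : (RingHom.ker (Cyc.specMap x ξ h)).IsPrime := RingHom.ker_isPrime _
  haveI : IsDomain (Cyc.LocQuot x ξ h) := Ideal.Quotient.isDomain _
  haveI : Ring.KrullDimLE 1 (Cyc.LocQuot x ξ h) := krullDimLE_one_locQuot δ hZ.2.2 x ξ h hd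
  haveI : IsFractionRing (Cyc.LocQuot x ξ h) (Z.residueField ξ) := isFractionRing_locQuot x ξ h
  unfold Cyc.ordAt
  exact Groth.Agent.Lib.Helper18.C1Indep.ordFrac_zpow hg n

open Classical in
include hX in
/-- the affine line case: every cycle is rationally equivalent to a flat pullback -/
theorem surj_of_lemmaL (D : FibData f δX δY 1) (hY : Cyc.IsSetup Y δY)
    (hδ : Cyc.DeltaCompat f δX δY) [QuasiCompact f]
    (hL : ∀ x : X, x ≠ D.gp (f x) → ∃ g : X.residueField (D.gp (f x)), g ≠ 0 ∧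
      ∀ (x'' : X) (h : D.gp (f x) ⤳ x''), f x'' = f x → x'' ≠ D.gp (f x) →
        δX x'' + 1 = δX (D.gp (f x)) →
        Cyc.ordAt x'' (D.gp (f x)) h g = if x'' = x then 1 else 0) :
    Surj f δX δY 1 := by
  intro k β hβ
  simp only [Nat.cast_one] at hβ ⊢
  choose g hg0 hgord using hL
  have hdim : ∀ x, δX x = k + 1 → x ≠ D.gp (f x) → δY (f x) = k + 1 := by
    intro x hx hne
    have h1 := (hX.2.2 _ _ (D.spec x) (fun e => hne e.symm)).1
    rw [D.delta] at h1
    obtain ⟨n, -, hn⟩ := hδ x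
    have : (0 : ℤ) ≤ n := Int.natCast_nonneg n
    push_cast at h1
    omega
  have hβx : ∀ x, β x ≠ 0 → δX x = k + 1 := by
    intro x hx
    by_contra hne
    exact hx (hβ x hne)
  let I := {x : X // β x ≠ 0 ∧ x ≠ D.gp (f x)}
  let ξ : I → X := fun i => D.gp (f i.1)
  let G : (i : I) → X.residueField (ξ i) := fun i => (g i.1 i.2.2) ^ (β i.1)
  have hG : ∀ i, G i ≠ 0 := fun i => zpow_ne_zero _ (hg0 _ _)
  have hξ : ∀ i, δX (ξ i) = (k + 1) + 1 := by
    intro i
    change δX (D.gp (f i.1)) = _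
    rw [D.delta, hdim i.1 (hβx _ i.2.1) i.2.2]
    push_cast; ring
  have hlf : ∀ p : X, ∃ U : Set X, IsOpen U ∧ p ∈ U ∧
      {i | (closure {ξ i} ∩ U).Nonempty}.Finite := by
    intro p
    obtain ⟨V, hV, hpV, -⟩ := exists_isAffineOpen_mem_and_subset (x := f p) (U := ⊤) trivial
    have hK : IsCompact (f ⁻¹' (V : Set Y)) :=
      QuasiCompact.isCompact_preimage (f := f) _ V.2 hV.isCompact
    have hS := finite_inter_support β _ hK
    refine ⟨f ⁻¹' (V : Set Y), V.2.preimage f.continuous, hpV, ?_⟩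
    refine (hS.preimage (Set.injOn_of_injective Subtype.val_injective)).subset ?_
    rintro i ⟨z, hz1, hz2⟩
    have hsp : ξ i ⤳ z := specializes_iff_mem_closure.mpr hz1
    have hmem : ξ i ∈ f ⁻¹' (V : Set Y) := hsp.mem_open (V.2.preimage f.continuous) hz2
    have hmem' : f (D.gp (f i.1)) ∈ V := hmem
    rw [D.f_gp] at hmem'
    exact ⟨hmem', i.2.1⟩
  let ρ := EX2.ratCycle δX hX ξ G hG hlf
  have hρ0 : Cyc.RatEquivZero δX (k + 1) ρ :=
    EX2.ratCycle_ratEquivZero δX hX ξ G hG hlf (k + 1) hξ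
  have hρZ : ρ ∈ Cyc.Zk X δX (k + 1) := EX2.mem_Zk_of_ratEquivZero δX (k + 1) ρ hρ0
  have key : ∀ x'', δX x'' = k + 1 → x'' ≠ D.gp (f x'') → ρ x'' = β x'' := by
    intro x'' hx'' hne''
    have hterm : ∀ i : I, Cyc.divFun δX (ξ i) (G i) x'' = if i.1 = x'' then β x'' else 0 := by
      intro i
      unfold Cyc.divFun
      by_cases h : ξ i ⤳ x'' ∧ δX x'' + 1 = δX (ξ i)
      · rw [dif_pos h]
        have hsp : f i.1 ⤳ f x'' := by
          have := h.1.map f.continuous
          change f (D.gp (f i.1)) ⤳ f x'' at this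
          rwa [D.f_gp] at this
        have hfeq : f x'' = f i.1 := by
          by_contra hne
          have := (hY.2.2 _ _ hsp (fun e => hne e.symm)).1
          rw [hdim i.1 (hβx _ i.2.1) i.2.2, hdim x'' hx'' hne''] at this
          exact lt_irrefl _ this
        have hne3 : x'' ≠ D.gp (f i.1) := by rw [← hfeq]; exact hne''
        have hord := hgord i.1 i.2.2 x'' h.1 hfeq hne3 h.2
        change Cyc.ordAt x'' (D.gp (f i.1)) h.1 ((g i.1 i.2.2) ^ (β i.1)) = _
        rw [ordAt_zpow δX hX x'' (D.gp (f i.1)) h.1 h.2 _ (hg0 _ _), hord]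
        by_cases e : i.1 = x''
        · rw [if_pos e, if_pos e.symm, e, mul_one]
        · rw [if_neg e, if_neg (fun e' => e e'.symm), mul_zero]
      · rw [dif_neg h, if_neg]
        intro e
        apply h
        have hξe : ξ i = D.gp (f x'') := by change D.gp (f i.1) = _; rw [e]
        refine ⟨?_, ?_⟩
        · rw [hξe]; exact D.spec x''
        · rw [hξ i, hx'']
    have hsum : ρ x'' = ∑ᶠ i : I, (if i.1 = x'' then β x'' else 0) := by
      rw [EX2.ratCycle_apply]
      exact finsum_congr hterm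
    rw [hsum]
    by_cases hb : β x'' = 0
    · rw [hb]; simp
    · rw [finsum_eq_single _ (⟨x'', hb, hne''⟩ : I)]
      · rw [if_pos rfl]
      · intro i hi
        rw [if_neg]
        intro e
        exact hi (Subtype.ext e)
  have hsubZ : β - ρ ∈ Cyc.Zk X δX (k + 1) := by
    intro x hx
    change β x - ρ x = 0
    rw [hβ x hx, hρZ x hx, sub_zero]
  have hsupp : ∀ x, (β - ρ) x ≠ 0 → x = D.gp (f x) := by
    intro x hx
    by_contra hne
    apply hx
    change β x - ρ x = 0
    by_cases hd : δX x = k + 1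
    · rw [key x hd hne, sub_self]
    · rw [hβ x hd, hρZ x hd, sub_zero]
  obtain ⟨α, hα, hpull⟩ := D.exists_pull hX k (β - ρ) (by simpa using hsubZ) hsupp
  refine ⟨α, β - ρ, hα, by simpa using hpull, ?_⟩
  unfold Cyc.RatEquiv
  rw [sub_sub_cancel]
  exact hρ0

end Groth.Agent.Lib.Helper18.AB5
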