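import Mathlib
import Groth.Prelude.Def_Cyc
import Groth.Agent.Lib.Helper18.AB4
import Groth.Agent.Lib.Helper18.AB5
import Groth.Agent.Lib.Helper18.RelDimShift
import Groth.Agent.Lib.Helper18.SetupLft
import Groth.Agent.Lib.Helper21.BaseChg4
import Groth.Agent.Lib.Helper6.QFac1

/-!
# Affine bundles, part 6: surjectivity for `Spec R[X] → Spec R`
-/

set_option autoImplicit false
set_option linter.unusedSectionVars false
set_option linter.style.haveILetI false
universe u
open AlgebraicGeometry CategoryTheory TopologicalSpace Polynomial Limits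

namespace Groth.Agent.Lib.Helper18.AB6

open Groth.Agent.Lib.Helper18.AB4 Groth.Agent.Lib.Helper18.AB5

variable (R : Type u) [CommRing R]

instance flat_f₀ : Flat (f₀ R) := by
  unfold f₀
  rw [HasRingHomProperty.Spec_iff (P := @Flat)]
  exact RingHom.flat_algebraMap_iff.mpr (inferInstance : Module.Flat R R[X])

instance lft_f₀ : LocallyOfFiniteType (f₀ R) := by
  unfold f₀
  rw [HasRingHomProperty.Spec_iff (P := @LocallyOfFiniteType)]
  exact (RingHom.finiteType_algebraMap (A := R) (B := R[X])).mpr inferInstance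

instance qc_f₀ : QuasiCompact (f₀ R) := by
  unfold f₀; infer_instance

/-- the affine line as an affine space -/
noncomputable def toAff : X₀ R ⟶ 𝔸(PUnit.{u+1}; Y₀ R) :=
  Spec.map (CommRingCat.ofHom (MvPolynomial.pUnitAlgEquiv R).toRingEquiv.toRingHom) ≫
    (AffineSpace.SpecIso PUnit.{u+1} (CommRingCat.of R)).inv

instance : IsIso (toAff R) := by
  unfold toAff
  haveI : IsIso (Spec.map (CommRingCat.ofHom
      (MvPolynomial.pUnitAlgEquiv R).toRingEquiv.toRingHom)) :=
    inferInstanceAs (IsIso (Spec.map (MvPolynomial.pUnitAlgEquiv R).toRingEquiv.toCommRingCatIso.hom))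
  infer_instance

theorem toAff_over : toAff R ≫ (𝔸(PUnit.{u+1}; Y₀ R) ↘ Y₀ R) = f₀ R := by
  unfold toAff f₀
  rw [Category.assoc, AffineSpace.SpecIso_inv_over, ← Spec.map_comp]
  congr 1
  apply CommRingCat.hom_ext
  apply RingHom.ext
  intro r
  change (MvPolynomial.pUnitAlgEquiv R) (MvPolynomial.C r) = C r
  simp

theorem hasRelDim_f₀ : Cyc.HasRelDim (f₀ R) 1 := by
  have hsq : IsPullback (toAff R) (f₀ R) (𝔸(PUnit.{u+1}; Y₀ R) ↘ Y₀ R) (𝟙 (Y₀ R)) :=
    IsPullback.of_horiz_isIso ⟨by rw [toAff_over, Category.comp_id]⟩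
  have h := Groth.Agent.Lib.Helper6.QFac.hasRelDim_affineSpace (Y₀ R) PUnit.{u+1}
  rw [Nat.card_unique] at h
  exact Groth.Agent.Lib.Helper21.BaseChg.hasRelDim_of_isPullback hsq 1 h

variable {R} (δX : X₀ R → ℤ) (δY : Y₀ R → ℤ) (hY : Cyc.IsSetup (Y₀ R) δY)
  (hδ : Cyc.DeltaCompat (f₀ R) δX δY)

include hδ in
/-- the fibre data of the affine line -/
noncomputable def fibData : FibData (f₀ R) δX δY 1 where
  gp := gp R
  f_gp := f₀_gp R
  spec := gp_specializes R
  mult := multN_gp R
  delta := fun y => by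
    have h := RelDimShift.shift_of_hasRelDim (f₀ R) δX δY 1 (hasRelDim_f₀ R) hδ (gp R y) ?_
    · rw [h, f₀_gp]
    · intro z hz hsp
      have h1 := gp_specializes R z
      rw [hz, f₀_gp] at h1
      exact (hsp.antisymm h1).eq

include hY hδ in
/-- **the affine line over an affine base**: every cycle is rationally equivalent to a pullback -/
theorem surj_f₀ : Surj (f₀ R) δX δY 1 := by
  have hX : Cyc.IsSetup (X₀ R) δX :=
    SetupLft.isSetup_of_locallyOfFiniteType (f₀ R) δY hY δX hδ
  exact surj_of_lemmaL hX (fibData δX δY hδ) hY hδ (fun x hx => lemmaL R δX hX x hx)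

end Groth.Agent.Lib.Helper18.AB6
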