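import Mathlib
import Groth.Agent.Lib.Helper26.FracLength

/-!
# The length formula `ℓ(M/fM) = Σ_q ord_{R/q}(f) ℓ(M_q)` in natural-number form
-/

set_option autoImplicit false
set_option linter.style.haveILetI false
set_option linter.unusedSectionVars false
universe u v
open scoped Pointwise

namespace Groth.Agent.Lib.Helper18.AlgModSum

open Groth.Agent.Lib.Helper26.SuppMult IsLocalRing

variable {R : Type u} [CommRing R] [IsNoetherianRing R] [IsLocalRing R]
  (M : Type v) [AddCommGroup M] [Module R M] [Module.Finite R M]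

/-- non-closed points of the support are minimal in the support -/
def MinSupp : Prop :=
  ∀ q ∈ Module.support R M, q.asIdeal ≠ maximalIdeal R →
    ∀ q' ∈ Module.support R M, q' ≤ q → q' = q

variable {M}

theorem supportDim_le_one (hmin : MinSupp (R := R) M) : Module.supportDim R M ≤ 1 := by
  rw [Module.supportDim, Order.krullDim_le_one_iff]
  rintro ⟨q, hq⟩
  by_cases hqm : q.asIdeal = maximalIdeal R
  · right
    intro q' hle
    have h1 : q'.1 ≤ closedPoint R := le_maximal q'.1
    have h2 : q = closedPoint R := PrimeSpectrum.ext hqm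
    change q'.1 ≤ q
    rw [h2]; exact h1
  · left
    intro q' hle
    have := hmin q hq hqm q'.1 q'.2 hle
    change q ≤ q'.1
    rw [this]

theorem notMem_of_regular (hmin : MinSupp (R := R) M) {f : R} (hreg : IsSMulRegular M f)
    (q : PrimeSpectrum R) (hq : q ∈ Module.support R M) (hqm : q.asIdeal ≠ maximalIdeal R) :
    f ∉ q.asIdeal := by
  intro hfq
  have hpa : Module.annihilator R M ≤ q.asIdeal := Module.mem_support_iff_of_finite.mp hq
  have hminp : q.asIdeal ∈ (Module.annihilator R M).minimalPrimes := by
    refine ⟨⟨q.2, hpa⟩, ?_⟩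
    rintro p ⟨hp, hpa'⟩ hle
    have hps : (⟨p, hp⟩ : PrimeSpectrum R) ∈ Module.support R M :=
      Module.mem_support_iff_of_finite.mpr hpa'
    have := hmin q hq hqm ⟨p, hp⟩ hps hle
    rw [← this]
  have hass : q.asIdeal ∈ associatedPrimes R M :=
    Module.associatedPrimes.minimalPrimes_annihilator_subset_associatedPrimes R M hminp
  have h2 : f ∈ ⋃ p ∈ associatedPrimes R M, (p : Set R) := Set.mem_biUnion hass hfq
  rw [biUnion_associatedPrimes_eq_compl_regular] at h2
  exact h2 hreg

theorem supportDim_quot_le_zero (hmin : MinSupp (R := R) M) {f : R} (hreg : IsSMulRegular M f) :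
    Module.supportDim R (M ⧸ f • (⊤ : Submodule R M)) ≤ 0 := by
  rw [Module.supportDim, Order.krullDim_nonpos_iff_forall_isMax]
  have hall : ∀ q : Module.support R (M ⧸ f • (⊤ : Submodule R M)), q.1 = closedPoint R := by
    rintro ⟨q, hq⟩
    have hq' : q ∈ Module.support R (QuotSMulTop f M) := hq
    rw [Module.support_quotSMulTop] at hq'
    by_contra hne
    have hne' : q.asIdeal ≠ maximalIdeal R := fun h => hne (PrimeSpectrum.ext h)
    exact notMem_of_regular hmin hreg q hq'.1 hne' (hq'.2 (Set.mem_singleton f))
  intro q r _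
  have : q = r := Subtype.ext ((hall q).trans (hall r).symm)
  rw [this]

theorem length_quot_ne_top (hmin : MinSupp (R := R) M) {f : R} (hreg : IsSMulRegular M f) :
    Module.length R (M ⧸ f • (⊤ : Submodule R M)) ≠ ⊤ := by
  rw [Module.length_ne_top_iff]
  apply Groth.Agent.Lib.Helper12.MultFormula.isFiniteLength_of_support
  intro q hq
  have hq' : q ∈ Module.support R (QuotSMulTop f M) := hq
  rw [Module.support_quotSMulTop] at hq'
  by_contra hne
  have hne' : q.asIdeal ≠ maximalIdeal R := fun h => hne (PrimeSpectrum.ext h)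
  exact notMem_of_regular hmin hreg q hq'.1 hne' (hq'.2 (Set.mem_singleton f))

/-- the `ℕ`-valued version of the length formula, for a general finite module -/
theorem length_quot_eq_sum (hmin : MinSupp (R := R) M) {f : R} (hreg : IsSMulRegular M f)
    (T : Finset (PrimeSpectrum R)) (hT : ∀ q, q ∈ T ↔ q ∈ T₀ R M) :
    (Module.length R (M ⧸ f • (⊤ : Submodule R M))).toNat =
      ∑ q ∈ T, (Ring.ord (R ⧸ q.asIdeal) (Ideal.Quotient.mk q.asIdeal f)).toNat *
        (Module.length (Localization.AtPrime q.asIdeal)
          (LocalizedModule q.asIdeal.primeCompl M)).toNat := by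
  have hmain := main_1833 M f (supportDim_le_one hmin) (supportDim_quot_le_zero hmin hreg)
  have hker : Module.length R (LinearMap.ker (LinearMap.lsmul R M f)) = 0 := by
    rw [Module.length_eq_zero_iff]
    have : LinearMap.ker (LinearMap.lsmul R M f) = ⊥ := LinearMap.ker_eq_bot.mpr hreg
    rw [this]
    infer_instance
  rw [hker, zero_add] at hmain
  have hfs : (∑ᶠ (p : PrimeSpectrum R) (_ : p ∈ Module.support R M ∧ p.asIdeal ≠ maximalIdeal R),
        Ring.ord (R ⧸ p.asIdeal) (Ideal.Quotient.mk p.asIdeal f) *
          Module.length (Localization.AtPrime p.asIdeal)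
            (LocalizedModule p.asIdeal.primeCompl M)) =
      ∑ q ∈ T, Ring.ord (R ⧸ q.asIdeal) (Ideal.Quotient.mk q.asIdeal f) *
          Module.length (Localization.AtPrime q.asIdeal)
            (LocalizedModule q.asIdeal.primeCompl M) := by
    rw [← finsum_mem_coe_finset]
    apply finsum_mem_congr
    · ext q
      rw [Finset.mem_coe, hT q]
      rfl
    · intro q _
      rfl
  rw [hfs] at hmain
  have hne := length_quot_ne_top hmin hreg
  rw [hmain] at hne ⊢
  have hterm : ∀ q ∈ T, Ring.ord (R ⧸ q.asIdeal) (Ideal.Quotient.mk q.asIdeal f) *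
          Module.length (Localization.AtPrime q.asIdeal)
            (LocalizedModule q.asIdeal.primeCompl M) ≠ ⊤ := by
    intro q hq
    exact (ENat.sum_lt_top.mp (lt_top_iff_ne_top.mpr hne) q hq).ne
  rw [ENat.toNat_sum hterm]
  refine Finset.sum_congr rfl fun q _ => ?_
  rw [ENat.toNat_mul]

end Groth.Agent.Lib.Helper18.AlgModSum
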