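import Mathlib
import Groth.Prelude.Def_C1
import Groth.Agent.Lib.Helper18.LocStalk2
import Groth.Agent.Lib.Helper18.AlgModSum

/-!
# `ℓ(M/fM) = Σ_ξ ℓ(M_ξ) · ord_{O_x/𝔭_ξ}(f)` over the immediate generizations of `x`,
for a finite module `M` over the local ring `O_{X,x}` with one-dimensional support
-/

set_option autoImplicit false
set_option linter.style.haveILetI false
universe u
open CategoryTheory AlgebraicGeometry TopologicalSpace
open scoped Pointwise

namespace Groth.Agent.Lib.Helper18.ModGenSum

open Groth.Agent.Lib.Helper18.LocStalk Groth.Agent.Lib.Helper18.AlgModSum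
  Groth.Agent.Lib.Helper26.SuppMult

variable {X : Scheme.{u}}

instance kerPrime (x ξ : X) (h : ξ ⤳ x) : (RingHom.ker (Cyc.specMap x ξ h)).IsPrime :=
  RingHom.ker_isPrime _

open Classical in
/-- geometric form of the length formula for a module with one-dimensional support -/
theorem length_quot_eq_finsum_generizations [IsLocallyNoetherian X] (δ : X → ℤ)
    (hδ : Cyc.IsDimFun X δ) (x : X)
    (M : Type u) [AddCommGroup M] [Module (X.presheaf.stalk x) M]
    [Module.Finite (X.presheaf.stalk x) M]
    (hdim : ∀ q ∈ Module.support (X.presheaf.stalk x) M, δ (X.fromSpecStalk x q) ≤ δ x + 1)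
    (f : X.presheaf.stalk x) (hreg : IsSMulRegular M f) :
    ((Module.length (X.presheaf.stalk x) (M ⧸ f • (⊤ : Submodule (X.presheaf.stalk x) M))).toNat : ℤ) =
      ∑ᶠ ξ : X, if h : ξ ⤳ x ∧ δ x + 1 = δ ξ then
        ((Module.length (Localization.AtPrime (RingHom.ker (Cyc.specMap x ξ h.1)))
          (LocalizedModule (RingHom.ker (Cyc.specMap x ξ h.1)).primeCompl M)).toNat : ℤ) *
          ((Ring.ord (Cyc.LocQuot x ξ h.1)
            (Ideal.Quotient.mk (RingHom.ker (Cyc.specMap x ξ h.1)) f)).toNat : ℤ)
      else 0 := by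
  classical
  have hinj : Function.Injective (X.fromSpecStalk x) := (X.fromSpecStalk x).isEmbedding.injective
  have hsp : ∀ q, X.fromSpecStalk x q ⤳ x := fromSpecStalk_specializes x
  have hmono : ∀ q q' : PrimeSpectrum (X.presheaf.stalk x), q' ≤ q →
      X.fromSpecStalk x q' ⤳ X.fromSpecStalk x q := by
    intro q q' hle
    exact ((PrimeSpectrum.le_iff_specializes q' q).mp hle).map (X.fromSpecStalk x).continuous
  have hclosed : X.fromSpecStalk x (IsLocalRing.closedPoint (X.presheaf.stalk x)) = x :=
    Scheme.fromSpecStalk_closedPoint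
  -- non-closed points of the support have `δ = δ x + 1`
  have hδT : ∀ q ∈ Module.support (X.presheaf.stalk x) M,
      q.asIdeal ≠ IsLocalRing.maximalIdeal (X.presheaf.stalk x) →
      δ (X.fromSpecStalk x q) = δ x + 1 := by
    intro q hq hqm
    have hne : X.fromSpecStalk x q ≠ x := by
      intro he
      have := hinj (he.trans hclosed.symm)
      exact hqm (congrArg PrimeSpectrum.asIdeal this)
    have h1 := (hδ _ _ (hsp q) hne).1
    have h2 := hdim q hq
    omega
  have hmin : MinSupp (R := X.presheaf.stalk x) M := by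
    intro q hq hqm q' hq' hle
    have h1 := hδT q hq hqm
    have h2 := hdim q' hq'
    have h3 := hmono q q' hle
    by_contra hne
    have hne' : X.fromSpecStalk x q' ≠ X.fromSpecStalk x q := fun he => hne (hinj he)
    have := (hδ _ _ h3 hne').1
    omega
  have hfinT := T₀_finite M (supportDim_le_one hmin)
  have key := length_quot_eq_sum hmin hreg hfinT.toFinset
    (fun q => Set.Finite.mem_toFinset hfinT)
  rw [key]
  push_cast
  set F : X → ℤ := fun ξ => if h : ξ ⤳ x ∧ δ x + 1 = δ ξ then
        ((Module.length (Localization.AtPrime (RingHom.ker (Cyc.specMap x ξ h.1)))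
          (LocalizedModule (RingHom.ker (Cyc.specMap x ξ h.1)).primeCompl M)).toNat : ℤ) *
          ((Ring.ord (Cyc.LocQuot x ξ h.1)
            (Ideal.Quotient.mk (RingHom.ker (Cyc.specMap x ξ h.1)) f)).toNat : ℤ)
      else 0 with hF
  have hsub : Function.support F ⊆ ↑(hfinT.toFinset.image (X.fromSpecStalk x)) := by
    intro ξ hξ
    rw [Function.mem_support] at hξ
    have hcond : ξ ⤳ x ∧ δ x + 1 = δ ξ := by
      by_contra hc
      exact hξ (dif_neg hc)
    simp only [hF, dif_pos hcond] at hξ
    have hlen : Module.length (Localization.AtPrime (RingHom.ker (Cyc.specMap x ξ hcond.1)))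
          (LocalizedModule (RingHom.ker (Cyc.specMap x ξ hcond.1)).primeCompl M) ≠ 0 := by
      intro h0
      apply hξ
      rw [h0]
      simp
    rw [Finset.coe_image]
    refine ⟨⟨RingHom.ker (Cyc.specMap x ξ hcond.1), inferInstance⟩,
      Finset.mem_coe.mpr ((Set.Finite.mem_toFinset hfinT).mpr ⟨?_, ?_⟩),
      fromSpecStalk_ker_specMap x ξ hcond.1⟩
    · rw [Module.mem_support_iff]
      by_contra hnt
      rw [not_nontrivial_iff_subsingleton] at hnt
      exact hlen (Module.length_eq_zero_iff.mpr hnt)
    · intro hmax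
      have h4 := fromSpecStalk_ker_specMap x ξ hcond.1
      have h3 : (⟨RingHom.ker (Cyc.specMap x ξ hcond.1), inferInstance⟩ :
          PrimeSpectrum (X.presheaf.stalk x)) = IsLocalRing.closedPoint (X.presheaf.stalk x) :=
        PrimeSpectrum.ext hmax
      rw [h3, hclosed] at h4
      have := hcond.2
      rw [← h4] at this
      omega
  rw [finsum_eq_finset_sum_of_support_subset F hsub,
    Finset.sum_image (fun a _ b _ hab => hinj hab)]
  refine Finset.sum_congr rfl (fun q hq => ?_)
  rw [Set.Finite.mem_toFinset] at hq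
  have hδq := hδT q hq.1 hq.2
  have hcond : X.fromSpecStalk x q ⤳ x ∧ δ x + 1 = δ (X.fromSpecStalk x q) := ⟨hsp q, hδq.symm⟩
  rw [hF]
  simp only
  rw [dif_pos hcond]
  generalize hξ : X.fromSpecStalk x q = ξ at hcond
  have hqe := eq_ker_specMap_of_fromSpecStalk_eq x ξ hcond.1 q hξ
  subst hqe
  rw [mul_comm]

end Groth.Agent.Lib.Helper18.ModGenSum
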