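import Mathlib
import Groth.Prelude.Def_C1
import Groth.Agent.Lib.Helper18.ModGenSum

/-!
# Finiteness of the immediate generizations in the support of a module with one-dimensional support
-/

set_option autoImplicit false
set_option linter.style.haveILetI false
universe u
open CategoryTheory AlgebraicGeometry TopologicalSpace
open scoped Pointwise

namespace Groth.Agent.Lib.Helper18.ModGenSum

open Groth.Agent.Lib.Helper18.LocStalk Groth.Agent.Lib.Helper18.AlgModSum
  Groth.Agent.Lib.Helper26.SuppMult

variable {X : Scheme.{u}}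

theorem minSupp_of_hdim [IsLocallyNoetherian X] (δ : X → ℤ)
    (hδ : Cyc.IsDimFun X δ) (x : X)
    (M : Type u) [AddCommGroup M] [Module (X.presheaf.stalk x) M]
    [Module.Finite (X.presheaf.stalk x) M]
    (hdim : ∀ q ∈ Module.support (X.presheaf.stalk x) M, δ (X.fromSpecStalk x q) ≤ δ x + 1) :
    MinSupp (R := X.presheaf.stalk x) M := by
  have hinj : Function.Injective (X.fromSpecStalk x) := (X.fromSpecStalk x).isEmbedding.injective
  have hsp : ∀ q, X.fromSpecStalk x q ⤳ x := fromSpecStalk_specializes x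
  have hmono : ∀ q q' : PrimeSpectrum (X.presheaf.stalk x), q' ≤ q →
      X.fromSpecStalk x q' ⤳ X.fromSpecStalk x q := by
    intro q q' hle
    exact ((PrimeSpectrum.le_iff_specializes q' q).mp hle).map (X.fromSpecStalk x).continuous
  have hclosed : X.fromSpecStalk x (IsLocalRing.closedPoint (X.presheaf.stalk x)) = x :=
    Scheme.fromSpecStalk_closedPoint
  intro q hq hqm q' hq' hle
  have hne : X.fromSpecStalk x q ≠ x := by
    intro he
    have := hinj (he.trans hclosed.symm)
    exact hqm (congrArg PrimeSpectrum.asIdeal this)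
  have h0 := (hδ _ _ (hsp q) hne).1
  have h1 := hdim q hq
  have h2 := hdim q' hq'
  have h3 := hmono q q' hle
  by_contra hne2
  have hne' : X.fromSpecStalk x q' ≠ X.fromSpecStalk x q := fun he => hne2 (hinj he)
  have := (hδ _ _ h3 hne').1
  omega

theorem finite_generizations_support [IsLocallyNoetherian X] (δ : X → ℤ)
    (hδ : Cyc.IsDimFun X δ) (x : X)
    (M : Type u) [AddCommGroup M] [Module (X.presheaf.stalk x) M]
    [Module.Finite (X.presheaf.stalk x) M]
    (hdim : ∀ q ∈ Module.support (X.presheaf.stalk x) M, δ (X.fromSpecStalk x q) ≤ δ x + 1) :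
    {ξ : X | ∃ h : ξ ⤳ x, δ x + 1 = δ ξ ∧
      (⟨RingHom.ker (Cyc.specMap x ξ h), inferInstance⟩ : PrimeSpectrum (X.presheaf.stalk x)) ∈
        Module.support (X.presheaf.stalk x) M}.Finite := by
  have hmin := minSupp_of_hdim δ hδ x M hdim
  have hfinT := T₀_finite M (supportDim_le_one hmin)
  have hclosed : X.fromSpecStalk x (IsLocalRing.closedPoint (X.presheaf.stalk x)) = x :=
    Scheme.fromSpecStalk_closedPoint
  refine (hfinT.image (X.fromSpecStalk x)).subset ?_
  rintro ξ ⟨h, h1, h2⟩
  refine ⟨⟨RingHom.ker (Cyc.specMap x ξ h), inferInstance⟩, ⟨h2, ?_⟩,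
    fromSpecStalk_ker_specMap x ξ h⟩
  intro hmax
  have h4 := fromSpecStalk_ker_specMap x ξ h
  have h3 : (⟨RingHom.ker (Cyc.specMap x ξ h), inferInstance⟩ :
      PrimeSpectrum (X.presheaf.stalk x)) = IsLocalRing.closedPoint (X.presheaf.stalk x) :=
    PrimeSpectrum.ext hmax
  rw [h3, hclosed] at h4
  rw [← h4] at h1
  omega

end Groth.Agent.Lib.Helper18.ModGenSum
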