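import Mathlib
import Groth.Prelude.Def_C1
import Groth.Agent.Lib.Helper18.ModGenSum
import Groth.Agent.Lib.Helper18.RelAlg
import Groth.Agent.Lib.Helper18.FlatShift
import Groth.Agent.Lib.Helper18.DivPull3

/-!
# The relative length formula along a flat morphism
-/

set_option autoImplicit false
set_option linter.style.haveILetI false
universe u
open CategoryTheory AlgebraicGeometry TopologicalSpace
open scoped Pointwise

namespace Groth.Agent.Lib.Helper18.RelGenSum

open Groth.Agent.Lib.Helper18.LocStalk Groth.Agent.Lib.Helper18.ModGenSum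
  Groth.Agent.Lib.Helper18.DivPull Groth.Agent.Lib.Helper18.RelAlg

variable {X' X : Scheme.{u}} (p : X' ⟶ X)

/-- inclusion of the primes of two generizations gives a specialization -/
theorem specializes_of_ker_le (x ξ η : X) (hξ : ξ ⤳ x) (hη : η ⤳ x)
    (hle : RingHom.ker (Cyc.specMap x ξ hξ) ≤ RingHom.ker (Cyc.specMap x η hη)) : ξ ⤳ η := by
  have h1 : (⟨RingHom.ker (Cyc.specMap x ξ hξ), inferInstance⟩ : PrimeSpectrum (X.presheaf.stalk x)) ≤
      ⟨RingHom.ker (Cyc.specMap x η hη), inferInstance⟩ := hle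
  have h2 := ((PrimeSpectrum.le_iff_specializes _ _).mp h1).map (X.fromSpecStalk x).continuous
  rwa [fromSpecStalk_ker_specMap, fromSpecStalk_ker_specMap] at h2

/-- the prime of `p ξ''` contains `𝔭` as soon as the prime of `ξ''` contains `𝔭B` -/
theorem ker_le_of_map_le (x' ξ'' : X') (hs : ξ'' ⤳ x') (h' : p ξ'' ⤳ p x')
    (𝔭 : Ideal (X.presheaf.stalk (p x')))
    (hle : 𝔭.map (p.stalkMap x').hom ≤ RingHom.ker (Cyc.specMap x' ξ'' hs)) :
    𝔭 ≤ RingHom.ker (Cyc.specMap (p x') (p ξ'') h') := by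
  intro c hc
  have h1 : (p.stalkMap x').hom c ∈ RingHom.ker (Cyc.specMap x' ξ'' hs) :=
    hle (Ideal.mem_map_of_mem _ hc)
  rw [RingHom.mem_ker, specMap_stalkMap p x' ξ'' hs h' c] at h1
  rw [RingHom.mem_ker]
  exact (p.residueFieldMap ξ'').hom.injective (h1.trans (map_zero _).symm)

/-- points of the support of `B/𝔭B` lie over `ξ` or are the closed point -/
theorem eq_or_eq_of_map_le (δ : X → ℤ) (hδ : Cyc.IsDimFun X δ) (x' : X')
    (hgen : ∀ y, p y = p x' → y ⤳ x' → y = x')
    (ξ : X) (hsp : ξ ⤳ p x') (h2 : δ (p x') + 1 = δ ξ) (ξ'' : X') (hs : ξ'' ⤳ x')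
    (hle : (RingHom.ker (Cyc.specMap (p x') ξ hsp)).map (p.stalkMap x').hom ≤
      RingHom.ker (Cyc.specMap x' ξ'' hs)) : p ξ'' = ξ ∨ ξ'' = x' := by
  have h' : p ξ'' ⤳ p x' := p.base.hom.map_specializes hs
  have h1 := ker_le_of_map_le p x' ξ'' hs h' _ hle
  have h3 : ξ ⤳ p ξ'' := specializes_of_ker_le (p x') ξ (p ξ'') hsp h' h1
  by_cases he : p ξ'' = ξ
  · exact Or.inl he
  · right
    have h4 := (hδ ξ (p ξ'') h3 (fun h => he h.symm)).1
    have h5 : p ξ'' = p x' := by
      by_contra hne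
      have := (hδ (p ξ'') (p x') h' hne).1
      omega
    exact hgen ξ'' h5 hs

theorem map_ker_eq_maximalIdeal (x ξ : X) (h : ξ ⤳ x) :
    (RingHom.ker (Cyc.specMap x ξ h)).map (X.presheaf.stalkSpecializes h).hom =
      IsLocalRing.maximalIdeal (X.presheaf.stalk ξ) := by
  letI := (X.presheaf.stalkSpecializes h).hom.toAlgebra
  haveI := isLocalization_stalkSpecializes x ξ h
  exact IsLocalization.AtPrime.map_eq_maximalIdeal (RingHom.ker (Cyc.specMap x ξ h))
    (X.presheaf.stalk ξ)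

/-- the ideal generated by `𝔭_{p ξ'}` in `O_{ξ'}` is `𝔪_{p ξ'} O_{ξ'}` -/
theorem map_map_ker_eq (x' ξ' : X') (h : ξ' ⤳ x') (h' : p ξ' ⤳ p x') :
    ((RingHom.ker (Cyc.specMap (p x') (p ξ') h')).map (p.stalkMap x').hom).map
        (X'.presheaf.stalkSpecializes h).hom =
      (IsLocalRing.maximalIdeal (X.presheaf.stalk (p ξ'))).map (p.stalkMap ξ').hom := by
  rw [Ideal.map_map, ← map_ker_eq_maximalIdeal (p x') (p ξ') h', Ideal.map_map]
  congr 1
  have := Scheme.Hom.stalkSpecializes_stalkMap p ξ' x' h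
  rw [← CommRingCat.hom_comp, ← CommRingCat.hom_comp]
  exact congrArg CommRingCat.Hom.hom this.symm

/-- identification of the multiplicities -/
theorem length_localizedModule_eq [IsLocallyNoetherian X'] (x' ξ' : X') (h : ξ' ⤳ x')
    (h' : p ξ' ⤳ p x') :
    Module.length (Localization.AtPrime (RingHom.ker (Cyc.specMap x' ξ' h)))
      (LocalizedModule (RingHom.ker (Cyc.specMap x' ξ' h)).primeCompl
        (X'.presheaf.stalk x' ⧸ (RingHom.ker (Cyc.specMap (p x') (p ξ') h')).map
          (p.stalkMap x').hom)) =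
      Module.length (X'.presheaf.stalk ξ') (X'.presheaf.stalk ξ' ⧸
        (IsLocalRing.maximalIdeal (X.presheaf.stalk (p ξ'))).map (p.stalkMap ξ').hom) := by
  letI := (X'.presheaf.stalkSpecializes h).hom.toAlgebra
  haveI := isLocalization_stalkSpecializes x' ξ' h
  rw [length_localizedModule_quot (S := X'.presheaf.stalk ξ') (RingHom.ker (Cyc.specMap x' ξ' h))]
  have := map_map_ker_eq p x' ξ' h h'
  change Module.length (X'.presheaf.stalk ξ') (X'.presheaf.stalk ξ' ⧸
    ((RingHom.ker (Cyc.specMap (p x') (p ξ') h')).map (p.stalkMap x').hom).map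
        (X'.presheaf.stalkSpecializes h).hom) = _
  rw [this]

end Groth.Agent.Lib.Helper18.RelGenSum
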