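import Mathlib
import Groth.Prelude.Def_C1
import Groth.Agent.Lib.Helper18.RelGenSum

/-!
# The relative length formula along a flat morphism: main statement
-/

set_option autoImplicit false
set_option linter.style.haveILetI false
universe u
open CategoryTheory AlgebraicGeometry TopologicalSpace
open scoped Pointwise

namespace Groth.Agent.Lib.Helper18.RelGenSum

open Groth.Agent.Lib.Helper18.LocStalk Groth.Agent.Lib.Helper18.ModGenSum
  Groth.Agent.Lib.Helper18.DivPull Groth.Agent.Lib.Helper18.RelAlg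

variable {X' X : Scheme.{u}} (p : X' ⟶ X) [Flat p]

open Classical in
theorem ord_mul_length_eq_finsum (δ : X → ℤ) (δ' : X' → ℤ) (hX : Cyc.IsSetup X δ)
    (hX' : Cyc.IsSetup X' δ') (c : ℤ)
    (hc : ∀ x' : X', (∀ y, p y = p x' → y ⤳ x' → y = x') → δ' x' = δ (p x') + c)
    (x' : X') (hgen : ∀ y, p y = p x' → y ⤳ x' → y = x')
    (ξ : X) (hsp : ξ ⤳ p x') (h2 : δ (p x') + 1 = δ ξ)
    (a : X.presheaf.stalk (p x')) (ha : Cyc.specMap (p x') ξ hsp a ≠ 0) :
    ((Ring.ord (Cyc.LocQuot (p x') ξ hsp)
        (Ideal.Quotient.mk (RingHom.ker (Cyc.specMap (p x') ξ hsp)) a)).toNat : ℤ) *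
      ((Module.length (X'.presheaf.stalk x') (X'.presheaf.stalk x' ⧸
        (IsLocalRing.maximalIdeal (X.presheaf.stalk (p x'))).map (p.stalkMap x').hom)).toNat : ℤ) =
    ∑ᶠ ξ' : X', if h : ξ' ⤳ x' ∧ δ' x' + 1 = δ' ξ' then
      (if p ξ' = ξ then
        ((Module.length (X'.presheaf.stalk ξ') (X'.presheaf.stalk ξ' ⧸
          (IsLocalRing.maximalIdeal (X.presheaf.stalk (p ξ'))).map (p.stalkMap ξ').hom)).toNat : ℤ) *
        ((Ring.ord (Cyc.LocQuot x' ξ' h.1)
          (Ideal.Quotient.mk (RingHom.ker (Cyc.specMap x' ξ' h.1)) ((p.stalkMap x').hom a))).toNat : ℤ)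
      else 0)
    else 0 := by
  classical
  haveI : IsLocallyNoetherian X := hX.1
  haveI : IsLocallyNoetherian X' := hX'.1
  letI := (p.stalkMap x').hom.toAlgebra
  haveI hfl : Module.Flat (X.presheaf.stalk (p x')) (X'.presheaf.stalk x') := Flat.stalkMap p x'
  haveI hloc : IsLocalHom (algebraMap (X.presheaf.stalk (p x')) (X'.presheaf.stalk x')) :=
    (inferInstance : IsLocalHom (p.stalkMap x').hom)
  have ha' : a ∉ RingHom.ker (Cyc.specMap (p x') ξ hsp) := fun h => ha (RingHom.mem_ker.mp h)
  have hreg := isSMulRegular_quot_map (B := X'.presheaf.stalk x')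
    (RingHom.ker (Cyc.specMap (p x') ξ hsp)) a ha'
  have hlen := length_quot_quot_map (B := X'.presheaf.stalk x')
    (RingHom.ker (Cyc.specMap (p x') ξ hsp)) a
  -- supports
  have hsupp : ∀ q : PrimeSpectrum (X'.presheaf.stalk x'),
      q ∈ Module.support (X'.presheaf.stalk x') (X'.presheaf.stalk x' ⧸
        (RingHom.ker (Cyc.specMap (p x') ξ hsp)).map (algebraMap _ (X'.presheaf.stalk x'))) →
      (RingHom.ker (Cyc.specMap (p x') ξ hsp)).map (p.stalkMap x').hom ≤ q.asIdeal := by
    intro q hq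
    have := Module.mem_support_iff_of_finite.mp hq
    rwa [Ideal.annihilator_quotient] at this
  have hδx' := hc x' hgen
  have hdim' : ∀ q ∈ Module.support (X'.presheaf.stalk x') (X'.presheaf.stalk x' ⧸
        (RingHom.ker (Cyc.specMap (p x') ξ hsp)).map (algebraMap _ (X'.presheaf.stalk x'))),
      δ' (X'.fromSpecStalk x' q) ≤ δ' x' + 1 := by
    intro q hq
    have hle := hsupp q hq
    have hs := fromSpecStalk_specializes x' q
    have hqe := eq_ker_specMap_of_fromSpecStalk_eq x' _ hs q rfl
    rw [hqe] at hle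
    rcases eq_or_eq_of_map_le p δ hX.2.2 x' hgen ξ hsp h2 _ hs hle with h | h
    · have := (Groth.Agent.Lib.Helper18.FlatShift.delta_le_of_shift p δ δ' hX'.2.2 c hc
        (X'.fromSpecStalk x' q)).1
      rw [h] at this
      omega
    · rw [h]; omega
  have key := ModGenSum.length_quot_eq_finsum_generizations δ' hX'.2.2 x'
    (X'.presheaf.stalk x' ⧸
      (RingHom.ker (Cyc.specMap (p x') ξ hsp)).map (algebraMap _ (X'.presheaf.stalk x')))
    hdim' (algebraMap _ (X'.presheaf.stalk x') a) hreg
  rw [hlen, ENat.toNat_mul] at key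
  push_cast at key
  have hmk : Ideal.Quotient.mk (RingHom.ker (Cyc.specMap (p x') ξ hsp)) a =
      Ideal.Quotient.mk (RingHom.ker (Cyc.specMap (p x') ξ hsp)) a := rfl
  refine Eq.trans ?_ (key.trans ?_)
  · rfl
  apply finsum_congr
  intro ξ'
  by_cases h : ξ' ⤳ x' ∧ δ' x' + 1 = δ' ξ'
  · rw [dif_pos h, dif_pos h]
    by_cases hp : p ξ' = ξ
    · rw [if_pos hp]
      subst hp
      have h' : p ξ' ⤳ p x' := p.base.hom.map_specializes h.1
      have := length_localizedModule_eq p x' ξ' h.1 h'
      congr 2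
      exact congrArg ENat.toNat this
    · rw [if_neg hp]
      have hsub : Subsingleton (LocalizedModule (RingHom.ker (Cyc.specMap x' ξ' h.1)).primeCompl
          (X'.presheaf.stalk x' ⧸
            (RingHom.ker (Cyc.specMap (p x') ξ hsp)).map (algebraMap _ (X'.presheaf.stalk x')))) := by
        by_contra hns
        rw [not_subsingleton_iff_nontrivial] at hns
        have hq : (⟨RingHom.ker (Cyc.specMap x' ξ' h.1), inferInstance⟩ :
            PrimeSpectrum (X'.presheaf.stalk x')) ∈ Module.support (X'.presheaf.stalk x')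
            (X'.presheaf.stalk x' ⧸
              (RingHom.ker (Cyc.specMap (p x') ξ hsp)).map (algebraMap _ (X'.presheaf.stalk x'))) :=
          Module.mem_support_iff.mpr hns
        have hle := hsupp _ hq
        rcases eq_or_eq_of_map_le p δ hX.2.2 x' hgen ξ hsp h2 ξ' h.1 hle with h3 | h3
        · exact hp h3
        · have := h.2
          rw [h3] at this
          omega
      rw [Module.length_eq_zero_iff.mpr hsub]
      simp
  · rw [dif_neg h, dif_neg h]

end Groth.Agent.Lib.Helper18.RelGenSum
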