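import Mathlib
import Groth.Prelude.Def_C1
import Groth.Agent.Lib.Helper18.RelGenSum2
import Groth.Agent.Lib.Helper18.ModGenSum2

/-!
# The relative length formula: orders of rational functions
-/

set_option autoImplicit false
set_option linter.style.haveILetI false
universe u
open CategoryTheory AlgebraicGeometry TopologicalSpace
open scoped Pointwise

namespace Groth.Agent.Lib.Helper18.RelGenSum

open Groth.Agent.Lib.Helper18.LocStalk Groth.Agent.Lib.Helper18.ModGenSum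
  Groth.Agent.Lib.Helper18.DivPull Groth.Agent.Lib.Helper18.RelAlg

variable {X' X : Scheme.{u}} (p : X' ⟶ X) [Flat p]

omit [Flat p] in
theorem map_ker_le_ker (x' ξ' : X') (h : ξ' ⤳ x') (h' : p ξ' ⤳ p x') :
    (RingHom.ker (Cyc.specMap (p x') (p ξ') h')).map (p.stalkMap x').hom ≤
      RingHom.ker (Cyc.specMap x' ξ' h) := by
  rw [Ideal.map_le_iff_le_comap]
  intro c hc
  rw [Ideal.mem_comap, RingHom.mem_ker, specMap_stalkMap p x' ξ' h h' c, RingHom.mem_ker.mp hc,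
    map_zero]

theorem finite_generizations_over (δ : X → ℤ) (δ' : X' → ℤ) (hX : Cyc.IsSetup X δ)
    (hX' : Cyc.IsSetup X' δ') (c : ℤ)
    (hc : ∀ x' : X', (∀ y, p y = p x' → y ⤳ x' → y = x') → δ' x' = δ (p x') + c)
    (x' : X') (hgen : ∀ y, p y = p x' → y ⤳ x' → y = x')
    (ξ : X) (hsp : ξ ⤳ p x') (h2 : δ (p x') + 1 = δ ξ) :
    {ξ' : X' | ξ' ⤳ x' ∧ δ' x' + 1 = δ' ξ' ∧ p ξ' = ξ}.Finite := by
  haveI : IsLocallyNoetherian X := hX.1
  haveI : IsLocallyNoetherian X' := hX'.1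
  letI := (p.stalkMap x').hom.toAlgebra
  have hsupp : ∀ q : PrimeSpectrum (X'.presheaf.stalk x'),
      q ∈ Module.support (X'.presheaf.stalk x') (X'.presheaf.stalk x' ⧸
        (RingHom.ker (Cyc.specMap (p x') ξ hsp)).map (algebraMap _ (X'.presheaf.stalk x'))) ↔
      (RingHom.ker (Cyc.specMap (p x') ξ hsp)).map (p.stalkMap x').hom ≤ q.asIdeal := by
    intro q
    rw [Module.mem_support_iff_of_finite, Ideal.annihilator_quotient]
    rfl
  have hδx' := hc x' hgen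
  have hdim' : ∀ q ∈ Module.support (X'.presheaf.stalk x') (X'.presheaf.stalk x' ⧸
        (RingHom.ker (Cyc.specMap (p x') ξ hsp)).map (algebraMap _ (X'.presheaf.stalk x'))),
      δ' (X'.fromSpecStalk x' q) ≤ δ' x' + 1 := by
    intro q hq
    have hle := (hsupp q).mp hq
    have hs := fromSpecStalk_specializes x' q
    have hqe := eq_ker_specMap_of_fromSpecStalk_eq x' _ hs q rfl
    rw [hqe] at hle
    rcases eq_or_eq_of_map_le p δ hX.2.2 x' hgen ξ hsp h2 _ hs hle with h | h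
    · have := (Groth.Agent.Lib.Helper18.FlatShift.delta_le_of_shift p δ δ' hX'.2.2 c hc
        (X'.fromSpecStalk x' q)).1
      rw [h] at this
      omega
    · rw [h]; omega
  refine (finite_generizations_support δ' hX'.2.2 x' _ hdim').subset ?_
  rintro ξ' ⟨h, h1, hp⟩
  refine ⟨h, h1, (hsupp _).mpr ?_⟩
  subst hp
  exact map_ker_le_ker p x' ξ' h hsp

open Classical in
theorem ordAt_mul_length_eq_finsum (δ : X → ℤ) (δ' : X' → ℤ) (hX : Cyc.IsSetup X δ)
    (hX' : Cyc.IsSetup X' δ') (c : ℤ)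
    (hc : ∀ x' : X', (∀ y, p y = p x' → y ⤳ x' → y = x') → δ' x' = δ (p x') + c)
    (x' : X') (hgen : ∀ y, p y = p x' → y ⤳ x' → y = x')
    (ξ : X) (hsp : ξ ⤳ p x') (h2 : δ (p x') + 1 = δ ξ)
    (a b : X.presheaf.stalk (p x')) (ha : Cyc.specMap (p x') ξ hsp a ≠ 0)
    (hb : Cyc.specMap (p x') ξ hsp b ≠ 0)
    (G : (ξ' : X') → X'.residueField ξ')
    (hG : ∀ (ξ' : X') (h : ξ' ⤳ x'), δ' x' + 1 = δ' ξ' → p ξ' = ξ →
      G ξ' = Cyc.specMap x' ξ' h ((p.stalkMap x').hom a) /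
        Cyc.specMap x' ξ' h ((p.stalkMap x').hom b)) :
    Cyc.ordAt (p x') ξ hsp (Cyc.specMap (p x') ξ hsp a / Cyc.specMap (p x') ξ hsp b) *
      ((Module.length (X'.presheaf.stalk x') (X'.presheaf.stalk x' ⧸
        (IsLocalRing.maximalIdeal (X.presheaf.stalk (p x'))).map (p.stalkMap x').hom)).toNat : ℤ) =
    ∑ᶠ ξ' : X', if h : ξ' ⤳ x' ∧ δ' x' + 1 = δ' ξ' then
      (if p ξ' = ξ then
        ((Module.length (X'.presheaf.stalk ξ') (X'.presheaf.stalk ξ' ⧸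
          (IsLocalRing.maximalIdeal (X.presheaf.stalk (p ξ'))).map (p.stalkMap ξ').hom)).toNat : ℤ) *
        Cyc.ordAt x' ξ' h.1 (G ξ')
      else 0)
    else 0 := by
  classical
  haveI : IsLocallyNoetherian X := hX.1
  haveI : IsLocallyNoetherian X' := hX'.1
  haveI : IsDomain (Cyc.LocQuot (p x') ξ hsp) := Ideal.Quotient.isDomain _
  haveI : Ring.KrullDimLE 1 (Cyc.LocQuot (p x') ξ hsp) :=
    krullDimLE_one_locQuot δ hX.2.2 (p x') ξ hsp h2
  haveI : IsFractionRing (Cyc.LocQuot (p x') ξ hsp) (X.residueField ξ) :=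
    isFractionRing_locQuot (p x') ξ hsp
  have hup0 : ∀ c : X.presheaf.stalk (p x'), Cyc.specMap (p x') ξ hsp c ≠ 0 →
      Ideal.Quotient.mk (RingHom.ker (Cyc.specMap (p x') ξ hsp)) c ≠ 0 := by
    intro c hc h0
    apply hc
    rw [← algebraMap_locQuot_mk, h0, map_zero]
  have e1 : Cyc.ordAt (p x') ξ hsp
      (Cyc.specMap (p x') ξ hsp a / Cyc.specMap (p x') ξ hsp b) =
      ((Ring.ord (Cyc.LocQuot (p x') ξ hsp)
        (Ideal.Quotient.mk (RingHom.ker (Cyc.specMap (p x') ξ hsp)) a)).toNat : ℤ) -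
      ((Ring.ord (Cyc.LocQuot (p x') ξ hsp)
        (Ideal.Quotient.mk (RingHom.ker (Cyc.specMap (p x') ξ hsp)) b)).toNat : ℤ) := by
    unfold Cyc.ordAt
    rw [← algebraMap_locQuot_mk, ← algebraMap_locQuot_mk,
      Groth.Agent.Lib.Helper26.FracLength.ordFrac_div
        (by rw [algebraMap_locQuot_mk]; exact ha) (by rw [algebraMap_locQuot_mk]; exact hb),
      Groth.Agent.Lib.Helper26.OrdZ.ordFrac_algebraMap (hup0 _ ha),
      Groth.Agent.Lib.Helper26.OrdZ.ordFrac_algebraMap (hup0 _ hb)]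
  have e3 := fun (z : X.presheaf.stalk (p x')) (hz : Cyc.specMap (p x') ξ hsp z ≠ 0) =>
    ord_mul_length_eq_finsum p δ δ' hX hX' c hc x' hgen ξ hsp h2 z hz
  -- nonvanishing upstairs
  have hne : ∀ (ξ' : X') (h : ξ' ⤳ x'), p ξ' = ξ → ∀ z : X.presheaf.stalk (p x'),
      Cyc.specMap (p x') ξ hsp z ≠ 0 → Cyc.specMap x' ξ' h ((p.stalkMap x').hom z) ≠ 0 := by
    intro ξ' h hp z hz
    subst hp
    rw [specMap_stalkMap p x' ξ' h hsp z]
    exact (map_ne_zero_iff _ (p.residueFieldMap ξ').hom.injective).mpr hz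
  have e4 : ∀ (ξ' : X') (h : ξ' ⤳ x' ∧ δ' x' + 1 = δ' ξ'), p ξ' = ξ →
      Cyc.ordAt x' ξ' h.1 (G ξ') =
      ((Ring.ord (Cyc.LocQuot x' ξ' h.1)
        (Ideal.Quotient.mk (RingHom.ker (Cyc.specMap x' ξ' h.1)) ((p.stalkMap x').hom a))).toNat : ℤ) -
      ((Ring.ord (Cyc.LocQuot x' ξ' h.1)
        (Ideal.Quotient.mk (RingHom.ker (Cyc.specMap x' ξ' h.1)) ((p.stalkMap x').hom b))).toNat : ℤ) := by
    intro ξ' h hp
    have hG1 := hG ξ' h.1 h.2 hp
    have hG2 := hne ξ' h.1 hp a ha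
    have hG3 := hne ξ' h.1 hp b hb
    haveI : IsDomain (Cyc.LocQuot x' ξ' h.1) := Ideal.Quotient.isDomain _
    haveI : Ring.KrullDimLE 1 (Cyc.LocQuot x' ξ' h.1) :=
      krullDimLE_one_locQuot δ' hX'.2.2 x' ξ' h.1 h.2
    haveI : IsFractionRing (Cyc.LocQuot x' ξ' h.1) (X'.residueField ξ') :=
      isFractionRing_locQuot x' ξ' h.1
    have hup : ∀ c : X'.presheaf.stalk x', Cyc.specMap x' ξ' h.1 c ≠ 0 →
        Ideal.Quotient.mk (RingHom.ker (Cyc.specMap x' ξ' h.1)) c ≠ 0 := by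
      intro c hc h0
      apply hc
      rw [← algebraMap_locQuot_mk, h0, map_zero]
    rw [hG1]
    unfold Cyc.ordAt
    rw [← algebraMap_locQuot_mk, ← algebraMap_locQuot_mk,
      Groth.Agent.Lib.Helper26.FracLength.ordFrac_div
        (by rw [algebraMap_locQuot_mk]; exact hG2) (by rw [algebraMap_locQuot_mk]; exact hG3),
      Groth.Agent.Lib.Helper26.OrdZ.ordFrac_algebraMap (hup _ hG2),
      Groth.Agent.Lib.Helper26.OrdZ.ordFrac_algebraMap (hup _ hG3)]
  have hfin := finite_generizations_over p δ δ' hX hX' c hc x' hgen ξ hsp h2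
  have hsuppfin : ∀ T : (ξ' : X') → (ξ' ⤳ x' ∧ δ' x' + 1 = δ' ξ') → ℤ,
      (Function.support fun ξ' : X' => if h : ξ' ⤳ x' ∧ δ' x' + 1 = δ' ξ' then
        (if p ξ' = ξ then T ξ' h else 0) else 0).Finite := by
    intro T
    refine hfin.subset (fun ξ' hξ' => ?_)
    rw [Function.mem_support] at hξ'
    by_cases h : ξ' ⤳ x' ∧ δ' x' + 1 = δ' ξ'
    · rw [dif_pos h] at hξ'
      by_cases hp : p ξ' = ξ
      · exact ⟨h.1, h.2, hp⟩
      · rw [if_neg hp] at hξ'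
        exact absurd rfl hξ'
    · rw [dif_neg h] at hξ'
      exact absurd rfl hξ'
  rw [e1, sub_mul, e3 a ha, e3 b hb, ← finsum_sub_distrib (hsuppfin _) (hsuppfin _)]
  apply finsum_congr
  intro ξ'
  by_cases h : ξ' ⤳ x' ∧ δ' x' + 1 = δ' ξ'
  · rw [dif_pos h, dif_pos h, dif_pos h]
    by_cases hp : p ξ' = ξ
    · rw [if_pos hp, if_pos hp, if_pos hp, e4 ξ' h hp]
      ring
    · rw [if_neg hp, if_neg hp, if_neg hp, sub_zero]
  · rw [dif_neg h, dif_neg h, dif_neg h, sub_zero]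

end Groth.Agent.Lib.Helper18.RelGenSum
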