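import Mathlib
import Groth.Prelude.Def_C1
import Groth.Agent.Lib.Helper18.RelGenSum3

/-!
# Flat pullback of the principal divisor of a rational function on an integral closed subscheme
-/

set_option autoImplicit false
set_option linter.style.haveILetI false
universe u
open CategoryTheory AlgebraicGeometry TopologicalSpace

namespace Groth.Agent.Lib.Helper18.FlatPullDiv

open Groth.Agent.Lib.Helper18.LocStalk Groth.Agent.Lib.Helper18.DivPull
  Groth.Agent.Lib.Helper18.RelGenSum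

variable {X' X : Scheme.{u}} (p : X' ⟶ X) [Flat p]

/-- the multiplicity of the fibre at a point -/
noncomputable def mult (ξ' : X') : ℤ :=
  ((Module.length (X'.presheaf.stalk ξ') (X'.presheaf.stalk ξ' ⧸
    (IsLocalRing.maximalIdeal (X.presheaf.stalk (p ξ'))).map (p.stalkMap ξ').hom)).toNat : ℤ)

omit [Flat p] in
theorem pullFun_eq (δ : X → ℤ) (δ' : X' → ℤ) (c : ℤ) (α : X → ℤ) (x' : X') :
    Cyc.pullFun p δ' δ c α x' = if δ' x' = δ (p x') + c then α (p x') * mult p x' else 0 := rfl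

open Classical in
/-- a nonzero term in the pulled back divisor forces the generic situation -/
theorem term_conditions (δ : X → ℤ) (δ' : X' → ℤ) (hX : Cyc.IsSetup X δ)
    (hX' : Cyc.IsSetup X' δ') (c : ℤ)
    (hc : ∀ x' : X', (∀ y, p y = p x' → y ⤳ x' → y = x') → δ' x' = δ (p x') + c)
    (ξ' x' : X') (hξ' : δ' ξ' = δ (p ξ') + c) (G : X.residueField (p ξ')) (hG : G ≠ 0)
    (hne : Cyc.divFun δ' ξ' ((p.residueFieldMap ξ').hom G) x' ≠ 0) :
    (ξ' ⤳ x' ∧ δ' x' + 1 = δ' ξ') ∧ δ' x' = δ (p x') + c ∧ p ξ' ⤳ p x' ∧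
      δ (p x') + 1 = δ (p ξ') := by
  have hd : ξ' ⤳ x' ∧ δ' x' + 1 = δ' ξ' := by
    by_contra hd
    apply hne
    unfold Cyc.divFun
    rw [dif_neg hd]
  have hsp : p ξ' ⤳ p x' := p.base.hom.map_specializes hd.1
  have hpne : p x' ≠ p ξ' := by
    intro hfx
    apply hne
    unfold Cyc.divFun
    rw [dif_pos hd]
    exact ordAt_map_eq_zero_of_map_eq p x' ξ' hd.1 hfx G hG
  have h1 := (hX.2.2 (p ξ') (p x') hsp (fun h => hpne h.symm)).1
  have h2 := (Groth.Agent.Lib.Helper18.FlatShift.delta_le_of_shift p δ δ' hX'.2.2 c hc x').1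
  have h3 := hd.2
  refine ⟨hd, by omega, hsp, by omega⟩

open Classical in
theorem pullFun_divFun (δ : X → ℤ) (δ' : X' → ℤ) (hX : Cyc.IsSetup X δ)
    (hX' : Cyc.IsSetup X' δ') (c : ℤ)
    (hc : ∀ x' : X', (∀ y, p y = p x' → y ⤳ x' → y = x') → δ' x' = δ (p x') + c)
    (ξ : X) (g : (η : X) → X.residueField η) (hg : g ξ ≠ 0) (x' : X') :
    Cyc.pullFun p δ' δ c (Cyc.divFun δ ξ (g ξ)) x' =
      ∑ᶠ ξ' : X', if p ξ' = ξ ∧ δ' ξ' = δ ξ + c then
        mult p ξ' * Cyc.divFun δ' ξ' ((p.residueFieldMap ξ').hom (g (p ξ'))) x'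
      else 0 := by
  classical
  haveI : IsLocallyNoetherian X := hX.1
  haveI : IsLocallyNoetherian X' := hX'.1
  have hgp : ∀ ξ' : X', p ξ' = ξ → g (p ξ') ≠ 0 := by
    intro ξ' hp
    rw [hp]; exact hg
  -- analysis of nonzero terms
  have hterm : ∀ ξ' : X', p ξ' = ξ ∧ δ' ξ' = δ ξ + c →
      Cyc.divFun δ' ξ' ((p.residueFieldMap ξ').hom (g (p ξ'))) x' ≠ 0 →
      (ξ' ⤳ x' ∧ δ' x' + 1 = δ' ξ') ∧ δ' x' = δ (p x') + c ∧ ξ ⤳ p x' ∧
        δ (p x') + 1 = δ ξ := by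
    intro ξ' hcond hne
    have hξ' : δ' ξ' = δ (p ξ') + c := by rw [hcond.1]; exact hcond.2
    have := term_conditions p δ δ' hX hX' c hc ξ' x' hξ' (g (p ξ')) (hgp ξ' hcond.1) hne
    rw [hcond.1] at this
    exact this
  rw [pullFun_eq]
  by_cases hδ : δ' x' = δ (p x') + c
  swap
  · rw [if_neg hδ]
    symm
    apply finsum_eq_zero_of_forall_eq_zero
    intro ξ'
    by_cases hcond : p ξ' = ξ ∧ δ' ξ' = δ ξ + c
    · rw [if_pos hcond]
      by_contra hne
      exact hδ (hterm ξ' hcond (right_ne_zero_of_mul hne)).2.1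
    · rw [if_neg hcond]
  rw [if_pos hδ]
  have hgen := (Groth.Agent.Lib.Helper18.FlatShift.delta_le_of_shift p δ δ' hX'.2.2 c hc x').2 hδ
  by_cases h : ξ ⤳ p x' ∧ δ (p x') + 1 = δ ξ
  swap
  · have h0 : Cyc.divFun δ ξ (g ξ) (p x') = 0 := by
      unfold Cyc.divFun
      rw [dif_neg h]
    rw [h0, zero_mul]
    symm
    apply finsum_eq_zero_of_forall_eq_zero
    intro ξ'
    by_cases hcond : p ξ' = ξ ∧ δ' ξ' = δ ξ + c
    · rw [if_pos hcond]
      by_contra hne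
      have := hterm ξ' hcond (right_ne_zero_of_mul hne)
      exact h ⟨this.2.2.1, this.2.2.2⟩
    · rw [if_neg hcond]
  -- the main case
  have h0 : Cyc.divFun δ ξ (g ξ) (p x') = Cyc.ordAt (p x') ξ h.1 (g ξ) := by
    unfold Cyc.divFun
    rw [dif_pos h]
  rw [h0]
  haveI : IsDomain (Cyc.LocQuot (p x') ξ h.1) := Ideal.Quotient.isDomain _
  haveI : IsFractionRing (Cyc.LocQuot (p x') ξ h.1) (X.residueField ξ) :=
    isFractionRing_locQuot (p x') ξ h.1
  obtain ⟨a', b', hb', hab⟩ := IsFractionRing.div_surjective (A := Cyc.LocQuot (p x') ξ h.1) (g ξ)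
  obtain ⟨a, rfl⟩ := Ideal.Quotient.mk_surjective a'
  obtain ⟨b, rfl⟩ := Ideal.Quotient.mk_surjective b'
  rw [algebraMap_locQuot_mk, algebraMap_locQuot_mk] at hab
  have hb0 : Cyc.specMap (p x') ξ h.1 b ≠ 0 := by
    rw [← algebraMap_locQuot_mk, Ne, FaithfulSMul.algebraMap_eq_zero_iff]
    exact nonZeroDivisors.ne_zero hb'
  have ha0 : Cyc.specMap (p x') ξ h.1 a ≠ 0 := by
    intro h0
    apply hg
    rw [← hab, h0, zero_div]
  have key := ordAt_mul_length_eq_finsum p δ δ' hX hX' c hc x' hgen ξ h.1 h.2 a b ha0 hb0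
    (fun ξ' => (p.residueFieldMap ξ').hom (g (p ξ'))) (by
      intro ξ' hs _ hp
      subst hp
      rw [← hab, map_div₀, specMap_stalkMap p x' ξ' hs h.1 a, specMap_stalkMap p x' ξ' hs h.1 b])
  rw [← hab]
  refine key.trans ?_
  apply finsum_congr
  intro ξ'
  by_cases hd : ξ' ⤳ x' ∧ δ' x' + 1 = δ' ξ'
  · rw [dif_pos hd]
    by_cases hp : p ξ' = ξ
    · have hcond : p ξ' = ξ ∧ δ' ξ' = δ ξ + c := ⟨hp, by have := h.2; have := hd.2; omega⟩
      rw [if_pos hp, if_pos hcond]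
      unfold Cyc.divFun
      rw [dif_pos hd]
      rfl
    · rw [if_neg hp, if_neg (fun hh : p ξ' = ξ ∧ δ' ξ' = δ ξ + c => hp hh.1)]
  · rw [dif_neg hd]
    by_cases hcond : p ξ' = ξ ∧ δ' ξ' = δ ξ + c
    · rw [if_pos hcond]
      unfold Cyc.divFun
      rw [dif_neg hd, mul_zero]
    · rw [if_neg hcond]

end Groth.Agent.Lib.Helper18.FlatPullDiv
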