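import Mathlib
import Groth.Prelude.Def_C1
import Groth.Agent.Lib.Helper18.FlatPullDiv
import Groth.Agent.Lib.Helper18.FibreFin
import Groth.Agent.Lib.Helper18.C1Indep2

/-!
# Flat pullback preserves rational equivalence
-/

set_option autoImplicit false
set_option linter.style.haveILetI false
universe u
open CategoryTheory AlgebraicGeometry TopologicalSpace

namespace Groth.Agent.Lib.Helper18.FlatPullRat

open Groth.Agent.Lib.Helper18.FlatPullDiv

variable {X' X : Scheme.{u}} (p : X' ⟶ X) [Flat p]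

/-- around any point of `X'` there is an affine open mapping into a given open of `X` -/
theorem exists_affine_pair (x' : X') (U : Set X) (hU : IsOpen U) (hx : p x' ∈ U) :
    ∃ (V : X.Opens) (U' : X'.Opens) (_ : IsAffineOpen V) (_ : IsAffineOpen U')
      (_ : U' ≤ p ⁻¹ᵁ V), (V : Set X) ⊆ U ∧ x' ∈ U' := by
  obtain ⟨_, ⟨V, hV, rfl⟩, hxV, hVU⟩ :=
    (X.isBasis_affineOpens).exists_subset_of_mem_open hx hU
  obtain ⟨_, ⟨U', hU', rfl⟩, hxU', hU'V⟩ :=
    (X'.isBasis_affineOpens).exists_subset_of_mem_open (show x' ∈ ((p ⁻¹ᵁ V : X'.Opens) : Set X')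
      from hxV) (p ⁻¹ᵁ V).2
  exact ⟨V, U', hV, hU', hU'V, hVU, hxU'⟩

theorem ratEquivZero_pull (δ : X → ℤ) (δ' : X' → ℤ) (hX : Cyc.IsSetup X δ)
    (hX' : Cyc.IsSetup X' δ') (c : ℤ)
    (hc : ∀ x' : X', (∀ y, p y = p x' → y ⤳ x' → y = x') → δ' x' = δ (p x') + c)
    (k : ℤ) (α : AlgebraicCycle X ℤ) (h0 : Cyc.RatEquivZero δ k α)
    (α' : AlgebraicCycle X' ℤ) (hα' : ⇑α' = Cyc.pullFun p δ' δ c ⇑α) :
    Cyc.RatEquivZero δ' (k + c) α' := by
  classical
  haveI : IsLocallyNoetherian X' := hX'.1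
  obtain ⟨I, ξ, f, hδξ, hf, hlf, hsum⟩ := h0
  let g : I → (η : X) → X.residueField η := fun i η => if h : ξ i = η then h ▸ f i else 1
  have hgi : ∀ i, g i (ξ i) = f i := by
    intro i
    simp only [g, dif_pos rfl]
  have hgne : ∀ (i : I) (ξ' : X'), p ξ' = ξ i → g i (p ξ') ≠ 0 := by
    intro i ξ' hp
    rw [hp, hgi]
    exact hf i
  let F : (ab : I × X') → X'.residueField ab.2 := fun ab =>
    ((p.residueFieldMap ab.2).hom (g ab.1 (p ab.2))) ^ (mult p ab.2)
  have hgeneric : ∀ (i : I) (ξ' : X'), p ξ' = ξ i → δ' ξ' = δ (ξ i) + c →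
      ∀ y, p y = p ξ' → y ⤳ ξ' → y = ξ' := by
    intro i ξ' hp hd
    refine (Groth.Agent.Lib.Helper18.FlatShift.delta_le_of_shift p δ δ' hX'.2.2 c hc ξ').2 ?_
    rw [hp]; exact hd
  -- local finiteness
  have hLF : ∀ x' : X', ∃ U' : X'.Opens, x' ∈ U' ∧
      {ab : I × X' | (p ab.2 = ξ ab.1 ∧ δ' ab.2 = δ (ξ ab.1) + c) ∧ ab.2 ∈ U'}.Finite := by
    intro x'
    obtain ⟨U, hUo, hxU, hfinU⟩ := hlf (p x')
    obtain ⟨V, U', hV, hU', hU'V, hVU, hxU'⟩ := exists_affine_pair p x' U hUo hxU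
    refine ⟨U', hxU', ?_⟩
    have hT : (⋃ i ∈ {i | (closure {ξ i} ∩ U).Nonempty},
        (fun ξ' : X' => ((i, ξ') : I × X')) ''
          {ξ' : X' | ξ' ∈ U' ∧ p ξ' = ξ i ∧ ∀ y, p y = p ξ' → y ⤳ ξ' → y = ξ'}).Finite :=
      hfinU.biUnion (fun i _ =>
        (Groth.Agent.Lib.Helper18.FibreFin.finite_fibre_generic p hU' hV hU'V (ξ i)).image _)
    refine hT.subset ?_
    rintro ⟨i, ξ'⟩ ⟨⟨hp, hd⟩, hξ'U⟩
    simp only at hp hd hξ'U
    refine Set.mem_biUnion (x := i) ?_ ⟨ξ', ⟨hξ'U, hp, hgeneric i ξ' hp hd⟩, rfl⟩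
    refine ⟨ξ i, subset_closure rfl, hVU ?_⟩
    rw [← hp]
    exact hU'V hξ'U
  refine ⟨{ab : I × X' // p ab.2 = ξ ab.1 ∧ δ' ab.2 = δ (ξ ab.1) + c}, fun j => j.1.2,
    fun j => F j.1, ?_, ?_, ?_, ?_⟩
  · intro j
    have := j.2.2
    rw [hδξ] at this
    simp only at this ⊢
    omega
  · intro j
    exact zpow_ne_zero _ ((map_ne_zero_iff _ (p.residueFieldMap j.1.2).hom.injective).mpr
      (hgne j.1.1 j.1.2 j.2.1))
  · intro x'
    obtain ⟨U', hxU', hfin⟩ := hLF x'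
    refine ⟨U', U'.2, hxU', ?_⟩
    refine Set.Finite.subset (hfin.preimage Subtype.val_injective.injOn) ?_
    rintro j ⟨z, hz, hzU⟩
    exact ⟨j.2, (specializes_iff_mem_closure.mpr hz).mem_open U'.2 hzU⟩
  · intro x'
    rw [hα', pullFun_eq]
    -- step 1: linearity
    have h1 : (if δ' x' = δ (p x') + c then α (p x') * mult p x' else 0) =
        ∑ᶠ i, Cyc.pullFun p δ' δ c (Cyc.divFun δ (ξ i) (g i (ξ i))) x' := by
      by_cases hδ : δ' x' = δ (p x') + c
      · rw [if_pos hδ, hsum, finsum_mul]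
        apply finsum_congr
        intro i
        rw [pullFun_eq, if_pos hδ, hgi]
      · rw [if_neg hδ]
        symm
        apply finsum_eq_zero_of_forall_eq_zero
        intro i
        rw [pullFun_eq, if_neg hδ]
    rw [h1]
    -- step 2: the pullback formula for each divisor
    have h2 : ∀ i, Cyc.pullFun p δ' δ c (Cyc.divFun δ (ξ i) (g i (ξ i))) x' =
        ∑ᶠ ξ' : X', if p ξ' = ξ i ∧ δ' ξ' = δ (ξ i) + c then
          Cyc.divFun δ' ξ' (F (i, ξ')) x' else 0 := by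
      intro i
      rw [pullFun_divFun p δ δ' hX hX' c hc (ξ i) (g i) (by rw [hgi]; exact hf i) x']
      apply finsum_congr
      intro ξ'
      by_cases hcond : p ξ' = ξ i ∧ δ' ξ' = δ (ξ i) + c
      · rw [if_pos hcond, if_pos hcond]
        simp only [F]
        rw [Groth.Agent.Lib.Helper18.C1Indep.divFun_zpow δ' hX' ξ' _
          ((map_ne_zero_iff _ (p.residueFieldMap ξ').hom.injective).mpr (hgne i ξ' hcond.1))]
      · rw [if_neg hcond, if_neg hcond]
    simp_rw [h2]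
    -- step 3: reorganise the double sum
    let H : I × X' → ℤ := fun ab =>
      if p ab.2 = ξ ab.1 ∧ δ' ab.2 = δ (ξ ab.1) + c then Cyc.divFun δ' ab.2 (F ab) x' else 0
    have hHfin : (Function.support H).Finite := by
      obtain ⟨U', hxU', hfin⟩ := hLF x'
      refine hfin.subset ?_
      intro ab hab
      rw [Function.mem_support] at hab
      simp only [H] at hab
      by_cases hcond : p ab.2 = ξ ab.1 ∧ δ' ab.2 = δ (ξ ab.1) + c
      · rw [if_pos hcond] at hab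
        refine ⟨hcond, ?_⟩
        have hsp : ab.2 ⤳ x' := by
          by_contra hns
          apply hab
          unfold Cyc.divFun
          rw [dif_neg (fun hh => hns hh.1)]
        exact hsp.mem_open U'.2 hxU'
      · rw [if_neg hcond] at hab
        exact absurd rfl hab
    have h3 : (∑ᶠ i, ∑ᶠ ξ' : X', if p ξ' = ξ i ∧ δ' ξ' = δ (ξ i) + c then
          Cyc.divFun δ' ξ' (F (i, ξ')) x' else 0) = ∑ᶠ ab, H ab :=
      (finsum_curry H hHfin).symm
    rw [h3, finsum_subtype_eq_finsum_cond (fun ab : I × X' =>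
      p ab.2 = ξ ab.1 ∧ δ' ab.2 = δ (ξ ab.1) + c)
      (f := fun ab => Cyc.divFun δ' ab.2 (F ab) x')]
    apply finsum_congr
    intro ab
    rw [finsum_eq_if]

end Groth.Agent.Lib.Helper18.FlatPullRat
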