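import Mathlib
import Groth.Prelude.Def_C1
import Groth.Agent.Lib.Helper18.FlatPullDiv
import Groth.Agent.Lib.Helper18.PullSec

/-!
# Flat pullback of the divisor of a rational section of an invertible module
-/

set_option autoImplicit false
set_option linter.style.haveILetI false
universe u
open CategoryTheory AlgebraicGeometry TopologicalSpace

namespace Groth.Agent.Lib.Helper18.FlatPullSec

open Groth.Agent.Lib.Helper29.QCoh Groth.Agent.Lib.Helper28.StalkTensor
  Groth.Agent.Lib.Helper18.InvStalk Groth.Agent.Lib.Helper18.PullStalk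
  Groth.Agent.Lib.Helper18.PullTriv Groth.Agent.Lib.Helper18.C1Add
  Groth.Agent.Lib.Helper26.OrdZ Groth.Agent.Lib.Helper18.DivPull
  Groth.Agent.Lib.Helper18.PullSec Groth.Agent.Lib.Helper18.FlatPullDiv

variable {X' X : Scheme.{u}} (p : X' ⟶ X) (L : X.Modules)

/-- the order of a rational section in terms of a trivialising section -/
theorem secOrdAt_eq_of_triv [IsLocallyNoetherian X] (hL : PicF.IsInvertible L) {V : X.Opens}
    {e : Γ(L, V)} (hT : IsTriv L V e) (x ξ : X) (h : ξ ⤳ x) (hx : x ∈ V) (hξ : ξ ∈ V)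
    (hK : Ring.KrullDimLE 1 (Cyc.LocQuot x ξ h)) (σ : Cyc.secFibre L ξ) (hσ : σ ≠ 0)
    (ψ : X.presheaf.stalk ξ)
    (hψ : σ = ψ • (Submodule.Quotient.mk (L.presheaf.germ V ξ hξ e) : Cyc.secFibre L ξ)) :
    Cyc.secOrdAt L ξ x h σ = Cyc.ordAt x ξ h ((X.residue ξ).hom ψ) ∧ (X.residue ξ).hom ψ ≠ 0 := by
  haveI : IsDomain (Cyc.LocQuot x ξ h) := Ideal.Quotient.isDomain _
  haveI := hK
  haveI : IsFractionRing (Cyc.LocQuot x ξ h) (X.residueField ξ) :=
    Groth.Agent.Lib.Helper18.LocStalk.isFractionRing_locQuot _ _ _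
  have h1 := secOrdAt_eq_of_generators' hL x ξ h hK (L.presheaf.germ V x hx e)
    (span_germ_eq_top L hT x hx) (L.presheaf.germ V ξ hξ e) 1
    (by rw [one_smul]; exact (TopCat.Presheaf.germ_stalkSpecializes_apply _ _ _ _).symm) σ hσ ψ hψ
  refine ⟨?_, h1.2.1⟩
  rw [h1.1, map_one]
  unfold Cyc.ordAt
  rw [ordFrac_one, add_zero]

open Classical in
theorem pullFun_secDivFun [Flat p] (δ : X → ℤ) (δ' : X' → ℤ) (hX : Cyc.IsSetup X δ)
    (hX' : Cyc.IsSetup X' δ') (c : ℤ)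
    (hc : ∀ x' : X', (∀ y, p y = p x' → y ⤳ x' → y = x') → δ' x' = δ (p x') + c)
    (hL : PicF.IsInvertible L)
    (ξ : X) (σ : (η : X) → Cyc.secFibre L η) (hσ : σ ξ ≠ 0) (x' : X') :
    Cyc.pullFun p δ' δ c (Cyc.secDivFun δ L ξ (σ ξ)) x' =
      ∑ᶠ ξ' : X', if p ξ' = ξ ∧ δ' ξ' = δ ξ + c then
        mult p ξ' * Cyc.secDivFun δ' ((Scheme.Modules.pullback p).obj L) ξ'
          (pullFibre p L ξ' (σ (p ξ'))) x'
      else 0 := by
  classical
  haveI : IsLocallyNoetherian X := hX.1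
  haveI : IsLocallyNoetherian X' := hX'.1
  have hL' : PicF.IsInvertible ((Scheme.Modules.pullback p).obj L) := isInvertible_pullback p hL
  obtain ⟨V, e, hxV, hT⟩ := exists_isTriv hL (p x')
  -- coefficients of the sections with respect to `e`
  have hex : ∀ (η : X) (hη : η ∈ V), ∃ ψ : X.presheaf.stalk η,
      σ η = ψ • (Submodule.Quotient.mk (L.presheaf.germ V η hη e) : Cyc.secFibre L η) :=
    fun η hη => exists_smul_mk_eq (IsLocalRing.maximalIdeal (X.presheaf.stalk η)) _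
      (span_germ_eq_top L hT η hη) (σ η)
  let g : (η : X) → X.residueField η := fun η =>
    if hη : η ∈ V then (X.residue η).hom (Classical.choose (hex η hη)) else 1
  have hgV : ∀ (η : X) (hη : η ∈ V), g η = (X.residue η).hom (Classical.choose (hex η hη)) := by
    intro η hη
    simp only [g, dif_pos hη]
  -- downstairs
  have hdown : Cyc.secDivFun δ L ξ (σ ξ) (p x') = Cyc.divFun δ ξ (g ξ) (p x') ∧ g ξ ≠ 0 := by
    by_cases hξV : ξ ∈ V
    · have hne : σ ξ ≠ 0 := hσ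
      unfold Cyc.secDivFun Cyc.divFun
      by_cases h : ξ ⤳ p x' ∧ δ (p x') + 1 = δ ξ
      · rw [dif_pos h, dif_pos h, hgV ξ hξV]
        have := secOrdAt_eq_of_triv L hL hT (p x') ξ h.1 hxV hξV
          (krullDimLE_one_locQuot δ hX.2.2 (p x') ξ h.1 h.2) (σ ξ) hne _
          (Classical.choose_spec (hex ξ hξV))
        exact ⟨this.1, this.2⟩
      · rw [dif_neg h, dif_neg h, hgV ξ hξV]
        refine ⟨rfl, ?_⟩
        intro h0
        have hmem : Classical.choose (hex ξ hξV) ∈ IsLocalRing.maximalIdeal (X.presheaf.stalk ξ) :=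
          (IsLocalRing.residue_eq_zero_iff _).mp h0
        apply hne
        rw [Classical.choose_spec (hex ξ hξV), ← Submodule.Quotient.mk_smul,
          Submodule.Quotient.mk_eq_zero]
        exact Submodule.smul_mem_smul hmem trivial
    · have hns : ¬ (ξ ⤳ p x' ∧ δ (p x') + 1 = δ ξ) := fun h => hξV (h.1.mem_open V.2 hxV)
      unfold Cyc.secDivFun Cyc.divFun
      rw [dif_neg hns, dif_neg hns]
      refine ⟨rfl, ?_⟩
      simp only [g, dif_neg hξV]
      exact one_ne_zero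
  have hL1 : Cyc.pullFun p δ' δ c (Cyc.secDivFun δ L ξ (σ ξ)) x' =
      Cyc.pullFun p δ' δ c (Cyc.divFun δ ξ (g ξ)) x' := by
    rw [pullFun_eq, pullFun_eq, hdown.1]
  rw [hL1, pullFun_divFun p δ δ' hX hX' c hc ξ g hdown.2 x']
  apply finsum_congr
  intro ξ'
  by_cases hcond : p ξ' = ξ ∧ δ' ξ' = δ ξ + c
  swap
  · rw [if_neg hcond, if_neg hcond]
  rw [if_pos hcond, if_pos hcond]
  congr 1
  unfold Cyc.secDivFun Cyc.divFun
  by_cases hd : ξ' ⤳ x' ∧ δ' x' + 1 = δ' ξ'
  swap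
  · rw [dif_neg hd, dif_neg hd]
  rw [dif_pos hd, dif_pos hd]
  have hsp : p ξ' ⤳ p x' := p.base.hom.map_specializes hd.1
  have hξ'V : p ξ' ∈ V := hsp.mem_open V.2 hxV
  have hσ' : σ (p ξ') ≠ 0 := by rw [hcond.1]; exact hσ
  have hspec := Classical.choose_spec (hex (p ξ') hξ'V)
  have e' := pullFibre_eq p L hT ξ' hξ'V (σ (p ξ')) _ hspec
  have hK' : Ring.KrullDimLE 1 (Cyc.LocQuot x' ξ' hd.1) :=
    krullDimLE_one_locQuot δ' hX'.2.2 x' ξ' hd.1 hd.2
  haveI : IsDomain (Cyc.LocQuot x' ξ' hd.1) := Ideal.Quotient.isDomain _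
  haveI := hK'
  haveI : IsFractionRing (Cyc.LocQuot x' ξ' hd.1) (X'.residueField ξ') :=
    Groth.Agent.Lib.Helper18.LocStalk.isFractionRing_locQuot _ _ _
  have hD1 := secOrdAt_eq_of_generators' hL' x' ξ' hd.1 hK'
    (((Scheme.Modules.pullback p).obj L).presheaf.germ (p ⁻¹ᵁ V) x' hxV (etaSec p L V e))
    (span_germ_etaSec_eq_top p L hT x' hxV)
    (((Scheme.Modules.pullback p).obj L).presheaf.germ (p ⁻¹ᵁ V) ξ' hξ'V (etaSec p L V e)) 1
    (by rw [one_smul]; exact (TopCat.Presheaf.germ_stalkSpecializes_apply _ _ _ _).symm)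
    (pullFibre p L ξ' (σ (p ξ'))) (pullFibre_ne_zero p L hL ξ' _ hσ') _ e'
  rw [hD1.1, map_one]
  have hres : (X'.residue ξ').hom ((p.stalkMap ξ').hom (Classical.choose (hex (p ξ') hξ'V))) =
      (p.residueFieldMap ξ').hom ((X.residue (p ξ')).hom (Classical.choose (hex (p ξ') hξ'V))) := by
    have := congrArg (fun k => k.hom (Classical.choose (hex (p ξ') hξ'V)))
      (Scheme.residue_residueFieldMap p ξ')
    exact this.symm
  rw [hres, hgV (p ξ') hξ'V]
  have h1 : Cyc.ordAt x' ξ' hd.1 (1 : X'.residueField ξ') = 0 := by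
    unfold Cyc.ordAt
    exact ordFrac_one
  rw [h1, add_zero]

end Groth.Agent.Lib.Helper18.FlatPullSec
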