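import Mathlib
import Groth.Prelude.Def_C1
import Groth.Prelude.Def_Bivar
import Groth.Agent.Lib.Helper18.FlatPullSec
import Groth.Agent.Lib.Helper18.FlatPullRat
import Groth.Agent.Lib.Helper18.PullSec2

/-!
# Capping with `c_1` commutes with flat pullback
-/

set_option autoImplicit false
set_option linter.style.haveILetI false
universe u
open CategoryTheory AlgebraicGeometry TopologicalSpace Topology

namespace Groth.Agent.Lib.Helper18.FlatPullC1

open Groth.Agent.Lib.Helper18.FlatPullDiv Groth.Agent.Lib.Helper18.PullSec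

variable {X' X : Scheme.{u}} (p : X' ⟶ X) [Flat p]

theorem pullFun_ne_zero (δ : X → ℤ) (δ' : X' → ℤ) (c : ℤ) (α : X → ℤ) (ξ' : X')
    (h : Cyc.pullFun p δ' δ c α ξ' ≠ 0) : δ' ξ' = δ (p ξ') + c ∧ α (p ξ') ≠ 0 := by
  rw [pullFun_eq] at h
  by_cases hd : δ' ξ' = δ (p ξ') + c
  · rw [if_pos hd] at h
    exact ⟨hd, left_ne_zero_of_mul h⟩
  · rw [if_neg hd] at h
    exact absurd rfl h

/-- the flat pullback of a cycle, as a cycle -/
noncomputable def pullCycle (δ : X → ℤ) (δ' : X' → ℤ) (hX' : Cyc.IsSetup X' δ') (c : ℤ)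
    (hc : ∀ x' : X', (∀ y, p y = p x' → y ⤳ x' → y = x') → δ' x' = δ (p x') + c)
    (α : AlgebraicCycle X ℤ) : AlgebraicCycle X' ℤ where
  toFun := Cyc.pullFun p δ' δ c ⇑α
  supportWithinDomain' := Set.subset_univ _
  supportLocallyFiniteWithinDomain' := fun x' _ => by
    haveI : IsLocallyNoetherian X' := hX'.1
    obtain ⟨t, ht, hfin⟩ := α.supportLocallyFiniteWithinDomain' (p x') (Set.mem_univ _)
    obtain ⟨V, U', hV, hU', hU'V, hVU, hxU'⟩ := FlatPullRat.exists_affine_pair p x' (interior t)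
      isOpen_interior (mem_interior_iff_mem_nhds.mpr ht)
    refine ⟨U', U'.2.mem_nhds hxU', ?_⟩
    have hT : (⋃ ξ ∈ t ∩ Function.support ⇑α,
        {ξ' : X' | ξ' ∈ U' ∧ p ξ' = ξ ∧ ∀ y, p y = p ξ' → y ⤳ ξ' → y = ξ'}).Finite :=
      hfin.biUnion (fun ξ _ =>
        Groth.Agent.Lib.Helper18.FibreFin.finite_fibre_generic p hU' hV hU'V ξ)
    refine hT.subset ?_
    rintro ξ' ⟨hξ'U, hξ'⟩
    obtain ⟨hd, hα⟩ := pullFun_ne_zero p δ δ' c ⇑α ξ' hξ'
    refine Set.mem_biUnion (x := p ξ') ⟨interior_subset (hVU (hU'V hξ'U)), hα⟩ ⟨hξ'U, rfl, ?_⟩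
    exact (Groth.Agent.Lib.Helper18.FlatShift.delta_le_of_shift p δ δ' hX'.2.2 c hc ξ').2 hd

theorem c1Cap_pull (δ : X → ℤ) (δ' : X' → ℤ) (hX : Cyc.IsSetup X δ)
    (hX' : Cyc.IsSetup X' δ') (c : ℤ)
    (hc : ∀ x' : X', (∀ y, p y = p x' → y ⤳ x' → y = x') → δ' x' = δ (p x') + c)
    (L : X.Modules) (hL : PicF.IsInvertible L) (k : ℤ) (α : AlgebraicCycle X ℤ)
    (hα : α ∈ Cyc.Zk X δ k) (v : (ξ : X) → Cyc.secFibre L ξ) (hv : ∀ ξ, v ξ ≠ 0)
    (u : (ξ : X') → Cyc.secFibre ((Scheme.Modules.pullback p).obj L) ξ) (hu : ∀ ξ, u ξ ≠ 0)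
    (γ₁ γ₂ : AlgebraicCycle X' ℤ)
    (h₁ : ⇑γ₁ = Cyc.pullFun p δ' δ c (Cyc.c1CapFun δ L ⇑α v))
    (h₂ : ⇑γ₂ = Cyc.c1CapFun δ' ((Scheme.Modules.pullback p).obj L)
      (Cyc.pullFun p δ' δ c ⇑α) u) :
    Cyc.RatEquiv δ' (k + c - 1) γ₁ γ₂ := by
  classical
  have hL' : PicF.IsInvertible ((Scheme.Modules.pullback p).obj L) :=
    Groth.Agent.Lib.Helper29.QCoh.isInvertible_pullback p hL
  let α' : AlgebraicCycle X' ℤ := pullCycle p δ δ' hX' c hc α
  have hα'f : ⇑α' = Cyc.pullFun p δ' δ c ⇑α := rfl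
  have hα'Z : α' ∈ Cyc.Zk X' δ' (k + c - 1 + 1) := by
    intro ξ' hξ'
    by_contra hne
    have hne' : Cyc.pullFun p δ' δ c ⇑α ξ' ≠ 0 := hne
    obtain ⟨hd, hαne⟩ := pullFun_ne_zero p δ δ' c ⇑α ξ' hne'
    have : δ (p ξ') = k := by
      by_contra hk
      exact hαne (hα (p ξ') hk)
    apply hξ'
    omega
  let u₀ : (ξ' : X') → Cyc.secFibre ((Scheme.Modules.pullback p).obj L) ξ' := fun ξ' =>
    pullFibre p L ξ' (v (p ξ'))
  have hu₀ : ∀ ξ', u₀ ξ' ≠ 0 := fun ξ' => pullFibre_ne_zero p L hL ξ' _ (hv (p ξ'))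
  have h₁' : ⇑γ₁ = Cyc.c1CapFun δ' ((Scheme.Modules.pullback p).obj L) ⇑α' u₀ := by
    funext x'
    rw [h₁, hα'f, pullFun_eq]
    unfold Cyc.c1CapFun
    -- step 1: linearity
    have h1 : (if δ' x' = δ (p x') + c then
        (∑ᶠ ξ : X, α ξ * Cyc.secDivFun δ L ξ (v ξ) (p x')) * mult p x' else 0) =
        ∑ᶠ ξ : X, α ξ * Cyc.pullFun p δ' δ c (Cyc.secDivFun δ L ξ (v ξ)) x' := by
      by_cases hδ : δ' x' = δ (p x') + c
      · rw [if_pos hδ, finsum_mul]
        apply finsum_congr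
        intro ξ
        rw [pullFun_eq, if_pos hδ, mul_assoc]
      · rw [if_neg hδ]
        symm
        apply finsum_eq_zero_of_forall_eq_zero
        intro ξ
        rw [pullFun_eq, if_neg hδ, mul_zero]
    rw [h1]
    -- step 2: the pullback formula
    let K : X × X' → ℤ := fun ab =>
      if p ab.2 = ab.1 ∧ δ' ab.2 = δ ab.1 + c then
        α ab.1 * (mult p ab.2 * Cyc.secDivFun δ' ((Scheme.Modules.pullback p).obj L) ab.2
          (u₀ ab.2) x')
      else 0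
    have h2 : ∀ ξ : X, α ξ * Cyc.pullFun p δ' δ c (Cyc.secDivFun δ L ξ (v ξ)) x' =
        ∑ᶠ ξ' : X', K (ξ, ξ') := by
      intro ξ
      rw [FlatPullSec.pullFun_secDivFun p L δ δ' hX hX' c hc hL ξ v (hv ξ) x', mul_finsum]
      apply finsum_congr
      intro ξ'
      simp only [K]
      by_cases hcond : p ξ' = ξ ∧ δ' ξ' = δ ξ + c
      · rw [if_pos hcond, if_pos hcond]
      · rw [if_neg hcond, if_neg hcond, mul_zero]
    simp_rw [h2]
    -- step 3: reorganise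
    have hKsupp : ∀ ab : X × X', K ab ≠ 0 →
        ab.1 = p ab.2 ∧ ab.2 ⤳ x' ∧ α' ab.2 ≠ 0 := by
      intro ab hab
      simp only [K] at hab
      by_cases hcond : p ab.2 = ab.1 ∧ δ' ab.2 = δ ab.1 + c
      · rw [if_pos hcond] at hab
        have hα0 := left_ne_zero_of_mul hab
        have hm0 := left_ne_zero_of_mul (right_ne_zero_of_mul hab)
        have hs0 := right_ne_zero_of_mul (right_ne_zero_of_mul hab)
        refine ⟨hcond.1.symm, ?_, ?_⟩
        · by_contra hns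
          apply hs0
          unfold Cyc.secDivFun
          rw [dif_neg (fun hh => hns hh.1)]
        · change Cyc.pullFun p δ' δ c ⇑α ab.2 ≠ 0
          rw [pullFun_eq, if_pos (by rw [hcond.1]; exact hcond.2), hcond.1]
          exact mul_ne_zero hα0 hm0
      · rw [if_neg hcond] at hab
        exact absurd rfl hab
    have hKfin : (Function.support K).Finite := by
      refine ((Bivar.finite_support_specializes α' x').image
        (fun ξ' : X' => ((p ξ', ξ') : X × X'))).subset ?_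
      intro ab hab
      obtain ⟨h1, h2, h3⟩ := hKsupp ab hab
      exact ⟨ab.2, ⟨h2, h3⟩, Prod.ext h1.symm rfl⟩
    rw [← finsum_curry K hKfin,
      finsum_eq_finsum_comp (fun ξ' : X' => ((p ξ', ξ') : X × X'))
        (fun a b hab => congrArg Prod.snd hab) K (by
          intro ab hab
          obtain ⟨h1, -, -⟩ := hKsupp ab hab
          exact ⟨ab.2, Prod.ext h1.symm rfl⟩)]
    apply finsum_congr
    intro ξ'
    simp only [K]
    rw [pullFun_eq]
    by_cases hd : δ' ξ' = δ (p ξ') + c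
    · rw [if_pos ⟨trivial, hd⟩, if_pos hd, mul_assoc]
    · rw [if_neg (fun hh : True ∧ δ' ξ' = δ (p ξ') + c => hd hh.2), if_neg hd, zero_mul]
  exact Groth.Agent.Lib.Helper18.C1Indep.c1Cap_ratEquiv δ' hX' hL' (k + c - 1) α' hα'Z u₀ u hu₀ hu
    γ₁ γ₂ h₁' h₂

end Groth.Agent.Lib.Helper18.FlatPullC1
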