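import Mathlib
import Groth.Prelude.Def_Cyc
import Groth.Agent.Lib.Helper18.LocStalk2
import Groth.Agent.Lib.Helper21.DimFun1

set_option autoImplicit false
set_option linter.style.haveILetI false
set_option linter.unusedSectionVars false

/-! Key formula (S1920), part 6: the local rings `O_{closure η, ξ}` for `η ⤳ ξ ⤳ x`. -/

universe u
open CategoryTheory AlgebraicGeometry TopologicalSpace

namespace Groth.Agent.Lib.Helper18.KF6

open Groth.Agent.Lib.Helper18.LocStalk Groth.Agent.Lib.Helper18.DivPull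

variable {X : Scheme.{u}}

section Inst

variable (x ξ : X) (h : ξ ⤳ x)

instance isPrime_ker : (RingHom.ker (Cyc.specMap x ξ h)).IsPrime := RingHom.ker_isPrime _

instance isDomain_locQuot : IsDomain (Cyc.LocQuot x ξ h) := Ideal.Quotient.isDomain _

instance isLocalRing_locQuot : IsLocalRing (Cyc.LocQuot x ξ h) :=
  .of_surjective' (Ideal.Quotient.mk (RingHom.ker (Cyc.specMap x ξ h))) Ideal.Quotient.mk_surjective

instance isNoetherianRing_locQuot [IsLocallyNoetherian X] : IsNoetherianRing (Cyc.LocQuot x ξ h) :=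
  Ideal.Quotient.isNoetherianRing _

instance isFractionRing_locQuot' : IsFractionRing (Cyc.LocQuot x ξ h) (X.residueField ξ) :=
  isFractionRing_locQuot x ξ h

/-- the residue map `O_{closure η, ξ} → κ(ξ)` -/
noncomputable def rho : Cyc.LocQuot x ξ h →+* X.residueField x :=
  Ideal.Quotient.lift (RingHom.ker (Cyc.specMap x ξ h)) (X.residue x).hom (by
    intro a ha
    rw [mem_ker_specMap_iff] at ha
    have : ¬ IsUnit a := fun hu => ha (hu.map _)
    exact (IsLocalRing.residue_eq_zero_iff _).mpr this)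

theorem rho_mk (a : X.presheaf.stalk x) :
    rho x ξ h (Ideal.Quotient.mk _ a) = (X.residue x).hom a := rfl

instance isLocalHom_rho : IsLocalHom (rho x ξ h) := by
  constructor
  intro a ha
  obtain ⟨a, rfl⟩ := Ideal.Quotient.mk_surjective a
  rw [rho_mk] at ha
  have hu : IsUnit a := by
    by_contra hnu
    have := (IsLocalRing.residue_eq_zero_iff _).mpr hnu
    exact ha.ne_zero this
  exact hu.map _

theorem rho_surjective : Function.Surjective (rho x ξ h) := by
  intro z
  obtain ⟨a, rfl⟩ := X.residue_surjective x z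
  exact ⟨Ideal.Quotient.mk _ a, rfl⟩

end Inst

section Three

variable {x ξ η : X} (h : η ⤳ ξ) (h' : ξ ⤳ x)

theorem specMap_comp (a : X.presheaf.stalk x) :
    Cyc.specMap ξ η h ((X.presheaf.stalkSpecializes h').hom a) = Cyc.specMap x η (h.trans h') a := by
  unfold Cyc.specMap
  rw [CommRingCat.hom_comp, CommRingCat.hom_comp, RingHom.comp_apply, RingHom.comp_apply]
  congr 1
  exact TopCat.Presheaf.stalkSpecializes_comp_apply X.presheaf h h' a

/-- the map `O_{closure η, x} → O_{closure η, ξ}` -/
noncomputable def iota : Cyc.LocQuot x η (h.trans h') →+* Cyc.LocQuot ξ η h :=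
  Ideal.Quotient.lift _ ((Ideal.Quotient.mk _).comp (X.presheaf.stalkSpecializes h').hom) (by
    intro a ha
    rw [RingHom.comp_apply, Ideal.Quotient.eq_zero_iff_mem, RingHom.mem_ker, specMap_comp]
    exact RingHom.mem_ker.mp ha)

theorem iota_mk (a : X.presheaf.stalk x) :
    iota h h' (Ideal.Quotient.mk _ a) =
      Ideal.Quotient.mk _ ((X.presheaf.stalkSpecializes h').hom a) := rfl

theorem algebraMap_iota (a : Cyc.LocQuot x η (h.trans h')) :
    algebraMap (Cyc.LocQuot ξ η h) (X.residueField η) (iota h h' a) =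
      algebraMap (Cyc.LocQuot x η (h.trans h')) (X.residueField η) a := by
  obtain ⟨a, rfl⟩ := Ideal.Quotient.mk_surjective a
  rw [iota_mk, algebraMap_locQuot_mk, algebraMap_locQuot_mk, specMap_comp]

theorem ker_le_ker : RingHom.ker (Cyc.specMap x η (h.trans h')) ≤ RingHom.ker (Cyc.specMap x ξ h') := by
  intro a ha
  rw [mem_ker_specMap_iff] at ha ⊢
  intro hu
  apply ha
  have := hu.map (X.presheaf.stalkSpecializes h).hom
  have e : (X.presheaf.stalkSpecializes h).hom ((X.presheaf.stalkSpecializes h').hom a) =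
      (X.presheaf.stalkSpecializes (h.trans h')).hom a :=
    TopCat.Presheaf.stalkSpecializes_comp_apply X.presheaf h h' a
  rwa [e] at this

/-- the map `O_{closure η, x} → O_{closure ξ, x}` -/
noncomputable def pi : Cyc.LocQuot x η (h.trans h') →+* Cyc.LocQuot x ξ h' :=
  Ideal.Quotient.factor (ker_le_ker h h')

theorem pi_mk (a : X.presheaf.stalk x) :
    pi h h' (Ideal.Quotient.mk _ a) = Ideal.Quotient.mk _ a := rfl

theorem pi_surjective : Function.Surjective (pi h h') :=
  Ideal.Quotient.factor_surjective (ker_le_ker h h')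

theorem mem_ker_pi (a : X.presheaf.stalk x) :
    Ideal.Quotient.mk _ a ∈ RingHom.ker (pi h h') ↔ a ∈ RingHom.ker (Cyc.specMap x ξ h') := by
  rw [RingHom.mem_ker, pi_mk, Ideal.Quotient.eq_zero_iff_mem]

theorem rho_iota (a : Cyc.LocQuot x η (h.trans h')) :
    rho ξ η h (iota h h' a) = algebraMap (Cyc.LocQuot x ξ h') (X.residueField ξ) (pi h h' a) := by
  obtain ⟨a, rfl⟩ := Ideal.Quotient.mk_surjective a
  rw [iota_mk, rho_mk, pi_mk, algebraMap_locQuot_mk]
  rfl

instance isPrime_ker_pi : (RingHom.ker (pi h h')).IsPrime := RingHom.ker_isPrime _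

/-- `O_{closure η, ξ}` is the localisation of `O_{closure η, x}` at the prime of `ξ` -/
theorem isLocalization_iota :
    @IsLocalization.AtPrime _ _ (Cyc.LocQuot ξ η h) _ (iota h h').toAlgebra
      (RingHom.ker (pi h h')) (isPrime_ker_pi h h') := by
  letI := (iota h h').toAlgebra
  letI := (X.presheaf.stalkSpecializes h').hom.toAlgebra
  haveI := isLocalization_stalkSpecializes x ξ h'
  have halg : ∀ a, algebraMap (Cyc.LocQuot x η (h.trans h')) (Cyc.LocQuot ξ η h) a = iota h h' a :=
    fun a => rfl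
  have hinj : Function.Injective (iota h h') := by
    intro a b hab
    apply algebraMap_locQuot_injective x η (h.trans h')
    rw [← algebraMap_iota h h', ← algebraMap_iota h h', hab]
  refine (isLocalization_iff _ _).mpr ⟨?_, ?_, ?_⟩
  · rintro ⟨a, ha⟩
    obtain ⟨a, rfl⟩ := Ideal.Quotient.mk_surjective a
    rw [halg, iota_mk]
    have ha' : a ∉ RingHom.ker (Cyc.specMap x ξ h') := fun hm => ha ((mem_ker_pi h h' a).mpr hm)
    rw [mem_ker_specMap_iff, not_not] at ha'
    exact ha'.map _
  · intro z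
    obtain ⟨z, rfl⟩ := Ideal.Quotient.mk_surjective z
    obtain ⟨⟨a, s⟩, hs⟩ := IsLocalization.surj (RingHom.ker (Cyc.specMap x ξ h')).primeCompl z
    refine ⟨⟨Ideal.Quotient.mk _ a, ⟨Ideal.Quotient.mk _ s.1, ?_⟩⟩, ?_⟩
    · intro hm
      exact s.2 ((mem_ker_pi h h' s.1).mp hm)
    · show Ideal.Quotient.mk _ z * iota h h' (Ideal.Quotient.mk _ s.1) =
        iota h h' (Ideal.Quotient.mk _ a)
      rw [iota_mk, iota_mk, ← map_mul]
      congr 1
  · intro a b hab
    exact ⟨1, by rw [hinj hab]⟩

end Three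

end Groth.Agent.Lib.Helper18.KF6
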