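import Mathlib
import Groth.Agent.Lib.Helper18.KF6

set_option autoImplicit false
set_option linter.style.haveILetI false
set_option linter.unusedSectionVars false

/-! Key formula (S1920), part 7: points between `η` and `x` versus primes of `O_{closure η, x}`. -/

universe u
open CategoryTheory AlgebraicGeometry TopologicalSpace

namespace Groth.Agent.Lib.Helper18.KF7

open Groth.Agent.Lib.Helper18.LocStalk Groth.Agent.Lib.Helper18.DivPull
  Groth.Agent.Lib.Helper18.KF6

variable {X : Scheme.{u}} (δ : X → ℤ) (hδ : Cyc.IsDimFun X δ)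

include hδ in
theorem dim_locQuot_eq_one (ξ η : X) (h : η ⤳ ξ) (hd : δ ξ + 1 = δ η) :
    ringKrullDim (Cyc.LocQuot ξ η h) = 1 := by
  rw [Groth.Agent.Lib.Helper21.DimFun.ringKrullDim_locQuot δ hδ ξ η h]
  have : (δ η - δ ξ).toNat = 1 := by omega
  rw [this]; rfl

include hδ in
theorem dim_locQuot_eq_two (x η : X) (h : η ⤳ x) (hd : δ x + 2 = δ η) :
    ringKrullDim (Cyc.LocQuot x η h) = 2 := by
  rw [Groth.Agent.Lib.Helper21.DimFun.ringKrullDim_locQuot δ hδ x η h]
  have : (δ η - δ x).toNat = 2 := by omega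
  rw [this]; rfl

variable {x ξ η : X}

/-- the prime of `O_{closure η, x}` attached to `ξ` -/
noncomputable def qOf (h : η ⤳ ξ) (h' : ξ ⤳ x) : PrimeSpectrum (Cyc.LocQuot x η (h.trans h')) :=
  ⟨RingHom.ker (pi h h'), isPrime_ker_pi h h'⟩

include hδ in
theorem height_qOf (h : η ⤳ ξ) (h' : ξ ⤳ x) :
    (qOf h h').asIdeal.height = ((δ η - δ ξ).toNat : ℕ∞) := by
  letI := (iota h h').toAlgebra
  haveI := isLocalization_iota h h'
  have h1 := IsLocalization.AtPrime.ringKrullDim_eq_height (RingHom.ker (pi h h'))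
    (Cyc.LocQuot ξ η h)
  rw [Groth.Agent.Lib.Helper21.DimFun.ringKrullDim_locQuot δ hδ ξ η h] at h1
  have h2 : (((δ η - δ ξ).toNat : ℕ∞) : WithBot ℕ∞) = ((RingHom.ker (pi h h')).height : WithBot ℕ∞) := by
    rw [← h1]; rfl
  exact (WithBot.coe_injective h2).symm

theorem comap_qOf (h : η ⤳ ξ) (h' : ξ ⤳ x) :
    (qOf h h').asIdeal.comap (Ideal.Quotient.mk (RingHom.ker (Cyc.specMap x η (h.trans h')))) =
      RingHom.ker (Cyc.specMap x ξ h') := by
  ext a
  rw [Ideal.mem_comap]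
  exact mem_ker_pi h h' a


section Bij

variable (x η : X) (hx : η ⤳ x)

/-- the points strictly between `η` and `x`, of codimension one in `closure η` -/
def Sx : Set X := {ξ : X | η ⤳ ξ ∧ ξ ⤳ x ∧ δ ξ + 1 = δ η}

open Classical in
/-- the map from points to primes -/
noncomputable def toPrime (ξ : X) : PrimeSpectrum (Cyc.LocQuot x η hx) :=
  if hh : η ⤳ ξ ∧ ξ ⤳ x then qOf hh.1 hh.2 else IsLocalRing.closedPoint _

theorem toPrime_eq {ξ : X} (h : η ⤳ ξ) (h' : ξ ⤳ x) : toPrime x η hx ξ = qOf h h' := by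
  unfold toPrime
  rw [dif_pos ⟨h, h'⟩]

include hδ in
theorem bijOn_toPrime :
    Set.BijOn (toPrime x η hx) (Sx δ x η)
      {q : PrimeSpectrum (Cyc.LocQuot x η hx) | q.asIdeal.height = 1} := by
  refine ⟨?_, ?_, ?_⟩
  · rintro ξ ⟨h, h', hd⟩
    rw [toPrime_eq x η hx h h']
    show (qOf h h').asIdeal.height = 1
    rw [height_qOf δ hδ h h']
    have : (δ η - δ ξ).toNat = 1 := by omega
    rw [this]; rfl
  · rintro ξ ⟨h, h', hd⟩ ξ' ⟨k, k', kd⟩ he
    rw [toPrime_eq x η hx h h', toPrime_eq x η hx k k'] at he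
    have h1 := comap_qOf h h'
    have h2 := comap_qOf k k'
    rw [he] at h1
    have h3 : RingHom.ker (Cyc.specMap x ξ h') = RingHom.ker (Cyc.specMap x ξ' k') :=
      h1.symm.trans h2
    have e1 := fromSpecStalk_ker_specMap x ξ h'
    have e2 := fromSpecStalk_ker_specMap x ξ' k'
    rw [← e1, ← e2]
    congr 1
    exact PrimeSpectrum.ext h3
  · intro q hq
    have hq1 : q.asIdeal.height = 1 := hq
    let p : PrimeSpectrum (X.presheaf.stalk x) :=
      ⟨q.asIdeal.comap (Ideal.Quotient.mk (RingHom.ker (Cyc.specMap x η hx))),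
        Ideal.comap_isPrime _ _⟩
    set ξ := X.fromSpecStalk x p with hξ
    have h' : ξ ⤳ x := fromSpecStalk_specializes x p
    have hp := eq_ker_specMap_of_fromSpecStalk_eq x ξ h' p rfl
    have hpη : (⟨RingHom.ker (Cyc.specMap x η hx), RingHom.ker_isPrime _⟩ :
        PrimeSpectrum (X.presheaf.stalk x)) ≤ p := by
      intro a ha
      show Ideal.Quotient.mk _ a ∈ q.asIdeal
      rw [Ideal.Quotient.eq_zero_iff_mem.mpr ha]
      exact zero_mem _
    have h : η ⤳ ξ := by
      have h1 := (PrimeSpectrum.le_iff_specializes _ _).mp hpη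
      have h2 := h1.map (X.fromSpecStalk x).continuous
      rwa [fromSpecStalk_ker_specMap x η hx] at h2
    have hq_eq : toPrime x η hx ξ = q := by
      rw [toPrime_eq x η hx h h']
      apply PrimeSpectrum.ext
      ext a
      obtain ⟨a, rfl⟩ := Ideal.Quotient.mk_surjective a
      show Ideal.Quotient.mk _ a ∈ RingHom.ker (pi h h') ↔ _
      rw [mem_ker_pi]
      have : RingHom.ker (Cyc.specMap x ξ h') = p.asIdeal := (congrArg PrimeSpectrum.asIdeal hp).symm
      rw [this]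
      rfl
    refine ⟨ξ, ⟨h, h', ?_⟩, hq_eq⟩
    have h4 := height_qOf δ hδ h h'
    rw [← toPrime_eq x η hx h h', hq_eq, hq1] at h4
    have h5 : (δ η - δ ξ).toNat = 1 := by exact_mod_cast h4.symm
    omega

include hδ in
theorem finsum_points_eq_finsum_primes (g : PrimeSpectrum (Cyc.LocQuot x η hx) → ℤ) :
    ∑ᶠ ξ ∈ Sx δ x η, g (toPrime x η hx ξ) =
      ∑ᶠ q ∈ {q : PrimeSpectrum (Cyc.LocQuot x η hx) | q.asIdeal.height = 1}, g q :=
  finsum_mem_eq_of_bijOn (toPrime x η hx) (bijOn_toPrime δ hδ x η hx) (fun _ _ => rfl)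

end Bij

end Groth.Agent.Lib.Helper18.KF7
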