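import Mathlib
import Groth.Prelude.Def_C1
import Groth.Agent.Lib.Helper18.C1Add3
import Groth.Agent.Lib.Helper18.KF7
import Groth.Agent.Lib.Helper18.KeyS

set_option autoImplicit false
set_option linter.style.haveILetI false
set_option linter.unusedSectionVars false

/-! Key formula (S1920), part 8: coefficients of rational sections with respect to generators. -/

universe u
open CategoryTheory AlgebraicGeometry TopologicalSpace

namespace Groth.Agent.Lib.Helper18.KF8

open Groth.Agent.Lib.Helper18.InvStalk Groth.Agent.Lib.Helper18.LocStalk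
  Groth.Agent.Lib.Helper18.DivPull Groth.Agent.Lib.Helper18.KF6 Groth.Agent.Lib.Helper18.C1Add

variable {X : Scheme.{u}} {L : X.Modules}

/-- the coefficient in `κ(ξ)` of `s ∈ L(ξ)` with respect to a generator `g` of `L_ξ` -/
noncomputable def coef0 (ξ : X) (g : L.presheaf.stalk ξ)
    (hg : Submodule.span (X.presheaf.stalk ξ) {g} = ⊤) (s : Cyc.secFibre L ξ) : X.residueField ξ :=
  (X.residue ξ).hom (Classical.choose
    (exists_smul_mk_eq (IsLocalRing.maximalIdeal (X.presheaf.stalk ξ)) g hg s))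

theorem coef0_spec (ξ : X) (g : L.presheaf.stalk ξ)
    (hg : Submodule.span (X.presheaf.stalk ξ) {g} = ⊤) (s : Cyc.secFibre L ξ) :
    s = (Classical.choose
      (exists_smul_mk_eq (IsLocalRing.maximalIdeal (X.presheaf.stalk ξ)) g hg s)) •
        (Submodule.Quotient.mk g : Cyc.secFibre L ξ) :=
  Classical.choose_spec (exists_smul_mk_eq (IsLocalRing.maximalIdeal (X.presheaf.stalk ξ)) g hg s)

theorem coef0_eq (hL : PicF.IsInvertible L) (ξ : X) (g : L.presheaf.stalk ξ)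
    (hg : Submodule.span (X.presheaf.stalk ξ) {g} = ⊤) (s : Cyc.secFibre L ξ)
    (ψ : X.presheaf.stalk ξ) (e : s = ψ • (Submodule.Quotient.mk g : Cyc.secFibre L ξ)) :
    coef0 ξ g hg s = (X.residue ξ).hom ψ := by
  have h1 := coef0_spec ξ g hg s
  set ψ₀ := Classical.choose
    (exists_smul_mk_eq (IsLocalRing.maximalIdeal (X.presheaf.stalk ξ)) g hg s) with hψ₀
  have h2 : (ψ₀ - ψ) • (Submodule.Quotient.mk g : Cyc.secFibre L ξ) = 0 := by
    rw [sub_smul, ← h1, ← e, sub_self]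
  have hmem := mem_of_smul_mk_eq_zero (IsLocalRing.maximalIdeal (X.presheaf.stalk ξ)) g hg
    (free_of_generator hL ξ g hg) _ h2
  have := (IsLocalRing.residue_eq_zero_iff _).mpr hmem
  rw [map_sub, sub_eq_zero] at this
  exact this

theorem coef0_ne_zero (ξ : X) (g : L.presheaf.stalk ξ)
    (hg : Submodule.span (X.presheaf.stalk ξ) {g} = ⊤) (s : Cyc.secFibre L ξ) (hs : s ≠ 0) :
    coef0 ξ g hg s ≠ 0 := by
  intro h0
  have hmem : Classical.choose
      (exists_smul_mk_eq (IsLocalRing.maximalIdeal (X.presheaf.stalk ξ)) g hg s) ∈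
      IsLocalRing.maximalIdeal (X.presheaf.stalk ξ) :=
    (IsLocalRing.residue_eq_zero_iff _).mp h0
  apply hs
  rw [coef0_spec ξ g hg s, ← Submodule.Quotient.mk_smul, Submodule.Quotient.mk_eq_zero]
  exact Submodule.smul_mem_smul hmem trivial

theorem coef0_congr (ξ : X) {g g' : L.presheaf.stalk ξ} (e : g = g')
    (hg : Submodule.span (X.presheaf.stalk ξ) {g} = ⊤) (s : Cyc.secFibre L ξ) :
    coef0 ξ g hg s = coef0 ξ g' (e ▸ hg) s := by
  subst e; rfl

/-- change of generator -/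
theorem coef0_smul (hL : PicF.IsInvertible L) (ξ : X) (g₁ g₂ : L.presheaf.stalk ξ)
    (hg₁ : Submodule.span (X.presheaf.stalk ξ) {g₁} = ⊤)
    (hg₂ : Submodule.span (X.presheaf.stalk ξ) {g₂} = ⊤) (c : X.presheaf.stalk ξ)
    (e : g₂ = c • g₁) (s : Cyc.secFibre L ξ) :
    coef0 ξ g₁ hg₁ s = coef0 ξ g₂ hg₂ s * (X.residue ξ).hom c := by
  have h2 := coef0_spec ξ g₂ hg₂ s
  set ψ₂ := Classical.choose
    (exists_smul_mk_eq (IsLocalRing.maximalIdeal (X.presheaf.stalk ξ)) g₂ hg₂ s) with hψ₂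
  have h3 : s = (ψ₂ * c) • (Submodule.Quotient.mk g₁ : Cyc.secFibre L ξ) := by
    rw [h2, e, Submodule.Quotient.mk_smul, smul_smul]
  rw [coef0_eq hL ξ g₁ hg₁ s _ h3, map_mul]
  rfl

/-- two generators differ by a unit -/
theorem exists_unit_smul (hL : PicF.IsInvertible L) (ξ : X) (g₁ g₂ : L.presheaf.stalk ξ)
    (hg₁ : Submodule.span (X.presheaf.stalk ξ) {g₁} = ⊤)
    (hg₂ : Submodule.span (X.presheaf.stalk ξ) {g₂} = ⊤) :
    ∃ c : (X.presheaf.stalk ξ)ˣ, g₂ = (c : X.presheaf.stalk ξ) • g₁ := by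
  have hm : g₂ ∈ Submodule.span (X.presheaf.stalk ξ) {g₁} := by rw [hg₁]; trivial
  obtain ⟨u, hu⟩ := Submodule.mem_span_singleton.mp hm
  have hm' : g₁ ∈ Submodule.span (X.presheaf.stalk ξ) {g₂} := by rw [hg₂]; trivial
  obtain ⟨v, hv⟩ := Submodule.mem_span_singleton.mp hm'
  have huv : v * u = 1 := by
    have h3 : (v * u - 1) • g₁ = 0 := by
      rw [sub_smul, mul_smul, hu, hv, one_smul, sub_self]
    exact sub_eq_zero.mp (free_of_generator hL ξ _ hg₁ _ h3)
  exact ⟨⟨u, v, by rw [mul_comm]; exact huv, huv⟩, hu.symm⟩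


theorem secOrdAt_eq_coef [IsLocallyNoetherian X] (hL : PicF.IsInvertible L) (x ξ : X) (h' : ξ ⤳ x)
    (hK : Ring.KrullDimLE 1 (Cyc.LocQuot x ξ h')) (e : L.presheaf.stalk x)
    (he : Submodule.span (X.presheaf.stalk x) {e} = ⊤) (s : Cyc.secFibre L ξ) (hs : s ≠ 0) :
    Cyc.secOrdAt L ξ x h' s =
      Cyc.ordAt x ξ h' (coef0 ξ (L.presheaf.stalkSpecializes h' e)
        (span_stalkSpecializes_eq_top hL h' e he) s) := by
  obtain ⟨k1, -, -⟩ := secOrdAt_eq_of_generators' hL x ξ h' hK e he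
    (L.presheaf.stalkSpecializes h' e) 1 (by rw [one_smul]) s hs _
    (coef0_spec ξ (L.presheaf.stalkSpecializes h' e) (span_stalkSpecializes_eq_top hL h' e he) s)
  rw [k1, map_one]
  have : Cyc.ordAt x ξ h' (1 : X.residueField ξ) = 0 := by
    unfold Cyc.ordAt
    exact Groth.Agent.Lib.Helper18.KeyS.ordFrac_one' _ _
  rw [this, add_zero]
  rfl

end Groth.Agent.Lib.Helper18.KF8
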