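import Mathlib
import Groth.Agent.Lib.Helper18.KF5
import Groth.Agent.Lib.Helper18.KF8

set_option autoImplicit false
set_option linter.style.haveILetI false
set_option linter.unusedSectionVars false

/-! Key formula (S1920), part 9: the rational function attached to a codimension one point of
`closure η`, and its independence of the generators. -/

universe u
open CategoryTheory AlgebraicGeometry TopologicalSpace

namespace Groth.Agent.Lib.Helper18.KF9

open Groth.Agent.Lib.Helper18.InvStalk Groth.Agent.Lib.Helper18.LocStalk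
  Groth.Agent.Lib.Helper18.DivPull Groth.Agent.Lib.Helper18.KF6 Groth.Agent.Lib.Helper18.KF7
  Groth.Agent.Lib.Helper18.KF8 Groth.Agent.Lib.Helper18.KF5

variable {X : Scheme.{u}} {L N : X.Modules} (hL : PicF.IsInvertible L) (hN : PicF.IsInvertible N)
  {η : X} (s : Cyc.secFibre L η) (t : Cyc.secFibre N η)
  (u : (ξ : X) → Cyc.secFibre N ξ) (v : (ξ : X) → Cyc.secFibre L ξ)

/-- the rational function on `closure ξ` attached to generators `g` of `L_ξ` and `g'` of `N_ξ` -/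
noncomputable def Fgen {ξ : X} (h : η ⤳ ξ) (g : L.presheaf.stalk ξ)
    (hg : Submodule.span (X.presheaf.stalk ξ) {g} = ⊤) (g' : N.presheaf.stalk ξ)
    (hg' : Submodule.span (X.presheaf.stalk ξ) {g'} = ⊤) : X.residueField ξ :=
  Fsym (rho ξ η h)
    (coef0 η (L.presheaf.stalkSpecializes h g) (span_stalkSpecializes_eq_top hL h g hg) s)
    (coef0 η (N.presheaf.stalkSpecializes h g') (span_stalkSpecializes_eq_top hN h g' hg') t)
    (coef0 ξ g' hg' (u ξ)) (coef0 ξ g hg (v ξ))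

variable (δ : X → ℤ) (hX : Cyc.IsSetup X δ)

include hX in
theorem Fgen_indep {ξ : X} (h : η ⤳ ξ) (hd : δ ξ + 1 = δ η) (hs : s ≠ 0) (ht : t ≠ 0)
    (hu : u ξ ≠ 0) (hv : v ξ ≠ 0) (g₁ g₂ : L.presheaf.stalk ξ)
    (hg₁ : Submodule.span (X.presheaf.stalk ξ) {g₁} = ⊤)
    (hg₂ : Submodule.span (X.presheaf.stalk ξ) {g₂} = ⊤) (g₁' g₂' : N.presheaf.stalk ξ)
    (hg₁' : Submodule.span (X.presheaf.stalk ξ) {g₁'} = ⊤)
    (hg₂' : Submodule.span (X.presheaf.stalk ξ) {g₂'} = ⊤) :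
    Fgen hL hN s t u v h g₁ hg₁ g₁' hg₁' = Fgen hL hN s t u v h g₂ hg₂ g₂' hg₂' := by
  haveI : IsLocallyNoetherian X := hX.1
  have hR := dim_locQuot_eq_one δ hX.2.2 ξ η h hd
  haveI : Ring.KrullDimLE 1 (Cyc.LocQuot ξ η h) := krullDimLE_one_locQuot δ hX.2.2 ξ η h hd
  obtain ⟨c₀, hc₀⟩ := exists_unit_smul hL ξ g₁ g₂ hg₁ hg₂
  obtain ⟨c₀', hc₀'⟩ := exists_unit_smul hN ξ g₁' g₂' hg₁' hg₂'
  let c : (Cyc.LocQuot ξ η h)ˣ := Units.map (Ideal.Quotient.mk _ : _ →+* Cyc.LocQuot ξ η h) c₀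
  let c' : (Cyc.LocQuot ξ η h)ˣ := Units.map (Ideal.Quotient.mk _ : _ →+* Cyc.LocQuot ξ η h) c₀'
  unfold Fgen
  refine Fsym_indep (rho ξ η h) hR c c' (coef0_ne_zero _ _ _ _ hs) (coef0_ne_zero _ _ _ _ ht)
    (coef0_ne_zero _ _ _ _ hu) (coef0_ne_zero _ _ _ _ hv) ?_ ?_ ?_ ?_
  · have e : L.presheaf.stalkSpecializes h g₂ =
        (X.presheaf.stalkSpecializes h (c₀ : X.presheaf.stalk ξ)) • L.presheaf.stalkSpecializes h g₁ := by
      rw [hc₀]; exact Groth.Agent.Lib.Helper18.SecDiv.stalkSpecializes_smul L h _ _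
    rw [coef0_smul hL η _ _ (span_stalkSpecializes_eq_top hL h g₁ hg₁)
      (span_stalkSpecializes_eq_top hL h g₂ hg₂) _ e s]
    rfl
  · have e : N.presheaf.stalkSpecializes h g₂' =
        (X.presheaf.stalkSpecializes h (c₀' : X.presheaf.stalk ξ)) • N.presheaf.stalkSpecializes h g₁' := by
      rw [hc₀']; exact Groth.Agent.Lib.Helper18.SecDiv.stalkSpecializes_smul N h _ _
    rw [coef0_smul hN η _ _ (span_stalkSpecializes_eq_top hN h g₁' hg₁')
      (span_stalkSpecializes_eq_top hN h g₂' hg₂') _ e t]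
    rfl
  · rw [coef0_smul hN ξ g₁' g₂' hg₁' hg₂' _ hc₀' (u ξ)]
    rfl
  · rw [coef0_smul hL ξ g₁ g₂ hg₁ hg₂ _ hc₀ (v ξ)]
    rfl

end Groth.Agent.Lib.Helper18.KF9
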