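import Mathlib
import Groth.Agent.Lib.Helper18.KF9

set_option autoImplicit false
set_option linter.style.haveILetI false
set_option linter.unusedSectionVars false

/-! Key formula (S1920), part 10: the order of the rational function along `ξ ⤳ x`. -/

universe u
open CategoryTheory AlgebraicGeometry TopologicalSpace

namespace Groth.Agent.Lib.Helper18.KF10

open Groth.Agent.Lib.Helper18.InvStalk Groth.Agent.Lib.Helper18.LocStalk
  Groth.Agent.Lib.Helper18.DivPull Groth.Agent.Lib.Helper18.KF6 Groth.Agent.Lib.Helper18.KF7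
  Groth.Agent.Lib.Helper18.KF8 Groth.Agent.Lib.Helper18.KF5 Groth.Agent.Lib.Helper18.KF9
  Groth.Agent.Lib.Helper18.KF4

variable {X : Scheme.{u}} {L N : X.Modules} (hL : PicF.IsInvertible L) (hN : PicF.IsInvertible N)
  {η : X} (s : Cyc.secFibre L η) (t : Cyc.secFibre N η)
  (u : (ξ : X) → Cyc.secFibre N ξ) (v : (ξ : X) → Cyc.secFibre L ξ)

theorem coef0_comp {M : X.Modules} (hM : PicF.IsInvertible M) {x ξ : X} (h : η ⤳ ξ) (h' : ξ ⤳ x)
    (e : M.presheaf.stalk x)
    (he : Submodule.span (X.presheaf.stalk x) {e} = ⊤) (σ : Cyc.secFibre M η) :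
    coef0 η (M.presheaf.stalkSpecializes h (M.presheaf.stalkSpecializes h' e))
      (span_stalkSpecializes_eq_top hM h _ (span_stalkSpecializes_eq_top hM h' e he)) σ =
    coef0 η (M.presheaf.stalkSpecializes (h.trans h') e)
      (span_stalkSpecializes_eq_top hM (h.trans h') e he) σ :=
  coef0_congr η (TopCat.Presheaf.stalkSpecializes_comp_apply M.presheaf h h' e) _ σ

/-- the rational function attached to `ξ`, computed with chosen generators -/
noncomputable def Fpt {ξ : X} (h : η ⤳ ξ) : X.residueField ξ :=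
  Fgen hL hN s t u v h (Classical.choose (exists_generator hL ξ))
    (Classical.choose_spec (exists_generator hL ξ)) (Classical.choose (exists_generator hN ξ))
    (Classical.choose_spec (exists_generator hN ξ))


variable (δ : X → ℤ) (hX : Cyc.IsSetup X δ)

include hX in
theorem krullDimLE_quot_ker_pi {x ξ : X} (h : η ⤳ ξ) (h' : ξ ⤳ x) (hd' : δ x + 1 = δ ξ) :
    Ring.KrullDimLE 1 (Cyc.LocQuot x η (h.trans h') ⧸ RingHom.ker (pi h h')) := by
  haveI : Ring.KrullDimLE 1 (Cyc.LocQuot x ξ h') := krullDimLE_one_locQuot δ hX.2.2 x ξ h' hd'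
  rw [Ring.krullDimLE_iff,
    ringKrullDim_eq_of_ringEquiv (RingHom.quotientKerEquivOfSurjective (pi_surjective h h'))]
  exact Ring.krullDimLE_iff.mp inferInstance

set_option synthInstance.maxHeartbeats 400000 in
set_option maxHeartbeats 1600000 in
include hX in
theorem ordAt_Fpt {x ξ : X} (h : η ⤳ ξ) (h' : ξ ⤳ x) (hd : δ ξ + 1 = δ η) (hd' : δ x + 1 = δ ξ)
    (hs : s ≠ 0) (ht : t ≠ 0) (hu : ∀ ξ, u ξ ≠ 0) (hv : ∀ ξ, v ξ ≠ 0)
    (e : L.presheaf.stalk x) (he : Submodule.span (X.presheaf.stalk x) {e} = ⊤)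
    (e' : N.presheaf.stalk x) (he' : Submodule.span (X.presheaf.stalk x) {e'} = ⊤)
    {α1 α2 β1 β2 : Cyc.LocQuot x η (h.trans h')} (h1 : α1 ≠ 0) (h2 : α2 ≠ 0) (h3 : β1 ≠ 0)
    (h4 : β2 ≠ 0)
    (hα : coef0 η (L.presheaf.stalkSpecializes (h.trans h') e)
        (span_stalkSpecializes_eq_top hL (h.trans h') e he) s *
        algebraMap (Cyc.LocQuot x η (h.trans h')) (X.residueField η) α2 =
        algebraMap (Cyc.LocQuot x η (h.trans h')) (X.residueField η) α1)
    (hβ : coef0 η (N.presheaf.stalkSpecializes (h.trans h') e')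
        (span_stalkSpecializes_eq_top hN (h.trans h') e' he') t *
        algebraMap (Cyc.LocQuot x η (h.trans h')) (X.residueField η) β2 =
        algebraMap (Cyc.LocQuot x η (h.trans h')) (X.residueField η) β1) :
    Cyc.ordAt x ξ h' (Fpt hL hN s t u v h) =
      T4 (qOf h h').asIdeal α1 α2 β1 β2 +
        Cyc.secOrdAt L η ξ h s * Cyc.secOrdAt N ξ x h' (u ξ) -
        Cyc.secOrdAt N η ξ h t * Cyc.secOrdAt L ξ x h' (v ξ) := by
  haveI : IsLocallyNoetherian X := hX.1
  have hR := dim_locQuot_eq_one δ hX.2.2 ξ η h hd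
  haveI hK : Ring.KrullDimLE 1 (Cyc.LocQuot ξ η h) := krullDimLE_one_locQuot δ hX.2.2 ξ η h hd
  haveI hK' : Ring.KrullDimLE 1 (Cyc.LocQuot x ξ h') := krullDimLE_one_locQuot δ hX.2.2 x ξ h' hd'
  -- generators at ξ induced from x
  set g := L.presheaf.stalkSpecializes h' e with hg_def
  set g' := N.presheaf.stalkSpecializes h' e' with hg'_def
  have hg := span_stalkSpecializes_eq_top hL h' e he
  have hg' := span_stalkSpecializes_eq_top hN h' e' he'
  have step1 : Fpt hL hN s t u v h = Fgen hL hN s t u v h g hg g' hg' :=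
    Fgen_indep hL hN s t u v δ hX h hd hs ht (hu ξ) (hv ξ) _ _ _ _ _ _ _ _
  rw [step1]
  unfold Fgen
  have ea := coef0_comp hL h h' e he s
  have eb := coef0_comp hN h h' e' he' t
  set a := coef0 η (L.presheaf.stalkSpecializes h g) (span_stalkSpecializes_eq_top hL h g hg) s
    with ha_def
  set b := coef0 η (N.presheaf.stalkSpecializes h g') (span_stalkSpecializes_eq_top hN h g' hg') t
    with hb_def
  have ha0 : a ≠ 0 := coef0_ne_zero _ _ _ _ hs
  have hb0 : b ≠ 0 := coef0_ne_zero _ _ _ _ ht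
  have hu0 : coef0 ξ g' hg' (u ξ) ≠ 0 := coef0_ne_zero _ _ _ _ (hu ξ)
  have hv0 : coef0 ξ g hg (v ξ) ≠ 0 := coef0_ne_zero _ _ _ _ (hv ξ)
  unfold Cyc.ordAt
  rw [ordFrac_Fsym (rho ξ η h) hR (D := Cyc.LocQuot x ξ h') ha0 hb0 hu0 hv0]
  -- the three identifications
  have o1 : Cyc.secOrdAt L η ξ h s = CycAlg.ordFrac (Cyc.LocQuot ξ η h) (X.residueField η) a :=
    secOrdAt_eq_coef hL ξ η h hK g hg s hs
  have o2 : Cyc.secOrdAt N η ξ h t = CycAlg.ordFrac (Cyc.LocQuot ξ η h) (X.residueField η) b :=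
    secOrdAt_eq_coef hN ξ η h hK g' hg' t ht
  have o3 : Cyc.secOrdAt N ξ x h' (u ξ) =
      CycAlg.ordFrac (Cyc.LocQuot x ξ h') (X.residueField ξ) (coef0 ξ g' hg' (u ξ)) :=
    secOrdAt_eq_coef hN x ξ h' hK' e' he' (u ξ) (hu ξ)
  have o4 : Cyc.secOrdAt L ξ x h' (v ξ) =
      CycAlg.ordFrac (Cyc.LocQuot x ξ h') (X.residueField ξ) (coef0 ξ g hg (v ξ)) :=
    secOrdAt_eq_coef hL x ξ h' hK' e he (v ξ) (hv ξ)
  rw [o1, o2, o3, o4]
  -- the tame symbol term
  letI algI : Algebra (Cyc.LocQuot x η (h.trans h')) (Cyc.LocQuot ξ η h) := (iota h h').toAlgebra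
  haveI locI : IsLocalization.AtPrime (Cyc.LocQuot ξ η h) (RingHom.ker (pi h h')) :=
    isLocalization_iota h h'
  haveI towI : IsScalarTower (Cyc.LocQuot x η (h.trans h')) (Cyc.LocQuot ξ η h)
      (X.residueField η) :=
    IsScalarTower.of_algebraMap_eq (fun z => (algebraMap_iota h h' z).symm)
  haveI := krullDimLE_quot_ker_pi δ hX h h' hd'
  have hq : ringKrullDim (Localization.AtPrime (RingHom.ker (pi h h'))) = 1 := by
    rw [IsLocalization.AtPrime.ringKrullDim_eq_height (RingHom.ker (pi h h'))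
      (Localization.AtPrime (RingHom.ker (pi h h')))]
    have h5 := height_qOf δ hX.2.2 h h'
    have h6 : (δ η - δ ξ).toNat = 1 := by omega
    rw [h6] at h5
    change (RingHom.ker (pi h h')).height = _ at h5
    rw [h5]; rfl
  have key := per_prime_frac (RingHom.ker (pi h h')) (Cyc.LocQuot ξ η h) (X.residueField η)
    (rho ξ η h) (pi h h') hq (pi_surjective h h') rfl (fun z => rho_iota h h' z) (x := a) (y := b)
    h1 h2 h3 h4 (by have h7 := hα; rw [← ea] at h7; exact h7)
    (by have h7 := hβ; rw [← eb] at h7; exact h7)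
  rw [key]
  rfl


end Groth.Agent.Lib.Helper18.KF10
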