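import Mathlib
import Groth.Agent.Lib.Helper18.KF10
import Groth.Agent.Lib.Helper18.DivLocFin

set_option autoImplicit false
set_option linter.style.haveILetI false
set_option linter.unusedSectionVars false

/-! Key formula (S1920), part 11: local finiteness. -/

universe u
open CategoryTheory AlgebraicGeometry TopologicalSpace

namespace Groth.Agent.Lib.Helper18.KF11

open Groth.Agent.Lib.Helper18.InvStalk Groth.Agent.Lib.Helper18.LocStalk
  Groth.Agent.Lib.Helper18.DivPull Groth.Agent.Lib.Helper18.KF6 Groth.Agent.Lib.Helper18.KF7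
  Groth.Agent.Lib.Helper18.KF8 Groth.Agent.Lib.Helper18.KF5 Groth.Agent.Lib.Helper18.KF9
  Groth.Agent.Lib.Helper18.KF4 Groth.Agent.Lib.Helper18.KF10 Groth.Agent.Lib.Helper29.QCoh

variable {X : Scheme.{u}} {L N : X.Modules} (hL : PicF.IsInvertible L) (hN : PicF.IsInvertible N)
  {η : X} (s : Cyc.secFibre L η) (t : Cyc.secFibre N η)
  (u : (ξ : X) → Cyc.secFibre N ξ) (v : (ξ : X) → Cyc.secFibre L ξ)
  (δ : X → ℤ) (hX : Cyc.IsSetup X δ)

/-- the coefficient with respect to the germ of a trivialising section, when the section is a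
unit multiple of the trivialising section near `ξ` -/
theorem coef0_germ_of_unit {M : X.Modules} (hM : PicF.IsInvertible M) (σ : Cyc.secFibre M η)
    {ξ : X} (h : η ⤳ ξ) {V : X.Opens} (hξV : ξ ∈ V)
    (e : Γ(M, V)) (hT : IsTriv M V e) {W : X.Opens} (hξW : ξ ∈ W) (a : Γ(X, W))
    (hua : IsUnit (X.presheaf.germ W ξ hξW a))
    (es : σ = X.presheaf.germ W η (h.mem_open W.2 hξW) a •
      (Submodule.Quotient.mk (M.presheaf.germ V η (h.mem_open V.2 hξV) e) : Cyc.secFibre M η)) :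
    coef0 η (M.presheaf.stalkSpecializes h (M.presheaf.germ V ξ hξV e))
        (span_stalkSpecializes_eq_top hM h _ (span_germ_eq_top M hT ξ hξV)) σ =
      algebraMap (Cyc.LocQuot ξ η h) (X.residueField η)
        ((Units.map (Ideal.Quotient.mk _ : _ →+* Cyc.LocQuot ξ η h) hua.unit :
          (Cyc.LocQuot ξ η h)ˣ) : Cyc.LocQuot ξ η h) := by
  have e1 : M.presheaf.stalkSpecializes h (M.presheaf.germ V ξ hξV e) =
      M.presheaf.germ V η (h.mem_open V.2 hξV) e :=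
    TopCat.Presheaf.germ_stalkSpecializes_apply _ _ _ _
  rw [coef0_congr η e1, coef0_eq hM η _ _ σ _ es]
  show _ = Cyc.specMap ξ η h (X.presheaf.germ W ξ hξW a)
  unfold Cyc.specMap
  rw [CommRingCat.hom_comp, RingHom.comp_apply]
  congr 1
  exact (TopCat.Presheaf.germ_stalkSpecializes_apply _ _ _ _).symm

include hX in
theorem good_point (hs : s ≠ 0) (ht : t ≠ 0) (hu : ∀ ξ, u ξ ≠ 0) (hv : ∀ ξ, v ξ ≠ 0) {ξ : X}
    (h : η ⤳ ξ) (hd : δ ξ + 1 = δ η) {V : X.Opens} (hξV : ξ ∈ V)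
    (e : Γ(L, V)) (hT : IsTriv L V e) (e' : Γ(N, V)) (hT' : IsTriv N V e')
    {W W' : X.Opens} (hξW : ξ ∈ W) (hξW' : ξ ∈ W') (a : Γ(X, W)) (a' : Γ(X, W'))
    (hua : IsUnit (X.presheaf.germ W ξ hξW a)) (hua' : IsUnit (X.presheaf.germ W' ξ hξW' a'))
    (es : s = X.presheaf.germ W η (h.mem_open W.2 hξW) a •
      (Submodule.Quotient.mk (L.presheaf.germ V η (h.mem_open V.2 hξV) e) : Cyc.secFibre L η))
    (et : t = X.presheaf.germ W' η (h.mem_open W'.2 hξW') a' •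
      (Submodule.Quotient.mk (N.presheaf.germ V η (h.mem_open V.2 hξV) e') : Cyc.secFibre N η)) :
    Fpt hL hN s t u v h = 1 ∧ Cyc.secOrdAt L η ξ h s = 0 ∧ Cyc.secOrdAt N η ξ h t = 0 := by
  haveI : IsLocallyNoetherian X := hX.1
  have hR := dim_locQuot_eq_one δ hX.2.2 ξ η h hd
  haveI hK : Ring.KrullDimLE 1 (Cyc.LocQuot ξ η h) := krullDimLE_one_locQuot δ hX.2.2 ξ η h hd
  have hg := span_germ_eq_top L hT ξ hξV
  have hg' := span_germ_eq_top N hT' ξ hξV
  have ca := coef0_germ_of_unit hL s h hξV e hT hξW a hua es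
  have cb := coef0_germ_of_unit hN t h hξV e' hT' hξW' a' hua' et
  refine ⟨?_, ?_, ?_⟩
  · have step1 : Fpt hL hN s t u v h = Fgen hL hN s t u v h _ hg _ hg' :=
      Fgen_indep hL hN s t u v δ hX h hd hs ht (hu ξ) (hv ξ) _ _ _ _ _ _ _ _
    rw [step1]
    unfold Fgen
    rw [ca, cb]
    exact Fsym_units (rho ξ η h) hR _ _ _ _
  · rw [secOrdAt_eq_coef hL ξ η h hK _ hg s hs, ca]
    unfold Cyc.ordAt
    exact Groth.Agent.Lib.Helper18.KF2.ordFrac_unit _
  · rw [secOrdAt_eq_coef hN ξ η h hK _ hg' t ht, cb]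
    unfold Cyc.ordAt
    exact Groth.Agent.Lib.Helper18.KF2.ordFrac_unit _


/-- a nonzero rational section is a unit multiple of a trivialising section near `η` -/
theorem exists_unit_rep {M : X.Modules} (σ : Cyc.secFibre M η) (hσ : σ ≠ 0)
    {V : X.Opens} (hηV : η ∈ V) (e : Γ(M, V)) (hT : IsTriv M V e) :
    ∃ (W : X.Opens) (hηW : η ∈ W) (a : Γ(X, W)), η ∈ X.basicOpen a ∧
      σ = X.presheaf.germ W η hηW a •
        (Submodule.Quotient.mk (M.presheaf.germ V η hηV e) : Cyc.secFibre M η) := by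
  obtain ⟨ψ, hψ⟩ := exists_smul_mk_eq (IsLocalRing.maximalIdeal (X.presheaf.stalk η))
    (M.presheaf.germ V η hηV e) (span_germ_eq_top M hT η hηV) σ
  obtain ⟨W, hηW, a, rfl⟩ := X.presheaf.exists_germ_eq (x := η) ψ
  refine ⟨W, hηW, a, ?_, hψ⟩
  rw [X.mem_basicOpen a η hηW]
  by_contra hnu
  apply hσ
  have hmem : X.presheaf.germ W η hηW a ∈ IsLocalRing.maximalIdeal (X.presheaf.stalk η) := hnu
  rw [hψ, ← Submodule.Quotient.mk_smul, Submodule.Quotient.mk_eq_zero]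
  exact Submodule.smul_mem_smul hmem trivial

include hX in
theorem finite_bad (hs : s ≠ 0) (ht : t ≠ 0) (hu : ∀ ξ, u ξ ≠ 0) (hv : ∀ ξ, v ξ ≠ 0)
    {V : X.Opens} (hV : IsAffineOpen V) (e : Γ(L, V)) (hT : IsTriv L V e) (e' : Γ(N, V))
    (hT' : IsTriv N V e') :
    {ξ : X | ξ ∈ V ∧ ∃ h : η ⤳ ξ, δ ξ + 1 = δ η ∧
      (Fpt hL hN s t u v h ≠ 1 ∨ Cyc.secOrdAt L η ξ h s ≠ 0 ∨ Cyc.secOrdAt N η ξ h t ≠ 0)}.Finite := by
  haveI : IsLocallyNoetherian X := hX.1
  by_cases hηV : η ∈ V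
  · obtain ⟨W, hηW, a, hηa, es⟩ := exists_unit_rep s hs hηV e hT
    obtain ⟨W', hηW', a', hηa', et⟩ := exists_unit_rep t ht hηV e' hT'
    obtain ⟨c, hcO, hηc⟩ := hV.exists_basicOpen_le (V := X.basicOpen a ⊓ X.basicOpen a')
      ⟨η, ⟨hηa, hηa'⟩⟩ hηV
    have hcu : IsUnit (X.presheaf.germ V η hηV c) := (X.mem_basicOpen c η hηV).mp hηc
    refine (Groth.Agent.Lib.Helper18.DivLocFin.finite_immSpec_notUnit δ hX.2.2 hV η hηV c
      hcu).subset ?_
    rintro ξ ⟨hξV, h, hd, hbad⟩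
    refine ⟨hξV, h, hd, ?_⟩
    intro hu_c
    have hξc : ξ ∈ X.basicOpen c := (X.mem_basicOpen c ξ hξV).mpr hu_c
    have hξa : ξ ∈ X.basicOpen a := (hcO hξc).1
    have hξa' : ξ ∈ X.basicOpen a' := (hcO hξc).2
    have hξW : ξ ∈ W := X.basicOpen_le a hξa
    have hξW' : ξ ∈ W' := X.basicOpen_le a' hξa'
    have hua : IsUnit (X.presheaf.germ W ξ hξW a) := (X.mem_basicOpen a ξ hξW).mp hξa
    have hua' : IsUnit (X.presheaf.germ W' ξ hξW' a') := (X.mem_basicOpen a' ξ hξW').mp hξa'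
    obtain ⟨g1, g2, g3⟩ := good_point hL hN s t u v δ hX hs ht hu hv h hd hξV e hT e' hT'
      hξW hξW' a a' hua hua' es et
    rcases hbad with hb | hb | hb
    · exact hb g1
    · exact hb g2
    · exact hb g3
  · refine Set.Finite.subset Set.finite_empty ?_
    rintro ξ ⟨hξV, h, -⟩
    exact hηV (h.mem_open V.2 hξV)

end Groth.Agent.Lib.Helper18.KF11
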