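import Mathlib
import Groth.Agent.Lib.Helper18.KF11

set_option autoImplicit false
set_option linter.style.haveILetI false
set_option linter.unusedSectionVars false

/-! Key formula (S1920), part 12: the key formula `c₁(N) ∩ div_L(s) ∼ c₁(L) ∩ div_N(t)`. -/

universe u
open CategoryTheory AlgebraicGeometry TopologicalSpace

namespace Groth.Agent.Lib.Helper18.KF12

open Groth.Agent.Lib.Helper18.InvStalk Groth.Agent.Lib.Helper18.LocStalk
  Groth.Agent.Lib.Helper18.DivPull Groth.Agent.Lib.Helper18.KF6 Groth.Agent.Lib.Helper18.KF7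
  Groth.Agent.Lib.Helper18.KF8 Groth.Agent.Lib.Helper18.KF5 Groth.Agent.Lib.Helper18.KF9
  Groth.Agent.Lib.Helper18.KF4 Groth.Agent.Lib.Helper18.KF10 Groth.Agent.Lib.Helper18.KF11
  Groth.Agent.Lib.Helper29.QCoh

variable {X : Scheme.{u}} {L N : X.Modules} (hL : PicF.IsInvertible L) (hN : PicF.IsInvertible N)
  {η : X} (s : Cyc.secFibre L η) (t : Cyc.secFibre N η)
  (u : (ξ : X) → Cyc.secFibre N ξ) (v : (ξ : X) → Cyc.secFibre L ξ)
  (δ : X → ℤ) (hX : Cyc.IsSetup X δ)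

include hX in
theorem Fpt_ne_zero (hs : s ≠ 0) (ht : t ≠ 0) (hu : ∀ ξ, u ξ ≠ 0) (hv : ∀ ξ, v ξ ≠ 0) {ξ : X}
    (h : η ⤳ ξ) (hd : δ ξ + 1 = δ η) : Fpt hL hN s t u v h ≠ 0 := by
  haveI : IsLocallyNoetherian X := hX.1
  have hR := dim_locQuot_eq_one δ hX.2.2 ξ η h hd
  haveI hK : Ring.KrullDimLE 1 (Cyc.LocQuot ξ η h) := krullDimLE_one_locQuot δ hX.2.2 ξ η h hd
  unfold Fpt Fgen
  exact Fsym_ne_zero (rho ξ η h) hR (coef0_ne_zero _ _ _ _ hs) (coef0_ne_zero _ _ _ _ ht)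
    (coef0_ne_zero _ _ _ _ (hu ξ)) (coef0_ne_zero _ _ _ _ (hv ξ))

include hL hN in
/-- existence of a common affine trivialising neighbourhood -/
theorem exists_affine_triv (x : X) :
    ∃ (V : X.Opens) (e : Γ(L, V)) (e' : Γ(N, V)), IsAffineOpen V ∧ x ∈ V ∧ IsTriv L V e ∧
      IsTriv N V e' := by
  obtain ⟨U₁, e₁, -, hx₁, -, hT₁⟩ := exists_affine_isTriv hL (W := ⊤) x trivial
  obtain ⟨U₂, e₂, hU₂, hx₂, hle, hT₂⟩ := exists_affine_isTriv hN (W := U₁) x hx₁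
  exact ⟨U₂, res L hle e₁, e₂, hU₂, hx₂, hT₁.restrict hle, hT₂⟩

open Classical in
/-- the rational functions, as a total function -/
noncomputable def Fall (ξ : X) : X.residueField ξ :=
  if hP : η ⤳ ξ ∧ δ ξ + 1 = δ η then Fpt hL hN s t u v hP.1 else 1

theorem Fall_eq {ξ : X} (h : η ⤳ ξ) (hd : δ ξ + 1 = δ η) :
    Fall hL hN s t u v δ ξ = Fpt hL hN s t u v h := by
  unfold Fall
  rw [dif_pos ⟨h, hd⟩]


theorem secDivFun_ne_zero {M : X.Modules} {ξ y : X} {σ : Cyc.secFibre M ξ}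
    (h : Cyc.secDivFun δ M ξ σ y ≠ 0) :
    ∃ hc : ξ ⤳ y ∧ δ y + 1 = δ ξ, Cyc.secOrdAt M ξ y hc.1 σ ≠ 0 := by
  unfold Cyc.secDivFun at h
  by_cases hc : ξ ⤳ y ∧ δ y + 1 = δ ξ
  · rw [dif_pos hc] at h
    exact ⟨hc, h⟩
  · rw [dif_neg hc] at h
    exact absurd rfl h

theorem divFun_ne_zero {ξ y : X} {f : X.residueField ξ} (h : Cyc.divFun δ ξ f y ≠ 0) :
    ∃ hc : ξ ⤳ y ∧ δ y + 1 = δ ξ, Cyc.ordAt y ξ hc.1 f ≠ 0 := by
  unfold Cyc.divFun at h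
  by_cases hc : ξ ⤳ y ∧ δ y + 1 = δ ξ
  · rw [dif_pos hc] at h
    exact ⟨hc, h⟩
  · rw [dif_neg hc] at h
    exact absurd rfl h

theorem divFun_one (ξ y : X) : Cyc.divFun δ ξ (1 : X.residueField ξ) y = 0 := by
  unfold Cyc.divFun
  split_ifs with hc
  · unfold Cyc.ordAt
    exact Groth.Agent.Lib.Helper18.KeyS.ordFrac_one' _ _
  · rfl

set_option synthInstance.maxHeartbeats 400000 in
set_option maxHeartbeats 1600000 in
open Classical in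
include hX in
theorem pointwise (hs : s ≠ 0) (ht : t ≠ 0) (hu : ∀ ξ, u ξ ≠ 0) (hv : ∀ ξ, v ξ ≠ 0) (x : X) :
    Cyc.c1CapFun δ N (Cyc.secDivFun δ L η s) u x - Cyc.c1CapFun δ L (Cyc.secDivFun δ N η t) v x =
      ∑ᶠ ξ : X, (if η ⤳ ξ ∧ δ ξ + 1 = δ η then
        Cyc.divFun δ ξ (Fall hL hN s t u v δ ξ) x else 0) := by
  haveI : IsLocallyNoetherian X := hX.1
  unfold Cyc.c1CapFun
  set G1 : X → ℤ := fun ξ => Cyc.secDivFun δ L η s ξ * Cyc.secDivFun δ N ξ (u ξ) x with hG1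
  set G2 : X → ℤ := fun ξ => Cyc.secDivFun δ N η t ξ * Cyc.secDivFun δ L ξ (v ξ) x with hG2
  set Hf : X → ℤ := fun ξ => (if η ⤳ ξ ∧ δ ξ + 1 = δ η then
        Cyc.divFun δ ξ (Fall hL hN s t u v δ ξ) x else 0) with hHf
  obtain ⟨V, e, e', hV, hxV, hT, hT'⟩ := exists_affine_triv hL hN x
  have hBad := finite_bad hL hN s t u v δ hX hs ht hu hv hV e hT e' hT'
  set Bad : Set X := {ξ : X | ξ ∈ V ∧ ∃ h : η ⤳ ξ, δ ξ + 1 = δ η ∧
      (Fpt hL hN s t u v h ≠ 1 ∨ Cyc.secOrdAt L η ξ h s ≠ 0 ∨ Cyc.secOrdAt N η ξ h t ≠ 0)}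
    with hBad_def
  -- supports
  have supG1 : ∀ ξ, G1 ξ ≠ 0 → (η ⤳ ξ ∧ ξ ⤳ x ∧ δ ξ + 1 = δ η ∧ δ x + 1 = δ ξ) ∧ ξ ∈ Bad := by
    intro ξ hξ
    obtain ⟨hc, ho⟩ := secDivFun_ne_zero δ (left_ne_zero_of_mul hξ)
    obtain ⟨hc', -⟩ := secDivFun_ne_zero δ (right_ne_zero_of_mul hξ)
    exact ⟨⟨hc.1, hc'.1, hc.2, hc'.2⟩, hc'.1.mem_open V.2 hxV, hc.1, hc.2, Or.inr (Or.inl ho)⟩
  have supG2 : ∀ ξ, G2 ξ ≠ 0 → (η ⤳ ξ ∧ ξ ⤳ x ∧ δ ξ + 1 = δ η ∧ δ x + 1 = δ ξ) ∧ ξ ∈ Bad := by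
    intro ξ hξ
    obtain ⟨hc, ho⟩ := secDivFun_ne_zero δ (left_ne_zero_of_mul hξ)
    obtain ⟨hc', -⟩ := secDivFun_ne_zero δ (right_ne_zero_of_mul hξ)
    exact ⟨⟨hc.1, hc'.1, hc.2, hc'.2⟩, hc'.1.mem_open V.2 hxV, hc.1, hc.2, Or.inr (Or.inr ho)⟩
  have supH : ∀ ξ, Hf ξ ≠ 0 → (η ⤳ ξ ∧ ξ ⤳ x ∧ δ ξ + 1 = δ η ∧ δ x + 1 = δ ξ) ∧ ξ ∈ Bad := by
    intro ξ hξ
    rw [hHf] at hξ
    by_cases hP : η ⤳ ξ ∧ δ ξ + 1 = δ η
    · simp only [if_pos hP] at hξ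
      obtain ⟨hc', -⟩ := divFun_ne_zero δ hξ
      refine ⟨⟨hP.1, hc'.1, hP.2, hc'.2⟩, hc'.1.mem_open V.2 hxV, hP.1, hP.2, Or.inl ?_⟩
      intro h1
      rw [Fall_eq hL hN s t u v δ hP.1 hP.2, h1, divFun_one] at hξ
      exact hξ rfl
    · simp only [if_neg hP] at hξ
      exact absurd rfl hξ
  by_cases hcase : η ⤳ x ∧ δ x + 2 = δ η
  · obtain ⟨hx, hdx⟩ := hcase
    have hFin : (Sx δ x η ∩ Bad).Finite := hBad.inter_of_right _
    have memFin : ∀ ξ, (η ⤳ ξ ∧ ξ ⤳ x ∧ δ ξ + 1 = δ η ∧ δ x + 1 = δ ξ) ∧ ξ ∈ Bad →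
        ξ ∈ hFin.toFinset := by
      rintro ξ ⟨⟨a1, a2, a3, -⟩, hb⟩
      exact (Set.Finite.mem_toFinset hFin).mpr ⟨⟨a1, a2, a3⟩, hb⟩
    rw [finsum_eq_sum_of_support_subset G1 (s := hFin.toFinset)
        (fun ξ hξ => memFin ξ (supG1 ξ hξ)),
      finsum_eq_sum_of_support_subset G2 (s := hFin.toFinset)
        (fun ξ hξ => memFin ξ (supG2 ξ hξ)),
      finsum_eq_sum_of_support_subset Hf (s := hFin.toFinset)
        (fun ξ hξ => memFin ξ (supH ξ hξ))]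
    -- the numerators and denominators
    have hA2 := dim_locQuot_eq_two δ hX.2.2 x η hx hdx
    set eL := Classical.choose (exists_generator hL x) with heL
    have heL' := Classical.choose_spec (exists_generator hL x)
    set eN := Classical.choose (exists_generator hN x) with heN
    have heN' := Classical.choose_spec (exists_generator hN x)
    set ax := coef0 η (L.presheaf.stalkSpecializes hx eL)
      (span_stalkSpecializes_eq_top hL hx eL heL') s with hax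
    set bx := coef0 η (N.presheaf.stalkSpecializes hx eN)
      (span_stalkSpecializes_eq_top hN hx eN heN') t with hbx
    have hax0 : ax ≠ 0 := coef0_ne_zero _ _ _ _ hs
    have hbx0 : bx ≠ 0 := coef0_ne_zero _ _ _ _ ht
    obtain ⟨α1, α2, hα2, hα⟩ := IsFractionRing.div_surjective (A := Cyc.LocQuot x η hx) ax
    obtain ⟨β1, β2, hβ2, hβ⟩ := IsFractionRing.div_surjective (A := Cyc.LocQuot x η hx) bx
    have hα20 : α2 ≠ 0 := nonZeroDivisors.ne_zero hα2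
    have hβ20 : β2 ≠ 0 := nonZeroDivisors.ne_zero hβ2
    have hα10 : α1 ≠ 0 := by
      intro h0; apply hax0; rw [← hα, h0, map_zero, zero_div]
    have hβ10 : β1 ≠ 0 := by
      intro h0; apply hbx0; rw [← hβ, h0, map_zero, zero_div]
    have hα2K : algebraMap (Cyc.LocQuot x η hx) (X.residueField η) α2 ≠ 0 :=
      fun h0 => hα20 ((map_eq_zero_iff _ (algebraMap_locQuot_injective x η hx)).mp h0)
    have hβ2K : algebraMap (Cyc.LocQuot x η hx) (X.residueField η) β2 ≠ 0 :=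
      fun h0 => hβ20 ((map_eq_zero_iff _ (algebraMap_locQuot_injective x η hx)).mp h0)
    have hαe : ax * algebraMap (Cyc.LocQuot x η hx) (X.residueField η) α2 =
        algebraMap (Cyc.LocQuot x η hx) (X.residueField η) α1 := by
      rw [← hα, div_mul_cancel₀ _ hα2K]
    have hβe : bx * algebraMap (Cyc.LocQuot x η hx) (X.residueField η) β2 =
        algebraMap (Cyc.LocQuot x η hx) (X.residueField η) β1 := by
      rw [← hβ, div_mul_cancel₀ _ hβ2K]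
    -- the main identity
    have main : ∀ ξ ∈ Sx δ x η, Hf ξ =
        T4 (toPrime x η hx ξ).asIdeal α1 α2 β1 β2 + G1 ξ - G2 ξ := by
      rintro ξ ⟨h, h', hd⟩
      have hd' : δ x + 1 = δ ξ := by omega
      rw [toPrime_eq x η hx h h', hHf, hG1, hG2]
      simp only [if_pos (show η ⤳ ξ ∧ δ ξ + 1 = δ η from ⟨h, hd⟩)]
      unfold Cyc.divFun Cyc.secDivFun
      rw [dif_pos ⟨h', hd'⟩, dif_pos ⟨h, hd⟩, dif_pos ⟨h', hd'⟩, dif_pos ⟨h, hd⟩,
        dif_pos ⟨h', hd'⟩, Fall_eq hL hN s t u v δ h hd]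
      exact ordAt_Fpt hL hN s t u v δ hX h h' hd hd' hs ht hu hv eL heL' eN heN'
        hα10 hα20 hβ10 hβ20 hαe hβe
    -- the tame symbol terms sum to zero
    have hT4 : ∑ ξ ∈ hFin.toFinset, T4 (toPrime x η hx ξ).asIdeal α1 α2 β1 β2 = 0 := by
      rw [← finsum_mem_eq_sum_of_subset (s := Sx δ x η)
        (fun ξ => T4 (toPrime x η hx ξ).asIdeal α1 α2 β1 β2)]
      · rw [finsum_points_eq_finsum_primes δ hX.2.2 x η hx (fun q => T4 q.asIdeal α1 α2 β1 β2)]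
        exact key_T4 hA2 (mem_nonZeroDivisors_of_ne_zero hα10) hα2
          (mem_nonZeroDivisors_of_ne_zero hβ10) hβ2
      · rintro ξ ⟨hξS, hξ⟩
        rw [Function.mem_support] at hξ
        have hm := main ξ hξS
        have hdx' : δ x + 1 = δ ξ := by have := hξS.2.2; omega
        by_cases c1 : G1 ξ ≠ 0
        · exact memFin ξ (supG1 ξ c1)
        by_cases c2 : G2 ξ ≠ 0
        · exact memFin ξ (supG2 ξ c2)
        by_cases c3 : Hf ξ ≠ 0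
        · exact memFin ξ (supH ξ c3)
        rw [not_not] at c1 c2 c3
        rw [c1, c2, c3] at hm
        exact absurd (by linarith) hξ
      · intro ξ hξ
        exact ((Set.Finite.mem_toFinset hFin).mp hξ).1
    have hsum : ∑ ξ ∈ hFin.toFinset, Hf ξ = ∑ ξ ∈ hFin.toFinset,
        (T4 (toPrime x η hx ξ).asIdeal α1 α2 β1 β2 + G1 ξ - G2 ξ) :=
      Finset.sum_congr rfl (fun ξ hξ => main ξ ((Set.Finite.mem_toFinset hFin).mp hξ).1)
    rw [hsum, Finset.sum_sub_distrib, Finset.sum_add_distrib, hT4, zero_add]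
  · have z1 : ∀ ξ, G1 ξ = 0 := by
      intro ξ
      by_contra hne
      obtain ⟨⟨a1, a2, a3, a4⟩, -⟩ := supG1 ξ hne
      exact hcase ⟨a1.trans a2, by omega⟩
    have z2 : ∀ ξ, G2 ξ = 0 := by
      intro ξ
      by_contra hne
      obtain ⟨⟨a1, a2, a3, a4⟩, -⟩ := supG2 ξ hne
      exact hcase ⟨a1.trans a2, by omega⟩
    have z3 : ∀ ξ, Hf ξ = 0 := by
      intro ξ
      by_contra hne
      obtain ⟨⟨a1, a2, a3, a4⟩, -⟩ := supH ξ hne
      exact hcase ⟨a1.trans a2, by omega⟩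
    rw [finsum_eq_zero_of_forall_eq_zero z1, finsum_eq_zero_of_forall_eq_zero z2,
      finsum_eq_zero_of_forall_eq_zero z3, sub_zero]


set_option synthInstance.maxHeartbeats 400000 in
set_option maxHeartbeats 1600000 in
include hX hL hN in
/-- **the key formula**: `c₁(N) ∩ div_L(s) ∼ c₁(L) ∩ div_N(t)` on the closure of any point `η`. -/
theorem key_formula (n : ℤ) (hn : δ η = n) (hs : s ≠ 0) (ht : t ≠ 0) (hu : ∀ ξ, u ξ ≠ 0)
    (hv : ∀ ξ, v ξ ≠ 0) (γ₁ γ₂ : AlgebraicCycle X ℤ)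
    (h₁ : ⇑γ₁ = Cyc.c1CapFun δ N (Cyc.secDivFun δ L η s) u)
    (h₂ : ⇑γ₂ = Cyc.c1CapFun δ L (Cyc.secDivFun δ N η t) v) :
    Cyc.RatEquiv δ (n - 2) γ₁ γ₂ := by
  classical
  refine ⟨{ξ : X // (η ⤳ ξ ∧ δ ξ + 1 = δ η) ∧ Fall hL hN s t u v δ ξ ≠ 1}, fun i => i.1,
    fun i => Fall hL hN s t u v δ i.1, ?_, ?_, ?_, ?_⟩
  · rintro ⟨ξ, ⟨h, hd⟩, -⟩
    show δ ξ = n - 2 + 1
    omega
  · rintro ⟨ξ, ⟨h, hd⟩, -⟩
    show Fall hL hN s t u v δ ξ ≠ 0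
    rw [Fall_eq hL hN s t u v δ h hd]
    exact Fpt_ne_zero hL hN s t u v δ hX hs ht hu hv h hd
  · intro x
    obtain ⟨V, e, e', hV, hxV, hT, hT'⟩ := exists_affine_triv hL hN x
    have hBad := finite_bad hL hN s t u v δ hX hs ht hu hv hV e hT e' hT'
    refine ⟨V, V.2, hxV, ?_⟩
    refine (hBad.preimage (Subtype.val_injective.injOn)).subset ?_
    rintro ⟨ξ, ⟨h, hd⟩, hF⟩ ⟨y, hy1, hy2⟩
    have hsp : ξ ⤳ y := specializes_iff_mem_closure.mpr hy1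
    refine ⟨hsp.mem_open V.2 hy2, h, hd, Or.inl ?_⟩
    rwa [Fall_eq hL hN s t u v δ h hd] at hF
  · intro x
    have e0 : (γ₁ - γ₂) x = γ₁ x - γ₂ x := rfl
    rw [e0, h₁, h₂, pointwise hL hN s t u v δ hX hs ht hu hv x]
    symm
    rw [finsum_subtype_eq_finsum_cond
      (fun ξ : X => (η ⤳ ξ ∧ δ ξ + 1 = δ η) ∧ Fall hL hN s t u v δ ξ ≠ 1)
      (f := fun ξ : X => Cyc.divFun δ ξ (Fall hL hN s t u v δ ξ) x)]
    apply finsum_congr
    intro ξ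
    rw [finsum_eq_if]
    by_cases hP : η ⤳ ξ ∧ δ ξ + 1 = δ η
    · by_cases hF : Fall hL hN s t u v δ ξ ≠ 1
      · rw [if_pos ⟨hP, hF⟩, if_pos hP]
      · rw [if_neg (fun hc => hF hc.2), if_pos hP]
        rw [not_not] at hF
        rw [hF, divFun_one]
    · rw [if_neg (fun hc => hP hc.1), if_neg hP]

end Groth.Agent.Lib.Helper18.KF12
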