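import Mathlib
import Groth.Agent.Lib.Helper18.KF12
import Groth.Agent.Lib.Helper18.C1Indep2

set_option autoImplicit false
set_option linter.style.haveILetI false
set_option linter.unusedSectionVars false

/-! Key formula, part 13: locally finite sums of key formulas. -/

universe u
open CategoryTheory AlgebraicGeometry TopologicalSpace

namespace Groth.Agent.Lib.Helper18.KF13

open Groth.Agent.Lib.Helper18.KF12 Groth.Agent.Lib.Helper18.KF11 Groth.Agent.Lib.Helper18.KF10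
  Groth.Agent.Lib.Helper29.QCoh Groth.Agent.Lib.Helper18.C1Indep

variable {X : Scheme.{u}} {L N : X.Modules} (hL : PicF.IsInvertible L) (hN : PicF.IsInvertible N)
  (δ : X → ℤ) (hX : Cyc.IsSetup X δ)
  {I : Type u} (η : I → X) (s : (i : I) → Cyc.secFibre L (η i)) (t : (i : I) → Cyc.secFibre N (η i))
  (u : (ξ : X) → Cyc.secFibre N ξ) (v : (ξ : X) → Cyc.secFibre L ξ) (m : I → ℤ)

/-- the condition defining the index set -/
def Cond (p : I × X) : Prop :=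
  (η p.1 ⤳ p.2 ∧ δ p.2 + 1 = δ (η p.1)) ∧ Fall hL hN (s p.1) (t p.1) u v δ p.2 ≠ 1

include hX in
theorem locally_finite (hs : ∀ i, s i ≠ 0) (ht : ∀ i, t i ≠ 0) (hu : ∀ ξ, u ξ ≠ 0)
    (hv : ∀ ξ, v ξ ≠ 0)
    (hlf : ∀ x : X, ∃ U : Set X, IsOpen U ∧ x ∈ U ∧ {i | (closure {η i} ∩ U).Nonempty}.Finite)
    (x : X) :
    ∃ V : X.Opens, x ∈ V ∧ {p : I × X | p.2 ∈ V ∧ Cond hL hN δ η s t u v p}.Finite := by
  obtain ⟨U, hUo, hxU, hfinU⟩ := hlf x
  obtain ⟨V₁, e₁, -, hx₁, hle₁, hT₁⟩ := exists_affine_isTriv hL (W := ⟨U, hUo⟩) x hxU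
  obtain ⟨V, e', hV, hxV, hle, hT'⟩ := exists_affine_isTriv hN (W := V₁) x hx₁
  have hT : IsTriv L V (res L hle e₁) := hT₁.restrict hle
  refine ⟨V, hxV, ?_⟩
  have hBad := fun i => finite_bad hL hN (s i) (t i) u v δ hX (hs i) (ht i) hu hv hV _ hT e' hT'
  have hfin2 := hfinU.biUnion (fun i _ => hBad i)
  refine (hfinU.prod hfin2).subset ?_
  rintro ⟨i, ξ⟩ ⟨hξV, ⟨h, hd⟩, hF⟩
  have hi : i ∈ {i | (closure {η i} ∩ U).Nonempty} :=
    ⟨ξ, specializes_iff_mem_closure.mp h, hle₁ (hle hξV)⟩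
  refine ⟨hi, Set.mem_biUnion hi ⟨hξV, h, hd, Or.inl ?_⟩⟩
  rwa [Fall_eq hL hN (s i) (t i) u v δ h hd] at hF

set_option synthInstance.maxHeartbeats 400000 in
set_option maxHeartbeats 1600000 in
include hX hL hN in
/-- a locally finite integral combination of key formulas is rationally equivalent to zero -/
theorem ratEquivZero_sum (n : ℤ) (hn : ∀ i, δ (η i) = n) (hs : ∀ i, s i ≠ 0) (ht : ∀ i, t i ≠ 0)
    (hu : ∀ ξ, u ξ ≠ 0) (hv : ∀ ξ, v ξ ≠ 0)
    (hlf : ∀ x : X, ∃ U : Set X, IsOpen U ∧ x ∈ U ∧ {i | (closure {η i} ∩ U).Nonempty}.Finite)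
    (Γ : AlgebraicCycle X ℤ)
    (hΓ : ∀ x, Γ x = ∑ᶠ i, m i *
      (Cyc.c1CapFun δ N (Cyc.secDivFun δ L (η i) (s i)) u x -
        Cyc.c1CapFun δ L (Cyc.secDivFun δ N (η i) (t i)) v x)) :
    Cyc.RatEquivZero δ (n - 2) Γ := by
  classical
  refine ⟨{p : I × X // Cond hL hN δ η s t u v p}, fun j => j.1.2,
    fun j => (Fall hL hN (s j.1.1) (t j.1.1) u v δ j.1.2) ^ (m j.1.1), ?_, ?_, ?_, ?_⟩
  · rintro ⟨⟨i, ξ⟩, ⟨h, hd⟩, -⟩
    show δ ξ = n - 2 + 1
    change δ ξ + 1 = δ (η i) at hd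
    have := hn i
    omega
  · rintro ⟨⟨i, ξ⟩, ⟨h, hd⟩, -⟩
    apply zpow_ne_zero
    show Fall hL hN (s i) (t i) u v δ ξ ≠ 0
    rw [Fall_eq hL hN (s i) (t i) u v δ h hd]
    exact Fpt_ne_zero hL hN (s i) (t i) u v δ hX (hs i) (ht i) hu hv h hd
  · intro x
    obtain ⟨V, hxV, hfin⟩ := locally_finite hL hN δ hX η s t u v hs ht hu hv hlf x
    refine ⟨V, V.2, hxV, ?_⟩
    refine (hfin.preimage (Subtype.val_injective.injOn)).subset ?_
    rintro ⟨⟨i, ξ⟩, hc⟩ ⟨y, hy1, hy2⟩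
    have hsp : ξ ⤳ y := specializes_iff_mem_closure.mpr hy1
    exact ⟨hsp.mem_open V.2 hy2, hc⟩
  · intro x
    obtain ⟨V, hxV, hfin⟩ := locally_finite hL hN δ hX η s t u v hs ht hu hv hlf x
    rw [hΓ]
    have e1 : ∀ i, m i * (Cyc.c1CapFun δ N (Cyc.secDivFun δ L (η i) (s i)) u x -
        Cyc.c1CapFun δ L (Cyc.secDivFun δ N (η i) (t i)) v x) =
        ∑ᶠ ξ : X, m i * (if η i ⤳ ξ ∧ δ ξ + 1 = δ (η i) then
          Cyc.divFun δ ξ (Fall hL hN (s i) (t i) u v δ ξ) x else 0) := by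
      intro i
      rw [pointwise hL hN (s i) (t i) u v δ hX (hs i) (ht i) hu hv x, mul_finsum]
    rw [finsum_congr e1]
    set g : I × X → ℤ := fun p => m p.1 * (if η p.1 ⤳ p.2 ∧ δ p.2 + 1 = δ (η p.1) then
          Cyc.divFun δ p.2 (Fall hL hN (s p.1) (t p.1) u v δ p.2) x else 0) with hg
    have hsupp : (Function.support g).Finite := by
      refine hfin.subset ?_
      rintro ⟨i, ξ⟩ hp
      rw [Function.mem_support, hg] at hp
      have hp2 := right_ne_zero_of_mul hp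
      by_cases hP : η i ⤳ ξ ∧ δ ξ + 1 = δ (η i)
      · simp only [if_pos hP] at hp2
        obtain ⟨hc', -⟩ := divFun_ne_zero δ hp2
        refine ⟨hc'.1.mem_open V.2 hxV, hP, ?_⟩
        intro h1
        rw [h1, divFun_one] at hp2
        exact hp2 rfl
      · simp only [if_neg hP] at hp2
        exact absurd rfl hp2
    have e2 : ∑ᶠ i, ∑ᶠ ξ : X, m i * (if η i ⤳ ξ ∧ δ ξ + 1 = δ (η i) then
          Cyc.divFun δ ξ (Fall hL hN (s i) (t i) u v δ ξ) x else 0) = ∑ᶠ p, g p :=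
      (finsum_curry g hsupp).symm
    rw [e2]
    symm
    rw [finsum_subtype_eq_finsum_cond (fun p : I × X => Cond hL hN δ η s t u v p)
      (f := fun p : I × X => Cyc.divFun δ p.2
        ((Fall hL hN (s p.1) (t p.1) u v δ p.2) ^ (m p.1)) x)]
    apply finsum_congr
    rintro ⟨i, ξ⟩
    rw [finsum_eq_if, hg]
    by_cases hP : η i ⤳ ξ ∧ δ ξ + 1 = δ (η i)
    · by_cases hF : Fall hL hN (s i) (t i) u v δ ξ ≠ 1
      · rw [if_pos (show Cond hL hN δ η s t u v (i, ξ) from ⟨hP, hF⟩)]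
        simp only [if_pos hP]
        refine divFun_zpow δ hX ξ _ ?_ _ x
        rw [Fall_eq hL hN (s i) (t i) u v δ hP.1 hP.2]
        exact Fpt_ne_zero hL hN (s i) (t i) u v δ hX (hs i) (ht i) hu hv hP.1 hP.2
      · rw [if_neg (fun hc : Cond hL hN δ η s t u v (i, ξ) => hF hc.2)]
        simp only [if_pos hP]
        rw [not_not] at hF
        rw [hF, divFun_one, mul_zero]
    · rw [if_neg (fun hc : Cond hL hN δ η s t u v (i, ξ) => hP hc.1)]
      simp only [if_neg hP, mul_zero]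

end Groth.Agent.Lib.Helper18.KF13
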