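import Mathlib
import Groth.Agent.Lib.Helper18.KF13
import Groth.Prelude.Def_Bivar

set_option autoImplicit false
set_option linter.style.haveILetI false
set_option linter.unusedSectionVars false

/-! Key formula, part 14: `c₁(L) ∩ c₁(N) ∩ α ∼ c₁(N) ∩ c₁(L) ∩ α`. -/

universe u
open CategoryTheory AlgebraicGeometry TopologicalSpace

namespace Groth.Agent.Lib.Helper18.KF14

open Groth.Agent.Lib.Helper18.KF12 Groth.Agent.Lib.Helper18.KF11 Groth.Agent.Lib.Helper18.KF10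
  Groth.Agent.Lib.Helper29.QCoh Groth.Agent.Lib.Helper18.C1Indep Groth.Agent.Lib.Helper18.KF13

theorem finsum_comm' {α β : Type*} (F : α → β → ℤ)
    (h : (Function.support (fun p : α × β => F p.1 p.2)).Finite) :
    ∑ᶠ a, ∑ᶠ b, F a b = ∑ᶠ b, ∑ᶠ a, F a b := by
  have h' : (Function.support (fun q : β × α => F q.2 q.1)).Finite := by
    refine (h.image Prod.swap).subset ?_
    rintro ⟨b, a⟩ hq
    exact ⟨(a, b), hq, rfl⟩
  rw [← finsum_curry (fun p : α × β => F p.1 p.2) h,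
    ← finsum_curry (fun q : β × α => F q.2 q.1) h']
  exact (finsum_comp_equiv (Equiv.prodComm β α) (f := fun p : α × β => F p.1 p.2)).symm

theorem finsum_finsum_mul_comm {ι Y : Type*} (c : ι → Y → ℤ) (e : Y → ℤ)
    (h : {p : ι × Y | c p.1 p.2 * e p.2 ≠ 0}.Finite) :
    ∑ᶠ ξ, (∑ᶠ i, c i ξ) * e ξ = ∑ᶠ i, ∑ᶠ ξ, c i ξ * e ξ := by
  have e1 : ∀ ξ, (∑ᶠ i, c i ξ) * e ξ = ∑ᶠ i, c i ξ * e ξ := fun ξ => finsum_mul _ _
  rw [finsum_congr e1]
  refine finsum_comm' (fun ξ i => c i ξ * e ξ) ?_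
  refine (h.image Prod.swap).subset ?_
  rintro ⟨ξ, i⟩ hq
  exact ⟨(i, ξ), hq, rfl⟩

variable {X : Scheme.{u}} (δ : X → ℤ) (hX : Cyc.IsSetup X δ)

include hX in
/-- expanding an iterated cap product -/
theorem c1Cap_c1Cap {M M' : X.Modules} (hM : PicF.IsInvertible M) (hM' : PicF.IsInvertible M')
    (α : AlgebraicCycle X ℤ) (σ : (ξ : X) → Cyc.secFibre M ξ) (σ' : (ξ : X) → Cyc.secFibre M' ξ)
    (hσ : ∀ ξ, σ ξ ≠ 0) (hσ' : ∀ ξ, σ' ξ ≠ 0) (x : X) :
    Cyc.c1CapFun δ M' (Cyc.c1CapFun δ M ⇑α σ) σ' x =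
      ∑ᶠ η, α η * Cyc.c1CapFun δ M' (Cyc.secDivFun δ M η (σ η)) σ' x := by
  unfold Cyc.c1CapFun
  obtain ⟨V, e, e', hV, hxV, hT, hT'⟩ := exists_affine_triv hM hM' x
  have hBad := fun η => finite_bad hM hM' (σ η) (σ' η) σ' σ δ hX (hσ η) (hσ' η) hσ' hσ hV e hT
    e' hT'
  have hE := Bivar.finite_support_specializes α x
  have hfin : {p : X × X | (α p.1 * Cyc.secDivFun δ M p.1 (σ p.1) p.2) *
      Cyc.secDivFun δ M' p.2 (σ' p.2) x ≠ 0}.Finite := by
    refine (hE.prod (hE.biUnion (fun η _ => hBad η))).subset ?_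
    rintro ⟨η, ξ⟩ hp
    have h1 := left_ne_zero_of_mul hp
    have h2 := right_ne_zero_of_mul hp
    have hα := left_ne_zero_of_mul h1
    obtain ⟨hc, ho⟩ := secDivFun_ne_zero δ (right_ne_zero_of_mul h1)
    obtain ⟨hc', -⟩ := secDivFun_ne_zero δ h2
    have hη : η ∈ {ξ : X | ξ ⤳ x ∧ α ξ ≠ 0} := ⟨hc.1.trans hc'.1, hα⟩
    exact ⟨hη, Set.mem_biUnion hη ⟨hc'.1.mem_open V.2 hxV, hc.1, hc.2, Or.inr (Or.inl ho)⟩⟩
  rw [finsum_finsum_mul_comm (fun η ξ => α η * Cyc.secDivFun δ M η (σ η) ξ)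
    (fun ξ => Cyc.secDivFun δ M' ξ (σ' ξ) x) hfin]
  apply finsum_congr
  intro η
  rw [mul_finsum]
  apply finsum_congr
  intro ξ
  ring


set_option synthInstance.maxHeartbeats 400000 in
set_option maxHeartbeats 1600000 in
include hX in
/-- **commutativity of first Chern classes** -/
theorem c1_comm {L N : X.Modules} (hL : PicF.IsInvertible L) (hN : PicF.IsInvertible N) (k : ℤ)
    (α : AlgebraicCycle X ℤ) (hα : α ∈ Cyc.Zk X δ (k + 2))
    (sL sL' : (ξ : X) → Cyc.secFibre L ξ) (sN sN' : (ξ : X) → Cyc.secFibre N ξ)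
    (hsL : ∀ ξ, sL ξ ≠ 0) (hsL' : ∀ ξ, sL' ξ ≠ 0) (hsN : ∀ ξ, sN ξ ≠ 0) (hsN' : ∀ ξ, sN' ξ ≠ 0)
    (γ₁ γ₂ : AlgebraicCycle X ℤ)
    (h₁ : ⇑γ₁ = Cyc.c1CapFun δ L (Cyc.c1CapFun δ N ⇑α sN) sL)
    (h₂ : ⇑γ₂ = Cyc.c1CapFun δ N (Cyc.c1CapFun δ L ⇑α sL') sN') :
    Cyc.RatEquiv δ k γ₁ γ₂ := by
  classical
  have hk : k + 2 - 2 = k := by ring
  unfold Cyc.RatEquiv
  rw [← hk]
  refine ratEquivZero_sum (L := N) (N := L) hN hL δ hX (I := {η : X // α η ≠ 0})
    (fun i => i.1) (fun i => sN i.1) (fun i => sL' i.1) sL sN' (fun i => α i.1) (k + 2) ?_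
    (fun i => hsN i.1) (fun i => hsL' i.1) hsL hsN' ?_ (γ₁ - γ₂) ?_
  · intro i
    by_contra hne
    exact i.2 (hα i.1 hne)
  · intro x
    obtain ⟨t, ht, hfin⟩ := α.supportLocallyFiniteWithinDomain' x (Set.mem_univ x)
    refine ⟨interior t, isOpen_interior, mem_interior_iff_mem_nhds.mpr ht, ?_⟩
    have hfin' : {i : {ξ : X // α ξ ≠ 0} | i.1 ∈ t ∩ Function.support ⇑α}.Finite :=
      hfin.preimage (Subtype.val_injective.injOn)
    refine hfin'.subset ?_
    rintro i ⟨y, hy1, hy2⟩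
    have hsp : i.1 ⤳ y := specializes_iff_mem_closure.mpr hy1
    exact ⟨interior_subset (hsp.mem_open isOpen_interior hy2), i.2⟩
  · intro x
    have e0 : (γ₁ - γ₂) x = γ₁ x - γ₂ x := rfl
    rw [e0, h₁, h₂, c1Cap_c1Cap δ hX hN hL α sN sL hsN hsL x,
      c1Cap_c1Cap δ hX hL hN α sL' sN' hsL' hsN' x]
    have hE := Bivar.finite_support_specializes α x
    have sup1 : (Function.support fun η =>
        α η * Cyc.c1CapFun δ L (Cyc.secDivFun δ N η (sN η)) sL x).Finite := by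
      refine hE.subset ?_
      intro η hη
      rw [Function.mem_support] at hη
      refine ⟨?_, left_ne_zero_of_mul hη⟩
      have h2 := right_ne_zero_of_mul hη
      by_contra hns
      apply h2
      unfold Cyc.c1CapFun
      apply finsum_eq_zero_of_forall_eq_zero
      intro ξ
      by_contra hne
      obtain ⟨hc, -⟩ := secDivFun_ne_zero δ (left_ne_zero_of_mul hne)
      obtain ⟨hc', -⟩ := secDivFun_ne_zero δ (right_ne_zero_of_mul hne)
      exact hns (hc.1.trans hc'.1)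
    have sup2 : (Function.support fun η =>
        α η * Cyc.c1CapFun δ N (Cyc.secDivFun δ L η (sL' η)) sN' x).Finite := by
      refine hE.subset ?_
      intro η hη
      rw [Function.mem_support] at hη
      refine ⟨?_, left_ne_zero_of_mul hη⟩
      have h2 := right_ne_zero_of_mul hη
      by_contra hns
      apply h2
      unfold Cyc.c1CapFun
      apply finsum_eq_zero_of_forall_eq_zero
      intro ξ
      by_contra hne
      obtain ⟨hc, -⟩ := secDivFun_ne_zero δ (left_ne_zero_of_mul hne)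
      obtain ⟨hc', -⟩ := secDivFun_ne_zero δ (right_ne_zero_of_mul hne)
      exact hns (hc.1.trans hc'.1)
    rw [← finsum_sub_distrib sup1 sup2]
    symm
    rw [finsum_subtype_eq_finsum_cond (fun η : X => α η ≠ 0)
      (f := fun η : X => α η * (Cyc.c1CapFun δ L (Cyc.secDivFun δ N η (sN η)) sL x -
        Cyc.c1CapFun δ N (Cyc.secDivFun δ L η (sL' η)) sN' x))]
    apply finsum_congr
    intro η
    rw [finsum_eq_if]
    by_cases h0 : α η ≠ 0
    · rw [if_pos h0]; ring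
    · rw [if_neg h0]
      rw [not_not] at h0
      rw [h0]; ring

end Groth.Agent.Lib.Helper18.KF14
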