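import Mathlib
import Groth.Agent.Lib.Helper18.KF14

set_option autoImplicit false
set_option linter.style.haveILetI false
set_option linter.unusedSectionVars false

/-! Key formula, part 15: `c₁(L) ∩ -` factors through rational equivalence. -/

universe u
open CategoryTheory AlgebraicGeometry TopologicalSpace

namespace Groth.Agent.Lib.Helper18.KF15

open Groth.Agent.Lib.Helper18.KF12 Groth.Agent.Lib.Helper18.KF11 Groth.Agent.Lib.Helper18.KF10
  Groth.Agent.Lib.Helper29.QCoh Groth.Agent.Lib.Helper18.C1Indep Groth.Agent.Lib.Helper18.KF13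
  Groth.Agent.Lib.Helper18.KF14 Groth.Agent.Lib.Helper18.InvStalk

variable {X : Scheme.{u}} (δ : X → ℤ) (hX : Cyc.IsSetup X δ) {L : X.Modules}
  (hL : PicF.IsInvertible L)

theorem smul_ne_zero_of_isUnit {η : X} (σ : Cyc.secFibre L η) (hσ : σ ≠ 0)
    (φ : X.presheaf.stalk η) (hφ : IsUnit φ) : φ • σ ≠ 0 := by
  intro h0
  apply hσ
  obtain ⟨w, hw⟩ := hφ.exists_left_inv
  have : σ = w • (φ • σ) := by rw [smul_smul, hw, one_smul]
  rw [this, h0, smul_zero]

include hX hL in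
/-- the divisor of `φ • σ` -/
theorem secDivFun_smul {η : X} (σ : Cyc.secFibre L η) (hσ : σ ≠ 0)
    (φ : X.presheaf.stalk η) (hφ : IsUnit φ) (ξ : X) :
    Cyc.secDivFun δ L η (φ • σ) ξ =
      Cyc.secDivFun δ L η σ ξ + Cyc.divFun δ η ((X.residue η).hom φ) ξ := by
  unfold Cyc.secDivFun Cyc.divFun
  by_cases hc : η ⤳ ξ ∧ δ ξ + 1 = δ η
  · rw [dif_pos hc, dif_pos hc, dif_pos hc]
    obtain ⟨g, hg⟩ := exists_generator hL η
    obtain ⟨ψ, hψ⟩ := exists_smul_mk_eq (IsLocalRing.maximalIdeal (X.presheaf.stalk η)) g hg σ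
    have hψ0 : (X.residue η).hom ψ ≠ 0 := by
      intro h0
      have hmem : ψ ∈ IsLocalRing.maximalIdeal (X.presheaf.stalk η) :=
        (IsLocalRing.residue_eq_zero_iff _).mp h0
      apply hσ
      rw [hψ, ← Submodule.Quotient.mk_smul, Submodule.Quotient.mk_eq_zero]
      exact Submodule.smul_mem_smul hmem trivial
    have e1 : φ • σ = (φ * ψ) • (Submodule.Quotient.mk g : Cyc.secFibre L η) := by
      rw [hψ, smul_smul]
    have h3 := secOrdAt_sub δ hX hL ξ η hc.1 hc.2 g hg (φ • σ) σ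
      (smul_ne_zero_of_isUnit σ hσ φ hφ) hσ (φ * ψ) ψ e1 hψ
    rw [map_mul, mul_div_assoc, div_self hψ0, mul_one] at h3
    linarith
  · rw [dif_neg hc, dif_neg hc, dif_neg hc, add_zero]


set_option synthInstance.maxHeartbeats 400000 in
set_option maxHeartbeats 1600000 in
include hX hL in
/-- **`c₁(L) ∩ -` kills cycles rationally equivalent to zero** -/
theorem c1Cap_ratEquivZero (k : ℤ) (α : AlgebraicCycle X ℤ)
    (h0 : Cyc.RatEquivZero δ (k + 1) α) (s : (ξ : X) → Cyc.secFibre L ξ) (hs : ∀ ξ, s ξ ≠ 0)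
    (γ : AlgebraicCycle X ℤ) (hγ : ⇑γ = Cyc.c1CapFun δ L ⇑α s) : Cyc.RatEquivZero δ k γ := by
  classical
  haveI : IsLocallyNoetherian X := hX.1
  obtain ⟨ι, η, f, hη, hf, hlf, hα⟩ := h0
  have hk : k + 2 - 2 = k := by ring
  rw [← hk]
  choose φ hφ using fun i => X.residue_surjective (η i) (f i)
  have hφu : ∀ i, IsUnit (φ i) := by
    intro i
    by_contra hnu
    apply hf i
    rw [← hφ i]
    exact (IsLocalRing.residue_eq_zero_iff _).mpr hnu
  refine ratEquivZero_sum (L := L) (N := L) hL hL δ hX (I := ι) η (fun i => s (η i))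
    (fun i => φ i • s (η i)) s s (fun _ => -1) (k + 2) (fun i => by rw [hη i]; ring)
    (fun i => hs (η i)) (fun i => smul_ne_zero_of_isUnit _ (hs (η i)) _ (hφu i)) hs hs hlf γ ?_
  intro x
  -- neighbourhoods
  obtain ⟨U, hUo, hxU, hfinU⟩ := hlf x
  obtain ⟨V, e, hV, hxV, hle, hT⟩ := exists_affine_isTriv hL (W := ⟨U, hUo⟩) x hxU
  -- finiteness statements
  have fin1 : ∀ i, (Function.support fun ξ =>
      Cyc.secDivFun δ L (η i) (s (η i)) ξ * Cyc.secDivFun δ L ξ (s ξ) x).Finite := by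
    intro i
    have hBad := finite_bad hL hL (s (η i)) (s (η i)) s s δ hX (hs _) (hs _) hs hs hV e hT e hT
    refine hBad.subset ?_
    intro ξ hξ
    rw [Function.mem_support] at hξ
    obtain ⟨hc, ho⟩ := secDivFun_ne_zero δ (left_ne_zero_of_mul hξ)
    obtain ⟨hc', -⟩ := secDivFun_ne_zero δ (right_ne_zero_of_mul hξ)
    exact ⟨hc'.1.mem_open V.2 hxV, hc.1, hc.2, Or.inr (Or.inl ho)⟩
  have fin2 : ∀ i, (Function.support fun ξ =>
      Cyc.divFun δ (η i) (f i) ξ * Cyc.secDivFun δ L ξ (s ξ) x).Finite := by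
    intro i
    refine (Groth.Agent.Lib.Helper18.DivLocFin.finite_inter_support_divFun δ hX (η i) (f i) (hf i)
      hV).subset ?_
    intro ξ hξ
    rw [Function.mem_support] at hξ
    obtain ⟨hc', -⟩ := secDivFun_ne_zero δ (right_ne_zero_of_mul hξ)
    exact ⟨hc'.1.mem_open V.2 hxV, left_ne_zero_of_mul hξ⟩
  have fin3 : {p : ι × X | Cyc.divFun δ (η p.1) (f p.1) p.2 *
      Cyc.secDivFun δ L p.2 (s p.2) x ≠ 0}.Finite := by
    refine (hfinU.prod (hfinU.biUnion (fun i _ => fin2 i))).subset ?_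
    rintro ⟨i, ξ⟩ hp
    obtain ⟨hc, -⟩ := divFun_ne_zero δ (left_ne_zero_of_mul hp)
    obtain ⟨hc', -⟩ := secDivFun_ne_zero δ (right_ne_zero_of_mul hp)
    have hi : i ∈ {i | (closure {η i} ∩ U).Nonempty} :=
      ⟨x, specializes_iff_mem_closure.mp (hc.1.trans hc'.1), hxU⟩
    exact ⟨hi, Set.mem_biUnion hi hp⟩
  -- the left side
  have eL : γ x = ∑ᶠ i, ∑ᶠ ξ, Cyc.divFun δ (η i) (f i) ξ * Cyc.secDivFun δ L ξ (s ξ) x := by
    rw [hγ]
    unfold Cyc.c1CapFun
    have e1 : ∀ ξ, α ξ * Cyc.secDivFun δ L ξ (s ξ) x =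
        (∑ᶠ i, Cyc.divFun δ (η i) (f i) ξ) * Cyc.secDivFun δ L ξ (s ξ) x := by
      intro ξ; rw [hα ξ]
    rw [finsum_congr e1]
    exact finsum_finsum_mul_comm (fun i ξ => Cyc.divFun δ (η i) (f i) ξ)
      (fun ξ => Cyc.secDivFun δ L ξ (s ξ) x) fin3
  rw [eL]
  apply finsum_congr
  intro i
  unfold Cyc.c1CapFun
  have e2 : ∀ ξ, Cyc.secDivFun δ L (η i) (φ i • s (η i)) ξ * Cyc.secDivFun δ L ξ (s ξ) x =
      Cyc.secDivFun δ L (η i) (s (η i)) ξ * Cyc.secDivFun δ L ξ (s ξ) x +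
        Cyc.divFun δ (η i) (f i) ξ * Cyc.secDivFun δ L ξ (s ξ) x := by
    intro ξ
    rw [secDivFun_smul δ hX hL (s (η i)) (hs _) (φ i) (hφu i) ξ, hφ i, add_mul]
  rw [finsum_congr e2, finsum_add_distrib (fin1 i) (fin2 i)]
  ring

end Groth.Agent.Lib.Helper18.KF15
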