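import Mathlib
import Groth.Agent.Lib.Helper18.KF15
import Groth.Agent.Lib.Helper18.ClImmRat

set_option autoImplicit false
set_option linter.style.haveILetI false
set_option linter.unusedSectionVars false

/-! Key formula, part 16: rational equivalence to zero through families supported in a set, and
transfer to a closed subscheme. -/

universe u
open CategoryTheory AlgebraicGeometry TopologicalSpace

namespace Groth.Agent.Lib.Helper18.KF16

open Groth.Agent.Lib.Helper18.KF12 Groth.Agent.Lib.Helper18.KF11 Groth.Agent.Lib.Helper18.KF10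
  Groth.Agent.Lib.Helper29.QCoh Groth.Agent.Lib.Helper18.C1Indep Groth.Agent.Lib.Helper18.KF13
  Groth.Agent.Lib.Helper18.KF14 Groth.Agent.Lib.Helper18.InvStalk Groth.Agent.Lib.Helper18.KF15

/-- rationally equivalent to zero through a family of points of `S` -/
def RatEquivZeroIn {X : Scheme.{u}} (S : Set X) (δ : X → ℤ) (k : ℤ) (α : X → ℤ) : Prop :=
  ∃ (ι : Type u) (ξ : ι → X) (f : (i : ι) → X.residueField (ξ i)),
    (∀ i, δ (ξ i) = k + 1) ∧ (∀ i, f i ≠ 0) ∧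
    (∀ x : X, ∃ U : Set X, IsOpen U ∧ x ∈ U ∧ {i | (closure {ξ i} ∩ U).Nonempty}.Finite) ∧
    (∀ x : X, α x = ∑ᶠ i, Cyc.divFun δ (ξ i) (f i) x) ∧ ∀ i, ξ i ∈ S

theorem RatEquivZeroIn.ratEquivZero {X : Scheme.{u}} {S : Set X} {δ : X → ℤ} {k : ℤ}
    {α : AlgebraicCycle X ℤ} (h : RatEquivZeroIn S δ k ⇑α) : Cyc.RatEquivZero δ k α := by
  obtain ⟨ι, ξ, f, h1, h2, h3, h4, -⟩ := h
  exact ⟨ι, ξ, f, h1, h2, h3, h4⟩

section Sum

variable {X : Scheme.{u}} {L N : X.Modules} (hL : PicF.IsInvertible L) (hN : PicF.IsInvertible N)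
  (δ : X → ℤ) (hX : Cyc.IsSetup X δ)
  {I : Type u} (η : I → X) (s : (i : I) → Cyc.secFibre L (η i)) (t : (i : I) → Cyc.secFibre N (η i))
  (u : (ξ : X) → Cyc.secFibre N ξ) (v : (ξ : X) → Cyc.secFibre L ξ) (m : I → ℤ)

set_option synthInstance.maxHeartbeats 400000 in
set_option maxHeartbeats 1600000 in
include hX hL hN in
/-- a locally finite integral combination of key formulas is rationally equivalent to zero,
through a family supported where the rational functions are nontrivial -/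
theorem ratEquivZeroIn_sum (S : Set X) (hS : ∀ p, Cond hL hN δ η s t u v p → p.2 ∈ S)
    (n : ℤ) (hn : ∀ i, δ (η i) = n) (hs : ∀ i, s i ≠ 0) (ht : ∀ i, t i ≠ 0)
    (hu : ∀ ξ, u ξ ≠ 0) (hv : ∀ ξ, v ξ ≠ 0)
    (hlf : ∀ x : X, ∃ U : Set X, IsOpen U ∧ x ∈ U ∧ {i | (closure {η i} ∩ U).Nonempty}.Finite)
    (Γ : X → ℤ)
    (hΓ : ∀ x, Γ x = ∑ᶠ i, m i *
      (Cyc.c1CapFun δ N (Cyc.secDivFun δ L (η i) (s i)) u x -
        Cyc.c1CapFun δ L (Cyc.secDivFun δ N (η i) (t i)) v x)) :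
    RatEquivZeroIn S δ (n - 2) Γ := by
  classical
  refine ⟨{p : I × X // Cond hL hN δ η s t u v p}, fun j => j.1.2,
    fun j => (Fall hL hN (s j.1.1) (t j.1.1) u v δ j.1.2) ^ (m j.1.1), ?_, ?_, ?_, ?_,
    fun j => hS j.1 j.2⟩
  · rintro ⟨⟨i, ξ⟩, ⟨h, hd⟩, -⟩
    show δ ξ = n - 2 + 1
    change δ ξ + 1 = δ (η i) at hd
    have := hn i
    omega
  · rintro ⟨⟨i, ξ⟩, ⟨h, hd⟩, -⟩
    apply zpow_ne_zero
    show Fall hL hN (s i) (t i) u v δ ξ ≠ 0
    rw [Fall_eq hL hN (s i) (t i) u v δ h hd]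
    exact Fpt_ne_zero hL hN (s i) (t i) u v δ hX (hs i) (ht i) hu hv h hd
  · intro x
    obtain ⟨V, hxV, hfin⟩ := locally_finite hL hN δ hX η s t u v hs ht hu hv hlf x
    refine ⟨V, V.2, hxV, ?_⟩
    refine (hfin.preimage (Subtype.val_injective.injOn)).subset ?_
    rintro ⟨⟨i, ξ⟩, hc⟩ ⟨y, hy1, hy2⟩
    have hsp : ξ ⤳ y := specializes_iff_mem_closure.mpr hy1
    exact ⟨hsp.mem_open V.2 hy2, hc⟩
  · intro x
    obtain ⟨V, hxV, hfin⟩ := locally_finite hL hN δ hX η s t u v hs ht hu hv hlf x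
    rw [hΓ]
    have e1 : ∀ i, m i * (Cyc.c1CapFun δ N (Cyc.secDivFun δ L (η i) (s i)) u x -
        Cyc.c1CapFun δ L (Cyc.secDivFun δ N (η i) (t i)) v x) =
        ∑ᶠ ξ : X, m i * (if η i ⤳ ξ ∧ δ ξ + 1 = δ (η i) then
          Cyc.divFun δ ξ (Fall hL hN (s i) (t i) u v δ ξ) x else 0) := by
      intro i
      rw [pointwise hL hN (s i) (t i) u v δ hX (hs i) (ht i) hu hv x, mul_finsum]
    rw [finsum_congr e1]
    set g : I × X → ℤ := fun p => m p.1 * (if η p.1 ⤳ p.2 ∧ δ p.2 + 1 = δ (η p.1) then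
          Cyc.divFun δ p.2 (Fall hL hN (s p.1) (t p.1) u v δ p.2) x else 0) with hg
    have hsupp : (Function.support g).Finite := by
      refine hfin.subset ?_
      rintro ⟨i, ξ⟩ hp
      rw [Function.mem_support, hg] at hp
      have hp2 := right_ne_zero_of_mul hp
      by_cases hP : η i ⤳ ξ ∧ δ ξ + 1 = δ (η i)
      · simp only [if_pos hP] at hp2
        obtain ⟨hc', -⟩ := divFun_ne_zero δ hp2
        refine ⟨hc'.1.mem_open V.2 hxV, hP, ?_⟩
        intro h1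
        rw [h1, divFun_one] at hp2
        exact hp2 rfl
      · simp only [if_neg hP] at hp2
        exact absurd rfl hp2
    have e2 : ∑ᶠ i, ∑ᶠ ξ : X, m i * (if η i ⤳ ξ ∧ δ ξ + 1 = δ (η i) then
          Cyc.divFun δ ξ (Fall hL hN (s i) (t i) u v δ ξ) x else 0) = ∑ᶠ p, g p :=
      (finsum_curry g hsupp).symm
    rw [e2]
    symm
    rw [finsum_subtype_eq_finsum_cond (fun p : I × X => Cond hL hN δ η s t u v p)
      (f := fun p : I × X => Cyc.divFun δ p.2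
        ((Fall hL hN (s p.1) (t p.1) u v δ p.2) ^ (m p.1)) x)]
    apply finsum_congr
    rintro ⟨i, ξ⟩
    rw [finsum_eq_if, hg]
    by_cases hP : η i ⤳ ξ ∧ δ ξ + 1 = δ (η i)
    · by_cases hF : Fall hL hN (s i) (t i) u v δ ξ ≠ 1
      · rw [if_pos (show Cond hL hN δ η s t u v (i, ξ) from ⟨hP, hF⟩)]
        simp only [if_pos hP]
        refine divFun_zpow δ hX ξ _ ?_ _ x
        rw [Fall_eq hL hN (s i) (t i) u v δ hP.1 hP.2]
        exact Fpt_ne_zero hL hN (s i) (t i) u v δ hX (hs i) (ht i) hu hv hP.1 hP.2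
      · rw [if_neg (fun hc : Cond hL hN δ η s t u v (i, ξ) => hF hc.2)]
        simp only [if_pos hP]
        rw [not_not] at hF
        rw [hF, divFun_one, mul_zero]
    · rw [if_neg (fun hc : Cond hL hN δ η s t u v (i, ξ) => hP hc.1)]
      simp only [if_neg hP, mul_zero]

end Sum

section Cap

variable {X : Scheme.{u}} (δ : X → ℤ) (hX : Cyc.IsSetup X δ) {L : X.Modules}
  (hL : PicF.IsInvertible L)

set_option synthInstance.maxHeartbeats 400000 in
set_option maxHeartbeats 1600000 in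
include hX hL in
/-- `c₁(L) ∩ -` kills cycles rationally equivalent to zero, with control of the support -/
theorem c1Cap_ratEquivZeroIn (k : ℤ) (α : AlgebraicCycle X ℤ)
    (h0 : Cyc.RatEquivZero δ (k + 1) α) (s : (ξ : X) → Cyc.secFibre L ξ) (hs : ∀ ξ, s ξ ≠ 0)
    (S : Set X)
    (hS : ∀ (η ξ : X) (φ : X.presheaf.stalk η), IsUnit φ → η ⤳ ξ → δ ξ + 1 = δ η → ξ ∉ S →
      Fall hL hL (s η) (φ • s η) s s δ ξ = 1) :
    RatEquivZeroIn S δ k (Cyc.c1CapFun δ L ⇑α s) := by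
  classical
  haveI : IsLocallyNoetherian X := hX.1
  obtain ⟨ι, η, f, hη, hf, hlf, hα⟩ := h0
  have hk : k + 2 - 2 = k := by ring
  rw [← hk]
  choose φ hφ using fun i => X.residue_surjective (η i) (f i)
  have hφu : ∀ i, IsUnit (φ i) := by
    intro i
    by_contra hnu
    apply hf i
    rw [← hφ i]
    exact (IsLocalRing.residue_eq_zero_iff _).mpr hnu
  refine ratEquivZeroIn_sum (L := L) (N := L) hL hL δ hX (I := ι) η (fun i => s (η i))
    (fun i => φ i • s (η i)) s s (fun _ => -1) S ?_ (k + 2) (fun i => by rw [hη i]; ring)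
    (fun i => hs (η i)) (fun i => smul_ne_zero_of_isUnit _ (hs (η i)) _ (hφu i)) hs hs hlf _ ?_
  · rintro ⟨i, ξ⟩ ⟨⟨h, hd⟩, hF⟩
    by_contra hnS
    exact hF (hS (η i) ξ (φ i) (hφu i) h hd hnS)
  intro x
  -- neighbourhoods
  obtain ⟨U, hUo, hxU, hfinU⟩ := hlf x
  obtain ⟨V, e, hV, hxV, hle, hT⟩ := exists_affine_isTriv hL (W := ⟨U, hUo⟩) x hxU
  -- finiteness statements
  have fin1 : ∀ i, (Function.support fun ξ =>
      Cyc.secDivFun δ L (η i) (s (η i)) ξ * Cyc.secDivFun δ L ξ (s ξ) x).Finite := by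
    intro i
    have hBad := finite_bad hL hL (s (η i)) (s (η i)) s s δ hX (hs _) (hs _) hs hs hV e hT e hT
    refine hBad.subset ?_
    intro ξ hξ
    rw [Function.mem_support] at hξ
    obtain ⟨hc, ho⟩ := secDivFun_ne_zero δ (left_ne_zero_of_mul hξ)
    obtain ⟨hc', -⟩ := secDivFun_ne_zero δ (right_ne_zero_of_mul hξ)
    exact ⟨hc'.1.mem_open V.2 hxV, hc.1, hc.2, Or.inr (Or.inl ho)⟩
  have fin2 : ∀ i, (Function.support fun ξ =>
      Cyc.divFun δ (η i) (f i) ξ * Cyc.secDivFun δ L ξ (s ξ) x).Finite := by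
    intro i
    refine (Groth.Agent.Lib.Helper18.DivLocFin.finite_inter_support_divFun δ hX (η i) (f i) (hf i)
      hV).subset ?_
    intro ξ hξ
    rw [Function.mem_support] at hξ
    obtain ⟨hc', -⟩ := secDivFun_ne_zero δ (right_ne_zero_of_mul hξ)
    exact ⟨hc'.1.mem_open V.2 hxV, left_ne_zero_of_mul hξ⟩
  have fin3 : {p : ι × X | Cyc.divFun δ (η p.1) (f p.1) p.2 *
      Cyc.secDivFun δ L p.2 (s p.2) x ≠ 0}.Finite := by
    refine (hfinU.prod (hfinU.biUnion (fun i _ => fin2 i))).subset ?_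
    rintro ⟨i, ξ⟩ hp
    obtain ⟨hc, -⟩ := divFun_ne_zero δ (left_ne_zero_of_mul hp)
    obtain ⟨hc', -⟩ := secDivFun_ne_zero δ (right_ne_zero_of_mul hp)
    have hi : i ∈ {i | (closure {η i} ∩ U).Nonempty} :=
      ⟨x, specializes_iff_mem_closure.mp (hc.1.trans hc'.1), hxU⟩
    exact ⟨hi, Set.mem_biUnion hi hp⟩
  -- the left side
  have eL : Cyc.c1CapFun δ L ⇑α s x =
      ∑ᶠ i, ∑ᶠ ξ, Cyc.divFun δ (η i) (f i) ξ * Cyc.secDivFun δ L ξ (s ξ) x := by
    unfold Cyc.c1CapFun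
    have e1 : ∀ ξ, α ξ * Cyc.secDivFun δ L ξ (s ξ) x =
        (∑ᶠ i, Cyc.divFun δ (η i) (f i) ξ) * Cyc.secDivFun δ L ξ (s ξ) x := by
      intro ξ; rw [hα ξ]
    rw [finsum_congr e1]
    exact finsum_finsum_mul_comm (fun i ξ => Cyc.divFun δ (η i) (f i) ξ)
      (fun ξ => Cyc.secDivFun δ L ξ (s ξ) x) fin3
  rw [eL]
  apply finsum_congr
  intro i
  unfold Cyc.c1CapFun
  have e2 : ∀ ξ, Cyc.secDivFun δ L (η i) (φ i • s (η i)) ξ * Cyc.secDivFun δ L ξ (s ξ) x =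
      Cyc.secDivFun δ L (η i) (s (η i)) ξ * Cyc.secDivFun δ L ξ (s ξ) x +
        Cyc.divFun δ (η i) (f i) ξ * Cyc.secDivFun δ L ξ (s ξ) x := by
    intro ξ
    rw [secDivFun_smul δ hX hL (s (η i)) (hs _) (φ i) (hφu i) ξ, hφ i, add_mul]
  rw [finsum_congr e2, finsum_add_distrib (fin1 i) (fin2 i)]
  ring

end Cap

section Transfer

variable {D X : Scheme.{u}} (i : D ⟶ X) [IsClosedImmersion i]

theorem exists_transport (δ : X → ℤ) (ξ ξ' : X) (e : ξ' = ξ) (f : X.residueField ξ) (hf : f ≠ 0) :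
    ∃ g : X.residueField ξ', g ≠ 0 ∧ ∀ x, Cyc.divFun δ ξ' g x = Cyc.divFun δ ξ f x := by
  subst e
  exact ⟨f, hf, fun _ => rfl⟩

/-- a cycle on `D` which is, on `X`, rationally equivalent to zero through a family of points
of `D`, is rationally equivalent to zero on `D` -/
theorem ratEquivZero_of_in_range (δ : X → ℤ) (hX : Cyc.IsSetup X δ) (k : ℤ) (A : X → ℤ)
    (h : RatEquivZeroIn (Set.range ⇑i) δ k A) (γ : AlgebraicCycle D ℤ)
    (hγ : ∀ d, γ d = A (i d)) : Cyc.RatEquivZero (fun d => δ (i d)) k γ := by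
  classical
  obtain ⟨ι, ξ, f, hδ, hf, hlf, hsum, hS⟩ := h
  have hex : ∀ j, ∃ (d : D) (g : X.residueField (i d)), g ≠ 0 ∧ i d = ξ j ∧
      ∀ x, Cyc.divFun δ (i d) g x = Cyc.divFun δ (ξ j) (f j) x := by
    intro j
    obtain ⟨d, hd⟩ := hS j
    obtain ⟨g, hg, hdiv⟩ := exists_transport δ (ξ j) (i d) hd (f j) (hf j)
    exact ⟨d, g, hg, hd, hdiv⟩
  choose d g hg hd hdiv using hex
  refine ⟨ι, d, fun j => (i.residueFieldMap (d j)).hom (g j), ?_, ?_, ?_, ?_⟩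
  · intro j
    show δ (i (d j)) = k + 1
    rw [hd j, hδ j]
  · intro j
    exact (map_ne_zero _).mpr (hg j)
  · intro d0
    obtain ⟨U, hUo, hdU, hfin⟩ := hlf (i d0)
    refine ⟨(i : D → X) ⁻¹' U, hUo.preimage i.continuous, hdU, hfin.subset ?_⟩
    rintro j ⟨z, hz, hzU⟩
    refine ⟨i z, ?_, hzU⟩
    rw [← hd j]
    have := image_closure_subset_closure_image i.continuous (s := {d j}) ⟨z, hz, rfl⟩
    rwa [Set.image_singleton] at this
  · intro d0
    rw [hγ, hsum]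
    apply finsum_congr
    intro j
    rw [Groth.Agent.Lib.Helper18.ClImm.divFun_eq i δ hX d0 (d j) (g j), hdiv j]

end Transfer

end Groth.Agent.Lib.Helper18.KF16
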