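import Mathlib
import Groth.Agent.Lib.Helper18.KF16

set_option autoImplicit false
set_option linter.style.haveILetI false
set_option linter.unusedSectionVars false

/-! Key formula, part 17: the Gysin map `i^*` of a zero scheme kills rational equivalence. -/

universe u
open CategoryTheory AlgebraicGeometry TopologicalSpace

namespace Groth.Agent.Lib.Helper18.KF17

open Groth.Agent.Lib.Helper18.InvStalk Groth.Agent.Lib.Helper18.LocStalk
  Groth.Agent.Lib.Helper18.DivPull Groth.Agent.Lib.Helper18.KF6 Groth.Agent.Lib.Helper18.KF7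
  Groth.Agent.Lib.Helper18.KF8 Groth.Agent.Lib.Helper18.KF5 Groth.Agent.Lib.Helper18.KF9
  Groth.Agent.Lib.Helper18.KF4 Groth.Agent.Lib.Helper18.KF2
  Groth.Agent.Lib.Helper18.KF12 Groth.Agent.Lib.Helper18.KF11 Groth.Agent.Lib.Helper18.KF10
  Groth.Agent.Lib.Helper18.KF13 Groth.Agent.Lib.Helper18.KF15 Groth.Agent.Lib.Helper18.KF16

variable {X D : Scheme.{u}} (δ : X → ℤ) (hX : Cyc.IsSetup X δ) {L : X.Modules}
  (hL : PicF.IsInvertible L) (s : L.presheaf.obj (Opposite.op ⊤)) (i : D ⟶ X)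
  [IsClosedImmersion i] (hD : Cyc.IsZeroSchemeOf i L s) (t : (ξ : X) → Cyc.secFibre L ξ)

theorem gysinChoice_ne_zero (ht : ∀ ξ, t ξ ≠ 0) (ξ : X) : Cyc.gysinChoice L s t ξ ≠ 0 := by
  unfold Cyc.gysinChoice
  split_ifs with h
  · exact h
  · exact ht ξ

include hD in
theorem mk_germ_ne_zero (ξ : X) (hξ : ξ ∉ Set.range ⇑i) :
    (Submodule.Quotient.mk ((L.presheaf.germ ⊤ ξ trivial) s) : Cyc.secFibre L ξ) ≠ 0 := by
  intro h0
  apply hξ
  rw [hD.1]
  exact h0

include hD in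
theorem gysinChoice_of_notMem (ξ : X) (hξ : ξ ∉ Set.range ⇑i) :
    Cyc.gysinChoice L s t ξ = Submodule.Quotient.mk ((L.presheaf.germ ⊤ ξ trivial) s) := by
  unfold Cyc.gysinChoice
  rw [if_pos (mk_germ_ne_zero s i hD ξ hξ)]

include hD in
theorem gysinChoice_of_mem (ξ : X) (hξ : ξ ∈ Set.range ⇑i) :
    Cyc.gysinChoice L s t ξ = t ξ := by
  unfold Cyc.gysinChoice
  rw [if_neg]
  rw [hD.1] at hξ
  exact not_not.mpr hξ

include hL hD in
/-- off the zero scheme the section generates the stalk -/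
theorem span_germ_eq_top_of_notMem (ξ : X) (hξ : ξ ∉ Set.range ⇑i) :
    Submodule.span (X.presheaf.stalk ξ) {(L.presheaf.germ ⊤ ξ trivial) s} = ⊤ := by
  obtain ⟨g₀, hg₀⟩ := exists_generator hL ξ
  have hm : (L.presheaf.germ ⊤ ξ trivial) s ∈ Submodule.span (X.presheaf.stalk ξ) {g₀} := by
    rw [hg₀]; trivial
  obtain ⟨c, hc⟩ := Submodule.mem_span_singleton.mp hm
  have hcu : IsUnit c := by
    by_contra hnu
    have hmem : c ∈ IsLocalRing.maximalIdeal (X.presheaf.stalk ξ) := hnu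
    apply mk_germ_ne_zero s i hD ξ hξ
    rw [← hc, Submodule.Quotient.mk_eq_zero]
    exact Submodule.smul_mem_smul hmem trivial
  obtain ⟨c', hc'⟩ := hcu.exists_left_inv
  rw [eq_top_iff, ← hg₀, Submodule.span_singleton_le_iff_mem]
  refine Submodule.mem_span_singleton.mpr ⟨c', ?_⟩
  rw [← hc, smul_smul, hc', one_smul]

include hD in
theorem notMem_of_specializes {η ξ : X} (h : η ⤳ ξ) (hξ : ξ ∉ Set.range ⇑i) :
    η ∉ Set.range ⇑i := by
  intro hη
  apply hξ
  exact i.isClosedEmbedding.isClosed_range.closure_subset_iff.mpr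
    (Set.singleton_subset_iff.mpr hη) (specializes_iff_mem_closure.mp h)

set_option synthInstance.maxHeartbeats 400000 in
set_option maxHeartbeats 1600000 in
include hX hL hD in
/-- off the zero scheme, the rational functions of the key formula for the Gysin choice are `1` -/
theorem Fall_eq_one_of_notMem (ht : ∀ ξ, t ξ ≠ 0) (η ξ : X) (φ : X.presheaf.stalk η)
    (hφ : IsUnit φ) (h : η ⤳ ξ) (hd : δ ξ + 1 = δ η) (hξ : ξ ∉ Set.range ⇑i) :
    Fall hL hL (Cyc.gysinChoice L s t η) (φ • Cyc.gysinChoice L s t η) (Cyc.gysinChoice L s t)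
      (Cyc.gysinChoice L s t) δ ξ = 1 := by
  haveI : IsLocallyNoetherian X := hX.1
  have hR := dim_locQuot_eq_one δ hX.2.2 ξ η h hd
  haveI hK : Ring.KrullDimLE 1 (Cyc.LocQuot ξ η h) := krullDimLE_one_locQuot δ hX.2.2 ξ η h hd
  have hw : ∀ ξ, Cyc.gysinChoice L s t ξ ≠ 0 := gysinChoice_ne_zero s t ht
  have hη : η ∉ Set.range ⇑i := notMem_of_specializes s i hD h hξ
  have hg := span_germ_eq_top_of_notMem hL s i hD ξ hξ
  have ewξ := gysinChoice_of_notMem s i hD t ξ hξ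
  have ewη := gysinChoice_of_notMem s i hD t η hη
  set w := Cyc.gysinChoice L s t with hw_def
  rw [Fall_eq hL hL _ _ w w δ h hd]
  have step1 : Fpt hL hL (w η) (φ • w η) w w h = Fgen hL hL (w η) (φ • w η) w w h _ hg _ hg :=
    Fgen_indep hL hL _ _ w w δ hX h hd (hw η) (smul_ne_zero_of_isUnit _ (hw η) _ hφ) (hw ξ) (hw ξ)
      _ _ _ _ _ _ _ _
  rw [step1]
  unfold Fgen
  have espec : L.presheaf.stalkSpecializes h ((L.presheaf.germ ⊤ ξ trivial) s) =
      (L.presheaf.germ ⊤ η trivial) s :=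
    TopCat.Presheaf.germ_stalkSpecializes_apply _ _ _ _
  have ca : coef0 η (L.presheaf.stalkSpecializes h ((L.presheaf.germ ⊤ ξ trivial) s))
      (span_stalkSpecializes_eq_top hL h _ hg) (w η) = 1 := by
    rw [coef0_eq hL η _ _ (w η) 1 (by rw [one_smul, espec]; exact ewη), map_one]
  have cb : coef0 η (L.presheaf.stalkSpecializes h ((L.presheaf.germ ⊤ ξ trivial) s))
      (span_stalkSpecializes_eq_top hL h _ hg) (φ • w η) = (X.residue η).hom φ := by
    rw [coef0_eq hL η _ _ (φ • w η) φ (by rw [espec, ewη])]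
  have cu : coef0 ξ ((L.presheaf.germ ⊤ ξ trivial) s) hg (w ξ) = 1 := by
    rw [coef0_eq hL ξ _ _ (w ξ) 1 (by rw [one_smul]; exact ewξ), map_one]
  rw [ca, cb, cu]
  unfold Fsym
  have hb : (X.residue η).hom φ ≠ 0 := by
    intro h0
    exact ((IsLocalRing.residue_eq_zero_iff _).mp h0) hφ
  have h1 := tameK_unit_left (K := X.residueField η) hR (1 : (Cyc.LocQuot ξ η h)ˣ) hb
  rw [Units.val_one, map_one, map_one, one_zpow] at h1
  rw [h1, map_one, one_zpow, one_zpow, inv_one, mul_one, mul_one]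

include hX hL hD in
/-- **the Gysin map `i^*` kills cycles rationally equivalent to zero** -/
theorem gysin_ratEquivZero (k : ℤ) (α : AlgebraicCycle X ℤ)
    (h0 : Cyc.RatEquivZero δ (k + 1) α) (ht : ∀ ξ, t ξ ≠ 0) (γ : AlgebraicCycle D ℤ)
    (hγ : ∀ d : D, γ d = Cyc.c1CapFun δ L ⇑α (Cyc.gysinChoice L s t) (i d)) :
    Cyc.RatEquivZero (fun d => δ (i d)) k γ := by
  refine ratEquivZero_of_in_range i δ hX k _ ?_ γ hγ
  exact c1Cap_ratEquivZeroIn δ hX hL k α h0 _ (gysinChoice_ne_zero s t ht) _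
    (fun η ξ φ hφ h hd hξ => Fall_eq_one_of_notMem δ hX hL s i hD t ht η ξ φ hφ h hd hξ)

end Groth.Agent.Lib.Helper18.KF17
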