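import Mathlib
import Groth.Agent.Lib.Helper18.KF16

set_option autoImplicit false
set_option linter.style.haveILetI false
set_option linter.unusedSectionVars false

/-! Key formula, part 18: calculus of `RatEquivZeroIn` (sums, transfer to a closed subscheme,
independence of the sections in `c₁(L) ∩ -`), at the level of coefficient functions. -/

universe u
open CategoryTheory AlgebraicGeometry TopologicalSpace

namespace Groth.Agent.Lib.Helper18.KF18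

open Groth.Agent.Lib.Helper18.KF12 Groth.Agent.Lib.Helper18.KF16
  Groth.Agent.Lib.Helper18.C1Indep Groth.Agent.Lib.Helper18.InvStalk

theorem finsum_sum_type {α β : Type*} (g : α ⊕ β → ℤ)
    (h₁ : (Function.support fun a => g (Sum.inl a)).Finite)
    (h₂ : (Function.support fun b => g (Sum.inr b)).Finite) :
    ∑ᶠ j, g j = ∑ᶠ a, g (Sum.inl a) + ∑ᶠ b, g (Sum.inr b) := by
  classical
  rw [finsum_eq_sum_of_support_subset (s := h₁.toFinset.disjSum h₂.toFinset) g ?_,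
    Finset.sum_disjSum,
    finsum_eq_sum_of_support_subset (s := h₁.toFinset) (fun a => g (Sum.inl a)) ?_,
    finsum_eq_sum_of_support_subset (s := h₂.toFinset) (fun b => g (Sum.inr b)) ?_]
  · intro b hb
    simpa using hb
  · intro a ha
    simpa using ha
  · rintro (a | b) hj
    · rw [Finset.mem_coe, Finset.inl_mem_disjSum, Set.Finite.mem_toFinset]
      exact hj
    · rw [Finset.mem_coe, Finset.inr_mem_disjSum, Set.Finite.mem_toFinset]
      exact hj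

variable {X : Scheme.{u}}

theorem RatEquivZeroIn.mono {S S' : Set X} (hSS : S ⊆ S') {δ : X → ℤ} {k : ℤ} {A : X → ℤ}
    (h : RatEquivZeroIn S δ k A) : RatEquivZeroIn S' δ k A := by
  obtain ⟨ι, ξ, f, h1, h2, h3, h4, h5⟩ := h
  exact ⟨ι, ξ, f, h1, h2, h3, h4, fun j => hSS (h5 j)⟩

theorem RatEquivZeroIn.congr {S : Set X} {δ : X → ℤ} {k : ℤ} {A B : X → ℤ}
    (h : RatEquivZeroIn S δ k A) (hAB : ∀ x, B x = A x) : RatEquivZeroIn S δ k B := by
  obtain ⟨ι, ξ, f, h1, h2, h3, h4, h5⟩ := h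
  exact ⟨ι, ξ, f, h1, h2, h3, fun x => by rw [hAB, h4], h5⟩

theorem finite_support_of_locallyFinite (δ : X → ℤ) {ι : Type u} (ξ : ι → X)
    (f : (j : ι) → X.residueField (ξ j))
    (hlf : ∀ x : X, ∃ U : Set X, IsOpen U ∧ x ∈ U ∧ {j | (closure {ξ j} ∩ U).Nonempty}.Finite)
    (x : X) : (Function.support fun j => Cyc.divFun δ (ξ j) (f j) x).Finite := by
  obtain ⟨U, -, hxU, hfin⟩ := hlf x
  refine hfin.subset ?_
  intro j hj
  rw [Function.mem_support] at hj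
  obtain ⟨hc, -⟩ := divFun_ne_zero δ hj
  exact ⟨x, specializes_iff_mem_closure.mp hc.1, hxU⟩

theorem RatEquivZeroIn.add {S : Set X} {δ : X → ℤ} {k : ℤ} {A B : X → ℤ}
    (hA : RatEquivZeroIn S δ k A) (hB : RatEquivZeroIn S δ k B) :
    RatEquivZeroIn S δ k (fun x => A x + B x) := by
  classical
  obtain ⟨ι₁, ξ₁, f₁, a1, a2, a3, a4, a5⟩ := hA
  obtain ⟨ι₂, ξ₂, f₂, b1, b2, b3, b4, b5⟩ := hB
  refine ⟨ι₁ ⊕ ι₂, Sum.elim ξ₁ ξ₂, fun j => Sum.rec (motive := fun j =>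
    X.residueField (Sum.elim ξ₁ ξ₂ j)) f₁ f₂ j, ?_, ?_, ?_, ?_, ?_⟩
  · rintro (a | b)
    · exact a1 a
    · exact b1 b
  · rintro (a | b)
    · exact a2 a
    · exact b2 b
  · intro x
    obtain ⟨U₁, hU₁, hx₁, hfin₁⟩ := a3 x
    obtain ⟨U₂, hU₂, hx₂, hfin₂⟩ := b3 x
    refine ⟨U₁ ∩ U₂, hU₁.inter hU₂, ⟨hx₁, hx₂⟩, ?_⟩
    have : {j : ι₁ ⊕ ι₂ | (closure {Sum.elim ξ₁ ξ₂ j} ∩ (U₁ ∩ U₂)).Nonempty} ⊆
        Sum.inl '' {a | (closure {ξ₁ a} ∩ U₁).Nonempty} ∪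
          Sum.inr '' {b | (closure {ξ₂ b} ∩ U₂).Nonempty} := by
      rintro (a | b) ⟨y, hy1, hy2, hy3⟩
      · exact Or.inl ⟨a, ⟨y, hy1, hy2⟩, rfl⟩
      · exact Or.inr ⟨b, ⟨y, hy1, hy3⟩, rfl⟩
    exact ((hfin₁.image _).union (hfin₂.image _)).subset this
  · intro x
    rw [finsum_sum_type _ (finite_support_of_locallyFinite δ ξ₁ f₁ a3 x)
      (finite_support_of_locallyFinite δ ξ₂ f₂ b3 x)]
    show A x + B x = _
    rw [a4, b4]
    rfl
  · rintro (a | b)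
    · exact a5 a
    · exact b5 b

section Transfer

variable {D : Scheme.{u}} (i : D ⟶ X) [IsClosedImmersion i]

/-- restriction to a closed subscheme of a family supported on it -/
theorem ratEquivZeroIn_comap (δ : X → ℤ) (hX : Cyc.IsSetup X δ) (k : ℤ) (A : X → ℤ)
    (h : RatEquivZeroIn (Set.range ⇑i) δ k A) :
    RatEquivZeroIn (Set.univ : Set D) (fun d => δ (i d)) k (fun d => A (i d)) := by
  classical
  obtain ⟨ι, ξ, f, hδ, hf, hlf, hsum, hS⟩ := h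
  have hex : ∀ j, ∃ (d : D) (g : X.residueField (i d)), g ≠ 0 ∧ i d = ξ j ∧
      ∀ x, Cyc.divFun δ (i d) g x = Cyc.divFun δ (ξ j) (f j) x := by
    intro j
    obtain ⟨d, hd⟩ := hS j
    obtain ⟨g, hg, hdiv⟩ := exists_transport δ (ξ j) (i d) hd (f j) (hf j)
    exact ⟨d, g, hg, hd, hdiv⟩
  choose d g hg hd hdiv using hex
  refine ⟨ι, d, fun j => (i.residueFieldMap (d j)).hom (g j), ?_, ?_, ?_, ?_, fun _ => trivial⟩
  · intro j
    show δ (i (d j)) = k + 1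
    rw [hd j, hδ j]
  · intro j
    exact (map_ne_zero _).mpr (hg j)
  · intro d0
    obtain ⟨U, hUo, hdU, hfin⟩ := hlf (i d0)
    refine ⟨(i : D → X) ⁻¹' U, hUo.preimage i.continuous, hdU, hfin.subset ?_⟩
    rintro j ⟨z, hz, hzU⟩
    refine ⟨i z, ?_, hzU⟩
    rw [← hd j]
    have := image_closure_subset_closure_image i.continuous (s := {d j}) ⟨z, hz, rfl⟩
    rwa [Set.image_singleton] at this
  · intro d0
    show A (i d0) = _
    rw [hsum]
    apply finsum_congr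
    intro j
    rw [Groth.Agent.Lib.Helper18.ClImm.divFun_eq i δ hX d0 (d j) (g j), hdiv j]

end Transfer

section Indep

variable {L : X.Modules}

/-- independence of the rational sections, at the level of coefficient functions -/
theorem c1Cap_sections (δ : X → ℤ) (hX : Cyc.IsSetup X δ) (hL : PicF.IsInvertible L) (k : ℤ)
    (α : AlgebraicCycle X ℤ) (hα : α ∈ Cyc.Zk X δ (k + 1))
    (s₁ s₂ : (ξ : X) → Cyc.secFibre L ξ) (hs₁ : ∀ ξ, s₁ ξ ≠ 0) (hs₂ : ∀ ξ, s₂ ξ ≠ 0) :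
    RatEquivZeroIn (Set.univ : Set X) δ k
      (fun x => Cyc.c1CapFun δ L ⇑α s₁ x - Cyc.c1CapFun δ L ⇑α s₂ x) := by
  classical
  choose g hg using (fun ξ : X => exists_generator hL ξ)
  choose ψ₁ e₁ using (fun ξ : X => exists_smul_mk_eq
    (IsLocalRing.maximalIdeal (X.presheaf.stalk ξ)) (g ξ) (hg ξ) (s₁ ξ))
  choose ψ₂ e₂ using (fun ξ : X => exists_smul_mk_eq
    (IsLocalRing.maximalIdeal (X.presheaf.stalk ξ)) (g ξ) (hg ξ) (s₂ ξ))
  have hres : ∀ (ξ : X) (s : Cyc.secFibre L ξ) (ψ : X.presheaf.stalk ξ), s ≠ 0 →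
      s = ψ • (Submodule.Quotient.mk (g ξ) : Cyc.secFibre L ξ) → (X.residue ξ).hom ψ ≠ 0 := by
    intro ξ s ψ hs e h0
    have hmem : ψ ∈ IsLocalRing.maximalIdeal (X.presheaf.stalk ξ) :=
      (IsLocalRing.residue_eq_zero_iff _).mp h0
    apply hs
    rw [e, ← Submodule.Quotient.mk_smul, Submodule.Quotient.mk_eq_zero]
    exact Submodule.smul_mem_smul hmem trivial
  set φ : (ξ : X) → X.residueField ξ := fun ξ =>
    (X.residue ξ).hom (ψ₁ ξ) / (X.residue ξ).hom (ψ₂ ξ) with hφdef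
  have hφ : ∀ ξ, φ ξ ≠ 0 := fun ξ =>
    div_ne_zero (hres ξ _ _ (hs₁ ξ) (e₁ ξ)) (hres ξ _ _ (hs₂ ξ) (e₂ ξ))
  have hdiff : ∀ ξ x : X, Cyc.secDivFun δ L ξ (s₁ ξ) x - Cyc.secDivFun δ L ξ (s₂ ξ) x =
      Cyc.divFun δ ξ (φ ξ) x := by
    intro ξ x
    unfold Cyc.secDivFun Cyc.divFun
    by_cases hc : ξ ⤳ x ∧ δ x + 1 = δ ξ
    · rw [dif_pos hc, dif_pos hc, dif_pos hc]
      exact secOrdAt_sub δ hX hL x ξ hc.1 hc.2 (g ξ) (hg ξ) (s₁ ξ) (s₂ ξ) (hs₁ ξ) (hs₂ ξ)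
        (ψ₁ ξ) (ψ₂ ξ) (e₁ ξ) (e₂ ξ)
    · rw [dif_neg hc, dif_neg hc, dif_neg hc, sub_zero]
  have hsupp : ∀ (s : (ξ : X) → Cyc.secFibre L ξ) (x : X),
      (Function.support fun ξ => α ξ * Cyc.secDivFun δ L ξ (s ξ) x).Finite :=
    fun s x => finite_support_c1Cap_summand δ L α s x
  refine ⟨{ξ : X // α ξ ≠ 0}, fun i => i.1, fun i => (φ i.1) ^ (α i.1), ?_, ?_, ?_, ?_,
    fun _ => trivial⟩
  · intro i
    by_contra hne
    exact i.2 (hα i.1 hne)
  · intro i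
    exact zpow_ne_zero _ (hφ i.1)
  · intro x
    obtain ⟨t, ht, hfin⟩ := α.supportLocallyFiniteWithinDomain' x (Set.mem_univ x)
    refine ⟨interior t, isOpen_interior, mem_interior_iff_mem_nhds.mpr ht, ?_⟩
    have hfin' : {i : {ξ : X // α ξ ≠ 0} | i.1 ∈ t ∩ Function.support ⇑α}.Finite :=
      hfin.preimage (Subtype.val_injective.injOn)
    refine hfin'.subset ?_
    rintro i ⟨y, hy1, hy2⟩
    have hsp : i.1 ⤳ y := specializes_iff_mem_closure.mpr hy1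
    exact ⟨interior_subset (hsp.mem_open isOpen_interior hy2), i.2⟩
  · intro x
    show Cyc.c1CapFun δ L ⇑α s₁ x - Cyc.c1CapFun δ L ⇑α s₂ x = _
    unfold Cyc.c1CapFun
    rw [← finsum_sub_distrib (hsupp s₁ x) (hsupp s₂ x)]
    have e3 : ∀ ξ : X, α ξ * Cyc.secDivFun δ L ξ (s₁ ξ) x - α ξ * Cyc.secDivFun δ L ξ (s₂ ξ) x =
        Cyc.divFun δ ξ (φ ξ ^ α ξ) x := by
      intro ξ
      rw [← mul_sub, hdiff, divFun_zpow δ hX ξ (φ ξ) (hφ ξ)]
    rw [finsum_congr e3]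
    symm
    rw [finsum_subtype_eq_finsum_cond (fun ξ : X => α ξ ≠ 0)
      (f := fun ξ : X => Cyc.divFun δ ξ (φ ξ ^ α ξ) x)]
    apply finsum_congr
    intro ξ
    by_cases h0 : α ξ ≠ 0
    · rw [finsum_eq_if, if_pos h0]
    · rw [finsum_eq_if, if_neg h0]
      rw [not_not] at h0
      rw [divFun_zpow δ hX ξ (φ ξ) (hφ ξ), h0, zero_mul]

end Indep

end Groth.Agent.Lib.Helper18.KF18
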