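import Mathlib
import Groth.Agent.Lib.Helper18.KF17
import Groth.Agent.Lib.Helper18.KF18

set_option autoImplicit false
set_option linter.style.haveILetI false
set_option linter.unusedSectionVars false

/-! Key formula, part 19: the key formula for `(L, s)` and `(N, t)` has its error term supported
on the zero scheme of `s`. -/

universe u
open CategoryTheory AlgebraicGeometry TopologicalSpace

namespace Groth.Agent.Lib.Helper18.KF19

open Groth.Agent.Lib.Helper18.InvStalk Groth.Agent.Lib.Helper18.LocStalk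
  Groth.Agent.Lib.Helper18.DivPull Groth.Agent.Lib.Helper18.KF6 Groth.Agent.Lib.Helper18.KF7
  Groth.Agent.Lib.Helper18.KF8 Groth.Agent.Lib.Helper18.KF5 Groth.Agent.Lib.Helper18.KF9
  Groth.Agent.Lib.Helper18.KF4 Groth.Agent.Lib.Helper18.KF2
  Groth.Agent.Lib.Helper18.KF12 Groth.Agent.Lib.Helper18.KF11 Groth.Agent.Lib.Helper18.KF10
  Groth.Agent.Lib.Helper18.KF13 Groth.Agent.Lib.Helper18.KF15 Groth.Agent.Lib.Helper18.KF16
  Groth.Agent.Lib.Helper18.KF17 Groth.Agent.Lib.Helper18.KF18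

variable {X D : Scheme.{u}} (δ : X → ℤ) (hX : Cyc.IsSetup X δ) {L N : X.Modules}
  (hL : PicF.IsInvertible L) (hN : PicF.IsInvertible N) (s : L.presheaf.obj (Opposite.op ⊤))
  (i : D ⟶ X) [IsClosedImmersion i] (hD : Cyc.IsZeroSchemeOf i L s)
  (w : (ξ : X) → Cyc.secFibre L ξ)

set_option synthInstance.maxHeartbeats 400000 in
set_option maxHeartbeats 1600000 in
include hX hD in
/-- off the zero scheme of `s`, the rational functions of the key formula for `s` itself and the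
Gysin choice are `1` -/
theorem Fall_eq_one_of_notMem (hw : ∀ ξ, w ξ ≠ 0) {η : X} (t : Cyc.secFibre N η) (ht : t ≠ 0)
    (u' : (ξ : X) → Cyc.secFibre N ξ) (hu' : ∀ ξ, u' ξ ≠ 0) (ξ : X)
    (h : η ⤳ ξ) (hd : δ ξ + 1 = δ η) (hξ : ξ ∉ Set.range ⇑i) :
    Fall hL hN (Submodule.Quotient.mk ((L.presheaf.germ ⊤ η trivial) s) : Cyc.secFibre L η) t u'
      (Cyc.gysinChoice L s w) δ ξ = 1 := by
  haveI : IsLocallyNoetherian X := hX.1
  have hR := dim_locQuot_eq_one δ hX.2.2 ξ η h hd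
  haveI hK : Ring.KrullDimLE 1 (Cyc.LocQuot ξ η h) := krullDimLE_one_locQuot δ hX.2.2 ξ η h hd
  have hv : ∀ ξ, Cyc.gysinChoice L s w ξ ≠ 0 := gysinChoice_ne_zero s w hw
  have hη : η ∉ Set.range ⇑i := notMem_of_specializes s i hD h hξ
  have hsη := mk_germ_ne_zero s i hD η hη
  have hg := span_germ_eq_top_of_notMem hL s i hD ξ hξ
  have ewξ := gysinChoice_of_notMem s i hD w ξ hξ
  set v := Cyc.gysinChoice L s w with hv_def
  set sη : Cyc.secFibre L η := Submodule.Quotient.mk ((L.presheaf.germ ⊤ η trivial) s) with hsη_def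
  rw [Fall_eq hL hN _ _ u' v δ h hd]
  have step1 : Fpt hL hN sη t u' v h = Fgen hL hN sη t u' v h _ hg _
      (Classical.choose_spec (exists_generator hN ξ)) :=
    Fgen_indep hL hN _ _ u' v δ hX h hd hsη ht (hu' ξ) (hv ξ) _ _ _ _ _ _ _ _
  rw [step1]
  unfold Fgen
  have espec : L.presheaf.stalkSpecializes h ((L.presheaf.germ ⊤ ξ trivial) s) =
      (L.presheaf.germ ⊤ η trivial) s :=
    TopCat.Presheaf.germ_stalkSpecializes_apply _ _ _ _
  have ca : coef0 η (L.presheaf.stalkSpecializes h ((L.presheaf.germ ⊤ ξ trivial) s))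
      (span_stalkSpecializes_eq_top hL h _ hg) sη = 1 := by
    rw [coef0_eq hL η _ _ sη 1 (by rw [one_smul, espec]), map_one]
  have cv : coef0 ξ ((L.presheaf.germ ⊤ ξ trivial) s) hg (v ξ) = 1 := by
    rw [coef0_eq hL ξ _ _ (v ξ) 1 (by rw [one_smul]; exact ewξ), map_one]
  rw [ca, cv]
  unfold Fsym
  have hb : coef0 η (N.presheaf.stalkSpecializes h (Classical.choose (exists_generator hN ξ)))
      (span_stalkSpecializes_eq_top hN h _ (Classical.choose_spec (exists_generator hN ξ))) t ≠ 0 :=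
    coef0_ne_zero _ _ _ _ ht
  have h1 := tameK_unit_left (K := X.residueField η) hR (1 : (Cyc.LocQuot ξ η h)ˣ) hb
  rw [Units.val_one, map_one, map_one, one_zpow] at h1
  rw [h1, map_one, one_zpow, inv_one, mul_one, one_mul,
    Groth.Agent.Lib.Helper18.KeyS.ordFrac_one', zpow_zero]

include hX hL hN hD in
/-- the key formula for `s` and `t`, with error term supported on the zero scheme -/
theorem key_formula_in (hw : ∀ ξ, w ξ ≠ 0) {η : X} (n : ℤ) (hn : δ η = n)
    (hη : η ∉ Set.range ⇑i) (t : Cyc.secFibre N η) (ht : t ≠ 0)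
    (u' : (ξ : X) → Cyc.secFibre N ξ) (hu' : ∀ ξ, u' ξ ≠ 0) :
    RatEquivZeroIn (Set.range ⇑i) δ (n - 2) (fun x =>
      Cyc.c1CapFun δ L (Cyc.secDivFun δ N η t) (Cyc.gysinChoice L s w) x -
      Cyc.c1CapFun δ N (Cyc.secDivFun δ L η
        (Submodule.Quotient.mk ((L.presheaf.germ ⊤ η trivial) s) : Cyc.secFibre L η)) u' x) := by
  have hsη := mk_germ_ne_zero s i hD η hη
  refine ratEquivZeroIn_sum (L := L) (N := N) hL hN δ hX (I := PUnit.{u+1}) (fun _ => η)
    (fun _ => (Submodule.Quotient.mk ((L.presheaf.germ ⊤ η trivial) s) : Cyc.secFibre L η))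
    (fun _ => t) u' (Cyc.gysinChoice L s w) (fun _ => -1) (Set.range ⇑i) ?_ n (fun _ => hn)
    (fun _ => hsη) (fun _ => ht) hu' (gysinChoice_ne_zero s w hw) ?_ _ ?_
  · rintro ⟨j, ξ⟩ ⟨⟨h, hd⟩, hF⟩
    by_contra hnS
    exact hF (Fall_eq_one_of_notMem δ hX hL hN s i hD w hw t ht u' hu' ξ h hd hnS)
  · intro x
    exact ⟨Set.univ, isOpen_univ, trivial, Set.toFinite _⟩
  · intro x
    rw [finsum_unique]
    ring

end Groth.Agent.Lib.Helper18.KF19
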