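import Mathlib
import Groth.Prelude.Def_C1
import Groth.Agent.Lib.Helper16.LocNoeth
import Groth.Agent.Lib.Helper18.ClImmRat

/-!
# Cycles supported at maximal points; restriction of cycles along a closed immersion
-/

set_option autoImplicit false
set_option linter.style.haveILetI false
universe u
open CategoryTheory AlgebraicGeometry TopologicalSpace Topology

namespace Groth.Agent.Lib.Helper18.SubCyc

/-- closure of a generization-maximal point is an irreducible component -/
theorem closure_mem_irreducibleComponents {Y : Type*} [TopologicalSpace Y] [QuasiSober Y] (y : Y)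
    (hy : ∀ z : Y, z ⤳ y → z = y) : closure {y} ∈ irreducibleComponents Y := by
  refine ⟨isIrreducible_singleton.closure, ?_⟩
  intro Z hZ hle
  have hZc : IsIrreducible (closure Z) := hZ.closure
  obtain ⟨z, hz⟩ := QuasiSober.sober hZc isClosed_closure
  have hyZ : y ∈ closure {z} := by
    rw [hz.def]; exact subset_closure (hle (subset_closure rfl))
  have : z = y := hy z (specializes_iff_mem_closure.mpr hyZ)
  subst this
  calc Z ⊆ closure Z := subset_closure
  _ = closure {z} := hz.def.symm

theorem finite_inter_maximal {Y : Scheme.{u}} [IsLocallyNoetherian Y] (S : Set Y)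
    (hS : ∀ y ∈ S, ∀ z : Y, z ⤳ y → z = y) (y₀ : Y) : ∃ t ∈ 𝓝 y₀, (t ∩ S).Finite := by
  obtain ⟨_, ⟨W, hW, rfl⟩, hyW, -⟩ :=
    (Y.isBasis_affineOpens).exists_subset_of_mem_open (Set.mem_univ y₀) isOpen_univ
  haveI : IsNoetherianRing Γ(Y, W) := IsLocallyNoetherian.component_noetherian ⟨W, hW⟩
  haveI : NoetherianSpace ↥(W : Set Y) := noetherianSpace_of_isAffineOpen W hW
  have hfin := Groth.Agent.Lib.Helper16.finite_irreducibleComponents_meeting
    (X := Y) (U := (W : Set Y)) W.2
  refine ⟨W, W.2.mem_nhds hyW, ?_⟩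
  refine Set.Finite.of_finite_image (f := fun y : Y => closure {y}) (hfin.subset ?_) ?_
  · rintro _ ⟨y, ⟨hyW, hyS⟩, rfl⟩
    exact ⟨closure_mem_irreducibleComponents y (hS y hyS), ⟨y, subset_closure rfl, hyW⟩⟩
  · intro y _ y' _ h
    exact ((inseparable_iff_closure_eq).mpr h).eq

/-- the cycle with given coefficients supported at generization-maximal points -/
noncomputable def cycleOfMaximal {Y : Scheme.{u}} [IsLocallyNoetherian Y] (β : Y → ℤ)
    (hβ : ∀ y, β y ≠ 0 → ∀ z : Y, z ⤳ y → z = y) : AlgebraicCycle Y ℤ where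
  toFun := β
  supportWithinDomain' := Set.subset_univ _
  supportLocallyFiniteWithinDomain' := fun z _ =>
    finite_inter_maximal (Function.support β) (fun y hy => hβ y hy) z

variable {D X : Scheme.{u}} (i : D ⟶ X) [IsClosedImmersion i]

/-- restriction of a cycle to a closed subscheme (as a function on points) -/
noncomputable def comapCycle (γ : AlgebraicCycle X ℤ) : AlgebraicCycle D ℤ where
  toFun := fun d => γ (i d)
  supportWithinDomain' := Set.subset_univ _
  supportLocallyFiniteWithinDomain' := fun d _ => by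
    obtain ⟨t, ht, hfin⟩ := γ.supportLocallyFiniteWithinDomain' (i d) (Set.mem_univ _)
    refine ⟨(i : D → X) ⁻¹' t, i.continuous.continuousAt.preimage_mem_nhds ht, ?_⟩
    refine Set.Finite.of_finite_image (f := (i : D → X)) (hfin.subset ?_)
      i.isClosedEmbedding.injective.injOn
    rintro _ ⟨d', ⟨hd't, hd's⟩, rfl⟩
    exact ⟨hd't, hd's⟩

theorem subschemeFun_of_mem (δ : X → ℤ) (k : ℤ) (d : D) :
    Cyc.subschemeFun δ k i (i d) = Cyc.subschemeFun (fun d => δ (i d)) k (𝟙 D) d := by
  unfold Cyc.subschemeFun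
  have h1 : {z : D | i z = i d} = {d} := by
    ext z
    simp only [Set.mem_ofPred_eq, Set.mem_singleton_iff]
    exact ⟨fun hz => i.isClosedEmbedding.injective hz, fun hz => by rw [hz]⟩
  have h2 : {z : D | (𝟙 D : D ⟶ D) z = d} = {d} := by
    ext z
    simp
  rw [h1, h2]

omit [IsClosedImmersion i] in
theorem subschemeFun_of_notMem (δ : X → ℤ) (k : ℤ) (x : X) (hx : x ∉ Set.range (i : D → X)) :
    Cyc.subschemeFun δ k i x = 0 := by
  unfold Cyc.subschemeFun
  split_ifs
  · apply finsum_mem_eq_zero_of_forall_eq_zero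
    intro z hz
    exact absurd ⟨z, hz⟩ hx
  · rfl

theorem secDivFun_eq_zero_of_notMem_range (δ : X → ℤ) (L : X.Modules) (d' : D)
    (σ : Cyc.secFibre L (i d')) (x : X) (hx : x ∉ Set.range (i : D → X)) :
    Cyc.secDivFun δ L (i d') σ x = 0 := by
  classical
  unfold Cyc.secDivFun
  rw [dif_neg]
  intro hh
  exact ClImm.not_specializes_of_notMem_range i d' x hx hh.1

end Groth.Agent.Lib.Helper18.SubCyc
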