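import Mathlib
import Groth.Agent.Lib.Helper18.KF19
import Groth.Agent.Lib.Helper18.PushStalk
import Groth.Agent.Lib.Helper18.SubCyc

set_option autoImplicit false
set_option linter.style.haveILetI false
set_option linter.unusedSectionVars false

/-! Key formula, part 20: the cycle of the zero scheme of a section. -/

universe u
open CategoryTheory AlgebraicGeometry TopologicalSpace

namespace Groth.Agent.Lib.Helper18.KF20

open Groth.Agent.Lib.Helper18.InvStalk Groth.Agent.Lib.Helper18.KF8 Groth.Agent.Lib.Helper18.KF17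

variable {X D : Scheme.{u}} (δ : X → ℤ) {L : X.Modules}
  (hL : PicF.IsInvertible L) (s : L.presheaf.obj (Opposite.op ⊤))
  (i : D ⟶ X) [IsClosedImmersion i] (hD : Cyc.IsZeroSchemeOf i L s)

include hD in
theorem zeroSectionFun_of_notMem (k : ℤ) (ξ : X) (hξ : ξ ∉ Set.range ⇑i) :
    Cyc.zeroSectionFun δ k L s ξ = 0 := by
  classical
  unfold Cyc.zeroSectionFun
  split_ifs with hd ht hf
  · have hfs := Classical.choose_spec hf
    generalize Classical.choose hf = f at hfs ⊢
    have hfu : IsUnit f := by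
      by_contra hnu
      apply mk_germ_ne_zero s i hD ξ hξ
      rw [hfs, Submodule.Quotient.mk_eq_zero]
      exact Submodule.smul_mem_smul hnu trivial
    have htop : Ideal.span {f} = ⊤ := Ideal.span_singleton_eq_top.mpr hfu
    haveI : Subsingleton (↥(X.presheaf.stalk ξ) ⧸ Ideal.span {f}) :=
      Ideal.Quotient.subsingleton_iff.mpr htop
    rw [Module.length_eq_zero]
    rfl
  all_goals rfl

theorem subschemeFun_id (k : ℤ) (d : D) :
    Cyc.subschemeFun (fun d => δ (i d)) k (𝟙 D) d =
      if δ (i d) = k then ((Module.length (D.presheaf.stalk d) (D.presheaf.stalk d)).toNat : ℤ)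
      else 0 := by
  unfold Cyc.subschemeFun
  have hs : {z : D | (𝟙 D : D ⟶ D) z = d} = {d} := by
    ext z
    simp
  rw [hs, finsum_mem_singleton]

include hL hD in
theorem zeroSectionFun_of_mem (k : ℤ) (d : D) :
    Cyc.zeroSectionFun δ k L s (i d) = Cyc.subschemeFun (fun d => δ (i d)) k (𝟙 D) d := by
  classical
  rw [subschemeFun_id]
  unfold Cyc.zeroSectionFun
  by_cases hd : δ (i d) = k
  swap
  · rw [if_neg hd, if_neg hd]
  rw [if_pos hd, if_pos hd]
  have ht : ∃ t : L.presheaf.stalk (i d), Submodule.span (X.presheaf.stalk (i d)) {t} = ⊤ :=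
    exists_generator hL (i d)
  rw [dif_pos ht]
  have htspan := Classical.choose_spec ht
  generalize Classical.choose ht = t₀ at htspan ⊢
  have hf : ∃ f : X.presheaf.stalk (i d), (L.presheaf.germ ⊤ (i d) trivial) s = f • t₀ := by
    have : (L.presheaf.germ ⊤ (i d) trivial) s ∈ Submodule.span (X.presheaf.stalk (i d)) {t₀} := by
      rw [htspan]; trivial
    obtain ⟨f, hf⟩ := Submodule.mem_span_singleton.mp this
    exact ⟨f, hf.symm⟩
  rw [dif_pos hf]
  have hfs := Classical.choose_spec hf
  generalize Classical.choose hf = f₀ at hfs ⊢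
  obtain ⟨t, f, htop, hft, hker⟩ := hD.2 d
  obtain ⟨c, hc⟩ := exists_unit_smul hL (i d) t₀ t htspan htop
  have hff : f₀ = f * c := by
    have h3 : (f₀ - f * c) • t₀ = 0 := by
      rw [sub_smul, mul_smul, ← hc, ← hfs, ← hft, sub_self]
    exact sub_eq_zero.mp (free_of_generator hL (i d) _ htspan _ h3)
  have hspan : Ideal.span {f₀} = RingHom.ker (i.stalkMap d).hom := by
    rw [hker, hff]
    exact Ideal.span_singleton_mul_right_unit c.isUnit f
  congr 2
  rw [hspan]
  refine Groth.Agent.Lib.Helper18.PushStalk.length_eq_of_semilinear_bijective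
    (i.stalkMap d).hom (i.stalkMap_surjective d)
    (RingHom.kerLift (i.stalkMap d).hom).toAddMonoidHom
    ⟨RingHom.kerLift_injective _, ?_⟩ ?_
  · intro z
    obtain ⟨a, rfl⟩ := i.stalkMap_surjective d z
    exact ⟨Ideal.Quotient.mk _ a, rfl⟩
  · intro r m
    obtain ⟨m, rfl⟩ := Ideal.Quotient.mk_surjective m
    show (RingHom.kerLift (i.stalkMap d).hom) (r • Ideal.Quotient.mk _ m) =
      (i.stalkMap d).hom r * (RingHom.kerLift (i.stalkMap d).hom) (Ideal.Quotient.mk _ m)
    rw [Algebra.smul_def, map_mul]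
    rfl

end Groth.Agent.Lib.Helper18.KF20
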