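import Mathlib
import Groth.Agent.Lib.Helper18.KF20

set_option autoImplicit false
set_option linter.style.haveILetI false
set_option linter.unusedSectionVars false

/-! Key formula, part 21: the cycle `c₁(L) ∩ α`, and the Gysin map commutes with `c₁(N) ∩ -`. -/

universe u
open CategoryTheory AlgebraicGeometry TopologicalSpace

namespace Groth.Agent.Lib.Helper18.KF21

open Groth.Agent.Lib.Helper18.InvStalk Groth.Agent.Lib.Helper18.LocStalk
  Groth.Agent.Lib.Helper18.DivPull Groth.Agent.Lib.Helper18.KF6 Groth.Agent.Lib.Helper18.KF7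
  Groth.Agent.Lib.Helper18.KF8 Groth.Agent.Lib.Helper18.KF5 Groth.Agent.Lib.Helper18.KF9
  Groth.Agent.Lib.Helper18.KF4 Groth.Agent.Lib.Helper18.KF2
  Groth.Agent.Lib.Helper18.KF12 Groth.Agent.Lib.Helper18.KF11 Groth.Agent.Lib.Helper18.KF10
  Groth.Agent.Lib.Helper18.KF13 Groth.Agent.Lib.Helper18.KF14 Groth.Agent.Lib.Helper18.KF15
  Groth.Agent.Lib.Helper18.KF16
  Groth.Agent.Lib.Helper18.KF17 Groth.Agent.Lib.Helper18.KF18 Groth.Agent.Lib.Helper18.KF19
  Groth.Agent.Lib.Helper29.QCoh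

section Cycle

variable {X : Scheme.{u}} (δ : X → ℤ) (hX : Cyc.IsSetup X δ) {L : X.Modules}
  (hL : PicF.IsInvertible L)

include hX hL in
/-- the support of `c₁(L) ∩ α` is locally finite -/
theorem locallyFinite_support_c1Cap (α : AlgebraicCycle X ℤ) (s : (ξ : X) → Cyc.secFibre L ξ)
    (hs : ∀ ξ, s ξ ≠ 0) (x : X) :
    ∃ t ∈ nhds x, (t ∩ Function.support (Cyc.c1CapFun δ L ⇑α s)).Finite := by
  classical
  obtain ⟨t, ht, hfin⟩ := α.supportLocallyFiniteWithinDomain' x (Set.mem_univ x)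
  obtain ⟨V, e, hV, hxV, hle, hT⟩ := exists_affine_isTriv hL
    (W := ⟨interior t, isOpen_interior⟩) x (mem_interior_iff_mem_nhds.mpr ht)
  have hBad := fun η => finite_bad hL hL (s η) (s η) s s δ hX (hs η) (hs η) hs hs hV e hT e hT
  refine ⟨V, V.2.mem_nhds hxV, (hfin.biUnion (fun η _ => hBad η)).subset ?_⟩
  rintro ξ ⟨hξV, hξ⟩
  rw [Function.mem_support] at hξ
  unfold Cyc.c1CapFun at hξ
  obtain ⟨η, hη⟩ : ∃ η, α η * Cyc.secDivFun δ L η (s η) ξ ≠ 0 := by
    by_contra hall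
    push_neg at hall
    exact hξ (finsum_eq_zero_of_forall_eq_zero hall)
  obtain ⟨hc, ho⟩ := secDivFun_ne_zero δ (right_ne_zero_of_mul hη)
  have hηV : η ∈ V := hc.1.mem_open V.2 hξV
  refine Set.mem_biUnion (x := η) ⟨interior_subset (hle hηV), left_ne_zero_of_mul hη⟩ ?_
  exact ⟨hξV, hc.1, hc.2, Or.inr (Or.inl ho)⟩

/-- the cycle `c₁(L) ∩ α` -/
noncomputable def c1CapCycle (α : AlgebraicCycle X ℤ) (s : (ξ : X) → Cyc.secFibre L ξ)
    (hs : ∀ ξ, s ξ ≠ 0) : AlgebraicCycle X ℤ where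
  toFun := Cyc.c1CapFun δ L ⇑α s
  supportWithinDomain' := Set.subset_univ _
  supportLocallyFiniteWithinDomain' := fun z _ => locallyFinite_support_c1Cap δ hX hL α s hs z

theorem c1CapCycle_apply (α : AlgebraicCycle X ℤ) (s : (ξ : X) → Cyc.secFibre L ξ)
    (hs : ∀ ξ, s ξ ≠ 0) : ⇑(c1CapCycle δ hX hL α s hs) = Cyc.c1CapFun δ L ⇑α s := rfl

theorem c1Cap_mem_Zk (k : ℤ) (α : X → ℤ) (hα : ∀ η, α η ≠ 0 → δ η = k + 1)
    (s : (ξ : X) → Cyc.secFibre L ξ) (ξ : X) (hξ : Cyc.c1CapFun δ L α s ξ ≠ 0) : δ ξ = k := by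
  unfold Cyc.c1CapFun at hξ
  obtain ⟨η, hη⟩ : ∃ η, α η * Cyc.secDivFun δ L η (s η) ξ ≠ 0 := by
    by_contra hall
    push_neg at hall
    exact hξ (finsum_eq_zero_of_forall_eq_zero hall)
  obtain ⟨hc, -⟩ := secDivFun_ne_zero δ (right_ne_zero_of_mul hη)
  have := hα η (left_ne_zero_of_mul hη)
  omega

end Cycle

section Gysin

variable {X D : Scheme.{u}} (δ : X → ℤ) (hX : Cyc.IsSetup X δ) {L N : X.Modules}
  (hL : PicF.IsInvertible L) (hN : PicF.IsInvertible N) (s : L.presheaf.obj (Opposite.op ⊤))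
  (i : D ⟶ X) [IsClosedImmersion i] (hD : Cyc.IsZeroSchemeOf i L s)
  (w : (ξ : X) → Cyc.secFibre L ξ)

include hX hD in
theorem Fall_eq_one_gysin (hw : ∀ ξ, w ξ ≠ 0) {η : X} (t : Cyc.secFibre N η) (ht : t ≠ 0)
    (u' : (ξ : X) → Cyc.secFibre N ξ) (hu' : ∀ ξ, u' ξ ≠ 0) (ξ : X)
    (h : η ⤳ ξ) (hd : δ ξ + 1 = δ η) (hξ : ξ ∉ Set.range ⇑i) :
    Fall hL hN (Cyc.gysinChoice L s w η) t u' (Cyc.gysinChoice L s w) δ ξ = 1 := by
  have hη : η ∉ Set.range ⇑i := notMem_of_specializes s i hD h hξ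
  rw [gysinChoice_of_notMem s i hD w η hη]
  exact Fall_eq_one_of_notMem δ hX hL hN s i hD w hw t ht u' hu' ξ h hd hξ

include hX hL hD in
/-- the divisor of the Gysin section vanishes off the zero scheme -/
theorem secDivFun_gysin_of_notMem (η ξ : X) (hξ : ξ ∉ Set.range ⇑i) :
    Cyc.secDivFun δ L η (Cyc.gysinChoice L s w η) ξ = 0 := by
  classical
  haveI : IsLocallyNoetherian X := hX.1
  unfold Cyc.secDivFun
  by_cases hc : η ⤳ ξ ∧ δ ξ + 1 = δ η
  swap
  · rw [dif_neg hc]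
  rw [dif_pos hc]
  have hη : η ∉ Set.range ⇑i := notMem_of_specializes s i hD hc.1 hξ
  have hK : Ring.KrullDimLE 1 (Cyc.LocQuot ξ η hc.1) :=
    krullDimLE_one_locQuot δ hX.2.2 ξ η hc.1 hc.2
  have hg := span_germ_eq_top_of_notMem hL s i hD ξ hξ
  rw [gysinChoice_of_notMem s i hD w η hη,
    secOrdAt_eq_coef hL ξ η hc.1 hK _ hg _ (mk_germ_ne_zero s i hD η hη)]
  have espec : L.presheaf.stalkSpecializes hc.1 ((L.presheaf.germ ⊤ ξ trivial) s) =
      (L.presheaf.germ ⊤ η trivial) s :=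
    TopCat.Presheaf.germ_stalkSpecializes_apply _ _ _ _
  rw [coef0_eq hL η _ _ _ 1 (by rw [one_smul, espec]), map_one]
  unfold Cyc.ordAt
  exact Groth.Agent.Lib.Helper18.KeyS.ordFrac_one' _ _

include hX hL hD in
theorem c1Cap_gysin_of_notMem (α : X → ℤ) (ξ : X) (hξ : ξ ∉ Set.range ⇑i) :
    Cyc.c1CapFun δ L α (Cyc.gysinChoice L s w) ξ = 0 := by
  unfold Cyc.c1CapFun
  apply finsum_eq_zero_of_forall_eq_zero
  intro η
  rw [secDivFun_gysin_of_notMem δ hX hL s i hD w η ξ hξ, mul_zero]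

set_option maxHeartbeats 1600000 in
include hX hL hN hD in
/-- commutativity of `c₁(L) ∩ -` (Gysin sections) and `c₁(N) ∩ -`, with error term supported on
the zero scheme -/
theorem c1_comm_in (hw : ∀ ξ, w ξ ≠ 0) (k : ℤ) (α : AlgebraicCycle X ℤ) (hα : α ∈ Cyc.Zk X δ k)
    (v : (ξ : X) → Cyc.secFibre N ξ) (hv : ∀ ξ, v ξ ≠ 0) :
    RatEquivZeroIn (Set.range ⇑i) δ (k - 2) (fun x =>
      Cyc.c1CapFun δ L (Cyc.c1CapFun δ N ⇑α v) (Cyc.gysinChoice L s w) x -
      Cyc.c1CapFun δ N (Cyc.c1CapFun δ L ⇑α (Cyc.gysinChoice L s w)) v x) := by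
  classical
  have hvL := gysinChoice_ne_zero s w hw
  refine ratEquivZeroIn_sum (L := L) (N := N) hL hN δ hX (I := {η : X // α η ≠ 0})
    (fun j => j.1) (fun j => Cyc.gysinChoice L s w j.1) (fun j => v j.1) v
    (Cyc.gysinChoice L s w) (fun j => - α j.1) (Set.range ⇑i) ?_ k ?_
    (fun j => hvL j.1) (fun j => hv j.1) hv hvL ?_ _ ?_
  · rintro ⟨j, ξ⟩ ⟨⟨h, hd⟩, hF⟩
    by_contra hnS
    exact hF (Fall_eq_one_gysin δ hX hL hN s i hD w hw (v j.1) (hv j.1) v hv ξ h hd hnS)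
  · intro j
    by_contra hne
    exact j.2 (hα j.1 hne)
  · intro x
    obtain ⟨t, ht, hfin⟩ := α.supportLocallyFiniteWithinDomain' x (Set.mem_univ x)
    refine ⟨interior t, isOpen_interior, mem_interior_iff_mem_nhds.mpr ht, ?_⟩
    have hfin' : {j : {ξ : X // α ξ ≠ 0} | j.1 ∈ t ∩ Function.support ⇑α}.Finite :=
      hfin.preimage (Subtype.val_injective.injOn)
    refine hfin'.subset ?_
    rintro j ⟨y, hy1, hy2⟩
    have hsp : j.1 ⤳ y := specializes_iff_mem_closure.mpr hy1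
    exact ⟨interior_subset (hsp.mem_open isOpen_interior hy2), j.2⟩
  · intro x
    show Cyc.c1CapFun δ L (Cyc.c1CapFun δ N ⇑α v) (Cyc.gysinChoice L s w) x -
      Cyc.c1CapFun δ N (Cyc.c1CapFun δ L ⇑α (Cyc.gysinChoice L s w)) v x = _
    rw [c1Cap_c1Cap δ hX hN hL α v (Cyc.gysinChoice L s w) hv hvL x,
      c1Cap_c1Cap δ hX hL hN α (Cyc.gysinChoice L s w) v hvL hv x]
    have hE := Bivar.finite_support_specializes α x
    have sup1 : (Function.support fun η =>
        α η * Cyc.c1CapFun δ L (Cyc.secDivFun δ N η (v η)) (Cyc.gysinChoice L s w) x).Finite := by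
      refine hE.subset ?_
      intro η hη
      rw [Function.mem_support] at hη
      refine ⟨?_, left_ne_zero_of_mul hη⟩
      have h2 := right_ne_zero_of_mul hη
      by_contra hns
      apply h2
      unfold Cyc.c1CapFun
      apply finsum_eq_zero_of_forall_eq_zero
      intro ξ
      by_contra hne
      obtain ⟨hc, -⟩ := secDivFun_ne_zero δ (left_ne_zero_of_mul hne)
      obtain ⟨hc', -⟩ := secDivFun_ne_zero δ (right_ne_zero_of_mul hne)
      exact hns (hc.1.trans hc'.1)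
    have sup2 : (Function.support fun η =>
        α η * Cyc.c1CapFun δ N (Cyc.secDivFun δ L η (Cyc.gysinChoice L s w η)) v x).Finite := by
      refine hE.subset ?_
      intro η hη
      rw [Function.mem_support] at hη
      refine ⟨?_, left_ne_zero_of_mul hη⟩
      have h2 := right_ne_zero_of_mul hη
      by_contra hns
      apply h2
      unfold Cyc.c1CapFun
      apply finsum_eq_zero_of_forall_eq_zero
      intro ξ
      by_contra hne
      obtain ⟨hc, -⟩ := secDivFun_ne_zero δ (left_ne_zero_of_mul hne)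
      obtain ⟨hc', -⟩ := secDivFun_ne_zero δ (right_ne_zero_of_mul hne)
      exact hns (hc.1.trans hc'.1)
    rw [← finsum_sub_distrib sup1 sup2]
    symm
    rw [finsum_subtype_eq_finsum_cond (fun η : X => α η ≠ 0)
      (f := fun η : X => - α η *
        (Cyc.c1CapFun δ N (Cyc.secDivFun δ L η (Cyc.gysinChoice L s w η)) v x -
        Cyc.c1CapFun δ L (Cyc.secDivFun δ N η (v η)) (Cyc.gysinChoice L s w) x))]
    apply finsum_congr
    intro η
    rw [finsum_eq_if]
    by_cases h0 : α η ≠ 0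
    · rw [if_pos h0]; ring
    · rw [if_neg h0]
      rw [not_not] at h0
      rw [h0]; ring

set_option maxHeartbeats 1600000 in
include hX hL hN hD in
/-- **the Gysin map commutes with `c₁(N) ∩ -`** -/
theorem gysin_c1 (hw : ∀ ξ, w ξ ≠ 0) (k : ℤ) (α : AlgebraicCycle X ℤ) (hα : α ∈ Cyc.Zk X δ k)
    (v : (ξ : X) → Cyc.secFibre N ξ) (hv : ∀ ξ, v ξ ≠ 0)
    (t : (d : D) → Cyc.secFibre ((Scheme.Modules.pullback i).obj N) d) (ht : ∀ d, t d ≠ 0) :
    RatEquivZeroIn (Set.univ : Set D) (fun d => δ (i d)) (k - 2) (fun d =>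
      Cyc.c1CapFun δ L (Cyc.c1CapFun δ N ⇑α v) (Cyc.gysinChoice L s w) (i d) -
      Cyc.c1CapFun (fun d => δ (i d)) ((Scheme.Modules.pullback i).obj N)
        (fun d => Cyc.c1CapFun δ L ⇑α (Cyc.gysinChoice L s w) (i d)) t d) := by
  classical
  have hDset := Groth.Agent.Lib.Helper18.ClImm.isSetup i δ hX
  haveI : IsLocallyNoetherian D := hDset.1
  have hND : PicF.IsInvertible ((Scheme.Modules.pullback i).obj N) := isInvertible_pullback i hN
  have hinj : Function.Injective (i : D → X) := i.isClosedEmbedding.injective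
  have hvL := gysinChoice_ne_zero s w hw
  -- the cycle `i^*α`
  let G : AlgebraicCycle X ℤ := c1CapCycle δ hX hL α (Cyc.gysinChoice L s w) hvL
  let GD : AlgebraicCycle D ℤ := Groth.Agent.Lib.Helper18.SubCyc.comapCycle i G
  have hGD : ⇑GD = fun d => Cyc.c1CapFun δ L ⇑α (Cyc.gysinChoice L s w) (i d) := rfl
  have hGDZ : GD ∈ Cyc.Zk D (fun d => δ (i d)) (k - 2 + 1) := by
    intro d hd
    by_contra hne
    apply hd
    have := c1Cap_mem_Zk δ (k - 1) ⇑α (fun η hη => by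
      have := hα η
      by_contra hne'
      exact hη (hα η (by omega))) (Cyc.gysinChoice L s w) (i d) hne
    show δ (i d) = k - 2 + 1
    omega
  -- pulled back sections
  let t' : (d : D) → Cyc.secFibre ((Scheme.Modules.pullback i).obj N) d := fun d =>
    Groth.Agent.Lib.Helper18.PullSec.pullFibre i N d (v (i d))
  have ht' : ∀ d, t' d ≠ 0 := fun d =>
    Groth.Agent.Lib.Helper18.PullSec.pullFibre_ne_zero i N hN d _ (hv (i d))
  have hA := ratEquivZeroIn_comap i δ hX (k - 2) _ (c1_comm_in δ hX hL hN s i hD w hw k α hα v hv)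
  have hC := c1Cap_sections (fun d => δ (i d)) hDset hND (k - 2) GD hGDZ t' t ht' ht
  have hcmp : ∀ d₀ : D, Cyc.c1CapFun δ N (Cyc.c1CapFun δ L ⇑α (Cyc.gysinChoice L s w)) v (i d₀) =
      Cyc.c1CapFun (fun d => δ (i d)) ((Scheme.Modules.pullback i).obj N) ⇑GD t' d₀ := by
    intro d₀
    rw [hGD]
    unfold Cyc.c1CapFun
    rw [Groth.Agent.Lib.Helper18.PullSec.finsum_eq_finsum_comp (i : D → X) hinj]
    · apply finsum_congr
      intro d
      rw [Groth.Agent.Lib.Helper18.PullSec.secDivFun_pullFibre i N δ hX hN d₀ d _ (hv (i d))]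
    · intro ξ hξ
      by_contra hnm
      apply hξ
      have := c1Cap_gysin_of_notMem δ hX hL s i hD w ⇑α ξ hnm
      unfold Cyc.c1CapFun at this
      rw [this, zero_mul]
  refine RatEquivZeroIn.congr (RatEquivZeroIn.add hA hC) ?_
  intro d
  simp only []
  rw [hcmp d, hGD]
  ring

end Gysin

end Groth.Agent.Lib.Helper18.KF21
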