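import Mathlib
import Groth.Agent.Lib.Helper18.KF18

set_option autoImplicit false
set_option linter.style.haveILetI false
set_option linter.unusedSectionVars false

/-! Key formula, part 24: independence of the sections, with control of the support. -/

universe u
open CategoryTheory AlgebraicGeometry TopologicalSpace

namespace Groth.Agent.Lib.Helper18.KF24

open Groth.Agent.Lib.Helper18.KF12 Groth.Agent.Lib.Helper18.KF16
  Groth.Agent.Lib.Helper18.C1Indep Groth.Agent.Lib.Helper18.InvStalk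

variable {X : Scheme.{u}} {L : X.Modules}

/-- independence of the rational sections: if the divisors of the two families of sections agree
at the points off `S`, the difference is a sum of principal divisors on points of `S` -/
theorem c1Cap_sections_in (δ : X → ℤ) (hX : Cyc.IsSetup X δ) (hL : PicF.IsInvertible L) (k : ℤ)
    (α : AlgebraicCycle X ℤ) (hα : α ∈ Cyc.Zk X δ (k + 1))
    (s₁ s₂ : (ξ : X) → Cyc.secFibre L ξ) (hs₁ : ∀ ξ, s₁ ξ ≠ 0) (hs₂ : ∀ ξ, s₂ ξ ≠ 0)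
    (S : Set X)
    (hS : ∀ ξ, ξ ∉ S → ∀ x, Cyc.secDivFun δ L ξ (s₁ ξ) x = Cyc.secDivFun δ L ξ (s₂ ξ) x) :
    RatEquivZeroIn S δ k
      (fun x => Cyc.c1CapFun δ L ⇑α s₁ x - Cyc.c1CapFun δ L ⇑α s₂ x) := by
  classical
  choose g hg using (fun ξ : X => exists_generator hL ξ)
  choose ψ₁ e₁ using (fun ξ : X => exists_smul_mk_eq
    (IsLocalRing.maximalIdeal (X.presheaf.stalk ξ)) (g ξ) (hg ξ) (s₁ ξ))
  choose ψ₂ e₂ using (fun ξ : X => exists_smul_mk_eq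
    (IsLocalRing.maximalIdeal (X.presheaf.stalk ξ)) (g ξ) (hg ξ) (s₂ ξ))
  have hres : ∀ (ξ : X) (s : Cyc.secFibre L ξ) (ψ : X.presheaf.stalk ξ), s ≠ 0 →
      s = ψ • (Submodule.Quotient.mk (g ξ) : Cyc.secFibre L ξ) → (X.residue ξ).hom ψ ≠ 0 := by
    intro ξ s ψ hs e h0
    have hmem : ψ ∈ IsLocalRing.maximalIdeal (X.presheaf.stalk ξ) :=
      (IsLocalRing.residue_eq_zero_iff _).mp h0
    apply hs
    rw [e, ← Submodule.Quotient.mk_smul, Submodule.Quotient.mk_eq_zero]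
    exact Submodule.smul_mem_smul hmem trivial
  set φ : (ξ : X) → X.residueField ξ := fun ξ =>
    (X.residue ξ).hom (ψ₁ ξ) / (X.residue ξ).hom (ψ₂ ξ) with hφdef
  have hφ : ∀ ξ, φ ξ ≠ 0 := fun ξ =>
    div_ne_zero (hres ξ _ _ (hs₁ ξ) (e₁ ξ)) (hres ξ _ _ (hs₂ ξ) (e₂ ξ))
  have hdiff : ∀ ξ x : X, Cyc.secDivFun δ L ξ (s₁ ξ) x - Cyc.secDivFun δ L ξ (s₂ ξ) x =
      Cyc.divFun δ ξ (φ ξ) x := by
    intro ξ x
    unfold Cyc.secDivFun Cyc.divFun
    by_cases hc : ξ ⤳ x ∧ δ x + 1 = δ ξ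
    · rw [dif_pos hc, dif_pos hc, dif_pos hc]
      exact secOrdAt_sub δ hX hL x ξ hc.1 hc.2 (g ξ) (hg ξ) (s₁ ξ) (s₂ ξ) (hs₁ ξ) (hs₂ ξ)
        (ψ₁ ξ) (ψ₂ ξ) (e₁ ξ) (e₂ ξ)
    · rw [dif_neg hc, dif_neg hc, dif_neg hc, sub_zero]
  have hsupp : ∀ (s : (ξ : X) → Cyc.secFibre L ξ) (x : X),
      (Function.support fun ξ => α ξ * Cyc.secDivFun δ L ξ (s ξ) x).Finite :=
    fun s x => finite_support_c1Cap_summand δ L α s x
  refine ⟨{ξ : X // α ξ ≠ 0 ∧ ξ ∈ S}, fun i => i.1, fun i => (φ i.1) ^ (α i.1), ?_, ?_, ?_, ?_,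
    fun i => i.2.2⟩
  · intro i
    by_contra hne
    exact i.2.1 (hα i.1 hne)
  · intro i
    exact zpow_ne_zero _ (hφ i.1)
  · intro x
    obtain ⟨t, ht, hfin⟩ := α.supportLocallyFiniteWithinDomain' x (Set.mem_univ x)
    refine ⟨interior t, isOpen_interior, mem_interior_iff_mem_nhds.mpr ht, ?_⟩
    have hfin' : {i : {ξ : X // α ξ ≠ 0 ∧ ξ ∈ S} | i.1 ∈ t ∩ Function.support ⇑α}.Finite :=
      hfin.preimage (Subtype.val_injective.injOn)
    refine hfin'.subset ?_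
    rintro i ⟨y, hy1, hy2⟩
    have hsp : i.1 ⤳ y := specializes_iff_mem_closure.mpr hy1
    exact ⟨interior_subset (hsp.mem_open isOpen_interior hy2), i.2.1⟩
  · intro x
    show Cyc.c1CapFun δ L ⇑α s₁ x - Cyc.c1CapFun δ L ⇑α s₂ x = _
    unfold Cyc.c1CapFun
    rw [← finsum_sub_distrib (hsupp s₁ x) (hsupp s₂ x)]
    have e3 : ∀ ξ : X, α ξ * Cyc.secDivFun δ L ξ (s₁ ξ) x - α ξ * Cyc.secDivFun δ L ξ (s₂ ξ) x =
        Cyc.divFun δ ξ (φ ξ ^ α ξ) x := by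
      intro ξ
      rw [← mul_sub, hdiff, divFun_zpow δ hX ξ (φ ξ) (hφ ξ)]
    rw [finsum_congr e3]
    symm
    rw [finsum_subtype_eq_finsum_cond (fun ξ : X => α ξ ≠ 0 ∧ ξ ∈ S)
      (f := fun ξ : X => Cyc.divFun δ ξ (φ ξ ^ α ξ) x)]
    apply finsum_congr
    intro ξ
    by_cases h0 : α ξ ≠ 0 ∧ ξ ∈ S
    · rw [finsum_eq_if, if_pos h0]
    · rw [finsum_eq_if, if_neg h0]
      rw [divFun_zpow δ hX ξ (φ ξ) (hφ ξ)]
      by_cases h1 : α ξ = 0
      · rw [h1, zero_mul]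
      · have hξS : ξ ∉ S := fun hmem => h0 ⟨h1, hmem⟩
        rw [← hdiff, hS ξ hξS x, sub_self, mul_zero]

end Groth.Agent.Lib.Helper18.KF24
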