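import Mathlib
import Groth.Prelude.Def_C1

set_option autoImplicit false
set_option linter.style.haveILetI false
set_option linter.unusedSectionVars false

/-! Key formula, part 22: stalks of the intersection of two closed subschemes. -/

universe u
open CategoryTheory AlgebraicGeometry TopologicalSpace Limits

namespace Groth.Agent.Lib.Helper18.KF22

variable {X D D' P : Scheme.{u}} {i : D ⟶ X} {i' : D' ⟶ X} [IsClosedImmersion i]
  [IsClosedImmersion i'] {j : P ⟶ D} {j' : P ⟶ D'} (hP : IsPullback j j' i i')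

include hP in
/-- the ideal sheaf of the intersection is contained in the sum of the ideal sheaves -/
theorem ker_fst_comp_le : (j ≫ i).ker ≤ i.ker ⊔ i'.ker := by
  set J := i.ker ⊔ i'.ker with hJ
  have h1 : i.ker ≤ J.subschemeι.ker := by
    rw [Scheme.IdealSheafData.ker_subschemeι]; exact le_sup_left
  have h2 : i'.ker ≤ J.subschemeι.ker := by
    rw [Scheme.IdealSheafData.ker_subschemeι]; exact le_sup_right
  let a := IsClosedImmersion.lift i J.subschemeι h1
  let a' := IsClosedImmersion.lift i' J.subschemeι h2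
  have haa : a ≫ i = a' ≫ i' := by
    rw [IsClosedImmersion.lift_fac, IsClosedImmersion.lift_fac]
  let c : J.subscheme ⟶ P := hP.lift a a' haa
  have hc : c ≫ j ≫ i = J.subschemeι := by
    rw [← Category.assoc, hP.lift_fst, IsClosedImmersion.lift_fac]
  calc (j ≫ i).ker ≤ (c ≫ j ≫ i).ker :=
        Scheme.Hom.le_ker_comp _ _
    _ = J := by rw [hc, Scheme.IdealSheafData.ker_subschemeι]

section Stalk

include hP in
theorem isClosedImmersion_fst : IsClosedImmersion j :=
  MorphismProperty.of_isPullback (P := @IsClosedImmersion) hP.flip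
    (inferInstanceAs (IsClosedImmersion i'))

set_option maxHeartbeats 800000 in
include hP in
/-- elements of the kernel of the stalk map of `D ∩ D' → D` come from local sections of the ideal
of `D'` -/
theorem exists_of_mem_ker_fst_stalkMap (z : P)
    (y : D.presheaf.stalk (j z))
    (hy : (j.stalkMap z).hom y = 0) :
    ∃ (U : X.Opens) (hx : i (j z) ∈ U) (b' : Γ(X, U)),
      (i'.app U).hom b' = 0 ∧
      y = D.presheaf.germ (i ⁻¹ᵁ U) (j z) hx ((i.app U).hom b') := by
  haveI : IsClosedImmersion j := isClosedImmersion_fst hP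
  obtain ⟨a, rfl⟩ := i.stalkMap_surjective (j z) y
  obtain ⟨U₀, hx₀, ã, rfl⟩ := X.presheaf.exists_germ_eq (x := i (j z)) a
  set g : P ⟶ X := j ≫ i with hg
  have hgz : g z = i (j z) := rfl
  -- the germ of `g^♯ ã` at `z` vanishes
  have h0 : P.presheaf.germ (g ⁻¹ᵁ U₀) z hx₀ ((g.app U₀).hom ã) = 0 := by
    rw [← Scheme.Hom.germ_stalkMap_apply g U₀ z hx₀ ã]
    have : g.stalkMap z = i.stalkMap (j z) ≫ j.stalkMap z :=
      Scheme.Hom.stalkMap_comp _ _ _
    rw [this]
    exact hy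
  have h0' : P.presheaf.germ (g ⁻¹ᵁ U₀) z hx₀ ((g.app U₀).hom ã) =
      P.presheaf.germ (g ⁻¹ᵁ U₀) z hx₀ 0 := by rw [h0, map_zero]
  obtain ⟨W, hzW, iU, iV, hres⟩ := P.presheaf.germ_eq z hx₀ hx₀ _ _ h0'
  rw [map_zero] at hres
  -- `W` is the preimage of an open of `X`
  obtain ⟨U₁s, hU₁o, hU₁⟩ := g.isClosedEmbedding.isInducing.isOpen_iff.mp W.2
  let U₁ : X.Opens := ⟨U₁s, hU₁o⟩
  have hzU₁ : g z ∈ U₁ := by
    have : z ∈ (g : P → X) ⁻¹' U₁s := by rw [hU₁]; exact hzW
    exact this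
  obtain ⟨U, hUaff, hxU, hUle⟩ := TopologicalSpace.Opens.isBasis_iff_nbhd.mp
    X.isBasis_affineOpens (U := U₀ ⊓ U₁) (x := g z) ⟨hx₀, hzU₁⟩
  have hU₀ : U ≤ U₀ := hUle.trans inf_le_left
  have hUW : g ⁻¹ᵁ U ≤ W := by
    intro p hp
    have hp1 : g p ∈ U₁ := (hUle hp).2
    have : p ∈ (g : P → X) ⁻¹' U₁s := hp1
    rw [hU₁] at this
    exact this
  set b₀ : Γ(X, U) := (X.presheaf.map (homOfLE hU₀).op).hom ã with hb₀
  have hb₀0 : (g.app U).hom b₀ = 0 := by
    have nat := congrArg (fun k => k.hom ã) (g.naturality (homOfLE hU₀).op)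
    simp only [CommRingCat.hom_comp, RingHom.comp_apply] at nat
    rw [hb₀, nat]
    have e2 : P.presheaf.map (homOfLE (g.preimage_mono hU₀)).op =
        P.presheaf.map iU.op ≫ P.presheaf.map (homOfLE hUW).op := by
      rw [← Functor.map_comp]
      rfl
    erw [e2]
    rw [CommRingCat.hom_comp, RingHom.comp_apply, hres, map_zero]
  -- membership in the sum of the ideals
  have hmem : b₀ ∈ (i.ker ⊔ i'.ker).ideal ⟨U, hUaff⟩ := by
    apply ker_fst_comp_le hP ⟨U, hUaff⟩
    rw [Scheme.Hom.ker_apply]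
    exact hb₀0
  rw [Scheme.IdealSheafData.ideal_sup] at hmem
  change b₀ ∈ i.ker.ideal ⟨U, hUaff⟩ ⊔ i'.ker.ideal ⟨U, hUaff⟩ at hmem
  rw [Scheme.Hom.ker_apply, Scheme.Hom.ker_apply] at hmem
  obtain ⟨b, hb, b', hb', hsum⟩ := Submodule.mem_sup.mp hmem
  refine ⟨U, hxU, b', hb', ?_⟩
  have e3 : X.presheaf.germ U₀ (i (j z)) hx₀ ã =
      X.presheaf.germ U (i (j z)) hxU b₀ := by
    rw [hb₀]
    exact (TopCat.Presheaf.germ_res_apply X.presheaf (homOfLE hU₀) _ hxU ã).symm
  rw [e3, Scheme.Hom.germ_stalkMap_apply, ← hsum, map_add]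
  have : (i.app U).hom b = 0 := hb
  rw [this, zero_add]

end Stalk

end Groth.Agent.Lib.Helper18.KF22
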