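import Mathlib
import Groth.Agent.Lib.Helper18.KF21
import Groth.Agent.Lib.Helper18.KF22

set_option autoImplicit false
set_option linter.style.haveILetI false
set_option linter.unusedSectionVars false

/-! Key formula, part 23: commutativity of two Gysin caps, with error term supported on the
intersection of the two zero schemes. -/

universe u
open CategoryTheory AlgebraicGeometry TopologicalSpace Limits

namespace Groth.Agent.Lib.Helper18.KF23

open Groth.Agent.Lib.Helper18.InvStalk Groth.Agent.Lib.Helper18.LocStalk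
  Groth.Agent.Lib.Helper18.DivPull Groth.Agent.Lib.Helper18.KF6 Groth.Agent.Lib.Helper18.KF7
  Groth.Agent.Lib.Helper18.KF8 Groth.Agent.Lib.Helper18.KF5 Groth.Agent.Lib.Helper18.KF9
  Groth.Agent.Lib.Helper18.KF4 Groth.Agent.Lib.Helper18.KF2
  Groth.Agent.Lib.Helper18.KF12 Groth.Agent.Lib.Helper18.KF11 Groth.Agent.Lib.Helper18.KF10
  Groth.Agent.Lib.Helper18.KF13 Groth.Agent.Lib.Helper18.KF14 Groth.Agent.Lib.Helper18.KF15
  Groth.Agent.Lib.Helper18.KF16
  Groth.Agent.Lib.Helper18.KF17 Groth.Agent.Lib.Helper18.KF18 Groth.Agent.Lib.Helper18.KF19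
  Groth.Agent.Lib.Helper18.KF21 Groth.Agent.Lib.Helper29.QCoh

section Right

variable {X D : Scheme.{u}} (δ : X → ℤ) (hX : Cyc.IsSetup X δ) {L N : X.Modules}
  (hL : PicF.IsInvertible L) (hN : PicF.IsInvertible N) (s : N.presheaf.obj (Opposite.op ⊤))
  (i : D ⟶ X) [IsClosedImmersion i] (hD : Cyc.IsZeroSchemeOf i N s)
  (w : (ξ : X) → Cyc.secFibre N ξ)

set_option synthInstance.maxHeartbeats 400000 in
set_option maxHeartbeats 1600000 in
include hX hD in
/-- off the zero scheme of `s ∈ Γ(N)`, the rational functions of the key formula with the Gysin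
choice on the `N`-side are `1` -/
theorem Fall_eq_one_right (hw : ∀ ξ, w ξ ≠ 0) {η : X} (t : Cyc.secFibre L η) (ht : t ≠ 0)
    (v' : (ξ : X) → Cyc.secFibre L ξ) (hv' : ∀ ξ, v' ξ ≠ 0) (ξ : X)
    (h : η ⤳ ξ) (hd : δ ξ + 1 = δ η) (hξ : ξ ∉ Set.range ⇑i) :
    Fall hL hN t (Cyc.gysinChoice N s w η) (Cyc.gysinChoice N s w) v' δ ξ = 1 := by
  haveI : IsLocallyNoetherian X := hX.1
  have hR := dim_locQuot_eq_one δ hX.2.2 ξ η h hd
  haveI hK : Ring.KrullDimLE 1 (Cyc.LocQuot ξ η h) := krullDimLE_one_locQuot δ hX.2.2 ξ η h hd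
  have hu : ∀ ξ, Cyc.gysinChoice N s w ξ ≠ 0 := gysinChoice_ne_zero s w hw
  have hη : η ∉ Set.range ⇑i := notMem_of_specializes s i hD h hξ
  have hsη := mk_germ_ne_zero s i hD η hη
  have hg := span_germ_eq_top_of_notMem hN s i hD ξ hξ
  have ewξ := gysinChoice_of_notMem s i hD w ξ hξ
  have ewη := gysinChoice_of_notMem s i hD w η hη
  set u := Cyc.gysinChoice N s w with hu_def
  rw [Fall_eq hL hN _ _ u v' δ h hd]
  have step1 : Fpt hL hN t (u η) u v' h = Fgen hL hN t (u η) u v' h _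
      (Classical.choose_spec (exists_generator hL ξ)) _ hg :=
    Fgen_indep hL hN _ _ u v' δ hX h hd ht (hu η) (hu ξ) (hv' ξ) _ _ _ _ _ _ _ _
  rw [step1]
  unfold Fgen
  have espec : N.presheaf.stalkSpecializes h ((N.presheaf.germ ⊤ ξ trivial) s) =
      (N.presheaf.germ ⊤ η trivial) s :=
    TopCat.Presheaf.germ_stalkSpecializes_apply _ _ _ _
  have cb : coef0 η (N.presheaf.stalkSpecializes h ((N.presheaf.germ ⊤ ξ trivial) s))
      (span_stalkSpecializes_eq_top hN h _ hg) (u η) = 1 := by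
    rw [coef0_eq hN η _ _ (u η) 1 (by rw [one_smul, espec]; exact ewη), map_one]
  have cu : coef0 ξ ((N.presheaf.germ ⊤ ξ trivial) s) hg (u ξ) = 1 := by
    rw [coef0_eq hN ξ _ _ (u ξ) 1 (by rw [one_smul]; exact ewξ), map_one]
  rw [cb, cu]
  unfold Fsym
  have ha : coef0 η (L.presheaf.stalkSpecializes h (Classical.choose (exists_generator hL ξ)))
      (span_stalkSpecializes_eq_top hL h _ (Classical.choose_spec (exists_generator hL ξ))) t ≠ 0 :=
    coef0_ne_zero _ _ _ _ ht
  have h1 := tameK_unit_right (K := X.residueField η) hR (1 : (Cyc.LocQuot ξ η h)ˣ) ha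
  rw [Units.val_one, map_one, map_one, one_zpow, inv_one] at h1
  rw [h1, map_one, one_zpow, one_mul, one_mul,
    Groth.Agent.Lib.Helper18.KeyS.ordFrac_one', zpow_zero, inv_one]

end Right

section Two

variable {X D D' : Scheme.{u}} (δ : X → ℤ) (hX : Cyc.IsSetup X δ) {L L' : X.Modules}
  (hL : PicF.IsInvertible L) (hL' : PicF.IsInvertible L')
  (s : L.presheaf.obj (Opposite.op ⊤)) (s' : L'.presheaf.obj (Opposite.op ⊤))
  (i : D ⟶ X) (i' : D' ⟶ X) [IsClosedImmersion i] [IsClosedImmersion i']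
  (hD : Cyc.IsZeroSchemeOf i L s) (hD' : Cyc.IsZeroSchemeOf i' L' s')
  (w : (ξ : X) → Cyc.secFibre L ξ) (w' : (ξ : X) → Cyc.secFibre L' ξ)

set_option maxHeartbeats 1600000 in
include hX hL hL' hD hD' in
/-- commutativity of the two Gysin caps, with error term supported on `D ∩ D'` -/
theorem gysin_comm_in (hw : ∀ ξ, w ξ ≠ 0) (hw' : ∀ ξ, w' ξ ≠ 0) (k : ℤ)
    (α : AlgebraicCycle X ℤ) (hα : α ∈ Cyc.Zk X δ k) :
    RatEquivZeroIn (Set.range ⇑i ∩ Set.range ⇑i') δ (k - 2) (fun x =>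
      Cyc.c1CapFun δ L' (Cyc.c1CapFun δ L ⇑α (Cyc.gysinChoice L s w)) (Cyc.gysinChoice L' s' w') x -
      Cyc.c1CapFun δ L (Cyc.c1CapFun δ L' ⇑α (Cyc.gysinChoice L' s' w')) (Cyc.gysinChoice L s w) x)
    := by
  classical
  have hvL := gysinChoice_ne_zero s w hw
  have hvL' := gysinChoice_ne_zero s' w' hw'
  refine ratEquivZeroIn_sum (L := L) (N := L') hL hL' δ hX (I := {η : X // α η ≠ 0})
    (fun j => j.1) (fun j => Cyc.gysinChoice L s w j.1) (fun j => Cyc.gysinChoice L' s' w' j.1)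
    (Cyc.gysinChoice L' s' w') (Cyc.gysinChoice L s w) (fun j => α j.1)
    (Set.range ⇑i ∩ Set.range ⇑i') ?_ k ?_
    (fun j => hvL j.1) (fun j => hvL' j.1) hvL' hvL ?_ _ ?_
  · rintro ⟨j, ξ⟩ ⟨⟨h, hd⟩, hF⟩
    refine ⟨?_, ?_⟩
    · by_contra hnS
      exact hF (Fall_eq_one_gysin δ hX hL hL' s i hD w hw _ (hvL' j.1) _ hvL' ξ h hd hnS)
    · by_contra hnS
      exact hF (Fall_eq_one_right δ hX hL hL' s' i' hD' w' hw' _ (hvL j.1) _ hvL ξ h hd hnS)
  · intro j
    by_contra hne
    exact j.2 (hα j.1 hne)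
  · intro x
    obtain ⟨t, ht, hfin⟩ := α.supportLocallyFiniteWithinDomain' x (Set.mem_univ x)
    refine ⟨interior t, isOpen_interior, mem_interior_iff_mem_nhds.mpr ht, ?_⟩
    have hfin' : {j : {ξ : X // α ξ ≠ 0} | j.1 ∈ t ∩ Function.support ⇑α}.Finite :=
      hfin.preimage (Subtype.val_injective.injOn)
    refine hfin'.subset ?_
    rintro j ⟨y, hy1, hy2⟩
    have hsp : j.1 ⤳ y := specializes_iff_mem_closure.mpr hy1
    exact ⟨interior_subset (hsp.mem_open isOpen_interior hy2), j.2⟩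
  · intro x
    show Cyc.c1CapFun δ L' (Cyc.c1CapFun δ L ⇑α (Cyc.gysinChoice L s w))
        (Cyc.gysinChoice L' s' w') x -
      Cyc.c1CapFun δ L (Cyc.c1CapFun δ L' ⇑α (Cyc.gysinChoice L' s' w'))
        (Cyc.gysinChoice L s w) x = _
    rw [c1Cap_c1Cap δ hX hL hL' α (Cyc.gysinChoice L s w) (Cyc.gysinChoice L' s' w') hvL hvL' x,
      c1Cap_c1Cap δ hX hL' hL α (Cyc.gysinChoice L' s' w') (Cyc.gysinChoice L s w) hvL' hvL x]
    have hE := Bivar.finite_support_specializes α x
    have sup1 : (Function.support fun η =>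
        α η * Cyc.c1CapFun δ L' (Cyc.secDivFun δ L η (Cyc.gysinChoice L s w η))
          (Cyc.gysinChoice L' s' w') x).Finite := by
      refine hE.subset ?_
      intro η hη
      rw [Function.mem_support] at hη
      refine ⟨?_, left_ne_zero_of_mul hη⟩
      have h2 := right_ne_zero_of_mul hη
      by_contra hns
      apply h2
      unfold Cyc.c1CapFun
      apply finsum_eq_zero_of_forall_eq_zero
      intro ξ
      by_contra hne
      obtain ⟨hc, -⟩ := secDivFun_ne_zero δ (left_ne_zero_of_mul hne)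
      obtain ⟨hc', -⟩ := secDivFun_ne_zero δ (right_ne_zero_of_mul hne)
      exact hns (hc.1.trans hc'.1)
    have sup2 : (Function.support fun η =>
        α η * Cyc.c1CapFun δ L (Cyc.secDivFun δ L' η (Cyc.gysinChoice L' s' w' η))
          (Cyc.gysinChoice L s w) x).Finite := by
      refine hE.subset ?_
      intro η hη
      rw [Function.mem_support] at hη
      refine ⟨?_, left_ne_zero_of_mul hη⟩
      have h2 := right_ne_zero_of_mul hη
      by_contra hns
      apply h2
      unfold Cyc.c1CapFun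
      apply finsum_eq_zero_of_forall_eq_zero
      intro ξ
      by_contra hne
      obtain ⟨hc, -⟩ := secDivFun_ne_zero δ (left_ne_zero_of_mul hne)
      obtain ⟨hc', -⟩ := secDivFun_ne_zero δ (right_ne_zero_of_mul hne)
      exact hns (hc.1.trans hc'.1)
    rw [← finsum_sub_distrib sup1 sup2]
    symm
    rw [finsum_subtype_eq_finsum_cond (fun η : X => α η ≠ 0)
      (f := fun η : X => α η *
        (Cyc.c1CapFun δ L' (Cyc.secDivFun δ L η (Cyc.gysinChoice L s w η))
          (Cyc.gysinChoice L' s' w') x -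
        Cyc.c1CapFun δ L (Cyc.secDivFun δ L' η (Cyc.gysinChoice L' s' w' η))
          (Cyc.gysinChoice L s w) x))]
    apply finsum_congr
    intro η
    rw [finsum_eq_if]
    by_cases h0 : α η ≠ 0
    · rw [if_pos h0]; ring
    · rw [if_neg h0]
      rw [not_not] at h0
      rw [h0]; ring

end Two

end Groth.Agent.Lib.Helper18.KF23
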