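import Mathlib
import Groth.Agent.Lib.Helper18.KF23
import Groth.Agent.Lib.Helper18.KF24

set_option autoImplicit false
set_option linter.style.haveILetI false
set_option linter.unusedSectionVars false

/-! Key formula, part 25: local structure of the zero scheme of a section, and of the
intersection of two zero schemes. -/

universe u
open CategoryTheory AlgebraicGeometry TopologicalSpace Limits

namespace Groth.Agent.Lib.Helper18.KF25

open Groth.Agent.Lib.Helper18.InvStalk Groth.Agent.Lib.Helper18.KF8 Groth.Agent.Lib.Helper18.KF17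

section Emb

variable {X Z : Scheme.{u}} (j : Z ⟶ X) [IsClosedImmersion j]

/-- a section whose pullback has vanishing germ pulls back to zero on a neighbourhood -/
theorem exists_app_eq_zero (z : Z) (U₀ : X.Opens) (hx₀ : j z ∈ U₀) (ã : Γ(X, U₀))
    (h0 : Z.presheaf.germ (j ⁻¹ᵁ U₀) z hx₀ ((j.app U₀).hom ã) = 0) :
    ∃ (U : X.Opens) (hU₀ : U ≤ U₀), j z ∈ U ∧
      (j.app U).hom ((X.presheaf.map (homOfLE hU₀).op).hom ã) = 0 := by
  have h0' : Z.presheaf.germ (j ⁻¹ᵁ U₀) z hx₀ ((j.app U₀).hom ã) =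
      Z.presheaf.germ (j ⁻¹ᵁ U₀) z hx₀ 0 := by rw [h0, map_zero]
  obtain ⟨W, hzW, iU, iV, hres⟩ := Z.presheaf.germ_eq z hx₀ hx₀ _ _ h0'
  rw [map_zero] at hres
  obtain ⟨U₁s, hU₁o, hU₁⟩ := j.isClosedEmbedding.isInducing.isOpen_iff.mp W.2
  let U₁ : X.Opens := ⟨U₁s, hU₁o⟩
  have hzU₁ : j z ∈ U₁ := by
    have : z ∈ (j : Z → X) ⁻¹' U₁s := by rw [hU₁]; exact hzW
    exact this
  have hU₀ : U₀ ⊓ U₁ ≤ U₀ := inf_le_left
  have hUW : j ⁻¹ᵁ (U₀ ⊓ U₁) ≤ W := by
    intro p hp
    have hp1 : j p ∈ U₁ := hp.2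
    have : p ∈ (j : Z → X) ⁻¹' U₁s := hp1
    rw [hU₁] at this
    exact this
  refine ⟨U₀ ⊓ U₁, hU₀, ⟨hx₀, hzU₁⟩, ?_⟩
  have nat := congrArg (fun k => k.hom ã) (j.naturality (homOfLE hU₀).op)
  simp only [CommRingCat.hom_comp, RingHom.comp_apply] at nat
  rw [nat]
  have e2 : Z.presheaf.map (homOfLE (j.preimage_mono hU₀)).op =
      Z.presheaf.map iU.op ≫ Z.presheaf.map (homOfLE hUW).op := by
    rw [← Functor.map_comp]
    rfl
  erw [e2]
  rw [CommRingCat.hom_comp, RingHom.comp_apply, hres, map_zero]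

end Emb

section Unit

/-- two elements of a local ring generating the same ideal differ by a unit -/
theorem exists_unit_mul_of_span_eq {R : Type*} [CommRing R] [IsLocalRing R] {a b : R}
    (hab : a ∈ Ideal.span {b}) (hba : b ∈ Ideal.span {a}) : ∃ c : Rˣ, a = (c : R) * b := by
  obtain ⟨r₁, h1⟩ := Ideal.mem_span_singleton'.mp hab
  obtain ⟨r₂, h2⟩ := Ideal.mem_span_singleton'.mp hba
  by_cases hu : IsUnit r₁
  · exact ⟨hu.unit, by rw [IsUnit.unit_spec]; exact h1.symm⟩
  · have hm : r₁ * r₂ ∈ IsLocalRing.maximalIdeal R :=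
      Ideal.mul_mem_right _ _ hu
    have hu2 : IsUnit (1 - r₁ * r₂) := by
      by_contra hnu
      have h3 : (1 - r₁ * r₂) + r₁ * r₂ ∈ IsLocalRing.maximalIdeal R :=
        Ideal.add_mem _ hnu hm
      rw [sub_add_cancel] at h3
      exact (IsLocalRing.maximalIdeal.isMaximal R).ne_top ((Ideal.eq_top_iff_one _).mpr h3)
    have h4 : (1 - r₁ * r₂) * a = 0 := by
      rw [sub_mul, one_mul, mul_assoc, h2, h1, sub_self]
    have ha : a = 0 := by
      obtain ⟨v, hv⟩ := hu2.exists_left_inv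
      calc a = (v * (1 - r₁ * r₂)) * a := by rw [hv, one_mul]
        _ = 0 := by rw [mul_assoc, h4, mul_zero]
    have hb : b = 0 := by rw [← h2, ha, mul_zero]
    exact ⟨1, by rw [ha, hb, mul_zero]⟩

end Unit

section Zero

variable {X D' : Scheme.{u}} {L' : X.Modules} (hL' : PicF.IsInvertible L')
  (s' : L'.presheaf.obj (Opposite.op ⊤)) (i' : D' ⟶ X) [IsClosedImmersion i']
  (hD' : Cyc.IsZeroSchemeOf i' L' s')

include hL' hD' in
/-- the ideal of the zero scheme at a point is generated by the coefficient of the section -/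
theorem ker_stalkMap_eq_span (d' : D') (e' : L'.presheaf.stalk (i' d'))
    (he' : Submodule.span (X.presheaf.stalk (i' d')) {e'} = ⊤) (f' : X.presheaf.stalk (i' d'))
    (hf' : (L'.presheaf.germ ⊤ (i' d') trivial) s' = f' • e') :
    RingHom.ker (i'.stalkMap d').hom = Ideal.span {f'} := by
  obtain ⟨t₁, f₁, ht₁, hs₁, hker⟩ := hD'.2 d'
  obtain ⟨c, hc⟩ := exists_unit_smul hL' (i' d') t₁ e' ht₁ he'
  have hff : f₁ = f' * c := by
    have h3 : (f₁ - f' * c) • t₁ = 0 := by
      rw [sub_smul, mul_smul, ← hc, ← hs₁, ← hf', sub_self]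
    exact sub_eq_zero.mp (free_of_generator hL' (i' d') _ ht₁ _ h3)
  rw [hker, hff]
  exact Ideal.span_singleton_mul_right_unit c.isUnit f'

include hL' hD' in
/-- local sections of the ideal of the zero scheme are multiples of the coefficient -/
theorem germ_mem_span (d' : D') (x : X) (hx : i' d' = x) (e' : L'.presheaf.stalk x)
    (he' : Submodule.span (X.presheaf.stalk x) {e'} = ⊤) (f' : X.presheaf.stalk x)
    (hf' : (L'.presheaf.germ ⊤ x trivial) s' = f' • e') (U : X.Opens) (hxU : x ∈ U)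
    (b' : Γ(X, U)) (hb' : (i'.app U).hom b' = 0) :
    X.presheaf.germ U x hxU b' ∈ Ideal.span {f'} := by
  subst hx
  rw [← ker_stalkMap_eq_span hL' s' i' hD' d' e' he' f' hf', RingHom.mem_ker,
    Scheme.Hom.germ_stalkMap_apply, hb', map_zero]

include hL' hD' in
/-- the coefficient of the section is the germ of a local section of the ideal -/
theorem exists_section_eq (d' : D') (x : X) (hx : i' d' = x) (e' : L'.presheaf.stalk x)
    (he' : Submodule.span (X.presheaf.stalk x) {e'} = ⊤) (f' : X.presheaf.stalk x)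
    (hf' : (L'.presheaf.germ ⊤ x trivial) s' = f' • e') :
    ∃ (U : X.Opens) (hxU : x ∈ U) (b' : Γ(X, U)), (i'.app U).hom b' = 0 ∧
      X.presheaf.germ U x hxU b' = f' := by
  subst hx
  have hmem : f' ∈ RingHom.ker (i'.stalkMap d').hom := by
    rw [ker_stalkMap_eq_span hL' s' i' hD' d' e' he' f' hf']
    exact Ideal.mem_span_singleton_self f'
  obtain ⟨U₀, hx₀, ã, hã⟩ := X.presheaf.exists_germ_eq (x := i' d') f'
  have h0 : D'.presheaf.germ (i' ⁻¹ᵁ U₀) d' hx₀ ((i'.app U₀).hom ã) = 0 := by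
    rw [← Scheme.Hom.germ_stalkMap_apply i' U₀ d' hx₀ ã, hã]
    exact hmem
  obtain ⟨U, hU₀, hxU, hz⟩ := exists_app_eq_zero i' d' U₀ hx₀ ã h0
  refine ⟨U, hxU, _, hz, ?_⟩
  rw [← hã]
  exact TopCat.Presheaf.germ_res_apply X.presheaf (homOfLE hU₀) _ hxU ã

end Zero

section Points

variable {X D D' P : Scheme.{u}} {i : D ⟶ X} {i' : D' ⟶ X} {j : P ⟶ D} {j' : P ⟶ D'}
  (hP : IsPullback j j' i i')

include hP in
theorem exists_point (d : D) (d' : D') (h : i d = i' d') : ∃ z : P, j z = d ∧ j' z = d' := by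
  obtain ⟨p, hp1, hp2⟩ := Scheme.Pullback.exists_preimage_pullback d d' h
  refine ⟨hP.isoPullback.inv p, ?_, ?_⟩
  · rw [← hp1, ← Scheme.Hom.comp_apply, hP.isoPullback_inv_fst]
  · rw [← hp2, ← Scheme.Hom.comp_apply, hP.isoPullback_inv_snd]

include hP in
theorem map_eq (z : P) : i (j z) = i' (j' z) := by
  rw [← Scheme.Hom.comp_apply, ← Scheme.Hom.comp_apply, hP.w]

end Points

end Groth.Agent.Lib.Helper18.KF25
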