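import Mathlib
import Groth.Agent.Lib.Helper18.KF25

set_option autoImplicit false
set_option linter.style.haveILetI false
set_option linter.unusedSectionVars false

/-! Key formula, part 26: on the intersection `D ∩ D'` of two zero schemes, a section of `L'|_D`
cutting out `D ∩ D'` and the restriction of `s'` have the same orders of vanishing. -/

universe u
open CategoryTheory AlgebraicGeometry TopologicalSpace Limits

namespace Groth.Agent.Lib.Helper18.KF26

open Groth.Agent.Lib.Helper29.QCoh Groth.Agent.Lib.Helper28.StalkTensor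
  Groth.Agent.Lib.Helper18.InvStalk Groth.Agent.Lib.Helper18.PullStalk
  Groth.Agent.Lib.Helper18.PullTriv Groth.Agent.Lib.Helper18.C1Add
  Groth.Agent.Lib.Helper26.OrdZ Groth.Agent.Lib.Helper18.DivPull
  Groth.Agent.Lib.Helper18.KF8 Groth.Agent.Lib.Helper18.KF17 Groth.Agent.Lib.Helper18.KF22
  Groth.Agent.Lib.Helper18.KF25 Groth.Agent.Lib.Helper18.PullSec Groth.Agent.Lib.Helper18.KF6
  Groth.Agent.Lib.Helper18.C1Indep

theorem germ_app_congr {P X : Scheme.{u}} (g g' : P ⟶ X) (h : g = g') (U : X.Opens)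
    (b : Γ(X, U)) (z : P) (hz : g z ∈ U) :
    P.presheaf.germ (g ⁻¹ᵁ U) z hz ((g.app U).hom b) =
      P.presheaf.germ (g' ⁻¹ᵁ U) z (h ▸ hz) ((g'.app U).hom b) := by
  subst h; rfl

variable {X D D' P : Scheme.{u}} (δ : X → ℤ) (hX : Cyc.IsSetup X δ) {L' : X.Modules}
  (hL' : PicF.IsInvertible L') (s' : L'.presheaf.obj (Opposite.op ⊤))
  {i : D ⟶ X} {i' : D' ⟶ X} [IsClosedImmersion i] [IsClosedImmersion i']
  (hD' : Cyc.IsZeroSchemeOf i' L' s') {j : P ⟶ D} {j' : P ⟶ D'} (hP : IsPullback j j' i i')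
  (σ' : ((Scheme.Modules.pullback i).obj L').presheaf.obj (Opposite.op ⊤))
  (hσ' : Cyc.IsZeroSchemeOf j ((Scheme.Modules.pullback i).obj L') σ')

set_option maxHeartbeats 1600000 in
include hL' hD' hP hσ' in
/-- at a point of `D ∩ D'`, the coefficients of `σ'` and of `s'|_D` differ by a unit -/
theorem coef_unit (z : P) {V : X.Opens} (a : Γ(L', V)) (hT : IsTriv L' V a) (hzV : i (j z) ∈ V)
    (f' : X.presheaf.stalk (i (j z)))
    (hf' : (L'.presheaf.germ ⊤ (i (j z)) trivial) s' = f' • L'.presheaf.germ V (i (j z)) hzV a)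
    (φ : D.presheaf.stalk (j z))
    (hφ : (((Scheme.Modules.pullback i).obj L').presheaf.germ ⊤ (j z) trivial) σ' =
      φ • ((Scheme.Modules.pullback i).obj L').presheaf.germ (i ⁻¹ᵁ V) (j z) hzV
        (etaSec i L' V a)) :
    ∃ c : (D.presheaf.stalk (j z))ˣ, φ = (c : D.presheaf.stalk (j z)) * (i.stalkMap (j z)).hom f' := by
  haveI : IsClosedImmersion j := isClosedImmersion_fst hP
  have hND : PicF.IsInvertible ((Scheme.Modules.pullback i).obj L') := isInvertible_pullback i hL'
  have hker := ker_stalkMap_eq_span hND σ' j hσ' z _ (span_germ_etaSec_eq_top i L' hT (j z) hzV) φ hφ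
  have he' := span_germ_eq_top L' hT (i (j z)) hzV
  apply exists_unit_mul_of_span_eq
  · -- φ is a multiple of the image of f'
    have hφk : (j.stalkMap z).hom φ = 0 := by
      have : φ ∈ RingHom.ker (j.stalkMap z).hom := by
        rw [hker]; exact Ideal.mem_span_singleton_self φ
      exact this
    obtain ⟨U, hxU, b', hb', hy⟩ := exists_of_mem_ker_fst_stalkMap hP z φ hφk
    have hmem := germ_mem_span hL' s' i' hD' (j' z) (i (j z)) (map_eq hP z).symm _ he' f' hf' U hxU
      b' hb'
    obtain ⟨r, hr⟩ := Ideal.mem_span_singleton'.mp hmem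
    rw [hy, ← Scheme.Hom.germ_stalkMap_apply i U (j z) hxU b', ← hr, map_mul]
    exact Ideal.mem_span_singleton'.mpr ⟨_, rfl⟩
  · -- the image of f' dies in the stalk of the intersection
    obtain ⟨U, hxU, b', hb', hgerm⟩ := exists_section_eq hL' s' i' hD' (j' z) (i (j z))
      (map_eq hP z).symm _ he' f' hf'
    have h1 : (j.stalkMap z).hom ((i.stalkMap (j z)).hom f') = 0 := by
      rw [← hgerm, Scheme.Hom.germ_stalkMap_apply i U (j z) hxU b',
        Scheme.Hom.germ_stalkMap_apply j (i ⁻¹ᵁ U) z hxU]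
      have e1 : (j.app (i ⁻¹ᵁ U)).hom ((i.app U).hom b') = ((j ≫ i).app U).hom b' := by
        rw [Scheme.Hom.comp_app]
        rfl
      rw [e1]
      have e2 := germ_app_congr (j ≫ i) (j' ≫ i') hP.w U b' z hxU
      have e3 : ((j' ≫ i').app U).hom b' = 0 := by
        rw [Scheme.Hom.comp_app]
        show (j'.app (i' ⁻¹ᵁ U)).hom ((i'.app U).hom b') = 0
        rw [hb', map_zero]
      rw [e3, map_zero] at e2
      exact e2
    have : (i.stalkMap (j z)).hom f' ∈ RingHom.ker (j.stalkMap z).hom := h1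
    rwa [hker] at this

set_option synthInstance.maxHeartbeats 400000 in
set_option maxHeartbeats 3200000 in
include hX hL' hD' hP hσ' in
/-- along a specialisation ending in `D ∩ D'`, the section `σ'` and the restriction of `s'`
have the same order -/
theorem secOrdAt_germ_eq_pullFibre (z : P) (d : D) (h : d ⤳ j z)
    (hd : δ (i (j z)) + 1 = δ (i d)) (hdn : d ∉ Set.range ⇑j) :
    Cyc.secOrdAt ((Scheme.Modules.pullback i).obj L') d (j z) h
      (Submodule.Quotient.mk ((((Scheme.Modules.pullback i).obj L').presheaf.germ ⊤ d trivial) σ')) =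
    Cyc.secOrdAt ((Scheme.Modules.pullback i).obj L') d (j z) h
      (pullFibre i L' d (Submodule.Quotient.mk ((L'.presheaf.germ ⊤ (i d) trivial) s'))) := by
  haveI : IsClosedImmersion j := isClosedImmersion_fst hP
  have hDset := Groth.Agent.Lib.Helper18.ClImm.isSetup i δ hX
  haveI : IsLocallyNoetherian D := hDset.1
  have hND : PicF.IsInvertible ((Scheme.Modules.pullback i).obj L') := isInvertible_pullback i hL'
  obtain ⟨V, a, hzV, hT⟩ := exists_isTriv hL' (i (j z))
  have h' : i d ⤳ i (j z) := (Groth.Agent.Lib.Helper18.ClImm.specializes_iff i (j z) d).mp h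
  have hdV : i d ∈ V := h'.mem_open V.2 hzV
  -- coefficients at `j z`
  have he' := span_germ_eq_top L' hT (i (j z)) hzV
  have hε := span_germ_etaSec_eq_top i L' hT (j z) hzV
  obtain ⟨f', hf'⟩ : ∃ f' : X.presheaf.stalk (i (j z)),
      (L'.presheaf.germ ⊤ (i (j z)) trivial) s' = f' • L'.presheaf.germ V (i (j z)) hzV a := by
    have : (L'.presheaf.germ ⊤ (i (j z)) trivial) s' ∈
        Submodule.span (X.presheaf.stalk (i (j z))) {L'.presheaf.germ V (i (j z)) hzV a} := by
      rw [he']; trivial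
    obtain ⟨f, hf⟩ := Submodule.mem_span_singleton.mp this
    exact ⟨f, hf.symm⟩
  obtain ⟨φ, hφ⟩ : ∃ φ : D.presheaf.stalk (j z),
      (((Scheme.Modules.pullback i).obj L').presheaf.germ ⊤ (j z) trivial) σ' =
      φ • ((Scheme.Modules.pullback i).obj L').presheaf.germ (i ⁻¹ᵁ V) (j z) hzV
        (etaSec i L' V a) := by
    have : (((Scheme.Modules.pullback i).obj L').presheaf.germ ⊤ (j z) trivial) σ' ∈
        Submodule.span (D.presheaf.stalk (j z))
          {((Scheme.Modules.pullback i).obj L').presheaf.germ (i ⁻¹ᵁ V) (j z) hzV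
            (etaSec i L' V a)} := by
      rw [hε]; trivial
    obtain ⟨f, hf⟩ := Submodule.mem_span_singleton.mp this
    exact ⟨f, hf.symm⟩
  obtain ⟨c, hc⟩ := coef_unit hL' s' hD' hP σ' hσ' z a hT hzV f' hf' φ hφ
  -- the sections at `d`
  have hεd := span_germ_etaSec_eq_top i L' hT d hdV
  have e₁ : (Submodule.Quotient.mk ((((Scheme.Modules.pullback i).obj L').presheaf.germ ⊤ d
      trivial) σ') : Cyc.secFibre ((Scheme.Modules.pullback i).obj L') d) =
      (D.presheaf.stalkSpecializes h φ) • (Submodule.Quotient.mk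
        (((Scheme.Modules.pullback i).obj L').presheaf.germ (i ⁻¹ᵁ V) d hdV (etaSec i L' V a)) :
        Cyc.secFibre ((Scheme.Modules.pullback i).obj L') d) := by
    rw [← Submodule.Quotient.mk_smul]
    congr 1
    rw [← Groth.Agent.Lib.Helper18.SecDiv.stalkSpecializes_germ_top _ h σ', hφ,
      Groth.Agent.Lib.Helper18.SecDiv.stalkSpecializes_smul]
    congr 1
    exact TopCat.Presheaf.germ_stalkSpecializes_apply _ _ _ _
  have e₂' : (Submodule.Quotient.mk ((L'.presheaf.germ ⊤ (i d) trivial) s') :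
      Cyc.secFibre L' (i d)) =
      (X.presheaf.stalkSpecializes h' f') • (Submodule.Quotient.mk
        (L'.presheaf.germ V (i d) hdV a) : Cyc.secFibre L' (i d)) := by
    rw [← Submodule.Quotient.mk_smul]
    congr 1
    rw [← Groth.Agent.Lib.Helper18.SecDiv.stalkSpecializes_germ_top _ h' s', hf',
      Groth.Agent.Lib.Helper18.SecDiv.stalkSpecializes_smul]
    congr 1
    exact TopCat.Presheaf.germ_stalkSpecializes_apply _ _ _ _
  have e₂ := pullFibre_eq i L' hT d hdV _ _ e₂'
  have key : (i.stalkMap d).hom (X.presheaf.stalkSpecializes h' f') =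
      D.presheaf.stalkSpecializes h ((i.stalkMap (j z)).hom f') :=
    Scheme.Hom.stalkSpecializes_stalkMap_apply i d (j z) h f'
  -- nonvanishing
  have hid : i d ∉ Set.range ⇑i' := by
    rintro ⟨d', hd'⟩
    obtain ⟨z', hz', -⟩ := exists_point hP d d' hd'.symm
    exact hdn ⟨z', hz'⟩
  have hτ := mk_germ_ne_zero s' i' hD' (i d) hid
  have hσ₁ := mk_germ_ne_zero σ' j hσ' d hdn
  have hσ₂ := pullFibre_ne_zero i L' hL' d _ hτ
  have hsub := secOrdAt_sub (fun d => δ (i d)) hDset hND (j z) d h hd _ hεd _ _ hσ₁ hσ₂ _ _ e₁ e₂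
  -- the ratio is the image of a unit
  have hres2 : (D.residue d).hom ((i.stalkMap d).hom (X.presheaf.stalkSpecializes h' f')) ≠ 0 := by
    intro h0
    have hmem : (i.stalkMap d).hom (X.presheaf.stalkSpecializes h' f') ∈
        IsLocalRing.maximalIdeal (D.presheaf.stalk d) :=
      (IsLocalRing.residue_eq_zero_iff _).mp h0
    apply hσ₂
    rw [e₂, ← Submodule.Quotient.mk_smul, Submodule.Quotient.mk_eq_zero]
    exact Submodule.smul_mem_smul hmem trivial
  have hratio : (D.residue d).hom (D.presheaf.stalkSpecializes h φ) /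
      (D.residue d).hom ((i.stalkMap d).hom (X.presheaf.stalkSpecializes h' f')) =
      Cyc.specMap (j z) d h (c : D.presheaf.stalk (j z)) := by
    rw [div_eq_iff hres2, hc, map_mul, map_mul, key]
    rfl
  rw [hratio] at hsub
  have hK : Ring.KrullDimLE 1 (Cyc.LocQuot (j z) d h) :=
    krullDimLE_one_locQuot (fun d => δ (i d)) hDset.2.2 (j z) d h hd
  have hzero : Cyc.ordAt (j z) d h (Cyc.specMap (j z) d h (c : D.presheaf.stalk (j z))) = 0 := by
    let cu : (Cyc.LocQuot (j z) d h)ˣ :=
      Units.map (Ideal.Quotient.mk _ : _ →+* Cyc.LocQuot (j z) d h) c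
    unfold Cyc.ordAt
    exact Groth.Agent.Lib.Helper18.KF2.ordFrac_unit cu
  rw [hzero] at hsub
  exact sub_eq_zero.mp hsub

end Groth.Agent.Lib.Helper18.KF26
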