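import Mathlib
import Groth.Agent.Lib.Helper18.KF26

set_option autoImplicit false
set_option linter.style.haveILetI false
set_option linter.unusedSectionVars false

/-! Key formula, part 27: the second Gysin map on `D`, computed on `X`. -/

universe u
open CategoryTheory AlgebraicGeometry TopologicalSpace Limits

namespace Groth.Agent.Lib.Helper18.KF27

open Groth.Agent.Lib.Helper29.QCoh Groth.Agent.Lib.Helper18.InvStalk
  Groth.Agent.Lib.Helper18.KF12 Groth.Agent.Lib.Helper18.KF16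
  Groth.Agent.Lib.Helper18.KF17 Groth.Agent.Lib.Helper18.KF18 Groth.Agent.Lib.Helper18.KF21
  Groth.Agent.Lib.Helper18.KF22 Groth.Agent.Lib.Helper18.KF24
  Groth.Agent.Lib.Helper18.KF25 Groth.Agent.Lib.Helper18.KF26 Groth.Agent.Lib.Helper18.PullSec
  Groth.Agent.Lib.Helper18.C1Indep

section Neg

variable {X : Scheme.{u}}

theorem RatEquivZeroIn.neg {S : Set X} {δ : X → ℤ} (hX : Cyc.IsSetup X δ) {k : ℤ} {A : X → ℤ}
    (hA : RatEquivZeroIn S δ k A) : RatEquivZeroIn S δ k (fun x => - A x) := by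
  obtain ⟨ι, ξ, f, h1, h2, h3, h4, h5⟩ := hA
  refine ⟨ι, ξ, fun j => (f j) ^ (-1 : ℤ), h1, fun j => zpow_ne_zero _ (h2 j), h3, ?_, h5⟩
  intro x
  show - A x = _
  rw [h4 x, ← finsum_neg_distrib]
  apply finsum_congr
  intro j
  rw [divFun_zpow δ hX (ξ j) (f j) (h2 j) (-1) x]
  ring

theorem RatEquivZeroIn.sub {S : Set X} {δ : X → ℤ} (hX : Cyc.IsSetup X δ) {k : ℤ} {A B : X → ℤ}
    (hA : RatEquivZeroIn S δ k A) (hB : RatEquivZeroIn S δ k B) :
    RatEquivZeroIn S δ k (fun x => A x - B x) := by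
  refine RatEquivZeroIn.congr (RatEquivZeroIn.add hA (RatEquivZeroIn.neg hX hB)) ?_
  intro x
  ring

end Neg

variable {X D D' P : Scheme.{u}} (δ : X → ℤ) (hX : Cyc.IsSetup X δ) {L L' : X.Modules}
  (hL : PicF.IsInvertible L) (hL' : PicF.IsInvertible L')
  (s : L.presheaf.obj (Opposite.op ⊤)) (s' : L'.presheaf.obj (Opposite.op ⊤))
  {i : D ⟶ X} {i' : D' ⟶ X} [IsClosedImmersion i] [IsClosedImmersion i']
  (hD : Cyc.IsZeroSchemeOf i L s) (hD' : Cyc.IsZeroSchemeOf i' L' s')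
  {j : P ⟶ D} {j' : P ⟶ D'} (hP : IsPullback j j' i i')
  (σ' : ((Scheme.Modules.pullback i).obj L').presheaf.obj (Opposite.op ⊤))
  (hσ' : Cyc.IsZeroSchemeOf j ((Scheme.Modules.pullback i).obj L') σ')
  (w : (ξ : X) → Cyc.secFibre L ξ) (w' : (ξ : X) → Cyc.secFibre L' ξ)
  (w₁ : (d : D) → Cyc.secFibre ((Scheme.Modules.pullback i).obj L') d)

set_option maxHeartbeats 3200000 in
include hX hL hL' hD hD' hP hσ' in
/-- the iterated Gysin map `(j')^* i^* α`, computed on `D` with any section `σ'` cutting out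
`D ∩ D'`, agrees up to rational equivalence on `D ∩ D'` with `c₁(L') ∩ c₁(L) ∩ α` computed on `X`
with the Gysin sections -/
theorem gysin_gysin (hw : ∀ ξ, w ξ ≠ 0) (hw' : ∀ ξ, w' ξ ≠ 0) (hw₁ : ∀ d, w₁ d ≠ 0) (k : ℤ)
    (α : AlgebraicCycle X ℤ) (hα : α ∈ Cyc.Zk X δ k) :
    RatEquivZeroIn (Set.univ : Set P) (fun z => δ (i (j z))) (k - 2) (fun z =>
      Cyc.c1CapFun (fun d => δ (i d)) ((Scheme.Modules.pullback i).obj L')
        (fun d => Cyc.c1CapFun δ L ⇑α (Cyc.gysinChoice L s w) (i d))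
        (Cyc.gysinChoice ((Scheme.Modules.pullback i).obj L') σ' w₁) (j z) -
      Cyc.c1CapFun δ L' (Cyc.c1CapFun δ L ⇑α (Cyc.gysinChoice L s w))
        (Cyc.gysinChoice L' s' w') (i (j z))) := by
  classical
  haveI : IsClosedImmersion j := isClosedImmersion_fst hP
  have hDset := Groth.Agent.Lib.Helper18.ClImm.isSetup i δ hX
  haveI : IsLocallyNoetherian D := hDset.1
  have hND : PicF.IsInvertible ((Scheme.Modules.pullback i).obj L') := isInvertible_pullback i hL'
  have hinj : Function.Injective (i : D → X) := i.isClosedEmbedding.injective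
  have hvL := gysinChoice_ne_zero s w hw
  have hvL' := gysinChoice_ne_zero s' w' hw'
  have hgC := gysinChoice_ne_zero σ' w₁ hw₁
  -- the cycle `i^*α`
  let G : AlgebraicCycle X ℤ := c1CapCycle δ hX hL α (Cyc.gysinChoice L s w) hvL
  let GD : AlgebraicCycle D ℤ := Groth.Agent.Lib.Helper18.SubCyc.comapCycle i G
  have hGD : ⇑GD = fun d => Cyc.c1CapFun δ L ⇑α (Cyc.gysinChoice L s w) (i d) := rfl
  have hGDZ : GD ∈ Cyc.Zk D (fun d => δ (i d)) (k - 2 + 1) := by
    intro d hd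
    by_contra hne
    apply hd
    have := c1Cap_mem_Zk δ (k - 1) ⇑α (fun η hη => by
      have := hα η
      by_contra hne'
      exact hη (hα η (by omega))) (Cyc.gysinChoice L s w) (i d) hne
    show δ (i d) = k - 2 + 1
    omega
  -- pulled back sections
  let t' : (d : D) → Cyc.secFibre ((Scheme.Modules.pullback i).obj L') d := fun d =>
    pullFibre i L' d (Cyc.gysinChoice L' s' w' (i d))
  have ht' : ∀ d, t' d ≠ 0 := fun d => pullFibre_ne_zero i L' hL' d _ (hvL' (i d))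
  have hrange : ∀ d : D, d ∉ Set.range ⇑j → i d ∉ Set.range ⇑i' := by
    rintro d hdn ⟨d', hd'⟩
    obtain ⟨z', hz', -⟩ := exists_point hP d d' hd'.symm
    exact hdn ⟨z', hz'⟩
  have hS : ∀ d, d ∉ Set.range ⇑j → ∀ d₀,
      Cyc.secDivFun (fun d => δ (i d)) ((Scheme.Modules.pullback i).obj L') d
        (Cyc.gysinChoice ((Scheme.Modules.pullback i).obj L') σ' w₁ d) d₀ =
      Cyc.secDivFun (fun d => δ (i d)) ((Scheme.Modules.pullback i).obj L') d (t' d) d₀ := by
    intro d hdn d₀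
    by_cases hd₀ : d₀ ∈ Set.range ⇑j
    · obtain ⟨z, rfl⟩ := hd₀
      show _ = Cyc.secDivFun (fun d => δ (i d)) ((Scheme.Modules.pullback i).obj L') d
        (pullFibre i L' d (Cyc.gysinChoice L' s' w' (i d))) (j z)
      rw [gysinChoice_of_notMem σ' j hσ' w₁ d hdn,
        gysinChoice_of_notMem s' i' hD' w' (i d) (hrange d hdn)]
      unfold Cyc.secDivFun
      by_cases hc : d ⤳ j z ∧ δ (i (j z)) + 1 = δ (i d)
      · rw [dif_pos hc, dif_pos hc]
        exact secOrdAt_germ_eq_pullFibre δ hX hL' s' hD' hP σ' hσ' z d hc.1 hc.2 hdn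
      · rw [dif_neg hc, dif_neg hc]
    · rw [secDivFun_gysin_of_notMem (fun d => δ (i d)) hDset hND σ' j hσ' w₁ d d₀ hd₀]
      show _ = Cyc.secDivFun (fun d => δ (i d)) ((Scheme.Modules.pullback i).obj L') d
        (pullFibre i L' d (Cyc.gysinChoice L' s' w' (i d))) d₀
      rw [secDivFun_pullFibre i L' δ hX hL' d₀ d _ (hvL' (i d)),
        secDivFun_gysin_of_notMem δ hX hL' s' i' hD' w' (i d) (i d₀) (hrange d₀ hd₀)]
  have hC := c1Cap_sections_in (fun d => δ (i d)) hDset hND (k - 2) GD hGDZ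
    (Cyc.gysinChoice ((Scheme.Modules.pullback i).obj L') σ' w₁) t' hgC ht' (Set.range ⇑j) hS
  have hC' := ratEquivZeroIn_comap j (fun d => δ (i d)) hDset (k - 2) _ hC
  have hcmp : ∀ d₀ : D, Cyc.c1CapFun δ L' (Cyc.c1CapFun δ L ⇑α (Cyc.gysinChoice L s w))
      (Cyc.gysinChoice L' s' w') (i d₀) =
      Cyc.c1CapFun (fun d => δ (i d)) ((Scheme.Modules.pullback i).obj L') ⇑GD t' d₀ := by
    intro d₀
    rw [hGD]
    unfold Cyc.c1CapFun
    rw [finsum_eq_finsum_comp (i : D → X) hinj]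
    · apply finsum_congr
      intro d
      rw [secDivFun_pullFibre i L' δ hX hL' d₀ d _ (hvL' (i d))]
    · intro ξ hξ
      by_contra hnm
      apply hξ
      have := c1Cap_gysin_of_notMem δ hX hL s i hD w ⇑α ξ hnm
      unfold Cyc.c1CapFun at this
      rw [this, zero_mul]
  refine RatEquivZeroIn.congr hC' ?_
  intro z
  simp only []
  rw [hcmp (j z), hGD]

end Groth.Agent.Lib.Helper18.KF27
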