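import Mathlib
import Groth.Agent.Lib.Helper18.FlatPullC1
import Groth.Agent.Lib.Helper18.KF27
import Groth.Agent.Lib.Helper14.StalkFP

set_option autoImplicit false
set_option linter.style.haveILetI false
set_option linter.unusedSectionVars false

/-! Key formula, part 28: flat pullback of `c₁(L) ∩ α`, pointwise. -/

universe u
open CategoryTheory AlgebraicGeometry TopologicalSpace Topology Limits

namespace Groth.Agent.Lib.Helper18.KF28

open Groth.Agent.Lib.Helper18.FlatPullDiv Groth.Agent.Lib.Helper18.PullSec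
  Groth.Agent.Lib.Helper18.FlatPullC1

section Pull

variable {X' X : Scheme.{u}} (p : X' ⟶ X) [Flat p]

set_option maxHeartbeats 1600000 in
/-- flat pullback commutes with `c₁(L) ∩ -`, for the pulled back sections (pointwise) -/
theorem pullFun_c1Cap (δ : X → ℤ) (δ' : X' → ℤ) (hX : Cyc.IsSetup X δ)
    (hX' : Cyc.IsSetup X' δ') (c : ℤ)
    (hc : ∀ x' : X', (∀ y, p y = p x' → y ⤳ x' → y = x') → δ' x' = δ (p x') + c)
    (L : X.Modules) (hL : PicF.IsInvertible L) (α : AlgebraicCycle X ℤ)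
    (v : (ξ : X) → Cyc.secFibre L ξ) (hv : ∀ ξ, v ξ ≠ 0) :
    Cyc.pullFun p δ' δ c (Cyc.c1CapFun δ L ⇑α v) =
      Cyc.c1CapFun δ' ((Scheme.Modules.pullback p).obj L) (Cyc.pullFun p δ' δ c ⇑α)
        (fun ξ' => pullFibre p L ξ' (v (p ξ'))) := by
  classical
  let α' : AlgebraicCycle X' ℤ := pullCycle p δ δ' hX' c hc α
  have hα'f : ⇑α' = Cyc.pullFun p δ' δ c ⇑α := rfl
  let u₀ : (ξ' : X') → Cyc.secFibre ((Scheme.Modules.pullback p).obj L) ξ' := fun ξ' =>
    pullFibre p L ξ' (v (p ξ'))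
  show Cyc.pullFun p δ' δ c (Cyc.c1CapFun δ L ⇑α v) =
      Cyc.c1CapFun δ' ((Scheme.Modules.pullback p).obj L) (Cyc.pullFun p δ' δ c ⇑α) u₀
  rw [← hα'f]
  funext x'
  rw [hα'f, pullFun_eq]
  unfold Cyc.c1CapFun
  -- step 1: linearity
  have h1 : (if δ' x' = δ (p x') + c then
      (∑ᶠ ξ : X, α ξ * Cyc.secDivFun δ L ξ (v ξ) (p x')) * mult p x' else 0) =
      ∑ᶠ ξ : X, α ξ * Cyc.pullFun p δ' δ c (Cyc.secDivFun δ L ξ (v ξ)) x' := by
    by_cases hδ : δ' x' = δ (p x') + c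
    · rw [if_pos hδ, finsum_mul]
      apply finsum_congr
      intro ξ
      rw [pullFun_eq, if_pos hδ, mul_assoc]
    · rw [if_neg hδ]
      symm
      apply finsum_eq_zero_of_forall_eq_zero
      intro ξ
      rw [pullFun_eq, if_neg hδ, mul_zero]
  rw [h1]
  -- step 2: the pullback formula
  let K : X × X' → ℤ := fun ab =>
    if p ab.2 = ab.1 ∧ δ' ab.2 = δ ab.1 + c then
      α ab.1 * (mult p ab.2 * Cyc.secDivFun δ' ((Scheme.Modules.pullback p).obj L) ab.2
        (u₀ ab.2) x')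
    else 0
  have h2 : ∀ ξ : X, α ξ * Cyc.pullFun p δ' δ c (Cyc.secDivFun δ L ξ (v ξ)) x' =
      ∑ᶠ ξ' : X', K (ξ, ξ') := by
    intro ξ
    rw [FlatPullSec.pullFun_secDivFun p L δ δ' hX hX' c hc hL ξ v (hv ξ) x', mul_finsum]
    apply finsum_congr
    intro ξ'
    simp only [K]
    by_cases hcond : p ξ' = ξ ∧ δ' ξ' = δ ξ + c
    · rw [if_pos hcond, if_pos hcond]
    · rw [if_neg hcond, if_neg hcond, mul_zero]
  simp_rw [h2]
  -- step 3: reorganise
  have hKsupp : ∀ ab : X × X', K ab ≠ 0 →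
      ab.1 = p ab.2 ∧ ab.2 ⤳ x' ∧ α' ab.2 ≠ 0 := by
    intro ab hab
    simp only [K] at hab
    by_cases hcond : p ab.2 = ab.1 ∧ δ' ab.2 = δ ab.1 + c
    · rw [if_pos hcond] at hab
      have hα0 := left_ne_zero_of_mul hab
      have hm0 := left_ne_zero_of_mul (right_ne_zero_of_mul hab)
      have hs0 := right_ne_zero_of_mul (right_ne_zero_of_mul hab)
      refine ⟨hcond.1.symm, ?_, ?_⟩
      · by_contra hns
        apply hs0
        unfold Cyc.secDivFun
        rw [dif_neg (fun hh => hns hh.1)]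
      · change Cyc.pullFun p δ' δ c ⇑α ab.2 ≠ 0
        rw [pullFun_eq, if_pos (by rw [hcond.1]; exact hcond.2), hcond.1]
        exact mul_ne_zero hα0 hm0
    · rw [if_neg hcond] at hab
      exact absurd rfl hab
  have hKfin : (Function.support K).Finite := by
    refine ((Bivar.finite_support_specializes α' x').image
      (fun ξ' : X' => ((p ξ', ξ') : X × X'))).subset ?_
    intro ab hab
    obtain ⟨h1, h2, h3⟩ := hKsupp ab hab
    exact ⟨ab.2, ⟨h2, h3⟩, Prod.ext h1.symm rfl⟩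
  rw [← finsum_curry K hKfin,
    finsum_eq_finsum_comp (fun ξ' : X' => ((p ξ', ξ') : X × X'))
      (fun a b hab => congrArg Prod.snd hab) K (by
        intro ab hab
        obtain ⟨h1, -, -⟩ := hKsupp ab hab
        exact ⟨ab.2, Prod.ext h1.symm rfl⟩)]
  apply finsum_congr
  intro ξ'
  simp only [K]
  rw [pullFun_eq]
  by_cases hd : δ' ξ' = δ (p ξ') + c
  · rw [if_pos ⟨trivial, hd⟩, if_pos hd, mul_assoc]
  · rw [if_neg (fun hh : True ∧ δ' ξ' = δ (p ξ') + c => hd hh.2), if_neg hd, zero_mul]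

end Pull

end Groth.Agent.Lib.Helper18.KF28
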