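import Mathlib
import Groth.Agent.Lib.Helper18.KF28

set_option autoImplicit false
set_option linter.style.haveILetI false
set_option linter.unusedSectionVars false

/-! Key formula, part 29: the ideal of the base change of a closed immersion, at stalks. -/

universe u
open CategoryTheory AlgebraicGeometry TopologicalSpace Topology Limits
open scoped TensorProduct

namespace Groth.Agent.Lib.Helper18.KF29

section Alg

variable {A A' B : Type u} [CommRing A] [CommRing A'] [CommRing B] [Algebra A A'] [Algebra A B]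

/-- `1 ⊗ b = 0` in `A' ⊗_A B` for `A → A'` surjective iff `b ∈ ker(A → A') B` -/
theorem one_tmul_eq_zero_iff (hs : Function.Surjective (algebraMap A A')) (b : B) :
    (1 : A') ⊗ₜ[A] b = 0 ↔ b ∈ Ideal.map (algebraMap A B) (RingHom.ker (algebraMap A A')) := by
  have hs' : Function.Surjective (Algebra.linearMap A A') := hs
  let I : Ideal A := LinearMap.ker (Algebra.linearMap A A')
  have hI : I = RingHom.ker (algebraMap A A') := by
    ext r
    simp only [I, LinearMap.mem_ker, Algebra.linearMap_apply, RingHom.mem_ker]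
  let e0 : (A ⧸ I) ≃ₗ[A] A' := (Algebra.linearMap A A').quotKerEquivOfSurjective hs'
  have he0 : e0 (1 : A ⧸ I) = 1 := by
    change (Algebra.linearMap A A') 1 = 1
    simp
  let e1 : A' ⊗[A] B ≃ₗ[A] (A ⧸ I) ⊗[A] B := LinearEquiv.rTensor B e0.symm
  let e2 : (A ⧸ I) ⊗[A] B ≃ₗ[A] B ⧸ (I • (⊤ : Submodule A B)) :=
    TensorProduct.quotTensorEquivQuotSMul B I
  have hcomp : (e1.trans e2) ((1 : A') ⊗ₜ[A] b) = Submodule.Quotient.mk b := by
    change e2 (e1 ((1 : A') ⊗ₜ[A] b)) = _
    have : e1 ((1 : A') ⊗ₜ[A] b) = (1 : A ⧸ I) ⊗ₜ[A] b := by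
      change (e0.symm 1) ⊗ₜ[A] b = _
      rw [← he0, LinearEquiv.symm_apply_apply]
    rw [this]
    exact TensorProduct.quotTensorEquivQuotSMul_mk_one_tmul I b
  rw [← (e1.trans e2).map_eq_zero_iff, hcomp, Submodule.Quotient.mk_eq_zero, hI,
    Ideal.smul_top_eq_map]
  rfl

variable {Bp : Type u} [CommRing Bp] [IsLocalRing Bp] [IsLocalRing B]

open Groth.Agent.Lib.Helper14.AS in
/-- in the localization of `A' ⊗_A B` at the prime under the maximal ideal of a local ring, the
elements `1 ⊗ b` which die are already zero, when `A → A'` is surjective and `B → B'` is local -/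
theorem one_tmul_eq_zero_of_map_eq_zero (hs : Function.Surjective (algebraMap A A'))
    (φ : A' ⊗[A] B →+* Bp)
    (hloc : letI := φ.toAlgebra; IsLocalization.AtPrime Bp (tpQ φ))
    (hlocal : ∀ b : B, IsUnit (φ ((1 : A') ⊗ₜ[A] b)) → IsUnit b) (b : B)
    (hb : φ ((1 : A') ⊗ₜ[A] b) = 0) : (1 : A') ⊗ₜ[A] b = 0 := by
  letI := φ.toAlgebra
  haveI := hloc
  have h0 : algebraMap (A' ⊗[A] B) Bp ((1 : A') ⊗ₜ[A] b) = 0 := hb
  obtain ⟨⟨t, ht⟩, htb⟩ := (IsLocalization.map_eq_zero_iff (tpQ φ).primeCompl Bp _).mp h0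
  obtain ⟨t₀, rfl⟩ := Algebra.TensorProduct.includeRight_surjective B hs t
  have hu : IsUnit (φ ((1 : A') ⊗ₜ[A] t₀)) := by
    by_contra hnu
    exact ht ((IsLocalRing.mem_maximalIdeal _).mpr hnu)
  have hu₀ : IsUnit t₀ := hlocal t₀ hu
  have hu' : IsUnit ((Algebra.TensorProduct.includeRight : B →ₐ[A] A' ⊗[A] B) t₀) :=
    hu₀.map _
  exact (hu'.mul_right_eq_zero).mp htb

end Alg

section Scheme

open Groth.Agent.Lib.Helper14.AS Groth.Agent.Lib.Helper10.FibreProductStalk

variable {X S X' S' : Scheme.{u}} {f : X ⟶ S} {f' : X' ⟶ S'} {g' : X' ⟶ X} {g : S' ⟶ S}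

theorem baseStalkMap_surjective (hc : IsPullback g' f' f g) [IsClosedImmersion g] (x' : X') :
    Function.Surjective (baseStalkMap hc x').hom := by
  unfold baseStalkMap
  rw [CommRingCat.hom_comp]
  refine (g.stalkMap_surjective (f' x')).comp ?_
  exact (ConcreteCategory.bijective_of_isIso
    (S.presheaf.stalkCongr (.of_eq (base_eq hc x'))).hom).2

set_option maxHeartbeats 1600000 in
set_option synthInstance.maxHeartbeats 400000 in
/-- the ideal of the base change of a closed immersion is generated, at stalks, by the ideal of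
the closed immersion -/
theorem ker_stalkMap_pullback (hc : IsPullback g' f' f g) [IsClosedImmersion g] (x' : X') :
    RingHom.ker (g'.stalkMap x').hom =
      Ideal.map (f.stalkMap (g' x')).hom (RingHom.ker (baseStalkMap hc x').hom) := by
  letI algB : Algebra (S.presheaf.stalk (f.base (g'.base x'))) (X.presheaf.stalk (g'.base x')) :=
    (f.stalkMap (g'.base x')).hom.toAlgebra
  letI algA' : Algebra (S.presheaf.stalk (f.base (g'.base x'))) (S'.presheaf.stalk (f'.base x')) :=
    (baseStalkMap hc x').hom.toAlgebra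
  letI algBp : Algebra (S.presheaf.stalk (f.base (g'.base x'))) (X'.presheaf.stalk x') :=
    (f.stalkMap (g'.base x') ≫ g'.stalkMap x').hom.toAlgebra
  have hs : Function.Surjective (algebraMap (S.presheaf.stalk (f.base (g'.base x')))
      (S'.presheaf.stalk (f'.base x'))) := baseStalkMap_surjective hc x'
  let ψB : X.presheaf.stalk (g'.base x') →ₐ[S.presheaf.stalk (f.base (g'.base x'))]
      X'.presheaf.stalk x' :=
    { (g'.stalkMap x').hom with commutes' := fun a => rfl }
  let ψA' : S'.presheaf.stalk (f'.base x') →ₐ[S.presheaf.stalk (f.base (g'.base x'))]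
      X'.presheaf.stalk x' :=
    { (f'.stalkMap x').hom with
      commutes' := fun a => by
        have := congrArg (fun k => k.hom a) (stalkMap_comp_eq hc x')
        exact this.symm }
  let φ : (S'.presheaf.stalk (f'.base x')) ⊗[S.presheaf.stalk (f.base (g'.base x'))]
      (X.presheaf.stalk (g'.base x')) →+* X'.presheaf.stalk x' :=
    (Algebra.TensorProduct.productMap ψA' ψB).toRingHom
  have hφ1 : ∀ a, φ (a ⊗ₜ 1) = (f'.stalkMap x').hom a := fun a => by
    change Algebra.TensorProduct.productMap ψA' ψB (a ⊗ₜ 1) = _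
    rw [Algebra.TensorProduct.productMap_left_apply]
    rfl
  have hφ2 : ∀ b, φ (1 ⊗ₜ b) = (g'.stalkMap x').hom b := fun b => by
    change Algebra.TensorProduct.productMap ψA' ψB (1 ⊗ₜ b) = _
    rw [Algebra.TensorProduct.productMap_right_apply]
    rfl
  have hloc := isLocalization_stalk_pullback hc x' φ hφ1 hφ2
  ext b
  rw [RingHom.mem_ker]
  constructor
  · intro hb
    have h1 : φ ((1 : S'.presheaf.stalk (f'.base x')) ⊗ₜ b) = 0 := by rw [hφ2]; exact hb
    have h2 := one_tmul_eq_zero_of_map_eq_zero hs φ hloc (fun b' hb' => by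
      rw [hφ2] at hb'
      exact isUnit_of_map_unit (g'.stalkMap x').hom b' hb') b h1
    exact (one_tmul_eq_zero_iff hs b).mp h2
  · intro hb
    have h2 := (one_tmul_eq_zero_iff hs b).mpr hb
    have h3 := congrArg φ h2
    rw [hφ2, map_zero] at h3
    exact h3

end Scheme

end Groth.Agent.Lib.Helper18.KF29
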