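import Mathlib
import Groth.Agent.Lib.Helper18.KF29

set_option autoImplicit false
set_option linter.style.haveILetI false
set_option linter.unusedSectionVars false

/-! Key formula, part 30: a section of `f^*L` cutting out `f⁻¹(Z(s))` and the pullback of `s`
have the same orders of vanishing. -/

universe u
open CategoryTheory AlgebraicGeometry TopologicalSpace Topology Limits

namespace Groth.Agent.Lib.Helper18.KF30

open Groth.Agent.Lib.Helper29.QCoh Groth.Agent.Lib.Helper28.StalkTensor
  Groth.Agent.Lib.Helper18.InvStalk Groth.Agent.Lib.Helper18.PullStalk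
  Groth.Agent.Lib.Helper18.PullTriv Groth.Agent.Lib.Helper18.C1Add
  Groth.Agent.Lib.Helper26.OrdZ Groth.Agent.Lib.Helper18.DivPull
  Groth.Agent.Lib.Helper18.KF8 Groth.Agent.Lib.Helper18.KF17 Groth.Agent.Lib.Helper18.KF22
  Groth.Agent.Lib.Helper18.KF25 Groth.Agent.Lib.Helper18.PullSec Groth.Agent.Lib.Helper18.KF6
  Groth.Agent.Lib.Helper18.C1Indep Groth.Agent.Lib.Helper18.KF29
  Groth.Agent.Lib.Helper10.FibreProductStalk

section Zero

variable {X D : Scheme.{u}} {L : X.Modules} (hL : PicF.IsInvertible L)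
  (s : L.presheaf.obj (Opposite.op ⊤)) (i : D ⟶ X) [IsClosedImmersion i]
  (hD : Cyc.IsZeroSchemeOf i L s)

include hD in
/-- off the zero scheme the coefficient of the section is a unit -/
theorem isUnit_coef_of_notMem (x : X) (hx : x ∉ Set.range ⇑i) (e : L.presheaf.stalk x)
    (f₀ : X.presheaf.stalk x) (hf₀ : (L.presheaf.germ ⊤ x trivial) s = f₀ • e) : IsUnit f₀ := by
  by_contra hnu
  have hmem : f₀ ∈ IsLocalRing.maximalIdeal (X.presheaf.stalk x) := hnu
  apply mk_germ_ne_zero s i hD x hx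
  rw [hf₀, Submodule.Quotient.mk_eq_zero]
  exact Submodule.smul_mem_smul hmem trivial

include hL hD in
theorem ker_stalkCongr_stalkMap_eq_span (d : D) (x : X) (hx : x = i d) (e : L.presheaf.stalk x)
    (he : Submodule.span (X.presheaf.stalk x) {e} = ⊤) (f₀ : X.presheaf.stalk x)
    (hf₀ : (L.presheaf.germ ⊤ x trivial) s = f₀ • e) :
    RingHom.ker ((X.presheaf.stalkCongr (.of_eq hx)).hom ≫ i.stalkMap d).hom =
      Ideal.span {f₀} := by
  subst hx
  have h1 : (X.presheaf.stalkCongr (Inseparable.of_eq (rfl : i d = i d))).hom = 𝟙 _ := by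
    simp [TopCat.Presheaf.stalkCongr]
  rw [h1, Category.id_comp]
  exact ker_stalkMap_eq_span hL s i hD d e he f₀ hf₀

end Zero

variable {X' X D P : Scheme.{u}} {L : X.Modules} (hL : PicF.IsInvertible L)
  (s : L.presheaf.obj (Opposite.op ⊤)) {f : X' ⟶ X} {i : D ⟶ X} [IsClosedImmersion i]
  (hD : Cyc.IsZeroSchemeOf i L s) {i' : P ⟶ X'} {g : P ⟶ D} (hc : IsPullback i' g f i)
  (s' : ((Scheme.Modules.pullback f).obj L).presheaf.obj (Opposite.op ⊤))
  (hD' : Cyc.IsZeroSchemeOf i' ((Scheme.Modules.pullback f).obj L) s')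

include hc in
theorem isClosedImmersion_fst : IsClosedImmersion i' :=
  MorphismProperty.of_isPullback (P := @IsClosedImmersion) hc.flip
    (inferInstanceAs (IsClosedImmersion i))

set_option maxHeartbeats 1600000 in
include hL hD hc hD' in
/-- at every point, the coefficients of `s'` and of `f^*s` differ by a unit -/
theorem coef_unit (x' : X') {V : X.Opens} (a : Γ(L, V)) (hT : IsTriv L V a) (hxV : f x' ∈ V)
    (f₀ : X.presheaf.stalk (f x'))
    (hf₀ : (L.presheaf.germ ⊤ (f x') trivial) s = f₀ • L.presheaf.germ V (f x') hxV a)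
    (φ' : X'.presheaf.stalk x')
    (hφ' : (((Scheme.Modules.pullback f).obj L).presheaf.germ ⊤ x' trivial) s' =
      φ' • ((Scheme.Modules.pullback f).obj L).presheaf.germ (f ⁻¹ᵁ V) x' hxV
        (etaSec f L V a)) :
    ∃ c : (X'.presheaf.stalk x')ˣ,
      φ' = (c : X'.presheaf.stalk x') * (f.stalkMap x').hom f₀ := by
  haveI : IsClosedImmersion i' := isClosedImmersion_fst hc
  have hL'' : PicF.IsInvertible ((Scheme.Modules.pullback f).obj L) := isInvertible_pullback f hL
  have he := span_germ_eq_top L hT (f x') hxV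
  have hε := span_germ_etaSec_eq_top f L hT x' hxV
  by_cases hx' : x' ∈ Set.range ⇑i'
  · obtain ⟨z, rfl⟩ := hx'
    have hker := ker_stalkMap_eq_span hL'' s' i' hD' z _ hε φ' hφ'
    have hker2 := ker_stalkMap_pullback hc z
    have hker3 : RingHom.ker (baseStalkMap hc z).hom = Ideal.span {f₀} :=
      ker_stalkCongr_stalkMap_eq_span hL s i hD (g z) (f (i' z)) (base_eq hc z) _ he f₀ hf₀
    rw [hker3, Ideal.map_span, Set.image_singleton, hker] at hker2
    apply exists_unit_mul_of_span_eq
    · rw [← hker2]; exact Ideal.mem_span_singleton_self _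
    · rw [hker2]; exact Ideal.mem_span_singleton_self _
  · have hfx : f x' ∉ Set.range ⇑i := by
      rintro ⟨d, hd⟩
      obtain ⟨z, hz, -⟩ := exists_point hc x' d hd.symm
      exact hx' ⟨z, hz⟩
    have hu₀ : IsUnit f₀ := isUnit_coef_of_notMem s i hD (f x') hfx _ f₀ hf₀
    have hu' : IsUnit φ' := isUnit_coef_of_notMem s' i' hD' x' hx' _ φ' hφ'
    have hu₁ : IsUnit ((f.stalkMap x').hom f₀) := hu₀.map _
    refine ⟨hu'.unit * hu₁.unit⁻¹, ?_⟩
    rw [Units.val_mul, IsUnit.unit_spec, mul_assoc]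
    have : (↑(hu₁.unit⁻¹) : X'.presheaf.stalk x') * (f.stalkMap x').hom f₀ = 1 := by
      have := hu₁.unit.inv_mul
      rwa [IsUnit.unit_spec] at this
    rw [this, mul_one]

end Groth.Agent.Lib.Helper18.KF30
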