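import Mathlib
import Groth.Agent.Lib.Helper18.KF30

set_option autoImplicit false
set_option linter.style.haveILetI false
set_option linter.unusedSectionVars false

/-! Key formula, part 31: off `f⁻¹(Z(s))`, a section of `f^*L` cutting out `f⁻¹(Z(s))` and the
pullback of `s` have the same orders of vanishing. -/

universe u
open CategoryTheory AlgebraicGeometry TopologicalSpace Topology Limits

namespace Groth.Agent.Lib.Helper18.KF31

open Groth.Agent.Lib.Helper29.QCoh Groth.Agent.Lib.Helper28.StalkTensor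
  Groth.Agent.Lib.Helper18.InvStalk Groth.Agent.Lib.Helper18.PullStalk
  Groth.Agent.Lib.Helper18.PullTriv Groth.Agent.Lib.Helper18.C1Add
  Groth.Agent.Lib.Helper26.OrdZ Groth.Agent.Lib.Helper18.DivPull
  Groth.Agent.Lib.Helper18.KF8 Groth.Agent.Lib.Helper18.KF17 Groth.Agent.Lib.Helper18.KF22
  Groth.Agent.Lib.Helper18.KF25 Groth.Agent.Lib.Helper18.PullSec Groth.Agent.Lib.Helper18.KF6
  Groth.Agent.Lib.Helper18.C1Indep Groth.Agent.Lib.Helper18.KF29
  Groth.Agent.Lib.Helper10.FibreProductStalk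

variable {X' X D P : Scheme.{u}} (δ' : X' → ℤ) (hX' : Cyc.IsSetup X' δ')
  {L : X.Modules} (hL : PicF.IsInvertible L)
  (s : L.presheaf.obj (Opposite.op ⊤)) {f : X' ⟶ X} {i : D ⟶ X} [IsClosedImmersion i]
  (hD : Cyc.IsZeroSchemeOf i L s) {i' : P ⟶ X'} {g : P ⟶ D} (hc : IsPullback i' g f i)
  (s' : ((Scheme.Modules.pullback f).obj L).presheaf.obj (Opposite.op ⊤))
  (hD' : Cyc.IsZeroSchemeOf i' ((Scheme.Modules.pullback f).obj L) s')

set_option synthInstance.maxHeartbeats 400000 in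
set_option maxHeartbeats 3200000 in
include hX' hL hD hc hD' in
/-- along a specialisation, the section `s'` and the pullback of `s` have the same order -/
theorem secOrdAt_germ_eq_pullFibre (x' ξ' : X') (h : ξ' ⤳ x')
    (hd : δ' x' + 1 = δ' ξ') (hdn : ξ' ∉ Set.range ⇑i') :
    Cyc.secOrdAt ((Scheme.Modules.pullback f).obj L) ξ' x' h
      (Submodule.Quotient.mk ((((Scheme.Modules.pullback f).obj L).presheaf.germ ⊤ ξ' trivial) s')) =
    Cyc.secOrdAt ((Scheme.Modules.pullback f).obj L) ξ' x' h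
      (pullFibre f L ξ' (Submodule.Quotient.mk ((L.presheaf.germ ⊤ (f ξ') trivial) s))) := by
  haveI : IsClosedImmersion i' := KF30.isClosedImmersion_fst hc
  haveI : IsLocallyNoetherian X' := hX'.1
  have hND : PicF.IsInvertible ((Scheme.Modules.pullback f).obj L) := isInvertible_pullback f hL
  obtain ⟨V, a, hzV, hT⟩ := exists_isTriv hL (f x')
  have h' : f ξ' ⤳ f x' := h.map f.continuous
  have hdV : f ξ' ∈ V := h'.mem_open V.2 hzV
  -- coefficients at `x'`
  have he' := span_germ_eq_top L hT (f x') hzV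
  have hε := span_germ_etaSec_eq_top f L hT x' hzV
  obtain ⟨f₀, hf₀⟩ : ∃ f₀ : X.presheaf.stalk (f x'),
      (L.presheaf.germ ⊤ (f x') trivial) s = f₀ • L.presheaf.germ V (f x') hzV a := by
    have : (L.presheaf.germ ⊤ (f x') trivial) s ∈
        Submodule.span (X.presheaf.stalk (f x')) {L.presheaf.germ V (f x') hzV a} := by
      rw [he']; trivial
    obtain ⟨f, hf⟩ := Submodule.mem_span_singleton.mp this
    exact ⟨f, hf.symm⟩
  obtain ⟨φ, hφ⟩ : ∃ φ : X'.presheaf.stalk x',
      (((Scheme.Modules.pullback f).obj L).presheaf.germ ⊤ x' trivial) s' =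
      φ • ((Scheme.Modules.pullback f).obj L).presheaf.germ (f ⁻¹ᵁ V) x' hzV
        (etaSec f L V a) := by
    have : (((Scheme.Modules.pullback f).obj L).presheaf.germ ⊤ x' trivial) s' ∈
        Submodule.span (X'.presheaf.stalk x')
          {((Scheme.Modules.pullback f).obj L).presheaf.germ (f ⁻¹ᵁ V) x' hzV
            (etaSec f L V a)} := by
      rw [hε]; trivial
    obtain ⟨f, hf⟩ := Submodule.mem_span_singleton.mp this
    exact ⟨f, hf.symm⟩
  obtain ⟨c, hc'⟩ := KF30.coef_unit hL s hD hc s' hD' x' a hT hzV f₀ hf₀ φ hφ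
  -- the sections at `ξ'`
  have hεd := span_germ_etaSec_eq_top f L hT ξ' hdV
  have e₁ : (Submodule.Quotient.mk ((((Scheme.Modules.pullback f).obj L).presheaf.germ ⊤ ξ'
      trivial) s') : Cyc.secFibre ((Scheme.Modules.pullback f).obj L) ξ') =
      (X'.presheaf.stalkSpecializes h φ) • (Submodule.Quotient.mk
        (((Scheme.Modules.pullback f).obj L).presheaf.germ (f ⁻¹ᵁ V) ξ' hdV (etaSec f L V a)) :
        Cyc.secFibre ((Scheme.Modules.pullback f).obj L) ξ') := by
    rw [← Submodule.Quotient.mk_smul]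
    congr 1
    rw [← Groth.Agent.Lib.Helper18.SecDiv.stalkSpecializes_germ_top _ h s', hφ,
      Groth.Agent.Lib.Helper18.SecDiv.stalkSpecializes_smul]
    congr 1
    exact TopCat.Presheaf.germ_stalkSpecializes_apply _ _ _ _
  have e₂' : (Submodule.Quotient.mk ((L.presheaf.germ ⊤ (f ξ') trivial) s) :
      Cyc.secFibre L (f ξ')) =
      (X.presheaf.stalkSpecializes h' f₀) • (Submodule.Quotient.mk
        (L.presheaf.germ V (f ξ') hdV a) : Cyc.secFibre L (f ξ')) := by
    rw [← Submodule.Quotient.mk_smul]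
    congr 1
    rw [← Groth.Agent.Lib.Helper18.SecDiv.stalkSpecializes_germ_top _ h' s, hf₀,
      Groth.Agent.Lib.Helper18.SecDiv.stalkSpecializes_smul]
    congr 1
    exact TopCat.Presheaf.germ_stalkSpecializes_apply _ _ _ _
  have e₂ := pullFibre_eq f L hT ξ' hdV _ _ e₂'
  have key : (f.stalkMap ξ').hom (X.presheaf.stalkSpecializes h' f₀) =
      X'.presheaf.stalkSpecializes h ((f.stalkMap x').hom f₀) :=
    Scheme.Hom.stalkSpecializes_stalkMap_apply f ξ' x' h f₀
  -- nonvanishing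
  have hid : f ξ' ∉ Set.range ⇑i := by
    rintro ⟨d', hd'⟩
    obtain ⟨z', hz', -⟩ := exists_point hc ξ' d' hd'.symm
    exact hdn ⟨z', hz'⟩
  have hτ := mk_germ_ne_zero s i hD (f ξ') hid
  have hσ₁ := mk_germ_ne_zero s' i' hD' ξ' hdn
  have hσ₂ := pullFibre_ne_zero f L hL ξ' _ hτ
  have hsub := secOrdAt_sub δ' hX' hND x' ξ' h hd _ hεd _ _ hσ₁ hσ₂ _ _ e₁ e₂
  -- the ratio is the image of a unit
  have hres2 : (X'.residue ξ').hom ((f.stalkMap ξ').hom (X.presheaf.stalkSpecializes h' f₀)) ≠ 0 := by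
    intro h0
    have hmem : (f.stalkMap ξ').hom (X.presheaf.stalkSpecializes h' f₀) ∈
        IsLocalRing.maximalIdeal (X'.presheaf.stalk ξ') :=
      (IsLocalRing.residue_eq_zero_iff _).mp h0
    apply hσ₂
    rw [e₂, ← Submodule.Quotient.mk_smul, Submodule.Quotient.mk_eq_zero]
    exact Submodule.smul_mem_smul hmem trivial
  have hratio : (X'.residue ξ').hom (X'.presheaf.stalkSpecializes h φ) /
      (X'.residue ξ').hom ((f.stalkMap ξ').hom (X.presheaf.stalkSpecializes h' f₀)) =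
      Cyc.specMap x' ξ' h (c : X'.presheaf.stalk x') := by
    rw [div_eq_iff hres2, hc', map_mul, map_mul, key]
    rfl
  rw [hratio] at hsub
  have hK : Ring.KrullDimLE 1 (Cyc.LocQuot x' ξ' h) :=
    krullDimLE_one_locQuot δ' hX'.2.2 x' ξ' h hd
  have hzero : Cyc.ordAt x' ξ' h (Cyc.specMap x' ξ' h (c : X'.presheaf.stalk x')) = 0 := by
    let cu : (Cyc.LocQuot x' ξ' h)ˣ :=
      Units.map (Ideal.Quotient.mk _ : _ →+* Cyc.LocQuot x' ξ' h) c
    unfold Cyc.ordAt
    exact Groth.Agent.Lib.Helper18.KF2.ordFrac_unit cu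
  rw [hzero] at hsub
  exact sub_eq_zero.mp hsub

end Groth.Agent.Lib.Helper18.KF31
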