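import Mathlib
import Groth.Agent.Lib.Helper18.KF27
import Groth.Agent.Lib.Helper18.DivLocFin

set_option autoImplicit false
set_option linter.style.haveILetI false
set_option linter.unusedSectionVars false

/-! Key formula, part 34: families of principal divisors: splitting, supports, cycles. -/

universe u
open CategoryTheory AlgebraicGeometry TopologicalSpace

namespace Groth.Agent.Lib.Helper18.KF34

open Groth.Agent.Lib.Helper18.KF12 Groth.Agent.Lib.Helper18.KF16 Groth.Agent.Lib.Helper18.KF18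

variable {X : Scheme.{u}}

/-- a family of divisors on points of `S ∪ T` splits into a family on `S` and a family on `T` -/
theorem RatEquivZeroIn.split {S T : Set X} {δ : X → ℤ} {k : ℤ} {A : X → ℤ}
    (hA : RatEquivZeroIn (S ∪ T) δ k A) :
    ∃ D₁ D₂ : X → ℤ, (∀ x, A x = D₁ x + D₂ x) ∧ RatEquivZeroIn S δ k D₁ ∧
      RatEquivZeroIn T δ k D₂ := by
  classical
  obtain ⟨ι, ξ, f, h1, h2, h3, h4, h5⟩ := hA
  let J₁ : Set ι := {j | ξ j ∈ S}
  refine ⟨fun x => ∑ᶠ j : J₁, Cyc.divFun δ (ξ j) (f j) x,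
    fun x => ∑ᶠ j : ↥(J₁ᶜ), Cyc.divFun δ (ξ j) (f j) x, ?_, ?_, ?_⟩
  · intro x
    have hfin := finite_support_of_locallyFinite δ ξ f h3 x
    show A x = (∑ᶠ j : J₁, Cyc.divFun δ (ξ j) (f j) x) +
      ∑ᶠ j : ↥(J₁ᶜ), Cyc.divFun δ (ξ j) (f j) x
    rw [h4 x, finsum_set_coe_eq_finsum_mem (s := J₁) (f := fun j => Cyc.divFun δ (ξ j) (f j) x),
      finsum_set_coe_eq_finsum_mem (s := J₁ᶜ) (f := fun j => Cyc.divFun δ (ξ j) (f j) x),
      ← finsum_mem_union' (disjoint_compl_right) (hfin.subset Set.inter_subset_right)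
        (hfin.subset Set.inter_subset_right), Set.union_compl_self, finsum_mem_univ]
  · refine ⟨J₁, fun j => ξ j, fun j => f j, fun j => h1 j, fun j => h2 j, ?_, fun x => rfl,
      fun j => j.2⟩
    intro x
    obtain ⟨U, hU, hxU, hfin⟩ := h3 x
    refine ⟨U, hU, hxU, ?_⟩
    exact (hfin.preimage (Subtype.val_injective.injOn)).subset (fun j hj => hj)
  · refine ⟨↥(J₁ᶜ), fun j => ξ j, fun j => f j, fun j => h1 j, fun j => h2 j, ?_, fun x => rfl,
      fun j => ?_⟩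
    · intro x
      obtain ⟨U, hU, hxU, hfin⟩ := h3 x
      refine ⟨U, hU, hxU, ?_⟩
      exact (hfin.preimage (Subtype.val_injective.injOn)).subset (fun j hj => hj)
    · have := h5 j.1
      exact this.resolve_left j.2

theorem RatEquivZeroIn.exists_term {S : Set X} {δ : X → ℤ} {k : ℤ} {A : X → ℤ}
    (hA : RatEquivZeroIn S δ k A) (x : X) (hx : A x ≠ 0) :
    ∃ ξ ∈ S, ∃ f : X.residueField ξ, f ≠ 0 ∧ δ ξ = k + 1 ∧ Cyc.divFun δ ξ f x ≠ 0 := by
  obtain ⟨ι, ξ, f, h1, h2, h3, h4, h5⟩ := hA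
  rw [h4 x] at hx
  obtain ⟨j, hj⟩ : ∃ j, Cyc.divFun δ (ξ j) (f j) x ≠ 0 := by
    by_contra hall
    push_neg at hall
    exact hx (finsum_eq_zero_of_forall_eq_zero hall)
  exact ⟨ξ j, h5 j, f j, h2 j, h1 j, hj⟩

/-- a family of divisors on points of a closed set is supported in it -/
theorem RatEquivZeroIn.mem_of_ne_zero {S : Set X} (hS : IsClosed S) {δ : X → ℤ} {k : ℤ}
    {A : X → ℤ} (hA : RatEquivZeroIn S δ k A) (x : X) (hx : A x ≠ 0) : x ∈ S := by
  obtain ⟨ξ, hξS, f, -, -, hne⟩ := RatEquivZeroIn.exists_term hA x hx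
  obtain ⟨hc, -⟩ := divFun_ne_zero δ hne
  exact hS.closure_subset_iff.mpr (Set.singleton_subset_iff.mpr hξS)
    (specializes_iff_mem_closure.mp hc.1)

theorem RatEquivZeroIn.delta_eq {S : Set X} {δ : X → ℤ} {k : ℤ}
    {A : X → ℤ} (hA : RatEquivZeroIn S δ k A) (x : X) (hx : A x ≠ 0) : δ x = k := by
  obtain ⟨ξ, hξS, f, -, hδ, hne⟩ := RatEquivZeroIn.exists_term hA x hx
  obtain ⟨hc, -⟩ := divFun_ne_zero δ hne
  have := hc.2
  omega

/-- the support of a locally finite sum of principal divisors is locally finite -/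
theorem RatEquivZeroIn.locallyFinite_support {S : Set X} {δ : X → ℤ} (hX : Cyc.IsSetup X δ)
    {k : ℤ} {A : X → ℤ} (hA : RatEquivZeroIn S δ k A) (z : X) :
    ∃ t ∈ nhds z, (t ∩ Function.support A).Finite := by
  classical
  obtain ⟨ι, ξ, f, h1, h2, h3, h4, h5⟩ := hA
  obtain ⟨U, hU, hzU, hfin⟩ := h3 z
  obtain ⟨V, hV, hzV, hVU⟩ := exists_isAffineOpen_mem_and_subset (x := z)
    (U := (⟨U, hU⟩ : X.Opens)) hzU
  refine ⟨V, V.2.mem_nhds hzV, ?_⟩
  have hfin2 : (⋃ j ∈ {j | (closure {ξ j} ∩ U).Nonempty},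
      ((V : Set X) ∩ Function.support (Cyc.divFun δ (ξ j) (f j)))).Finite :=
    hfin.biUnion (fun j _ =>
      Groth.Agent.Lib.Helper18.DivLocFin.finite_inter_support_divFun δ hX (ξ j) (f j) (h2 j) hV)
  refine hfin2.subset ?_
  rintro x ⟨hxV, hx⟩
  rw [Function.mem_support, h4 x] at hx
  obtain ⟨j, hj⟩ : ∃ j, Cyc.divFun δ (ξ j) (f j) x ≠ 0 := by
    by_contra hall
    push_neg at hall
    exact hx (finsum_eq_zero_of_forall_eq_zero hall)
  obtain ⟨hc, -⟩ := divFun_ne_zero δ hj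
  refine Set.mem_biUnion (x := j) ?_ ⟨hxV, hj⟩
  exact ⟨x, specializes_iff_mem_closure.mp hc.1, hVU hxV⟩

/-- the cycle of a locally finite sum of principal divisors -/
noncomputable def RatEquivZeroIn.cycle {S : Set X} {δ : X → ℤ} (hX : Cyc.IsSetup X δ)
    {k : ℤ} {A : X → ℤ} (hA : RatEquivZeroIn S δ k A) : AlgebraicCycle X ℤ where
  toFun := A
  supportWithinDomain' := Set.subset_univ _
  supportLocallyFiniteWithinDomain' := fun z _ => RatEquivZeroIn.locallyFinite_support hX hA z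

theorem RatEquivZeroIn.cycle_apply {S : Set X} {δ : X → ℤ} (hX : Cyc.IsSetup X δ)
    {k : ℤ} {A : X → ℤ} (hA : RatEquivZeroIn S δ k A) :
    ⇑(RatEquivZeroIn.cycle hX hA) = A := rfl

end Groth.Agent.Lib.Helper18.KF34
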