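import Mathlib
import Groth.Prelude.Def_Cyc
import Groth.Agent.Lib.Helper18.CL10
import Groth.Agent.Lib.Helper18.CL7f
import Groth.Agent.Lib.Helper18.PullSec2

/-!
# Proper pushforward of the divisor of a pulled back rational function
-/

set_option autoImplicit false
set_option linter.unusedSectionVars false
set_option linter.style.haveILetI false
universe u
open AlgebraicGeometry CategoryTheory TopologicalSpace

namespace Groth.Agent.Lib.Helper18.PP1

open Groth.Agent.Lib.Helper18.CL8d Groth.Agent.Lib.Helper18.CL10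

section Transport

variable {X Y : Scheme.{u}}

/-- (T1) residue field maps and equalities of points -/
theorem rfm_congr_point (p : X ⟶ Y) {x x' : X} (e : x = x') (a : Y.residueField (p x)) :
    (p.residueFieldMap x').hom ((Y.residueFieldCongr (congrArg p e)).hom.hom a) =
      (X.residueFieldCongr e).hom.hom ((p.residueFieldMap x).hom a) := by
  subst e
  rw [congr_refl_apply, congr_refl_apply]

/-- (T2) residue field maps and equalities of morphisms -/
theorem rfm_congr_hom {f g : X ⟶ Y} (e : f = g) (x : X) (a : Y.residueField (f x)) :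
    (f.residueFieldMap x).hom a =
      (g.residueFieldMap x).hom ((Y.residueFieldCongr (by rw [e])).hom.hom a) := by
  subst e
  rw [congr_refl_apply]

/-- (T4) -/
theorem congr_trans_apply {x y z : X} (e : x = y) (e' : y = z) (a : X.residueField x) :
    (X.residueFieldCongr e').hom.hom ((X.residueFieldCongr e).hom.hom a) =
      (X.residueFieldCongr (e.trans e')).hom.hom a := by
  subst e e'
  rw [congr_refl_apply, congr_refl_apply]

theorem residueDegree_congr_hom {f g : X ⟶ Y} (e : f = g) (x : X) :
    f.residueDegree x = g.residueDegree x := by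
  subst e
  rfl

theorem residueDegree_congr_point (f : X ⟶ Y) {x x' : X} (e : x = x') :
    f.residueDegree x = f.residueDegree x' := by
  subst e
  rfl

end Transport


section PD

variable {X Y : Scheme.{u}} (δX : X → ℤ) (δY : Y → ℤ) (hX : Cyc.IsSetup X δX)
  (hY : Cyc.IsSetup Y δY) (p : X ⟶ Y) [IsProper p] (hδ : Cyc.DeltaCompat p δX δY)

include hX hY hδ in
/-- **Proper pushforward of the divisor of a pulled back function** in the equidimensional
case. -/
theorem map_divCycle_pullback (ξ : X) (g₀ : Y.residueField (p ξ)) (hg₀ : g₀ ≠ 0)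
    (D : AlgebraicCycle X ℤ)
    (hD : ⇑D = Cyc.divFun δX ξ ((p.residueFieldMap ξ).hom g₀)) (hdim : δX ξ = δY (p ξ)) :
    ⇑(AlgebraicCycle.map p δX δY D) = Cyc.divFun δY (p ξ) (g₀ ^ p.residueDegree ξ) := by
  classical
  set f : X.residueField ξ := (p.residueFieldMap ξ).hom g₀ with hf_def
  have hf : f ≠ 0 := (map_ne_zero_iff _ (RingHom.injective _)).mpr hg₀
  obtain ⟨W, hWint, ιW, hιWc, hιW⟩ := exists_integral_closure ξ
  obtain ⟨W', hW'int, ιW', hιW'c, hιW'⟩ := exists_integral_closure (p ξ)
  have hrange : Set.range (ιW ≫ p) ⊆ Set.range ιW' := by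
    rw [range_eq_closure' ιW', hιW']
    rintro _ ⟨w, rfl⟩
    have h1 : ιW w ∈ closure {ξ} := by
      rw [← hιW, ← range_eq_closure' ιW]
      exact ⟨w, rfl⟩
    have h2 := image_closure_subset_closure_image p.continuous ⟨ιW w, h1, rfl⟩
    rw [Set.image_singleton] at h2
    exact h2
  obtain ⟨q, hq⟩ := exists_lift_of_reduced ιW' (ιW ≫ p) hrange
  set δW : W → ℤ := fun w => δX (ιW w) with hδW
  set δW' : W' → ℤ := fun w' => δY (ιW' w') with hδW'
  have hW := Groth.Agent.Lib.Helper18.ClImm.isSetup ιW δX hX
  have hW' := Groth.Agent.Lib.Helper18.ClImm.isSetup ιW' δY hY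
  have hδq : Cyc.DeltaCompat q δW δW' := by
    refine Groth.Agent.Lib.Helper18.FF8.deltaCompat_cancel q ιW' δW δW' δY ?_
      (Groth.Agent.Lib.Helper18.ClImm.deltaCompat ιW' δY)
    rw [hq]
    exact Groth.Agent.Lib.Helper18.RelCartier.deltaCompat_comp ιW p δX δY hδ
  haveI : IsProper q := by
    haveI : IsProper (q ≫ ιW') := by
      rw [hq]
      infer_instance
    exact IsProper.of_comp q ιW'
  have hdomq : q (genericPoint W) = genericPoint W' := by
    apply ιW'.isClosedEmbedding.injective
    have h1 : ιW' (q (genericPoint W)) = p (ιW (genericPoint W)) :=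
      congrArg (fun k => k (genericPoint W)) hq
    rw [h1, hιW, hιW']
  set f₀ : X.residueField (ιW (genericPoint W)) := (X.residueFieldCongr hιW.symm).hom f with hf₀
  have hf₀0 : f₀ ≠ 0 := by
    rw [hf₀]
    exact (map_ne_zero_iff _ (RingHom.injective _)).mpr hf
  have hf₀' : (X.residueFieldCongr hιW).hom f₀ = f := by
    rw [hf₀]
    have := congrArg (fun k => k.hom f) (X.residueFieldCongr hιW.symm).hom_inv_id
    exact this
  set f' : W.residueField (genericPoint W) := (ιW.residueFieldMap (genericPoint W)).hom f₀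
    with hf'
  have hf'0 : f' ≠ 0 := (map_ne_zero_iff _ (RingHom.injective _)).mpr hf₀0
  set A : AlgebraicCycle W ℤ := divCycle δW hW (genericPoint W) f' hf'0 with hA
  have hDdiv : Cyc.divFun δX ξ f = Cyc.divFun δX (ιW (genericPoint W)) f₀ := by
    rw [divFun_congr δX ξ (ιW (genericPoint W)) hιW f₀, hf₀']
  have hDA : D = AlgebraicCycle.map ιW δW δX A := by
    ext x
    by_cases hx : x ∈ Set.range (ιW : W → X)
    · obtain ⟨w, rfl⟩ := hx
      rw [Groth.Agent.Lib.Helper18.PullSec.map_apply_of_mem ιW δX A w, hD, hDdiv]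
      exact (Groth.Agent.Lib.Helper18.ClImm.divFun_eq ιW δX hX w (genericPoint W) f₀).symm
    · rw [Groth.Agent.Lib.Helper18.PullSec.map_apply_of_notMem ιW δX A x hx, hD, hDdiv]
      exact Groth.Agent.Lib.Helper18.ClImm.divFun_eq_zero_of_notMem_range ιW δX
        (genericPoint W) f₀ x hx
  have hmap : AlgebraicCycle.map p δX δY D =
      AlgebraicCycle.map ιW' δW' δY (AlgebraicCycle.map q δW δW' A) := by
    rw [hDA, Groth.Agent.Lib.Helper18.CycMap.map_map ιW p δW δX δY
      (Groth.Agent.Lib.Helper18.ClImm.deltaCompat ιW δX) hδ A,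
      Groth.Agent.Lib.Helper18.CycMap.map_map q ιW' δW δW' δY hδq
      (Groth.Agent.Lib.Helper18.ClImm.deltaCompat ιW' δY) A]
    exact map_congr_hom hq.symm δW δY A
  have hδ1 : δW (genericPoint W) = δX ξ := by
    change δX (ιW (genericPoint W)) = δX ξ
    rw [hιW]
  have hδ2 : δW' (genericPoint W') = δY (p ξ) := by
    change δY (ιW' (genericPoint W')) = δY (p ξ)
    rw [hιW']
  have hn : δW (genericPoint W) = δW' (genericPoint W') := by rw [hδ1, hδ2, hdim]
  have hS := Groth.Agent.Lib.Helper18.DL10.map_divFun δW δW' hW hW' q hδq hdomq hn f' hf'0 A rfl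
  -- the function `f'` is pulled back along `q`
  have e₂ : p ξ = ιW' (q (genericPoint W)) := by rw [hdomq, hιW']
  set g₀₂ : Y.residueField (ιW' (q (genericPoint W))) := (Y.residueFieldCongr e₂).hom.hom g₀ with hg₀₂
  have hf'g : f' = (q.residueFieldMap (genericPoint W)).hom
      ((ιW'.residueFieldMap (q (genericPoint W))).hom g₀₂) := by
    have s1 : f₀ = (p.residueFieldMap (ιW (genericPoint W))).hom
        ((Y.residueFieldCongr (congrArg p hιW.symm)).hom.hom g₀) :=
      (rfm_congr_point p hιW.symm g₀).symm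
    have s2 : ((ιW ≫ p).residueFieldMap (genericPoint W)).hom
          ((Y.residueFieldCongr (congrArg p hιW.symm)).hom.hom g₀) =
        (ιW.residueFieldMap (genericPoint W)).hom ((p.residueFieldMap (ιW (genericPoint W))).hom
          ((Y.residueFieldCongr (congrArg p hιW.symm)).hom.hom g₀)) :=
      congrArg (fun k => k.hom ((Y.residueFieldCongr (congrArg p hιW.symm)).hom.hom g₀))
        (Scheme.residueFieldMap_comp ιW p (genericPoint W))
    have s3 := rfm_congr_hom hq.symm (genericPoint W)
      ((Y.residueFieldCongr (congrArg p hιW.symm)).hom.hom g₀)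
    have e₃ : (ιW ≫ p) (genericPoint W) = (q ≫ ιW') (genericPoint W) :=
      congrArg (fun k => k (genericPoint W)) hq.symm
    have s4 : ((q ≫ ιW').residueFieldMap (genericPoint W)).hom
          ((Y.residueFieldCongr e₃).hom.hom
            ((Y.residueFieldCongr (congrArg p hιW.symm)).hom.hom g₀)) =
        (q.residueFieldMap (genericPoint W)).hom ((ιW'.residueFieldMap (q (genericPoint W))).hom
          ((Y.residueFieldCongr e₃).hom.hom
            ((Y.residueFieldCongr (congrArg p hιW.symm)).hom.hom g₀))) :=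
      congrArg (fun k => k.hom ((Y.residueFieldCongr e₃).hom.hom
        ((Y.residueFieldCongr (congrArg p hιW.symm)).hom.hom g₀)))
        (Scheme.residueFieldMap_comp q ιW' (genericPoint W))
    rw [hf', s1, ← s2, s3, s4]
    exact congrArg (fun z => (q.residueFieldMap (genericPoint W)).hom
      ((ιW'.residueFieldMap (q (genericPoint W))).hom z))
      (congr_trans_apply (congrArg p hιW.symm) e₃ g₀)
  have hN : Cyc.normGen q (genericPoint W) f' =
      (ιW'.residueFieldMap (q (genericPoint W))).hom (g₀₂ ^ q.residueDegree (genericPoint W)) := by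
    rw [hf'g, Groth.Agent.Lib.Helper18.CL7f.normGen_residueFieldMap, map_pow]
  -- the degrees agree
  have hdeg : q.residueDegree (genericPoint W) = p.residueDegree ξ := by
    have d1 := Groth.Agent.Lib.Helper18.CycMap.residueDegree_comp ιW p (genericPoint W)
    have d2 := Groth.Agent.Lib.Helper18.CycMap.residueDegree_comp q ιW' (genericPoint W)
    rw [Groth.Agent.Lib.Helper18.PullSec.residueDegree_eq_one ιW, mul_one] at d1
    rw [Groth.Agent.Lib.Helper18.PullSec.residueDegree_eq_one ιW', one_mul] at d2
    rw [← d2, residueDegree_congr_hom hq, d1, residueDegree_congr_point p hιW]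
  have hgoal : Cyc.divFun δY (p ξ) (g₀ ^ p.residueDegree ξ) =
      Cyc.divFun δY (ιW' (q (genericPoint W))) (g₀₂ ^ q.residueDegree (genericPoint W)) := by
    rw [divFun_congr δY (ιW' (q (genericPoint W))) (p ξ) e₂ (g₀ ^ p.residueDegree ξ), map_pow,
      hdeg]
  rw [hmap, hgoal]
  funext y
  by_cases hy : y ∈ Set.range (ιW' : W' → Y)
  · obtain ⟨w', rfl⟩ := hy
    rw [Groth.Agent.Lib.Helper18.PullSec.map_apply_of_mem ιW' δY _ w', hS, hN]
    exact Groth.Agent.Lib.Helper18.ClImm.divFun_eq ιW' δY hY w' (q (genericPoint W)) _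
  · rw [Groth.Agent.Lib.Helper18.PullSec.map_apply_of_notMem ιW' δY _ y hy]
    exact (Groth.Agent.Lib.Helper18.ClImm.divFun_eq_zero_of_notMem_range ιW' δY
      (q (genericPoint W)) _ y hy).symm

end PD

end Groth.Agent.Lib.Helper18.PP1
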