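import Mathlib
import Groth.Prelude.Def_C1
import Groth.Agent.Lib.Helper18.FlatPullSec
import Groth.Agent.Lib.Helper18.PP1
import Groth.Agent.Lib.Helper18.CL11
import Groth.Agent.Lib.Helper18.KF21
import Groth.Agent.Lib.Helper18.C1Indep2
import Groth.Agent.Lib.Helper18.C1Indep3

/-!
# Projection formula for `c₁`: local computations
-/

set_option autoImplicit false
set_option linter.unusedSectionVars false
set_option linter.style.haveILetI false
universe u
open CategoryTheory AlgebraicGeometry TopologicalSpace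

namespace Groth.Agent.Lib.Helper18.PP2

open Groth.Agent.Lib.Helper29.QCoh Groth.Agent.Lib.Helper28.StalkTensor
  Groth.Agent.Lib.Helper18.InvStalk Groth.Agent.Lib.Helper18.PullStalk
  Groth.Agent.Lib.Helper18.PullTriv Groth.Agent.Lib.Helper18.C1Add
  Groth.Agent.Lib.Helper26.OrdZ Groth.Agent.Lib.Helper18.DivPull
  Groth.Agent.Lib.Helper18.PullSec Groth.Agent.Lib.Helper18.FlatPullDiv
  Groth.Agent.Lib.Helper18.FlatPullSec

variable {X Y : Scheme.{u}} (p : X ⟶ Y) (L : Y.Modules)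

/-- downstairs: the divisor of a rational section in terms of a trivialisation -/
theorem secDivFun_eq_divFun_of_triv (δ : Y → ℤ) (hY : Cyc.IsSetup Y δ) (hL : PicF.IsInvertible L)
    {V : Y.Opens} {e : Γ(L, V)} (hT : IsTriv L V e) (η y : Y) (hy : y ∈ V) (hη : η ∈ V)
    (σ : Cyc.secFibre L η) (hσ : σ ≠ 0) (ψ : Y.presheaf.stalk η)
    (hψ : σ = ψ • (Submodule.Quotient.mk (L.presheaf.germ V η hη e) : Cyc.secFibre L η)) :
    Cyc.secDivFun δ L η σ y = Cyc.divFun δ η ((Y.residue η).hom ψ) y ∧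
      (Y.residue η).hom ψ ≠ 0 := by
  classical
  haveI : IsLocallyNoetherian Y := hY.1
  unfold Cyc.secDivFun Cyc.divFun
  by_cases h : η ⤳ y ∧ δ y + 1 = δ η
  · rw [dif_pos h, dif_pos h]
    have := secOrdAt_eq_of_triv L hL hT y η h.1 hy hη
      (krullDimLE_one_locQuot δ hY.2.2 y η h.1 h.2) σ hσ ψ hψ
    exact ⟨this.1, this.2⟩
  · rw [dif_neg h, dif_neg h]
    refine ⟨rfl, ?_⟩
    intro h0
    have hmem : ψ ∈ IsLocalRing.maximalIdeal (Y.presheaf.stalk η) :=
      (IsLocalRing.residue_eq_zero_iff _).mp h0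
    apply hσ
    rw [hψ, ← Submodule.Quotient.mk_smul, Submodule.Quotient.mk_eq_zero]
    exact Submodule.smul_mem_smul hmem trivial

/-- upstairs: the divisor of the pulled back rational section in terms of a trivialisation -/
theorem secDivFun_pullFibre_eq_divFun (δX : X → ℤ) (hX : Cyc.IsSetup X δX)
    (hL : PicF.IsInvertible L) {V : Y.Opens} {e : Γ(L, V)} (hT : IsTriv L V e) (ξ x : X)
    (hx : p x ∈ V) (hξ : p ξ ∈ V) (σ : Cyc.secFibre L (p ξ)) (hσ : σ ≠ 0)
    (ψ : Y.presheaf.stalk (p ξ))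
    (hψ : σ = ψ • (Submodule.Quotient.mk (L.presheaf.germ V (p ξ) hξ e) :
      Cyc.secFibre L (p ξ))) :
    Cyc.secDivFun δX ((Scheme.Modules.pullback p).obj L) ξ (pullFibre p L ξ σ) x =
      Cyc.divFun δX ξ ((p.residueFieldMap ξ).hom ((Y.residue (p ξ)).hom ψ)) x := by
  classical
  haveI : IsLocallyNoetherian X := hX.1
  have hL' : PicF.IsInvertible ((Scheme.Modules.pullback p).obj L) := isInvertible_pullback p hL
  unfold Cyc.secDivFun Cyc.divFun
  by_cases hd : ξ ⤳ x ∧ δX x + 1 = δX ξ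
  swap
  · rw [dif_neg hd, dif_neg hd]
  rw [dif_pos hd, dif_pos hd]
  have e' := pullFibre_eq p L hT ξ hξ σ ψ hψ
  have hK' : Ring.KrullDimLE 1 (Cyc.LocQuot x ξ hd.1) :=
    krullDimLE_one_locQuot δX hX.2.2 x ξ hd.1 hd.2
  haveI : IsDomain (Cyc.LocQuot x ξ hd.1) := Ideal.Quotient.isDomain _
  haveI := hK'
  haveI : IsFractionRing (Cyc.LocQuot x ξ hd.1) (X.residueField ξ) :=
    Groth.Agent.Lib.Helper18.LocStalk.isFractionRing_locQuot _ _ _
  have hD1 := secOrdAt_eq_of_generators' hL' x ξ hd.1 hK'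
    (((Scheme.Modules.pullback p).obj L).presheaf.germ (p ⁻¹ᵁ V) x hx (etaSec p L V e))
    (span_germ_etaSec_eq_top p L hT x hx)
    (((Scheme.Modules.pullback p).obj L).presheaf.germ (p ⁻¹ᵁ V) ξ hξ (etaSec p L V e)) 1
    (by rw [one_smul]; exact (TopCat.Presheaf.germ_stalkSpecializes_apply _ _ _ _).symm)
    (pullFibre p L ξ σ) (pullFibre_ne_zero p L hL ξ _ hσ) _ e'
  rw [hD1.1, map_one]
  have hres : (X.residue ξ).hom ((p.stalkMap ξ).hom ψ) =
      (p.residueFieldMap ξ).hom ((Y.residue (p ξ)).hom ψ) := by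
    have := congrArg (fun k => k.hom ψ) (Scheme.residue_residueFieldMap p ξ)
    exact this.symm
  rw [hres]
  have h1 : Cyc.ordAt x ξ hd.1 (1 : X.residueField ξ) = 0 := by
    unfold Cyc.ordAt
    exact ordFrac_one
  rw [h1, add_zero]

end Groth.Agent.Lib.Helper18.PP2
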