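import Mathlib
import Groth.Prelude.Def_C1
import Groth.Agent.Lib.Helper18.PP2
import Groth.Agent.Lib.Helper18.FF4

/-!
# Projection formula for `c₁` with compatible rational sections
-/

set_option autoImplicit false
set_option linter.unusedSectionVars false
set_option linter.style.haveILetI false
universe u
open CategoryTheory AlgebraicGeometry TopologicalSpace

namespace Groth.Agent.Lib.Helper18.PP3

open Groth.Agent.Lib.Helper29.QCoh Groth.Agent.Lib.Helper28.StalkTensor
  Groth.Agent.Lib.Helper18.InvStalk Groth.Agent.Lib.Helper18.PullStalk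
  Groth.Agent.Lib.Helper18.PullTriv Groth.Agent.Lib.Helper18.C1Add
  Groth.Agent.Lib.Helper26.OrdZ Groth.Agent.Lib.Helper18.DivPull
  Groth.Agent.Lib.Helper18.PullSec Groth.Agent.Lib.Helper18.FlatPullDiv
  Groth.Agent.Lib.Helper18.FlatPullSec Groth.Agent.Lib.Helper18.PP2
  Groth.Agent.Lib.Helper18.CL10

variable {X Y : Scheme.{u}} (δX : X → ℤ) (δY : Y → ℤ) (hX : Cyc.IsSetup X δX)
  (hY : Cyc.IsSetup Y δY) (p : X ⟶ Y) [IsProper p] (hδ : Cyc.DeltaCompat p δX δY)
  (L : Y.Modules) (hL : PicF.IsInvertible L)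

include hX hY hδ hL in
/-- **Projection formula** for `c₁` when the rational sections upstairs are the pullbacks of
the rational sections downstairs: equality of cycles. -/
theorem map_c1Cap_pull (α : AlgebraicCycle X ℤ) (v : (η : Y) → Cyc.secFibre L η)
    (hv : ∀ η, v η ≠ 0) (γ₀ : AlgebraicCycle X ℤ)
    (hγ₀ : ⇑γ₀ = Cyc.c1CapFun δX ((Scheme.Modules.pullback p).obj L) ⇑α
      (fun ξ => pullFibre p L ξ (v (p ξ))))
    (γ' : AlgebraicCycle Y ℤ)
    (hγ' : ⇑γ' = Cyc.c1CapFun δY L ⇑(AlgebraicCycle.map p δX δY α) v) :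
    AlgebraicCycle.map p δX δY γ₀ = γ' := by
  classical
  ext y
  obtain ⟨V, e, hVaff, hyV, -, hT⟩ := exists_affine_isTriv hL (W := ⊤) y trivial
  have hc : IsCompact (p ⁻¹ᵁ V : Set X) := p.isSpectralMap.2 V.isOpen hVaff.isCompact
  -- coefficient functions
  have hex : ∀ (η : Y) (hη : η ∈ V), ∃ ψ : Y.presheaf.stalk η,
      v η = ψ • (Submodule.Quotient.mk (L.presheaf.germ V η hη e) : Cyc.secFibre L η) :=
    fun η hη => exists_smul_mk_eq (IsLocalRing.maximalIdeal (Y.presheaf.stalk η)) _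
      (span_germ_eq_top L hT η hη) (v η)
  let g : (η : Y) → Y.residueField η := fun η =>
    if hη : η ∈ V then (Y.residue η).hom (Classical.choose (hex η hη)) else 1
  have hgV : ∀ (η : Y) (hη : η ∈ V), g η = (Y.residue η).hom (Classical.choose (hex η hη)) := by
    intro η hη
    simp only [g, dif_pos hη]
  have hg0 : ∀ η, g η ≠ 0 := by
    intro η
    by_cases hη : η ∈ V
    · rw [hgV η hη]
      exact (secDivFun_eq_divFun_of_triv L δY hY hL hT η y hyV hη (v η) (hv η) _
        (Classical.choose_spec (hex η hη))).2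
    · simp only [g, dif_neg hη]
      exact one_ne_zero
  -- downstairs
  have hdown : ∀ η, Cyc.secDivFun δY L η (v η) y = Cyc.divFun δY η (g η) y := by
    intro η
    by_cases hη : η ∈ V
    · rw [hgV η hη]
      exact (secDivFun_eq_divFun_of_triv L δY hY hL hT η y hyV hη (v η) (hv η) _
        (Classical.choose_spec (hex η hη))).1
    · have hns : ¬ (η ⤳ y ∧ δY y + 1 = δY η) := fun h => hη (h.1.mem_open V.2 hyV)
      unfold Cyc.secDivFun Cyc.divFun
      rw [dif_neg hns, dif_neg hns]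
  have hdown0 : ∀ η, η ∉ V → Cyc.divFun δY η (g η) y = 0 := by
    intro η hη
    have hns : ¬ (η ⤳ y ∧ δY y + 1 = δY η) := fun h => hη (h.1.mem_open V.2 hyV)
    unfold Cyc.divFun
    rw [dif_neg hns]
  -- upstairs
  let f : (ξ : X) → X.residueField ξ := fun ξ => (p.residueFieldMap ξ).hom (g (p ξ))
  have hf0 : ∀ ξ, f ξ ≠ 0 := fun ξ => (map_ne_zero_iff _ (RingHom.injective _)).mpr (hg0 (p ξ))
  have hup : ∀ ξ x, p x ∈ V →
      Cyc.secDivFun δX ((Scheme.Modules.pullback p).obj L) ξ (pullFibre p L ξ (v (p ξ))) x =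
        Cyc.divFun δX ξ (f ξ) x := by
    intro ξ x hx
    by_cases hξ : p ξ ∈ V
    · change _ = Cyc.divFun δX ξ ((p.residueFieldMap ξ).hom (g (p ξ))) x
      rw [hgV (p ξ) hξ]
      exact secDivFun_pullFibre_eq_divFun p L δX hX hL hT ξ x hx hξ (v (p ξ)) (hv _) _
        (Classical.choose_spec (hex (p ξ) hξ))
    · have hns : ¬ (ξ ⤳ x ∧ δX x + 1 = δX ξ) := fun h =>
        hξ ((p.base.hom.map_specializes h.1).mem_open V.2 hx)
      unfold Cyc.secDivFun Cyc.divFun
      rw [dif_neg hns, dif_neg hns]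
  -- the principal divisors
  let D : X → AlgebraicCycle X ℤ := fun ξ => divCycle δX hX ξ (f ξ) (hf0 ξ)
  have hD : ∀ ξ, ⇑(D ξ) = Cyc.divFun δX ξ (f ξ) := fun ξ => rfl
  set c : X → ℤ := fun x => ((AlgebraicCycle.mapCoeff p δX δY x : ℕ) : ℤ) with hc_def
  have hpush : ∀ ξ, (AlgebraicCycle.map p δX δY (D ξ)) y =
      c ξ * Cyc.divFun δY (p ξ) (g (p ξ)) y := by
    intro ξ
    by_cases hdim : δX ξ = δY (p ξ)
    · rw [Groth.Agent.Lib.Helper18.PP1.map_divCycle_pullback δX δY hX hY p hδ ξ (g (p ξ)) (hg0 _)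
        (D ξ) (hD ξ) hdim, ← zpow_natCast,
        Groth.Agent.Lib.Helper18.C1Indep.divFun_zpow δY hY (p ξ) (g (p ξ)) (hg0 _)]
      simp only [c, AlgebraicCycle.mapCoeff]
      rw [if_pos hdim]
    · rw [(map_divCycle δX δY hX hY p hδ ξ (f ξ) (hf0 ξ) (D ξ) (hD ξ)).2 hdim]
      simp only [c, AlgebraicCycle.mapCoeff]
      rw [if_neg hdim]
      simp
  have h1 : ∀ γ'' : AlgebraicCycle X ℤ, (AlgebraicCycle.map p δX δY γ'') y =
      ∑ᶠ x ∈ (p ⁻¹' {y} : Set X), γ'' x * c x := by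
    intro γ''
    simp only [AlgebraicCycle.map, Function.locallyFinsupp.map_apply]
    rfl
  -- the double sum
  let H : X × X → ℤ := fun a =>
    if p a.1 = y then α a.2 * Cyc.divFun δX a.2 (f a.2) a.1 * c a.1 else 0
  have hKα : ((p ⁻¹ᵁ V : Set X) ∩ Function.support ⇑α).Finite :=
    α.locallyFiniteSupport.finite_inter_support_of_isCompact hc
  have hHfin : (Function.support H).Finite := by
    have hfin2 : (⋃ ξ ∈ ((p ⁻¹ᵁ V : Set X) ∩ Function.support ⇑α),
        (fun x : X => ((x, ξ) : X × X)) ''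
          ((p ⁻¹ᵁ V : Set X) ∩ Function.support ⇑(D ξ))).Finite :=
      hKα.biUnion (fun ξ _ =>
        ((D ξ).locallyFiniteSupport.finite_inter_support_of_isCompact hc).image _)
    refine hfin2.subset ?_
    rintro ⟨x, ξ⟩ hxξ
    rw [Function.mem_support] at hxξ
    simp only [H] at hxξ
    by_cases hpx : p x = y
    · rw [if_pos hpx] at hxξ
      have hd : Cyc.divFun δX ξ (f ξ) x ≠ 0 := right_ne_zero_of_mul (left_ne_zero_of_mul hxξ)
      have hα0 : α ξ ≠ 0 := left_ne_zero_of_mul (left_ne_zero_of_mul hxξ)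
      have hxV : x ∈ (p ⁻¹ᵁ V : Set X) := by
        change p x ∈ V
        rw [hpx]
        exact hyV
      have hsp : ξ ⤳ x := by
        by_contra hns
        apply hd
        unfold Cyc.divFun
        rw [dif_neg (fun hh => hns hh.1)]
      have hξV : ξ ∈ (p ⁻¹ᵁ V : Set X) := hsp.mem_open (p ⁻¹ᵁ V).2 hxV
      refine Set.mem_biUnion (x := ξ) ⟨hξV, hα0⟩ ⟨x, ⟨hxV, ?_⟩, rfl⟩
      rw [Function.mem_support, hD]
      exact hd
    · rw [if_neg hpx] at hxξ
      exact absurd rfl hxξ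
  have hLs : (AlgebraicCycle.map p δX δY γ₀) y = ∑ᶠ a, H a := by
    rw [h1, finsum_curry H hHfin, finsum_mem_def]
    apply finsum_congr
    intro x
    by_cases hpx : p x = y
    · have hxV : p x ∈ V := by rw [hpx]; exact hyV
      rw [Set.indicator_of_mem (show x ∈ (p ⁻¹' {y} : Set X) from hpx), hγ₀]
      unfold Cyc.c1CapFun
      rw [finsum_mul]
      apply finsum_congr
      intro ξ
      simp only [H, if_pos hpx]
      rw [hup ξ x hxV]
    · rw [Set.indicator_of_notMem (show x ∉ (p ⁻¹' {y} : Set X) from hpx)]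
      symm
      apply finsum_eq_zero_of_forall_eq_zero
      intro ξ
      simp only [H, if_neg hpx]
  have hHfin' : (Function.support (H ∘ (Equiv.prodComm X X))).Finite :=
    (hHfin.preimage (Equiv.prodComm X X).injective.injOn)
  have hRs : ∑ᶠ a, H a = ∑ᶠ ξ, α ξ * (AlgebraicCycle.map p δX δY (D ξ)) y := by
    rw [← finsum_comp_equiv (Equiv.prodComm X X)]
    change ∑ᶠ a, (H ∘ (Equiv.prodComm X X)) a = _
    rw [finsum_curry _ hHfin']
    apply finsum_congr
    intro ξ
    rw [h1, finsum_mem_def, mul_finsum]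
    apply finsum_congr
    intro x
    by_cases hpx : p x = y
    · rw [Set.indicator_of_mem (show x ∈ (p ⁻¹' {y} : Set X) from hpx)]
      simp only [Function.comp, Equiv.prodComm_apply, Prod.swap_prod_mk, H, if_pos hpx]
      rw [hD, mul_assoc]
    · rw [Set.indicator_of_notMem (show x ∉ (p ⁻¹' {y} : Set X) from hpx)]
      simp only [Function.comp, Equiv.prodComm_apply, Prod.swap_prod_mk, H, if_neg hpx, mul_zero]
  rw [hLs, hRs, hγ']
  unfold Cyc.c1CapFun
  -- regroup along the fibres of `p`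
  have hfib := Groth.Agent.Lib.Helper18.CycMap.finsum_fiber (p : X → Y) (V : Set Y)
    (fun ξ => α ξ * c ξ) (fun η => Cyc.divFun δY η (g η) y)
    (hKα.subset (by
      rintro ξ ⟨h1', h2'⟩
      exact ⟨h1', left_ne_zero_of_mul h2'⟩))
  have hleft : ∑ᶠ ξ, α ξ * (AlgebraicCycle.map p δX δY (D ξ)) y =
      ∑ᶠ ξ ∈ (p : X → Y) ⁻¹' (V : Set Y), α ξ * c ξ * Cyc.divFun δY (p ξ) (g (p ξ)) y := by
    rw [finsum_mem_def]
    apply finsum_congr
    intro ξ
    rw [hpush ξ]
    by_cases hξ : p ξ ∈ V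
    · rw [Set.indicator_of_mem (show ξ ∈ (p : X → Y) ⁻¹' (V : Set Y) from hξ), mul_assoc]
    · rw [Set.indicator_of_notMem (show ξ ∉ (p : X → Y) ⁻¹' (V : Set Y) from hξ),
        hdown0 (p ξ) hξ, mul_zero, mul_zero]
  have hright : ∑ᶠ η, (AlgebraicCycle.map p δX δY α) η * Cyc.secDivFun δY L η (v η) y =
      ∑ᶠ η ∈ (V : Set Y), (∑ᶠ ξ ∈ (p : X → Y) ⁻¹' {η}, α ξ * c ξ) *
        Cyc.divFun δY η (g η) y := by
    rw [finsum_mem_def]
    apply finsum_congr
    intro η
    rw [hdown η]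
    by_cases hη : η ∈ V
    · rw [Set.indicator_of_mem (show η ∈ (V : Set Y) from hη)]
      congr 1
    · rw [Set.indicator_of_notMem (show η ∉ (V : Set Y) from hη), hdown0 η hη, mul_zero]
  rw [hleft, hright, hfib]

end Groth.Agent.Lib.Helper18.PP3
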