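import Mathlib
import Groth.Prelude.Def_C1
import Groth.Agent.Lib.Helper18.PP3
import Groth.Agent.Lib.Helper18.KF31
import Groth.Agent.Lib.Helper18.KF24
import Groth.Agent.Lib.Helper18.KF27
import Groth.Agent.Lib.Helper18.KF34
import Groth.Agent.Lib.Helper18.KF21
import Groth.Agent.Lib.Helper18.SubCyc

/-!
# Gysin maps commute with proper pushforward
-/

set_option autoImplicit false
set_option linter.unusedSectionVars false
set_option linter.style.haveILetI false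
universe u
open CategoryTheory AlgebraicGeometry TopologicalSpace Limits

namespace Groth.Agent.Lib.Helper18.GP1

open Groth.Agent.Lib.Helper29.QCoh Groth.Agent.Lib.Helper18.InvStalk
  Groth.Agent.Lib.Helper18.KF16
  Groth.Agent.Lib.Helper18.KF17 Groth.Agent.Lib.Helper18.KF18 Groth.Agent.Lib.Helper18.KF21
  Groth.Agent.Lib.Helper18.KF24
  Groth.Agent.Lib.Helper18.KF25 Groth.Agent.Lib.Helper18.PullSec
  Groth.Agent.Lib.Helper18.CL10

/-- symmetry of rational equivalence -/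
theorem ratEquivZero_sub_comm {X : Scheme.{u}} {δ : X → ℤ} (hX : Cyc.IsSetup X δ) {k : ℤ}
    (a b : AlgebraicCycle X ℤ) (h : Cyc.RatEquivZero δ k (a - b)) :
    Cyc.RatEquivZero δ k (b - a) := by
  obtain ⟨ι, ξ, f, h1, h2, h3, h4⟩ := h
  have hIn : RatEquivZeroIn Set.univ δ k ⇑(a - b) := ⟨ι, ξ, f, h1, h2, h3, h4, fun _ => trivial⟩
  have hneg := Groth.Agent.Lib.Helper18.KF27.RatEquivZeroIn.neg hX hIn
  refine RatEquivZeroIn.ratEquivZero (S := Set.univ) (RatEquivZeroIn.congr hneg ?_)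
  intro x
  change b x - a x = -(a x - b x)
  ring

theorem gysin_push {X X' D P : Scheme.{u}} (δ : X → ℤ) (δ' : X' → ℤ) (hX : Cyc.IsSetup X δ)
    (hX' : Cyc.IsSetup X' δ') (f : X' ⟶ X) [IsProper f] (hδ : Cyc.DeltaCompat f δ' δ)
    (L : X.Modules) (hL : PicF.IsInvertible L) (s : L.presheaf.obj (Opposite.op ⊤))
    (i : D ⟶ X) [IsClosedImmersion i] (hD : Cyc.IsZeroSchemeOf i L s)
    (i' : P ⟶ X') [IsClosedImmersion i'] (g : P ⟶ D) [IsProper g] (hc : IsPullback i' g f i)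
    (s' : ((Scheme.Modules.pullback f).obj L).presheaf.obj (Opposite.op ⊤))
    (hD' : Cyc.IsZeroSchemeOf i' ((Scheme.Modules.pullback f).obj L) s') (k : ℤ)
    (α' : AlgebraicCycle X' ℤ) (hα' : α' ∈ Cyc.Zk X' δ' (k + 1))
    (w : (ξ : X) → Cyc.secFibre L ξ) (hw : ∀ ξ, w ξ ≠ 0)
    (w' : (ξ : X') → Cyc.secFibre ((Scheme.Modules.pullback f).obj L) ξ) (hw' : ∀ ξ, w' ξ ≠ 0)
    (γ : AlgebraicCycle D ℤ)
    (hγ : ∀ d, γ d = Cyc.c1CapFun δ L ⇑(AlgebraicCycle.map f δ' δ α')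
      (Cyc.gysinChoice L s w) (i d))
    (γ' : AlgebraicCycle P ℤ)
    (hγ' : ∀ z, γ' z = Cyc.c1CapFun δ' ((Scheme.Modules.pullback f).obj L) ⇑α'
      (Cyc.gysinChoice ((Scheme.Modules.pullback f).obj L) s' w') (i' z)) :
    Cyc.RatEquiv (fun d => δ (i d)) k γ
      (AlgebraicCycle.map g (fun z => δ' (i' z)) (fun d => δ (i d)) γ') := by
  classical
  have hND : PicF.IsInvertible ((Scheme.Modules.pullback f).obj L) := isInvertible_pullback f hL
  have hvL := gysinChoice_ne_zero s w hw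
  have hgC := gysinChoice_ne_zero s' w' hw'
  let u₀ : (ξ' : X') → Cyc.secFibre ((Scheme.Modules.pullback f).obj L) ξ' := fun ξ' =>
    pullFibre f L ξ' (Cyc.gysinChoice L s w (f ξ'))
  have hu₀ : ∀ ξ', u₀ ξ' ≠ 0 := fun ξ' => pullFibre_ne_zero f L hL ξ' _ (hvL (f ξ'))
  have hrange : ∀ ξ' : X', ξ' ∉ Set.range ⇑i' → f ξ' ∉ Set.range ⇑i := by
    rintro ξ' hdn ⟨d', hd'⟩
    obtain ⟨z', hz', -⟩ := exists_point hc ξ' d' hd'.symm
    exact hdn ⟨z', hz'⟩
  have hS : ∀ ξ', ξ' ∉ Set.range ⇑i' → ∀ x₀,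
      Cyc.secDivFun δ' ((Scheme.Modules.pullback f).obj L) ξ'
        (Cyc.gysinChoice ((Scheme.Modules.pullback f).obj L) s' w' ξ') x₀ =
      Cyc.secDivFun δ' ((Scheme.Modules.pullback f).obj L) ξ' (u₀ ξ') x₀ := by
    intro ξ' hdn x₀
    show _ = Cyc.secDivFun δ' ((Scheme.Modules.pullback f).obj L) ξ'
      (pullFibre f L ξ' (Cyc.gysinChoice L s w (f ξ'))) x₀
    rw [gysinChoice_of_notMem s' i' hD' w' ξ' hdn,
      gysinChoice_of_notMem s i hD w (f ξ') (hrange ξ' hdn)]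
    unfold Cyc.secDivFun
    by_cases hcc : ξ' ⤳ x₀ ∧ δ' x₀ + 1 = δ' ξ'
    · rw [dif_pos hcc, dif_pos hcc]
      exact Groth.Agent.Lib.Helper18.KF31.secOrdAt_germ_eq_pullFibre δ' hX' hL s hD hc s' hD' x₀ ξ'
        hcc.1 hcc.2 hdn
    · rw [dif_neg hcc, dif_neg hcc]
  have hA := c1Cap_sections_in δ' hX' hND k α' hα'
    (Cyc.gysinChoice ((Scheme.Modules.pullback f).obj L) s' w') u₀ hgC hu₀ (Set.range ⇑i') hS
  have hB := ratEquivZeroIn_comap i' δ' hX' k _ hA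
  -- the cycles
  set Γ₀ := c1CapCycle δ' hX' hND α' u₀ hu₀ with hΓ₀
  set Γ := c1CapCycle δ hX hL (AlgebraicCycle.map f δ' δ α') (Cyc.gysinChoice L s w) hvL with hΓ
  have hpush : AlgebraicCycle.map f δ' δ Γ₀ = Γ :=
    Groth.Agent.Lib.Helper18.PP3.map_c1Cap_pull δ' δ hX' hX f hδ L hL α' (Cyc.gysinChoice L s w)
      hvL Γ₀ rfl Γ rfl
  have hclosed : IsClosed (Set.range ⇑i') := i'.isClosedEmbedding.isClosed_range
  have hΓ₀0 : ∀ x', x' ∉ Set.range ⇑i' → Γ₀ x' = 0 := by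
    intro x' hx'
    have h1 : Cyc.c1CapFun δ' ((Scheme.Modules.pullback f).obj L) ⇑α'
        (Cyc.gysinChoice ((Scheme.Modules.pullback f).obj L) s' w') x' = 0 :=
      c1Cap_gysin_of_notMem δ' hX' hND s' i' hD' w' ⇑α' x' hx'
    by_contra hne
    apply hx'
    refine Groth.Agent.Lib.Helper18.KF34.RatEquivZeroIn.mem_of_ne_zero hclosed hA x' ?_
    show _ - _ ≠ 0
    rw [h1, zero_sub, neg_ne_zero]
    exact hne
  set Γ₀P := Groth.Agent.Lib.Helper18.SubCyc.comapCycle i' Γ₀ with hΓ₀P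
  have hΓ₀eq : Γ₀ = AlgebraicCycle.map i' (fun z => δ' (i' z)) δ' Γ₀P := by
    ext x'
    by_cases hx : x' ∈ Set.range ⇑i'
    · obtain ⟨z, rfl⟩ := hx
      rw [map_apply_of_mem i' δ' Γ₀P z]
      rfl
    · rw [map_apply_of_notMem i' δ' Γ₀P x' hx, hΓ₀0 x' hx]
  have hδg : Cyc.DeltaCompat g (fun z => δ' (i' z)) (fun d => δ (i d)) := by
    refine Groth.Agent.Lib.Helper18.FF8.deltaCompat_cancel g i _ _ δ ?_
      (Groth.Agent.Lib.Helper18.ClImm.deltaCompat i δ)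
    rw [← hc.w]
    exact Groth.Agent.Lib.Helper18.RelCartier.deltaCompat_comp i' f δ' δ hδ
  have hγeq : γ = AlgebraicCycle.map g (fun z => δ' (i' z)) (fun d => δ (i d)) Γ₀P := by
    ext d
    rw [hγ d]
    change Γ (i d) = _
    rw [← map_apply_of_mem i δ (AlgebraicCycle.map g (fun z => δ' (i' z)) (fun d => δ (i d)) Γ₀P) d,
      Groth.Agent.Lib.Helper18.CycMap.map_map g i _ _ δ hδg
        (Groth.Agent.Lib.Helper18.ClImm.deltaCompat i δ) Γ₀P,
      ← map_congr_hom hc.w _ δ Γ₀P,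
      ← Groth.Agent.Lib.Helper18.CycMap.map_map i' f _ δ' δ
        (Groth.Agent.Lib.Helper18.ClImm.deltaCompat i' δ') hδ Γ₀P, ← hΓ₀eq, hpush]
  have hP : Cyc.RatEquivZero (fun z => δ' (i' z)) k (γ' - Γ₀P) := by
    refine RatEquivZeroIn.ratEquivZero (S := Set.univ) ?_
    refine RatEquivZeroIn.congr hB ?_
    intro z
    have e0 : (γ' - Γ₀P) z = γ' z - Γ₀P z := rfl
    rw [e0, hγ' z]
    rfl
  have hPD := Groth.Agent.Lib.Helper18.ClImm.isSetup i' δ' hX'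
  have hDD := Groth.Agent.Lib.Helper18.ClImm.isSetup i δ hX
  have hQ := Groth.Agent.Lib.Helper18.CL11.ratEquivZero_map (fun z => δ' (i' z))
    (fun d => δ (i d)) g hPD hDD hδg k _ hP
  rw [Groth.Agent.Lib.Helper18.CL11.map_sub'] at hQ
  unfold Cyc.RatEquiv
  rw [hγeq]
  exact ratEquivZero_sub_comm hDD _ _ hQ

end Groth.Agent.Lib.Helper18.GP1
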