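import Mathlib
import Groth.Prelude.Def_Cyc
import Groth.Agent.Lib.Helper18.ClImmRat
import Groth.Agent.Lib.Helper18.PullSec2
import Groth.Agent.Lib.Helper18.EX2

/-!
# The exact sequence of Chow groups for a closed cover
-/

set_option autoImplicit false
set_option linter.unusedSectionVars false
set_option linter.style.haveILetI false
universe u
open AlgebraicGeometry CategoryTheory TopologicalSpace

namespace Groth.Agent.Lib.Helper18.MV1

open Groth.Agent.Lib.Helper18.CL10 Groth.Agent.Lib.Helper18.EX2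

theorem finsum_split {I : Type*} (p : I → Prop) (f : I → ℤ) (hf : (Function.support f).Finite) :
    ∑ᶠ i, f i = ∑ᶠ a : {i // p i}, f a + ∑ᶠ b : {i // ¬ p i}, f b := by
  rw [finsum_subtype_eq_finsum_cond p, finsum_subtype_eq_finsum_cond (fun i => ¬ p i)]
  have hd : Disjoint {i | p i} {i | ¬ p i} := by
    rw [Set.disjoint_left]
    intro i h1 h2
    exact h2 h1
  have h := finsum_mem_union' (f := f) (s := {i | p i}) (t := {i | ¬ p i}) hd
    (hf.subset Set.inter_subset_right) (hf.subset Set.inter_subset_right)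
  have hu : {i | p i} ∪ {i | ¬ p i} = Set.univ := by
    ext i
    simp [em]
  rw [hu, finsum_mem_univ] at h
  exact h

section Cycles

variable {X : Scheme.{u}}

/-- a cycle from a function with support inside the support of a cycle -/
noncomputable def ofSub (α : AlgebraicCycle X ℤ) (g : X → ℤ)
    (h : Function.support g ⊆ Function.support α) : AlgebraicCycle X ℤ where
  toFun := g
  supportWithinDomain' := Set.subset_univ _
  supportLocallyFiniteWithinDomain' := fun x hx => by
    obtain ⟨t, ht, hfin⟩ := α.supportLocallyFiniteWithinDomain' x hx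
    exact ⟨t, ht, hfin.subset (Set.inter_subset_inter_right _ h)⟩

variable {D : Scheme.{u}} (i : D ⟶ X) [IsClosedImmersion i]

/-- restriction of a cycle along a closed immersion -/
noncomputable def restrict (α : AlgebraicCycle X ℤ) : AlgebraicCycle D ℤ where
  toFun := fun d => α (i d)
  supportWithinDomain' := Set.subset_univ _
  supportLocallyFiniteWithinDomain' := fun d _ => by
    obtain ⟨t, ht, hfin⟩ := α.supportLocallyFiniteWithinDomain' (i d) trivial
    refine ⟨i ⁻¹' t, i.continuous.continuousAt ht, ?_⟩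
    refine (hfin.preimage i.isClosedEmbedding.injective.injOn).subset ?_
    rintro z ⟨hz1, hz2⟩
    exact ⟨hz1, hz2⟩

theorem restrict_apply (α : AlgebraicCycle X ℤ) (d : D) : restrict i α d = α (i d) := rfl

theorem map_apply_of_mem' (δD : D → ℤ) (δ : X → ℤ) (h : ∀ d, δD d = δ (i d))
    (α : AlgebraicCycle D ℤ) (d : D) : AlgebraicCycle.map i δD δ α (i d) = α d := by
  obtain rfl : δD = fun d => δ (i d) := funext h
  exact Groth.Agent.Lib.Helper18.PullSec.map_apply_of_mem i δ α d

theorem map_apply_of_notMem' (δD : D → ℤ) (δ : X → ℤ) (h : ∀ d, δD d = δ (i d))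
    (α : AlgebraicCycle D ℤ) (x : X) (hx : x ∉ Set.range (i : D → X)) :
    AlgebraicCycle.map i δD δ α x = 0 := by
  obtain rfl : δD = fun d => δ (i d) := funext h
  exact Groth.Agent.Lib.Helper18.PullSec.map_apply_of_notMem i δ α x hx

end Cycles

section Surj

variable {X X₁ X₂ : Scheme.{u}} (i₁ : X₁ ⟶ X) (i₂ : X₂ ⟶ X) [IsClosedImmersion i₁]
  [IsClosedImmersion i₂] (hcov : Set.range i₁ ∪ Set.range i₂ = Set.univ) (δ : X → ℤ)

include hcov in
theorem surj (n : ℤ) (α : AlgebraicCycle X ℤ) (hα : α ∈ Cyc.Zk X δ n) :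
    ∃ (α₁ : AlgebraicCycle X₁ ℤ) (α₂ : AlgebraicCycle X₂ ℤ),
      α₁ ∈ Cyc.Zk X₁ (fun x => δ (i₁ x)) n ∧ α₂ ∈ Cyc.Zk X₂ (fun x => δ (i₂ x)) n ∧
      α = AlgebraicCycle.map i₁ (fun x => δ (i₁ x)) δ α₁ +
        AlgebraicCycle.map i₂ (fun x => δ (i₂ x)) δ α₂ := by
  classical
  let g : X → ℤ := fun x => if x ∈ Set.range i₁ then 0 else α x
  have hg : Function.support g ⊆ Function.support α := by
    intro x hx
    simp only [Function.mem_support, g] at hx ⊢
    split_ifs at hx with h
    · exact absurd rfl hx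
    · exact hx
  let α' := ofSub α g hg
  refine ⟨restrict i₁ α, restrict i₂ α', ?_, ?_, ?_⟩
  · intro w hw
    exact hα (i₁ w) hw
  · intro w hw
    change g (i₂ w) = 0
    simp only [g]
    split_ifs
    · rfl
    · exact hα (i₂ w) hw
  · ext x
    change α x = (AlgebraicCycle.map i₁ (fun x => δ (i₁ x)) δ (restrict i₁ α)) x +
      (AlgebraicCycle.map i₂ (fun x => δ (i₂ x)) δ (restrict i₂ α')) x
    by_cases h1 : x ∈ Set.range i₁
    · obtain ⟨w, rfl⟩ := h1
      rw [Groth.Agent.Lib.Helper18.PullSec.map_apply_of_mem i₁ δ _ w, restrict_apply]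
      by_cases h2 : i₁ w ∈ Set.range i₂
      · obtain ⟨v, hv⟩ := h2
        rw [← hv, Groth.Agent.Lib.Helper18.PullSec.map_apply_of_mem i₂ δ _ v, restrict_apply]
        change _ = _ + g (i₂ v)
        simp only [g]
        rw [if_pos ⟨w, hv.symm⟩, add_zero]
      · rw [Groth.Agent.Lib.Helper18.PullSec.map_apply_of_notMem i₂ δ _ _ h2, add_zero]
    · have h2 : x ∈ Set.range i₂ := by
        have : x ∈ Set.range i₁ ∪ Set.range i₂ := by rw [hcov]; trivial
        exact this.resolve_left h1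
      obtain ⟨v, rfl⟩ := h2
      rw [Groth.Agent.Lib.Helper18.PullSec.map_apply_of_notMem i₁ δ _ _ h1, zero_add,
        Groth.Agent.Lib.Helper18.PullSec.map_apply_of_mem i₂ δ _ v, restrict_apply]
      change _ = g (i₂ v)
      simp only [g]
      rw [if_neg h1]

end Surj

section Part

variable {X D : Scheme.{u}} (i : D ⟶ X) [IsClosedImmersion i] (δ : X → ℤ) (hX : Cyc.IsSetup X δ)

include hX in
/-- the part of a locally finite family of principal divisors living on a closed subscheme -/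
theorem exists_part {I : Type u} (ξ : I → X) (r : (a : I) → X.residueField (ξ a))
    (hr : ∀ a, r a ≠ 0) (n : ℤ) (hδξ : ∀ a, δ (ξ a) = n + 1)
    (hlf : ∀ x : X, ∃ U : Set X, IsOpen U ∧ x ∈ U ∧ {a | (closure {ξ a} ∩ U).Nonempty}.Finite)
    (hmem : ∀ a, ξ a ∈ Set.range i) :
    ∃ ε : AlgebraicCycle D ℤ, Cyc.RatEquivZero (fun d => δ (i d)) n ε ∧
      ∀ x : X, (AlgebraicCycle.map i (fun d => δ (i d)) δ ε) x =
        ∑ᶠ a, Cyc.divFun δ (ξ a) (r a) x := by
  classical
  choose ζ hζ using hmem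
  let r₀ : (a : I) → X.residueField (i (ζ a)) := fun a =>
    (X.residueFieldCongr (hζ a).symm).hom (r a)
  let r' : (a : I) → D.residueField (ζ a) := fun a => (i.residueFieldMap (ζ a)).hom (r₀ a)
  have hr₀ : ∀ a, r₀ a ≠ 0 := fun a => (map_ne_zero_iff _ (RingHom.injective _)).mpr (hr a)
  have hr' : ∀ a, r' a ≠ 0 := fun a => (map_ne_zero_iff _ (RingHom.injective _)).mpr (hr₀ a)
  have hD := Groth.Agent.Lib.Helper18.ClImm.isSetup i δ hX
  have hlf' : ∀ w : D, ∃ U : Set D, IsOpen U ∧ w ∈ U ∧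
      {a | (closure {ζ a} ∩ U).Nonempty}.Finite := by
    intro w
    obtain ⟨U, hU, hwU, hfin⟩ := hlf (i w)
    refine ⟨i ⁻¹' U, hU.preimage i.continuous, hwU, hfin.subset ?_⟩
    rintro a ⟨z, hz1, hz2⟩
    refine ⟨i z, ?_, hz2⟩
    have h2 := image_closure_subset_closure_image i.continuous ⟨z, hz1, rfl⟩
    rw [Set.image_singleton, hζ a] at h2
    exact h2
  have hcongr : ∀ a, Cyc.divFun δ (ξ a) (r a) = Cyc.divFun δ (i (ζ a)) (r₀ a) := fun a =>
    divFun_congr δ (i (ζ a)) (ξ a) (hζ a).symm (r a)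
  refine ⟨ratCycle (fun d => δ (i d)) hD ζ r' hr' hlf',
    ratCycle_ratEquivZero _ hD ζ r' hr' hlf' n (fun a => by
      change δ (i (ζ a)) = n + 1
      rw [hζ a, hδξ a]), ?_⟩
  intro x
  by_cases hx : x ∈ Set.range i
  · obtain ⟨w, rfl⟩ := hx
    rw [Groth.Agent.Lib.Helper18.PullSec.map_apply_of_mem i δ _ w, ratCycle_apply]
    apply finsum_congr
    intro a
    rw [hcongr a]
    exact Groth.Agent.Lib.Helper18.ClImm.divFun_eq i δ hX w (ζ a) (r₀ a)
  · rw [Groth.Agent.Lib.Helper18.PullSec.map_apply_of_notMem i δ _ x hx]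
    symm
    apply finsum_eq_zero_of_forall_eq_zero
    intro a
    rw [hcongr a]
    exact Groth.Agent.Lib.Helper18.ClImm.divFun_eq_zero_of_notMem_range i δ (ζ a) (r₀ a) x hx

end Part

end Groth.Agent.Lib.Helper18.MV1
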