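import Mathlib
import Groth.Prelude.Def_Cyc
import Groth.Agent.Lib.Helper18.AB5
import Groth.Agent.Lib.Helper18.FF2
import Groth.Agent.Lib.Helper18.KF27
import Groth.Agent.Lib.Helper18.MV1
import Groth.Agent.Lib.Helper18.FlatPullC1
import Groth.Agent.Lib.Helper18.RelDimShift
import Groth.Agent.Lib.Helper18.GP1
import Groth.Agent.S1855
import Groth.Agent.S1856
import Groth.Agent.S1857

/-!
# Affine bundles, part 7: composition and transport along isomorphisms
-/

set_option autoImplicit false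
set_option linter.unusedSectionVars false
set_option linter.style.haveILetI false
universe u
open AlgebraicGeometry CategoryTheory TopologicalSpace

namespace Groth.Agent.Lib.Helper18.AB7

open Groth.Agent.Lib.Helper18.AB5 Groth.Agent.Lib.Helper18.KF16 Groth.Agent.Lib.Helper18.KF18
  Groth.Agent.Lib.Helper18.KF27

section RatEquiv

variable {X : Scheme.{u}} {δ : X → ℤ} (hX : Cyc.IsSetup X δ) {k : ℤ}

theorem ratEquivZeroIn_univ (a : AlgebraicCycle X ℤ) (h : Cyc.RatEquivZero δ k a) :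
    RatEquivZeroIn Set.univ δ k ⇑a := by
  obtain ⟨ι, ξ, f, h1, h2, h3, h4⟩ := h
  exact ⟨ι, ξ, f, h1, h2, h3, h4, fun _ => trivial⟩

include hX in
theorem ratEquiv_trans (a b c : AlgebraicCycle X ℤ) (h1 : Cyc.RatEquiv δ k a b)
    (h2 : Cyc.RatEquiv δ k b c) : Cyc.RatEquiv δ k a c := by
  unfold Cyc.RatEquiv at *
  refine RatEquivZeroIn.ratEquivZero (S := Set.univ) (RatEquivZeroIn.congr
    (RatEquivZeroIn.add (ratEquivZeroIn_univ _ h1) (ratEquivZeroIn_univ _ h2)) ?_)
  intro x
  change a x - c x = (a x - b x) + (b x - c x)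
  ring

include hX in
theorem ratEquiv_symm (a b : AlgebraicCycle X ℤ) (h1 : Cyc.RatEquiv δ k a b) :
    Cyc.RatEquiv δ k b a :=
  Groth.Agent.Lib.Helper18.GP1.ratEquivZero_sub_comm hX a b h1

end RatEquiv

section MultN

/-- length of a quotient is invariant under ring isomorphisms -/
theorem length_quot_map_of_bijective {B₀ B : Type u} [CommRing B₀] [CommRing B] (σ : B₀ →+* B)
    (hσ : Function.Bijective σ) (J : Ideal B₀) :
    Module.length B (B ⧸ J.map σ) = Module.length B₀ (B₀ ⧸ J) := by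
  symm
  have hle : J ≤ (J.map σ).comap σ := Ideal.le_comap_map
  have hge : (J.map σ).comap σ ≤ J := by
    intro x hx
    rw [Ideal.mem_comap] at hx
    obtain ⟨y, hy, hyx⟩ := (Ideal.mem_map_iff_of_surjective σ hσ.2).mp hx
    rwa [← hσ.1 hyx]
  have hinj : Function.Injective (Ideal.quotientMap (J.map σ) σ hle) :=
    Ideal.quotientMap_injective' (H := hle) hge
  have hsurj : Function.Surjective (Ideal.quotientMap (J.map σ) σ hle) :=
    Ideal.quotientMap_surjective (H := hle) hσ.2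
  refine FF2.length_eq_of_semilinear_bijective σ hσ.2
    (Ideal.quotientMap (J.map σ) σ hle).toAddMonoidHom ⟨hinj, hsurj⟩ ?_
  intro r m
  obtain ⟨m, rfl⟩ := Ideal.Quotient.mk_surjective m
  change Ideal.quotientMap (J.map σ) σ hle (Ideal.Quotient.mk J (r * m)) =
    σ r • Ideal.quotientMap (J.map σ) σ hle (Ideal.Quotient.mk J m)
  rw [Ideal.quotientMap_mk, Ideal.quotientMap_mk, map_mul]
  rfl

theorem map_maximalIdeal_of_bijective {A A' : Type u} [CommRing A] [CommRing A'] [IsLocalRing A]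
    [IsLocalRing A'] (σ : A →+* A') (hσ : Function.Bijective σ) :
    (IsLocalRing.maximalIdeal A).map σ = IsLocalRing.maximalIdeal A' := by
  apply le_antisymm
  · rw [Ideal.map_le_iff_le_comap]
    intro x hx
    rw [Ideal.mem_comap, IsLocalRing.mem_maximalIdeal, mem_nonunits_iff]
    intro hu
    obtain ⟨y, hy⟩ := hu.exists_right_inv
    obtain ⟨z, rfl⟩ := hσ.2 y
    have : x * z = 1 := hσ.1 (by rw [map_mul, hy, map_one])
    exact hx (.of_mul_eq_one _ this)
  · intro y hy
    obtain ⟨x, rfl⟩ := hσ.2 y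
    apply Ideal.mem_map_of_mem
    rw [IsLocalRing.mem_maximalIdeal, mem_nonunits_iff]
    intro hu
    exact hy (hu.map σ)

variable {X X₀ Y Y₀ : Scheme.{u}}

theorem multN_comp_left (a : X ⟶ X₀) [IsOpenImmersion a] (f₀ : X₀ ⟶ Y₀) (x : X) :
    FF6.multN (a ≫ f₀) x = FF6.multN f₀ (a x) := by
  unfold FF6.multN
  congr 1
  have h1 : ((a ≫ f₀).stalkMap x).hom = (a.stalkMap x).hom.comp (f₀.stalkMap (a x)).hom := by
    rw [Scheme.Hom.stalkMap_comp]; rfl
  have h2 : Ideal.map ((a ≫ f₀).stalkMap x).hom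
      (IsLocalRing.maximalIdeal (Y₀.presheaf.stalk ((a ≫ f₀) x))) =
      (Ideal.map (f₀.stalkMap (a x)).hom
        (IsLocalRing.maximalIdeal (Y₀.presheaf.stalk (f₀ (a x))))).map (a.stalkMap x).hom := by
    rw [h1]
    exact (Ideal.map_map (f₀.stalkMap (a x)).hom (a.stalkMap x).hom).symm
  rw [h2]
  exact length_quot_map_of_bijective (a.stalkMap x).hom
    (ConcreteCategory.bijective_of_isIso (a.stalkMap x)) _

theorem multN_comp_right (f : X ⟶ Y) (b : Y ⟶ Y₀) [IsOpenImmersion b] (x : X) :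
    FF6.multN (f ≫ b) x = FF6.multN f x := by
  unfold FF6.multN
  have h1 : ((f ≫ b).stalkMap x).hom = (f.stalkMap x).hom.comp (b.stalkMap (f x)).hom := by
    rw [Scheme.Hom.stalkMap_comp]; rfl
  have h2 : Ideal.map ((f ≫ b).stalkMap x).hom
      (IsLocalRing.maximalIdeal (Y₀.presheaf.stalk ((f ≫ b) x))) =
      Ideal.map (f.stalkMap x).hom (IsLocalRing.maximalIdeal (Y.presheaf.stalk (f x))) := by
    rw [h1]
    refine ((Ideal.map_map (b.stalkMap (f x)).hom (f.stalkMap x).hom).symm).trans ?_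
    congr 1
    exact map_maximalIdeal_of_bijective (b.stalkMap (f x)).hom
      (ConcreteCategory.bijective_of_isIso (b.stalkMap (f x)))
  rw [h2]

theorem multN_congr (c c' : X ⟶ Y) (h : c = c') (x : X) : FF6.multN c x = FF6.multN c' x := by
  subst h; rfl

theorem multN_of_sq (a : X ⟶ X₀) [IsOpenImmersion a] (b : Y ⟶ Y₀) [IsOpenImmersion b]
    (f : X ⟶ Y) (f₀ : X₀ ⟶ Y₀) (hsq : a ≫ f₀ = f ≫ b) (x : X) :
    FF6.multN f x = FF6.multN f₀ (a x) := by
  rw [← multN_comp_left a f₀ x, multN_congr _ _ hsq, multN_comp_right]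

end MultN

end Groth.Agent.Lib.Helper18.AB7
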