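import Mathlib
import Groth.Prelude.Def_Cyc
import Groth.Agent.Lib.Helper18.AB7
import Groth.Agent.Lib.Helper18.C1Indep2
import Groth.Agent.Lib.Helper18.FlatShift

/-!
# Affine bundles, part 8: the pointwise framework with supports
-/

set_option autoImplicit false
set_option linter.unusedSectionVars false
set_option linter.style.haveILetI false
universe u
open AlgebraicGeometry CategoryTheory TopologicalSpace

namespace Groth.Agent.Lib.Helper18.AB8

open Groth.Agent.Lib.Helper18.AB5 Groth.Agent.Lib.Helper18.KF16 Groth.Agent.Lib.Helper18.KF18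
  Groth.Agent.Lib.Helper18.KF27

section Sigma

theorem finsum_sigma {J : Type*} {ι : J → Type*} (H : (Σ j, ι j) → ℤ)
    (hH : (Function.support H).Finite) :
    ∑ᶠ p, H p = ∑ᶠ j, ∑ᶠ i, H ⟨j, i⟩ := by
  classical
  set s := hH.toFinset with hs
  set sJ := s.image Sigma.fst with hsJ
  let t : (j : J) → Finset (ι j) := fun j => s.preimage (Sigma.mk j) sigma_mk_injective.injOn
  have hmem : ∀ p : Σ j, ι j, H p ≠ 0 → p ∈ sJ.sigma t := by
    intro p hp
    have hps : p ∈ s := hH.mem_toFinset.mpr hp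
    rw [Finset.mem_sigma]
    refine ⟨Finset.mem_image_of_mem _ hps, ?_⟩
    rw [Finset.mem_preimage]
    exact hps
  rw [finsum_eq_sum_of_support_subset H (s := sJ.sigma t) (fun p hp => hmem p hp),
    Finset.sum_sigma]
  rw [finsum_eq_sum_of_support_subset (s := sJ)]
  · apply Finset.sum_congr rfl
    intro j _
    symm
    apply finsum_eq_sum_of_support_subset
    intro i hi
    have := hmem ⟨j, i⟩ hi
    rw [Finset.mem_sigma] at this
    exact this.2
  · intro j hj
    rw [Function.mem_support] at hj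
    by_contra hnot
    apply hj
    apply finsum_eq_zero_of_forall_eq_zero
    intro i
    by_contra hne
    have := hmem ⟨j, i⟩ hne
    rw [Finset.mem_sigma] at this
    exact hnot this.1

end Sigma

section Sum

variable {X : Scheme.{u}} {δ : X → ℤ} (hX : Cyc.IsSetup X δ)

theorem ratEquivZeroIn_zero (S : Set X) (k : ℤ) : RatEquivZeroIn S δ k (fun _ => 0) := by
  refine ⟨PEmpty, fun i => i.elim, fun i => i.elim, fun i => i.elim, fun i => i.elim, ?_, ?_,
    fun i => i.elim⟩
  · intro x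
    exact ⟨Set.univ, isOpen_univ, trivial, Set.toFinite _⟩
  · intro x
    rw [finsum_of_isEmpty]

include hX in
/-- a locally finite integral combination of cycles rationally equivalent to zero -/
theorem ratEquivZeroIn_finsum {J : Type u} (S : J → Set X) (hSc : ∀ j, IsClosed (S j))
    (hSlf : ∀ p : X, ∃ U : Set X, IsOpen U ∧ p ∈ U ∧ {j | (S j ∩ U).Nonempty}.Finite)
    (k : ℤ) (n : J → ℤ) (A : J → X → ℤ) (hA : ∀ j, RatEquivZeroIn (S j) δ k (A j))
    (T : Set X) (hT : ∀ j, S j ⊆ T) :
    RatEquivZeroIn T δ k (fun z => ∑ᶠ j, n j * A j z) := by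
  classical
  choose ι ξ g h1 h2 h3 h4 h5 using hA
  have hcl : ∀ j i, closure {ξ j i} ⊆ S j := fun j i =>
    closure_minimal (Set.singleton_subset_iff.mpr (h5 j i)) (hSc j)
  have hlf : ∀ x : X, ∃ U : Set X, IsOpen U ∧ x ∈ U ∧
      {p : Σ j, ι j | (closure {ξ p.1 p.2} ∩ U).Nonempty}.Finite := by
    intro p₀
    obtain ⟨U₀, hU₀, hpU₀, hF₀⟩ := hSlf p₀
    choose U hU hpU hfin using fun j => h3 j p₀
    refine ⟨U₀ ∩ ⋂ j ∈ {j | (S j ∩ U₀).Nonempty}, U j,
      hU₀.inter (hF₀.isOpen_biInter (fun j _ => hU j)),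
      ⟨hpU₀, Set.mem_iInter₂.mpr (fun j _ => hpU j)⟩, ?_⟩
    refine (hF₀.biUnion (fun j _ => (hfin j).image (Sigma.mk j))).subset ?_
    rintro ⟨j, i⟩ ⟨z, hz, hzU⟩
    have hj : j ∈ {j | (S j ∩ U₀).Nonempty} := ⟨z, hcl j i hz, hzU.1⟩
    refine Set.mem_biUnion hj ⟨i, ⟨z, hz, ?_⟩, rfl⟩
    exact Set.mem_iInter₂.mp hzU.2 j hj
  refine ⟨Σ j, ι j, fun p => ξ p.1 p.2, fun p => (g p.1 p.2) ^ (n p.1), fun p => h1 p.1 p.2,
    fun p => zpow_ne_zero _ (h2 p.1 p.2), hlf, ?_, fun p => hT p.1 (h5 p.1 p.2)⟩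
  intro z
  have hterm : ∀ p : Σ j, ι j, Cyc.divFun δ (ξ p.1 p.2) ((g p.1 p.2) ^ (n p.1)) z =
      n p.1 * Cyc.divFun δ (ξ p.1 p.2) (g p.1 p.2) z := fun p =>
    Groth.Agent.Lib.Helper18.C1Indep.divFun_zpow δ hX _ _ (h2 p.1 p.2) _ z
  rw [finsum_congr hterm]
  have hfin : (Function.support fun p : Σ j, ι j =>
      n p.1 * Cyc.divFun δ (ξ p.1 p.2) (g p.1 p.2) z).Finite := by
    obtain ⟨U, -, hzU, hfinU⟩ := hlf z
    refine hfinU.subset ?_
    intro p hp
    rw [Function.mem_support] at hp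
    have hne : Cyc.divFun δ (ξ p.1 p.2) (g p.1 p.2) z ≠ 0 := right_ne_zero_of_mul hp
    obtain ⟨hc, -⟩ := Groth.Agent.Lib.Helper18.KF12.divFun_ne_zero δ hne
    exact ⟨z, specializes_iff_mem_closure.mp hc.1, hzU⟩
  rw [finsum_sigma _ hfin]
  apply finsum_congr
  intro j
  rw [h4 j z, mul_finsum]

end Sum

section Good

variable {X Y : Scheme.{u}} (f : X ⟶ Y) (δX : X → ℤ) (δY : Y → ℤ) (r : ℕ)

open Classical in
/-- the characteristic function of a point -/
noncomputable def pt (x : X) : X → ℤ := fun z => if z = x then 1 else 0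

theorem pt_self (x : X) : pt x x = 1 := by
  unfold pt; rw [if_pos rfl]

theorem pt_ne {x z : X} (h : z ≠ x) : pt x z = 0 := by
  unfold pt; rw [if_neg h]

theorem pt_ne_zero {x z : X} (h : pt x z ≠ 0) : z = x := by
  by_contra hne
  exact h (pt_ne hne)

/-- a point, as a cycle -/
noncomputable def ptCycle (x : X) : AlgebraicCycle X ℤ where
  toFun := pt x
  supportWithinDomain' := Set.subset_univ _
  supportLocallyFiniteWithinDomain' := fun z _ =>
    ⟨Set.univ, Filter.univ_mem, (Set.finite_singleton x).subset (by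
      rintro z ⟨-, hz⟩
      exact pt_ne_zero hz)⟩

theorem ptCycle_apply (x z : X) : ptCycle x z = pt x z := rfl

/-- the point `x` is, modulo rational equivalence inside the preimage of the closure of its image,
the flat pullback of a cycle supported on the closure of its image -/
def Good (x : X) : Prop :=
  ∃ α : AlgebraicCycle Y ℤ, α ∈ Cyc.Zk Y δY (δX x - r) ∧ (∀ y, α y ≠ 0 → f x ⤳ y) ∧
    RatEquivZeroIn (f ⁻¹' closure {f x}) δX (δX x)
      (fun z => pt x z - Cyc.pullFun f δX δY r ⇑α z)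

variable {f δX δY r}

theorem pullFun_ne_zero' (α : Y → ℤ) (z : X) (h : Cyc.pullFun f δX δY r α z ≠ 0) :
    δX z = δY (f z) + r ∧ α (f z) ≠ 0 := by
  rw [FF6.pullFun_eq] at h
  by_cases hd : δX z = δY (f z) + r
  · rw [if_pos hd] at h
    exact ⟨hd, left_ne_zero_of_mul h⟩
  · rw [if_neg hd] at h
    exact absurd rfl h

theorem finite_fibre_support [QuasiCompact f] (β : AlgebraicCycle X ℤ) {V : Y.Opens}
    (hV : IsAffineOpen V) : {j : {x : X // β x ≠ 0} | f j.1 ∈ V}.Finite := by
  have hK : IsCompact (f ⁻¹' (V : Set Y)) :=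
    QuasiCompact.isCompact_preimage (f := f) _ V.2 hV.isCompact
  refine ((finite_inter_support β _ hK).preimage
    (Set.injOn_of_injective Subtype.val_injective)).subset ?_
  intro j hj
  exact ⟨hj, j.2⟩

/-- **gluing**: a cycle all of whose points are good is good -/
theorem glue [QuasiCompact f] (hX : Cyc.IsSetup X δX) (m : ℤ) (β : AlgebraicCycle X ℤ)
    (hβ : β ∈ Cyc.Zk X δX m) (T : Set Y) (hT : ∀ x, β x ≠ 0 → closure {f x} ⊆ T)
    (hg : ∀ x, β x ≠ 0 → Good f δX δY r x) :
    ∃ α : AlgebraicCycle Y ℤ, α ∈ Cyc.Zk Y δY (m - r) ∧ (∀ y, α y ≠ 0 → y ∈ T) ∧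
      RatEquivZeroIn (f ⁻¹' T) δX m (fun z => β z - Cyc.pullFun f δX δY r ⇑α z) := by
  classical
  let J := {x : X // β x ≠ 0}
  have hm : ∀ j : J, δX j.1 = m := by
    intro j
    by_contra hne
    exact j.2 (hβ j.1 hne)
  choose α hαZ hαs hαR using fun j : J => hg j.1 j.2
  have hfinV : ∀ {V : Y.Opens}, IsAffineOpen V → {j : J | f j.1 ∈ V}.Finite :=
    fun hV => finite_fibre_support β hV
  let αfun : Y → ℤ := fun y => ∑ᶠ j : J, β j.1 * α j y
  have hsuppα : ∀ y, αfun y ≠ 0 → ∃ j : J, α j y ≠ 0 := by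
    intro y hy
    by_contra hall
    push Not at hall
    apply hy
    apply finsum_eq_zero_of_forall_eq_zero
    intro j
    rw [hall j, mul_zero]
  let αC : AlgebraicCycle Y ℤ :=
    { toFun := αfun
      supportWithinDomain' := Set.subset_univ _
      supportLocallyFiniteWithinDomain' := fun y₀ _ => by
        obtain ⟨V, hV, hyV, -⟩ := exists_isAffineOpen_mem_and_subset (x := y₀) (U := ⊤) trivial
        refine ⟨V, V.2.mem_nhds hyV, ?_⟩
        refine ((hfinV hV).biUnion (fun j _ =>
          finite_inter_support (α j) _ hV.isCompact)).subset ?_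
        rintro y ⟨hyV', hy⟩
        obtain ⟨j, hj⟩ := hsuppα y hy
        have hsp := hαs j y hj
        exact Set.mem_biUnion (x := j) (hsp.mem_open V.2 hyV') ⟨hyV', hj⟩ }
  have hαC : ∀ y, αC y = ∑ᶠ j : J, β j.1 * α j y := fun _ => rfl
  refine ⟨αC, ?_, ?_, ?_⟩
  · intro y hy
    rw [hαC]
    apply finsum_eq_zero_of_forall_eq_zero
    intro j
    rw [hαZ j y (by rw [hm j]; exact hy), mul_zero]
  · intro y hy
    obtain ⟨j, hj⟩ := hsuppα y hy
    exact hT j.1 j.2 (specializes_iff_mem_closure.mp (hαs j y hj))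
  · have hA : ∀ j : J, RatEquivZeroIn (f ⁻¹' closure {f j.1}) δX m
        (fun z => pt j.1 z - Cyc.pullFun f δX δY r ⇑(α j) z) := by
      intro j
      have := hαR j
      rwa [hm j] at this
    have hsum := ratEquivZeroIn_finsum hX (fun j : J => f ⁻¹' closure {f j.1})
      (fun j => isClosed_closure.preimage f.continuous) ?_ m (fun j => β j.1) _ hA
      (f ⁻¹' T) (fun j => Set.preimage_mono (hT j.1 j.2))
    · refine RatEquivZeroIn.congr hsum ?_
      intro z
      obtain ⟨V, hV, hzV, -⟩ := exists_isAffineOpen_mem_and_subset (x := f z) (U := ⊤) trivial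
      have hfin1 : (Function.support fun j : J => β j.1 * pt j.1 z).Finite := by
        refine (Set.finite_singleton z).preimage
          (Set.injOn_of_injective Subtype.val_injective) |>.subset ?_
        intro j hj
        rw [Function.mem_support] at hj
        exact (pt_ne_zero (right_ne_zero_of_mul hj)).symm
      have hfin2 : (Function.support fun j : J =>
          β j.1 * Cyc.pullFun f δX δY r ⇑(α j) z).Finite := by
        refine (hfinV hV).subset ?_
        intro j hj
        rw [Function.mem_support] at hj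
        have h1 := (pullFun_ne_zero' ⇑(α j) z (right_ne_zero_of_mul hj)).2
        exact (hαs j _ h1).mem_open V.2 hzV
      have e1 : ∑ᶠ j : J, β j.1 * pt j.1 z = β z := by
        by_cases hb : β z = 0
        · rw [hb]
          apply finsum_eq_zero_of_forall_eq_zero
          intro j
          by_cases hjz : z = j.1
          · rw [← hjz, hb, zero_mul]
          · rw [pt_ne hjz, mul_zero]
        · rw [finsum_eq_single _ (⟨z, hb⟩ : J)]
          · rw [pt_self, mul_one]
          · intro j hj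
            rw [pt_ne, mul_zero]
            intro e
            exact hj (Subtype.ext e.symm)
      have e2 : ∑ᶠ j : J, β j.1 * Cyc.pullFun f δX δY r ⇑(α j) z =
          Cyc.pullFun f δX δY r ⇑αC z := by
        rw [FF6.pullFun_eq]
        by_cases hc : δX z = δY (f z) + r
        · rw [if_pos hc, hαC, finsum_mul]
          apply finsum_congr
          intro j
          rw [FF6.pullFun_eq, if_pos hc, mul_assoc]
        · rw [if_neg hc]
          apply finsum_eq_zero_of_forall_eq_zero
          intro j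
          rw [FF6.pullFun_eq, if_neg hc, mul_zero]
      change β z - Cyc.pullFun f δX δY r ⇑αC z =
        ∑ᶠ j : J, β j.1 * (pt j.1 z - Cyc.pullFun f δX δY r ⇑(α j) z)
      rw [← e1, ← e2, ← finsum_sub_distrib hfin1 hfin2]
      apply finsum_congr
      intro j
      ring
    · intro p
      obtain ⟨V, hV, hpV, -⟩ := exists_isAffineOpen_mem_and_subset (x := f p) (U := ⊤) trivial
      refine ⟨f ⁻¹' (V : Set Y), V.2.preimage f.continuous, hpV, (hfinV hV).subset ?_⟩
      rintro j ⟨z, hz1, hz2⟩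
      have hsp : f j.1 ⤳ f z := specializes_iff_mem_closure.mpr hz1
      exact hsp.mem_open V.2 hz2

/-- if all points are good then flat pullback is surjective modulo rational equivalence -/
theorem surj_of_good [QuasiCompact f] [Flat f] [LocallyOfFiniteType f] (hX : Cyc.IsSetup X δX)
    (hr : Cyc.HasRelDim f r) (hδ : Cyc.DeltaCompat f δX δY)
    (hg : ∀ x, Good f δX δY r x) : Surj f δX δY r := by
  intro k β hβ
  obtain ⟨α, hαZ, -, hR⟩ := glue hX (k + r) β hβ Set.univ (fun _ _ => Set.subset_univ _)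
    (fun x _ => hg x)
  have hc : ∀ x : X, (∀ y, f y = f x → y ⤳ x → y = x) → δX x = δY (f x) + (r : ℤ) :=
    fun x hmax => RelDimShift.shift_of_hasRelDim f δX δY r hr hδ x hmax
  refine ⟨α, FlatPullC1.pullCycle f δY δX hX r hc α, ?_, rfl, ?_⟩
  · rwa [add_sub_cancel_right] at hαZ
  · exact RatEquivZeroIn.ratEquivZero (S := f ⁻¹' Set.univ)
      (α := β - FlatPullC1.pullCycle f δY δX hX r hc α) (RatEquivZeroIn.congr hR (fun z => rfl))

/-- a cycle supported at generic points of fibres is a flat pullback (with the formula) -/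
theorem exists_pull' (hX : Cyc.IsSetup X δX) (D : FibData f δX δY r) [QuasiCompact f] (k : ℤ)
    (β : AlgebraicCycle X ℤ)
    (hβ : β ∈ Cyc.Zk X δX (k + r)) (hsupp : ∀ x, β x ≠ 0 → x = D.gp (f x)) :
    ∃ α : AlgebraicCycle Y ℤ, α ∈ Cyc.Zk Y δY k ∧ ⇑β = Cyc.pullFun f δX δY r ⇑α ∧
      ∀ y, α y = β (D.gp y) := by
  classical
  let α : AlgebraicCycle Y ℤ :=
    { toFun := fun y => β (D.gp y)
      supportWithinDomain' := Set.subset_univ _
      supportLocallyFiniteWithinDomain' := fun y₀ _ => by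
        obtain ⟨V, hV, hyV, -⟩ := exists_isAffineOpen_mem_and_subset (x := y₀) (U := ⊤) trivial
        refine ⟨V, V.2.mem_nhds hyV, ?_⟩
        have hK : IsCompact (f ⁻¹' (V : Set Y)) :=
          QuasiCompact.isCompact_preimage (f := f) _ V.2 hV.isCompact
        refine ((finite_inter_support β _ hK).image f).subset ?_
        rintro y ⟨hyV', hy⟩
        refine ⟨D.gp y, ⟨?_, hy⟩, D.f_gp y⟩
        change f (D.gp y) ∈ V
        rw [D.f_gp]; exact hyV' }
  have hα : ∀ y, α y = β (D.gp y) := fun _ => rfl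
  refine ⟨α, ?_, ?_, hα⟩
  · intro y hy
    rw [hα]
    apply hβ
    rw [D.delta]
    omega
  · funext x
    rw [D.pullFun_eq hX]
    by_cases h : x = D.gp (f x)
    · rw [if_pos h, hα, ← h]
    · rw [if_neg h]
      by_contra hne
      exact h (hsupp x hne)

/-- generic points of fibres are good -/
theorem good_generic (hX : Cyc.IsSetup X δX) (D : FibData f δX δY r) (x : X)
    (hx : x = D.gp (f x)) : Good f δX δY r x := by
  classical
  refine ⟨ptCycle (f x), ?_, ?_, ?_⟩
  · intro y hy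
    rw [ptCycle_apply]
    apply pt_ne
    intro e
    apply hy
    have := D.delta (f x)
    rw [← hx] at this
    rw [e, this]; ring
  · intro y hy
    rw [ptCycle_apply] at hy
    rw [pt_ne_zero hy]
  · refine RatEquivZeroIn.congr (ratEquivZeroIn_zero _ _) ?_
    intro z
    change pt x z - Cyc.pullFun f δX δY r ⇑(ptCycle (f x)) z = 0
    rw [D.pullFun_eq hX, ptCycle_apply]
    by_cases hz : z = x
    · rw [hz, pt_self, if_pos hx, pt_self, sub_self]
    · rw [pt_ne hz]
      by_cases h1 : z = D.gp (f z)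
      · rw [if_pos h1, pt_ne, sub_zero]
        intro e
        apply hz
        rw [h1, e, ← hx]
      · rw [if_neg h1, sub_zero]

open Classical in
/-- the affine line case, pointwise -/
theorem good_of_lemmaL (hX : Cyc.IsSetup X δX) (D : FibData f δX δY 1) (hY : Cyc.IsSetup Y δY)
    (hδ : Cyc.DeltaCompat f δX δY) [QuasiCompact f] (x : X) (hne : x ≠ D.gp (f x))
    (g : X.residueField (D.gp (f x))) (hg0 : g ≠ 0)
    (hord : ∀ (x'' : X) (h : D.gp (f x) ⤳ x''), f x'' = f x → x'' ≠ D.gp (f x) →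
        δX x'' + 1 = δX (D.gp (f x)) →
        Cyc.ordAt x'' (D.gp (f x)) h g = (if x'' = x then 1 else 0 : ℤ)) :
    Good f δX δY 1 x := by
  classical
  have hdim : ∀ z, z ≠ D.gp (f z) → δY (f z) = δX z := by
    intro z hz
    have h1 := (hX.2.2 _ _ (D.spec z) (fun e => hz e.symm)).1
    rw [D.delta] at h1
    obtain ⟨n, -, hn⟩ := hδ z
    have : (0 : ℤ) ≤ n := Int.natCast_nonneg n
    push_cast at h1
    omega
  have hξδ : δX (D.gp (f x)) = δX x + 1 := by
    rw [D.delta, hdim x hne]; push_cast; ring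
  have hlf : ∀ p : X, ∃ U : Set X, IsOpen U ∧ p ∈ U ∧
      {i : PUnit.{u+1} | (closure {D.gp (f x)} ∩ U).Nonempty}.Finite :=
    fun p => ⟨Set.univ, isOpen_univ, trivial, Set.toFinite _⟩
  let ρ := EX2.ratCycle δX hX (fun _ : PUnit.{u+1} => D.gp (f x)) (fun _ => g) (fun _ => hg0) hlf
  have hρ : ∀ z, ρ z = Cyc.divFun δX (D.gp (f x)) g z := by
    intro z
    rw [EX2.ratCycle_apply, finsum_unique]
  have hρ0 : Cyc.RatEquivZero δX (δX x) ρ :=
    EX2.ratCycle_ratEquivZero δX hX _ _ _ hlf (δX x) (fun _ => hξδ)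
  have hρZ : ρ ∈ Cyc.Zk X δX (δX x) := EX2.mem_Zk_of_ratEquivZero δX (δX x) ρ hρ0
  let β : AlgebraicCycle X ℤ := ptCycle x - ρ
  have hβ : ∀ z, β z = pt x z - ρ z := fun _ => rfl
  have hβZ : β ∈ Cyc.Zk X δX (δX x - ((1 : ℕ) : ℤ) + ((1 : ℕ) : ℤ)) := by
    rw [sub_add_cancel]
    intro z hz
    rw [hβ, hρZ z hz, pt_ne, sub_zero]
    intro e
    exact hz (by rw [e])
  have hsupp : ∀ z, β z ≠ 0 → z = D.gp (f z) := by
    intro z hz
    by_contra hne'
    apply hz
    rw [hβ, hρ]
    unfold Cyc.divFun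
    by_cases hc : D.gp (f x) ⤳ z ∧ δX z + 1 = δX (D.gp (f x))
    · rw [dif_pos hc]
      have hsp : f x ⤳ f z := by
        have := hc.1.map f.continuous
        rwa [D.f_gp] at this
      have hfz : f z = f x := by
        by_contra hne2
        have := (hY.2.2 _ _ hsp (fun e => hne2 e.symm)).1
        rw [hdim z hne', hdim x hne] at this
        omega
      have hzξ : z ≠ D.gp (f x) := by rw [← hfz]; exact hne'
      rw [hord z hc.1 hfz hzξ hc.2]
      unfold pt
      rw [sub_self]
    · rw [dif_neg hc, sub_zero]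
      apply pt_ne
      intro e
      apply hc
      rw [e]
      exact ⟨D.spec x, by rw [hξδ]⟩
  obtain ⟨α, hαZ, hpull, hα⟩ := exists_pull' hX D (δX x - ((1 : ℕ) : ℤ)) β hβZ hsupp
  refine ⟨α, hαZ, ?_, ?_⟩
  · intro y hy
    rw [hα, hβ] at hy
    by_cases h1 : pt x (D.gp y) ≠ 0
    · have := pt_ne_zero h1
      rw [← this, D.f_gp]
    · push Not at h1
      rw [h1, zero_sub, neg_ne_zero, hρ] at hy
      obtain ⟨hc, -⟩ := Groth.Agent.Lib.Helper18.KF12.divFun_ne_zero δX hy
      have := hc.1.map f.continuous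
      rwa [D.f_gp, D.f_gp] at this
  · refine RatEquivZeroIn.congr (A := fun z => ρ z) ?_ ?_
    · refine ⟨PUnit.{u+1}, fun _ => D.gp (f x), fun _ => g, fun _ => hξδ, fun _ => hg0, hlf,
        fun z => rfl, fun _ => ?_⟩
      change f (D.gp (f x)) ∈ closure {f x}
      rw [D.f_gp]
      exact subset_closure rfl
    · intro z
      change pt x z - Cyc.pullFun f δX δY ((1 : ℕ) : ℤ) ⇑α z = ρ z
      rw [← hpull, hβ]
      ring

end Good

end Groth.Agent.Lib.Helper18.AB8
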