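import Mathlib
import Groth.Prelude.Def_Cyc
import Groth.Agent.Lib.Helper18.AB8
import Groth.Agent.Lib.Helper18.FlatPullRat
import Groth.Agent.S1857

/-!
# Affine bundles, part 9: flat pullback with supports, composition
-/

set_option autoImplicit false
set_option linter.unusedSectionVars false
set_option linter.style.haveILetI false
universe u
open AlgebraicGeometry CategoryTheory TopologicalSpace

namespace Groth.Agent.Lib.Helper18.AB9

open Groth.Agent.Lib.Helper18.AB5 Groth.Agent.Lib.Helper18.KF16 Groth.Agent.Lib.Helper18.KF18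
  Groth.Agent.Lib.Helper18.KF27 Groth.Agent.Lib.Helper18.AB8
  Groth.Agent.Lib.Helper18.FlatPullDiv Groth.Agent.Lib.Helper18.FlatPullRat

section Pull

variable {X' X : Scheme.{u}} (p : X' ⟶ X) [Flat p]

theorem ratEquivZeroIn_pull (δ : X → ℤ) (δ' : X' → ℤ) (hX : Cyc.IsSetup X δ)
    (hX' : Cyc.IsSetup X' δ') (c : ℤ)
    (hc : ∀ x' : X', (∀ y, p y = p x' → y ⤳ x' → y = x') → δ' x' = δ (p x') + c)
    (k : ℤ) (S : Set X) (α : X → ℤ) (h0 : RatEquivZeroIn S δ k α) :
    RatEquivZeroIn (p ⁻¹' S) δ' (k + c) (Cyc.pullFun p δ' δ c α) := by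
  classical
  haveI : IsLocallyNoetherian X' := hX'.1
  obtain ⟨I, ξ, f, hδξ, hf, hlf, hsum, hS⟩ := h0
  let g : I → (η : X) → X.residueField η := fun i η => if h : ξ i = η then h ▸ f i else 1
  have hgi : ∀ i, g i (ξ i) = f i := by
    intro i
    simp only [g, dif_pos rfl]
  have hgne : ∀ (i : I) (ξ' : X'), p ξ' = ξ i → g i (p ξ') ≠ 0 := by
    intro i ξ' hp
    rw [hp, hgi]
    exact hf i
  let F : (ab : I × X') → X'.residueField ab.2 := fun ab =>
    ((p.residueFieldMap ab.2).hom (g ab.1 (p ab.2))) ^ (mult p ab.2)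
  have hgeneric : ∀ (i : I) (ξ' : X'), p ξ' = ξ i → δ' ξ' = δ (ξ i) + c →
      ∀ y, p y = p ξ' → y ⤳ ξ' → y = ξ' := by
    intro i ξ' hp hd
    refine (Groth.Agent.Lib.Helper18.FlatShift.delta_le_of_shift p δ δ' hX'.2.2 c hc ξ').2 ?_
    rw [hp]; exact hd
  -- local finiteness
  have hLF : ∀ x' : X', ∃ U' : X'.Opens, x' ∈ U' ∧
      {ab : I × X' | (p ab.2 = ξ ab.1 ∧ δ' ab.2 = δ (ξ ab.1) + c) ∧ ab.2 ∈ U'}.Finite := by
    intro x'
    obtain ⟨U, hUo, hxU, hfinU⟩ := hlf (p x')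
    obtain ⟨V, U', hV, hU', hU'V, hVU, hxU'⟩ := exists_affine_pair p x' U hUo hxU
    refine ⟨U', hxU', ?_⟩
    have hT : (⋃ i ∈ {i | (closure {ξ i} ∩ U).Nonempty},
        (fun ξ' : X' => ((i, ξ') : I × X')) ''
          {ξ' : X' | ξ' ∈ U' ∧ p ξ' = ξ i ∧ ∀ y, p y = p ξ' → y ⤳ ξ' → y = ξ'}).Finite :=
      hfinU.biUnion (fun i _ =>
        (Groth.Agent.Lib.Helper18.FibreFin.finite_fibre_generic p hU' hV hU'V (ξ i)).image _)
    refine hT.subset ?_
    rintro ⟨i, ξ'⟩ ⟨⟨hp, hd⟩, hξ'U⟩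
    simp only at hp hd hξ'U
    refine Set.mem_biUnion (x := i) ?_ ⟨ξ', ⟨hξ'U, hp, hgeneric i ξ' hp hd⟩, rfl⟩
    refine ⟨ξ i, subset_closure rfl, hVU ?_⟩
    rw [← hp]
    exact hU'V hξ'U
  refine ⟨{ab : I × X' // p ab.2 = ξ ab.1 ∧ δ' ab.2 = δ (ξ ab.1) + c}, fun j => j.1.2,
    fun j => F j.1, ?_, ?_, ?_, ?_, ?_⟩
  · intro j
    have := j.2.2
    rw [hδξ] at this
    simp only at this ⊢
    omega
  · intro j
    exact zpow_ne_zero _ ((map_ne_zero_iff _ (p.residueFieldMap j.1.2).hom.injective).mpr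
      (hgne j.1.1 j.1.2 j.2.1))
  · intro x'
    obtain ⟨U', hxU', hfin⟩ := hLF x'
    refine ⟨U', U'.2, hxU', ?_⟩
    refine Set.Finite.subset (hfin.preimage Subtype.val_injective.injOn) ?_
    rintro j ⟨z, hz, hzU⟩
    exact ⟨j.2, (specializes_iff_mem_closure.mpr hz).mem_open U'.2 hzU⟩
  · intro x'
    rw [pullFun_eq]
    -- step 1: linearity
    have h1 : (if δ' x' = δ (p x') + c then α (p x') * mult p x' else 0) =
        ∑ᶠ i, Cyc.pullFun p δ' δ c (Cyc.divFun δ (ξ i) (g i (ξ i))) x' := by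
      by_cases hδ : δ' x' = δ (p x') + c
      · rw [if_pos hδ, hsum, finsum_mul]
        apply finsum_congr
        intro i
        rw [pullFun_eq, if_pos hδ, hgi]
      · rw [if_neg hδ]
        symm
        apply finsum_eq_zero_of_forall_eq_zero
        intro i
        rw [pullFun_eq, if_neg hδ]
    rw [h1]
    -- step 2: the pullback formula for each divisor
    have h2 : ∀ i, Cyc.pullFun p δ' δ c (Cyc.divFun δ (ξ i) (g i (ξ i))) x' =
        ∑ᶠ ξ' : X', if p ξ' = ξ i ∧ δ' ξ' = δ (ξ i) + c then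
          Cyc.divFun δ' ξ' (F (i, ξ')) x' else 0 := by
      intro i
      rw [pullFun_divFun p δ δ' hX hX' c hc (ξ i) (g i) (by rw [hgi]; exact hf i) x']
      apply finsum_congr
      intro ξ'
      by_cases hcond : p ξ' = ξ i ∧ δ' ξ' = δ (ξ i) + c
      · rw [if_pos hcond, if_pos hcond]
        simp only [F]
        rw [Groth.Agent.Lib.Helper18.C1Indep.divFun_zpow δ' hX' ξ' _
          ((map_ne_zero_iff _ (p.residueFieldMap ξ').hom.injective).mpr (hgne i ξ' hcond.1))]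
      · rw [if_neg hcond, if_neg hcond]
    simp_rw [h2]
    -- step 3: reorganise the double sum
    let H : I × X' → ℤ := fun ab =>
      if p ab.2 = ξ ab.1 ∧ δ' ab.2 = δ (ξ ab.1) + c then Cyc.divFun δ' ab.2 (F ab) x' else 0
    have hHfin : (Function.support H).Finite := by
      obtain ⟨U', hxU', hfin⟩ := hLF x'
      refine hfin.subset ?_
      intro ab hab
      rw [Function.mem_support] at hab
      simp only [H] at hab
      by_cases hcond : p ab.2 = ξ ab.1 ∧ δ' ab.2 = δ (ξ ab.1) + c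
      · rw [if_pos hcond] at hab
        refine ⟨hcond, ?_⟩
        have hsp : ab.2 ⤳ x' := by
          by_contra hns
          apply hab
          unfold Cyc.divFun
          rw [dif_neg (fun hh => hns hh.1)]
        exact hsp.mem_open U'.2 hxU'
      · rw [if_neg hcond] at hab
        exact absurd rfl hab
    have h3 : (∑ᶠ i, ∑ᶠ ξ' : X', if p ξ' = ξ i ∧ δ' ξ' = δ (ξ i) + c then
          Cyc.divFun δ' ξ' (F (i, ξ')) x' else 0) = ∑ᶠ ab, H ab :=
      (finsum_curry H hHfin).symm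
    rw [h3, finsum_subtype_eq_finsum_cond (fun ab : I × X' =>
      p ab.2 = ξ ab.1 ∧ δ' ab.2 = δ (ξ ab.1) + c)
      (f := fun ab => Cyc.divFun δ' ab.2 (F ab) x')]
    apply finsum_congr
    intro ab
    rw [finsum_eq_if]
  · intro j
    change p j.1.2 ∈ S
    rw [j.2.1]
    exact hS j.1.1

end Pull

section Comp

variable {X X' Y : Scheme.{u}} (g : X ⟶ X') (h : X' ⟶ Y) [Flat g] [LocallyOfFiniteType g]
  [Flat h] [LocallyOfFiniteType h] [QuasiCompact h]
  (δX : X → ℤ) (δX' : X' → ℤ) (δY : Y → ℤ) (hX : Cyc.IsSetup X δX) (hX' : Cyc.IsSetup X' δX')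
  (hY : Cyc.IsSetup Y δY) (a b : ℕ) (ha : Cyc.HasRelDim g a) (hb : Cyc.HasRelDim h b)
  (hδg : Cyc.DeltaCompat g δX δX') (hδh : Cyc.DeltaCompat h δX' δY)

include hX hX' hY ha hb hδg hδh in
/-- goodness is stable under composition -/
theorem good_comp (hh : ∀ x', Good h δX' δY b x') (x : X) (hg : Good g δX δX' a x) :
    Good (g ≫ h) δX δY (a + b) x := by
  obtain ⟨α', hα'Z, hα's, hα'R⟩ := hg
  have hT : ∀ x', α' x' ≠ 0 → closure {h x'} ⊆ closure {h (g x)} := by
    intro x' hx'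
    have hsp : h (g x) ⤳ h x' := (hα's x' hx').map h.continuous
    exact closure_minimal (Set.singleton_subset_iff.mpr (specializes_iff_mem_closure.mp hsp))
      isClosed_closure
  obtain ⟨α, hαZ, hαs, hαR⟩ := glue (f := h) (δY := δY) (r := b) hX' (δX x - a) α' hα'Z
    (closure {h (g x)}) hT (fun x' _ => hh x')
  have hc : ∀ z : X, (∀ y, g y = g z → y ⤳ z → y = z) → δX z = δX' (g z) + (a : ℤ) :=
    fun z hmax => RelDimShift.shift_of_hasRelDim g δX δX' a ha hδg z hmax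
  have hpull := ratEquivZeroIn_pull g δX' δX hX' hX (a : ℤ) hc (δX x - a) _ _ hαR
  rw [sub_add_cancel] at hpull
  have h57 := (Groth.Agent.S1857.result X X' Y δX δX' δY hX hX' hY g h a b ha hb hδg hδh
    (δX x - a - b)).2 α hαZ
  have hcast : ((a + b : ℕ) : ℤ) = (a : ℤ) + b := by push_cast; ring
  refine ⟨α, ?_, ?_, ?_⟩
  · rw [hcast, ← sub_sub]; exact hαZ
  · intro y hy
    exact specializes_iff_mem_closure.mpr (hαs y hy)
  · have h1 : RatEquivZeroIn ((g ≫ h) ⁻¹' closure {(g ≫ h) x}) δX (δX x)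
        (fun z => pt x z - Cyc.pullFun g δX δX' a ⇑α' z) := by
      refine RatEquivZeroIn.mono ?_ hα'R
      intro z hz
      have hsp : g x ⤳ g z := specializes_iff_mem_closure.mpr hz
      exact specializes_iff_mem_closure.mp (hsp.map h.continuous)
    have h2 : RatEquivZeroIn ((g ≫ h) ⁻¹' closure {(g ≫ h) x}) δX (δX x)
        (Cyc.pullFun g δX δX' a
          (fun z => α' z - Cyc.pullFun h δX' δY b ⇑α z)) := by
      refine RatEquivZeroIn.mono ?_ hpull
      intro z hz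
      exact hz
    refine RatEquivZeroIn.congr (RatEquivZeroIn.add h1 h2) ?_
    intro z
    rw [hcast, ← h57]
    change pt x z - Cyc.pullFun g δX δX' a (Cyc.pullFun h δX' δY b ⇑α) z =
      (pt x z - Cyc.pullFun g δX δX' a ⇑α' z) +
        Cyc.pullFun g δX δX' a (fun z => α' z - Cyc.pullFun h δX' δY b ⇑α z) z
    have e1 := FF6.pullFun_eq g δX' δX a (Cyc.pullFun h δX' δY b ⇑α) z
    have e2 := FF6.pullFun_eq g δX' δX a ⇑α' z
    have e3 := FF6.pullFun_eq g δX' δX a (fun z => α' z - Cyc.pullFun h δX' δY b ⇑α z) z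
    rw [e1, e2, e3]
    by_cases hd : δX z = δX' (g z) + a
    · rw [if_pos hd, if_pos hd, if_pos hd]
      ring
    · rw [if_neg hd, if_neg hd, if_neg hd]
      ring

end Comp

end Groth.Agent.Lib.Helper18.AB9
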