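import Mathlib
import Groth.Prelude.Def_C1
import Groth.Agent.Lib.Helper18.ClImm

/-!
# Orders of vanishing along an open immersion
-/

set_option autoImplicit false
set_option linter.style.haveILetI false
universe u
open CategoryTheory AlgebraicGeometry TopologicalSpace

namespace Groth.Agent.Lib.Helper18.OpenImm

open Groth.Agent.Lib.Helper26.OrdZ Groth.Agent.Lib.Helper18.DivPull

variable {D X : Scheme.{u}} (i : D ⟶ X)

/-- orders of vanishing agree along a morphism inducing a surjection on local rings and a bijection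
on residue fields -/
theorem ordAt_eq_gen [IsLocallyNoetherian X] [IsLocallyNoetherian D] (d d' : D) (h : d' ⤳ d)
    (h' : i d' ⤳ i d)
    (hK : Ring.KrullDimLE 1 (Cyc.LocQuot (i d) (i d') h'))
    (hKD : Ring.KrullDimLE 1 (Cyc.LocQuot d d' h))
    (hs : Function.Surjective (i.stalkMap d).hom)
    (hb : Function.Injective (i.residueFieldMap d').hom)
    (g : X.residueField (i d')) :
    Cyc.ordAt d d' h ((i.residueFieldMap d').hom g) = Cyc.ordAt (i d) (i d') h' g := by
  haveI : (RingHom.ker (Cyc.specMap (i d) (i d') h')).IsPrime := RingHom.ker_isPrime _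
  haveI : (RingHom.ker (Cyc.specMap d d' h)).IsPrime := RingHom.ker_isPrime _
  haveI : IsDomain (Cyc.LocQuot (i d) (i d') h') := Ideal.Quotient.isDomain _
  haveI : IsDomain (Cyc.LocQuot d d' h) := Ideal.Quotient.isDomain _
  haveI := hK
  haveI := hKD
  haveI : IsFractionRing (Cyc.LocQuot (i d) (i d') h') (X.residueField (i d')) :=
    Groth.Agent.Lib.Helper18.LocStalk.isFractionRing_locQuot _ _ _
  haveI : IsFractionRing (Cyc.LocQuot d d' h) (D.residueField d') :=
    Groth.Agent.Lib.Helper18.LocStalk.isFractionRing_locQuot _ _ _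
  have hle : RingHom.ker (Cyc.specMap (i d) (i d') h') ≤
      Ideal.comap (i.stalkMap d).hom (RingHom.ker (Cyc.specMap d d' h)) := by
    intro a ha
    rw [Ideal.mem_comap, RingHom.mem_ker, specMap_stalkMap i d d' h h' a, RingHom.mem_ker.mp ha,
      map_zero]
  have hge : Ideal.comap (i.stalkMap d).hom (RingHom.ker (Cyc.specMap d d' h)) ≤
      RingHom.ker (Cyc.specMap (i d) (i d') h') := by
    intro a ha
    rw [Ideal.mem_comap, RingHom.mem_ker, specMap_stalkMap i d d' h h' a] at ha
    exact RingHom.mem_ker.mpr (hb (ha.trans (map_zero _).symm))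
  unfold Cyc.ordAt
  refine ClImm.ordFrac_congr
    (Ideal.quotientMap (RingHom.ker (Cyc.specMap d d' h)) (i.stalkMap d).hom hle)
    ⟨Ideal.quotientMap_injective' (H := hle) hge,
      Ideal.quotientMap_surjective (H := hle) hs⟩
    (i.residueFieldMap d').hom ?_ g
  intro a
  obtain ⟨a, rfl⟩ := Ideal.Quotient.mk_surjective a
  exact (specMap_stalkMap i d d' h h' a).symm

variable [IsOpenImmersion i]

theorem residueFieldMap_bijective (d : D) : Function.Bijective (i.residueFieldMap d).hom :=
  ConcreteCategory.bijective_of_isIso (i.residueFieldMap d)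

theorem stalkMap_bijective (d : D) : Function.Bijective (i.stalkMap d).hom :=
  ConcreteCategory.bijective_of_isIso (i.stalkMap d)

theorem deltaCompat (δ : X → ℤ) : Cyc.DeltaCompat i (fun d => δ (i d)) δ := by
  intro d
  refine ⟨0, ?_, by simp⟩
  letI := (i.residueFieldMap d).hom.toAlgebra
  haveI : Algebra.IsIntegral (X.residueField (i d)) (D.residueField d) :=
    Algebra.isIntegral_of_surjective (residueFieldMap_bijective i d).2
  rw [_root_.trdeg_eq_zero]
  rfl

theorem isSetup (δ : X → ℤ) (hX : Cyc.IsSetup X δ) : Cyc.IsSetup D (fun d => δ (i d)) :=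
  Groth.Agent.Lib.Helper18.SetupLft.isSetup_of_locallyOfFiniteType i δ hX _ (deltaCompat i δ)

theorem specializes_iff (d d' : D) : d' ⤳ d ↔ i d' ⤳ i d :=
  (i.isOpenEmbedding.isInducing.specializes_iff).symm

theorem ordAt_eq (δ : X → ℤ) (hX : Cyc.IsSetup X δ) (d d' : D) (h : d' ⤳ d) (h' : i d' ⤳ i d)
    (h1 : δ (i d) + 1 = δ (i d')) (g : X.residueField (i d')) :
    Cyc.ordAt d d' h ((i.residueFieldMap d').hom g) = Cyc.ordAt (i d) (i d') h' g := by
  have hD := isSetup i δ hX
  haveI : IsLocallyNoetherian X := hX.1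
  haveI : IsLocallyNoetherian D := hD.1
  exact ordAt_eq_gen i d d' h h' (krullDimLE_one_locQuot δ hX.2.2 (i d) (i d') h' h1)
    (krullDimLE_one_locQuot (fun d => δ (i d)) hD.2.2 d d' h h1)
    (stalkMap_bijective i d).2 (residueFieldMap_bijective i d').1 g

theorem divFun_eq (δ : X → ℤ) (hX : Cyc.IsSetup X δ) (d d' : D) (g : X.residueField (i d')) :
    Cyc.divFun (fun d => δ (i d)) d' ((i.residueFieldMap d').hom g) d =
      Cyc.divFun δ (i d') g (i d) := by
  classical
  unfold Cyc.divFun
  by_cases hc : d' ⤳ d ∧ δ (i d) + 1 = δ (i d')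
  · have hc' : i d' ⤳ i d ∧ δ (i d) + 1 = δ (i d') := ⟨(specializes_iff i d d').mp hc.1, hc.2⟩
    rw [dif_pos hc, dif_pos hc']
    exact ordAt_eq i δ hX d d' hc.1 hc'.1 hc.2 g
  · have hc' : ¬ (i d' ⤳ i d ∧ δ (i d) + 1 = δ (i d')) := fun hh =>
      hc ⟨(specializes_iff i d d').mpr hh.1, hh.2⟩
    rw [dif_neg hc, dif_neg hc']

end Groth.Agent.Lib.Helper18.OpenImm
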