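import Mathlib
import Groth.Prelude.Def_Bivar2
import Groth.Agent.Lib.Helper18.CL11
import Groth.Agent.Lib.Helper18.PullSec2
import Groth.Agent.Lib.Helper21.FibDim11

/-!
# Proper pushforward on Chow groups, induced dimension functions
-/

set_option autoImplicit false
set_option linter.unusedSectionVars false
set_option linter.style.haveILetI false
universe u
open CategoryTheory AlgebraicGeometry TopologicalSpace Limits

namespace Groth.Agent.Lib.Helper18.PPC1

section Ind

variable {A B : Scheme.{u}} (h : A ⟶ B) [LocallyOfFiniteType h] (δB : B → ℤ)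

/-- the dimension function induced along a morphism locally of finite type -/
noncomputable def indDelta : A → ℤ := fun a =>
  δB (h a) + ((Groth.Agent.Lib.Helper21.FibDim.exists_nat_trdeg_residueFieldMap h a).choose : ℤ)

theorem deltaCompat_indDelta : Cyc.DeltaCompat h (indDelta h δB) δB := fun a =>
  ⟨_, (Groth.Agent.Lib.Helper21.FibDim.exists_nat_trdeg_residueFieldMap h a).choose_spec, rfl⟩

end Ind

section Push

variable {A B : Scheme.{u}} (h : A ⟶ B) [IsProper h] (δA : A → ℤ) (δB : B → ℤ)

/-- proper pushforward on `k`-cycles -/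
noncomputable def pushZk (k : ℤ) : ↥(ChowOps.zk A δA k) →+ ↥(ChowOps.zk B δB k) where
  toFun a := ⟨AlgebraicCycle.map h δA δB a.1, Bivar.cycMap_mem_Zk h δA δB k a.2⟩
  map_zero' := Subtype.ext (Bivar.cycMap_zero h δA δB)
  map_add' a b := Subtype.ext (Bivar.cycMap_add h δA δB a.1 b.1)

variable (hA : Cyc.IsSetup A δA) (hB : Cyc.IsSetup B δB) (hδ : Cyc.DeltaCompat h δA δB)

include hA hB hδ in
theorem ratTriv_le (k : ℤ) :
    ChowOps.ratTriv A δA k ≤ (ChowOps.ratTriv B δB k).comap (pushZk h δA δB k) := by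
  unfold ChowOps.ratTriv
  rw [AddSubgroup.closure_le]
  intro a ha
  apply AddSubgroup.subset_closure
  exact Groth.Agent.Lib.Helper18.CL11.ratEquivZero_map δA δB h hA hB hδ k a.1 ha

/-- proper pushforward on Chow groups -/
noncomputable def pushCH (k : ℤ) : ChowOps.CH A δA k →+ ChowOps.CH B δB k :=
  QuotientAddGroup.map _ _ (pushZk h δA δB k) (ratTriv_le h δA δB hA hB hδ k)

theorem pushCH_cl (k : ℤ) (α : AlgebraicCycle A ℤ) (hα : α ∈ Cyc.Zk A δA k) :
    pushCH h δA δB hA hB hδ k (ChowOps.cl α hα) =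
      ChowOps.cl (AlgebraicCycle.map h δA δB α) (Bivar.cycMap_mem_Zk h δA δB k hα) := rfl

end Push

/-- pushforward along the identity -/
theorem map_id {A : Scheme.{u}} (δ : A → ℤ) (α : AlgebraicCycle A ℤ) :
    AlgebraicCycle.map (𝟙 A) δ δ α = α := by
  ext x
  exact Groth.Agent.Lib.Helper18.PullSec.map_apply_of_mem (𝟙 A) δ α x

end Groth.Agent.Lib.Helper18.PPC1
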