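import Mathlib
import Groth.Prelude.Def_Cyc
import Groth.Agent.Lib.Helper18.AB6
import Groth.Agent.Lib.Helper18.AB9
import Groth.Agent.Lib.Helper18.TopDim
import Groth.Agent.Lib.Helper18.RelCartier1
import Groth.Agent.Lib.Helper18.PPC1
import Groth.Agent.Lib.Helper18.FF8
import Groth.Agent.Lib.Helper18.OpenImm

/-!
# Affine bundles, part 10: transport along isomorphisms, towers of affine lines
-/

set_option autoImplicit false
set_option linter.unusedSectionVars false
set_option linter.style.haveILetI false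
universe u
open AlgebraicGeometry CategoryTheory TopologicalSpace Limits

namespace Groth.Agent.Lib.Helper18.AB10

open Groth.Agent.Lib.Helper18.AB5 Groth.Agent.Lib.Helper18.KF16 Groth.Agent.Lib.Helper18.KF18
  Groth.Agent.Lib.Helper18.KF27 Groth.Agent.Lib.Helper18.AB8 Groth.Agent.Lib.Helper18.AB4
  Groth.Agent.Lib.Helper18.AB6

section Transfer

variable {D X : Scheme.{u}} (i : D ⟶ X) [IsClosedImmersion i]

/-- restriction to a closed subscheme of a family supported on it, with supports -/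
theorem ratEquivZeroIn_comap' (δ : X → ℤ) (hX : Cyc.IsSetup X δ) (k : ℤ) (A : X → ℤ)
    (S : Set X) (hSr : S ⊆ Set.range ⇑i) (h : RatEquivZeroIn S δ k A) :
    RatEquivZeroIn (i ⁻¹' S) (fun d => δ (i d)) k (fun d => A (i d)) := by
  classical
  obtain ⟨ι, ξ, f, hδ, hf, hlf, hsum, hS⟩ := h
  have hex : ∀ j, ∃ (d : D) (g : X.residueField (i d)), g ≠ 0 ∧ i d = ξ j ∧
      ∀ x, Cyc.divFun δ (i d) g x = Cyc.divFun δ (ξ j) (f j) x := by
    intro j
    obtain ⟨d, hd⟩ := hSr (hS j)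
    obtain ⟨g, hg, hdiv⟩ := exists_transport δ (ξ j) (i d) hd (f j) (hf j)
    exact ⟨d, g, hg, hd, hdiv⟩
  choose d g hg hd hdiv using hex
  refine ⟨ι, d, fun j => (i.residueFieldMap (d j)).hom (g j), ?_, ?_, ?_, ?_, ?_⟩
  · intro j
    show δ (i (d j)) = k + 1
    rw [hd j, hδ j]
  · intro j
    exact (map_ne_zero _).mpr (hg j)
  · intro d0
    obtain ⟨U, hUo, hdU, hfin⟩ := hlf (i d0)
    refine ⟨(i : D → X) ⁻¹' U, hUo.preimage i.continuous, hdU, hfin.subset ?_⟩
    rintro j ⟨z, hz, hzU⟩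
    refine ⟨i z, ?_, hzU⟩
    rw [← hd j]
    have := image_closure_subset_closure_image i.continuous (s := {d j}) ⟨z, hz, rfl⟩
    rwa [Set.image_singleton] at this
  · intro d0
    show A (i d0) = _
    rw [hsum]
    apply finsum_congr
    intro j
    rw [Groth.Agent.Lib.Helper18.ClImm.divFun_eq i δ hX d0 (d j) (g j), hdiv j]
  · intro j
    change i (d j) ∈ S
    rw [hd j]
    exact hS j

end Transfer

section Sq

variable {X X₁ Y Y₁ : Scheme.{u}} (a : X ⟶ X₁) [IsIso a] (b : Y ⟶ Y₁) [IsIso b]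
  (f : X ⟶ Y) (f₁ : X₁ ⟶ Y₁) (hsq : a ≫ f₁ = f ≫ b)

include hsq in
theorem sq_apply (x : X) : f₁ (a x) = b (f x) := by
  have h := congrArg (fun φ : X ⟶ Y₁ => (φ : X → Y₁) x) hsq
  exact h

include hsq in
theorem pullFun_of_sq (δX₁ : X₁ → ℤ) (δY₁ : Y₁ → ℤ) (c : ℤ) (α₁ : Y₁ → ℤ) (x : X) :
    Cyc.pullFun f (fun x => δX₁ (a x)) (fun y => δY₁ (b y)) c (fun y => α₁ (b y)) x =
      Cyc.pullFun f₁ δX₁ δY₁ c α₁ (a x) := by
  rw [FF6.pullFun_eq, FF6.pullFun_eq, sq_apply a b f f₁ hsq x,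
    AB7.multN_of_sq a b f f₁ hsq x]

include hsq in
/-- goodness transports along isomorphisms of arrows -/
theorem good_of_sq (δX₁ : X₁ → ℤ) (δY₁ : Y₁ → ℤ) (hX₁ : Cyc.IsSetup X₁ δX₁) (r : ℕ) (x : X)
    (h : Good f₁ δX₁ δY₁ r (a x)) :
    Good f (fun x => δX₁ (a x)) (fun y => δY₁ (b y)) r x := by
  obtain ⟨α₁, hαZ, hαs, hαR⟩ := h
  refine ⟨MV1.restrict b α₁, ?_, ?_, ?_⟩
  · intro y hy
    rw [MV1.restrict_apply]
    exact hαZ (b y) hy
  · intro y hy
    rw [MV1.restrict_apply] at hy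
    have h1 := hαs (b y) hy
    rw [sq_apply a b f f₁ hsq x] at h1
    exact (b.isOpenEmbedding.isInducing.specializes_iff).mp h1
  · have h1 := ratEquivZeroIn_comap' a δX₁ hX₁ (δX₁ (a x)) _ _
      (fun z _ => (ConcreteCategory.bijective_of_isIso a.base).2 z) hαR
    refine RatEquivZeroIn.congr (RatEquivZeroIn.mono ?_ h1) ?_
    · intro z hz
      have hz' : f₁ (a z) ∈ closure {f₁ (a x)} := hz
      rw [sq_apply a b f f₁ hsq, sq_apply a b f f₁ hsq] at hz'
      have hsp : b (f x) ⤳ b (f z) := specializes_iff_mem_closure.mpr hz'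
      exact specializes_iff_mem_closure.mp
        ((b.isOpenEmbedding.isInducing.specializes_iff).mp hsp)
    · intro z
      change pt x z - Cyc.pullFun f (fun x => δX₁ (a x)) (fun y => δY₁ (b y)) r
        (fun y => α₁ (b y)) z = pt (a x) (a z) - Cyc.pullFun f₁ δX₁ δY₁ r ⇑α₁ (a z)
      rw [pullFun_of_sq a b f f₁ hsq]
      congr 1
      by_cases hz : z = x
      · rw [hz, pt_self, pt_self]
      · rw [pt_ne hz, pt_ne]
        intro e
        exact hz (a.isOpenEmbedding.injective e)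

include hsq in
theorem deltaCompat_of_sq (δX : X → ℤ) (δY : Y → ℤ) (hδ : Cyc.DeltaCompat f δX δY) :
    Cyc.DeltaCompat f₁ (fun x₁ => δX (inv a x₁)) (fun y₁ => δY (inv b y₁)) := by
  have h1 : Cyc.DeltaCompat (inv a ≫ f) (fun x₁ => δX (inv a x₁)) δY :=
    RelCartier.deltaCompat_comp (inv a) f δX δY hδ
  have h2 : inv a ≫ f = f₁ ≫ inv b := by
    rw [IsIso.inv_comp_eq, ← Category.assoc, hsq, Category.assoc, IsIso.hom_inv_id,
      Category.comp_id]
  rw [h2] at h1
  exact FF8.deltaCompat_cancel f₁ (inv b) _ _ δY h1 (Groth.Agent.Lib.Helper18.OpenImm.deltaCompat (inv b) δY)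

include hsq in
theorem hasRelDim_of_sq [LocallyOfFiniteType f₁] (r : ℕ) (h : Cyc.HasRelDim f₁ r) : Cyc.HasRelDim f r :=
  Groth.Agent.Lib.Helper21.BaseChg.hasRelDim_of_isPullback
    (IsPullback.of_horiz_isIso ⟨hsq⟩) r h

theorem inv_apply_apply (x : X) : (inv a) (a x) = x := by
  have h := congrArg (fun φ : X ⟶ X => (φ : X → X) x) (IsIso.hom_inv_id a)
  exact h

theorem apply_inv_apply (x₁ : X₁) : a ((inv a) x₁) = x₁ := by
  have h := congrArg (fun φ : X₁ ⟶ X₁ => (φ : X₁ → X₁) x₁) (IsIso.inv_hom_id a)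
  exact h

end Sq

section Iso

variable {X Y : Scheme.{u}} (f : X ⟶ Y) [IsIso f]

theorem hasRelDim_of_isIso : Cyc.HasRelDim f 0 := by
  intro y T hT
  haveI : DiscreteTopology ↥(f.fiber y) := inferInstance
  haveI : Nonempty ↥T := hT.1.nonempty.to_subtype
  exact le_antisymm (topologicalKrullDim_zero_of_discreteTopology ↥T)
    Groth.Agent.Lib.Helper18.TopDim.zero_le_topologicalKrullDim

theorem multN_of_isIso (x : X) : FF6.multN f x = 1 := by
  unfold FF6.multN
  rw [AB7.map_maximalIdeal_of_bijective (f.stalkMap x).hom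
    (ConcreteCategory.bijective_of_isIso (f.stalkMap x))]
  have : Module.length (X.presheaf.stalk x)
      (X.presheaf.stalk x ⧸ IsLocalRing.maximalIdeal (X.presheaf.stalk x)) = 1 := by
    rw [Module.length_eq_one_iff, isSimpleModule_iff_isCoatom]
    exact Ideal.isMaximal_def.mp inferInstance
  rw [this]
  rfl

/-- the fibre data of an isomorphism -/
noncomputable def fibDataIso (δX : X → ℤ) (δY : Y → ℤ) (hδ : Cyc.DeltaCompat f δX δY) :
    FibData f δX δY 0 where
  gp := inv f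
  f_gp := apply_inv_apply f
  spec := fun x => by rw [inv_apply_apply]
  mult := fun y => multN_of_isIso f _
  delta := fun y => by
    have h := FF8.deltaCompat_unique f δX (fun x => δY (f x)) δY hδ (Groth.Agent.Lib.Helper18.OpenImm.deltaCompat f δY)
    rw [h]
    simp only [apply_inv_apply, Nat.cast_zero, add_zero]

theorem good_of_isIso (δX : X → ℤ) (δY : Y → ℤ) (hX : Cyc.IsSetup X δX)
    (hδ : Cyc.DeltaCompat f δX δY) (x : X) : Good f δX δY 0 x :=
  good_generic hX (fibDataIso f δX δY hδ) x (inv_apply_apply f x).symm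

end Iso

end Groth.Agent.Lib.Helper18.AB10
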