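import Mathlib
import Groth.Prelude.Def_Cyc
import Groth.Agent.Lib.Helper18.AB10
import Groth.Agent.Lib.Helper21.FibDim11

/-!
# Affine bundles, part 11: towers of affine lines are good
-/

set_option autoImplicit false
set_option linter.unusedSectionVars false
set_option linter.style.haveILetI false
universe u
open AlgebraicGeometry CategoryTheory TopologicalSpace Limits

namespace Groth.Agent.Lib.Helper18.AB11

open Groth.Agent.Lib.Helper18.AB5 Groth.Agent.Lib.Helper18.KF16 Groth.Agent.Lib.Helper18.KF18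
  Groth.Agent.Lib.Helper18.KF27 Groth.Agent.Lib.Helper18.AB8 Groth.Agent.Lib.Helper18.AB4
  Groth.Agent.Lib.Helper18.AB6 Groth.Agent.Lib.Helper18.AB9 Groth.Agent.Lib.Helper18.AB10

/-- a morphism isomorphic to an affine line `Spec R[X] → Spec R` -/
def IsA1 {X Y : Scheme.{u}} (g : X ⟶ Y) : Prop :=
  ∃ (R : Type u) (_ : CommRing R) (a : X ⟶ X₀ R) (b : Y ⟶ Y₀ R),
    IsIso a ∧ IsIso b ∧ a ≫ f₀ R = g ≫ b

/-- a tower of affine lines of height `n` over an isomorphism -/
def IsTower : ℕ → ∀ {X Y : Scheme.{u}}, (X ⟶ Y) → Prop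
  | 0, _, _, f => IsIso f
  | n + 1, X, Y, f => ∃ (X' : Scheme.{u}) (g : X ⟶ X') (h : X' ⟶ Y),
      f = g ≫ h ∧ IsA1 g ∧ IsTower n h

variable {X Y : Scheme.{u}}

theorem IsA1.props {g : X ⟶ Y} (h : IsA1 g) :
    Flat g ∧ LocallyOfFiniteType g ∧ QuasiCompact g ∧ Cyc.HasRelDim g 1 := by
  obtain ⟨R, _, a, b, ha, hb, hsq⟩ := h
  haveI := ha
  haveI := hb
  have hg : g = a ≫ f₀ R ≫ inv b := by
    rw [← Category.assoc, hsq, Category.assoc, IsIso.hom_inv_id, Category.comp_id]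
  have h1 : Flat g := by rw [hg]; infer_instance
  have h2 : LocallyOfFiniteType g := by rw [hg]; infer_instance
  have h3 : QuasiCompact g := by rw [hg]; infer_instance
  exact ⟨h1, h2, h3, hasRelDim_of_sq a b g (f₀ R) hsq 1 (hasRelDim_f₀ R)⟩

theorem IsTower.props : ∀ (n : ℕ) {X Y : Scheme.{u}} {f : X ⟶ Y}, IsTower n f →
    Flat f ∧ LocallyOfFiniteType f ∧ QuasiCompact f ∧ Cyc.HasRelDim f n
  | 0, X, Y, f, h => by
    haveI : IsIso f := h
    exact ⟨inferInstance, inferInstance, inferInstance, hasRelDim_of_isIso f⟩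
  | n + 1, X, Y, f, h => by
    obtain ⟨X', g, h', rfl, hg, hh⟩ := h
    obtain ⟨g1, g2, g3, g4⟩ := hg.props
    obtain ⟨h1, h2, h3, h4⟩ := IsTower.props n hh
    refine ⟨inferInstance, inferInstance, inferInstance, ?_⟩
    have := Groth.Agent.Lib.Helper21.FibDim.hasRelDim_comp g h' 1 n g4 h4
    rwa [Nat.add_comm] at this

open Classical in
/-- affine lines are good -/
theorem good_of_isA1 {g : X ⟶ Y} (hA : IsA1 g) (δX : X → ℤ) (δY : Y → ℤ)
    (hY : Cyc.IsSetup Y δY) (hδ : Cyc.DeltaCompat g δX δY) (x : X) : Good g δX δY 1 x := by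
  obtain ⟨R, _, a, b, ha, hb, hsq⟩ := hA
  haveI := ha
  haveI := hb
  let δX₁ : X₀ R → ℤ := fun x₁ => δX (inv a x₁)
  let δY₁ : Y₀ R → ℤ := fun y₁ => δY (inv b y₁)
  have hY₁ : Cyc.IsSetup (Y₀ R) δY₁ := Groth.Agent.Lib.Helper18.OpenImm.isSetup (inv b) δY hY
  have hδ₁ : Cyc.DeltaCompat (f₀ R) δX₁ δY₁ := deltaCompat_of_sq a b g (f₀ R) hsq δX δY hδ
  have hX₁ : Cyc.IsSetup (X₀ R) δX₁ :=
    SetupLft.isSetup_of_locallyOfFiniteType (f₀ R) δY₁ hY₁ δX₁ hδ₁
  have hgood : Good (f₀ R) δX₁ δY₁ 1 (a x) := by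
    by_cases hx : a x = gp R (f₀ R (a x))
    · exact good_generic hX₁ (fibData δX₁ δY₁ hδ₁) (a x) hx
    · obtain ⟨φ, hφ0, hφ⟩ := lemmaL R δX₁ hX₁ (a x) hx
      exact good_of_lemmaL hX₁ (fibData δX₁ δY₁ hδ₁) hY₁ hδ₁ (a x) hx φ hφ0 hφ
  have key := good_of_sq a b g (f₀ R) hsq δX₁ δY₁ hX₁ 1 x hgood
  have e1 : (fun x => δX₁ (a x)) = δX := funext (fun x => by
    simp only [δX₁]; rw [inv_apply_apply])
  have e2 : (fun y => δY₁ (b y)) = δY := funext (fun y => by
    simp only [δY₁]; rw [inv_apply_apply])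
  rwa [e1, e2] at key

/-- towers of affine lines are good -/
theorem good_of_isTower : ∀ (n : ℕ) {X Y : Scheme.{u}} {f : X ⟶ Y}, IsTower n f →
    ∀ (δX : X → ℤ) (δY : Y → ℤ), Cyc.IsSetup Y δY → Cyc.DeltaCompat f δX δY →
    ∀ x, Good f δX δY n x
  | 0, X, Y, f, h, δX, δY, hY, hδ, x => by
    haveI : IsIso f := h
    have hX : Cyc.IsSetup X δX := SetupLft.isSetup_of_locallyOfFiniteType f δY hY δX hδ
    exact good_of_isIso f δX δY hX hδ x
  | n + 1, X, Y, f, h, δX, δY, hY, hδ, x => by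
    obtain ⟨X', g, h', rfl, hg, hh⟩ := h
    obtain ⟨g1, g2, g3, g4⟩ := hg.props
    obtain ⟨h1, h2, h3, h4⟩ := IsTower.props n hh
    let δX' : X' → ℤ := PPC1.indDelta h' δY
    have hδh : Cyc.DeltaCompat h' δX' δY := PPC1.deltaCompat_indDelta h' δY
    have hδg : Cyc.DeltaCompat g δX δX' := FF8.deltaCompat_cancel g h' δX δX' δY hδ hδh
    have hX' : Cyc.IsSetup X' δX' := SetupLft.isSetup_of_locallyOfFiniteType h' δY hY δX' hδh
    have hX : Cyc.IsSetup X δX := SetupLft.isSetup_of_locallyOfFiniteType g δX' hX' δX hδg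
    have IH := good_of_isTower n hh δX' δY hY hδh
    have := good_comp g h' δX δX' δY hX hX' hY 1 n g4 h4 hδg hδh IH x
      (good_of_isA1 hg δX δX' hX' hδg x)
    rwa [Nat.add_comm] at this

section MvPoly

variable (R : Type u) [CommRing R]

/-- `Spec R[x₁,…,xₙ] → Spec R` is a tower of affine lines -/
theorem isTower_mvPolynomial : ∀ n : ℕ, IsTower n
    (Spec.map (CommRingCat.ofHom (MvPolynomial.C : R →+* MvPolynomial (Fin n) R)))
  | 0 => by
    change IsIso _
    have : CommRingCat.ofHom (MvPolynomial.C : R →+* MvPolynomial (Fin 0) R) =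
        (MvPolynomial.isEmptyRingEquiv R (Fin 0)).symm.toCommRingCatIso.hom := by
      ext r
      simp
    rw [this]
    infer_instance
  | n + 1 => by
    let φ : MvPolynomial (Fin n) R →+* MvPolynomial (Fin (n + 1)) R :=
      ((MvPolynomial.finSuccEquiv R n).symm : Polynomial (MvPolynomial (Fin n) R) →+* _).comp
        Polynomial.C
    refine ⟨Spec (CommRingCat.of (MvPolynomial (Fin n) R)), Spec.map (CommRingCat.ofHom φ),
      Spec.map (CommRingCat.ofHom MvPolynomial.C), ?_, ?_, isTower_mvPolynomial n⟩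
    · rw [← Spec.map_comp]
      congr 1
      rw [← CommRingCat.ofHom_comp]
      congr 1
      exact (MvPolynomial.finSuccEquiv_comp_C_eq_C n).symm
    · refine ⟨MvPolynomial (Fin n) R, inferInstance,
        Spec.map (CommRingCat.ofHom
          ((MvPolynomial.finSuccEquiv R n).symm : Polynomial (MvPolynomial (Fin n) R) →+* _)),
        𝟙 _, ?_, inferInstance, ?_⟩
      · exact inferInstanceAs (IsIso (Spec.map
          (MvPolynomial.finSuccEquiv R n).symm.toRingEquiv.toCommRingCatIso.hom))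
      · rw [Category.comp_id]
        unfold f₀
        rw [← Spec.map_comp]
        rfl

end MvPoly

end Groth.Agent.Lib.Helper18.AB11
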