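import Mathlib
import Groth.Prelude.Def_C1
import Groth.Agent.Lib.Helper18.OpenImm
import Groth.Agent.Lib.Helper18.DivLocFin

/-!
# Extending a rational equivalence from an open subscheme
-/

set_option autoImplicit false
set_option linter.style.haveILetI false
universe u
open CategoryTheory AlgebraicGeometry TopologicalSpace Topology

namespace Groth.Agent.Lib.Helper18.OpenPush

variable {D X : Scheme.{u}} (j : D ⟶ X) [IsOpenImmersion j]

/-- a locally finite family of closed subsets of an open subscheme of a locally Noetherian scheme is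
locally finite on the whole scheme after taking closures: affine version -/
theorem finite_meeting_affine [IsLocallyNoetherian X] {I : Type*} (ξ : I → D)
    (hlf : ∀ x : D, ∃ U : Set D, IsOpen U ∧ x ∈ U ∧ {i | (closure {ξ i} ∩ U).Nonempty}.Finite)
    {V : X.Opens} (hV : IsAffineOpen V) :
    {i | (closure {j (ξ i)} ∩ (V : Set X)).Nonempty}.Finite := by
  have hLF : LocallyFinite (fun i => closure ({ξ i} : Set D)) := by
    intro x
    obtain ⟨U, hUo, hxU, hfin⟩ := hlf x
    exact ⟨U, hUo.mem_nhds hxU, hfin⟩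
  have hcomp : IsCompact ((j ⁻¹ᵁ V : D.Opens) : Set D) := j.isCompact_preimage hV.isCompact
  refine (hLF.finite_nonempty_inter_compact hcomp).subset ?_
  rintro i ⟨z, hz, hzV⟩
  have hsp : j (ξ i) ⤳ z := specializes_iff_mem_closure.mpr hz
  have hmem : j (ξ i) ∈ V := hsp.mem_open V.2 hzV
  exact ⟨ξ i, subset_closure rfl, hmem⟩

theorem main (δ : X → ℤ) (hX : Cyc.IsSetup X δ) (k : ℤ) (α β : AlgebraicCycle X ℤ)
    (hα : α ∈ Cyc.Zk X δ k) (hβ : β ∈ Cyc.Zk X δ k) (αU βU : AlgebraicCycle D ℤ)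
    (hαU : ∀ u : D, αU u = α (j u)) (hβU : ∀ u : D, βU u = β (j u))
    (h : Cyc.RatEquiv (fun u : D => δ (j u)) k αU βU) :
    ∃ γ : AlgebraicCycle X ℤ, γ ∈ Cyc.Zk X δ k ∧ (∀ x : X, x ∈ Set.range (j : D → X) → γ x = 0) ∧
      Cyc.RatEquiv δ k α (β + γ) := by
  classical
  haveI : IsLocallyNoetherian X := hX.1
  obtain ⟨I, ξ, f, hδξ, hf, hlf, hsum⟩ := h
  let eκ : (d : D) → X.residueField (j d) ≃+* D.residueField d := fun d =>
    RingEquiv.ofBijective (j.residueFieldMap d).hom (OpenImm.residueFieldMap_bijective j d)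
  have heκ : ∀ (d : D) (z : D.residueField d),
      (j.residueFieldMap d).hom ((eκ d).symm z) = z := fun d z => (eκ d).apply_symm_apply z
  have hf' : ∀ i, (eκ (ξ i)).symm (f i) ≠ 0 := fun i =>
    (map_ne_zero_iff _ (eκ (ξ i)).symm.injective).mpr (hf i)
  have hfinV : ∀ {V : X.Opens}, IsAffineOpen V →
      {i | (closure {j (ξ i)} ∩ (V : Set X)).Nonempty}.Finite := fun hV =>
    finite_meeting_affine j ξ hlf hV
  have hterm : ∀ (i : I) (x : X), Cyc.divFun δ (j (ξ i)) ((eκ (ξ i)).symm (f i)) x ≠ 0 →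
      j (ξ i) ⤳ x ∧ δ x = k := by
    intro i x hx
    unfold Cyc.divFun at hx
    by_cases hc : j (ξ i) ⤳ x ∧ δ x + 1 = δ (j (ξ i))
    · refine ⟨hc.1, ?_⟩
      have := hδξ i
      simp only at this
      omega
    · rw [dif_neg hc] at hx
      exact absurd rfl hx
  -- the sum of the divisors, as a cycle
  let S : X → ℤ := fun x => ∑ᶠ i, Cyc.divFun δ (j (ξ i)) ((eκ (ξ i)).symm (f i)) x
  have hSlf : ∀ z : X, ∃ t ∈ 𝓝 z, (t ∩ Function.support S).Finite := by
    intro z
    obtain ⟨_, ⟨V, hV, rfl⟩, hzV, -⟩ :=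
      (X.isBasis_affineOpens).exists_subset_of_mem_open (Set.mem_univ z) isOpen_univ
    refine ⟨V, V.2.mem_nhds hzV, ?_⟩
    have hJ := hfinV hV
    refine Set.Finite.subset (hJ.biUnion (fun i _ =>
      DivLocFin.finite_inter_support_divFun δ hX (j (ξ i)) _ (hf' i) hV)) ?_
    rintro x ⟨hxV, hxS⟩
    have : ∃ i, Cyc.divFun δ (j (ξ i)) ((eκ (ξ i)).symm (f i)) x ≠ 0 := by
      by_contra hall
      push_neg at hall
      exact hxS (finsum_eq_zero_of_forall_eq_zero hall)
    obtain ⟨i, hi⟩ := this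
    have hsp := (hterm i x hi).1
    refine Set.mem_biUnion (x := i) ?_ ⟨hxV, hi⟩
    exact ⟨x, specializes_iff_mem_closure.mp hsp, hxV⟩
  let SC : AlgebraicCycle X ℤ :=
    { toFun := S
      supportWithinDomain' := Set.subset_univ _
      supportLocallyFiniteWithinDomain' := fun z _ => hSlf z }
  have hSC : ∀ x, SC x = ∑ᶠ i, Cyc.divFun δ (j (ξ i)) ((eκ (ξ i)).symm (f i)) x := fun x => rfl
  refine ⟨α - β - SC, ?_, ?_, ?_⟩
  · intro x hx
    change α x - β x - SC x = 0
    rw [hα x hx, hβ x hx, hSC, sub_zero, zero_sub, neg_eq_zero]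
    apply finsum_eq_zero_of_forall_eq_zero
    intro i
    by_contra hne
    exact hx (hterm i x hne).2
  · rintro x ⟨u, rfl⟩
    change α (j u) - β (j u) - SC (j u) = 0
    rw [hSC, ← hαU, ← hβU]
    have h1 := hsum u
    change αU u - βU u = _ at h1
    rw [h1, sub_eq_zero]
    apply finsum_congr
    intro i
    rw [← OpenImm.divFun_eq j δ hX u (ξ i), heκ]
  · refine ⟨I, fun i => j (ξ i), fun i => (eκ (ξ i)).symm (f i), hδξ, hf', ?_, ?_⟩
    · intro z
      obtain ⟨_, ⟨V, hV, rfl⟩, hzV, -⟩ :=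
        (X.isBasis_affineOpens).exists_subset_of_mem_open (Set.mem_univ z) isOpen_univ
      exact ⟨V, V.2, hzV, hfinV hV⟩
    · intro x
      change α x - (β x + (α x - β x - SC x)) = _
      rw [hSC]
      ring

end Groth.Agent.Lib.Helper18.OpenPush
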