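import Mathlib
import Groth.Prelude.Def_Cyc
import Groth.Agent.Lib.Helper18.AB10
import Groth.Agent.Lib.Helper18.OpenPush

/-!
# Affine bundles, part 12: the localisation step
-/

set_option autoImplicit false
set_option linter.unusedSectionVars false
set_option linter.style.haveILetI false
universe u
open AlgebraicGeometry CategoryTheory TopologicalSpace Limits

namespace Groth.Agent.Lib.Helper18.AB12

open Groth.Agent.Lib.Helper18.AB5 Groth.Agent.Lib.Helper18.KF16 Groth.Agent.Lib.Helper18.KF18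
  Groth.Agent.Lib.Helper18.KF27 Groth.Agent.Lib.Helper18.AB8

section Push

variable {D X : Scheme.{u}} (j : D ⟶ X) [IsOpenImmersion j]

/-- a rational equivalence on an open subscheme extends, with control of supports -/
theorem openPush (δ : X → ℤ) (hX : Cyc.IsSetup X δ) (k : ℤ) (S : Set D) (A : D → ℤ)
    (h : RatEquivZeroIn S (fun d => δ (j d)) k A) :
    ∃ SC : AlgebraicCycle X ℤ, (∀ d, SC (j d) = A d) ∧ SC ∈ Cyc.Zk X δ k ∧
      (∀ z, SC z ≠ 0 → ∃ d ∈ S, j d ⤳ z) ∧ RatEquivZeroIn (j '' S) δ k ⇑SC := by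
  classical
  haveI : IsLocallyNoetherian X := hX.1
  obtain ⟨I, ξ, f, hδξ, hf, hlf, hsum, hS⟩ := h
  let eκ : (d : D) → X.residueField (j d) ≃+* D.residueField d := fun d =>
    RingEquiv.ofBijective (j.residueFieldMap d).hom
      (Groth.Agent.Lib.Helper18.OpenImm.residueFieldMap_bijective j d)
  have heκ : ∀ (d : D) (z : D.residueField d),
      (j.residueFieldMap d).hom ((eκ d).symm z) = z := fun d z => (eκ d).apply_symm_apply z
  have hf' : ∀ i, (eκ (ξ i)).symm (f i) ≠ 0 := fun i =>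
    (map_ne_zero_iff _ (eκ (ξ i)).symm.injective).mpr (hf i)
  have hlf' : ∀ z : X, ∃ U : Set X, IsOpen U ∧ z ∈ U ∧
      {i | (closure {j (ξ i)} ∩ U).Nonempty}.Finite := by
    intro z
    obtain ⟨_, ⟨V, hV, rfl⟩, hzV, -⟩ :=
      (X.isBasis_affineOpens).exists_subset_of_mem_open (Set.mem_univ z) isOpen_univ
    exact ⟨V, V.2, hzV, Groth.Agent.Lib.Helper18.OpenPush.finite_meeting_affine j ξ hlf hV⟩
  let SC := EX2.ratCycle δ hX (fun i => j (ξ i)) (fun i => (eκ (ξ i)).symm (f i)) hf' hlf'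
  have hSC0 : Cyc.RatEquivZero δ k SC := EX2.ratCycle_ratEquivZero δ hX _ _ hf' hlf' k hδξ
  refine ⟨SC, ?_, EX2.mem_Zk_of_ratEquivZero δ k SC hSC0, ?_, ?_⟩
  · intro d
    rw [EX2.ratCycle_apply, hsum]
    apply finsum_congr
    intro i
    rw [← Groth.Agent.Lib.Helper18.OpenImm.divFun_eq j δ hX d (ξ i), heκ]
  · intro z hz
    rw [EX2.ratCycle_apply] at hz
    have : ∃ i, Cyc.divFun δ (j (ξ i)) ((eκ (ξ i)).symm (f i)) z ≠ 0 := by
      by_contra hall
      push Not at hall
      exact hz (finsum_eq_zero_of_forall_eq_zero hall)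
    obtain ⟨i, hi⟩ := this
    obtain ⟨hc, -⟩ := Groth.Agent.Lib.Helper18.KF12.divFun_ne_zero δ hi
    exact ⟨ξ i, hS i, hc.1⟩
  · exact ⟨I, fun i => j (ξ i), fun i => (eκ (ξ i)).symm (f i), hδξ, hf', hlf', fun z => rfl,
      fun i => ⟨ξ i, hS i, rfl⟩⟩

/-- the dimension function restricted to an open subscheme is induced from the base -/
theorem deltaCompat_comp_open {Y : Scheme.{u}} (p : X ⟶ Y) (δX : X → ℤ) (δY : Y → ℤ)
    (hδ : Cyc.DeltaCompat p δX δY) :
    Cyc.DeltaCompat (j ≫ p) (fun d => δX (j d)) δY := by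
  intro d
  obtain ⟨n, hn1, hn2⟩ := hδ (j d)
  refine ⟨n, ?_, hn2⟩
  rw [← hn1]
  letI a1 : Algebra (Y.residueField (p (j d))) (X.residueField (j d)) :=
    (p.residueFieldMap (j d)).hom.toAlgebra
  letI a2 : Algebra (Y.residueField (p (j d))) (D.residueField d) :=
    ((j ≫ p).residueFieldMap d).hom.toAlgebra
  change Algebra.trdeg (Y.residueField (p (j d))) (D.residueField d) =
    Algebra.trdeg (Y.residueField (p (j d))) (X.residueField (j d))
  have hbij := Groth.Agent.Lib.Helper18.OpenImm.residueFieldMap_bijective j d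
  let e0 : X.residueField (j d) ≃+* D.residueField d :=
    RingEquiv.ofBijective (j.residueFieldMap d).hom hbij
  let e : X.residueField (j d) ≃ₐ[Y.residueField (p (j d))] D.residueField d :=
    { e0 with
      commutes' := by
        intro r
        change (j.residueFieldMap d).hom ((p.residueFieldMap (j d)).hom r) =
          ((j ≫ p).residueFieldMap d).hom r
        rw [Scheme.residueFieldMap_comp]
        rfl }
  exact e.trdeg_eq.symm

/-- extension by zero of a cycle on a quasi-compact open subscheme -/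
noncomputable def extZero [CompactSpace D] (α : AlgebraicCycle D ℤ) : AlgebraicCycle X ℤ where
  toFun := Function.extend j α 0
  supportWithinDomain' := Set.subset_univ _
  supportLocallyFiniteWithinDomain' := fun z _ => by
    refine ⟨Set.univ, Filter.univ_mem, ?_⟩
    have hfin : (Function.support α).Finite := by
      have := finite_inter_support α Set.univ isCompact_univ
      rwa [Set.univ_inter] at this
    refine (hfin.image j).subset ?_
    rintro x ⟨-, hx⟩
    by_cases hex : ∃ d, j d = x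
    · obtain ⟨d, rfl⟩ := hex
      refine ⟨d, ?_, rfl⟩
      rw [Function.mem_support] at hx ⊢
      rwa [j.isOpenEmbedding.injective.extend_apply] at hx
    · exfalso
      apply hx
      rw [Function.extend_apply' _ _ _ hex]
      rfl

theorem extZero_apply [CompactSpace D] (α : AlgebraicCycle D ℤ) (d : D) :
    extZero j α (j d) = α d :=
  j.isOpenEmbedding.injective.extend_apply _ _ _

theorem extZero_ne_zero [CompactSpace D] (α : AlgebraicCycle D ℤ) (x : X)
    (h : extZero j α x ≠ 0) : ∃ d, j d = x ∧ α d ≠ 0 := by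
  by_cases hex : ∃ d, j d = x
  · obtain ⟨d, rfl⟩ := hex
    rw [extZero_apply] at h
    exact ⟨d, rfl, h⟩
  · exfalso
    apply h
    change Function.extend j α 0 x = 0
    rw [Function.extend_apply' _ _ _ hex]
    rfl

end Push

section Chart

variable {X Y D W : Scheme.{u}} (f : X ⟶ Y) [Flat f] [LocallyOfFiniteType f]
  (δX : X → ℤ) (δY : Y → ℤ) (hX : Cyc.IsSetup X δX) (r : ℕ)
  (hc : ∀ x : X, (∀ y, f y = f x → y ⤳ x → y = x) → δX x = δY (f x) + (r : ℤ))
  (j : D ⟶ X) [IsOpenImmersion j] (ι : W ⟶ Y) [IsOpenImmersion ι] [CompactSpace W]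
  (fW : D ⟶ W) (hsq : j ≫ f = fW ≫ ι) (hpb : ∀ z : X, f z ∈ Set.range ι → z ∈ Set.range j)

include hsq in
theorem sq_apply' (d : D) : f (j d) = ι (fW d) := by
  have h := congrArg (fun φ : D ⟶ Y => (φ : D → Y) d) hsq
  exact h

include hsq in
theorem pullFun_restrict (αW : AlgebraicCycle W ℤ) (d : D) :
    Cyc.pullFun f δX δY r ⇑(extZero ι αW) (j d) =
      Cyc.pullFun fW (fun d => δX (j d)) (fun w => δY (ι w)) r ⇑αW d := by
  rw [FF6.pullFun_eq, FF6.pullFun_eq, sq_apply' f j ι fW hsq d, extZero_apply,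
    AB7.multN_of_sq j ι fW f hsq d]

include hX hc hsq hpb in
/-- **the localisation step** -/
theorem chart (u : D)
    (hgood : Good fW (fun d => δX (j d)) (fun w => δY (ι w)) r u) :
    ∃ (α' : AlgebraicCycle Y ℤ) (γ : AlgebraicCycle X ℤ),
      α' ∈ Cyc.Zk Y δY (δX (j u) - r) ∧ (∀ y, α' y ≠ 0 → f (j u) ⤳ y) ∧
      γ ∈ Cyc.Zk X δX (δX (j u)) ∧ (∀ z, γ z ≠ 0 → f (j u) ⤳ f z ∧ f z ∉ Set.range ι) ∧
      RatEquivZeroIn (f ⁻¹' closure {f (j u)}) δX (δX (j u))
        (fun z => pt (j u) z - Cyc.pullFun f δX δY r ⇑α' z - γ z) := by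
  classical
  obtain ⟨αW, hαZ, hαs, hαR⟩ := hgood
  obtain ⟨SC, hSCj, hSCZ, hSCs, hSCR⟩ := openPush j δX hX (δX (j u)) _ _ hαR
  have hfu : f (j u) = ι (fW u) := sq_apply' f j ι fW hsq u
  -- points of the support of the family lie over the closure of `f x`
  have hS : ∀ d, d ∈ fW ⁻¹' closure {fW u} → f (j u) ⤳ f (j d) := by
    intro d hd
    have hsp : fW u ⤳ fW d := specializes_iff_mem_closure.mpr hd
    rw [hfu, sq_apply' f j ι fW hsq d]
    exact hsp.map ι.continuous
  let α' := extZero ι αW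
  let P := FlatPullC1.pullCycle f δY δX hX r hc α'
  have hP : ∀ z, P z = Cyc.pullFun f δX δY r ⇑α' z := fun _ => rfl
  have hα's : ∀ y, α' y ≠ 0 → f (j u) ⤳ y := by
    intro y hy
    obtain ⟨w, rfl, hw⟩ := extZero_ne_zero ι αW y hy
    rw [hfu]
    exact (hαs w hw).map ι.continuous
  have hα'Z : α' ∈ Cyc.Zk Y δY (δX (j u) - r) := by
    intro y hy
    by_contra hne
    obtain ⟨w, rfl, hw⟩ := extZero_ne_zero ι αW y hne
    exact hw (hαZ w hy)
  let γ : AlgebraicCycle X ℤ := ptCycle (j u) - P - SC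
  have hγ : ∀ z, γ z = pt (j u) z - Cyc.pullFun f δX δY r ⇑α' z - SC z := fun _ => rfl
  have hγj : ∀ d, γ (j d) = 0 := by
    intro d
    rw [hγ, pullFun_restrict f δX δY r j ι fW hsq αW d, hSCj]
    have : pt (j u) (j d) = pt u d := by
      by_cases hd : d = u
      · rw [hd, pt_self, pt_self]
      · rw [pt_ne hd, pt_ne]
        intro e
        exact hd (j.isOpenEmbedding.injective e)
    rw [this]
    ring
  refine ⟨α', γ, hα'Z, hα's, ?_, ?_, ?_⟩
  · intro z hz
    rw [hγ, hSCZ z hz, sub_zero]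
    have h1 : pt (j u) z = 0 := pt_ne (fun e => hz (by rw [e]))
    have h2 : Cyc.pullFun f δX δY r ⇑α' z = 0 := by
      by_contra hne
      obtain ⟨hd, hα⟩ := pullFun_ne_zero' ⇑α' z hne
      apply hz
      have : δY (f z) = δX (j u) - r := by
        by_contra hne2
        exact hα (hα'Z _ hne2)
      rw [hd, this]; ring
    rw [h1, h2, sub_zero]
  · intro z hz
    have hsp : f (j u) ⤳ f z := by
      rw [hγ] at hz
      by_cases h1 : pt (j u) z ≠ 0
      · rw [pt_ne_zero h1]
      · push Not at h1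
        by_cases h2 : Cyc.pullFun f δX δY r ⇑α' z ≠ 0
        · exact hα's _ (pullFun_ne_zero' ⇑α' z h2).2
        · push Not at h2
          rw [h1, h2, sub_zero, zero_sub, neg_ne_zero] at hz
          obtain ⟨d, hd, hdz⟩ := hSCs z hz
          exact (hS d hd).trans (hdz.map f.continuous)
    refine ⟨hsp, ?_⟩
    intro hmem
    obtain ⟨d, rfl⟩ := hpb z hmem
    exact hz (hγj d)
  · refine RatEquivZeroIn.congr (RatEquivZeroIn.mono ?_ hSCR) ?_
    · rintro _ ⟨d, hd, rfl⟩
      exact specializes_iff_mem_closure.mp (hS d hd)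
    · intro z
      change pt (j u) z - Cyc.pullFun f δX δY r ⇑α' z - γ z = SC z
      rw [hγ]
      ring

end Chart

end Groth.Agent.Lib.Helper18.AB12
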