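import Mathlib
import Groth.Prelude.Def_Cyc
import Groth.Agent.Lib.Helper18.AB11
import Groth.Agent.Lib.Helper18.AB12

/-!
# Affine bundles, part 13: the charts of an affine bundle
-/

set_option autoImplicit false
set_option linter.unusedSectionVars false
set_option linter.style.haveILetI false
universe u
open AlgebraicGeometry CategoryTheory TopologicalSpace Limits

namespace Groth.Agent.Lib.Helper18.AB13

variable {X Y : Scheme.{u}} (f : X ⟶ Y) (r : ℕ)

/-- over a smaller affine open, the bundle is `Spec Γ[x₁,…,x_r] → Spec Γ` -/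
theorem exists_model (U V : Y.Opens) (hVU : V ≤ U) (hV : IsAffineOpen V)
    (e : (↑(f ⁻¹ᵁ U) : Scheme.{u}) ≅ 𝔸(ULift.{u} (Fin r); (↑U : Scheme.{u})))
    (he : e.hom ≫ (𝔸(ULift.{u} (Fin r); (↑U : Scheme.{u})) ↘ (↑U : Scheme.{u})) = f ∣_ U) :
    ∃ (Γ : Type u) (_ : CommRing Γ)
      (a : (↑(f ⁻¹ᵁ V) : Scheme.{u}) ⟶ Spec (CommRingCat.of (MvPolynomial (Fin r) Γ)))
      (b : (↑V : Scheme.{u}) ⟶ Spec (CommRingCat.of Γ)), IsIso a ∧ IsIso b ∧
      a ≫ Spec.map (CommRingCat.ofHom (MvPolynomial.C : Γ →+* MvPolynomial (Fin r) Γ)) =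
        f ∣_ V ≫ b := by
  let iVU : (↑V : Scheme.{u}) ⟶ ↑U := Y.homOfLE hVU
  have hι : iVU ≫ U.ι = V.ι := Y.homOfLE_ι hVU
  have t : IsPullback (f ⁻¹ᵁ U).ι (f ∣_ U) f U.ι := (isPullback_morphismRestrict f U).flip
  have s : IsPullback (f ⁻¹ᵁ V).ι (f ∣_ V) f (iVU ≫ U.ι) := by
    rw [hι]; exact (isPullback_morphismRestrict f V).flip
  have P1 := IsPullback.of_right' s t
  have Q : IsPullback e.hom (f ∣_ U)
      (𝔸(ULift.{u} (Fin r); (↑U : Scheme.{u})) ↘ (↑U : Scheme.{u})) (𝟙 _) :=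
    IsPullback.of_horiz_isIso ⟨by rw [he, Category.comp_id]⟩
  have P2 := P1.paste_horiz Q
  rw [Category.comp_id] at P2
  have P3 := AffineSpace.isPullback_map (n := ULift.{u} (Fin r)) iVU
  let c := P2.isoIsPullback _ _ P3
  have hc : c.hom ≫ (𝔸(ULift.{u} (Fin r); (↑V : Scheme.{u})) ↘ (↑V : Scheme.{u})) = f ∣_ V :=
    IsPullback.isoIsPullback_hom_snd _ _ P2 P3
  haveI : IsAffine (↑V : Scheme.{u}) := hV
  let a₂ := AffineSpace.isoOfIsAffine (ULift.{u} (Fin r)) (↑V : Scheme.{u})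
  have ha₂ : a₂.hom ≫ Spec.map (CommRingCat.ofHom MvPolynomial.C) =
      (𝔸(ULift.{u} (Fin r); (↑V : Scheme.{u})) ↘ (↑V : Scheme.{u})) ≫
        (↑V : Scheme.{u}).isoSpec.hom := by
    have h := AffineSpace.isoOfIsAffine_inv_over (n := ULift.{u} (Fin r))
      (S := (↑V : Scheme.{u}))
    rw [← cancel_epi a₂.inv, ← Category.assoc, ← Category.assoc, Iso.inv_hom_id,
      Category.id_comp, h, Category.assoc, Iso.inv_hom_id, Category.comp_id]
  let E := MvPolynomial.renameEquiv Γ((↑V : Scheme.{u}), ⊤)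
    (Equiv.ulift.{u, 0}.symm : Fin r ≃ ULift.{u} (Fin r))
  let a₃ : Spec (CommRingCat.of (MvPolynomial (ULift.{u} (Fin r)) Γ((↑V : Scheme.{u}), ⊤))) ⟶
      Spec (CommRingCat.of (MvPolynomial (Fin r) Γ((↑V : Scheme.{u}), ⊤))) :=
    Spec.map (CommRingCat.ofHom (E : MvPolynomial (Fin r) _ →+* MvPolynomial (ULift.{u} (Fin r)) _))
  haveI : IsIso a₃ :=
    inferInstanceAs (IsIso (Spec.map E.toRingEquiv.toCommRingCatIso.hom))
  have ha₃ : a₃ ≫ Spec.map (CommRingCat.ofHom (MvPolynomial.C :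
      Γ((↑V : Scheme.{u}), ⊤) →+* MvPolynomial (Fin r) Γ((↑V : Scheme.{u}), ⊤))) =
      Spec.map (CommRingCat.ofHom MvPolynomial.C) := by
    rw [← Spec.map_comp]
    congr 1
    apply CommRingCat.hom_ext
    apply RingHom.ext
    intro x
    change E (MvPolynomial.C x) = MvPolynomial.C x
    simp [E]
  refine ⟨Γ((↑V : Scheme.{u}), ⊤), inferInstance, c.hom ≫ a₂.hom ≫ a₃,
    (↑V : Scheme.{u}).isoSpec.hom, inferInstance, inferInstance, ?_⟩
  rw [Category.assoc, Category.assoc, ha₃, ha₂, ← Category.assoc, hc]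

end Groth.Agent.Lib.Helper18.AB13
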