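import Mathlib
import Groth.Prelude.Def_Cyc
import Groth.Agent.Lib.Helper18.AB13

/-!
# Affine bundles, part 14: flat pullback along an affine bundle is surjective on Chow groups
-/

set_option autoImplicit false
set_option linter.unusedSectionVars false
set_option linter.style.haveILetI false
universe u
open AlgebraicGeometry CategoryTheory TopologicalSpace Limits

namespace Groth.Agent.Lib.Helper18.AB14

open Groth.Agent.Lib.Helper18.AB5 Groth.Agent.Lib.Helper18.KF16 Groth.Agent.Lib.Helper18.KF18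
  Groth.Agent.Lib.Helper18.KF27 Groth.Agent.Lib.Helper18.AB8

variable {X Y : Scheme.{u}} (f : X ⟶ Y) [Flat f] [LocallyOfFiniteType f]
  (δX : X → ℤ) (δY : Y → ℤ) (hX : Cyc.IsSetup X δX) (hY : Cyc.IsSetup Y δY) (r : ℕ)
  (hr : Cyc.HasRelDim f r) (hδ : Cyc.DeltaCompat f δX δY)
  (hloc : ∀ y : Y, ∃ U : Y.Opens, y ∈ U ∧
    ∃ e : (↑(f ⁻¹ᵁ U) : Scheme.{u}) ≅ 𝔸(ULift.{u} (Fin r); (↑U : Scheme.{u})),
      e.hom ≫ (𝔸(ULift.{u} (Fin r); (↑U : Scheme.{u})) ↘ (↑U : Scheme.{u})) = f ∣_ U)

include hloc in
theorem quasiCompact_of_loc : QuasiCompact f := by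
  choose U hyU e he using hloc
  have hsup : ⨆ y, U y = ⊤ := by
    rw [eq_top_iff]
    intro y _
    exact Opens.mem_iSup.mpr ⟨y, hyU y⟩
  rw [IsZariskiLocalAtTarget.iff_of_iSup_eq_top (P := @QuasiCompact) U hsup]
  intro y
  rw [← he y]
  infer_instance

include hX hY hr hδ hloc in
/-- every point of an affine bundle is good -/
theorem good_all (x : X) : Good f δX δY r x := by
  classical
  haveI : QuasiCompact f := quasiCompact_of_loc f r hloc
  have hc : ∀ x : X, (∀ y, f y = f x → y ⤳ x → y = x) → δX x = δY (f x) + (r : ℤ) :=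
    fun x hmax => RelDimShift.shift_of_hasRelDim f δX δY r hr hδ x hmax
  have hle : ∀ z, δX z ≤ δY (f z) + r := fun z =>
    (FlatShift.delta_le_of_shift f δY δX hX.2.2 r hc z).1
  have key : ∀ m : ℕ, ∀ x, δY (f x) + r - δX x < m → Good f δX δY r x := by
    intro m
    induction m with
    | zero =>
      intro x hx
      have := hle x
      push_cast at hx
      omega
    | succ m IH =>
      intro x hx
      obtain ⟨U, hyU, e, he⟩ := hloc (f x)
      obtain ⟨V, hV, hxV, hVU⟩ := exists_isAffineOpen_mem_and_subset (x := f x) (U := U) hyU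
      obtain ⟨Γ, _, a, b, ha, hb, hsq⟩ := AB13.exists_model f r U V hVU hV e he
      haveI := ha
      haveI := hb
      have hsqf : (f ⁻¹ᵁ V).ι ≫ f = f ∣_ V ≫ V.ι := (morphismRestrict_ι f V).symm
      let δD : (↑(f ⁻¹ᵁ V) : Scheme.{u}) → ℤ := fun d => δX ((f ⁻¹ᵁ V).ι d)
      let δW : (↑V : Scheme.{u}) → ℤ := fun w => δY (V.ι w)
      have hW : Cyc.IsSetup (↑V : Scheme.{u}) δW :=
        Groth.Agent.Lib.Helper18.OpenImm.isSetup V.ι δY hY
      have hδW : Cyc.DeltaCompat (f ∣_ V) δD δW := by
        have h1 := AB12.deltaCompat_comp_open (f ⁻¹ᵁ V).ι f δX δY hδ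
        rw [hsqf] at h1
        exact FF8.deltaCompat_cancel (f ∣_ V) V.ι δD δW δY h1
          (Groth.Agent.Lib.Helper18.OpenImm.deltaCompat V.ι δY)
      let u : (↑(f ⁻¹ᵁ V) : Scheme.{u}) := ⟨x, hxV⟩
      have hju : (f ⁻¹ᵁ V).ι u = x := rfl
      have hgoodW : Good (f ∣_ V) δD δW r u := by
        obtain ⟨-, hlft, -, -⟩ := AB11.IsTower.props r (AB11.isTower_mvPolynomial Γ r)
        let δX₁ : Spec (CommRingCat.of (MvPolynomial (Fin r) Γ)) → ℤ := fun x₁ => δD (inv a x₁)
        let δY₁ : Spec (CommRingCat.of Γ) → ℤ := fun y₁ => δW (inv b y₁)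
        have hY₁ : Cyc.IsSetup _ δY₁ := Groth.Agent.Lib.Helper18.OpenImm.isSetup (inv b) δW hW
        have hδ₁ : Cyc.DeltaCompat
            (Spec.map (CommRingCat.ofHom (MvPolynomial.C : Γ →+* MvPolynomial (Fin r) Γ)))
            δX₁ δY₁ := AB10.deltaCompat_of_sq a b (f ∣_ V) _ hsq δD δW hδW
        have hX₁ : Cyc.IsSetup _ δX₁ :=
          SetupLft.isSetup_of_locallyOfFiniteType _ δY₁ hY₁ δX₁ hδ₁
        have h1 := AB11.good_of_isTower r (AB11.isTower_mvPolynomial Γ r) δX₁ δY₁ hY₁ hδ₁ (a u)
        have h2 := AB10.good_of_sq a b (f ∣_ V) _ hsq δX₁ δY₁ hX₁ r u h1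
        have e1 : (fun x => δX₁ (a x)) = δD := funext (fun x => by
          simp only [δX₁]; rw [AB10.inv_apply_apply])
        have e2 : (fun y => δY₁ (b y)) = δW := funext (fun y => by
          simp only [δY₁]; rw [AB10.inv_apply_apply])
        rwa [e1, e2] at h2
      haveI : CompactSpace (↑V : Scheme.{u}) := isCompact_iff_compactSpace.mp hV.isCompact
      have hpb : ∀ z : X, f z ∈ Set.range V.ι → z ∈ Set.range (f ⁻¹ᵁ V).ι := by
        intro z hz
        rw [Scheme.Opens.range_ι] at hz ⊢
        exact hz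
      obtain ⟨α', γ, hα'Z, hα's, hγZ, hγs, hR⟩ :=
        AB12.chart f δX δY hX r hc (f ⁻¹ᵁ V).ι V.ι (f ∣_ V) hsqf hpb u hgoodW
      rw [hju] at hα'Z hα's hγZ hγs hR
      have hγδ : ∀ z, γ z ≠ 0 → δX z = δX x := by
        intro z hz
        by_contra hne
        exact hz (hγZ z hne)
      have hgood' : ∀ z, γ z ≠ 0 → Good f δX δY r z := by
        intro z hz
        apply IH
        obtain ⟨hsp, hnot⟩ := hγs z hz
        rw [Scheme.Opens.range_ι] at hnot
        have hne : f x ≠ f z := by
          intro e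
          apply hnot
          rw [← e]
          exact hxV
        have hlt := (hY.2.2 _ _ hsp hne).1
        rw [hγδ z hz]
        push_cast at hx
        omega
      have hT : ∀ z, γ z ≠ 0 → closure {f z} ⊆ closure {f x} := by
        intro z hz
        exact closure_minimal (Set.singleton_subset_iff.mpr
          (specializes_iff_mem_closure.mp (hγs z hz).1)) isClosed_closure
      obtain ⟨α₂, hα₂Z, hα₂s, hR₂⟩ := glue (f := f) (δY := δY) (r := r) hX (δX x) γ hγZ
        (closure {f x}) hT hgood'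
      refine ⟨α' + α₂, ?_, ?_, ?_⟩
      · intro y hy
        change α' y + α₂ y = 0
        rw [hα'Z y hy, hα₂Z y hy, add_zero]
      · intro y hy
        by_cases h1 : α' y ≠ 0
        · exact hα's y h1
        · push Not at h1
          have h2 : α₂ y ≠ 0 := by
            intro h2
            apply hy
            change α' y + α₂ y = 0
            rw [h1, h2, add_zero]
          exact specializes_iff_mem_closure.mpr (hα₂s y h2)
      · refine RatEquivZeroIn.congr (RatEquivZeroIn.add hR hR₂) ?_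
        intro z
        have e1 := FF6.pullFun_eq f δY δX r ⇑(α' + α₂) z
        have e2 := FF6.pullFun_eq f δY δX r ⇑α' z
        have e3 := FF6.pullFun_eq f δY δX r ⇑α₂ z
        change pt x z - Cyc.pullFun f δX δY r ⇑(α' + α₂) z =
          (pt x z - Cyc.pullFun f δX δY r ⇑α' z - γ z) +
            (γ z - Cyc.pullFun f δX δY r ⇑α₂ z)
        rw [e1, e2, e3]
        by_cases hd : δX z = δY (f z) + r
        · rw [if_pos hd, if_pos hd, if_pos hd]
          change pt x z - (α' (f z) + α₂ (f z)) * _ = _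
          ring
        · rw [if_neg hd, if_neg hd, if_neg hd]
          ring
  have hbound : δY (f x) + r - δX x < ((δY (f x) + r - δX x).toNat + 1 : ℕ) := by
    have := hle x
    push_cast
    omega
  exact key _ x hbound

include hX hY hr hδ hloc in
/-- **affine bundles**: flat pullback is surjective on Chow groups -/
theorem surj : Surj f δX δY r := by
  haveI : QuasiCompact f := quasiCompact_of_loc f r hloc
  exact surj_of_good hX hr hδ (good_all f δX δY hX hY r hr hδ hloc)

end Groth.Agent.Lib.Helper18.AB14
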