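import Mathlib
import Groth.Agent.Lib.Helper18.AL2

/-! # The zero section of affine space (helper18) -/

set_option autoImplicit false
universe u

open CategoryTheory CategoryTheory.Limits AlgebraicGeometry TopologicalSpace Opposite Function

namespace Groth.Agent.Lib.Helper18.AL3

variable {n : Type u} (S : Scheme.{u})

/-- the zero section -/
noncomputable def zeroSec : S ⟶ 𝔸(n; S) := AffineSpace.homOfVector (𝟙 S) (fun _ => 0)

@[reassoc (attr := simp)]
theorem zeroSec_over : zeroSec (n := n) S ≫ (𝔸(n; S) ↘ S) = 𝟙 S :=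
  AffineSpace.homOfVector_over _ _

@[simp]
theorem zeroSec_appTop_coord (i : n) :
    (zeroSec (n := n) S).appTop (AffineSpace.coord S i) = 0 :=
  AffineSpace.homOfVector_appTop_coord _ _ i

instance : IsClosedImmersion (zeroSec (n := n) S) := by
  haveI : IsClosedImmersion (zeroSec (n := n) S ≫ (𝔸(n; S) ↘ S)) := by
    rw [zeroSec_over]; infer_instance
  exact IsClosedImmersion.of_comp (zeroSec (n := n) S) (𝔸(n; S) ↘ S)

/-- ideal sheaf generated by the coordinates -/
noncomputable def coordIdeal : (𝔸(n; S)).IdealSheafData :=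
  Scheme.IdealSheafData.ofIdealTop (Ideal.span (Set.range (AffineSpace.coord (n := n) S)))

theorem app_res_coord_eq_zero {T : Scheme.{u}} (f : T ⟶ 𝔸(n; S))
    (h : ∀ i, f.appTop (AffineSpace.coord S i) = 0) (U : (𝔸(n; S)).Opens) (i : n) :
    (f.app U).hom (((𝔸(n; S)).presheaf.map (homOfLE le_top).op).hom (AffineSpace.coord S i)) =
      0 := by
  have h1 := f.naturality (homOfLE (le_top : U ≤ ⊤)).op
  have h2 := congrArg (fun k => k.hom (AffineSpace.coord S i)) h1
  simp only [CommRingCat.hom_comp, RingHom.coe_comp, Function.comp_apply] at h2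
  rw [h2]
  have h3 : (f.app ⊤).hom (AffineSpace.coord S i) = 0 := h i
  rw [h3, map_zero]

theorem coordIdeal_le_ker {T : Scheme.{u}} (f : T ⟶ 𝔸(n; S)) [QuasiCompact f]
    (h : ∀ i, f.appTop (AffineSpace.coord S i) = 0) : coordIdeal (n := n) S ≤ f.ker := by
  intro U
  rw [Scheme.Hom.ker_apply, coordIdeal, Scheme.IdealSheafData.ofIdealTop_ideal,
    Ideal.map_le_iff_le_comap, Ideal.span_le]
  rintro _ ⟨i, rfl⟩
  rw [SetLike.mem_coe, Ideal.mem_comap, RingHom.mem_ker]
  exact app_res_coord_eq_zero S f h U.1 i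

/-- the closed subscheme cut out by the coordinates -/
noncomputable abbrev Zc : Scheme.{u} := (coordIdeal (n := n) S).subscheme

/-- its inclusion -/
noncomputable abbrev iZ : Zc (n := n) S ⟶ 𝔸(n; S) := (coordIdeal (n := n) S).subschemeι

theorem iZ_appTop_coord (i : n) : (iZ (n := n) S).appTop (AffineSpace.coord S i) = 0 := by
  refine TopCat.Presheaf.section_ext (Zc (n := n) S).sheaf ⊤ _ _ ?_
  intro x _
  obtain ⟨U, hU, hxU, -⟩ := AlgebraicGeometry.exists_isAffineOpen_mem_and_subset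
    (x := iZ (n := n) S x) (U := ⊤) trivial
  have hxU' : x ∈ (iZ (n := n) S) ⁻¹ᵁ U := hxU
  have h1 := (iZ (n := n) S).naturality (homOfLE (le_top : U ≤ ⊤)).op
  have h2 := congrArg (fun k => k.hom (AffineSpace.coord S i)) h1
  simp only [CommRingCat.hom_comp, RingHom.coe_comp, Function.comp_apply] at h2
  have h3 : ((iZ (n := n) S).app U).hom
      (((𝔸(n; S)).presheaf.map (homOfLE le_top).op).hom (AffineSpace.coord S i)) = 0 := by
    rw [← RingHom.mem_ker, Scheme.IdealSheafData.ker_subschemeι_app _ ⟨U, hU⟩, coordIdeal,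
      Scheme.IdealSheafData.ofIdealTop_ideal]
    exact Ideal.mem_map_of_mem _ (Ideal.subset_span ⟨i, rfl⟩)
  rw [h3] at h2
  have h4 := (Zc (n := n) S).presheaf.germ_res_apply
    (homOfLE (le_top : (iZ (n := n) S) ⁻¹ᵁ U ≤ ⊤)) x hxU'
    ((iZ (n := n) S).appTop (AffineSpace.coord S i))
  have h5 : ((Zc (n := n) S).presheaf.map (homOfLE (le_top : (iZ (n := n) S) ⁻¹ᵁ U ≤ ⊤)).op).hom
      ((iZ (n := n) S).appTop (AffineSpace.coord S i)) = 0 := h2.symm
  refine Eq.trans h4.symm ?_
  refine Eq.trans (congrArg _ h5) ?_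
  rw [map_zero]
  exact (map_zero _).symm

/-- the lift of the zero section to `Zc` -/
noncomputable def σ' : S ⟶ Zc (n := n) S :=
  IsClosedImmersion.lift (iZ (n := n) S) (zeroSec (n := n) S) (by
    rw [Scheme.IdealSheafData.ker_subschemeι]
    exact coordIdeal_le_ker S _ (zeroSec_appTop_coord S))

@[reassoc (attr := simp)]
theorem σ'_fac : σ' (n := n) S ≫ iZ (n := n) S = zeroSec (n := n) S :=
  IsClosedImmersion.lift_fac _ _ _

theorem iZ_retract : iZ (n := n) S ≫ (𝔸(n; S) ↘ S) ≫ zeroSec (n := n) S = iZ (n := n) S := by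
  refine AffineSpace.hom_ext ?_ ?_
  · simp only [Category.assoc, zeroSec_over, Category.comp_id]
  · intro i
    rw [iZ_appTop_coord]
    simp only [Scheme.Hom.comp_appTop, CommRingCat.hom_comp, RingHom.coe_comp,
      Function.comp_apply]
    have : ((zeroSec (n := n) S).appTop).hom (AffineSpace.coord S i) = 0 :=
      zeroSec_appTop_coord S i
    rw [this, map_zero, map_zero]

instance : IsIso (σ' (n := n) S) := by
  refine ⟨iZ (n := n) S ≫ (𝔸(n; S) ↘ S), ?_, ?_⟩
  · rw [σ'_fac_assoc, zeroSec_over]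
  · rw [← cancel_mono (iZ (n := n) S), Category.assoc, Category.assoc, σ'_fac, iZ_retract,
      Category.id_comp]

theorem ker_zeroSec : (zeroSec (n := n) S).ker = coordIdeal (n := n) S := by
  rw [← σ'_fac, Scheme.Hom.ker_comp_of_isIso, Scheme.IdealSheafData.ker_subschemeι]

theorem range_zeroSec :
    Set.range (zeroSec (n := n) S) = ((coordIdeal (n := n) S).support : Set 𝔸(n; S)) := by
  rw [← Scheme.IdealSheafData.range_subschemeι, ← σ'_fac]
  ext x
  constructor
  · rintro ⟨s, rfl⟩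
    exact ⟨σ' (n := n) S s, rfl⟩
  · rintro ⟨z, rfl⟩
    refine ⟨inv (σ' (n := n) S) z, ?_⟩
    rw [Scheme.Hom.comp_apply, ← Scheme.Hom.comp_apply (inv (σ' (n := n) S)), IsIso.inv_hom_id]
    rfl

end Groth.Agent.Lib.Helper18.AL3
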