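import Mathlib
import Groth.Prelude.Def_C1
import Groth.Agent.Lib.Helper18.LocStalk2
import Groth.Agent.Lib.Helper18.SecDiv
import Groth.Agent.Lib.Helper18.RelAlg
import Groth.Agent.Lib.Helper18.ModGenSum
import Groth.Agent.Lib.Helper29.QCohBasic

/-!
# The stalk of a quasi-coherent module at a generization is a localization of the stalk
-/

set_option autoImplicit false
set_option linter.style.haveILetI false
universe u
open CategoryTheory AlgebraicGeometry TopologicalSpace

namespace Groth.Agent.Lib.Helper18.ModStalkLoc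

open Groth.Agent.Lib.Helper29.QCoh Groth.Agent.Lib.Helper18.LocStalk

variable {X : Scheme.{u}}

/-- `F_ξ` as a module over `O_{X,x}` for a generization `ξ ⤳ x` -/
noncomputable abbrev modSpec (F : X.Modules) (x ξ : X) (h : ξ ⤳ x) :
    Module (X.presheaf.stalk x) (F.presheaf.stalk ξ) :=
  Module.compHom _ (X.presheaf.stalkSpecializes h).hom

/-- the cospecialization map `F_x → F_ξ` as an `O_{X,x}`-linear map -/
noncomputable def specₗ (F : X.Modules) (x ξ : X) (h : ξ ⤳ x) :
    letI := modSpec F x ξ h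
    F.presheaf.stalk x →ₗ[X.presheaf.stalk x] F.presheaf.stalk ξ :=
  letI := modSpec F x ξ h
  { toFun := fun m => F.presheaf.stalkSpecializes h m
    map_add' := fun a b => map_add _ a b
    map_smul' := fun r m => Groth.Agent.Lib.Helper18.SecDiv.stalkSpecializes_smul F h r m }

theorem germ_notMem_ker {V : X.Opens} (x ξ : X) (h : ξ ⤳ x) (hx : x ∈ V) (a : Γ(X, V))
    (ha : ξ ∈ X.basicOpen a) :
    X.presheaf.germ V x hx a ∉ RingHom.ker (Cyc.specMap x ξ h) := by
  rw [mem_ker_specMap_iff, not_not]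
  have hξ : ξ ∈ V := h.mem_open V.2 hx
  have e : (X.presheaf.stalkSpecializes h).hom (X.presheaf.germ V x hx a) =
      X.presheaf.germ V ξ hξ a :=
    TopCat.Presheaf.germ_stalkSpecializes_apply X.presheaf hx h a
  rw [e]
  exact (Scheme.mem_basicOpen _ _ _ hξ).mp ha

/-- `F_ξ` is the localization of `F_x` at the prime of `ξ` -/
theorem isLocalizedModule_specₗ (F : X.Modules) [F.IsQuasicoherent] (x ξ : X) (h : ξ ⤳ x) :
    letI := modSpec F x ξ h
    IsLocalizedModule (RingHom.ker (Cyc.specMap x ξ h)).primeCompl (specₗ F x ξ h) := by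
  letI := modSpec F x ξ h
  obtain ⟨_, ⟨V, hV : IsAffineOpen V, rfl⟩, hxV, -⟩ :=
    X.isBasis_affineOpens.exists_subset_of_mem_open (Set.mem_univ x) isOpen_univ
  have hξV : ξ ∈ V := h.mem_open V.2 hxV
  have hsm : ∀ (r : X.presheaf.stalk x) (m : F.presheaf.stalk ξ),
      r • m = (X.presheaf.stalkSpecializes h).hom r • m := fun _ _ => rfl
  have hsp : ∀ m : Γ(F, V), specₗ F x ξ h (F.presheaf.germ V x hxV m) = F.presheaf.germ V ξ hξV m :=
    fun m => TopCat.Presheaf.germ_stalkSpecializes_apply F.presheaf hxV h m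
  have hspr : ∀ a : Γ(X, V), (X.presheaf.stalkSpecializes h).hom (X.presheaf.germ V x hxV a) =
      X.presheaf.germ V ξ hξV a :=
    fun a => TopCat.Presheaf.germ_stalkSpecializes_apply X.presheaf hxV h a
  refine ⟨fun s => ?_, fun y => ?_, fun {m₁ m₂} he => ?_⟩
  · have hs : IsUnit ((X.presheaf.stalkSpecializes h).hom s.1) := by
      have := s.2
      change s.1 ∉ RingHom.ker (Cyc.specMap x ξ h) at this
      rwa [mem_ker_specMap_iff, not_not] at this
    rw [Module.End.isUnit_iff]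
    obtain ⟨u, hu⟩ := hs
    refine ⟨fun a b hab => ?_, fun b => ⟨(↑u⁻¹ : X.presheaf.stalk ξ) • b, ?_⟩⟩
    · have hab' : (X.presheaf.stalkSpecializes h).hom s.1 • a =
          (X.presheaf.stalkSpecializes h).hom s.1 • b := hab
      rw [← hu] at hab'
      have := congrArg (fun z => (↑u⁻¹ : X.presheaf.stalk ξ) • z) hab'
      simpa [smul_smul] using this
    · change (X.presheaf.stalkSpecializes h).hom s.1 • ((↑u⁻¹ : X.presheaf.stalk ξ) • b) = b
      rw [← hu, smul_smul, Units.mul_inv, one_smul]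
  · obtain ⟨r, m, hr, hrm⟩ := exists_smul_germ_eq F hV ξ hξV y
    refine ⟨⟨F.presheaf.germ V x hxV m, ⟨X.presheaf.germ V x hxV r, ?_⟩⟩, ?_⟩
    · exact germ_notMem_ker x ξ h hxV r hr
    · change X.presheaf.germ V x hxV r • y = specₗ F x ξ h (F.presheaf.germ V x hxV m)
      rw [hsp, hsm, hspr, hrm]
  · obtain ⟨b₁, n₁, hb₁, e₁⟩ := exists_smul_germ_eq F hV x hxV m₁
    obtain ⟨b₂, n₂, hb₂, e₂⟩ := exists_smul_germ_eq F hV x hxV m₂
    have hb₁ξ : ξ ∈ X.basicOpen b₁ := h.mem_open (X.basicOpen b₁).2 hb₁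
    have hb₂ξ : ξ ∈ X.basicOpen b₂ := h.mem_open (X.basicOpen b₂).2 hb₂
    -- compare at `ξ`
    have hz : F.presheaf.germ V ξ hξV (b₂ • n₁ - b₁ • n₂) = 0 := by
      rw [map_sub, germ_smul, germ_smul, ← hsp n₁, ← hsp n₂, ← e₁, ← e₂, ← hspr, ← hspr,
        ← hsm, ← hsm, ← map_smul, ← map_smul, smul_smul, smul_smul, map_smul, map_smul, he,
        mul_comm, sub_self]
    obtain ⟨a, ha, haz⟩ := exists_smul_eq_zero_of_germ_eq_zero F hV ξ hξV _ hz
    refine ⟨⟨X.presheaf.germ V x hxV (a * b₁ * b₂), ?_⟩, ?_⟩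
    · apply germ_notMem_ker x ξ h hxV
      rw [Scheme.basicOpen_mul, Scheme.basicOpen_mul]
      exact ⟨⟨ha, hb₁ξ⟩, hb₂ξ⟩
    · change X.presheaf.germ V x hxV (a * b₁ * b₂) • m₁ = X.presheaf.germ V x hxV (a * b₁ * b₂) • m₂
      have hx0 := congrArg (F.presheaf.germ V x hxV) haz
      rw [map_zero, germ_smul, map_sub, germ_smul, germ_smul, ← e₁, ← e₂, smul_sub, sub_eq_zero,
        smul_smul, smul_smul, smul_smul, smul_smul] at hx0
      rw [map_mul, map_mul]
      have c1 : X.presheaf.germ V x hxV a * X.presheaf.germ V x hxV b₁ * X.presheaf.germ V x hxV b₂ =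
          X.presheaf.germ V x hxV a * X.presheaf.germ V x hxV b₂ * X.presheaf.germ V x hxV b₁ := by
        ring
      rw [c1] at hx0 ⊢
      rw [hx0]

/-- `ℓ((F_x)_𝔭) = ℓ_{O_ξ}(F_ξ)` -/
theorem length_localizedModule_stalk (F : X.Modules) [F.IsQuasicoherent] (x ξ : X) (h : ξ ⤳ x) :
    haveI : (RingHom.ker (Cyc.specMap x ξ h)).IsPrime := RingHom.ker_isPrime _
    Module.length (Localization.AtPrime (RingHom.ker (Cyc.specMap x ξ h)))
      (LocalizedModule (RingHom.ker (Cyc.specMap x ξ h)).primeCompl (F.presheaf.stalk x)) =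
      Module.length (X.presheaf.stalk ξ) (F.presheaf.stalk ξ) := by
  letI := (X.presheaf.stalkSpecializes h).hom.toAlgebra
  haveI hq : (RingHom.ker (Cyc.specMap x ξ h)).IsPrime := RingHom.ker_isPrime _
  haveI := isLocalization_stalkSpecializes x ξ h
  letI := modSpec F x ξ h
  haveI : IsScalarTower (X.presheaf.stalk x) (X.presheaf.stalk ξ) (F.presheaf.stalk ξ) :=
    IsScalarTower.of_algebraMap_smul fun _ _ => rfl
  haveI : IsLocalizedModule (RingHom.ker (Cyc.specMap x ξ h)).primeCompl (specₗ F x ξ h) :=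
    isLocalizedModule_specₗ F x ξ h
  exact Groth.Agent.Lib.Helper18.RelAlg.length_localizedModule (S := X.presheaf.stalk ξ)
    (RingHom.ker (Cyc.specMap x ξ h)) (specₗ F x ξ h)

end Groth.Agent.Lib.Helper18.ModStalkLoc
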