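import Mathlib
import Groth.Prelude.Def_C1
import Groth.Agent.Lib.Helper18.PullStalk
import Groth.Agent.Lib.Helper18.PushStalk

/-!
# Stalks of the pullback of a module along a closed immersion cut out by one equation
-/

set_option autoImplicit false
set_option linter.style.haveILetI false
universe u
open CategoryTheory AlgebraicGeometry TopologicalSpace TensorProduct
open scoped Pointwise

namespace Groth.Agent.Lib.Helper18.ClImmStalk

section Alg

variable {A B : Type u} [CommRing A] [CommRing B] [Algebra A B]

/-- `ℓ_B(B ⊗_A M) = ℓ_A(M/fM)` when `A → B` is surjective with kernel `(f)` -/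
theorem length_tensor_of_surjective (hs : Function.Surjective (algebraMap A B))
    (M : Type u) [AddCommGroup M] [Module A M] (f : A)
    (hf : RingHom.ker (algebraMap A B) = Ideal.span {f}) :
    Module.length B (B ⊗[A] M) = Module.length A (M ⧸ f • (⊤ : Submodule A M)) := by
  have h1 : Module.length A (B ⊗[A] M) = Module.length B (B ⊗[A] M) :=
    Groth.Agent.Lib.Helper18.PushStalk.length_eq_of_semilinear_bijective (algebraMap A B) hs
      (AddMonoidHom.id _) Function.bijective_id (fun r m => (algebraMap_smul B r m).symm)
  rw [← h1]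
  have hs' : Function.Surjective (Algebra.linearMap A B) := hs
  let I : Ideal A := LinearMap.ker (Algebra.linearMap A B)
  have hI : I = Ideal.span {f} := by
    rw [← hf]
    ext r
    simp only [I, LinearMap.mem_ker, Algebra.linearMap_apply, RingHom.mem_ker]
  let e0 : (A ⧸ I) ≃ₗ[A] B := (Algebra.linearMap A B).quotKerEquivOfSurjective hs'
  let e1 : B ⊗[A] M ≃ₗ[A] (A ⧸ I) ⊗[A] M := LinearEquiv.rTensor M e0.symm
  let e2 : (A ⧸ I) ⊗[A] M ≃ₗ[A] M ⧸ (I • (⊤ : Submodule A M)) :=
    TensorProduct.quotTensorEquivQuotSMul M I
  have h3 : I • (⊤ : Submodule A M) = f • (⊤ : Submodule A M) := by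
    rw [hI, Submodule.ideal_span_singleton_smul]
  rw [(e1.trans e2).length_eq]
  exact (Submodule.quotEquivOfEq _ _ h3).length_eq

end Alg

/-- the length of the stalk of `i^*F` at `d` for a closed immersion cut out at `i d` by `f` -/
theorem length_stalk_pullback {D X : Scheme.{u}} (i : D ⟶ X) [IsClosedImmersion i]
    (F : X.Modules) (d : D) (f : X.presheaf.stalk (i d))
    (hf : RingHom.ker (i.stalkMap d).hom = Ideal.span {f}) :
    Module.length (D.presheaf.stalk d) (((Scheme.Modules.pullback i).obj F).presheaf.stalk d) =
      Module.length (X.presheaf.stalk (i d)) (F.presheaf.stalk (i d) ⧸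
        f • (⊤ : Submodule (X.presheaf.stalk (i d)) (F.presheaf.stalk (i d)))) := by
  letI := (i.stalkMap d).hom.toAlgebra
  rw [(Groth.Agent.Lib.Helper18.PullStalk.stalkPullbackEquiv i F d).length_eq]
  exact length_tensor_of_surjective (i.stalkMap_surjective d) _ f hf

end Groth.Agent.Lib.Helper18.ClImmStalk
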