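import Mathlib
import Groth.Agent.Lib.Helper18.FF5

/-!
# Perfect closure, part 1: `E ⊗[k] K` for a purely inseparable extension `E/k`
-/

set_option autoImplicit false
set_option linter.unusedSectionVars false
set_option linter.style.haveILetI false
universe u
open TensorProduct

namespace Groth.Agent.Lib.Helper18.PC1

section Basic

variable (k : Type u) [Field k] (p : ℕ) [ExpChar k p] (K : Type u) [Field K] [Algebra k K]
  (E : Type u) [Field E] [Algebra k E]

theorem includeLeft_inj : Function.Injective (algebraMap E (E ⊗[k] K)) :=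
  Algebra.TensorProduct.includeLeft_injective (S := E) (algebraMap k K).injective

instance nontrivial_tensor : Nontrivial (E ⊗[k] K) :=
  (includeLeft_inj k K E).nontrivial

theorem expChar_tensor : ExpChar (E ⊗[k] K) p := by
  haveI : ExpChar E p := expChar_of_injective_algebraMap (algebraMap k E).injective p
  exact expChar_of_injective_algebraMap (includeLeft_inj k K E) p

variable [IsPurelyInseparable k E]

/-- every element of `E ⊗[k] K` has a `p`-power power in `K` -/
theorem pow_mem (b : E ⊗[k] K) : ∃ (n : ℕ) (a : K), b ^ p ^ n = 1 ⊗ₜ[k] a := by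
  haveI := expChar_tensor k p K E
  induction b using TensorProduct.induction_on with
  | zero => exact ⟨0, 0, by simp⟩
  | tmul c a =>
    obtain ⟨n, y, hy⟩ := IsPurelyInseparable.pow_mem k p c
    refine ⟨n, y • a ^ p ^ n, ?_⟩
    rw [Algebra.TensorProduct.tmul_pow, ← hy, Algebra.algebraMap_eq_smul_one,
      TensorProduct.smul_tmul]
  | add b b' hb hb' =>
    obtain ⟨n, a, ha⟩ := hb
    obtain ⟨n', a', ha'⟩ := hb'
    refine ⟨n + n', a ^ p ^ n' + a' ^ p ^ n, ?_⟩
    rw [add_pow_expChar_pow, TensorProduct.tmul_add]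
    congr 1
    · rw [pow_add, pow_mul, ha, Algebra.TensorProduct.tmul_pow, one_pow]
    · rw [add_comm n n', pow_add, pow_mul, ha', Algebra.TensorProduct.tmul_pow, one_pow]

theorem isUnit_one_tmul (a : K) (ha : a ≠ 0) : IsUnit ((1 : E) ⊗ₜ[k] a) := by
  refine IsUnit.of_mul_eq_one ((1 : E) ⊗ₜ[k] a⁻¹) ?_
  rw [Algebra.TensorProduct.tmul_mul_tmul, mul_one, mul_inv_cancel₀ ha]
  rfl

include p in
theorem isUnit_or_isNilpotent (b : E ⊗[k] K) : IsUnit b ∨ IsNilpotent b := by
  obtain ⟨n, a, ha⟩ := pow_mem k p K E b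
  by_cases h0 : a = 0
  · right
    refine ⟨p ^ n, ?_⟩
    rw [ha, h0, TensorProduct.tmul_zero]
  · left
    have hu : IsUnit (b ^ p ^ n) := ha ▸ isUnit_one_tmul k K E a h0
    have hp : p ^ n ≠ 0 := by
      have : p ≠ 0 := by
        rcases ‹ExpChar k p› with _ | hp
        · exact one_ne_zero
        · exact hp.ne_zero
      exact pow_ne_zero _ this
    exact (isUnit_pow_iff hp).mp hu

include p in
theorem isLocalRing_tensor : IsLocalRing (E ⊗[k] K) := by
  refine IsLocalRing.of_isUnit_or_isUnit_one_sub_self ?_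
  intro b
  rcases isUnit_or_isNilpotent k p K E b with h | h
  · exact Or.inl h
  · exact Or.inr h.isUnit_one_sub

end Basic

end Groth.Agent.Lib.Helper18.PC1
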