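import Mathlib
import Groth.Agent.Lib.Helper18.PC1

/-!
# Perfect closure, part 2: the length of `E ⊗[k] K` is a power of `p`
-/

set_option autoImplicit false
set_option linter.unusedSectionVars false
set_option linter.style.haveILetI false
universe u
open TensorProduct

namespace Groth.Agent.Lib.Helper18.PC2

open Groth.Agent.Lib.Helper18.PC1

section Tower

variable (k : Type u) [Field k] (p : ℕ) [ExpChar k p] (K : Type u) [Field K] [Algebra k K]
  (E₁ E : Type u) [Field E₁] [Field E] [Algebra k E₁] [Algebra k E] [Algebra E₁ E]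
  [IsScalarTower k E₁ E]

/-- the canonical map `E₁ ⊗ K → E ⊗ K` -/
noncomputable def ι : E₁ ⊗[k] K →ₐ[k] E ⊗[k] K :=
  Algebra.TensorProduct.map (IsScalarTower.toAlgHom k E₁ E) (AlgHom.id k K)

theorem ι_tmul (c : E₁) (a : K) : ι k K E₁ E (c ⊗ₜ a) = algebraMap E₁ E c ⊗ₜ a := rfl

theorem flat_ι : (ι k K E₁ E).toRingHom.Flat := by
  letI alg : Algebra (E₁ ⊗[k] K) (E ⊗[k] K) := (ι k K E₁ E).toRingHom.toAlgebra
  haveI st : IsScalarTower E₁ (E₁ ⊗[k] K) (E ⊗[k] K) := IsScalarTower.of_algebraMap_eq (fun c => by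
    change algebraMap E₁ (E ⊗[k] K) c = ι k K E₁ E (algebraMap E₁ (E₁ ⊗[k] K) c)
    rw [Algebra.TensorProduct.algebraMap_apply, Algebra.TensorProduct.algebraMap_apply, ι_tmul]
    simp)
  have hP : Algebra.IsPushout E₁ E (E₁ ⊗[k] K) (E ⊗[k] K) :=
    Algebra.IsPushout.tensorProduct_tensorProduct k K E₁ E (by
      ext a
      change ι k K E₁ E ((1 : E₁) ⊗ₜ a) = (1 : E) ⊗ₜ a
      rw [ι_tmul, map_one])
  have hP' : Algebra.IsPushout E₁ (E₁ ⊗[k] K) E (E ⊗[k] K) := hP.symm
  exact Module.Flat.isBaseChange E₁ (E₁ ⊗[k] K) E (E ⊗[k] K) hP'.out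

variable [IsPurelyInseparable k E]

include p in
theorem isLocalHom_ι : IsLocalHom (ι k K E₁ E).toRingHom := by
  haveI : IsPurelyInseparable k E₁ := IsPurelyInseparable.tower_bot k E₁ E
  constructor
  intro b hb
  rcases isUnit_or_isNilpotent k p K E₁ b with h | h
  · exact h
  · exfalso
    have : IsNilpotent ((ι k K E₁ E).toRingHom b) := h.map _
    exact this.not_isUnit hb

end Tower

section Count

variable (k : Type u) [Field k] (p : ℕ) [ExpChar k p] (K : Type u) [Field K] [Algebra k K]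
  (E₁ : Type u) [Field E₁] [Algebra k E₁] [IsPurelyInseparable k E₁] [FiniteDimensional k E₁]

attribute [local instance] Algebra.TensorProduct.rightAlgebra

theorem comm_smul (a : K) (x : E₁ ⊗[k] K) :
    (TensorProduct.comm k E₁ K) (a • x) = a • (TensorProduct.comm k E₁ K) x := by
  induction x using TensorProduct.induction_on with
  | zero => simp
  | tmul c a' =>
    have h1 : a • (c ⊗ₜ[k] a') = c ⊗ₜ[k] (a * a') := by
      rw [Algebra.smul_def]
      change ((1 : E₁) ⊗ₜ[k] a) * (c ⊗ₜ[k] a') = _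
      rw [Algebra.TensorProduct.tmul_mul_tmul, one_mul]
    rw [h1, TensorProduct.comm_tmul, TensorProduct.comm_tmul, TensorProduct.smul_tmul',
      smul_eq_mul]
  | add x y hx hy =>
    rw [smul_add, map_add, map_add, smul_add, hx, hy]

/-- `E₁ ⊗ K` as a `K`-vector space -/
noncomputable def commEquiv : (E₁ ⊗[k] K) ≃ₗ[K] (K ⊗[k] E₁) :=
  { (TensorProduct.comm k E₁ K).toAddEquiv with
    map_smul' := fun a x => comm_smul k K E₁ a x }

theorem finrank_tensor : Module.finrank K (E₁ ⊗[k] K) = Module.finrank k E₁ := by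
  rw [(commEquiv k K E₁).finrank_eq, Module.finrank_baseChange]

include p in
/-- the length of the finite level is a power of `p` -/
theorem length_finite_level (hp : p.Prime) : ∃ e : ℕ,
    Module.length (E₁ ⊗[k] K) (E₁ ⊗[k] K) = ((p ^ e : ℕ) : ℕ∞) := by
  haveI := isLocalRing_tensor k p K E₁
  haveI : IsLocalHom (algebraMap K (E₁ ⊗[k] K)) := by
    constructor
    intro a ha
    by_contra h
    have h0 : a = 0 := by
      by_contra hne
      exact h (isUnit_iff_ne_zero.mpr hne)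
    rw [h0, map_zero] at ha
    exact not_isUnit_zero ha
  obtain ⟨n, hn⟩ := IsPurelyInseparable.finrank_eq_pow (F := k) E₁ p
  haveI : Module.Finite K (E₁ ⊗[k] K) := by
    refine Module.Finite.of_surjective (commEquiv k K E₁).symm.toLinearMap
      (commEquiv k K E₁).symm.surjective
  have h1 := IsLocalRing.length_restrictScalars K (E₁ ⊗[k] K) (E₁ ⊗[k] K)
  rw [Module.length_eq_finrank, finrank_tensor, hn] at h1
  set ℓ := Module.length (E₁ ⊗[k] K) (E₁ ⊗[k] K) with hℓ
  set ρ := Module.length (IsLocalRing.ResidueField K) (IsLocalRing.ResidueField (E₁ ⊗[k] K))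
    with hρ
  have hρ0 : ρ ≠ 0 := by
    rw [hρ, Ne, Module.length_eq_zero_iff]
    exact not_subsingleton _
  have hℓtop : ℓ ≠ ⊤ := by
    intro h
    rw [h, ENat.top_mul hρ0] at h1
    exact ENat.coe_ne_top _ h1
  have hℓ0 : ℓ ≠ 0 := by
    rw [hℓ, Ne, Module.length_eq_zero_iff]
    exact not_subsingleton _
  have hρtop : ρ ≠ ⊤ := by
    intro h
    rw [h, ENat.mul_top hℓ0] at h1
    exact ENat.coe_ne_top _ h1
  obtain ⟨ℓ', hℓ'⟩ := ENat.ne_top_iff_exists.mp hℓtop
  obtain ⟨ρ', hρ'⟩ := ENat.ne_top_iff_exists.mp hρtop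
  rw [← hℓ', ← hρ'] at h1
  have h2 : p ^ n = ℓ' * ρ' := by exact_mod_cast h1
  have hdvd : ℓ' ∣ p ^ n := ⟨ρ', h2⟩
  obtain ⟨e, -, he⟩ := (Nat.dvd_prime_pow hp).mp hdvd
  exact ⟨e, by rw [← hℓ', he]⟩

end Count

end Groth.Agent.Lib.Helper18.PC2
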