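import Mathlib
import Groth.Agent.Lib.Helper18.PC2

/-!
# Perfect closure, part 3: the length of `E ⊗[k] K` is a power of `p` (infinite level)
-/

set_option autoImplicit false
set_option linter.unusedSectionVars false
set_option linter.style.haveILetI false
universe u
open TensorProduct

namespace Groth.Agent.Lib.Helper18.PC3

open Groth.Agent.Lib.Helper18.PC1 Groth.Agent.Lib.Helper18.PC2

variable (k : Type u) [Field k] (p : ℕ) [ExpChar k p] (K : Type u) [Field K] [Algebra k K]
  (E : Type u) [Field E] [Algebra k E] [IsPurelyInseparable k E]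

include p in
/-- **the length of `E ⊗[k] K` is a power of `p`** -/
theorem length_pow (hp : p.Prime) (hN : IsNoetherianRing (E ⊗[k] K)) :
    ∃ e : ℕ, Module.length (E ⊗[k] K) (E ⊗[k] K) = ((p ^ e : ℕ) : ℕ∞) := by
  classical
  haveI := isLocalRing_tensor k p K E
  obtain ⟨s, hs⟩ : (IsLocalRing.maximalIdeal (E ⊗[k] K)).FG := IsNoetherian.noetherian _
  choose S hS using fun b : E ⊗[k] K => TensorProduct.exists_finset b
  let C : Set E := ⋃ b ∈ (s : Set (E ⊗[k] K)), ((S b).image Prod.fst : Set E)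
  have hCfin : C.Finite := Set.Finite.biUnion s.finite_toSet (fun b _ => Finset.finite_toSet _)
  let E₁ := IntermediateField.adjoin k C
  haveI : Finite C := hCfin.to_subtype
  haveI : FiniteDimensional k E₁ :=
    IntermediateField.finiteDimensional_adjoin (fun x _ => Algebra.IsIntegral.isIntegral x)
  haveI : IsPurelyInseparable k E₁ := IsPurelyInseparable.tower_bot k E₁ E
  haveI loc₁ := isLocalRing_tensor k p K E₁
  haveI hloc := isLocalHom_ι k p K E₁ E
  have hrange : ∀ b ∈ s, ∃ b₁ : E₁ ⊗[k] K, ι k K E₁ E b₁ = b := by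
    intro b hb
    have hmem : ∀ i ∈ S b, i.1 ∈ E₁ := by
      intro i hi
      apply IntermediateField.subset_adjoin
      exact Set.mem_biUnion (Finset.mem_coe.mpr hb)
        (Finset.mem_coe.mpr (Finset.mem_image_of_mem _ hi))
    refine ⟨∑ i ∈ (S b).attach, (⟨i.1.1, hmem i.1 i.2⟩ : E₁) ⊗ₜ[k] i.1.2, ?_⟩
    rw [map_sum]
    conv_rhs => rw [hS b, ← Finset.sum_attach]
    apply Finset.sum_congr rfl
    intro i _
    rw [ι_tmul]
    rfl
  have hmap : Ideal.map (ι k K E₁ E).toRingHom (IsLocalRing.maximalIdeal (E₁ ⊗[k] K)) =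
      IsLocalRing.maximalIdeal (E ⊗[k] K) := by
    apply le_antisymm
    · rw [Ideal.map_le_iff_le_comap]
      intro b₁ hb₁
      rw [Ideal.mem_comap, IsLocalRing.mem_maximalIdeal, mem_nonunits_iff]
      intro hu
      exact hb₁ (hloc.map_nonunit b₁ hu)
    · rw [← hs, Ideal.span_le]
      intro b hb
      obtain ⟨b₁, rfl⟩ := hrange b hb
      apply Ideal.mem_map_of_mem
      rw [IsLocalRing.mem_maximalIdeal, mem_nonunits_iff]
      intro hu
      have hb' : ι k K E₁ E b₁ ∈ IsLocalRing.maximalIdeal (E ⊗[k] K) := by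
        rw [← hs]; exact Ideal.subset_span hb
      exact hb' (hu.map (ι k K E₁ E).toRingHom)
  have hlen := Groth.Agent.Lib.Helper18.FF5.length_self_of_flat (ι k K E₁ E).toRingHom
    (flat_ι k K E₁ E)
  rw [hmap] at hlen
  have h1 : Module.length (E ⊗[k] K)
      ((E ⊗[k] K) ⧸ IsLocalRing.maximalIdeal (E ⊗[k] K)) = 1 := by
    rw [Module.length_eq_one_iff, isSimpleModule_iff_isCoatom]
    exact Ideal.isMaximal_def.mp inferInstance
  rw [h1, mul_one] at hlen
  obtain ⟨e, he⟩ := length_finite_level k p K E₁ hp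
  exact ⟨e, by rw [hlen, he]⟩

end Groth.Agent.Lib.Helper18.PC3
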