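import Mathlib
import Groth.Prelude.Def_Cyc
import Groth.Agent.Lib.Helper18.PC3
import Groth.Agent.Lib.Helper18.FF6
import Groth.Agent.Lib.Helper18.AB3
import Groth.Agent.S9501

/-!
# Perfect closure, part 4: fibres of the base change to a purely inseparable extension
-/

set_option autoImplicit false
set_option linter.unusedSectionVars false
set_option linter.style.haveILetI false
universe u
open AlgebraicGeometry CategoryTheory Limits TensorProduct

namespace Groth.Agent.Lib.Helper18.PC4

open Groth.Agent.Lib.Helper18.PC1

section Alg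

/-- the length of a ring over itself is invariant under ring isomorphisms -/
theorem length_self_ringEquiv {R S : Type u} [CommRing R] [CommRing S] (e : R ≃+* S) :
    Module.length R R = Module.length S S :=
  FF2.length_eq_of_semilinear_bijective e.toRingHom e.surjective (e : R →+ S) e.bijective
    (fun r m => map_mul e r m)

/-- the stalks of `Spec R`, for `R` with all non-units nilpotent, are `R` -/
theorem ts_bijective (R : Type u) [CommRing R] (hR : ∀ b : R, IsUnit b ∨ IsNilpotent b)
    (q : Spec (CommRingCat.of R)) : Function.Bijective (AB3.ts R q) := by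
  letI := (AB3.ts R q).toAlgebra
  haveI := AB3.isLocalization_ts R q
  haveI := q.isPrime
  have hunits : q.asIdeal.primeCompl ≤ IsUnit.submonoid R := by
    intro b hb
    rcases hR b with h | h
    · exact h
    · exfalso
      obtain ⟨n, hn⟩ := h
      exact hb (Ideal.IsPrime.mem_of_pow_mem inferInstance n (by rw [hn]; exact zero_mem _))
  exact (IsLocalization.atUnits R q.asIdeal.primeCompl hunits :
    R ≃ₐ[R] (Spec (CommRingCat.of R)).presheaf.stalk q).bijective

end Alg

section Fibre

variable (k : Type u) [Field k] (p : ℕ) [ExpChar k p] (E : Type u) [Field E] [Algebra k E]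
  [IsPurelyInseparable k E] {X : Scheme.{u}} (f : X ⟶ Spec (CommRingCat.of k))

/-- the fibre of the base change over a point is the spectrum of `κ(x) ⊗ E` -/
theorem exists_fibre_iso (x : X) :
    ∃ (K : Type u) (_ : Field K) (_ : Algebra k K),
      Nonempty ((pullback.fst f (Spec.map (CommRingCat.ofHom (algebraMap k E)))).fiber x ≅
        Spec (CommRingCat.of (K ⊗[k] E))) := by
  set g := Spec.map (CommRingCat.ofHom (algebraMap k E)) with hg
  set π := pullback.fst f g with hπ
  set h := X.fromSpecResidueField x with hh
  let φ : CommRingCat.of k ⟶ X.residueField x := Spec.preimage (h ≫ f)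
  have hφ : Spec.map φ = h ≫ f := Spec.map_preimage _
  letI : Algebra k (X.residueField x) := φ.hom.toAlgebra
  have e1 : π.fiber x ≅ pullback h π := pullbackSymmetry π h
  have e2 : pullback h π ≅ pullback (h ≫ f) g := pullbackRightPullbackFstIso f g h
  have e3 : pullback (h ≫ f) g ≅
      pullback (Spec.map (CommRingCat.ofHom (algebraMap k (X.residueField x))))
        (Spec.map (CommRingCat.ofHom (algebraMap k E))) :=
    pullback.congrHom (by rw [← hφ]; rfl) rfl
  have e4 := pullbackSpecIso k (X.residueField x) E
  exact ⟨X.residueField x, inferInstance, inferInstance, ⟨e1 ≪≫ e2 ≪≫ e3 ≪≫ e4⟩⟩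

/-- the morphism `Spec E → Spec k` -/
noncomputable abbrev gE : Spec (CommRingCat.of E) ⟶ Spec (CommRingCat.of k) :=
  Spec.map (CommRingCat.ofHom (algebraMap k E))

/-- the projection of the base change -/
noncomputable abbrev πE : pullback f (gE k E) ⟶ X := pullback.fst f (gE k E)

variable [LocallyOfFiniteType f]

include p in
/-- **the multiplicities of the base change to a purely inseparable extension are powers of
`p`** -/
theorem multN_pow (hp : p.Prime) (x' : ↥(pullback f (gE k E))) :
    ∃ e : ℕ, FF6.multN (πE k E f) x' = p ^ e := by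
  haveI : IsLocallyNoetherian (pullback f (gE k E)) :=
    LocallyOfFiniteType.isLocallyNoetherian (pullback.snd f (gE k E))
  let π := πE k E f
  let z := π.asFiber x'
  have hzx : π.fiberι (π x') z = x' := π.fiberι_asFiber x'
  obtain ⟨K, _, _, ⟨Φ⟩⟩ := exists_fibre_iso k E f (π x')
  -- the three ring isomorphisms
  let c : K ⊗[k] E ≃+* E ⊗[k] K := (Algebra.TensorProduct.comm k K E).toRingEquiv
  have hR : ∀ b : K ⊗[k] E, IsUnit b ∨ IsNilpotent b := by
    intro b
    rcases isUnit_or_isNilpotent k p K E (c b) with h | h
    · left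
      have := h.map c.symm.toRingHom
      simpa using this
    · right
      have := h.map c.symm.toRingHom
      simpa using this
  let r2 : K ⊗[k] E ≃+* (Spec (CommRingCat.of (K ⊗[k] E))).presheaf.stalk (Φ.hom z) :=
    RingEquiv.ofBijective (AB3.ts (K ⊗[k] E) (Φ.hom z)) (ts_bijective _ hR _)
  let r1 : (Spec (CommRingCat.of (K ⊗[k] E))).presheaf.stalk (Φ.hom z) ≃+*
      (π.fiber (π x')).presheaf.stalk z :=
    (asIso (Φ.hom.stalkMap z)).commRingCatIsoToRingEquiv
  let r : (π.fiber (π x')).presheaf.stalk z ≃+* E ⊗[k] K := (r1.symm.trans r2.symm).trans c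
  -- noetherianity
  haveI hN0 : IsNoetherianRing ((π.fiber (π x')).presheaf.stalk z) := by
    obtain ⟨hsurj, -⟩ := Groth.Agent.S9501.result π (π x') z
    exact isNoetherianRing_of_surjective _ _ ((π.fiberι (π x')).stalkMap z).hom hsurj
  have hN : IsNoetherianRing (E ⊗[k] K) := isNoetherianRing_of_ringEquiv _ r
  obtain ⟨e, he⟩ := PC3.length_pow k p K E hp hN
  refine ⟨e, ?_⟩
  have h1 : FF6.multN (πE k E f) x' = FF6.multN π (π.fiberι (π x') z) := by rw [hzx]
  rw [h1, FF6.multN_fiberι, length_self_ringEquiv r, he]
  rfl

end Fibre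

end Groth.Agent.Lib.Helper18.PC4
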