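import Mathlib
import Groth.Prelude.Def_Cyc
import Groth.Agent.Lib.Helper18.PC4
import Groth.Agent.Lib.Helper18.FF8
import Groth.Agent.Lib.Helper18.AB5
import Groth.Agent.Lib.Helper21.FibDim11

/-!
# Perfect closure, part 5: cycles on the base change to a purely inseparable extension
-/

set_option autoImplicit false
set_option linter.unusedSectionVars false
set_option linter.style.haveILetI false
universe u
open AlgebraicGeometry CategoryTheory Limits TensorProduct

namespace Groth.Agent.Lib.Helper18.PC5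

open Groth.Agent.Lib.Helper18.PC4

section General

variable {A B C : Scheme.{u}}

theorem deltaCompat_comp (a : A ⟶ B) (b : B ⟶ C) (δ₁ : A → ℤ) (δ₂ : B → ℤ) (δ₃ : C → ℤ)
    (ha : Cyc.DeltaCompat a δ₁ δ₂) (hb : Cyc.DeltaCompat b δ₂ δ₃) :
    Cyc.DeltaCompat (a ≫ b) δ₁ δ₃ := by
  intro x
  obtain ⟨c, hc1, hc2⟩ := ha x
  obtain ⟨b', hb1, hb2⟩ := hb (a x)
  refine ⟨b' + c, Groth.Agent.Lib.Helper21.FibDim.trdeg_comp a b x b' c hb1 hc1, ?_⟩
  rw [hc2, hb2]
  change δ₃ (b (a x)) + b' + c = δ₃ (b (a x)) + ((b' + c : ℕ) : ℤ)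
  push_cast
  ring

theorem trdeg_eq_zero_of_isPurelyInseparable (a : A ⟶ B) (x : A)
    (h : (a.residueFieldMap x).hom.IsPurelyInseparable) :
    (letI := (a.residueFieldMap x).hom.toAlgebra
     Algebra.trdeg (B.residueField (a x)) (A.residueField x)) = 0 := by
  letI := (a.residueFieldMap x).hom.toAlgebra
  haveI : IsPurelyInseparable (B.residueField (a x)) (A.residueField x) := h
  exact _root_.trdeg_eq_zero

theorem ui_spec (a : A ⟶ B) [UniversallyInjective a] :
    Function.Injective a ∧ ∀ x, (a.residueFieldMap x).hom.IsPurelyInseparable := by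
  have h := (tfae_universallyInjective a).out 0 2
  exact h.mp inferInstance

end General

section Base

variable (k : Type u) [Field k] (p : ℕ) [ExpChar k p] (E : Type u) [Field E] [Algebra k E]
  [IsPurelyInseparable k E] {X : Scheme.{u}} (f : X ⟶ Spec (CommRingCat.of k))

instance universallyInjective_gE : UniversallyInjective (gE k E) := by
  have htfae := (tfae_universallyInjective (gE k E)).out 0 1
  refine htfae.mpr ?_
  intro L _ φ₁ φ₂ h
  dsimp only at h
  have h1 : φ₁ = Spec.map (Spec.preimage φ₁) := (Spec.map_preimage φ₁).symm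
  have h2 : φ₂ = Spec.map (Spec.preimage φ₂) := (Spec.map_preimage φ₂).symm
  rw [h1, h2, gE, ← Spec.map_comp, ← Spec.map_comp] at h
  have h3 := Spec.map_injective h
  have h4 : (Spec.preimage φ₁).hom.comp (algebraMap k E) =
      (Spec.preimage φ₂).hom.comp (algebraMap k E) := by
    have := congrArg CommRingCat.Hom.hom h3
    exact this
  have h5 := IsPurelyInseparable.injective_comp_algebraMap k E L h4
  rw [h1, h2]
  congr 1
  exact CommRingCat.hom_ext h5

instance universallyInjective_πE : UniversallyInjective (πE k E f) :=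
  MorphismProperty.pullback_fst (P := @UniversallyInjective) f (gE k E) inferInstance

theorem πE_injective : Function.Injective (πE k E f) :=
  (ui_spec (πE k E f)).1

theorem deltaCompat_gE : Cyc.DeltaCompat (gE k E) (fun _ => 0) (fun _ => 0) := by
  intro y
  refine ⟨0, ?_, by simp⟩
  rw [trdeg_eq_zero_of_isPurelyInseparable (gE k E) y
    ((ui_spec (gE k E)).2 y)]
  rfl

/-- the dimension function of the base change is the pullback of the dimension function -/
theorem delta_eq (δ : X → ℤ) (hδ : Cyc.DeltaCompat f δ (fun _ => 0))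
    (δ' : ↥(pullback f (gE k E)) → ℤ)
    (hδ' : Cyc.DeltaCompat (pullback.snd f (gE k E)) δ' (fun _ => 0))
    (x' : ↥(pullback f (gE k E))) : δ' x' = δ (πE k E f x') := by
  have h1 : Cyc.DeltaCompat (pullback.snd f (gE k E) ≫ gE k E) δ' (fun _ => 0) :=
    deltaCompat_comp _ _ δ' (fun _ => 0) (fun _ => 0) hδ' (deltaCompat_gE k E)
  rw [← pullback.condition] at h1
  have h2 := FF8.deltaCompat_cancel (πE k E f) f δ' δ (fun _ => 0) h1 hδ
  obtain ⟨n, hn1, hn2⟩ := h2 x'
  rw [trdeg_eq_zero_of_isPurelyInseparable (πE k E f) x'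
    ((ui_spec (πE k E f)).2 x')] at hn1
  have hn0 : n = 0 := by exact_mod_cast hn1.symm
  rw [hn2, hn0]
  simp

variable [LocallyOfFiniteType f] [QuasiCompact f]

include p in
/-- **the cokernel of base change to a purely inseparable extension is `p`-power torsion** -/
theorem main (hp : p.Prime) (δ : X → ℤ) (hδ : Cyc.DeltaCompat f δ (fun _ => 0))
    (δ' : ↥(pullback f (gE k E)) → ℤ)
    (hδ' : Cyc.DeltaCompat (pullback.snd f (gE k E)) δ' (fun _ => 0)) (r : ℤ)
    (β : AlgebraicCycle (pullback f (gE k E)) ℤ) (hβ : β ∈ Cyc.Zk _ δ' r) :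
    ∃ (n : ℕ) (α : AlgebraicCycle X ℤ), α ∈ Cyc.Zk X δ r ∧
      (p : ℤ) ^ n • ⇑β = Cyc.pullFun (πE k E f) δ' δ 0 ⇑α := by
  classical
  haveI : CompactSpace ↥(pullback f (gE k E)) :=
    QuasiCompact.compactSpace_of_compactSpace (pullback.snd f (gE k E))
  have hfin : (Function.support β).Finite := by
    have := AB5.finite_inter_support β Set.univ isCompact_univ
    rwa [Set.univ_inter] at this
  choose e he using fun x' => multN_pow k p E f hp x'
  let n : ℕ := hfin.toFinset.sup e
  have hen : ∀ x', β x' ≠ 0 → e x' ≤ n := fun x' hx' =>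
    Finset.le_sup (f := e) (hfin.mem_toFinset.mpr hx')
  have hinj := πE_injective k E f
  let αf : X → ℤ := Function.extend (πE k E f) (fun x' => β x' * (p : ℤ) ^ (n - e x')) 0
  have hαf : ∀ x', αf (πE k E f x') = β x' * (p : ℤ) ^ (n - e x') :=
    fun x' => hinj.extend_apply _ _ _
  have hαsupp : ∀ x, αf x ≠ 0 → ∃ x', πE k E f x' = x ∧ β x' ≠ 0 := by
    intro x hx
    by_cases hex : ∃ x', πE k E f x' = x
    · obtain ⟨x', rfl⟩ := hex
      rw [hαf] at hx
      exact ⟨x', rfl, left_ne_zero_of_mul hx⟩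
    · exfalso
      apply hx
      change Function.extend _ _ _ x = 0
      rw [Function.extend_apply' _ _ _ hex]
      rfl
  let α : AlgebraicCycle X ℤ :=
    { toFun := αf
      supportWithinDomain' := Set.subset_univ _
      supportLocallyFiniteWithinDomain' := fun z _ => by
        refine ⟨Set.univ, Filter.univ_mem, (hfin.image (πE k E f)).subset ?_⟩
        rintro x ⟨-, hx⟩
        obtain ⟨x', hx', hb⟩ := hαsupp x hx
        exact ⟨x', hb, hx'⟩ }
  have hα : ∀ x, α x = αf x := fun _ => rfl
  refine ⟨n, α, ?_, ?_⟩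
  · intro x hx
    by_contra hne
    rw [hα] at hne
    obtain ⟨x', rfl, hb⟩ := hαsupp x hne
    apply hx
    rw [← delta_eq k E f δ hδ δ' hδ' x']
    by_contra hne'
    exact hb (hβ x' hne')
  · funext x'
    rw [FF6.pullFun_eq, if_pos (by rw [delta_eq k E f δ hδ δ' hδ' x', add_zero]), hα, hαf, he x']
    change (p : ℤ) ^ n • β x' = _
    rw [smul_eq_mul]
    by_cases hb : β x' = 0
    · rw [hb]; ring
    · have hle := hen x' hb
      push_cast
      rw [mul_assoc, ← pow_add, Nat.sub_add_cancel hle]
      ring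

end Base

end Groth.Agent.Lib.Helper18.PC5
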