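import Mathlib
import Groth.Agent.Lib.Helper18.JacDim7
import Groth.Agent.Lib.Helper16.PDChange
import Groth.Agent.Lib.Helper16.RegularDim
import Groth.Agent.Lib.Helper6.PUO11

/-!
# Rectified depth on regular biequidimensional schemes (EGA IV 10.8)
-/

set_option autoImplicit false
set_option linter.unusedSectionVars false
set_option linter.style.haveILetI false
universe u
open AlgebraicGeometry CategoryTheory TopologicalSpace

namespace Groth.Agent.Lib.Helper18.RectDepth

open Groth.Agent.Lib.Helper18.JacDim

section Ring

/-- Auslander–Buchsbaum over a regular local ring, with all quantities natural numbers -/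
theorem exists_pd_add_depth (R : Type u) [CommRing R] [IsRegularLocalRing R] (M : Type u)
    [AddCommGroup M] [Module R M] [Module.Finite R M] [Nontrivial M] :
    ∃ e c d : ℕ, projectiveDimension (ModuleCat.of R M) = e ∧ LocCoh.depth R M = c ∧
      ringKrullDim R = d ∧ d = e + c := by
  obtain ⟨d, hd⟩ := Groth.Agent.Lib.Helper18.SerreReg.exists_ringKrullDim_eq_nat R
  have hS := Groth.Agent.Lib.Helper4.hasProjectiveDimensionLT_of_isRegularLocalRing_of_finite
    R d hd M
  have hne : projectiveDimension (ModuleCat.of R M) ≠ ⊤ := by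
    rw [← projectiveDimension_lt_iff] at hS
    exact ne_top_of_lt hS
  have hnz : ¬ Limits.IsZero (ModuleCat.of R M) := by
    intro h
    have : Subsingleton M := ModuleCat.subsingleton_of_isZero h
    exact not_subsingleton M this
  obtain ⟨e, he⟩ := Groth.Agent.Lib.Helper16.PDChange.exists_nat_pd _ hne hnz
  have hAB := Groth.Agent.Lib.Helper16.AusBuch.auslander_buchsbaum M e he
  have hCM : Module.supportDim R R = ((LocCoh.depth R R : ℕ∞) : WithBot ℕ∞) :=
    Groth.Agent.Lib.Helper16.PDR.isCohenMacaulayModule_self_of_isRegularLocalRing R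
  rw [Module.supportDim_self_eq_ringKrullDim, hd] at hCM
  have hdR : LocCoh.depth R R = d := by
    have : ((d : ℕ∞) : WithBot ℕ∞) = ((LocCoh.depth R R : ℕ∞) : WithBot ℕ∞) := by
      rw [← hCM]; rfl
    exact (WithBot.coe_injective this).symm
  rw [hdR] at hAB
  have hfin : LocCoh.depth R M ≠ ⊤ := by
    intro h
    rw [h, add_top] at hAB
    exact ENat.coe_ne_top d hAB
  obtain ⟨c, hc⟩ := ENat.ne_top_iff_exists.mp hfin
  refine ⟨e, c, d, he, hc.symm, hd, ?_⟩
  rw [← hc] at hAB
  exact_mod_cast hAB

end Ring

section Scheme

variable (X : Scheme.{u}) [IsNoetherian X]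

/-- on a biequidimensional scheme, `dim cl{x} + dim O_x = dim X` at points whose local ring is a
domain -/
theorem dim_closure_add_ringKrullDim
    (hcomp : ∀ C ∈ irreducibleComponents (X : Type u),
      topologicalKrullDim ↥C = topologicalKrullDim X)
    (hchain : ∀ (y : X) (T : Set X), IsClosed T → IsIrreducible T → y ∈ T →
      topologicalKrullDim ↥T = topologicalKrullDim ↥(closure ({y} : Set X)) +
        topologicalKrullDim ↥{t : X | t ∈ T ∧ t ⤳ y})
    (x : X) (hdom : IsDomain (X.presheaf.stalk x)) :
    topologicalKrullDim ↥(closure ({x} : Set X)) + ringKrullDim (X.presheaf.stalk x) =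
      topologicalKrullDim X := by
  have hxmem : x ∈ ⋃₀ irreducibleComponents (X : Type u) := by
    rw [sUnion_irreducibleComponents]; trivial
  obtain ⟨T, hT, hxT⟩ := hxmem
  have hnil : (nilradical (X.presheaf.stalk x)).IsPrime := by
    rw [nilradical_eq_zero]
    exact Ideal.isPrime_bot
  have hset : {t : X | t ∈ T ∧ t ⤳ x} = {t : X | t ⤳ x} := by
    ext t
    constructor
    · exact fun h => h.2
    · intro htx
      refine ⟨?_, htx⟩
      have htmem : t ∈ ⋃₀ irreducibleComponents (X : Type u) := by
        rw [sUnion_irreducibleComponents]; trivial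
      obtain ⟨T', hT', htT'⟩ := htmem
      have hxT' : x ∈ T' :=
        (Specializes.mem_closed htx (isClosed_of_mem_irreducibleComponents T' hT') htT')
      have := Groth.Agent.Lib.Helper6.PUO.eq_of_mem_irreducibleComponents' x hnil T T' hT hT'
        hxT hxT'
      rw [this]
      exact htT'
  have h1 := hchain x T (isClosed_of_mem_irreducibleComponents T hT) hT.1 hxT
  rw [hset, topologicalKrullDim_generizations_eq_ringKrullDim, hcomp T hT] at h1
  exact h1.symm

end Scheme

end Groth.Agent.Lib.Helper18.RectDepth
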