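import Mathlib
import Groth.Agent.Lib.Helper18.RectDepth1
import Groth.Agent.Lib.Helper16.PDOpen
import Groth.Agent.Lib.Helper10.Hartogs
import Groth.Agent.Lib.Helper29.ZeroDim

/-!
# Lower semicontinuity of the rectified depth on regular biequidimensional schemes
-/

set_option autoImplicit false
set_option linter.unusedSectionVars false
set_option linter.style.haveILetI false
universe u
open AlgebraicGeometry CategoryTheory TopologicalSpace

namespace Groth.Agent.Lib.Helper18.RectDepth

open Groth.Agent.Lib.Helper18.JacDim Groth.Agent.Lib.Helper29.QCoh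
open Groth.Agent.Lib.Helper18.TopDim

section Top

theorem exists_nat_of_le_of_lt_top {a b : WithBot ℕ∞} (h0 : 0 ≤ a) (hab : a ≤ b) (hb : b < ⊤) :
    ∃ k : ℕ, a = k := by
  have h1 : a < ⊤ := lt_of_le_of_lt hab hb
  induction a with
  | bot => exact absurd h0 (by simp)
  | coe a =>
    induction a with
    | top => exact absurd h1 (lt_irrefl _)
    | coe n => exact ⟨n, rfl⟩

end Top

section Scheme

variable (X : Scheme.{u}) [IsNoetherian X]
  (hreg : ∀ x : X, IsRegularLocalRing ↑(X.presheaf.stalk x))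
  (hfin : topologicalKrullDim X < ⊤)
  (hcomp : ∀ C ∈ irreducibleComponents (X : Type u),
    topologicalKrullDim ↥C = topologicalKrullDim X)
  (hchain : ∀ (y : X) (T : Set X), IsClosed T → IsIrreducible T → y ∈ T →
    topologicalKrullDim ↥T = topologicalKrullDim ↥(closure ({y} : Set X)) +
      topologicalKrullDim ↥{t : X | t ∈ T ∧ t ⤳ y})
  (F : X.Modules) [F.IsQuasicoherent] [F.IsFiniteType]

theorem exists_nat_dim_closure (hfin : topologicalKrullDim X < ⊤) (x : X) :
    ∃ k : ℕ, topologicalKrullDim ↥(closure ({x} : Set X)) = k := by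
  haveI : Nonempty ↥(closure ({x} : Set X)) := ⟨⟨x, subset_closure rfl⟩⟩
  exact exists_nat_of_le_of_lt_top zero_le_topologicalKrullDim
    (topologicalKrullDim_subspace_le X _) hfin

include hreg hfin hcomp hchain in
theorem exists_nat_data {W : X.Opens} (hW : IsAffineOpen W) (x : X) (hxW : x ∈ W)
    (hx : x ∈ CohB1.support F) :
    ∃ e c k D : ℕ,
      projectiveDimension (ModuleCat.of (Localization.AtPrime (hW.primeIdealOf ⟨x, hxW⟩).asIdeal)
        (LocalizedModule (hW.primeIdealOf ⟨x, hxW⟩).asIdeal.primeCompl Γ(F, W))) = e ∧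
      LocCoh.depth (X.presheaf.stalk x) (F.presheaf.stalk x) = c ∧
      topologicalKrullDim ↥(closure ({x} : Set X)) = k ∧
      topologicalKrullDim X = D ∧ k + e + c = D := by
  haveI : IsNoetherianRing Γ(X, W) := IsLocallyNoetherian.component_noetherian ⟨W, hW⟩
  haveI : Module.Finite Γ(X, W) Γ(F, W) := module_finite_of_isFiniteType F hW
  set p := (hW.primeIdealOf ⟨x, hxW⟩).asIdeal with hp
  letI : Algebra Γ(X, W) (X.presheaf.stalk x) :=
    TopCat.Presheaf.algebra_section_stalk X.presheaf ⟨x, hxW⟩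
  haveI hloc : IsLocalization.AtPrime (X.presheaf.stalk x) p := hW.isLocalization_stalk ⟨x, hxW⟩
  let eR : Localization.AtPrime p ≃ₐ[Γ(X, W)] X.presheaf.stalk x :=
    IsLocalization.algEquiv p.primeCompl _ _
  haveI := hreg x
  haveI hregp : IsRegularLocalRing (Localization.AtPrime p) :=
    IsRegularLocalRing.of_ringEquiv eR.symm.toRingEquiv
  letI := stalkModule F W x hxW
  haveI hlm := isLocalizedModule_germ F hW x hxW
  let eM : LocalizedModule p.primeCompl Γ(F, W) ≃ₗ[Γ(X, W)] F.presheaf.stalk x :=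
    IsLocalizedModule.iso p.primeCompl (germₗ F W x hxW)
  haveI : Nontrivial (F.presheaf.stalk x) := not_subsingleton_iff_nontrivial.mp hx
  haveI : Nontrivial (LocalizedModule p.primeCompl Γ(F, W)) := eM.toEquiv.nontrivial
  obtain ⟨e, c, d, he, hc, hd, hdec⟩ := exists_pd_add_depth (Localization.AtPrime p)
    (LocalizedModule p.primeCompl Γ(F, W))
  have hdepth := Groth.Agent.Lib.Helper10.Hartogs.depth_stalk_eq_depth_localized F hW x hxW
  have hdim : ringKrullDim (X.presheaf.stalk x) = d := by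
    rw [← hd]
    exact (ringKrullDim_eq_of_ringEquiv eR.toRingEquiv).symm
  have hdom : IsDomain (X.presheaf.stalk x) :=
    Groth.Agent.Lib.Helper21.isDomain_of_isRegularLocalRing _
  have h1 := dim_closure_add_ringKrullDim X hcomp hchain x hdom
  obtain ⟨k, hk⟩ := exists_nat_dim_closure X hfin x
  haveI : Nonempty X := ⟨x⟩
  obtain ⟨D, hD⟩ := exists_nat_of_le_of_lt_top (zero_le_topologicalKrullDim (X := X)) le_rfl hfin
  refine ⟨e, c, k, D, he, hdepth.trans hc, hk, hD, ?_⟩
  rw [hk, hdim, hD, hdec] at h1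
  have : ((k + (e + c) : ℕ) : WithBot ℕ∞) = (D : WithBot ℕ∞) := by
    push_cast
    exact h1
  have h2 : k + (e + c) = D := by exact_mod_cast this
  omega

include hfin in
theorem mem_of_notMem_support (n : ℕ) (x : X) (hx : x ∉ CohB1.support F) :
    (n : WithBot ℕ∞) ≤
      ((LocCoh.depth ↑(X.presheaf.stalk x) ↑(F.presheaf.stalk x) : ℕ∞) : WithBot ℕ∞) +
        topologicalKrullDim ↥(closure ({x} : Set X)) := by
  have hsub : Subsingleton (F.presheaf.stalk x) := by
    simpa [CohB1.support] using hx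
  have hdepth : LocCoh.depth (X.presheaf.stalk x) (F.presheaf.stalk x) = ⊤ := by
    unfold LocCoh.depth LocCoh.idealDepth
    rw [if_pos (Subsingleton.elim _ _)]
  obtain ⟨k, hk⟩ := exists_nat_dim_closure X hfin x
  rw [hdepth, hk]
  have : (((⊤ : ℕ∞) : WithBot ℕ∞)) + (k : WithBot ℕ∞) = ((⊤ : ℕ∞) : WithBot ℕ∞) := by
    rw [show (k : WithBot ℕ∞) = (((k : ℕ∞)) : WithBot ℕ∞) from rfl, ← WithBot.coe_add, top_add]
  rw [this]
  exact_mod_cast le_top

include hreg hfin hcomp hchain in
theorem isOpen_rectDepth_ge (n : ℕ) :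
    IsOpen {x : X | (n : WithBot ℕ∞) ≤
      ((LocCoh.depth ↑(X.presheaf.stalk x) ↑(F.presheaf.stalk x) : ℕ∞) : WithBot ℕ∞) +
        topologicalKrullDim ↥(closure ({x} : Set X))} := by
  rw [isOpen_iff_forall_mem_open]
  intro x₀ hx₀
  by_cases hxs : x₀ ∈ CohB1.support F
  · obtain ⟨W, hW, hx₀W, -⟩ := exists_isAffineOpen_mem_and_subset (x := x₀) (U := ⊤) trivial
    haveI : IsNoetherianRing Γ(X, W) := IsLocallyNoetherian.component_noetherian ⟨W, hW⟩
    haveI : Module.Finite Γ(X, W) Γ(F, W) := module_finite_of_isFiniteType F hW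
    obtain ⟨e₀, c₀, k₀, D₀, he₀, hc₀, hk₀, hD₀, hsum₀⟩ :=
      exists_nat_data X hreg hfin hcomp hchain F hW x₀ hx₀W hxs
    have hn₀ : n ≤ c₀ + k₀ := by
      have h := hx₀
      rw [Set.mem_setOf_eq, hc₀, hk₀] at h
      exact_mod_cast h
    have hpd₀ : HasProjectiveDimensionLT
        (ModuleCat.of (Localization.AtPrime (hW.primeIdealOf ⟨x₀, hx₀W⟩).asIdeal)
          (LocalizedModule (hW.primeIdealOf ⟨x₀, hx₀W⟩).asIdeal.primeCompl Γ(F, W)))
        (e₀ + 1) := by
      rw [← projectiveDimension_lt_iff, he₀]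
      exact_mod_cast Nat.lt_succ_self e₀
    obtain ⟨s, hs, hall⟩ := Groth.Agent.Lib.Helper16.PDR.exists_forall_hasProjectiveDimensionLT
      (hW.primeIdealOf ⟨x₀, hx₀W⟩).asIdeal (e₀ + 1) Γ(F, W) hpd₀
    refine ⟨X.basicOpen s, ?_, (X.basicOpen s).2,
      (mem_basicOpen_iff_notMem_primeIdealOf hW x₀ hx₀W s).2 hs⟩
    intro x hxs'
    have hxW : x ∈ W := X.basicOpen_le s hxs'
    by_cases hxF : x ∈ CohB1.support F
    · obtain ⟨e, c, k, D, he, hc, hk, hD, hsum⟩ :=
        exists_nat_data X hreg hfin hcomp hchain F hW x hxW hxF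
      have hDD : D = D₀ := by
        have : (D : WithBot ℕ∞) = (D₀ : WithBot ℕ∞) := by rw [← hD, ← hD₀]
        exact_mod_cast this
      have hpd := hall (hW.primeIdealOf ⟨x, hxW⟩).asIdeal
        ((mem_basicOpen_iff_notMem_primeIdealOf hW x hxW s).1 hxs')
      rw [← projectiveDimension_lt_iff, he] at hpd
      have hee : e < e₀ + 1 := by exact_mod_cast hpd
      rw [Set.mem_setOf_eq, hc, hk]
      have : n ≤ c + k := by omega
      exact_mod_cast this
    · exact mem_of_notMem_support X hfin F n x hxF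
  · refine ⟨(CohB1.support F)ᶜ, ?_, (isClosed_support_of_isFiniteType F).isOpen_compl, hxs⟩
    intro x hx
    exact mem_of_notMem_support X hfin F n x hx

end Scheme

end Groth.Agent.Lib.Helper18.RectDepth
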