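import Mathlib
import Groth.Agent.Lib.Helper18.JacDim8
import Groth.Agent.Lib.Helper18.RectDepth2

/-!
# Local constancy of `dim cl{z} + dim O_z` on Jacobson universally catenary equicodimensional
schemes with integral local rings; closures under closed embeddings of open subsets
-/

set_option autoImplicit false
set_option linter.unusedSectionVars false
set_option linter.style.haveILetI false
universe u
open AlgebraicGeometry CategoryTheory TopologicalSpace

namespace Groth.Agent.Lib.Helper18.RectDepth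

open Groth.Agent.Lib.Helper18.JacDim Groth.Agent.Lib.Helper18.TopDim

section Z1

variable {Z : Scheme.{u}} [IsLocallyNoetherian Z] [JacobsonSpace Z]
  (h2 : ∀ z : Z, CAlg.IsUniversallyCatenary (Z.presheaf.stalk z))
  (h3 : ∀ Z' ∈ irreducibleComponents (Z : Type u), ∀ z ∈ Z', IsClosed ({z} : Set Z) →
    topologicalKrullDim (↥Z' : Type u) = topologicalKrullDim ↥{t : Z | t ∈ Z' ∧ t ⤳ z})

include h2 h3 in
theorem dim_component_eq (z : Z) (hdom : IsDomain (Z.presheaf.stalk z)) (T : Set Z)
    (hT : T ∈ irreducibleComponents (Z : Type u)) (hzT : z ∈ T) :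
    topologicalKrullDim ↥T =
        topologicalKrullDim ↥(closure ({z} : Set Z)) + ringKrullDim (Z.presheaf.stalk z) ∧
      ∃ n : ℕ, topologicalKrullDim ↥T = n := by
  obtain ⟨η, hη⟩ := QuasiSober.sober hT.1 (isClosed_of_mem_irreducibleComponents T hT)
  have hηz : η ⤳ z := by
    rw [specializes_iff_mem_closure, hη.def]; exact hzT
  have hnil : (nilradical (Z.presheaf.stalk z)).IsPrime := by
    rw [nilradical_eq_zero]
    exact Ideal.isPrime_bot
  have hset : {t : Z | t ∈ closure ({η} : Set Z) ∧ t ⤳ z} = {t : Z | t ⤳ z} := by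
    ext t
    constructor
    · exact fun h => h.2
    · intro htz
      refine ⟨?_, htz⟩
      have htmem : t ∈ ⋃₀ irreducibleComponents (Z : Type u) := by
        rw [sUnion_irreducibleComponents]; trivial
      obtain ⟨T', hT', htT'⟩ := htmem
      have hzT' : z ∈ T' :=
        (Specializes.mem_closed htz (isClosed_of_mem_irreducibleComponents T' hT') htT')
      have := Groth.Agent.Lib.Helper6.PUO.eq_of_mem_irreducibleComponents' z hnil T T' hT hT'
        hzT hzT'
      rw [hη.def, this]
      exact htT'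
  obtain ⟨h1, -⟩ := topologicalKrullDim_closure_eq_add h2 h3 η z hηz
  rw [genDim, hset, topologicalKrullDim_generizations_eq_ringKrullDim, hη.def] at h1
  refine ⟨h1, ?_⟩
  obtain ⟨s, hsmem, hscl⟩ := nonempty_inter_closedPoints
    (Z := closure ({η} : Set Z)) ⟨η, subset_closure rfl⟩ isClosed_closure.isLocallyClosed
  have hηs : η ⤳ s := specializes_iff_mem_closure.2 hsmem
  have h4 := topologicalKrullDim_closure_eq_genDim h2 h3 η s hηs hscl
  obtain ⟨-, n, hn⟩ := topologicalKrullDim_closure_eq_add h2 h3 η s hηs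
  rw [hη.def] at h4
  exact ⟨n, by rw [h4, hn]⟩

include h2 h3 in
/-- `dim cl{z} + dim O_z` is locally constant when the local rings are domains -/
theorem exists_open_const (hdom : ∀ z : Z, IsDomain (Z.presheaf.stalk z)) (z₀ : Z) :
    ∃ O : Set Z, IsOpen O ∧ z₀ ∈ O ∧ ∃ D : ℕ, ∀ z ∈ O,
      topologicalKrullDim ↥(closure ({z} : Set Z)) + ringKrullDim (Z.presheaf.stalk z) = D := by
  classical
  have hlf : LocallyFinite (fun C : ↥(irreducibleComponents (Z : Type u)) => (C : Set Z)) :=
    Groth.Agent.Lib.Helper14.AS.locallyFinite_irreducibleComponents_of_locNoeth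
      (fun z => exists_noetherianSpace_nhd z)
  have hz₀mem : z₀ ∈ ⋃₀ irreducibleComponents (Z : Type u) := by
    rw [sUnion_irreducibleComponents]; trivial
  obtain ⟨T₀, hT₀, hz₀T₀⟩ := hz₀mem
  have hnil₀ : (nilradical (Z.presheaf.stalk z₀)).IsPrime := by
    haveI := hdom z₀
    rw [nilradical_eq_zero]
    exact Ideal.isPrime_bot
  obtain ⟨N, hN, hfin⟩ := hlf z₀
  set bad : Set Z := ⋃ C ∈ {C : ↥(irreducibleComponents (Z : Type u)) |
    ((C : Set Z) ∩ N).Nonempty ∧ z₀ ∉ (C : Set Z)}, (C : Set Z) with hbad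
  have hbadcl : IsClosed bad := by
    refine Set.Finite.isClosed_biUnion (hfin.subset fun C hC => hC.1) fun C _ => ?_
    exact isClosed_of_mem_irreducibleComponents _ C.2
  obtain ⟨-, D, hD⟩ := dim_component_eq h2 h3 z₀ (hdom z₀) T₀ hT₀ hz₀T₀
  refine ⟨interior N ∩ badᶜ, isOpen_interior.inter hbadcl.isOpen_compl, ?_, D, ?_⟩
  · refine ⟨mem_interior_iff_mem_nhds.mpr hN, ?_⟩
    intro hx
    obtain ⟨C, hC⟩ := Set.mem_iUnion.mp hx
    obtain ⟨hCmem, hxC⟩ := Set.mem_iUnion.mp hC
    exact hCmem.2 hxC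
  · intro z hz
    have hzmem : z ∈ ⋃₀ irreducibleComponents (Z : Type u) := by
      rw [sUnion_irreducibleComponents]; trivial
    obtain ⟨C, hC, hzC⟩ := hzmem
    have hz₀C : z₀ ∈ C := by
      by_contra hcon
      apply hz.2
      exact Set.mem_iUnion.mpr ⟨⟨C, hC⟩, Set.mem_iUnion.mpr
        ⟨⟨⟨z, hzC, interior_subset hz.1⟩, hcon⟩, hzC⟩⟩
    have hCT : T₀ = C := Groth.Agent.Lib.Helper6.PUO.eq_of_mem_irreducibleComponents' z₀ hnil₀
      T₀ C hT₀ hC hz₀T₀ hz₀C
    obtain ⟨h1, -⟩ := dim_component_eq h2 h3 z (hdom z) T₀ hT₀ (hCT ▸ hzC)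
    rw [← h1, hD]

end Z1

section X1

variable {X : Scheme.{u}} [IsLocallyNoetherian X] [JacobsonSpace X]
  (h2 : ∀ x : X, CAlg.IsUniversallyCatenary (X.presheaf.stalk x))
  (h3 : ∀ X' ∈ irreducibleComponents (X : Type u), ∀ x ∈ X', IsClosed ({x} : Set X) →
    topologicalKrullDim (↥X' : Type u) = topologicalKrullDim ↥{t : X | t ∈ X' ∧ t ⤳ x})

include h2 h3 in
/-- the dimension of the closure of a point can be computed after a closed embedding of an open
neighbourhood -/
theorem dim_closure_eq_of_isClosedEmbedding (U : Set X) (hU : IsOpen U) {Zt : Type u}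
    [TopologicalSpace Zt] (j : ↥U → Zt) (hj : Topology.IsClosedEmbedding j) (x : X) (hx : x ∈ U) :
    topologicalKrullDim ↥(closure ({x} : Set X)) =
      topologicalKrullDim ↥(closure ({j ⟨x, hx⟩} : Set Zt)) := by
  have h1 := topologicalKrullDim_open_inter_closure h2 h3 x U hU ⟨x, hx, subset_closure rfl⟩
  have hcl : closure ({⟨x, hx⟩} : Set ↥U) = Subtype.val ⁻¹' closure ({x} : Set X) := by
    rw [Topology.IsInducing.subtypeVal.closure_eq_preimage_closure_image, Set.image_singleton]
  have h4 : U ∩ closure ({x} : Set X) = Subtype.val '' closure ({⟨x, hx⟩} : Set ↥U) := by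
    rw [hcl, Subtype.image_preimage_coe]
  rw [← h1, h4, topologicalKrullDim_image_eq Topology.IsEmbedding.subtypeVal,
    ← topologicalKrullDim_image_eq hj.isEmbedding (closure ({⟨x, hx⟩} : Set ↥U)),
    ← hj.closure_image_eq, Set.image_singleton]

end X1

section Misc

theorem top_add_of_zero_le {a : WithBot ℕ∞} (ha : 0 ≤ a) :
    (((⊤ : ℕ∞) : WithBot ℕ∞)) + a = ((⊤ : ℕ∞) : WithBot ℕ∞) := by
  induction a with
  | bot => exact absurd ha (by simp)
  | coe a => rw [← WithBot.coe_add, top_add]

/-- points outside the support have infinite rectified depth -/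
theorem mem_of_notMem_support' {X : Scheme.{u}} (F : X.Modules) (n : ℕ∞) (x : X)
    (hx : x ∉ CohB1.support F) :
    (n : WithBot ℕ∞) ≤
      ((LocCoh.depth ↑(X.presheaf.stalk x) ↑(F.presheaf.stalk x) : ℕ∞) : WithBot ℕ∞) +
        topologicalKrullDim ↥(closure ({x} : Set X)) := by
  have hsub : Subsingleton (F.presheaf.stalk x) := by
    simpa [CohB1.support] using hx
  have hdepth : LocCoh.depth (X.presheaf.stalk x) (F.presheaf.stalk x) = ⊤ := by
    unfold LocCoh.depth LocCoh.idealDepth
    rw [if_pos (Subsingleton.elim _ _)]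
  haveI : Nonempty ↥(closure ({x} : Set X)) := ⟨⟨x, subset_closure rfl⟩⟩
  rw [hdepth, top_add_of_zero_le zero_le_topologicalKrullDim]
  exact_mod_cast le_top

theorem depth_eq_top_of_notMem_support {X : Scheme.{u}} (F : X.Modules) (x : X)
    (hx : x ∉ CohB1.support F) :
    LocCoh.depth (X.presheaf.stalk x) (F.presheaf.stalk x) = ⊤ := by
  have hsub : Subsingleton (F.presheaf.stalk x) := by
    simpa [CohB1.support] using hx
  unfold LocCoh.depth LocCoh.idealDepth
  rw [if_pos (Subsingleton.elim _ _)]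

end Misc

end Groth.Agent.Lib.Helper18.RectDepth
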