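import Mathlib
import Groth.Agent.Lib.Helper18.RectDepth3
import Groth.Agent.Lib.Helper16.DepthQuotient
import Groth.Agent.Lib.Helper16.RegularRingFacts
import Groth.Agent.Lib.Helper18.UCat

/-!
# Ring-level numerics for the rectified depth over a quotient of a regular ring
-/

set_option autoImplicit false
set_option linter.unusedSectionVars false
set_option linter.style.haveILetI false
universe u
open AlgebraicGeometry CategoryTheory TopologicalSpace

namespace Groth.Agent.Lib.Helper18.RectDepth

section Reg

/-- regular local rings are universally catenary -/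
theorem isUniversallyCatenary_of_isRegularLocalRing (R : Type u) [CommRing R]
    [IsRegularLocalRing R] : CAlg.IsUniversallyCatenary R := by
  haveI : IsRegularRing R := isRegularRing_iff.2 fun p _ =>
    Groth.Agent.Lib.Helper18.SerreReg.isRegularLocalRing_localization_atPrime R p
  haveI := Groth.Agent.Lib.Helper16.PDR.isCohenMacaulayRing_of_isRegularRing R
  exact Groth.Agent.Lib.Helper18.UCat.isUniversallyCatenary_of_isCohenMacaulayRing R

/-- the ring of sections over an affine open of a regular locally Noetherian scheme is regular -/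
theorem isRegularRing_sections {S : Scheme.{u}} [IsLocallyNoetherian S]
    (hreg : ∀ s : S, IsRegularLocalRing (S.presheaf.stalk s)) {V : S.Opens}
    (hV : IsAffineOpen V) : IsRegularRing Γ(S, V) := by
  haveI : IsNoetherianRing Γ(S, V) := IsLocallyNoetherian.component_noetherian ⟨V, hV⟩
  rw [isRegularRing_iff]
  intro p hp
  let y : PrimeSpectrum Γ(S, V) := ⟨p, hp⟩
  have hy : hV.fromSpec y ∈ V := (hV.isoSpec.inv _).2
  letI : Algebra Γ(S, V) (S.presheaf.stalk (hV.fromSpec y)) :=
    TopCat.Presheaf.algebra_section_stalk S.presheaf ⟨hV.fromSpec y, hy⟩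
  haveI : IsLocalization.AtPrime (S.presheaf.stalk (hV.fromSpec y)) p :=
    hV.isLocalization_stalk' y hy
  haveI := hreg (hV.fromSpec y)
  exact IsRegularLocalRing.of_ringEquiv
    (IsLocalization.algEquiv p.primeCompl (S.presheaf.stalk (hV.fromSpec y))
      (Localization.AtPrime p)).toRingEquiv

end Reg

section R1

variable {P B : Type u} [CommRing P] [CommRing B] [IsRegularRing P] [Algebra P B]
  (hsurj : Function.Surjective (algebraMap P B))
  (N : Type u) [AddCommGroup N] [Module P N] [Module B N] [IsScalarTower P B N]
  [Module.Finite B N]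

include hsurj in
theorem exists_pd_depth_height (q : Ideal B) [q.IsPrime]
    (hne : Nontrivial (LocalizedModule q.primeCompl N)) :
    ∃ e c : ℕ,
      projectiveDimension (ModuleCat.of (Localization.AtPrime (q.comap (algebraMap P B)))
        (LocalizedModule (q.comap (algebraMap P B)).primeCompl N)) = e ∧
      LocCoh.depth (Localization.AtPrime q) (LocalizedModule q.primeCompl N) = c ∧
      (q.comap (algebraMap P B)).height = ((e + c : ℕ) : ℕ∞) := by
  haveI : Module.Finite P B := Module.Finite.of_surjective (Algebra.linearMap P B) hsurj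
  haveI : Module.Finite P N := Module.Finite.trans B N
  set Q := q.comap (algebraMap P B) with hQ
  have hdepth := Groth.Agent.Lib.Helper16.Depth.depth_localization_comap_of_surjective
    hsurj N q
  haveI : Nontrivial (LocalizedModule Q.primeCompl N) := by
    rw [← not_subsingleton_iff_nontrivial]
    intro hsub
    rw [LocalizedModule.subsingleton_iff] at hsub
    apply not_subsingleton (LocalizedModule q.primeCompl N)
    rw [LocalizedModule.subsingleton_iff]
    intro n
    obtain ⟨r, hr, hrn⟩ := hsub n
    refine ⟨algebraMap P B r, hr, ?_⟩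
    rw [algebraMap_smul]
    exact hrn
  obtain ⟨e, c, d, he, hc, hd, hdec⟩ := exists_pd_add_depth (Localization.AtPrime Q)
    (LocalizedModule Q.primeCompl N)
  refine ⟨e, c, he, hdepth.trans hc, ?_⟩
  have h1 := IsLocalization.AtPrime.ringKrullDim_eq_height Q (Localization.AtPrime Q)
  rw [hd, hdec] at h1
  exact_mod_cast h1.symm

end R1

section Misc

theorem exists_nat_of_add_eq {a : WithBot ℕ∞} {n D : ℕ} (h : a + (n : WithBot ℕ∞) = D) :
    ∃ k : ℕ, a = k ∧ k + n = D := by
  induction a with
  | bot => simp at h
  | coe a =>
    induction a with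
    | top =>
      exfalso
      have : ((⊤ : ℕ∞) : WithBot ℕ∞) + (n : WithBot ℕ∞) = ((⊤ : ℕ∞) : WithBot ℕ∞) := by
        rw [show (n : WithBot ℕ∞) = (((n : ℕ∞)) : WithBot ℕ∞) from rfl, ← WithBot.coe_add, top_add]
      rw [this] at h
      have h' : ((⊤ : ℕ∞) : WithBot ℕ∞) = (((D : ℕ∞)) : WithBot ℕ∞) := h
      exact ENat.top_ne_coe D (WithBot.coe_injective h')
    | coe k =>
      refine ⟨k, rfl, ?_⟩
      exact_mod_cast h

end Misc

end Groth.Agent.Lib.Helper18.RectDepth
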