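import Mathlib
import Groth.Prelude.Def_Cyc
import Groth.Agent.Lib.Helper18.SetupLft
import Groth.Agent.Lib.Helper18.RectDepth4
import Groth.Agent.Lib.Helper18.FF8
import Groth.Agent.Lib.Helper18.PC5
import Groth.Agent.Lib.Helper21.FibDim11
import Groth.Agent.Lib.Helper1.Catenary

/-!
# Specialization of cycles, part 1: the dimension function of a scheme over a discrete valuation
ring
-/

set_option autoImplicit false
set_option linter.unusedSectionVars false
set_option linter.style.haveILetI false
universe u
open AlgebraicGeometry CategoryTheory TopologicalSpace Limits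

namespace Groth.Agent.Lib.Helper18.SP1

section Preimm

variable {X Y : Scheme.{u}} (i : X ⟶ Y) [IsPreimmersion i]

/-- a preimmersion induces algebraic (indeed trivial) residue field extensions -/
theorem deltaCompat_of_isPreimmersion (δ : Y → ℤ) : Cyc.DeltaCompat i (fun x => δ (i x)) δ := by
  intro d
  refine ⟨0, ?_, by simp⟩
  letI := (i.residueFieldMap d).hom.toAlgebra
  haveI : Algebra.IsIntegral (Y.residueField (i d)) (X.residueField d) :=
    Algebra.isIntegral_of_surjective
      (Groth.Agent.Lib.Helper21.FibDim.residueFieldMap_surjective i d)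
  rw [_root_.trdeg_eq_zero]
  rfl

end Preimm

section DVR

variable (R : Type u) [CommRing R] [IsDomain R] [IsDiscreteValuationRing R]

open Classical in
/-- the dimension function on the spectrum of a discrete valuation ring -/
noncomputable def δS : ↥(Spec (CommRingCat.of R)) → ℤ := fun t => if t.asIdeal = ⊥ then 1 else 0

theorem asIdeal_eq (t : ↥(Spec (CommRingCat.of R))) :
    t.asIdeal = ⊥ ∨ t.asIdeal = IsLocalRing.maximalIdeal R := by
  by_cases h : t.asIdeal = ⊥
  · exact Or.inl h
  · right
    haveI : t.asIdeal.IsPrime := t.isPrime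
    have hmax : t.asIdeal.IsMaximal := Ideal.IsPrime.isMaximal inferInstance h
    exact IsLocalRing.eq_maximalIdeal hmax

theorem δS_generic : δS R (genericPoint ↥(Spec (CommRingCat.of R))) = 1 := by
  have h : (genericPoint ↥(Spec (CommRingCat.of R))).asIdeal = ⊥ := by
    have hsp : genericPoint ↥(Spec (CommRingCat.of R)) ⤳
        (⟨⊥, Ideal.isPrime_bot⟩ : PrimeSpectrum R) := genericPoint_specializes _
    have := (PrimeSpectrum.le_iff_specializes _ _).mpr hsp
    exact le_bot_iff.mp this
  unfold δS
  rw [if_pos h]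

theorem δS_closed : δS R (IsLocalRing.closedPoint R) = 0 := by
  unfold δS
  rw [if_neg]
  intro h
  have : IsLocalRing.maximalIdeal R = ⊥ := h
  exact IsDiscreteValuationRing.not_a_field R this

theorem isSetup_dvr : Cyc.IsSetup (Spec (CommRingCat.of R)) (δS R) := by
  refine ⟨inferInstance, ?_, ?_⟩
  · intro t
    have hR : CAlg.IsUniversallyCatenary R :=
      Groth.Agent.Lib.Helper18.RectDepth.isUniversallyCatenary_of_isRegularLocalRing R
    letI : Algebra R ↑((Spec (CommRingCat.of R)).presheaf.stalk t) :=
      StructureSheaf.stalkAlgebra R t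
    haveI : t.asIdeal.IsPrime := t.isPrime
    haveI : IsLocalization.AtPrime (↑((Spec (CommRingCat.of R)).presheaf.stalk t)) t.asIdeal :=
      StructureSheaf.IsLocalization.to_stalk R t
    haveI : Algebra.EssFiniteType R ↑((Spec (CommRingCat.of R)).presheaf.stalk t) :=
      Algebra.EssFiniteType.of_isLocalization _ t.asIdeal.primeCompl
    exact Groth.Agent.Lib.Helper1.Catenary.isUniversallyCatenary_of_essFiniteType R _ hR
  · intro x y hxy hne
    have hle : x.asIdeal ≤ y.asIdeal := (PrimeSpectrum.le_iff_specializes x y).mpr hxy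
    have hne' : x.asIdeal ≠ y.asIdeal := fun h => hne (PrimeSpectrum.ext h)
    have hx : x.asIdeal = ⊥ := by
      rcases asIdeal_eq R x with h | h
      · exact h
      · exfalso
        rcases asIdeal_eq R y with h' | h'
        · rw [h, h'] at hle
          exact IsDiscreteValuationRing.not_a_field R (le_bot_iff.mp hle)
        · exact hne' (h.trans h'.symm)
    have hy : y.asIdeal ≠ ⊥ := fun h => hne' (hx.trans h.symm)
    unfold δS
    rw [if_pos hx, if_neg hy]
    exact ⟨by norm_num, fun _ => by norm_num⟩

variable {X : Scheme.{u}} (a : X ⟶ Spec (CommRingCat.of R))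

/-- the induced dimension function on a scheme over a discrete valuation ring -/
noncomputable def δX : X → ℤ := fun ξ =>
  δS R (a ξ) + ((Cardinal.toNat (@Algebra.trdeg ((Spec (CommRingCat.of R)).residueField (a ξ))
    (X.residueField ξ) _ _ (a.residueFieldMap ξ).hom.toAlgebra) : ℕ) : ℤ)

theorem deltaCompat_δX [LocallyOfFiniteType a] : Cyc.DeltaCompat a (δX R a) (δS R) := by
  intro ξ
  obtain ⟨n, hn⟩ := Groth.Agent.Lib.Helper21.FibDim.exists_nat_trdeg_residueFieldMap a ξ
  refine ⟨n, hn, ?_⟩
  unfold δX
  rw [hn, Cardinal.toNat_natCast]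

theorem isSetup_δX [LocallyOfFiniteType a] : Cyc.IsSetup X (δX R a) :=
  Groth.Agent.Lib.Helper18.SetupLft.isSetup_of_locallyOfFiniteType a _ (isSetup_dvr R) _
    (deltaCompat_δX R a)

/-- the dimension function of a fibre in terms of the one on the total space -/
theorem δX_fiberι [LocallyOfFiniteType a] (y : ↥(Spec (CommRingCat.of R)))
    (δy : ↥(a.fiber y) → ℤ)
    (hδy : Cyc.DeltaCompat (a.fiberToSpecResidueField y) δy (fun _ => 0)) (z : ↥(a.fiber y)) :
    δX R a (a.fiberι y z) = δy z + δS R y := by
  have h1 : Cyc.DeltaCompat (a.fiberι y ≫ a) (fun z => δX R a (a.fiberι y z)) (δS R) :=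
    Groth.Agent.Lib.Helper18.PC5.deltaCompat_comp _ _ _ _ _
      (deltaCompat_of_isPreimmersion (a.fiberι y) (δX R a)) (deltaCompat_δX R a)
  have h2a : Cyc.DeltaCompat (a.fiberToSpecResidueField y) (fun z => δy z + δS R y)
      (fun _ => δS R y) := by
    intro z
    obtain ⟨n, hn1, hn2⟩ := hδy z
    refine ⟨n, hn1, ?_⟩
    show δy z + δS R y = δS R y + n
    rw [hn2]
    ring
  have h2b : Cyc.DeltaCompat ((Spec (CommRingCat.of R)).fromSpecResidueField y)
      (fun _ => δS R y) (δS R) := by
    have := deltaCompat_of_isPreimmersion ((Spec (CommRingCat.of R)).fromSpecResidueField y) (δS R)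
    convert this using 2
    rw [Scheme.fromSpecResidueField_apply]
  have h2 : Cyc.DeltaCompat (a.fiberToSpecResidueField y ≫
      (Spec (CommRingCat.of R)).fromSpecResidueField y) (fun z => δy z + δS R y) (δS R) :=
    Groth.Agent.Lib.Helper18.PC5.deltaCompat_comp _ _ _ _ _ h2a h2b
  rw [← a.fiber_fac y] at h2
  exact congrFun (Groth.Agent.Lib.Helper18.FF8.deltaCompat_unique _ _ _ _ h1 h2) z

end DVR

end Groth.Agent.Lib.Helper18.SP1
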