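import Mathlib
import Groth.Prelude.Def_Cyc
import Groth.Agent.S9501
import Groth.Agent.Lib.Helper18.SP1
import Groth.Agent.Lib.Helper18.AB7

/-!
# Specialization of cycles, part 2: local rings of the fibres over a discrete valuation ring
-/

set_option autoImplicit false
set_option linter.unusedSectionVars false
set_option linter.style.haveILetI false
universe u
open AlgebraicGeometry CategoryTheory TopologicalSpace Limits

namespace Groth.Agent.Lib.Helper18.SP2

open Groth.Agent.Lib.Helper18.SP1

variable (R : Type u) [CommRing R] [IsDomain R] [IsDiscreteValuationRing R]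

theorem genericPoint_asIdeal : (genericPoint ↥(Spec (CommRingCat.of R))).asIdeal = ⊥ := by
  have hsp : genericPoint ↥(Spec (CommRingCat.of R)) ⤳
      (⟨⊥, Ideal.isPrime_bot⟩ : PrimeSpectrum R) := genericPoint_specializes _
  have := (PrimeSpectrum.le_iff_specializes _ _).mpr hsp
  exact le_bot_iff.mp this

/-- the local ring at the generic point is a field -/
theorem maximalIdeal_stalk_eq_bot (t : ↥(Spec (CommRingCat.of R))) (ht : t.asIdeal = ⊥) :
    IsLocalRing.maximalIdeal ((Spec (CommRingCat.of R)).presheaf.stalk t) = ⊥ := by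
  letI alg : Algebra R ↑((Spec (CommRingCat.of R)).presheaf.stalk t) :=
    StructureSheaf.stalkAlgebra R t
  haveI : t.asIdeal.IsPrime := t.isPrime
  haveI loc : IsLocalization.AtPrime (↑((Spec (CommRingCat.of R)).presheaf.stalk t)) t.asIdeal :=
    StructureSheaf.IsLocalization.to_stalk R t
  rw [eq_bot_iff]
  intro w hw
  rw [IsLocalRing.mem_maximalIdeal, mem_nonunits_iff] at hw
  obtain ⟨r, u, rfl⟩ := IsLocalization.exists_mk'_eq t.asIdeal.primeCompl
    (S := ↑((Spec (CommRingCat.of R)).presheaf.stalk t)) w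
  by_cases hr : r = 0
  · subst hr
    rw [IsLocalization.mk'_zero]
    exact Submodule.zero_mem _
  · exfalso
    apply hw
    have hrm : r ∈ t.asIdeal.primeCompl := by
      show r ∉ t.asIdeal
      rw [ht]
      exact hr
    have h1 : IsUnit (algebraMap R ↑((Spec (CommRingCat.of R)).presheaf.stalk t) r) :=
      IsLocalization.map_units _ ⟨r, hrm⟩
    have h2 : IsLocalization.mk' ↑((Spec (CommRingCat.of R)).presheaf.stalk t) r u *
        algebraMap R ↑((Spec (CommRingCat.of R)).presheaf.stalk t) u = algebraMap R _ r :=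
      IsLocalization.mk'_spec _ _ _
    exact isUnit_of_mul_isUnit_left (h2 ▸ h1)

/-- the local ring at the closed point has a uniformizer -/
theorem exists_uniformizer_stalk (t : ↥(Spec (CommRingCat.of R)))
    (ht : t.asIdeal = IsLocalRing.maximalIdeal R) :
    ∃ ϖ : ↑((Spec (CommRingCat.of R)).presheaf.stalk t),
      IsLocalRing.maximalIdeal ((Spec (CommRingCat.of R)).presheaf.stalk t) = Ideal.span {ϖ} ∧
      ϖ ∈ nonZeroDivisors ↑((Spec (CommRingCat.of R)).presheaf.stalk t) := by
  letI alg : Algebra R ↑((Spec (CommRingCat.of R)).presheaf.stalk t) :=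
    StructureSheaf.stalkAlgebra R t
  haveI : t.asIdeal.IsPrime := t.isPrime
  haveI loc : IsLocalization.AtPrime (↑((Spec (CommRingCat.of R)).presheaf.stalk t)) t.asIdeal :=
    StructureSheaf.IsLocalization.to_stalk R t
  have hunits : t.asIdeal.primeCompl ≤ IsUnit.submonoid R := by
    intro r hr
    have : r ∉ IsLocalRing.maximalIdeal R := by rw [← ht]; exact hr
    exact (IsLocalRing.notMem_maximalIdeal.mp this)
  let e : R ≃ₐ[R] ↑((Spec (CommRingCat.of R)).presheaf.stalk t) :=
    IsLocalization.atUnits R t.asIdeal.primeCompl hunits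
  have hbij : Function.Bijective (e : R →+* ↑((Spec (CommRingCat.of R)).presheaf.stalk t)) :=
    e.bijective
  obtain ⟨ϖ, hϖ⟩ := IsDiscreteValuationRing.exists_irreducible R
  refine ⟨e ϖ, ?_, ?_⟩
  · rw [← Groth.Agent.Lib.Helper18.AB7.map_maximalIdeal_of_bijective
      (e : R →+* ↑((Spec (CommRingCat.of R)).presheaf.stalk t)) hbij,
      hϖ.maximalIdeal_eq, Ideal.map_span, Set.image_singleton]
    rfl
  · rw [mem_nonZeroDivisors_iff_right]
    intro w hw
    obtain ⟨r, rfl⟩ := e.surjective w
    have h0 : e (r * ϖ) = 0 := by rw [map_mul]; exact hw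
    have h1 : r * ϖ = 0 := by
      have := e.injective (h0.trans (map_zero e).symm)
      exact this
    rcases mul_eq_zero.mp h1 with h | h
    · rw [h, map_zero]
    · exact absurd h hϖ.ne_zero

variable {X : Scheme.{u}} (a : X ⟶ Spec (CommRingCat.of R))

theorem map_fiberι (y : ↥(Spec (CommRingCat.of R))) (z : ↥(a.fiber y)) : a (a.fiberι y z) = y :=
  (a.fiberHomeo y z).2

/-- the local rings of the generic fibre are those of the total space -/
theorem stalkMap_fiberι_generic_bijective
    (ζ : ↥(a.fiber (genericPoint ↥(Spec (CommRingCat.of R))))) :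
    Function.Bijective ((a.fiberι (genericPoint ↥(Spec (CommRingCat.of R)))).stalkMap ζ).hom := by
  obtain ⟨hsurj, hker⟩ := Groth.Agent.S9501.result a (genericPoint ↥(Spec (CommRingCat.of R))) ζ
  refine ⟨?_, hsurj⟩
  rw [injective_iff_map_eq_zero]
  intro w hw
  have hmem : w ∈ RingHom.ker ((a.fiberι (genericPoint ↥(Spec (CommRingCat.of R)))).stalkMap ζ).hom :=
    hw
  rw [hker] at hmem
  have ht : (a ((a.fiberι (genericPoint ↥(Spec (CommRingCat.of R)))) ζ)).asIdeal = ⊥ := by
    rw [map_fiberι]
    exact genericPoint_asIdeal R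
  have h0 := maximalIdeal_stalk_eq_bot R _ ht
  change w ∈ Ideal.map _ (IsLocalRing.maximalIdeal
    ((Spec (CommRingCat.of R)).presheaf.stalk (a ((a.fiberι _) ζ)))) at hmem
  rw [h0, Ideal.map_bot] at hmem
  exact hmem

/-- the local rings of the closed fibre are the quotients by the uniformizer -/
theorem ker_stalkMap_fiberι_closed (x : ↥(a.fiber (IsLocalRing.closedPoint R)))
    (ϖ : ↑((Spec (CommRingCat.of R)).presheaf.stalk
      (a (a.fiberι (IsLocalRing.closedPoint R) x))))
    (hϖ : IsLocalRing.maximalIdeal ((Spec (CommRingCat.of R)).presheaf.stalk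
      (a (a.fiberι (IsLocalRing.closedPoint R) x))) = Ideal.span {ϖ}) :
    Function.Surjective ((a.fiberι (IsLocalRing.closedPoint R)).stalkMap x).hom ∧
    RingHom.ker ((a.fiberι (IsLocalRing.closedPoint R)).stalkMap x).hom =
      Ideal.span {(a.stalkMap (a.fiberι (IsLocalRing.closedPoint R) x)).hom ϖ} := by
  obtain ⟨hsurj, hker⟩ := Groth.Agent.S9501.result a (IsLocalRing.closedPoint R) x
  refine ⟨hsurj, ?_⟩
  rw [hker]
  change Ideal.map _ (IsLocalRing.maximalIdeal ((Spec (CommRingCat.of R)).presheaf.stalk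
      (a (a.fiberι (IsLocalRing.closedPoint R) x)))) = _
  rw [hϖ, Ideal.map_span, Set.image_singleton]

end Groth.Agent.Lib.Helper18.SP2
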