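import Mathlib
import Groth.Prelude.Def_Cyc
import Groth.Agent.Lib.Helper18.SP2
import Groth.Agent.Lib.Helper18.ClImmStalk
import Groth.Agent.Lib.Helper18.FF2

/-!
# Specialization of cycles, part 3: lengths of the stalks of the restrictions to the fibres
-/

set_option autoImplicit false
set_option linter.unusedSectionVars false
set_option linter.style.haveILetI false
universe u
open AlgebraicGeometry CategoryTheory TopologicalSpace Limits TensorProduct
open scoped Pointwise

namespace Groth.Agent.Lib.Helper18.SP3

open Groth.Agent.Lib.Helper18.SP1 Groth.Agent.Lib.Helper18.SP2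

section Alg

variable {A B : Type u} [CommRing A] [CommRing B] [Algebra A B]

theorem length_tensor_of_bijective (hb : Function.Bijective (algebraMap A B))
    (M : Type u) [AddCommGroup M] [Module A M] :
    Module.length B (B ⊗[A] M) = Module.length A M := by
  have hker : RingHom.ker (algebraMap A B) = Ideal.span {(0 : A)} := by
    rw [Ideal.span_singleton_eq_bot.mpr rfl]
    exact (RingHom.injective_iff_ker_eq_bot _).mp hb.1
  rw [Groth.Agent.Lib.Helper18.ClImmStalk.length_tensor_of_surjective hb.2 M 0 hker]
  have h0 : (0 : A) • (⊤ : Submodule A M) = ⊥ := by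
    rw [eq_bot_iff]
    rintro m hm
    rw [Submodule.mem_smul_pointwise_iff_exists] at hm
    obtain ⟨m', -, rfl⟩ := hm
    rw [zero_smul]
    exact Submodule.zero_mem _
  exact (Submodule.quotEquivOfEqBot _ h0).length_eq

end Alg

section Fib

variable (R : Type u) [CommRing R] [IsDomain R] [IsDiscreteValuationRing R]
  {X : Scheme.{u}} (a : X ⟶ Spec (CommRingCat.of R))

/-- the stalks of the restriction to the generic fibre -/
theorem length_stalk_generic (F : X.Modules)
    (ζ : ↥(a.fiber (genericPoint ↥(Spec (CommRingCat.of R))))) :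
    Module.length ((a.fiber (genericPoint ↥(Spec (CommRingCat.of R)))).presheaf.stalk ζ)
      (((Scheme.Modules.pullback (a.fiberι (genericPoint ↥(Spec (CommRingCat.of R))))).obj
        F).presheaf.stalk ζ) =
    Module.length (X.presheaf.stalk (a.fiberι (genericPoint ↥(Spec (CommRingCat.of R))) ζ))
      (F.presheaf.stalk (a.fiberι (genericPoint ↥(Spec (CommRingCat.of R))) ζ)) := by
  letI := ((a.fiberι (genericPoint ↥(Spec (CommRingCat.of R)))).stalkMap ζ).hom.toAlgebra
  rw [(Groth.Agent.Lib.Helper18.PullStalk.stalkPullbackEquiv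
    (a.fiberι (genericPoint ↥(Spec (CommRingCat.of R)))) F ζ).length_eq]
  exact length_tensor_of_bijective (stalkMap_fiberι_generic_bijective R a ζ) _

/-- the stalks of the restriction to the closed fibre -/
theorem length_stalk_closed (F : X.Modules) (x : ↥(a.fiber (IsLocalRing.closedPoint R)))
    (ϖ : ↑((Spec (CommRingCat.of R)).presheaf.stalk
      (a (a.fiberι (IsLocalRing.closedPoint R) x))))
    (hϖ : IsLocalRing.maximalIdeal ((Spec (CommRingCat.of R)).presheaf.stalk
      (a (a.fiberι (IsLocalRing.closedPoint R) x))) = Ideal.span {ϖ}) :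
    Module.length ((a.fiber (IsLocalRing.closedPoint R)).presheaf.stalk x)
      (((Scheme.Modules.pullback (a.fiberι (IsLocalRing.closedPoint R))).obj F).presheaf.stalk x) =
    Module.length (X.presheaf.stalk (a.fiberι (IsLocalRing.closedPoint R) x))
      (F.presheaf.stalk (a.fiberι (IsLocalRing.closedPoint R) x) ⧸
        ((a.stalkMap (a.fiberι (IsLocalRing.closedPoint R) x)).hom ϖ) •
          (⊤ : Submodule (X.presheaf.stalk (a.fiberι (IsLocalRing.closedPoint R) x))
            (F.presheaf.stalk (a.fiberι (IsLocalRing.closedPoint R) x)))) := by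
  obtain ⟨hsurj, hker⟩ := ker_stalkMap_fiberι_closed R a x ϖ hϖ
  letI := ((a.fiberι (IsLocalRing.closedPoint R)).stalkMap x).hom.toAlgebra
  rw [(Groth.Agent.Lib.Helper18.PullStalk.stalkPullbackEquiv
    (a.fiberι (IsLocalRing.closedPoint R)) F x).length_eq]
  exact Groth.Agent.Lib.Helper18.ClImmStalk.length_tensor_of_surjective hsurj _ _ hker

/-- the multiplicity of the closed fibre of the closure of a point, as an order of vanishing -/
theorem length_locQuot (x' ξ : X) (h : ξ ⤳ x')
    (ϖ : ↑((Spec (CommRingCat.of R)).presheaf.stalk (a x')))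
    (hϖ : IsLocalRing.maximalIdeal ((Spec (CommRingCat.of R)).presheaf.stalk (a x')) =
      Ideal.span {ϖ}) :
    Module.length (X.presheaf.stalk x')
      (Cyc.LocQuot x' ξ h ⧸
        (IsLocalRing.maximalIdeal ((Spec (CommRingCat.of R)).presheaf.stalk (a x'))).map
          ((Ideal.Quotient.mk (RingHom.ker (Cyc.specMap x' ξ h))).comp (a.stalkMap x').hom)) =
    Ring.ord (Cyc.LocQuot x' ξ h)
      (Ideal.Quotient.mk (RingHom.ker (Cyc.specMap x' ξ h)) ((a.stalkMap x').hom ϖ)) := by
  rw [hϖ, Ideal.map_span, Set.image_singleton]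
  unfold Ring.ord
  refine Groth.Agent.Lib.Helper18.FF2.length_eq_of_semilinear_bijective
    (Ideal.Quotient.mk (RingHom.ker (Cyc.specMap x' ξ h))) Ideal.Quotient.mk_surjective
    (AddMonoidHom.id _) Function.bijective_id ?_
  intro r m
  rfl

end Fib

end Groth.Agent.Lib.Helper18.SP3
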