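import Mathlib
import Groth.Prelude.Def_Cyc
import Groth.Prelude.Def_FlatMod2
import Groth.Agent.Lib.Helper18.SP3
import Groth.Agent.Lib.Helper18.ModGenSum
import Groth.Agent.Lib.Helper18.ModStalkLoc
import Groth.Agent.Lib.Helper18.LocStalk2
import Groth.Agent.Lib.Helper18.CycLen
import Groth.Agent.Lib.Helper18.PullSec2
import Groth.Agent.Lib.Helper17.ZClosDepth

/-!
# Specialization of cycles, part 4: the specialization of the cycle of a flat coherent module
-/

set_option autoImplicit false
set_option linter.unusedSectionVars false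
set_option linter.style.haveILetI false
universe u
open AlgebraicGeometry CategoryTheory TopologicalSpace Limits
open scoped Pointwise

namespace Groth.Agent.Lib.Helper18.SP4

open Groth.Agent.Lib.Helper18.SP1 Groth.Agent.Lib.Helper18.SP2 Groth.Agent.Lib.Helper18.SP3
  Groth.Agent.Lib.Helper18.LocStalk

section Alg

/-- a nonzero module with a regular element has a point of its support off that element -/
theorem exists_support_notMem {A : Type u} [CommRing A] {M : Type u} [AddCommGroup M] [Module A M]
    [Nontrivial M] (f : A) (hreg : IsSMulRegular M f) :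
    ∃ q : PrimeSpectrum A, q ∈ Module.support A M ∧ f ∉ q.asIdeal := by
  obtain ⟨m, hm⟩ := exists_ne (0 : M)
  let I : Ideal A := (Submodule.span A {m}).annihilator
  have hdisj : Disjoint (I : Set A) (Submonoid.powers f : Set A) := by
    rw [Set.disjoint_left]
    rintro r hr ⟨n, rfl⟩
    have h0 : f ^ n • m = 0 := (Submodule.mem_annihilator_span_singleton m (f ^ n)).mp hr
    have hregn : IsSMulRegular M (f ^ n) := hreg.pow n
    exact hm (hregn (by show f ^ n • m = f ^ n • 0; rw [h0, smul_zero]))
  obtain ⟨p, hp, hIp, hpd⟩ := Ideal.exists_le_prime_disjoint I (Submonoid.powers f) hdisj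
  refine ⟨⟨p, hp⟩, ?_, ?_⟩
  · rw [Module.mem_support_iff']
    refine ⟨m, fun r hr h0 => hr (hIp ?_)⟩
    exact (Submodule.mem_annihilator_span_singleton m r).mpr h0
  · intro hf
    exact Set.disjoint_left.mp hpd hf ⟨1, pow_one f⟩

end Alg

variable (R : Type u) [CommRing R] [IsDomain R] [IsDiscreteValuationRing R]
  {X : Scheme.{u}} (a : X ⟶ Spec (CommRingCat.of R)) [LocallyOfFiniteType a]

theorem generic_ne_closed :
    genericPoint ↥(Spec (CommRingCat.of R)) ≠ IsLocalRing.closedPoint R := by
  intro h
  have h1 := genericPoint_asIdeal R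
  rw [h] at h1
  exact IsDiscreteValuationRing.not_a_field R h1

theorem cases_point (ξ : X) :
    (∃ ζ, a.fiberι (genericPoint ↥(Spec (CommRingCat.of R))) ζ = ξ) ∨
      (∃ x, a.fiberι (IsLocalRing.closedPoint R) x = ξ) := by
  rcases asIdeal_eq R (a ξ) with h | h
  · left
    have hη : a ξ = genericPoint ↥(Spec (CommRingCat.of R)) :=
      PrimeSpectrum.ext (h.trans (genericPoint_asIdeal R).symm)
    have : ξ ∈ Set.range (a.fiberι (genericPoint ↥(Spec (CommRingCat.of R)))) := by
      rw [Scheme.Hom.range_fiberι]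
      exact hη
    exact this
  · right
    have hs : a ξ = IsLocalRing.closedPoint R := PrimeSpectrum.ext h
    have : ξ ∈ Set.range (a.fiberι (IsLocalRing.closedPoint R)) := by
      rw [Scheme.Hom.range_fiberι]
      exact hs
    exact this

variable (δη : ↥(a.fiber (genericPoint ↥(Spec (CommRingCat.of R)))) → ℤ)
  (δs : ↥(a.fiber (IsLocalRing.closedPoint R)) → ℤ)
  (hδη : Cyc.DeltaCompat (a.fiberToSpecResidueField (genericPoint ↥(Spec (CommRingCat.of R)))) δη
    (fun _ => 0))
  (hδs : Cyc.DeltaCompat (a.fiberToSpecResidueField (IsLocalRing.closedPoint R)) δs (fun _ => 0))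

include hδη in
theorem δX_generic (ζ : ↥(a.fiber (genericPoint ↥(Spec (CommRingCat.of R))))) :
    δX R a (a.fiberι (genericPoint ↥(Spec (CommRingCat.of R))) ζ) = δη ζ + 1 := by
  rw [δX_fiberι R a _ δη hδη ζ, δS_generic]

include hδs in
theorem δX_closed (x : ↥(a.fiber (IsLocalRing.closedPoint R))) :
    δX R a (a.fiberι (IsLocalRing.closedPoint R) x) = δs x := by
  rw [δX_fiberι R a _ δs hδs x, δS_closed, add_zero]

variable [IsLocallyNoetherian X] (r : ℤ) (F : X.Modules) (hF : Coh.IsCoh F)
  (hflat : FlatMod.IsFlatOver a F)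
  (hdim : ∀ ζ : ↥(a.fiber (genericPoint ↥(Spec (CommRingCat.of R)))),
    Nontrivial (((Scheme.Modules.pullback
      (a.fiberι (genericPoint ↥(Spec (CommRingCat.of R))))).obj F).presheaf.stalk ζ) → δη ζ ≤ r)

include hflat in
/-- the uniformizer is a regular element on the stalks at points of the closed fibre -/
theorem isSMulRegular_uniformizer (ξ : X)
    (ϖ : ↑((Spec (CommRingCat.of R)).presheaf.stalk (a ξ)))
    (hϖ : ϖ ∈ nonZeroDivisors ↑((Spec (CommRingCat.of R)).presheaf.stalk (a ξ))) :
    IsSMulRegular (F.presheaf.stalk ξ) ((a.stalkMap ξ).hom ϖ) := by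
  have h := hflat ξ
  letI := FlatMod.moduleStalkOver a F ξ
  haveI : Module.Flat ((Spec (CommRingCat.of R)).presheaf.stalk (a.base ξ))
    (F.presheaf.stalk ξ) := h
  have h1 : IsSMulRegular (F.presheaf.stalk ξ) ϖ :=
    Module.Flat.isSMulRegular_of_nonZeroDivisors hϖ
  intro m₁ m₂ h12
  exact h1 h12

include hδη hδs hF hflat hdim in
/-- the support of a flat coherent module has dimension at most `r + 1`, and at most `r` in the
closed fibre -/
theorem delta_le_of_nontrivial (ξ : X) (hξ : Nontrivial (F.presheaf.stalk ξ)) :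
    δX R a ξ ≤ r + 1 ∧ (a ξ = IsLocalRing.closedPoint R → δX R a ξ ≤ r) := by
  haveI := hF.1
  haveI := hF.2
  have hgen : ∀ ζ : ↥(a.fiber (genericPoint ↥(Spec (CommRingCat.of R)))),
      Nontrivial (F.presheaf.stalk (a.fiberι (genericPoint ↥(Spec (CommRingCat.of R))) ζ)) →
      δX R a (a.fiberι (genericPoint ↥(Spec (CommRingCat.of R))) ζ) ≤ r + 1 := by
    intro ζ hζ
    rw [δX_generic R a δη hδη ζ]
    have hnt : Nontrivial (((Scheme.Modules.pullback
        (a.fiberι (genericPoint ↥(Spec (CommRingCat.of R))))).obj F).presheaf.stalk ζ) := by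
      by_contra hn
      rw [not_nontrivial_iff_subsingleton] at hn
      have h0 : Module.length
          ((a.fiber (genericPoint ↥(Spec (CommRingCat.of R)))).presheaf.stalk ζ)
          (((Scheme.Modules.pullback
            (a.fiberι (genericPoint ↥(Spec (CommRingCat.of R))))).obj F).presheaf.stalk ζ) = 0 :=
        Module.length_eq_zero_iff.mpr hn
      rw [length_stalk_generic R a F ζ, Module.length_eq_zero_iff] at h0
      exact not_subsingleton _ h0
    have := hdim ζ hnt
    omega
  rcases cases_point R a ξ with ⟨ζ, rfl⟩ | ⟨x, rfl⟩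
  · refine ⟨hgen ζ hξ, fun h => ?_⟩
    exfalso
    rw [map_fiberι] at h
    exact generic_ne_closed R h
  · suffices h : δX R a (a.fiberι (IsLocalRing.closedPoint R) x) ≤ r from ⟨by omega, fun _ => h⟩
    set ξ := a.fiberι (IsLocalRing.closedPoint R) x with hξdef
    have haξ : a ξ = IsLocalRing.closedPoint R := map_fiberι R a _ x
    have ht : (a ξ).asIdeal = IsLocalRing.maximalIdeal R := by rw [haξ]; rfl
    obtain ⟨ϖ, hϖ, hϖnz⟩ := exists_uniformizer_stalk R (a ξ) ht
    have hreg := isSMulRegular_uniformizer R a F hflat ξ ϖ hϖnz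
    obtain ⟨q, hq, hfq⟩ := exists_support_notMem ((a.stalkMap ξ).hom ϖ) hreg
    set ξ₀ := X.fromSpecStalk ξ q with hξ₀
    have hsp : ξ₀ ⤳ ξ := fromSpecStalk_specializes ξ q
    have hnt₀ : Nontrivial (F.presheaf.stalk ξ₀) := by
      have := (Groth.Agent.Lib.Helper18.JacDim.fromSpecStalk_mem_support_iff F ξ q).mpr hq
      rw [Groth.Agent.Lib.Helper18.CycLen.support_eq_setOf_nontrivial] at this
      exact this
    have hqeq := eq_ker_specMap_of_fromSpecStalk_eq ξ ξ₀ hsp q rfl
    have hunit : IsUnit ((X.presheaf.stalkSpecializes hsp).hom ((a.stalkMap ξ).hom ϖ)) := by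
      by_contra hnu
      apply hfq
      rw [hqeq]
      exact (mem_ker_specMap_iff ξ ξ₀ hsp _).mpr hnu
    -- the generization is not in the closed fibre
    have hne : a ξ₀ ≠ IsLocalRing.closedPoint R := by
      intro h0
      have hnat := Scheme.Hom.stalkSpecializes_stalkMap_apply a ξ₀ ξ hsp ϖ
      rw [← hnat] at hunit
      have hloc : IsLocalHom (a.stalkMap ξ₀).hom := inferInstance
      have hu2 := hloc.map_nonunit _ hunit
      -- transport back
      have hback : a ξ ⤳ a ξ₀ := by rw [haξ, h0]
      have hu3 := hu2.map ((Spec (CommRingCat.of R)).presheaf.stalkSpecializes hback).hom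
      have hcomp := (Spec (CommRingCat.of R)).presheaf.stalkSpecializes_comp hback
        (a.base.hom.map_specializes hsp)
      have hid : ((Spec (CommRingCat.of R)).presheaf.stalkSpecializes hback).hom
          (((Spec (CommRingCat.of R)).presheaf.stalkSpecializes
            (a.base.hom.map_specializes hsp)).hom ϖ) = ϖ := by
        have h1 := congrArg (fun φ => φ.hom ϖ) hcomp
        simp only [CommRingCat.hom_comp, RingHom.comp_apply] at h1
        rw [h1]
        have h2 := (Spec (CommRingCat.of R)).presheaf.stalkSpecializes_refl (a ξ)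
        have h3 := congrArg (fun φ => φ.hom ϖ) h2
        exact h3
      rw [hid] at hu3
      have hmem : ϖ ∈ IsLocalRing.maximalIdeal
          ((Spec (CommRingCat.of R)).presheaf.stalk (a ξ)) := by
        rw [hϖ]
        exact Ideal.mem_span_singleton_self ϖ
      exact (IsLocalRing.mem_maximalIdeal _).mp hmem hu3
    rcases cases_point R a ξ₀ with ⟨ζ₀, hζ₀⟩ | ⟨x₀, hx₀⟩
    · have h1 := hgen ζ₀ (hζ₀ ▸ hnt₀)
      rw [hζ₀] at h1
      have hneq : ξ₀ ≠ ξ := by
        intro he
        apply hne
        rw [he, haξ]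
      have h2 := ((isSetup_δX R a).2.2 ξ₀ ξ hsp hneq).1
      omega
    · exfalso
      apply hne
      rw [← hx₀, map_fiberι]

end Groth.Agent.Lib.Helper18.SP4
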