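import Mathlib
import Groth.Prelude.Def_Cyc
import Groth.Prelude.Def_FlatMod2
import Groth.Agent.Lib.Helper18.SP4

/-!
# Specialization of cycles, part 5: `sp [F_η]_r = [F_s]_r`
-/

set_option autoImplicit false
set_option linter.unusedSectionVars false
set_option linter.style.haveILetI false
universe u
open AlgebraicGeometry CategoryTheory TopologicalSpace Limits
open scoped Pointwise

namespace Groth.Agent.Lib.Helper18.SP5

open Groth.Agent.Lib.Helper18.SP1 Groth.Agent.Lib.Helper18.SP2 Groth.Agent.Lib.Helper18.SP3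
  Groth.Agent.Lib.Helper18.SP4 Groth.Agent.Lib.Helper18.LocStalk

variable (R : Type u) [CommRing R] [IsDomain R] [IsDiscreteValuationRing R]
  {X : Scheme.{u}} (a : X ⟶ Spec (CommRingCat.of R)) [LocallyOfFiniteType a]
  (δη : ↥(a.fiber (genericPoint ↥(Spec (CommRingCat.of R)))) → ℤ)
  (δs : ↥(a.fiber (IsLocalRing.closedPoint R)) → ℤ)
  (hδη : Cyc.DeltaCompat (a.fiberToSpecResidueField (genericPoint ↥(Spec (CommRingCat.of R)))) δη
    (fun _ => 0))
  (hδs : Cyc.DeltaCompat (a.fiberToSpecResidueField (IsLocalRing.closedPoint R)) δs (fun _ => 0))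
  [IsLocallyNoetherian X] (r : ℤ) (F : X.Modules) (hF : Coh.IsCoh F)
  (hflat : FlatMod.IsFlatOver a F)
  (hdim : ∀ ζ : ↥(a.fiber (genericPoint ↥(Spec (CommRingCat.of R)))),
    Nontrivial (((Scheme.Modules.pullback
      (a.fiberι (genericPoint ↥(Spec (CommRingCat.of R))))).obj F).presheaf.stalk ζ) → δη ζ ≤ r)

include hδη hδs hF hflat hdim in
theorem part1 (x : ↥(a.fiber (IsLocalRing.closedPoint R)))
    (hx : Nontrivial (((Scheme.Modules.pullback
      (a.fiberι (IsLocalRing.closedPoint R))).obj F).presheaf.stalk x)) : δs x ≤ r := by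
  have h1 := Groth.Agent.Lib.Helper18.PullStalk.nontrivial_of_nontrivial_stalk_pullback
    (a.fiberι (IsLocalRing.closedPoint R)) F x hx
  have h2 := (delta_le_of_nontrivial R a δη δs hδη hδs r F hF hflat hdim _ h1).2
    (map_fiberι R a _ x)
  rwa [δX_closed R a δs hδs x] at h2

include hδη hδs hF hflat hdim in
set_option maxHeartbeats 1600000 in
theorem part2 (x : ↥(a.fiber (IsLocalRing.closedPoint R))) :
    Cyc.spFun a (genericPoint ↥(Spec (CommRingCat.of R))) (IsLocalRing.closedPoint R) δη δs r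
      (Cyc.sheafFun δη r ((Scheme.Modules.pullback
        (a.fiberι (genericPoint ↥(Spec (CommRingCat.of R))))).obj F)) x =
    Cyc.sheafFun δs r ((Scheme.Modules.pullback
      (a.fiberι (IsLocalRing.closedPoint R))).obj F) x := by
  classical
  haveI := hF.1
  haveI := hF.2
  unfold Cyc.spFun
  by_cases hx : δs x = r
  swap
  · rw [if_neg hx]
    unfold Cyc.sheafFun
    rw [if_neg hx]
  rw [if_pos hx]
  set ιη := a.fiberι (genericPoint ↥(Spec (CommRingCat.of R))) with hιη
  set ιs := a.fiberι (IsLocalRing.closedPoint R) with hιs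
  set x' := ιs x with hx'
  have hδx' : δX R a x' = r := by rw [hx', hιs, δX_closed R a δs hδs x, hx]
  have hax' : a x' = IsLocalRing.closedPoint R := map_fiberι R a _ x
  have ht : (a x').asIdeal = IsLocalRing.maximalIdeal R := by rw [hax']; rfl
  obtain ⟨ϖ, hϖ, hϖnz⟩ := exists_uniformizer_stalk R (a x') ht
  have hreg := isSMulRegular_uniformizer R a F hflat x' ϖ hϖnz
  have hsetup := isSetup_δX R a
  haveI : Module.Finite (X.presheaf.stalk x') (F.presheaf.stalk x') :=
    Groth.Agent.Lib.Helper17.ZClosDepth.module_finite_stalk F x'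
  have hP1 := delta_le_of_nontrivial R a δη δs hδη hδs r F hF hflat hdim
  have hdimM : ∀ q ∈ Module.support (X.presheaf.stalk x') (F.presheaf.stalk x'),
      δX R a (X.fromSpecStalk x' q) ≤ δX R a x' + 1 := by
    intro q hq
    have hmem := (Groth.Agent.Lib.Helper18.JacDim.fromSpecStalk_mem_support_iff F x' q).mpr hq
    rw [Groth.Agent.Lib.Helper18.CycLen.support_eq_setOf_nontrivial] at hmem
    have := (hP1 _ hmem).1
    rw [hδx']
    exact this
  have key := Groth.Agent.Lib.Helper18.ModGenSum.length_quot_eq_finsum_generizations (δX R a)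
    hsetup.2.2 x' (F.presheaf.stalk x') hdimM ((a.stalkMap x').hom ϖ) hreg
  -- the right hand side
  have hR : Cyc.sheafFun δs r ((Scheme.Modules.pullback ιs).obj F) x =
      ((Module.length (X.presheaf.stalk x') (F.presheaf.stalk x' ⧸
        ((a.stalkMap x').hom ϖ) • (⊤ : Submodule (X.presheaf.stalk x')
          (F.presheaf.stalk x')))).toNat : ℤ) := by
    unfold Cyc.sheafFun
    rw [if_pos hx, length_stalk_closed R a F x ϖ hϖ]
  rw [hR, key]
  -- reindex the sum
  let g : {ζ : ↥(a.fiber (genericPoint ↥(Spec (CommRingCat.of R)))) //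
      δη ζ = r ∧ ιη ζ ⤳ x'} → X := fun ζ => ιη ζ.1
  have hg : Function.Injective g := fun ζ₁ ζ₂ h =>
    Subtype.ext (ιη.isEmbedding.injective h)
  rw [Groth.Agent.Lib.Helper18.PullSec.finsum_eq_finsum_comp g hg]
  · apply finsum_congr
    intro ζ
    have hcond : ιη ζ.1 ⤳ x' ∧ δX R a x' + 1 = δX R a (ιη ζ.1) := by
      refine ⟨ζ.2.2, ?_⟩
      rw [hδx', hιη, δX_generic R a δη hδη ζ.1, ζ.2.1]
    show _ = dite _ _ _
    rw [dif_pos hcond]
    congr 1
    · unfold Cyc.sheafFun
      rw [if_pos ζ.2.1, length_stalk_generic R a F ζ.1,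
        ← Groth.Agent.Lib.Helper18.ModStalkLoc.length_localizedModule_stalk F x' (ιη ζ.1) ζ.2.2]
    · rw [length_locQuot R a x' (ιη ζ.1) ζ.2.2 ϖ hϖ]
  · intro ξ hξ
    by_cases hcond : ξ ⤳ x' ∧ δX R a x' + 1 = δX R a ξ
    · rw [dif_pos hcond] at hξ
      have hA := left_ne_zero_of_mul hξ
      have hnt : Nontrivial (F.presheaf.stalk ξ) := by
        by_contra hn
        rw [not_nontrivial_iff_subsingleton] at hn
        apply hA
        rw [Groth.Agent.Lib.Helper18.ModStalkLoc.length_localizedModule_stalk F x' ξ hcond.1,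
          Module.length_eq_zero_iff.mpr hn]
        rfl
      have hnot : a ξ ≠ IsLocalRing.closedPoint R := by
        intro h
        have := (hP1 ξ hnt).2 h
        omega
      rcases cases_point R a ξ with ⟨ζ, hζ⟩ | ⟨x₀, hx₀⟩
      · have hδζ : δη ζ = r := by
          have h1 := δX_generic R a δη hδη ζ
          rw [hζ] at h1
          omega
        exact ⟨⟨ζ, hδζ, by rw [hιη, hζ]; exact hcond.1⟩, hζ⟩
      · exfalso
        apply hnot
        rw [← hx₀, map_fiberι]
    · rw [dif_neg hcond] at hξ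
      exact absurd rfl hξ

end Groth.Agent.Lib.Helper18.SP5
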