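import Mathlib
import Groth.Prelude.Def_Cyc
import Groth.Agent.S9501
import Groth.Agent.Lib.Helper18.PushStalk

/-!
# Closed subschemes and fibres: stalks (for `sp [W_η] = [W_s]`)
-/

set_option autoImplicit false
set_option linter.unusedSectionVars false
set_option linter.style.haveILetI false
universe u
open AlgebraicGeometry CategoryTheory TopologicalSpace Limits
open scoped Pointwise

namespace Groth.Agent.Lib.Helper18.SQ1

/-- lengths of quotients by an element through a semilinear bijection -/
theorem length_quot_smul_of_semilinear_bijective {A B : Type*} [CommRing A] [CommRing B]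
    (σ : A →+* B) (hσ : Function.Surjective σ) {M N : Type*} [AddCommGroup M] [Module A M]
    [AddCommGroup N] [Module B N] (φ : M →+ N) (hφ : Function.Bijective φ)
    (hsmul : ∀ (a : A) (m : M), φ (a • m) = σ a • φ m) (t : A) :
    Module.length A (M ⧸ t • (⊤ : Submodule A M)) =
      Module.length B (N ⧸ σ t • (⊤ : Submodule B N)) := by
  haveI : RingHomSurjective σ := ⟨hσ⟩
  let f : M →ₛₗ[σ] N := ⟨⟨φ, map_add φ⟩, hsmul⟩
  have hle : t • (⊤ : Submodule A M) ≤ Submodule.comap f (σ t • (⊤ : Submodule B N)) := by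
    intro m hm
    obtain ⟨m', -, rfl⟩ := (Submodule.mem_smul_pointwise_iff_exists _ _ _).mp hm
    rw [Submodule.mem_comap]
    change φ (t • m') ∈ _
    rw [hsmul]
    exact Submodule.smul_mem_pointwise_smul _ _ _ Submodule.mem_top
  let g := Submodule.mapQ (t • (⊤ : Submodule A M)) (σ t • (⊤ : Submodule B N)) f hle
  have hg : Function.Bijective g := by
    constructor
    · rw [injective_iff_map_eq_zero]
      intro q hq
      obtain ⟨m, rfl⟩ := Submodule.Quotient.mk_surjective _ q
      rw [Submodule.mapQ_apply, Submodule.Quotient.mk_eq_zero] at hq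
      obtain ⟨n, -, hn⟩ := (Submodule.mem_smul_pointwise_iff_exists _ _ _).mp hq
      obtain ⟨m', rfl⟩ := hφ.2 n
      have : φ m = φ (t • m') := by rw [hsmul]; exact hn.symm
      rw [Submodule.Quotient.mk_eq_zero, hφ.1 this]
      exact Submodule.smul_mem_pointwise_smul _ _ _ Submodule.mem_top
    · intro q
      obtain ⟨n, rfl⟩ := Submodule.Quotient.mk_surjective _ q
      obtain ⟨m, rfl⟩ := hφ.2 n
      exact ⟨Submodule.Quotient.mk m, rfl⟩
  exact Groth.Agent.Lib.Helper18.PushStalk.length_eq_of_semilinear_bijective σ hσ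
    g.toAddMonoidHom hg (fun a q => map_smulₛₗ g a q)

/-- the local rings of a scheme isomorphic to a fibre -/
theorem stalkMap_of_iso_fiber {W S W' : Scheme.{u}} (h : W ⟶ S) (y : S) (e : W' ≅ h.fiber y)
    (f : W' ⟶ W) (hf : f = e.hom ≫ h.fiberι y) (z : W') :
    Function.Surjective (f.stalkMap z).hom ∧
      RingHom.ker (f.stalkMap z).hom =
        Ideal.map (h.stalkMap (f z)).hom
          (IsLocalRing.maximalIdeal (S.presheaf.stalk (h (f z)))) := by
  subst hf
  obtain ⟨hsurj, hker⟩ := Groth.Agent.S9501.result h y (e.hom z)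
  have hcomp : (e.hom ≫ h.fiberι y).stalkMap z =
      (h.fiberι y).stalkMap (e.hom z) ≫ e.hom.stalkMap z :=
    Scheme.Hom.stalkMap_comp e.hom (h.fiberι y) z
  have hbij : Function.Bijective (e.hom.stalkMap z).hom :=
    (ConcreteCategory.isIso_iff_bijective (e.hom.stalkMap z)).1 inferInstance
  constructor
  · rw [hcomp]
    exact hbij.2.comp hsurj
  · rw [hcomp]
    ext t
    rw [RingHom.mem_ker]
    change (e.hom.stalkMap z).hom (((h.fiberι y).stalkMap (e.hom z)).hom t) = 0 ↔ _
    rw [map_eq_zero_iff _ hbij.1, ← RingHom.mem_ker, hker]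
    rfl

end Groth.Agent.Lib.Helper18.SQ1
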