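import Mathlib
import Groth.Prelude.Def_Cyc
import Groth.Prelude.Def_FlatMod2
import Groth.Agent.Lib.Helper18.SP5
import Groth.Agent.Lib.Helper18.SQ1
import Groth.Agent.Lib.Helper18.PushStalk
import Groth.Agent.Lib.Helper29.SerreA
import Groth.Agent.Lib.Helper29.GenLocus
import Groth.Agent.Lib.Helper29.QCohPush

/-!
# The structure sheaf of a closed subscheme as a coherent module: stalks, flatness
-/

set_option autoImplicit false
set_option linter.unusedSectionVars false
set_option linter.style.haveILetI false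
universe u
open AlgebraicGeometry CategoryTheory TopologicalSpace Limits
open scoped Pointwise

namespace Groth.Agent.Lib.Helper18.SQ2

open Groth.Agent.Lib.Helper18.PushStalk

/-- abstract form of `length_quot_stalk` -/
theorem length_quot_abs {A B C : Type u} [CommRing A] [CommRing B] [CommRing C] [IsLocalRing C]
    (σ : A →+* B) (hσ : Function.Surjective σ) (g : C →+* A) (gB : C →+* B)
    (hcomp : gB = σ.comp g) (ϖ : C) (hϖ : IsLocalRing.maximalIdeal C = Ideal.span {ϖ})
    {M : Type u} [AddCommGroup M] [Module A M] (φ : M →+ B) (hφ : Function.Bijective φ)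
    (hsmul : ∀ (t : A) (m : M), φ (t • m) = σ t * φ m) :
    Module.length A (M ⧸ (g ϖ) • (⊤ : Submodule A M)) =
      Module.length B (B ⧸ Ideal.map gB (IsLocalRing.maximalIdeal C)) := by
  rw [Groth.Agent.Lib.Helper18.SQ1.length_quot_smul_of_semilinear_bijective σ hσ φ hφ hsmul (g ϖ)]
  have hEq : (σ (g ϖ)) • (⊤ : Submodule B B) = Ideal.map gB (IsLocalRing.maximalIdeal C) := by
    rw [hϖ, Ideal.map_span, Set.image_singleton, hcomp]
    ext b
    rw [Submodule.mem_smul_pointwise_iff_exists, Ideal.mem_span_singleton']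
    constructor
    · rintro ⟨c, -, rfl⟩
      exact ⟨c, by rw [smul_eq_mul, mul_comm]; rfl⟩
    · rintro ⟨c, rfl⟩
      exact ⟨c, Submodule.mem_top, by rw [smul_eq_mul, mul_comm]; rfl⟩
  exact (Submodule.quotEquivOfEq _ _ hEq).length_eq

variable {X W : Scheme.{u}} (ι : W ⟶ X) [IsClosedImmersion ι]

/-- the direct image of the structure sheaf of a closed subscheme -/
noncomputable abbrev OW : X.Modules := (Coh.push ι).obj (Coh.structureModule W)

theorem isCoh_OW [IsLocallyNoetherian X] : Coh.IsCoh (OW ι) := by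
  haveI : (Coh.structureModule W).IsQuasicoherent :=
    Groth.Agent.Lib.Helper29.QCoh.isQuasicoherent_unitM W
  haveI : (Coh.structureModule W).IsFiniteType :=
    Groth.Agent.Lib.Helper29.QCoh.isFiniteType_of_isInvertible
      (Groth.Agent.Lib.Helper29.QCoh.isInvertible_unit W)
  exact ⟨Groth.Agent.Lib.Helper29.QCoh.isQuasicoherent_pushforward_of_isAffineHom ι _,
    Groth.Agent.Lib.Helper29.QCoh.isFiniteType_pushforward_of_isFinite ι _⟩

/-- the identification of the stalk of `ι_* O_W` at `ι w` with `O_{W,w}` -/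
noncomputable def φ (w : W) : (OW ι).presheaf.stalk (ι w) →+ W.presheaf.stalk w :=
  ((Groth.Agent.Lib.Helper28.DCohStalk.unitStalkLinearEquiv W w).symm :
      (Coh.structureModule W).presheaf.stalk w →+ W.presheaf.stalk w).comp
    (pushStalkMap ι (Coh.structureModule W) w)

theorem φ_bijective (w : W) : Function.Bijective (φ ι w) := by
  unfold φ
  exact (Groth.Agent.Lib.Helper28.DCohStalk.unitStalkLinearEquiv W w).symm.bijective.comp
    (pushStalkMap_bijective ι _ ι.isEmbedding.isInducing w)

theorem φ_smul (w : W) (t : X.presheaf.stalk (ι w)) (m : (OW ι).presheaf.stalk (ι w)) :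
    φ ι w (t • m) = (ι.stalkMap w).hom t * φ ι w m := by
  unfold φ
  simp only [AddMonoidHom.coe_comp, Function.comp_apply]
  rw [pushStalkMap_smul]
  exact map_smul (Groth.Agent.Lib.Helper28.DCohStalk.unitStalkLinearEquiv W w).symm _ _

theorem nontrivial_stalk (x : X) (hx : x ∈ Set.range ι) :
    Nontrivial ((OW ι).presheaf.stalk x) := by
  obtain ⟨w, rfl⟩ := hx
  exact (φ_bijective ι w).2.nontrivial

theorem subsingleton_stalk (x : X) (hx : x ∉ Set.range ι) :
    Subsingleton ((OW ι).presheaf.stalk x) :=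
  subsingleton_stalk_of_notMem_range ι _ ι.isClosedEmbedding.isClosed_range x hx

theorem length_stalk (x : X) (w : W) (hx : ι w = x) :
    Module.length (X.presheaf.stalk x) ((OW ι).presheaf.stalk x) =
      Module.length (W.presheaf.stalk w) (W.presheaf.stalk w) := by
  subst hx
  exact length_eq_of_semilinear_bijective (ι.stalkMap w).hom (ι.stalkMap_surjective w)
    (φ ι w) (φ_bijective ι w) (φ_smul ι w)

variable {S : Scheme.{u}} (a : X ⟶ S)

theorem length_quot_stalk (x : X) (w : W) (hx : ι w = x) (ϖ : S.presheaf.stalk (a x))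
    (hϖ : IsLocalRing.maximalIdeal (S.presheaf.stalk (a x)) = Ideal.span {ϖ}) :
    Module.length (X.presheaf.stalk x) ((OW ι).presheaf.stalk x ⧸
        ((a.stalkMap x).hom ϖ) • (⊤ : Submodule (X.presheaf.stalk x)
          ((OW ι).presheaf.stalk x))) =
      Module.length (W.presheaf.stalk w) (W.presheaf.stalk w ⧸
        Ideal.map ((ι ≫ a).stalkMap w).hom
          (IsLocalRing.maximalIdeal (S.presheaf.stalk ((ι ≫ a) w)))) := by
  subst hx
  have hcomp : (ι ≫ a).stalkMap w = a.stalkMap (ι w) ≫ ι.stalkMap w :=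
    Scheme.Hom.stalkMap_comp ι a w
  exact length_quot_abs (ι.stalkMap w).hom (ι.stalkMap_surjective w) (a.stalkMap (ι w)).hom
    ((ι ≫ a).stalkMap w).hom (by rw [hcomp]; rfl) ϖ hϖ (φ ι w) (φ_bijective ι w) (φ_smul ι w)

/-- `ι_* O_W` is flat over the base when `W` is -/
theorem isFlatOver_OW [Flat (ι ≫ a)] : FlatMod.IsFlatOver a (OW ι) := by
  intro x
  unfold FlatMod.IsFlatOverAt
  by_cases hx : x ∈ Set.range ι
  · obtain ⟨w, rfl⟩ := hx
    letI := FlatMod.moduleStalkOver a (OW ι) (ι w)
    have hfl : ((ι ≫ a).stalkMap w).hom.Flat := (Flat.iff_flat_stalkMap (ι ≫ a)).mp inferInstance w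
    letI alg : Algebra (S.presheaf.stalk (a.base (ι w))) (W.presheaf.stalk w) :=
      ((ι ≫ a).stalkMap w).hom.toAlgebra
    haveI : Module.Flat (S.presheaf.stalk (a.base (ι w))) (W.presheaf.stalk w) := hfl
    have hcomp : (ι ≫ a).stalkMap w = a.stalkMap (ι w) ≫ ι.stalkMap w :=
      Scheme.Hom.stalkMap_comp ι a w
    let e : (OW ι).presheaf.stalk (ι w) ≃ₗ[S.presheaf.stalk (a.base (ι w))] W.presheaf.stalk w :=
      { (AddEquiv.ofBijective (φ ι w) (φ_bijective ι w)) with
        map_smul' := by
          intro s m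
          change φ ι w ((a.stalkMap (ι w)).hom s • m) = ((ι ≫ a).stalkMap w).hom s * φ ι w m
          rw [φ_smul, hcomp]
          rfl }
    exact Module.Flat.of_linearEquiv e
  · letI := FlatMod.moduleStalkOver a (OW ι) x
    haveI := subsingleton_stalk ι x hx
    infer_instance

end Groth.Agent.Lib.Helper18.SQ2
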