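import Mathlib
import Groth.Prelude.Def_KZero
import Groth.Prelude.Def_ChowK
import Groth.Agent.Lib.Helper12.Dev12
import Groth.Agent.Lib.Helper18.SQ2

/-!
# K₀ of coherent modules: the filtration by dimension of support is generated by the `[O_Z]`
-/

set_option autoImplicit false
set_option linter.unusedSectionVars false
set_option linter.style.haveILetI false
universe u
open AlgebraicGeometry CategoryTheory TopologicalSpace Limits
open Groth.Agent.Lib.Helper29.QCoh
open Groth.Agent.Lib.Helper12.H12ModGlue
open Groth.Agent.Lib.Helper12.H12Dev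

namespace Groth.Agent.Lib.Helper18.SK1

variable {X : Scheme.{u}}

/-- additivity of classes in `K₀` of coherent modules -/
theorem clSub_add (S : ShortComplex X.Modules) (hS : S.ShortExact) (h1 : Coh.IsCoh S.X₁)
    (h2 : Coh.IsCoh S.X₂) (h3 : Coh.IsCoh S.X₃) :
    KZero.clSub (fun M : X.Modules => Coh.IsCoh M) S.X₂ =
      KZero.clSub (fun M : X.Modules => Coh.IsCoh M) S.X₁ +
        KZero.clSub (fun M : X.Modules => Coh.IsCoh M) S.X₃ := by
  unfold KZero.clSub
  rw [dif_pos h1, dif_pos h2, dif_pos h3]
  rw [← sub_eq_zero, ← QuotientAddGroup.mk_add, ← QuotientAddGroup.mk_sub,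
    QuotientAddGroup.eq_zero_iff]
  apply AddSubgroup.subset_closure
  exact ⟨S, h1, h2, h3, hS, by abel⟩

theorem clSub_of_isZero [IsLocallyNoetherian X] (M : X.Modules) (hM : IsZero M) :
    KZero.clSub (fun M : X.Modules => Coh.IsCoh M) M = 0 := by
  have hc := isCoh_of_isZero M hM
  have hS : (ShortComplex.mk (0 : M ⟶ M) (0 : M ⟶ M) zero_comp).ShortExact := by
    haveI : Mono (0 : M ⟶ M) := ⟨fun _ _ _ => hM.eq_of_tgt _ _⟩
    haveI : Epi (0 : M ⟶ M) := ⟨fun _ _ _ => hM.eq_of_src _ _⟩
    exact ShortComplex.ShortExact.mk (ShortComplex.exact_of_isZero_X₂ _ hM)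
  have h := clSub_add _ hS hc hc hc
  simpa using h

theorem clSub_iso [IsLocallyNoetherian X] {M N : X.Modules} (e : M ≅ N) (hM : Coh.IsCoh M) :
    KZero.clSub (fun M : X.Modules => Coh.IsCoh M) N =
      KZero.clSub (fun M : X.Modules => Coh.IsCoh M) M := by
  have hN : Coh.IsCoh N := isCoh_of_iso e hM
  have hz : IsZero (cokernel e.hom) := isZero_cokernel_of_epi e.hom
  have hS : (ShortComplex.mk e.hom (cokernel.π e.hom) (cokernel.condition _)).ShortExact :=
    ShortComplex.ShortExact.mk (ShortComplex.exact_cokernel e.hom)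
  have h := clSub_add _ hS hM hN (isCoh_of_isZero _ hz)
  rw [h]
  simp only
  rw [clSub_of_isZero _ hz, add_zero]

theorem dim_mono {T : Type*} [TopologicalSpace T] {A B : Set T} (h : A ⊆ B) :
    topologicalKrullDim ↥A ≤ topologicalKrullDim ↥B :=
  (Topology.IsEmbedding.inclusion h).isInducing.topologicalKrullDim_le

theorem isCoh_closureStructureSheaf [IsLocallyNoetherian X] (x : X) :
    Coh.IsCoh (Cyc.closureStructureSheaf x) :=
  Groth.Agent.Lib.Helper18.SQ2.isCoh_OW (IntMult.ptIdeal x).subschemeι

theorem support_closureStructureSheaf_subset (x : X) :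
    CohB1.support (Cyc.closureStructureSheaf x) ⊆ closure {x} := by
  haveI : (unitM (IntMult.ptIdeal x).subscheme).IsQuasicoherent := isQuasicoherent_unitM _
  have h := Groth.Agent.Helper19.ClImmSupp.support_pushforward
    (IntMult.ptIdeal x).subschemeι (unitM _)
  have hr : Set.range (IntMult.ptIdeal x).subschemeι = closure {x} :=
    range_subschemeι_vanishingIdeal ⟨closure {x}, isClosed_closure⟩
  intro z hz
  have hz' : z ∈ (IntMult.ptIdeal x).subschemeι '' CohB1.support (unitM _) := h ▸ hz
  rw [← hr]
  exact Set.image_subset_range _ _ hz'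

theorem isSimpleModule_stalk_genericPoint (W : Scheme.{u}) [IsIntegral W] :
    IsSimpleModule (W.presheaf.stalk (genericPoint W)) (W.presheaf.stalk (genericPoint W)) := by
  rw [isSimpleModule_self_iff_isUnit]
  refine ⟨inferInstance, fun x hx => ?_⟩
  exact (IsUnit.mk0 (x : W.functionField) hx)

/-- the stalk of `O_Z` at the generic point of `Z` is a simple module -/
theorem isSimpleModule_stalk_closureStructureSheaf (y : X)
    (hirr : IsIrreducible (closure ({y} : Set X))) :
    IsSimpleModule (X.presheaf.stalk y) ((Cyc.closureStructureSheaf y).presheaf.stalk y) := by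
  haveI : IsIntegral (IntMult.ptIdeal y).subscheme :=
    isIntegral_subscheme_vanishingIdeal ⟨closure {y}, isClosed_closure⟩ hirr
  have hr : Set.range (IntMult.ptIdeal y).subschemeι = closure {y} :=
    range_subschemeι_vanishingIdeal ⟨closure {y}, isClosed_closure⟩
  have hpt : (IntMult.ptIdeal y).subschemeι (genericPoint _) = y :=
    closedImmersion_genericPoint _ y hr.symm
  rw [← Module.length_eq_one_iff]
  have hlen := Groth.Agent.Lib.Helper18.SQ2.length_stalk
    (IntMult.ptIdeal y).subschemeι y (genericPoint _) hpt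
  haveI := isSimpleModule_stalk_genericPoint (IntMult.ptIdeal y).subscheme
  rw [Module.length_eq_one ((IntMult.ptIdeal y).subscheme.presheaf.stalk (genericPoint _))
    ((IntMult.ptIdeal y).subscheme.presheaf.stalk (genericPoint _))] at hlen
  exact hlen

/-- for a subsheaf `I ⊆ O_Z` whose direct image has nonzero stalk at the generic point `y` of `Z`,
`i_* I → i_* O_Z` is surjective on stalks at `y` -/
theorem surjective_stalkMap_of_simple {A B : X.Modules} (u : A ⟶ B) [Mono u] (y : X)
    (hBs : IsSimpleModule (X.presheaf.stalk y) (B.presheaf.stalk y))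
    (hyA : y ∈ CohB1.support A) : Function.Surjective (stalkMap u y) := by
  have hinj : Function.Injective (stalkMap u y) :=
    (mono_iff_stalkMap_injective u).mp inferInstance y
  have hne : LinearMap.range (RefHull.stalkMapₗ u y) ≠ ⊥ := by
    intro h
    rw [LinearMap.range_eq_bot] at h
    rw [mem_support_iff] at hyA
    obtain ⟨a, b, hab⟩ := hyA
    apply hab
    apply hinj
    have ha : RefHull.stalkMapₗ u y a = 0 := by rw [h]; rfl
    have hb : RefHull.stalkMapₗ u y b = 0 := by rw [h]; rfl
    rw [← Groth.Agent.Lib.Helper12.H12Dev.stalkMapₗ_apply, ← Groth.Agent.Lib.Helper12.H12Dev.stalkMapₗ_apply, ha, hb]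
  have htop := (eq_bot_or_eq_top _).resolve_left hne
  intro b
  have hb : b ∈ LinearMap.range (RefHull.stalkMapₗ u y) := htop ▸ Submodule.mem_top
  obtain ⟨a, ha⟩ := hb
  exact ⟨a, ha⟩

/-- the subgroup generated by the classes of the structure sheaves of the integral closed
subschemes of dimension `≤ n` -/
noncomputable def H (X : Scheme.{u}) (n : ℕ) : AddSubgroup (KZero.K0sub (fun M : X.Modules => Coh.IsCoh M)) :=
  AddSubgroup.closure {c : KZero.K0sub (fun M : X.Modules => Coh.IsCoh M) |
    ∃ x : ↥X, topologicalKrullDim ↥(closure ({x} : Set ↥X)) ≤ n ∧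
      c = KZero.clSub (fun M : X.Modules => Coh.IsCoh M) (Cyc.closureStructureSheaf x)}

/-- the dévissage class -/
def K' (n : ℕ) (F : X.Modules) : Prop :=
  Coh.IsCoh F → topologicalKrullDim ↥(CohB1.support F) ≤ n →
    KZero.clSub (fun M : X.Modules => Coh.IsCoh M) F ∈ H X n

theorem extClosed_K' [IsLocallyNoetherian X] (n : ℕ) : ExtClosed (K' (X := X) n) := by
  intro S hS h1 h2 h3 k1 k3 _ hdim
  haveI := hS.mono_f
  haveI := hS.epi_g
  rw [clSub_add S hS h1 h2 h3]
  exact (H X n).add_mem (k1 h1 ((dim_mono (support_subset_of_mono S.f)).trans hdim))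
    (k3 h3 ((dim_mono (support_subset_of_epi S.g)).trans hdim))

theorem push_mem [IsNoetherian X] (n : ℕ) (y : X) (hZ : IsClosed (closure ({y} : Set X)))
    (hirr : IsIrreducible (closure ({y} : Set X)))
    (hsmall : ∀ F : X.Modules, Coh.IsCoh F → CohB1.support F ⊆ closure {y} →
      y ∉ CohB1.support F → K' n F)
    (I : (Scheme.IdealSheafData.vanishingIdeal ⟨closure {y}, hZ⟩).subscheme.Modules)
    (ι : I ⟶ unitM _) (hm : Mono ι) (hq : I.IsQuasicoherent) :
    K' n ((Scheme.Modules.pushforward
      (Scheme.IdealSheafData.vanishingIdeal ⟨closure {y}, hZ⟩).subschemeι).obj I) := by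
  intro hA hAdim
  have hB : Coh.IsCoh (Cyc.closureStructureSheaf y) := isCoh_closureStructureSheaf y
  have hBsupp := support_closureStructureSheaf_subset y
  let u : (Scheme.Modules.pushforward
      (Scheme.IdealSheafData.vanishingIdeal ⟨closure {y}, hZ⟩).subschemeι).obj I ⟶
      Cyc.closureStructureSheaf y :=
    (Scheme.Modules.pushforward (Scheme.IdealSheafData.vanishingIdeal ⟨closure {y}, hZ⟩).subschemeι).map ι
  haveI : Mono u := (Scheme.Modules.pushforward _).map_mono ι
  by_cases hyA : y ∈ CohB1.support ((Scheme.Modules.pushforward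
      (Scheme.IdealSheafData.vanishingIdeal ⟨closure {y}, hZ⟩).subschemeι).obj I)
  · haveI := hA.2
    have hZA : closure {y} ⊆ CohB1.support ((Scheme.Modules.pushforward
        (Scheme.IdealSheafData.vanishingIdeal ⟨closure {y}, hZ⟩).subschemeι).obj I) :=
      (isClosed_support _).closure_subset_iff.mpr (Set.singleton_subset_iff.mpr hyA)
    have hZdim : topologicalKrullDim ↥(closure ({y} : Set X)) ≤ n := (dim_mono hZA).trans hAdim
    have hBmem : KZero.clSub (fun M : X.Modules => Coh.IsCoh M) (Cyc.closureStructureSheaf y) ∈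
        H X n := AddSubgroup.subset_closure ⟨y, hZdim, rfl⟩
    have hsurj := surjective_stalkMap_of_simple u y
      (isSimpleModule_stalk_closureStructureSheaf y hirr) hyA
    have hC : Coh.IsCoh (cokernel u) := isCoh_cokernel u hA hB
    have hCsupp : CohB1.support (cokernel u) ⊆ closure {y} :=
      (support_subset_of_epi (cokernel.π u)).trans hBsupp
    have hCmem := hsmall _ hC hCsupp (notMem_support_cokernel u y hsurj) hC
      ((dim_mono hCsupp).trans hZdim)
    have hSES : (ShortComplex.mk u (cokernel.π u) (cokernel.condition u)).ShortExact :=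
      ShortComplex.ShortExact.mk (ShortComplex.exact_cokernel u)
    have hadd := clSub_add _ hSES hA hB hC
    simp only at hadd
    have hsub : KZero.clSub (fun M : X.Modules => Coh.IsCoh M) ((Scheme.Modules.pushforward
        (Scheme.IdealSheafData.vanishingIdeal ⟨closure {y}, hZ⟩).subschemeι).obj I) =
        KZero.clSub (fun M : X.Modules => Coh.IsCoh M) (Cyc.closureStructureSheaf y) -
          KZero.clSub (fun M : X.Modules => Coh.IsCoh M) (cokernel u) := by
      rw [hadd]; abel
    rw [hsub]
    exact (H X n).sub_mem hBmem hCmem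
  · exact hsmall _ hA ((support_subset_of_mono u).trans hBsupp) hyA hA hAdim

theorem mem_H [IsNoetherian X] (n : ℕ) (F : X.Modules) (hF : Coh.IsCoh F)
    (hdim : topologicalKrullDim ↥(CohB1.support F) ≤ n) :
    KZero.clSub (fun M : X.Modules => Coh.IsCoh M) F ∈ H X n := by
  have hiso : ∀ M N : X.Modules, (M ≅ N) → K' n M → K' n N := by
    intro M N e hM hN hd
    have hMc : Coh.IsCoh M := isCoh_of_iso e.symm hN
    rw [clSub_iso e hMc]
    exact hM hMc ((support_eq_of_iso e) ▸ hd)
  have key : K' n F := by
    refine devissage_core (K' := K' n) ?_ (extClosed_K' n) Set.univ ?_ F hF (Set.subset_univ _)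
    · intro M hM _ _
      rw [clSub_of_isZero M hM]
      exact (H X n).zero_mem
    · intro Z hZ hirr _ y hy hsmall T hT hTsupp hTs
      subst hy
      exact mem_of_simple_stalk_of_push hiso (extClosed_K' n) _ hZ hirr y rfl
        (fun I ι hm hq => push_mem n y hZ hirr hsmall I ι hm hq) hsmall T hT hTsupp hTs
  exact key hF hdim

/-- **S5643** -/
theorem main [IsNoetherian X] (n : ℕ) :
    AddSubgroup.closure {c : KZero.K0sub (fun M : X.Modules => Coh.IsCoh M) |
        ∃ G : X.Modules, Coh.IsCoh G ∧ topologicalKrullDim ↥(CohB1.support G) ≤ n ∧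
          c = KZero.clSub (fun M : X.Modules => Coh.IsCoh M) G} =
      AddSubgroup.closure {c : KZero.K0sub (fun M : X.Modules => Coh.IsCoh M) |
        ∃ x : ↥X, topologicalKrullDim ↥(closure ({x} : Set ↥X)) ≤ n ∧
          c = KZero.clSub (fun M : X.Modules => Coh.IsCoh M) (Cyc.closureStructureSheaf x)} := by
  apply le_antisymm
  · rw [AddSubgroup.closure_le]
    rintro c ⟨G, hG, hdim, rfl⟩
    exact mem_H n G hG hdim
  · rw [AddSubgroup.closure_le]
    rintro c ⟨x, hdim, rfl⟩
    exact AddSubgroup.subset_closure ⟨_, isCoh_closureStructureSheaf x,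
      (dim_mono (support_closureStructureSheaf_subset x)).trans hdim, rfl⟩

end Groth.Agent.Lib.Helper18.SK1
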