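import Mathlib
import Groth.Agent.Lib.Helper18.AL3
import Groth.Agent.Lib.Helper18.SK1
import Groth.Agent.Lib.Helper18.PushStalk

/-! # Exactness of closed-immersion pushforward; generation of `K₀(Coh X)` by the `[O_Z]` (helper18) -/

set_option autoImplicit false
set_option linter.unusedSectionVars false
set_option linter.style.haveILetI false
universe u

open CategoryTheory CategoryTheory.Limits AlgebraicGeometry TopologicalSpace Opposite Function
open Groth.Agent.Lib.Helper29.QCoh
open Groth.Agent.Lib.Helper12.H12ModGlue
open Groth.Agent.Lib.Helper12.H12Dev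
open Groth.Agent.Lib.Helper18.PushStalk

namespace Groth.Agent.Lib.Helper18.AL4

section ClPush

variable {Z X : Scheme.{u}} (i : Z ⟶ X)

theorem pushStalkMap_naturality {M N : Z.Modules} (φ : M ⟶ N) (z : Z)
    (t : ((Scheme.Modules.pushforward i).obj M).presheaf.stalk (i z)) :
    pushStalkMap i N z (stalkMap ((Scheme.Modules.pushforward i).map φ) (i z) t) =
      stalkMap φ z (pushStalkMap i M z t) := by
  obtain ⟨U, hz, s, rfl⟩ :=
    ((Scheme.Modules.pushforward i).obj M).presheaf.exists_germ_eq (x := i z) t
  rw [stalkMap_germ, pushStalkMap_germ, pushStalkMap_germ, stalkMap_germ]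
  rfl

instance preservesFiniteLimits_pushforward :
    PreservesFiniteLimits (Scheme.Modules.pushforward i) := by
  haveI := (Scheme.Modules.pullbackPushforwardAdjunction i).rightAdjoint_preservesLimits
  infer_instance

theorem epi_pushforward_map [IsClosedImmersion i] {M N : Z.Modules} (φ : M ⟶ N) [Epi φ] :
    Epi ((Scheme.Modules.pushforward i).map φ) := by
  rw [epi_iff_stalkMap_surjective]
  intro x
  by_cases hx : x ∈ Set.range i.base
  · obtain ⟨z, rfl⟩ := hx
    intro t
    have hi : Topology.IsInducing i.base := i.isEmbedding.isInducing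
    obtain ⟨s, hs⟩ := (epi_iff_stalkMap_surjective φ).1 inferInstance z (pushStalkMap i N z t)
    obtain ⟨s', rfl⟩ := (pushStalkMap_bijective i M hi z).2 s
    refine ⟨s', (pushStalkMap_bijective i N hi z).1 ?_⟩
    rw [pushStalkMap_naturality, hs]
  · haveI := subsingleton_stalk_of_notMem_range i N i.isClosedEmbedding.isClosed_range x hx
    intro t
    exact ⟨0, Subsingleton.elim _ _⟩

instance preservesFiniteColimits_pushforward [IsClosedImmersion i] :
    PreservesFiniteColimits (Scheme.Modules.pushforward i) := by
  rw [Functor.preservesFiniteColimits_iff_forall_exact_map_and_epi]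
  intro S hS
  haveI := hS.mono_f
  haveI := hS.epi_g
  exact ⟨hS.exact.map_of_mono_of_preservesKernel (Scheme.Modules.pushforward i)
    inferInstance inferInstance, epi_pushforward_map i S.g⟩

theorem isCoh_pushforward [IsClosedImmersion i] [IsLocallyNoetherian X] (F : Z.Modules)
    (hF : Coh.IsCoh F) : Coh.IsCoh ((Scheme.Modules.pushforward i).obj F) := by
  haveI : IsLocallyNoetherian Z := LocallyOfFiniteType.isLocallyNoetherian i
  haveI := hF.1
  haveI := hF.2
  exact ⟨isQuasicoherent_pushforward_of_isAffineHom i F, isFiniteType_pushforward_of_isFinite i F⟩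

end ClPush

section Gen

variable {X : Scheme.{u}}

/-- the subgroup generated by the classes of the structure sheaves of the integral closed
subschemes -/
noncomputable def Hall (X : Scheme.{u}) :
    AddSubgroup (KZero.K0sub (fun M : X.Modules => Coh.IsCoh M)) :=
  AddSubgroup.closure {c : KZero.K0sub (fun M : X.Modules => Coh.IsCoh M) |
    ∃ x : ↥X, c = KZero.clSub (fun M : X.Modules => Coh.IsCoh M) (Cyc.closureStructureSheaf x)}

/-- the dévissage class -/
def K' (F : X.Modules) : Prop :=
  Coh.IsCoh F → KZero.clSub (fun M : X.Modules => Coh.IsCoh M) F ∈ Hall X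

theorem extClosed_K' [IsLocallyNoetherian X] : ExtClosed (K' (X := X)) := by
  intro S hS h1 h2 h3 k1 k3 _
  rw [SK1.clSub_add S hS h1 h2 h3]
  exact (Hall X).add_mem (k1 h1) (k3 h3)

theorem push_mem [IsNoetherian X] (y : X) (hZ : IsClosed (closure ({y} : Set X)))
    (hirr : IsIrreducible (closure ({y} : Set X)))
    (hsmall : ∀ F : X.Modules, Coh.IsCoh F → CohB1.support F ⊆ closure {y} →
      y ∉ CohB1.support F → K' F)
    (I : (Scheme.IdealSheafData.vanishingIdeal ⟨closure {y}, hZ⟩).subscheme.Modules)
    (ι : I ⟶ unitM _) (hm : Mono ι) (hq : I.IsQuasicoherent) :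
    K' ((Scheme.Modules.pushforward
      (Scheme.IdealSheafData.vanishingIdeal ⟨closure {y}, hZ⟩).subschemeι).obj I) := by
  intro hA
  have hB : Coh.IsCoh (Cyc.closureStructureSheaf y) := SK1.isCoh_closureStructureSheaf y
  have hBsupp := SK1.support_closureStructureSheaf_subset y
  let u : (Scheme.Modules.pushforward
      (Scheme.IdealSheafData.vanishingIdeal ⟨closure {y}, hZ⟩).subschemeι).obj I ⟶
      Cyc.closureStructureSheaf y :=
    (Scheme.Modules.pushforward (Scheme.IdealSheafData.vanishingIdeal ⟨closure {y}, hZ⟩).subschemeι).map ι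
  haveI : Mono u := (Scheme.Modules.pushforward _).map_mono ι
  by_cases hyA : y ∈ CohB1.support ((Scheme.Modules.pushforward
      (Scheme.IdealSheafData.vanishingIdeal ⟨closure {y}, hZ⟩).subschemeι).obj I)
  · have hBmem : KZero.clSub (fun M : X.Modules => Coh.IsCoh M) (Cyc.closureStructureSheaf y) ∈
        Hall X := AddSubgroup.subset_closure ⟨y, rfl⟩
    have hsurj := SK1.surjective_stalkMap_of_simple u y
      (SK1.isSimpleModule_stalk_closureStructureSheaf y hirr) hyA
    have hC : Coh.IsCoh (cokernel u) := isCoh_cokernel u hA hB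
    have hCsupp : CohB1.support (cokernel u) ⊆ closure {y} :=
      (support_subset_of_epi (cokernel.π u)).trans hBsupp
    have hCmem := hsmall _ hC hCsupp (notMem_support_cokernel u y hsurj) hC
    have hSES : (ShortComplex.mk u (cokernel.π u) (cokernel.condition u)).ShortExact :=
      ShortComplex.ShortExact.mk (ShortComplex.exact_cokernel u)
    have hadd := SK1.clSub_add _ hSES hA hB hC
    simp only at hadd
    have hsub : KZero.clSub (fun M : X.Modules => Coh.IsCoh M) ((Scheme.Modules.pushforward
        (Scheme.IdealSheafData.vanishingIdeal ⟨closure {y}, hZ⟩).subschemeι).obj I) =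
        KZero.clSub (fun M : X.Modules => Coh.IsCoh M) (Cyc.closureStructureSheaf y) -
          KZero.clSub (fun M : X.Modules => Coh.IsCoh M) (cokernel u) := by
      rw [hadd]; abel
    rw [hsub]
    exact (Hall X).sub_mem hBmem hCmem
  · exact hsmall _ hA ((support_subset_of_mono u).trans hBsupp) hyA hA

/-- `K₀(Coh X)` is generated by the classes `[O_Z]`, `Z` integral closed subscheme -/
theorem mem_Hall [IsNoetherian X] (F : X.Modules) (hF : Coh.IsCoh F) :
    KZero.clSub (fun M : X.Modules => Coh.IsCoh M) F ∈ Hall X := by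
  have hiso : ∀ M N : X.Modules, (M ≅ N) → K' M → K' N := by
    intro M N e hM hN
    have hMc : Coh.IsCoh M := isCoh_of_iso e.symm hN
    rw [SK1.clSub_iso e hMc]
    exact hM hMc
  have key : K' F := by
    refine devissage_core (K' := K') ?_ extClosed_K' Set.univ ?_ F hF (Set.subset_univ _)
    · intro M hM _
      rw [SK1.clSub_of_isZero M hM]
      exact (Hall X).zero_mem
    · intro Z hZ hirr _ y hy hsmall T hT hTsupp hTs
      subst hy
      exact mem_of_simple_stalk_of_push hiso extClosed_K' _ hZ hirr y rfl
        (fun I ι hm hq => push_mem y hZ hirr hsmall I ι hm hq) hsmall T hT hTsupp hTs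
  exact key hF

theorem Hall_eq_top [IsNoetherian X] : Hall X = ⊤ := by
  rw [eq_top_iff]
  intro x hx
  clear hx
  induction x using AD2.K0sub_induction with
  | h0 => exact zero_mem _
  | hcl M hM => exact mem_Hall M hM
  | hneg x ih => exact neg_mem ih
  | hadd x y ihx ihy => exact add_mem ihx ihy

/-- an additive map out of `K₀(Coh X)` vanishing on the `[O_Z]` is zero -/
theorem eq_zero_of_closureStructureSheaf [IsNoetherian X] {G : Type*} [AddCommGroup G]
    (φ : KZero.K0sub (fun M : X.Modules => Coh.IsCoh M) →+ G)
    (h : ∀ x : X, φ (KZero.clSub (fun M : X.Modules => Coh.IsCoh M)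
      (Cyc.closureStructureSheaf x)) = 0) : φ = 0 := by
  have hle : Hall X ≤ φ.ker := by
    rw [Hall, AddSubgroup.closure_le]
    rintro c ⟨x, rfl⟩
    exact h x
  rw [Hall_eq_top] at hle
  refine AddMonoidHom.ext fun x => ?_
  exact hle (AddSubgroup.mem_top x)

end Gen

end Groth.Agent.Lib.Helper18.AL4
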