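import Mathlib
import Groth.Agent.Lib.Helper18.AL4
import Groth.Agent.Lib.Helper25.HypCoh1
import Groth.Agent.Lib.Helper29.Aut2
import Groth.Agent.Lib.Helper29.ProjF1
import Groth.Agent.Lib.Helper29.GenLocus

/-! # The structure sheaf of the zero section of affine space over an integral scheme (helper18) -/

set_option autoImplicit false
set_option linter.unusedSectionVars false
set_option linter.style.haveILetI false
universe u

open CategoryTheory CategoryTheory.Limits AlgebraicGeometry TopologicalSpace Opposite Function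
open Groth.Agent.Lib.Helper29.QCoh
open Groth.Agent.Lib.Helper29.AutPn
open Groth.Agent.Lib.Helper18.AL3

namespace Groth.Agent.Lib.Helper18.AL5

section Iso

variable {Y Y' : Scheme.{u}} (e : Y ⟶ Y') [IsIso e]

instance isIso_unitToPush : IsIso (ClSub.unitToPush e) := by
  rw [isIso_iff_app_bijective]
  intro U
  exact ConcreteCategory.bijective_of_isIso (e.app U)

end Iso

section Coord

variable {n : Type u} [Unique n] (S : Scheme.{u})

/-- the coordinate -/
noncomputable abbrev t : Γ(𝔸(n; S), ⊤) := AffineSpace.coord S (default : n)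

theorem coordIdeal_ideal (U : (𝔸(n; S)).affineOpens) :
    (coordIdeal (n := n) S).ideal U =
      Ideal.span {((𝔸(n; S)).presheaf.map (homOfLE (le_top : U.1 ≤ ⊤)).op).hom (t (n := n) S)} := by
  rw [coordIdeal, Scheme.IdealSheafData.ofIdealTop_ideal, Ideal.map_span]
  congr 1
  ext a
  constructor
  · rintro ⟨_, ⟨i, rfl⟩, rfl⟩
    rw [Unique.eq_default i]
    rfl
  · rintro rfl
    exact ⟨_, ⟨default, rfl⟩, rfl⟩

theorem smulHom_comp_toSubscheme :
    Groth.Agent.Lib.Helper29.AutPn.smulHom (unitM 𝔸(n; S)) (t (n := n) S) ≫ ClSub.toSubscheme (coordIdeal (n := n) S) = 0 := by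
  apply Scheme.Modules.hom_ext
  intro U
  ext s
  rw [app_comp]
  change toUnit (((iZ (n := n) S).app U).hom
    (((𝔸(n; S)).presheaf.map (homOfLE (le_top : U ≤ ⊤)).op).hom (t (n := n) S) * fromUnit s)) = 0
  rw [map_mul, app_res_coord_eq_zero S (iZ (n := n) S) (iZ_appTop_coord S) U default, zero_mul]
  rfl

/-- multiplication by the coordinate, as a map to the ideal sheaf -/
noncomputable def τ : unitM 𝔸(n; S) ⟶ ClSub.idealMod (coordIdeal (n := n) S) :=
  kernel.lift (ClSub.toSubscheme (coordIdeal (n := n) S)) (Groth.Agent.Lib.Helper29.AutPn.smulHom (unitM 𝔸(n; S)) (t (n := n) S))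
    (smulHom_comp_toSubscheme S)

theorem τ_ι : τ (n := n) S ≫ ClSub.idealModι (coordIdeal (n := n) S) =
    Groth.Agent.Lib.Helper29.AutPn.smulHom (unitM 𝔸(n; S)) (t (n := n) S) :=
  kernel.lift_ι _ _ _

theorem τ_app (U : (𝔸(n; S)).Opens) (s : Γ(unitM 𝔸(n; S), U)) :
    fromUnit ((ClSub.idealModι (coordIdeal (n := n) S)).app U ((τ (n := n) S).app U s)) =
      ((𝔸(n; S)).presheaf.map (homOfLE (le_top : U ≤ ⊤)).op).hom (t (n := n) S) * fromUnit s := by
  have h := congrArg (fun φ => Scheme.Modules.Hom.app φ U s) (τ_ι (n := n) S)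
  simp only [app_comp] at h
  exact congrArg fromUnit h

end Coord

section Integral

variable {n : Type u} [Unique n] (S : Scheme.{u}) [IsIntegral S]

theorem t_ne_zero : t (n := n) S ≠ 0 := by
  intro h
  have h1 := AffineSpace.homOfVector_appTop_coord (𝟙 S) (fun _ : n => (1 : Γ(S, ⊤))) default
  have h2 : (AffineSpace.coord S (default : n)) = 0 := h
  rw [h2, map_zero] at h1
  exact zero_ne_one h1

theorem res_t_ne_zero (U : (𝔸(n; S)).Opens) [Nonempty U] :
    ((𝔸(n; S)).presheaf.map (homOfLE (le_top : U ≤ ⊤)).op).hom (t (n := n) S) ≠ 0 := by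
  intro h
  apply t_ne_zero (n := n) S
  apply map_injective_of_isIntegral 𝔸(n; S) (homOfLE (le_top : U ≤ ⊤))
  rw [map_zero]
  exact h

instance isIso_τ : IsIso (τ (n := n) S) := by
  apply Groth.Agent.Lib.Helper29.QCoh.ProjF.isIso_of_app_bijective_affine
  intro U hU
  by_cases hne : Nonempty U
  · haveI := hne
    constructor
    · intro s s' h
      have h1 := τ_app (n := n) S U s
      have h2 := τ_app (n := n) S U s'
      rw [h] at h1
      have h3 := h1.symm.trans h2
      change fromUnit s = fromUnit s'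
      exact mul_left_cancel₀ (res_t_ne_zero (n := n) S U) h3
    · intro m
      have hm := idealModι_app_mem (coordIdeal (n := n) S) ⟨U, hU⟩ m
      rw [coordIdeal_ideal, Ideal.mem_span_singleton'] at hm
      obtain ⟨b, hb⟩ := hm
      refine ⟨toUnit b, ?_⟩
      apply idealModι_app_injective (coordIdeal (n := n) S) U
      have h1 := τ_app (n := n) S U (toUnit b)
      change fromUnit _ = fromUnit _
      rw [h1, ← hb, mul_comm]
      rfl
  · have hU0 : U = ⊥ := by
      rw [not_nonempty_iff] at hne
      ext x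
      constructor
      · intro hx; exact (hne.false ⟨x, hx⟩).elim
      · intro hx; exact (hx : x ∈ (∅ : Set _)).elim
    subst hU0
    haveI h1 : Subsingleton Γ(unitM 𝔸(n; S), (⊥ : (𝔸(n; S)).Opens)) :=
      CommRingCat.subsingleton_of_isTerminal ((𝔸(n; S)).sheaf.isTerminalOfEqEmpty rfl)
    constructor
    · intro s s' _
      exact Subsingleton.elim _ _
    · intro m
      refine ⟨0, ?_⟩
      apply idealModι_app_injective (coordIdeal (n := n) S) ⊥
      exact Subsingleton.elim _ _

end Integral

end Groth.Agent.Lib.Helper18.AL5
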