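import Mathlib
import Groth.Agent.Lib.Helper18.AL5

/-! # The zero section of the affine line kills `K₀(Coh)` (helper18) -/

set_option autoImplicit false
set_option linter.unusedSectionVars false
set_option linter.style.haveILetI false
universe u

open CategoryTheory CategoryTheory.Limits AlgebraicGeometry TopologicalSpace Opposite Function
open Groth.Agent.Lib.Helper29.QCoh
open Groth.Agent.Lib.Helper12.H12ModGlue
open Groth.Agent.Lib.Helper12.H12Dev
open Groth.Agent.Lib.Helper18.AL3 Groth.Agent.Lib.Helper18.AL4 Groth.Agent.Lib.Helper18.AL5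
open Groth.Agent.Lib.Helper25.HypTwist

namespace Groth.Agent.Lib.Helper18.AL6

variable {n : Type u} [Unique n]

instance isLocallyNoetherian_affineSpace (S : Scheme.{u}) [IsLocallyNoetherian S] :
    IsLocallyNoetherian 𝔸(n; S) :=
  LocallyOfFiniteType.isLocallyNoetherian (𝔸(n; S) ↘ S)

instance isClosedImmersion_map {S T : Scheme.{u}} (f : S ⟶ T) [IsClosedImmersion f] :
    IsClosedImmersion (AffineSpace.map n f) :=
  MorphismProperty.of_isPullback (AffineSpace.isPullback_map f).flip
    (inferInstance : IsClosedImmersion f)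

theorem comp_zeroSec {S T : Scheme.{u}} (f : S ⟶ T) :
    f ≫ zeroSec (n := n) T = zeroSec (n := n) S ≫ AffineSpace.map n f := by
  refine AffineSpace.hom_ext ?_ ?_
  · simp only [Category.assoc, zeroSec_over, Category.comp_id, AffineSpace.map_over,
      zeroSec_over_assoc]
  · intro i
    simp only [Scheme.Hom.comp_appTop, CommRingCat.hom_comp, RingHom.coe_comp,
      Function.comp_apply]
    have h1 : ((zeroSec (n := n) T).appTop).hom (AffineSpace.coord T i) = 0 :=
      zeroSec_appTop_coord T i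
    have h2 : ((AffineSpace.map n f).appTop).hom (AffineSpace.coord T i) =
        AffineSpace.coord S i := AffineSpace.map_appTop_coord f i
    have h3 : ((zeroSec (n := n) S).appTop).hom (AffineSpace.coord S i) = 0 :=
      zeroSec_appTop_coord S i
    rw [h1, h2, h3, map_zero]

section Integral

variable (S : Scheme.{u}) [IsIntegral S] [IsLocallyNoetherian S]

theorem isCoh_quotMod : Coh.IsCoh (ClSub.quotMod (coordIdeal (n := n) S)) :=
  isCoh_pushforward _ _ (isCoh_unitM _)

theorem isCoh_idealMod : Coh.IsCoh (ClSub.idealMod (coordIdeal (n := n) S)) := by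
  change Coh.IsCoh (kernel (ClSub.toSubscheme (coordIdeal (n := n) S)))
  exact isCoh_kernel _ (isCoh_unitM _) (isCoh_quotMod S)

/-- the class of `O_A / t` pushed forward along a closed immersion vanishes -/
theorem clSub_pushforward_quotMod {A : Scheme.{u}} [IsLocallyNoetherian A]
    (ι' : 𝔸(n; S) ⟶ A) [IsClosedImmersion ι'] :
    KZero.clSub (fun M : A.Modules => Coh.IsCoh M)
      ((Scheme.Modules.pushforward ι').obj (ClSub.quotMod (coordIdeal (n := n) S))) = 0 := by
  have hS := (shortExact_idealSeq (coordIdeal (n := n) S)).map_of_exact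
    (Scheme.Modules.pushforward ι')
  have h1 : Coh.IsCoh ((Scheme.Modules.pushforward ι').obj
      (ClSub.idealMod (coordIdeal (n := n) S))) := isCoh_pushforward ι' _ (isCoh_idealMod S)
  have h2 : Coh.IsCoh ((Scheme.Modules.pushforward ι').obj (unitM 𝔸(n; S))) :=
    isCoh_pushforward ι' _ (isCoh_unitM _)
  have h3 : Coh.IsCoh ((Scheme.Modules.pushforward ι').obj
      (ClSub.quotMod (coordIdeal (n := n) S))) := isCoh_pushforward ι' _ (isCoh_quotMod S)
  have hadd := SK1.clSub_add _ hS h1 h2 h3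
  have hiso := SK1.clSub_iso ((Scheme.Modules.pushforward ι').mapIso (asIso (τ (n := n) S))) h2
  change KZero.clSub _ ((Scheme.Modules.pushforward ι').obj (unitM 𝔸(n; S))) =
    KZero.clSub _ ((Scheme.Modules.pushforward ι').obj (ClSub.idealMod (coordIdeal (n := n) S))) +
    KZero.clSub _ ((Scheme.Modules.pushforward ι').obj
      (ClSub.quotMod (coordIdeal (n := n) S))) at hadd
  rw [hiso] at hadd
  exact (left_eq_add.mp hadd)

end Integral

section Main

variable (X : Scheme.{u}) [IsNoetherian X]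

theorem clSub_zeroSec_closureStructureSheaf (x₀ : X) :
    KZero.clSub (fun M : (𝔸(n; X)).Modules => Coh.IsCoh M)
      ((Scheme.Modules.pushforward (zeroSec (n := n) X)).obj (Cyc.closureStructureSheaf x₀)) =
        0 := by
  haveI : IsIntegral (IntMult.ptIdeal x₀).subscheme :=
    isIntegral_subscheme_vanishingIdeal ⟨closure {x₀}, isClosed_closure⟩
      isIrreducible_singleton.closure
  set X₀ := (IntMult.ptIdeal x₀).subscheme with hX₀
  set j₀ : X₀ ⟶ X := (IntMult.ptIdeal x₀).subschemeι with hj₀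
  haveI : IsLocallyNoetherian X₀ := LocallyOfFiniteType.isLocallyNoetherian j₀
  let ι' : 𝔸(n; X₀) ⟶ 𝔸(n; X) := AffineSpace.map n j₀
  have h0 := clSub_pushforward_quotMod (n := n) X₀ ι'
  have hfac : j₀ ≫ zeroSec (n := n) X = σ' (n := n) X₀ ≫ (iZ (n := n) X₀ ≫ ι') := by
    rw [σ'_fac_assoc]
    exact comp_zeroSec j₀
  let e1 := (Scheme.Modules.pushforwardComp j₀ (zeroSec (n := n) X)).app (unitM X₀)
  let e2 := (Scheme.Modules.pushforwardCongr hfac).app (unitM X₀)
  let e3 := ((Scheme.Modules.pushforwardComp (σ' (n := n) X₀) (iZ (n := n) X₀ ≫ ι')).app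
    (unitM X₀)).symm
  let e4 := (Scheme.Modules.pushforward (iZ (n := n) X₀ ≫ ι')).mapIso
    (asIso (ClSub.unitToPush (σ' (n := n) X₀))).symm
  let e5 := ((Scheme.Modules.pushforwardComp (iZ (n := n) X₀) ι').app (unitM (Zc (n := n) X₀))).symm
  have e : (Scheme.Modules.pushforward (zeroSec (n := n) X)).obj (Cyc.closureStructureSheaf x₀) ≅
      (Scheme.Modules.pushforward ι').obj (ClSub.quotMod (coordIdeal (n := n) X₀)) :=
    e1 ≪≫ e2 ≪≫ e3 ≪≫ e4 ≪≫ e5
  have hc : Coh.IsCoh ((Scheme.Modules.pushforward ι').obj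
      (ClSub.quotMod (coordIdeal (n := n) X₀))) := isCoh_pushforward ι' _ (isCoh_quotMod X₀)
  rw [SK1.clSub_iso e.symm hc, h0]

/-- the zero section induces the zero map on `K₀(Coh)` -/
theorem mapSub_zeroSec_eq_zero
    (hi : ∀ M : X.Modules, Coh.IsCoh M →
      Coh.IsCoh ((Scheme.Modules.pushforward (zeroSec (n := n) X)).obj M)) :
    SGA6.mapSub (Scheme.Modules.pushforward (zeroSec (n := n) X))
      (fun M : X.Modules => Coh.IsCoh M) (fun M : (𝔸(n; X)).Modules => Coh.IsCoh M) hi = 0 := by
  apply eq_zero_of_closureStructureSheaf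
  intro x
  rw [AD3.mapSub_clSub _ _ _ hi (SK1.isCoh_closureStructureSheaf x)]
  exact clSub_zeroSec_closureStructureSheaf X x

end Main

section Final

variable (X : Scheme.{u}) [IsNoetherian X]

instance isNoetherian_affineSpace : IsNoetherian 𝔸(n; X) :=
  { toIsLocallyNoetherian := inferInstance
    toCompactSpace := QuasiCompact.compactSpace_of_compactSpace (𝔸(n; X) ↘ X) }

theorem range_zeroSec_eq_compl :
    Set.range (zeroSec (n := n) X) =
      ((𝔸(n; X)).basicOpen (AffineSpace.coord X (default : n)) : Set 𝔸(n; X))ᶜ := by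
  rw [range_zeroSec, coordIdeal, Scheme.IdealSheafData.coe_support_ofIdealTop,
    Scheme.zeroLocus_span, Set.range_unique, Scheme.zeroLocus_singleton]

/-- **`K₀(Coh 𝔸¹_X) → K₀(Coh (𝔸¹_X ∖ 0))` is bijective.** -/
theorem main {U : Scheme.{u}} (j : U ⟶ 𝔸(n; X)) [IsOpenImmersion j]
    (hU : Set.range j = ((𝔸(n; X)).basicOpen (AffineSpace.coord X (default : n)) : Set 𝔸(n; X)))
    (hj : ∀ M : (𝔸(n; X)).Modules, Coh.IsCoh M →
      Coh.IsCoh ((Scheme.Modules.restrictFunctor j).obj M)) :
    Function.Bijective (SGA6.mapSub (Scheme.Modules.restrictFunctor j)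
      (fun M : (𝔸(n; X)).Modules => Coh.IsCoh M) (fun M : U.Modules => Coh.IsCoh M) hj) := by
  have hU' : Set.range j = (Set.range (zeroSec (n := n) X))ᶜ := by
    rw [range_zeroSec_eq_compl, compl_compl, hU]
  have hi : ∀ M : X.Modules, Coh.IsCoh M →
      Coh.IsCoh ((Scheme.Modules.pushforward (zeroSec (n := n) X)).obj M) :=
    fun M hM => isCoh_pushforward _ M hM
  obtain ⟨hs, hk⟩ := AL2.main (zeroSec (n := n) X) j hU' hi hj
  refine ⟨?_, hs⟩
  rw [mapSub_zeroSec_eq_zero X hi] at hk
  rw [injective_iff_map_eq_zero]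
  intro a ha
  have : a ∈ (SGA6.mapSub (Scheme.Modules.restrictFunctor j)
      (fun M : (𝔸(n; X)).Modules => Coh.IsCoh M) (fun M : U.Modules => Coh.IsCoh M) hj).ker := ha
  rw [hk] at this
  obtain ⟨b, hb⟩ := this
  rw [← hb]
  rfl

end Final

end Groth.Agent.Lib.Helper18.AL6
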