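import Mathlib
import Groth.Agent.Lib.Helper18.AnUnram3

set_option autoImplicit false
set_option linter.style.haveILetI false
set_option linter.unusedSectionVars false
universe u
open CAlg TensorProduct IsLocalRing Groth.Agent.Lib.Helper11.Japanese

namespace Groth.Agent.Lib.Helper18.Nag

/-- `p`-th roots in the completion of a Nagata local domain of characteristic `p` descend. -/
theorem exists_pow_eq_of_cpl (A : Type u) [CommRing A] [IsDomain A]
    [IsLocalRing A] (hA : CAlg.IsNagata A) (p : ℕ) [hp : Fact p.Prime] [CharP A p] (a : A)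
    (h : ∃ α : AdicCompletion (IsLocalRing.maximalIdeal A) A,
      α ^ p = algebraMap A (AdicCompletion (IsLocalRing.maximalIdeal A) A) a) :
    ∃ b : A, b ^ p = a := by
  haveI : IsNoetherianRing A := hA.1
  obtain ⟨α, hα⟩ := h
  let L := AlgebraicClosure (FractionRing A)
  obtain ⟨β₀, hβ₀⟩ := IsAlgClosed.exists_pow_nat_eq (algebraMap A L a) hp.out.pos
  have hint : IsIntegral A β₀ := by
    refine ⟨Polynomial.X ^ p - Polynomial.C a, Polynomial.monic_X_pow_sub_C a hp.out.ne_zero, ?_⟩
    simp [hβ₀]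
  let B := Algebra.adjoin A {β₀}
  haveI : Module.Finite A B := Algebra.finite_adjoin_simple_of_isIntegral hint
  let β : B := ⟨β₀, Algebra.subset_adjoin (Set.mem_singleton β₀)⟩
  have hβ : β ^ p = algebraMap A B a := Subtype.ext hβ₀
  have hinjAB : Function.Injective (algebraMap A B) := by
    intro x y hxy
    have h1 : algebraMap A L x = algebraMap A L y := congrArg Subtype.val hxy
    rw [IsScalarTower.algebraMap_apply A (FractionRing A) L,
      IsScalarTower.algebraMap_apply A (FractionRing A) L] at h1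
    exact IsFractionRing.injective A (FractionRing A) ((algebraMap (FractionRing A) L).injective h1)
  let Â := AdicCompletion (IsLocalRing.maximalIdeal A) A
  have hred : IsReduced (B ⊗[A] Â) := isReduced_tensor_cpl_of_isNagata A hA B
  have key : β ⊗ₜ[A] (1 : Â) = (1 : B) ⊗ₜ[A] α := by
    rcases subsingleton_or_nontrivial (B ⊗[A] Â) with hT | hT
    · exact Subsingleton.elim _ _
    · have hp0 : ((p : ℕ) : B ⊗[A] Â) = 0 := by
        have : ((p : ℕ) : B ⊗[A] Â) = algebraMap A (B ⊗[A] Â) (p : A) :=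
          (map_natCast (algebraMap A (B ⊗[A] Â)) p).symm
        rw [this, CharP.cast_eq_zero, map_zero]
      haveI : CharP (B ⊗[A] Â) p := (CharP.charP_iff_prime_eq_zero hp.out).2 hp0
      have h1 : (β ⊗ₜ[A] (1 : Â) - (1 : B) ⊗ₜ[A] α) ^ p = 0 := by
        rw [sub_pow_char, Algebra.TensorProduct.tmul_pow, Algebra.TensorProduct.tmul_pow, hβ, hα,
          one_pow, one_pow, sub_eq_zero, Algebra.algebraMap_eq_smul_one,
          Algebra.algebraMap_eq_smul_one (A := Â), TensorProduct.smul_tmul]
      have h2 := IsReduced.eq_zero _ ⟨p, h1⟩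
      exact sub_eq_zero.1 h2
  -- descent
  let N : Submodule A B := LinearMap.range (Algebra.linearMap A B)
  have h1 : (N.mkQ β) ⊗ₜ[A] (1 : Â) = 0 := by
    have h2 := congrArg (LinearMap.rTensor Â N.mkQ) key
    rw [LinearMap.rTensor_tmul, LinearMap.rTensor_tmul] at h2
    have h3 : N.mkQ (1 : B) = 0 := by
      rw [Submodule.mkQ_apply, Submodule.Quotient.mk_eq_zero]
      exact ⟨1, by simp⟩
    rw [h2, h3, TensorProduct.zero_tmul]
  haveI : Module.FaithfullyFlat A Â := Module.FaithfullyFlat.of_flat_of_isLocalHom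
  have h4 : (1 : Â) ⊗ₜ[A] (N.mkQ β) = 0 := by
    have := congrArg (TensorProduct.comm A (B ⧸ N) Â) h1
    rwa [TensorProduct.comm_tmul, map_zero] at this
  have h5 : N.mkQ β = 0 := by
    apply Module.FaithfullyFlat.tensorProduct_mk_injective (A := A) (B := Â) (B ⧸ N)
    rw [TensorProduct.mk_apply, h4, map_zero]
  rw [Submodule.mkQ_apply, Submodule.Quotient.mk_eq_zero] at h5
  obtain ⟨b, hb⟩ := h5
  refine ⟨b, hinjAB ?_⟩
  rw [map_pow, ← hβ]
  congr 1

end Groth.Agent.Lib.Helper18.Nag
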