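import Mathlib
import Groth.Prelude.Def_Found
import Groth.Prelude.Def_EGA4b
import Groth.Agent.Lib.Helper18.Nag8

/-!
# Finiteness of integral closure in a finite extension under an analytic reducedness hypothesis
-/

set_option autoImplicit false
set_option linter.style.haveILetI false
set_option linter.unusedSectionVars false
universe u
open CAlg TensorProduct IsLocalRing Groth.Agent.Lib.Helper11.Japanese

namespace Groth.Agent.Lib.Helper18.Nag

/-- A domain `B` finite over a Noetherian local ring `A` with `B ⊗_A Â` reduced is N-1. -/
theorem isN1_of_finite_of_isReduced_tensor_cpl (A : Type u) [CommRing A]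
    [IsNoetherianRing A] [IsLocalRing A]
    (B : Type u) [CommRing B] [IsDomain B] [Algebra A B]
    [Module.Finite A B] (hred : IsReduced (B ⊗[A] AdicCompletion (maximalIdeal A) A)) :
    IsN1 B := by
  let Â := AdicCompletion (maximalIdeal A) A
  haveI : IsNoetherianRing Â := by
    have : IsNoetherianRing (A ⧸ maximalIdeal A) := inferInstance
    exact Groth.Agent.Lib.Helper21.isNoetherianRing_adicCompletion_of_fg (maximalIdeal A)
      (IsNoetherian.noetherian _)
  haveI : Module.FaithfullyFlat A Â := Module.FaithfullyFlat.of_flat_of_isLocalHom
  let C := B ⊗[A] Â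
  letI : Algebra Â C := Algebra.TensorProduct.rightAlgebra
  haveI : Module.Finite Â C :=
    Module.Finite.equiv (Algebra.TensorProduct.commRight A Â B).toLinearEquiv
  haveI : IsNoetherianRing C := IsNoetherianRing.of_finite Â C
  haveI : IsReduced C := hred
  apply isN1_of_faithfullyFlat B C
  intro q hq _
  have h1 : IsN2 (Â ⧸ q.comap (algebraMap Â C)) :=
    (isNagata_of_isAdicComplete Â).2 (q.comap (algebraMap Â C))
  have h2 : IsN2 (C ⧸ q) :=
    isN2_of_finite_injective (Â ⧸ q.comap (algebraMap Â C)) (C ⧸ q)
      (Ideal.algebraMap_quotient_injective) h1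
  exact isN1_of_isN2 _ h2

/-- **EGA 0_IV 23.1.6-type criterion**: if `R ⊗_A K'` is reduced (`R` the total ring of fractions
of `Â`), the integral closure of `A` in the finite extension `K'` of its fraction field is
finite. -/
theorem finite_integralClosure_of_isReduced_tensor {A K' R : Type u}
    [CommRing A] [IsDomain A] [IsLocalRing A] [IsNoetherianRing A]
    [CommRing R] [Algebra (AdicCompletion (maximalIdeal A) A) R]
    [IsFractionRing (AdicCompletion (maximalIdeal A) A) R] [Algebra A R]
    [IsScalarTower A (AdicCompletion (maximalIdeal A) A) R]
    [Field K'] [Algebra A K'] [Algebra (FractionRing A) K'] [IsScalarTower A (FractionRing A) K']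
    [FiniteDimensional (FractionRing A) K'] (h : IsReduced (R ⊗[A] K')) :
    Module.Finite A (integralClosure A K') := by
  let Â := AdicCompletion (maximalIdeal A) A
  obtain ⟨S', hfin, hft, hfrac⟩ :=
    exists_finite_subalgebra_isFractionRing A (FractionRing A) K'
  haveI : Module.Flat A (FractionRing A) := IsLocalization.flat _ (nonZeroDivisors A)
  haveI : Module.Flat A K' := Module.Flat.trans A (FractionRing A) K'
  -- reducedness of `S' ⊗ Â`
  have hred : IsReduced (S' ⊗[A] Â) := by
    have h3 : IsReduced (K' ⊗[A] R) :=
      isReduced_of_injective (Algebra.TensorProduct.comm A K' R).toRingEquiv.toRingHom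
        (Algebra.TensorProduct.comm A K' R).injective
    have hÂR : Function.Injective (IsScalarTower.toAlgHom A Â R) :=
      IsLocalization.injective R (M := nonZeroDivisors Â) le_rfl
    have hi2 : Function.Injective (Algebra.TensorProduct.map
        (AlgHom.id A K') (IsScalarTower.toAlgHom A Â R)) := by
      have h5 := Module.Flat.lTensor_preserves_injective_linearMap (M := K')
        (IsScalarTower.toAlgHom A Â R).toLinearMap hÂR
      have h6 : ⇑(Algebra.TensorProduct.map
          (AlgHom.id A K') (IsScalarTower.toAlgHom A Â R)) =
          ⇑(LinearMap.lTensor K' (IsScalarTower.toAlgHom A Â R).toLinearMap) := by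
        ext e
        induction e using TensorProduct.induction_on with
        | zero => simp
        | tmul c a => simp
        | add x y hx hy => rw [map_add, map_add, hx, hy]
      rw [h6]
      exact h5
    have h4 : IsReduced (K' ⊗[A] Â) :=
      isReduced_of_injective (Algebra.TensorProduct.map
        (AlgHom.id A K') (IsScalarTower.toAlgHom A Â R)).toRingHom hi2
    have hi1 : Function.Injective (Algebra.TensorProduct.map
        (S'.val) (AlgHom.id A Â)) := by
      have h5 := Module.Flat.rTensor_preserves_injective_linearMap (M := Â)
        (S'.val).toLinearMap Subtype.val_injective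
      have h6 : ⇑(Algebra.TensorProduct.map (S'.val) (AlgHom.id A Â)) =
          ⇑(LinearMap.rTensor Â (S'.val).toLinearMap) := by
        ext e
        induction e using TensorProduct.induction_on with
        | zero => simp
        | tmul c a => simp
        | add x y hx hy => rw [map_add, map_add, hx, hy]
      rw [h6]
      exact h5
    exact isReduced_of_injective (Algebra.TensorProduct.map
        (S'.val) (AlgHom.id A Â)).toRingHom hi1
  have h1 : IsN1 S' := isN1_of_finite_of_isReduced_tensor_cpl A S' hred
  have h2 : Module.Finite S' (integralClosure S' K') := (isN1_iff S' K').1 h1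
  have h3 : Module.Finite A (integralClosure S' K') := Module.Finite.trans S' _
  have hint : Algebra.IsIntegral A S' := Algebra.IsIntegral.of_finite A S'
  let φ : integralClosure S' K' →ₗ[A] integralClosure A K' :=
    { toFun := fun x => ⟨x.1, isIntegral_trans (R := A) (A := S') x.1 x.2⟩
      map_add' := fun _ _ => rfl
      map_smul' := fun _ _ => rfl }
  have hφ : Function.Surjective φ := fun x => ⟨⟨x.1, x.2.tower_top⟩, rfl⟩
  exact Module.Finite.of_surjective φ hφ

end Groth.Agent.Lib.Helper18.Nag
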