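import Mathlib
import Groth.Prelude.Def_Found
import Groth.Prelude.Def_EGA4b
import Groth.Agent.Lib.Helper18.AnUnram1
import Groth.Agent.Lib.Helper18.NagFT1
import Groth.Agent.Lib.Helper18.CplQuot
import Groth.Agent.Lib.Helper18.AnUnram3

/-!
# A hypersurface-section criterion for analytic unramifiedness
-/

set_option autoImplicit false
set_option linter.style.haveILetI false
set_option linter.unusedSectionVars false
universe u
open CAlg TensorProduct IsLocalRing Groth.Agent.Lib.Helper11.Japanese

namespace Groth.Agent.Lib.Helper18.Nag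

section dom

variable (C : Type u) [CommRing C] [IsDomain C] [IsNoetherianRing C]

/-- Elementwise discrete-valuation data at a minimal prime `p` of `(x)` with `C_p` integrally
closed (no normality assumption on `C`). -/
theorem exists_uniformizer' (x : C) (hx : x ≠ 0) (p : Ideal C)
    (hp : p ∈ (Ideal.span {x}).minimalPrimes)
    (hic : ∀ [p.IsPrime], IsIntegrallyClosed (Localization.AtPrime p)) :
    ∃ π : C, π ≠ 0 ∧ π ∈ p ∧ (∃ s : C, s ∉ p ∧ ∀ a ∈ p, s * a ∈ Ideal.span {π}) ∧
      ∃ (n : ℕ) (s : C), s ∉ p ∧ s * π ^ n ∈ Ideal.span {x} := by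
  classical
  haveI : p.IsPrime := hp.1.1
  have hxp : x ∈ p := hp.1.2 (Ideal.mem_span_singleton_self x)
  have hh : p.height ≤ 1 := Ideal.height_le_one_of_isPrincipal_of_mem_minimalPrimes _ p hp
  haveI : IsDomain (Localization.AtPrime p) :=
    IsLocalization.isDomain_of_le_nonZeroDivisors (M := p.primeCompl) _
      p.primeCompl_le_nonZeroDivisors
  haveI : IsIntegrallyClosed (Localization.AtPrime p) := hic
  have hinj : Function.Injective (algebraMap C (Localization.AtPrime p)) :=
    IsLocalization.injective _ p.primeCompl_le_nonZeroDivisors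
  have h4 : IsIntegrallyClosed (Localization.AtPrime p) ∧
      ∀ P : Ideal (Localization.AtPrime p), P ≠ ⊥ → P.IsPrime →
        P = maximalIdeal (Localization.AtPrime p) := by
    refine ⟨inferInstance, fun P hP0 hPp => ?_⟩
    haveI := hPp
    have hmap : (P.under C).map (algebraMap C (Localization.AtPrime p)) = P :=
      IsLocalization.map_under p.primeCompl (S := Localization.AtPrime p) P
    haveI : (P.under C).IsPrime := Ideal.comap_isPrime _ _
    have hP'0 : P.under C ≠ ⊥ := by
      intro h; apply hP0; rw [← hmap, h, Ideal.map_bot]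
    have hle : P.under C ≤ p := by
      have hd := ((IsLocalization.isPrime_iff_isPrime_disjoint p.primeCompl
        (Localization.AtPrime p) P).1 hPp).2
      intro a ha
      by_contra hap
      exact Set.disjoint_left.1 hd hap ha
    have heq : P.under C = p := by
      by_contra hne
      have hlt := lt_of_le_of_ne hle hne
      have h1 := Ideal.height_add_one_le_of_lt_of_isPrime hlt
      have h0 : (P.under C).height ≠ 0 := by rwa [Ne, Ideal.height_eq_zero_iff_eq_bot]
      have h2 : (P.under C).height + 1 ≤ 1 := h1.trans hh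
      have h4 : (P.under C).height ≠ ⊤ := by
        intro h; rw [h] at h2; simp at h2
      obtain ⟨n, hn⟩ := ENat.ne_top_iff_exists.mp h4
      rw [← hn] at h2 h0
      have : n + 1 ≤ 1 := by exact_mod_cast h2
      have : n = 0 := by omega
      exact h0 (by simp [this])
    rw [← hmap, heq]
    exact Localization.AtPrime.map_eq_maximalIdeal
  have htfae := tfae_of_isNoetherianRing_of_isLocalRing_of_isDomain (R := Localization.AtPrime p)
  have h5 : (maximalIdeal (Localization.AtPrime p)).IsPrincipal := (htfae.out 3 4).mp h4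
  have h7 : ∀ I ≠ (⊥ : Ideal (Localization.AtPrime p)), ∃ n : ℕ,
      I = maximalIdeal (Localization.AtPrime p) ^ n := (htfae.out 3 6).mp h4
  obtain ⟨ϖ, hϖ⟩ := h5.principal
  obtain ⟨π, t, rfl⟩ := IsLocalization.exists_mk'_eq p.primeCompl ϖ
  have hmax : maximalIdeal (Localization.AtPrime p) =
      Ideal.span {algebraMap C (Localization.AtPrime p) π} := by
    rw [hϖ]
    show Ideal.span _ = _
    apply le_antisymm
    · rw [Ideal.span_singleton_le_iff_mem, Ideal.mem_span_singleton']
      refine ⟨IsLocalization.mk' _ 1 t, ?_⟩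
      rw [mul_comm, IsLocalization.mul_mk'_eq_mk'_of_mul, mul_one]
    · rw [Ideal.span_singleton_le_iff_mem, Ideal.mem_span_singleton']
      refine ⟨algebraMap C _ t, ?_⟩
      exact IsLocalization.mk'_spec' (Localization.AtPrime p) π t
  have hπp : π ∈ p := by
    rw [← IsLocalization.AtPrime.to_map_mem_maximal_iff (Localization.AtPrime p) p π, hmax]
    exact Ideal.mem_span_singleton_self _
  have hπ0 : π ≠ 0 := by
    rintro rfl
    rw [map_zero, Ideal.span_singleton_zero] at hmax
    have : algebraMap C (Localization.AtPrime p) x ∈ maximalIdeal (Localization.AtPrime p) :=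
      (IsLocalization.AtPrime.to_map_mem_maximal_iff (Localization.AtPrime p) p x).2 hxp
    rw [hmax, Ideal.mem_bot] at this
    exact hx (hinj (by rw [this, map_zero]))
  have key : ∀ a : C, algebraMap C (Localization.AtPrime p) a ∈
      Ideal.span {algebraMap C (Localization.AtPrime p) π} →
      ∃ s : C, s ∉ p ∧ s * a ∈ Ideal.span {π} := by
    intro a ha
    rw [Ideal.mem_span_singleton'] at ha
    obtain ⟨z, hz⟩ := ha
    obtain ⟨b, s, rfl⟩ := IsLocalization.exists_mk'_eq p.primeCompl z
    refine ⟨s, s.2, ?_⟩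
    rw [Ideal.mem_span_singleton']
    refine ⟨b, hinj ?_⟩
    rw [map_mul, map_mul, ← hz, mul_comm (IsLocalization.mk' _ b s), mul_left_comm,
      IsLocalization.mk'_spec', mul_comm]
  refine ⟨π, hπ0, hπp, ?_, ?_⟩
  · have h1 : ∀ a ∈ p, ∃ s : C, s ∉ p ∧ s * a ∈ Ideal.span {π} := by
      intro a ha
      apply key
      rw [← hmax]
      exact (IsLocalization.AtPrime.to_map_mem_maximal_iff (Localization.AtPrime p) p a).2 ha
    obtain ⟨G, hG⟩ := (isNoetherianRing_iff_ideal_fg C).1 inferInstance p
    have h2 : ∀ a : C, ∃ s : C, a ∈ p → (s ∉ p ∧ s * a ∈ Ideal.span {π}) := by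
      intro a
      by_cases ha : a ∈ p
      · obtain ⟨s, hs⟩ := h1 a ha
        exact ⟨s, fun _ => hs⟩
      · exact ⟨0, fun h => absurd h ha⟩
    choose f hf using h2
    have hGp : ∀ g ∈ G, g ∈ p := by
      intro g hg
      rw [← hG]
      exact Ideal.subset_span hg
    refine ⟨∏ g ∈ G, f g, ?_, ?_⟩
    · intro hmem
      rw [Ideal.IsPrime.prod_mem_iff] at hmem
      obtain ⟨g, hg, hfg⟩ := hmem
      exact (hf g (hGp g hg)).1 hfg
    · intro a ha
      rw [← hG] at ha
      refine Submodule.span_induction ?_ ?_ ?_ ?_ ha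
      · intro g hg
        obtain ⟨k, hk⟩ := Finset.dvd_prod_of_mem f hg
        rw [hk, mul_comm (f g) k, mul_assoc]
        exact Ideal.mul_mem_left _ _ (hf g (hGp g hg)).2
      · simp
      · intro a b _ _ ha hb
        rw [mul_add]
        exact Ideal.add_mem _ ha hb
      · intro r a _ ha
        rw [smul_eq_mul, mul_left_comm]
        exact Ideal.mul_mem_left _ _ ha
  · have hI0 : Ideal.span {algebraMap C (Localization.AtPrime p) x} ≠ ⊥ := by
      rw [Ne, Ideal.span_singleton_eq_bot]
      intro h
      exact hx (hinj (by rw [h, map_zero]))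
    obtain ⟨n, hn⟩ := h7 _ hI0
    rw [hmax, Ideal.span_singleton_pow, ← map_pow] at hn
    have h1 : algebraMap C (Localization.AtPrime p) (π ^ n) ∈
        Ideal.span {algebraMap C (Localization.AtPrime p) x} := by
      rw [hn]
      exact Ideal.mem_span_singleton_self _
    rw [Ideal.mem_span_singleton'] at h1
    obtain ⟨z, hz⟩ := h1
    obtain ⟨b, s, rfl⟩ := IsLocalization.exists_mk'_eq p.primeCompl z
    refine ⟨n, s, s.2, ?_⟩
    rw [Ideal.mem_span_singleton']
    refine ⟨b, hinj ?_⟩
    rw [map_mul, map_mul, ← hz, mul_comm (IsLocalization.mk' _ b s), mul_left_comm,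
      IsLocalization.mk'_spec', mul_comm]


end dom

section main

variable {R : Type u} [CommRing R] [IsDomain R] [IsLocalRing R] [IsNoetherianRing R]

/-- **Hypersurface-section criterion for analytic unramifiedness** (Stacks 0330-type). -/
theorem isReduced_cpl_of_hypersurface (x : R) (hx : x ≠ 0) (hxm : x ∈ maximalIdeal R)
    (hemb : ∀ p ∈ associatedPrimes R (R ⧸ Ideal.span {x}), p ∈ (Ideal.span {x}).minimalPrimes)
    (hreg : ∀ p ∈ associatedPrimes R (R ⧸ Ideal.span {x}), ∀ (_ : p.IsPrime),
      IsRegularLocalRing (Localization.AtPrime p) ∧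
        IsReduced (AdicCompletion ((maximalIdeal R).map (Ideal.Quotient.mk p)) (R ⧸ p))) :
    IsReduced (AdicCompletion (maximalIdeal R) R) := by
  classical
  haveI := isNoetherianRing_cpl R
  have hfin : (associatedPrimes R (R ⧸ Ideal.span {x})).Finite := associatedPrimes.finite R _
  refine isReduced_of_flat_of_primes R (AdicCompletion (maximalIdeal R) R) x hx ?_
    hfin.toFinset ?_ ?_ ?_ ?_
  · exact cpl_map_le_jacobson R (Ideal.mem_map_of_mem _ hxm)
  · intro p hp
    exact (hfin.mem_toFinset.mp hp).isPrime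
  · intro c b hc h
    by_contra hb
    have hb0 : (Ideal.Quotient.mk (Ideal.span {x}) b) ≠ 0 := by
      rwa [Ne, Ideal.Quotient.eq_zero_iff_mem]
    obtain ⟨P, hP, hle⟩ := exists_le_isAssociatedPrime_of_isNoetherianRing R _ hb0
    have hcP : c ∈ P := hle (by
      rw [Submodule.mem_colon_singleton, Submodule.mem_bot]
      show Ideal.Quotient.mk (Ideal.span {x}) (c * b) = 0
      rwa [Ideal.Quotient.eq_zero_iff_mem])
    exact hc P (hfin.mem_toFinset.mpr hP) hcP
  · intro p hp
    have hp' := hfin.mem_toFinset.mp hp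
    have hmin := hemb p hp'
    obtain ⟨π, hπ0, -, h1, h2⟩ := exists_uniformizer' R x hx p hmin (by
      intro hpp
      haveI : IsDomain (Localization.AtPrime p) :=
        IsLocalization.isDomain_of_le_nonZeroDivisors (M := p.primeCompl) _
          p.primeCompl_le_nonZeroDivisors
      haveI := (hreg p hp' hpp).1
      apply Groth.Agent.Lib.Helper18.Serre.isIntegrallyClosed_of_isRegularLocalRing_of_dim_le_one
      rw [IsLocalization.AtPrime.ringKrullDim_eq_height p (Localization.AtPrime p)]
      have hh : p.height ≤ 1 := Ideal.height_le_one_of_isPrincipal_of_mem_minimalPrimes _ p hmin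
      exact_mod_cast hh)
    exact ⟨π, hπ0, h1, h2⟩
  · intro p hp t ht
    have hp' := hfin.mem_toFinset.mp hp
    haveI hpp : p.IsPrime := hp'.isPrime
    haveI : Nontrivial (R ⧸ p) := Ideal.Quotient.nontrivial_iff.mpr hpp.ne_top
    haveI : IsLocalRing (R ⧸ p) :=
      IsLocalRing.of_surjective' (Ideal.Quotient.mk p) Ideal.Quotient.mk_surjective
    have hs : Function.Surjective (algebraMap R (R ⧸ p)) := Ideal.Quotient.mk_surjective
    haveI : IsLocalHom (algebraMap R (R ⧸ p)) :=
      Groth.Agent.Lib.Helper18.CplQuot.isLocalHom_of_surjective R (R ⧸ p) hs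
    have hmap : (maximalIdeal R).map (Ideal.Quotient.mk p) = maximalIdeal (R ⧸ p) :=
      Groth.Agent.Lib.Helper18.CplQuot.map_maximalIdeal_eq R (R ⧸ p) hs
    have hredp : IsReduced (EGA4.Cpl (R ⧸ p)) := by
      have h := (hreg p hp' hpp).2
      rw [hmap] at h
      exact h
    obtain ⟨e⟩ := Groth.Agent.Lib.Helper18.CplQuot.nonempty_ringEquiv R (R ⧸ p) hs
    have hker : RingHom.ker (algebraMap R (R ⧸ p)) = p := Ideal.mk_ker
    rw [hker] at e
    have h0 : e (Ideal.Quotient.mk _ t) = 0 := by
      apply IsReduced.eq_zero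
      refine ⟨2, ?_⟩
      rw [← map_pow, ← map_pow, ht, map_zero, map_zero]
    have h1 : Ideal.Quotient.mk (p.map (algebraMap R (EGA4.Cpl R))) t = 0 :=
      e.injective (h0.trans (map_zero e).symm)
    exact Ideal.Quotient.eq_zero_iff_mem.mp h1

end main

end Groth.Agent.Lib.Helper18.Nag
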