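import Mathlib
import Groth.Agent.Lib.Helper18.FlE3

/-!
# Descent of an isomorphism of finitely presented algebras to a finitely generated
ℤ-subalgebra (helper18)  (EGA IV 8.8.2, ring form, for isomorphisms)
-/

set_option autoImplicit false
set_option linter.unusedSectionVars false

namespace Groth.Agent.Lib.Helper18.Apx

open Function MvPolynomial Groth.Agent.Lib.Helper18.Fl

universe u

variable {A : Type u} [CommRing A]

/-- enlarge a finitely generated subalgebra to contain the coefficients of finitely many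
polynomials -/
theorem exists_fg_coeffs {κ ι : Type*} [Finite κ] (Λ₀ : Subalgebra ℤ A) (hΛ₀ : Λ₀.FG)
    (p : κ → MvPolynomial ι A) :
    ∃ Λ : Subalgebra ℤ A, Λ₀ ≤ Λ ∧ Λ.FG ∧ ∀ k, ((p k).coeffs : Set A) ⊆ Λ := by
  classical
  refine ⟨Λ₀ ⊔ Algebra.adjoin ℤ (⋃ k, ((p k).coeffs : Set A)), le_sup_left, ?_, ?_⟩
  · refine Subalgebra.FG.sup hΛ₀ ?_
    refine Subalgebra.fg_def.mpr ⟨_, ?_, rfl⟩
    exact Set.finite_iUnion fun k => Finset.finite_toSet _
  · intro k x hx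
    exact (le_sup_right : _ ≤ Λ₀ ⊔ _) (Algebra.subset_adjoin (Set.mem_iUnion.mpr ⟨k, hx⟩))

theorem map_aeval_inc {ι ι' : Type*} (Λ : Subalgebra ℤ A) (u' : ι → MvPolynomial ι' Λ)
    (p : MvPolynomial ι Λ) :
    MvPolynomial.map (inc Λ) (aeval u' p) =
      aeval (fun i => MvPolynomial.map (inc Λ) (u' i)) (MvPolynomial.map (inc Λ) p) := by
  rw [aeval_eq_bind₁, aeval_eq_bind₁, map_bind₁]

theorem exists_map_eq_of_coeffs_subset' {ι : Type*} (S : Subalgebra ℤ A) (f : MvPolynomial ι A)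
    (hf : (f.coeffs : Set A) ⊆ S) : ∃ f' : MvPolynomial ι ↥S, MvPolynomial.map (inc S) f' = f := by
  have : f ∈ Set.range (MvPolynomial.map (inc S) : MvPolynomial ι ↥S → MvPolynomial ι A) := by
    rw [MvPolynomial.mem_range_map_iff_coeffs_subset]
    intro x hx
    exact ⟨⟨x, hf hx⟩, rfl⟩
  exact this

section LemmaR

variable {ι₁ σ₁ ι₂ σ₂ : Type*} [Finite ι₁] [Finite σ₁] [Finite ι₂] [Finite σ₂]

theorem exists_algEquiv_over_fg (Λ₀ : Subalgebra ℤ A) (hΛ₀ : Λ₀.FG)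
    (r₀ : σ₁ → MvPolynomial ι₁ Λ₀) (s₀ : σ₂ → MvPolynomial ι₂ Λ₀)
    (e : (MvPolynomial ι₁ A ⧸ Ideal.span (Set.range fun t => MvPolynomial.map (inc Λ₀) (r₀ t))) ≃ₐ[A]
      (MvPolynomial ι₂ A ⧸ Ideal.span (Set.range fun q => MvPolynomial.map (inc Λ₀) (s₀ q)))) :
    ∃ (Λ : Subalgebra ℤ A) (h : Λ₀ ≤ Λ), Λ.FG ∧
      Nonempty ((MvPolynomial ι₁ Λ ⧸
          Ideal.span (Set.range fun t => MvPolynomial.map (incl h) (r₀ t))) ≃ₐ[Λ]
        (MvPolynomial ι₂ Λ ⧸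
          Ideal.span (Set.range fun q => MvPolynomial.map (incl h) (s₀ q)))) := by
  classical
  cases nonempty_fintype σ₁
  cases nonempty_fintype σ₂
  set rA : σ₁ → MvPolynomial ι₁ A := fun t => MvPolynomial.map (inc Λ₀) (r₀ t) with hrA
  set sA : σ₂ → MvPolynomial ι₂ A := fun q => MvPolynomial.map (inc Λ₀) (s₀ q) with hsA
  set I := Ideal.span (Set.range rA) with hI
  set J := Ideal.span (Set.range sA) with hJ
  let mkI : MvPolynomial ι₁ A →ₐ[A] (MvPolynomial ι₁ A ⧸ I) := Ideal.Quotient.mkₐ A I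
  let mkJ : MvPolynomial ι₂ A →ₐ[A] (MvPolynomial ι₂ A ⧸ J) := Ideal.Quotient.mkₐ A J
  have hmkI : Surjective mkI := Ideal.Quotient.mkₐ_surjective A I
  have hmkJ : Surjective mkJ := Ideal.Quotient.mkₐ_surjective A J
  choose u hu using fun i : ι₁ => hmkJ (e (mkI (X i)))
  choose v hv using fun j : ι₂ => hmkI (e.symm (mkJ (X j)))
  let U : MvPolynomial ι₁ A →ₐ[A] MvPolynomial ι₂ A := aeval u
  let V : MvPolynomial ι₂ A →ₐ[A] MvPolynomial ι₁ A := aeval v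
  have hU : ∀ p, mkJ (U p) = e (mkI p) := by
    have : mkJ.comp U = (e : _ →ₐ[A] _).comp mkI := by
      apply MvPolynomial.algHom_ext
      intro i
      simp only [AlgHom.comp_apply, U, aeval_X, hu]
      rfl
    intro p
    exact congrArg (fun f : MvPolynomial ι₁ A →ₐ[A] _ => f p) this
  have hV : ∀ p, mkI (V p) = e.symm (mkJ p) := by
    have : mkI.comp V = (e.symm : _ →ₐ[A] _).comp mkJ := by
      apply MvPolynomial.algHom_ext
      intro j
      simp only [AlgHom.comp_apply, V, aeval_X, hv]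
      rfl
    intro p
    exact congrArg (fun f : MvPolynomial ι₂ A →ₐ[A] _ => f p) this
  have memI : ∀ p, mkI p = 0 ↔ p ∈ I := fun p => Ideal.Quotient.eq_zero_iff_mem
  have memJ : ∀ p, mkJ p = 0 ↔ p ∈ J := fun p => Ideal.Quotient.eq_zero_iff_mem
  have hrI : ∀ t, mkI (rA t) = 0 := fun t => (memI _).2 (Ideal.subset_span ⟨t, rfl⟩)
  have hsJ : ∀ q, mkJ (sA q) = 0 := fun q => (memJ _).2 (Ideal.subset_span ⟨q, rfl⟩)
  have ha : ∀ t, ∃ a : σ₂ → MvPolynomial ι₂ A, ∑ q, a q * sA q = U (rA t) := by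
    intro t
    refine (Ideal.mem_span_range_iff_exists_fun).mp ((memJ _).1 ?_)
    rw [hU, hrI, map_zero]
  have hb : ∀ q, ∃ b : σ₁ → MvPolynomial ι₁ A, ∑ t, b t * rA t = V (sA q) := by
    intro q
    refine (Ideal.mem_span_range_iff_exists_fun).mp ((memI _).1 ?_)
    rw [hV, hsJ, map_zero]
  have hc : ∀ i, ∃ c : σ₁ → MvPolynomial ι₁ A, ∑ t, c t * rA t = X i - V (u i) := by
    intro i
    refine (Ideal.mem_span_range_iff_exists_fun).mp ((memI _).1 ?_)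
    rw [map_sub, hV, hu, AlgEquiv.symm_apply_apply, sub_self]
  have hd : ∀ j, ∃ d : σ₂ → MvPolynomial ι₂ A, ∑ q, d q * sA q = X j - U (v j) := by
    intro j
    refine (Ideal.mem_span_range_iff_exists_fun).mp ((memJ _).1 ?_)
    rw [map_sub, hU, hv, AlgEquiv.apply_symm_apply, sub_self]
  choose a ha using ha
  choose b hb using hb
  choose c hc using hc
  choose d hd using hd
  obtain ⟨Λ₁, h01, hΛ₁, hu1⟩ := exists_fg_coeffs Λ₀ hΛ₀ u
  obtain ⟨Λ₂, h12, hΛ₂, hv2⟩ := exists_fg_coeffs Λ₁ hΛ₁ v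
  obtain ⟨Λ₃, h23, hΛ₃, ha3⟩ := exists_fg_coeffs Λ₂ hΛ₂ (fun x : σ₁ × σ₂ => a x.1 x.2)
  obtain ⟨Λ₄, h34, hΛ₄, hb4⟩ := exists_fg_coeffs Λ₃ hΛ₃ (fun x : σ₂ × σ₁ => b x.1 x.2)
  obtain ⟨Λ₅, h45, hΛ₅, hc5⟩ := exists_fg_coeffs Λ₄ hΛ₄ (fun x : ι₁ × σ₁ => c x.1 x.2)
  obtain ⟨Λ, h56, hΛ, hd6⟩ := exists_fg_coeffs Λ₅ hΛ₅ (fun x : ι₂ × σ₂ => d x.1 x.2)
  have h0 : Λ₀ ≤ Λ := h01.trans (h12.trans (h23.trans (h34.trans (h45.trans h56))))
  have lu : ∀ i, ∃ u' : MvPolynomial ι₂ Λ, MvPolynomial.map (inc Λ) u' = u i := fun i =>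
    exists_map_eq_of_coeffs_subset' Λ _ ((hu1 i).trans
      (h12.trans (h23.trans (h34.trans (h45.trans h56)))))
  have lv : ∀ j, ∃ v' : MvPolynomial ι₁ Λ, MvPolynomial.map (inc Λ) v' = v j := fun j =>
    exists_map_eq_of_coeffs_subset' Λ _ ((hv2 j).trans (h23.trans (h34.trans (h45.trans h56))))
  have la : ∀ t q, ∃ a' : MvPolynomial ι₂ Λ, MvPolynomial.map (inc Λ) a' = a t q := fun t q =>
    exists_map_eq_of_coeffs_subset' Λ _ ((ha3 (t, q)).trans (h34.trans (h45.trans h56)))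
  have lb : ∀ q t, ∃ b' : MvPolynomial ι₁ Λ, MvPolynomial.map (inc Λ) b' = b q t := fun q t =>
    exists_map_eq_of_coeffs_subset' Λ _ ((hb4 (q, t)).trans (h45.trans h56))
  have lc : ∀ i t, ∃ c' : MvPolynomial ι₁ Λ, MvPolynomial.map (inc Λ) c' = c i t := fun i t =>
    exists_map_eq_of_coeffs_subset' Λ _ ((hc5 (i, t)).trans h56)
  have ld : ∀ j q, ∃ d' : MvPolynomial ι₂ Λ, MvPolynomial.map (inc Λ) d' = d j q := fun j q =>
    exists_map_eq_of_coeffs_subset' Λ _ (hd6 (j, q))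
  choose u' hu' using lu
  choose v' hv' using lv
  choose a' ha' using la
  choose b' hb' using lb
  choose c' hc' using lc
  choose d' hd' using ld
  refine ⟨Λ, h0, hΛ, ?_⟩
  set r' : σ₁ → MvPolynomial ι₁ Λ := fun t => MvPolynomial.map (incl h0) (r₀ t) with hr'
  set s' : σ₂ → MvPolynomial ι₂ Λ := fun q => MvPolynomial.map (incl h0) (s₀ q) with hs'
  have hr'A : ∀ t, MvPolynomial.map (inc Λ) (r' t) = rA t := by
    intro t
    simp only [hr', hrA, MvPolynomial.map_map, inc_comp_incl]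
  have hs'A : ∀ q, MvPolynomial.map (inc Λ) (s' q) = sA q := by
    intro q
    simp only [hs', hsA, MvPolynomial.map_map, inc_comp_incl]
  have inj₁ : Injective (MvPolynomial.map (inc Λ) : MvPolynomial ι₁ Λ → MvPolynomial ι₁ A) :=
    MvPolynomial.map_injective _ (inc_injective Λ)
  have inj₂ : Injective (MvPolynomial.map (inc Λ) : MvPolynomial ι₂ Λ → MvPolynomial ι₂ A) :=
    MvPolynomial.map_injective _ (inc_injective Λ)
  let U' : MvPolynomial ι₁ Λ →ₐ[Λ] MvPolynomial ι₂ Λ := aeval u'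
  let V' : MvPolynomial ι₂ Λ →ₐ[Λ] MvPolynomial ι₁ Λ := aeval v'
  have hU' : ∀ p, MvPolynomial.map (inc Λ) (U' p) = U (MvPolynomial.map (inc Λ) p) := by
    intro p
    simp only [U', U, map_aeval_inc, hu']
  have hV' : ∀ p, MvPolynomial.map (inc Λ) (V' p) = V (MvPolynomial.map (inc Λ) p) := by
    intro p
    simp only [V', V, map_aeval_inc, hv']
  have Ea : ∀ t, U' (r' t) = ∑ q, a' t q * s' q := by
    intro t
    apply inj₂
    rw [hU', hr'A, ← ha t, map_sum]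
    refine Finset.sum_congr rfl fun q _ => ?_
    rw [map_mul, ha', hs'A]
  have Eb : ∀ q, V' (s' q) = ∑ t, b' q t * r' t := by
    intro q
    apply inj₁
    rw [hV', hs'A, ← hb q, map_sum]
    refine Finset.sum_congr rfl fun t _ => ?_
    rw [map_mul, hb', hr'A]
  have Ec : ∀ i, X i - V' (u' i) = ∑ t, c' i t * r' t := by
    intro i
    apply inj₁
    rw [map_sub, hV', hu', MvPolynomial.map_X, ← hc i, map_sum]
    refine Finset.sum_congr rfl fun t _ => ?_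
    rw [map_mul, hc', hr'A]
  have Ed : ∀ j, X j - U' (v' j) = ∑ q, d' j q * s' q := by
    intro j
    apply inj₂
    rw [map_sub, hU', hv', MvPolynomial.map_X, ← hd j, map_sum]
    refine Finset.sum_congr rfl fun q _ => ?_
    rw [map_mul, hd', hs'A]
  set I' := Ideal.span (Set.range r') with hI'
  set J' := Ideal.span (Set.range s') with hJ'
  have sumI' : ∀ (f : σ₁ → MvPolynomial ι₁ Λ), ∑ t, f t * r' t ∈ I' := fun f =>
    Ideal.sum_mem _ fun t _ => Ideal.mul_mem_left _ _ (Ideal.subset_span ⟨t, rfl⟩)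
  have sumJ' : ∀ (f : σ₂ → MvPolynomial ι₂ Λ), ∑ q, f q * s' q ∈ J' := fun f =>
    Ideal.sum_mem _ fun q _ => Ideal.mul_mem_left _ _ (Ideal.subset_span ⟨q, rfl⟩)
  have kφ : ∀ x ∈ I', ((Ideal.Quotient.mkₐ Λ J').comp U') x = 0 := by
    intro x hx
    have : I' ≤ RingHom.ker ((Ideal.Quotient.mkₐ Λ J').comp U') := by
      rw [hI', Ideal.span_le]
      rintro _ ⟨t, rfl⟩
      rw [SetLike.mem_coe, RingHom.mem_ker]
      change Ideal.Quotient.mk J' (U' (r' t)) = 0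
      rw [Ideal.Quotient.eq_zero_iff_mem, Ea]
      exact sumJ' _
    exact this hx
  have kψ : ∀ x ∈ J', ((Ideal.Quotient.mkₐ Λ I').comp V') x = 0 := by
    intro x hx
    have : J' ≤ RingHom.ker ((Ideal.Quotient.mkₐ Λ I').comp V') := by
      rw [hJ', Ideal.span_le]
      rintro _ ⟨q, rfl⟩
      rw [SetLike.mem_coe, RingHom.mem_ker]
      change Ideal.Quotient.mk I' (V' (s' q)) = 0
      rw [Ideal.Quotient.eq_zero_iff_mem, Eb]
      exact sumI' _
    exact this hx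
  let φ : (MvPolynomial ι₁ Λ ⧸ I') →ₐ[Λ] (MvPolynomial ι₂ Λ ⧸ J') :=
    Ideal.Quotient.liftₐ I' ((Ideal.Quotient.mkₐ Λ J').comp U') kφ
  let ψ : (MvPolynomial ι₂ Λ ⧸ J') →ₐ[Λ] (MvPolynomial ι₁ Λ ⧸ I') :=
    Ideal.Quotient.liftₐ J' ((Ideal.Quotient.mkₐ Λ I').comp V') kψ
  have hφ : ∀ p, φ (Ideal.Quotient.mk I' p) = Ideal.Quotient.mk J' (U' p) := fun p => rfl
  have hψ : ∀ p, ψ (Ideal.Quotient.mk J' p) = Ideal.Quotient.mk I' (V' p) := fun p => rfl
  refine ⟨AlgEquiv.ofAlgHom φ ψ ?_ ?_⟩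
  · apply Ideal.Quotient.algHom_ext
    apply MvPolynomial.algHom_ext
    intro j
    change φ (ψ (Ideal.Quotient.mk J' (X j))) = Ideal.Quotient.mk J' (X j)
    rw [hψ, hφ]
    have : V' (X j) = v' j := aeval_X _ _
    rw [this, eq_comm, Ideal.Quotient.eq, Ed]
    exact sumJ' _
  · apply Ideal.Quotient.algHom_ext
    apply MvPolynomial.algHom_ext
    intro i
    change ψ (φ (Ideal.Quotient.mk I' (X i))) = Ideal.Quotient.mk I' (X i)
    rw [hφ, hψ]
    have : U' (X i) = u' i := aeval_X _ _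
    rw [this, eq_comm, Ideal.Quotient.eq, Ec]
    exact sumI' _

end LemmaR

end Groth.Agent.Lib.Helper18.Apx
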