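import Mathlib
import Groth.Agent.Lib.Helper18.ApxR

/-!
# Common Noetherian model of two base changes (helper18)
-/

set_option autoImplicit false
set_option linter.unusedSectionVars false

namespace Groth.Agent.Lib.Helper18.Apx

open Function MvPolynomial Groth.Agent.Lib.Helper18.Fl TensorProduct CategoryTheory Limits

universe u

noncomputable def quotEquivTensor {R S : Type*} [CommRing R] [CommRing S] [Algebra R S]
    {ι σ : Type*} (P : Algebra.Presentation R S ι σ) (T : Type*) [CommRing T] [Algebra R T] :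
    (MvPolynomial ι T ⧸ Ideal.span
      (Set.range fun t => MvPolynomial.map (algebraMap R T) (P.relation t))) ≃ₐ[T] T ⊗[R] S :=
  (Ideal.quotientEquivAlgOfEq T (by
    rw [← (P.baseChange T).span_range_relation_eq_ker]; rfl)).trans
    ((P.baseChange T).quotientEquiv.restrictScalars T)

theorem exists_common_model
    {A A₁ B₁ A₂ B₂ : Type u} [CommRing A] [CommRing A₁] [CommRing B₁] [CommRing A₂] [CommRing B₂]
    [Algebra A₁ A] [Algebra A₁ B₁] [Algebra A₂ A] [Algebra A₂ B₂]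
    (h₁ : Algebra.FiniteType ℤ A₁) (h₂ : Algebra.FiniteType ℤ A₂)
    [Algebra.FinitePresentation A₁ B₁] [Algebra.FinitePresentation A₂ B₂]
    (e : A ⊗[A₁] B₁ ≃ₐ[A] A ⊗[A₂] B₂) :
    ∃ (Λ : Subalgebra ℤ A) (φ₁ : A₁ →+* Λ) (φ₂ : A₂ →+* Λ), Λ.FG ∧
      (inc Λ).comp φ₁ = algebraMap A₁ A ∧ (inc Λ).comp φ₂ = algebraMap A₂ A ∧
      ∃ (C : Type u) (_ : CommRing C) (ψ₀ : Λ →+* C) (ψ₁ : B₁ →+* C) (ψ₂ : B₂ →+* C),
        IsPushout (CommRingCat.ofHom (algebraMap A₁ B₁)) (CommRingCat.ofHom φ₁)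
          (CommRingCat.ofHom ψ₁) (CommRingCat.ofHom ψ₀) ∧
        IsPushout (CommRingCat.ofHom (algebraMap A₂ B₂)) (CommRingCat.ofHom φ₂)
          (CommRingCat.ofHom ψ₂) (CommRingCat.ofHom ψ₀) := by
  classical
  let P₁ := Algebra.Presentation.ofFinitePresentation A₁ B₁
  let P₂ := Algebra.Presentation.ofFinitePresentation A₂ B₂
  let k₁ : A₁ →ₐ[ℤ] A := (algebraMap A₁ A).toIntAlgHom
  let k₂ : A₂ →ₐ[ℤ] A := (algebraMap A₂ A).toIntAlgHom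
  let Λ₀ : Subalgebra ℤ A := k₁.range ⊔ k₂.range
  have hΛ₀ : Λ₀.FG := by
    refine Subalgebra.FG.sup ?_ ?_
    · rw [← Algebra.map_top]; exact h₁.out.map _
    · rw [← Algebra.map_top]; exact h₂.out.map _
  let φ₁₀ : A₁ →+* Λ₀ :=
    (k₁.codRestrict Λ₀ fun x => (le_sup_left : k₁.range ≤ Λ₀) (k₁.mem_range_self x)).toRingHom
  let φ₂₀ : A₂ →+* Λ₀ :=
    (k₂.codRestrict Λ₀ fun x => (le_sup_right : k₂.range ≤ Λ₀) (k₂.mem_range_self x)).toRingHom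
  have hφ₁₀ : (inc Λ₀).comp φ₁₀ = algebraMap A₁ A := RingHom.ext fun x => rfl
  have hφ₂₀ : (inc Λ₀).comp φ₂₀ = algebraMap A₂ A := RingHom.ext fun x => rfl
  let r₀ := fun t => MvPolynomial.map φ₁₀ (P₁.relation t)
  let s₀ := fun q => MvPolynomial.map φ₂₀ (P₂.relation q)
  have key₁ : (fun t => MvPolynomial.map (inc Λ₀) (r₀ t)) =
      fun t => MvPolynomial.map (algebraMap A₁ A) (P₁.relation t) := by
    funext t
    simp only [r₀, MvPolynomial.map_map, hφ₁₀]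
  have key₂ : (fun q => MvPolynomial.map (inc Λ₀) (s₀ q)) =
      fun q => MvPolynomial.map (algebraMap A₂ A) (P₂.relation q) := by
    funext q
    simp only [s₀, MvPolynomial.map_map, hφ₂₀]
  let e' : (MvPolynomial _ A ⧸ Ideal.span (Set.range fun t => MvPolynomial.map (inc Λ₀) (r₀ t)))
      ≃ₐ[A] (MvPolynomial _ A ⧸
        Ideal.span (Set.range fun q => MvPolynomial.map (inc Λ₀) (s₀ q))) :=
    (Ideal.quotientEquivAlgOfEq A (by rw [key₁])).trans ((quotEquivTensor P₁ A).trans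
      (e.trans ((quotEquivTensor P₂ A).symm.trans (Ideal.quotientEquivAlgOfEq A (by rw [key₂])))))
  obtain ⟨Λ, h0, hΛ, ⟨eΛ⟩⟩ := exists_algEquiv_over_fg Λ₀ hΛ₀ r₀ s₀ e'
  let φ₁ : A₁ →+* Λ := (incl h0).comp φ₁₀
  let φ₂ : A₂ →+* Λ := (incl h0).comp φ₂₀
  letI alg₁ : Algebra A₁ Λ := φ₁.toAlgebra
  letI alg₂ : Algebra A₂ Λ := φ₂.toAlgebra
  have key₁' : (fun t => MvPolynomial.map (incl h0) (r₀ t)) =
      fun t => MvPolynomial.map (algebraMap A₁ Λ) (P₁.relation t) := by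
    funext t
    simp only [r₀, MvPolynomial.map_map]
    rfl
  have key₂' : (fun q => MvPolynomial.map (incl h0) (s₀ q)) =
      fun q => MvPolynomial.map (algebraMap A₂ Λ) (P₂.relation q) := by
    funext q
    simp only [s₀, MvPolynomial.map_map]
    rfl
  let eT : Λ ⊗[A₁] B₁ ≃ₐ[Λ] Λ ⊗[A₂] B₂ :=
    (quotEquivTensor P₁ Λ).symm.trans ((Ideal.quotientEquivAlgOfEq Λ (by rw [key₁'])).symm.trans
      (eΛ.trans ((Ideal.quotientEquivAlgOfEq Λ (by rw [key₂'])).trans (quotEquivTensor P₂ Λ))))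
  refine ⟨Λ, φ₁, φ₂, hΛ, RingHom.ext fun x => rfl, RingHom.ext fun x => rfl,
    Λ ⊗[A₁] B₁, inferInstance, Algebra.TensorProduct.includeLeftRingHom,
    (Algebra.TensorProduct.includeRight (R := A₁) (A := Λ) (B := B₁)).toRingHom,
    (eT.symm : _ →+* _).comp
      (Algebra.TensorProduct.includeRight (R := A₂) (A := Λ) (B := B₂)).toRingHom, ?_, ?_⟩
  · exact (CommRingCat.isPushout_tensorProduct A₁ Λ B₁).flip
  · refine ((CommRingCat.isPushout_tensorProduct A₂ Λ B₂).flip).of_iso (Iso.refl _) (Iso.refl _)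
      (Iso.refl _) eT.symm.toRingEquiv.toCommRingCatIso ?_ ?_ ?_ ?_
    · simp
    · simp
    · ext x
      simp
    · ext x
      simp only [Iso.refl_hom, CommRingCat.hom_comp, CommRingCat.hom_ofHom, RingHom.coe_comp,
        Function.comp_apply, Category.id_comp]
      exact eT.symm.commutes x

theorem exists_common_model_cat {A A₁ B₁ A₂ B₂ B : CommRingCat.{u}}
    (a₁ : A₁ ⟶ B₁) (g₁ : A₁ ⟶ A) (g₁' : B₁ ⟶ B) (a₂ : A₂ ⟶ B₂) (g₂ : A₂ ⟶ A) (g₂' : B₂ ⟶ B)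
    (f : A ⟶ B) (hp₁ : IsPushout a₁ g₁ g₁' f) (hp₂ : IsPushout a₂ g₂ g₂' f)
    (h₁ : Algebra.FiniteType ℤ A₁) (h₂ : Algebra.FiniteType ℤ A₂)
    (ha₁ : a₁.hom.FiniteType) (ha₂ : a₂.hom.FiniteType) :
    ∃ (Λ : Subalgebra ℤ A) (φ₁ : A₁ ⟶ CommRingCat.of Λ) (φ₂ : A₂ ⟶ CommRingCat.of Λ), Λ.FG ∧
      φ₁ ≫ CommRingCat.ofHom (inc Λ) = g₁ ∧ φ₂ ≫ CommRingCat.ofHom (inc Λ) = g₂ ∧
      ∃ (C : CommRingCat.{u}) (ψ₀ : CommRingCat.of Λ ⟶ C) (ψ₁ : B₁ ⟶ C) (ψ₂ : B₂ ⟶ C),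
        IsPushout a₁ φ₁ ψ₁ ψ₀ ∧ IsPushout a₂ φ₂ ψ₂ ψ₀ := by
  algebraize [a₁.hom, g₁.hom, a₂.hom, g₂.hom]
  haveI : IsNoetherianRing A₁ := Algebra.FiniteType.isNoetherianRing ℤ A₁
  haveI : IsNoetherianRing A₂ := Algebra.FiniteType.isNoetherianRing ℤ A₂
  haveI : Algebra.FinitePresentation A₁ B₁ := Algebra.FinitePresentation.of_finiteType.mp inferInstance
  haveI : Algebra.FinitePresentation A₂ B₂ := Algebra.FinitePresentation.of_finiteType.mp inferInstance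
  have t₁ := CommRingCat.isPushout_tensorProduct A₁ A B₁
  have t₂ := CommRingCat.isPushout_tensorProduct A₂ A B₂
  let i₁ := t₁.isoIsPushout _ _ hp₁.flip
  let i₂ := t₂.isoIsPushout _ _ hp₂.flip
  have hi₁ : ∀ x : A, i₁.hom (x ⊗ₜ 1) = f x := fun x =>
    congrArg (fun k : A ⟶ B => k x) (t₁.inl_isoIsPushout_hom _ _ hp₁.flip)
  have hi₂ : ∀ x : A, i₂.hom (x ⊗ₜ 1) = f x := fun x =>
    congrArg (fun k : A ⟶ B => k x) (t₂.inl_isoIsPushout_hom _ _ hp₂.flip)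
  let e₀ : (A ⊗[A₁] B₁) ≃+* (A ⊗[A₂] B₂) := (i₁ ≪≫ i₂.symm).commRingCatIsoToRingEquiv
  let e : (A ⊗[A₁] B₁) ≃ₐ[A] (A ⊗[A₂] B₂) := AlgEquiv.ofRingEquiv (f := e₀) (by
    intro x
    change i₂.inv (i₁.hom (x ⊗ₜ 1)) = x ⊗ₜ 1
    rw [hi₁, ← hi₂]
    exact congrArg (fun k : CommRingCat.of (A ⊗[A₂] B₂) ⟶ _ => k (x ⊗ₜ 1)) i₂.hom_inv_id)
  obtain ⟨Λ, φ₁, φ₂, hΛ, hφ₁, hφ₂, C, _, ψ₀, ψ₁, ψ₂, hq₁, hq₂⟩ :=
    exists_common_model (A := A) (A₁ := A₁) (B₁ := B₁) (A₂ := A₂) (B₂ := B₂) h₁ h₂ e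
  refine ⟨Λ, CommRingCat.ofHom φ₁, CommRingCat.ofHom φ₂, hΛ, ?_, ?_, CommRingCat.of C,
    CommRingCat.ofHom ψ₀, CommRingCat.ofHom ψ₁, CommRingCat.ofHom ψ₂, hq₁, hq₂⟩
  · ext x
    exact congrArg (fun k : A₁ →+* A => k x) hφ₁
  · ext x
    exact congrArg (fun k : A₂ →+* A => k x) hφ₂

end Groth.Agent.Lib.Helper18.Apx
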