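import Mathlib
import Groth.Prelude.Def_Bivar
import Groth.Agent.Lib.Helper18.KF21
import Groth.Agent.Lib.Helper18.SetupLft

set_option autoImplicit false
set_option linter.style.haveILetI false
set_option linter.unusedSectionVars false

/-! Bivariant classes, part 1: `c₁(L) ∩ -` as the Gysin map of the zero section. -/

universe u
open CategoryTheory AlgebraicGeometry TopologicalSpace

namespace Groth.Agent.Lib.Helper18.BV1

open Groth.Agent.Lib.Helper18.InvStalk Groth.Agent.Lib.Helper29.QCoh

variable {X : Scheme.{u}} {L : X.Modules}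

/-- an invertible module has a nowhere zero family of rational sections -/
theorem exists_nonzero_sections (hL : PicF.IsInvertible L) :
    ∃ w : (ξ : X) → Cyc.secFibre L ξ, ∀ ξ, w ξ ≠ 0 := by
  choose t ht using fun ξ : X => exists_generator hL ξ
  refine ⟨fun ξ => Submodule.Quotient.mk (t ξ), fun ξ h0 => ?_⟩
  have h1 : (1 : X.presheaf.stalk ξ) • (Submodule.Quotient.mk (t ξ) : Cyc.secFibre L ξ) = 0 := by
    rw [one_smul]; exact h0
  have := mem_of_smul_mk_eq_zero (IsLocalRing.maximalIdeal (X.presheaf.stalk ξ)) (t ξ) (ht ξ)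
    (free_of_generator hL ξ (t ξ) (ht ξ)) 1 h1
  exact (IsLocalRing.maximalIdeal.isMaximal _).ne_top ((Ideal.eq_top_iff_one _).mpr this)

/-- the identity is the zero scheme of the zero section -/
theorem isZeroSchemeOf_id_zero (hL : PicF.IsInvertible L) :
    Cyc.IsZeroSchemeOf (𝟙 X) L (0 : L.presheaf.obj (Opposite.op ⊤)) := by
  refine ⟨?_, ?_⟩
  · ext x
    simp only [Set.mem_range, Set.mem_setOf_eq]
    constructor
    · intro _
      rw [map_zero]
      rfl
    · intro _
      exact ⟨x, rfl⟩
  · intro d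
    obtain ⟨t, ht⟩ := exists_generator hL ((𝟙 X : X ⟶ X) d)
    refine ⟨t, 0, ht, ?_, ?_⟩
    · rw [map_zero, zero_smul]
    · have h1 : (𝟙 X : X ⟶ X).stalkMap d = 𝟙 _ := Scheme.Hom.stalkMap_id X d
      rw [h1]
      ext a
      rw [RingHom.mem_ker, Ideal.span_singleton_eq_bot.mpr rfl, Ideal.mem_bot]
      rfl

theorem gysinChoice_zero (w : (ξ : X) → Cyc.secFibre L ξ) :
    Cyc.gysinChoice L (0 : L.presheaf.obj (Opposite.op ⊤)) w = w := by
  funext ξ
  unfold Cyc.gysinChoice
  rw [if_neg]
  rw [map_zero]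
  exact fun h => h rfl

end Groth.Agent.Lib.Helper18.BV1
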