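import Mathlib
import Groth.Agent.Lib.Helper18.BV1
import Groth.Agent.Lib.Helper18.C1Add1

set_option autoImplicit false
set_option linter.style.haveILetI false
set_option linter.unusedSectionVars false

/-! Bivariant classes, part 2: `c₁(L) ∩ -` only depends on the isomorphism class of `L`. -/

universe u
open CategoryTheory AlgebraicGeometry TopologicalSpace

namespace Groth.Agent.Lib.Helper18.BV2

open Groth.Agent.Lib.Helper18.InvStalk Groth.Agent.Lib.Helper29.QCoh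
  Groth.Agent.Lib.Helper18.C1Add

variable {X : Scheme.{u}} {L₁ L₂ : X.Modules}

theorem stalkMap_stalkSpecializes (φ : L₁ ⟶ L₂) {x ξ : X} (h : ξ ⤳ x) (t : L₁.presheaf.stalk x) :
    stalkMap φ ξ (L₁.presheaf.stalkSpecializes h t) =
      L₂.presheaf.stalkSpecializes h (stalkMap φ x t) := by
  obtain ⟨U, hxU, m, rfl⟩ := L₁.presheaf.exists_germ_eq t
  have hξU : ξ ∈ U := h.mem_open U.2 hxU
  rw [stalkMap_germ, TopCat.Presheaf.germ_stalkSpecializes_apply,
    TopCat.Presheaf.germ_stalkSpecializes_apply, stalkMap_germ]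

variable (e : L₁ ≅ L₂)

theorem stalkMap_bijective (x : X) : Function.Bijective (stalkMap e.hom x) :=
  (isIso_iff_stalkMap_bijective e.hom).1 inferInstance x

theorem span_stalkMap_eq_top (x : X) (t : L₁.presheaf.stalk x)
    (ht : Submodule.span (X.presheaf.stalk x) {t} = ⊤) :
    Submodule.span (X.presheaf.stalk x) {stalkMap e.hom x t} = ⊤ := by
  rw [eq_top_iff]
  intro n _
  obtain ⟨m, rfl⟩ := (stalkMap_bijective e x).2 n
  have : m ∈ Submodule.span (X.presheaf.stalk x) {t} := by rw [ht]; trivial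
  obtain ⟨r, rfl⟩ := Submodule.mem_span_singleton.mp this
  rw [stalkMap_smul]
  exact Submodule.smul_mem _ _ (Submodule.mem_span_singleton_self _)

/-- the induced map on the fibres `L(ξ)` -/
noncomputable def fibreMap (ξ : X) :
    Cyc.secFibre L₁ ξ →ₗ[X.presheaf.stalk ξ] Cyc.secFibre L₂ ξ :=
  Submodule.mapQ _ _ (stalkMapₗ e.hom ξ) (by
    rw [Submodule.smul_le]
    intro r hr n _
    rw [Submodule.mem_comap, map_smul]
    exact Submodule.smul_mem_smul hr trivial)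

theorem fibreMap_mk (ξ : X) (t : L₁.presheaf.stalk ξ) :
    fibreMap e ξ (Submodule.Quotient.mk t) = Submodule.Quotient.mk (stalkMap e.hom ξ t) := rfl

theorem fibreMap_ne_zero (hL₁ : PicF.IsInvertible L₁) (hL₂ : PicF.IsInvertible L₂) (ξ : X)
    (s : Cyc.secFibre L₁ ξ) (hs : s ≠ 0) : fibreMap e ξ s ≠ 0 := by
  obtain ⟨g, hg⟩ := exists_generator hL₁ ξ
  obtain ⟨ψ, rfl⟩ := exists_smul_mk_eq (IsLocalRing.maximalIdeal (X.presheaf.stalk ξ)) g hg s
  intro h0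
  rw [map_smul, fibreMap_mk] at h0
  have hg₂ := span_stalkMap_eq_top e ξ g hg
  have hmem := mem_of_smul_mk_eq_zero (IsLocalRing.maximalIdeal (X.presheaf.stalk ξ)) _ hg₂
    (free_of_generator hL₂ ξ _ hg₂) ψ h0
  apply hs
  rw [← Submodule.Quotient.mk_smul, Submodule.Quotient.mk_eq_zero]
  exact Submodule.smul_mem_smul hmem trivial

set_option maxHeartbeats 800000 in
theorem secOrdAt_iso (δ : X → ℤ) (hX : Cyc.IsSetup X δ) (hL₁ : PicF.IsInvertible L₁)
    (hL₂ : PicF.IsInvertible L₂) (x ξ : X) (h : ξ ⤳ x) (h1 : δ x + 1 = δ ξ)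
    (s : Cyc.secFibre L₁ ξ) (hs : s ≠ 0) :
    Cyc.secOrdAt L₂ ξ x h (fibreMap e ξ s) = Cyc.secOrdAt L₁ ξ x h s := by
  obtain ⟨t, ht⟩ := exists_generator hL₁ x
  have hg := span_stalkSpecializes_eq_top hL₁ h t ht
  obtain ⟨ψ, hψ⟩ := exists_smul_mk_eq (IsLocalRing.maximalIdeal (X.presheaf.stalk ξ)) _ hg s
  have k1 := (secOrdAt_eq_of_generators δ hX hL₁ x ξ h h1 t ht _ 1 (one_smul _ _).symm s hs ψ hψ).1
  have ht₂ := span_stalkMap_eq_top e x t ht
  have hψ₂ : fibreMap e ξ s = ψ • (Submodule.Quotient.mk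
      (stalkMap e.hom ξ (L₁.presheaf.stalkSpecializes h t)) : Cyc.secFibre L₂ ξ) := by
    rw [hψ, map_smul, fibreMap_mk]
  have k2 := (secOrdAt_eq_of_generators δ hX hL₂ x ξ h h1 _ ht₂ _ 1
    (by rw [one_smul, stalkMap_stalkSpecializes]) (fibreMap e ξ s)
    (fibreMap_ne_zero e hL₁ hL₂ ξ s hs) ψ hψ₂).1
  rw [k1, k2]

theorem c1CapFun_iso (δ : X → ℤ) (hX : Cyc.IsSetup X δ) (hL₁ : PicF.IsInvertible L₁)
    (hL₂ : PicF.IsInvertible L₂) (α : X → ℤ) (v : (ξ : X) → Cyc.secFibre L₁ ξ)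
    (hv : ∀ ξ, v ξ ≠ 0) :
    Cyc.c1CapFun δ L₂ α (fun ξ => fibreMap e ξ (v ξ)) = Cyc.c1CapFun δ L₁ α v := by
  funext x
  unfold Cyc.c1CapFun
  apply finsum_congr
  intro ξ
  congr 1
  unfold Cyc.secDivFun
  by_cases hc : ξ ⤳ x ∧ δ x + 1 = δ ξ
  · rw [dif_pos hc, dif_pos hc]
    exact secOrdAt_iso e δ hX hL₁ hL₂ x ξ hc.1 hc.2 (v ξ) (hv ξ)
  · rw [dif_neg hc, dif_neg hc]

end Groth.Agent.Lib.Helper18.BV2
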