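import Mathlib
import Groth.Prelude.Def_KZero
import Groth.Agent.Lib.Helper18.AD2

/-! # Abstract resolution theorem for `K₀` (helper18)

`A` abelian, `P ⊆ Q` object properties such that `P` is closed under extensions, every `Q`-object is
a quotient of a `P`-object, and kernels of epimorphisms from `P`-objects onto `Q`-objects are in `P`.
Then `K0sub P → K0sub Q` is bijective.  Chain version for an increasing union. -/

set_option autoImplicit false
universe v u

open CategoryTheory CategoryTheory.Limits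

namespace Groth.Agent.Lib.Helper18.RS1

open Groth.Agent.Lib.Helper18

variable {A : Type u} [Category.{v} A] [Abelian A]

section PB

variable {K' E' M E : A} (i' : K' ⟶ E') (p' : E' ⟶ M) (w' : i' ≫ p' = 0)
  (hS' : (ShortComplex.mk i' p' w').ShortExact) (p : E ⟶ M)

/-- `K' ⟶ E ×_M E'` -/
noncomputable def toPb : K' ⟶ pullback p p' := pullback.lift 0 i' (by rw [zero_comp, w'])

@[reassoc]
theorem toPb_fst : toPb i' p' w' p ≫ pullback.fst p p' = 0 := pullback.lift_fst _ _ _

@[reassoc]
theorem toPb_snd : toPb i' p' w' p ≫ pullback.snd p p' = i' := pullback.lift_snd _ _ _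

include hS' in
theorem shortExact_pb :
    (ShortComplex.mk (toPb i' p' w' p) (pullback.fst p p') (toPb_fst i' p' w' p)).ShortExact := by
  haveI : Mono i' := hS'.mono_f
  haveI : Epi p' := hS'.epi_g
  haveI : Mono (toPb i' p' w' p) := by
    haveI : Mono (toPb i' p' w' p ≫ pullback.snd p p') := by rw [toPb_snd]; infer_instance
    exact mono_of_mono _ (pullback.snd p p')
  haveI : Epi (pullback.fst p p') := inferInstance
  refine ShortComplex.ShortExact.mk (ShortComplex.exact_of_f_is_kernel _ ?_)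
  have key : ∀ {W : A} (k : W ⟶ pullback p p'), k ≫ pullback.fst p p' = 0 →
      (k ≫ pullback.snd p p') ≫ p' = 0 := by
    intro W k hk
    rw [Category.assoc, ← pullback.condition, ← Category.assoc, hk, zero_comp]
  refine KernelFork.IsLimit.ofι _ _
    (fun {W} k hk => hS'.exact.lift (k ≫ pullback.snd p p') (key k hk)) ?_ ?_
  · intro W k hk
    apply pullback.hom_ext
    · rw [Category.assoc, toPb_fst, comp_zero]
      exact hk.symm
    · rw [Category.assoc, toPb_snd]
      exact hS'.exact.lift_f _ _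
  · intro W k hk m hm
    rw [← cancel_mono (toPb i' p' w' p), hm]
    apply pullback.hom_ext
    · rw [Category.assoc, toPb_fst, comp_zero]
      exact hk
    · rw [Category.assoc, toPb_snd]
      exact (hS'.exact.lift_f _ _).symm

end PB

section PB'

variable {K E M E' : A} (i : K ⟶ E) (p : E ⟶ M) (w : i ≫ p = 0)
  (hS : (ShortComplex.mk i p w).ShortExact) (p' : E' ⟶ M)

/-- `K ⟶ E ×_M E'` -/
noncomputable def toPb' : K ⟶ pullback p p' := pullback.lift i 0 (by rw [zero_comp, w])

@[reassoc]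
theorem toPb'_fst : toPb' i p w p' ≫ pullback.fst p p' = i := pullback.lift_fst _ _ _

@[reassoc]
theorem toPb'_snd : toPb' i p w p' ≫ pullback.snd p p' = 0 := pullback.lift_snd _ _ _

include hS in
theorem shortExact_pb' :
    (ShortComplex.mk (toPb' i p w p') (pullback.snd p p') (toPb'_snd i p w p')).ShortExact := by
  haveI : Mono i := hS.mono_f
  haveI : Epi p := hS.epi_g
  haveI : Mono (toPb' i p w p') := by
    haveI : Mono (toPb' i p w p' ≫ pullback.fst p p') := by rw [toPb'_fst]; infer_instance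
    exact mono_of_mono _ (pullback.fst p p')
  haveI : Epi (pullback.snd p p') := inferInstance
  refine ShortComplex.ShortExact.mk (ShortComplex.exact_of_f_is_kernel _ ?_)
  have key : ∀ {W : A} (k : W ⟶ pullback p p'), k ≫ pullback.snd p p' = 0 →
      (k ≫ pullback.fst p p') ≫ p = 0 := by
    intro W k hk
    rw [Category.assoc, pullback.condition, ← Category.assoc, hk, zero_comp]
  refine KernelFork.IsLimit.ofι _ _
    (fun {W} k hk => hS.exact.lift (k ≫ pullback.fst p p') (key k hk)) ?_ ?_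
  · intro W k hk
    apply pullback.hom_ext
    · rw [Category.assoc, toPb'_fst]
      exact hS.exact.lift_f _ _
    · rw [Category.assoc, toPb'_snd, comp_zero]
      exact hk.symm
  · intro W k hk m hm
    rw [← cancel_mono (toPb' i p w p'), hm]
    apply pullback.hom_ext
    · rw [Category.assoc, toPb'_fst]
      exact (hS.exact.lift_f _ _).symm
    · rw [Category.assoc, toPb'_snd, comp_zero]
      exact hk

end PB'

section KER

variable {M' M M'' E : A} (f : M' ⟶ M) (g : M ⟶ M'') (w : f ≫ g = 0)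
  (hS : (ShortComplex.mk f g w).ShortExact) (p : E ⟶ M) [Epi p]

include w in
theorem snd_comp_zero : pullback.snd f p ≫ p ≫ g = 0 := by
  rw [← pullback.condition_assoc, w, comp_zero]

include hS in
theorem shortExact_ker :
    (ShortComplex.mk (pullback.snd f p) (p ≫ g) (snd_comp_zero f g w p)).ShortExact := by
  haveI : Mono f := hS.mono_f
  haveI : Epi g := hS.epi_g
  haveI : Mono (pullback.snd f p) := inferInstance
  haveI : Epi (p ≫ g) := epi_comp p g
  refine ShortComplex.ShortExact.mk (ShortComplex.exact_of_f_is_kernel _ ?_)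
  have key : ∀ {W : A} (k : W ⟶ E), k ≫ p ≫ g = 0 → (k ≫ p) ≫ g = 0 := by
    intro W k hk
    rw [Category.assoc, hk]
  refine KernelFork.IsLimit.ofι _ _
    (fun {W} k hk => pullback.lift (hS.exact.lift (k ≫ p) (key k hk)) k
      (hS.exact.lift_f _ _)) ?_ ?_
  · intro W k hk
    exact pullback.lift_snd _ _ _
  · intro W k hk m hm
    rw [← cancel_mono (pullback.snd f p), hm, pullback.lift_snd]

end KER

/-- hypotheses of the one-step resolution theorem -/
structure ResHyp (P Q : ObjectProperty A) : Prop where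
  le : ∀ M, P M → Q M
  P_zero : ∀ M : A, IsZero M → P M
  P_ext : ∀ (S : ShortComplex A), S.ShortExact → P S.X₁ → P S.X₃ → P S.X₂
  ker : ∀ (S : ShortComplex A), S.ShortExact → P S.X₂ → Q S.X₃ → P S.X₁
  cover : ∀ M, Q M → ∃ (E : A) (p : E ⟶ M), P E ∧ Epi p

variable {P Q : ObjectProperty A}

theorem val_indep (H : ResHyp P Q) {M K E K' E' : A} (hM : Q M)
    (i : K ⟶ E) (p : E ⟶ M) (w : i ≫ p = 0) (hS : (ShortComplex.mk i p w).ShortExact) (hE : P E)
    (i' : K' ⟶ E') (p' : E' ⟶ M) (w' : i' ≫ p' = 0)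
    (hS' : (ShortComplex.mk i' p' w').ShortExact) (hE' : P E') :
    KZero.clSub P E - KZero.clSub P K = KZero.clSub P E' - KZero.clSub P K' := by
  have hK : P K := H.ker _ hS hE hM
  have hK' : P K' := H.ker _ hS' hE' hM
  have h1 := shortExact_pb i' p' w' hS' p
  have h2 := shortExact_pb' i p w hS p'
  have hW : P (pullback p p') := H.P_ext _ h1 hK' hE
  have e1 := AD2.clSub_add P _ h1 hK' hW hE
  have e2 := AD2.clSub_add P _ h2 hK hW hE'
  simp only at e1 e2
  have e3 : KZero.clSub P K' + KZero.clSub P E = KZero.clSub P K + KZero.clSub P E' :=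
    e1.symm.trans e2
  rw [sub_eq_sub_iff_add_eq_add, add_comm, e3, add_comm]

theorem shortExact_kernel {E M : A} (p : E ⟶ M) [Epi p] :
    (ShortComplex.mk (kernel.ι p) p (kernel.condition p)).ShortExact :=
  ShortComplex.ShortExact.mk (ShortComplex.exact_kernel p)

/-- **abstract resolution theorem, one step** -/
theorem bijective_incl_step (H : ResHyp P Q) : Function.Bijective (AD2.incl P Q H.le) := by
  classical
  let E₀ : Subtype Q → A := fun x => (H.cover x.1 x.2).choose
  let p₀ : ∀ x : Subtype Q, E₀ x ⟶ x.1 := fun x => (H.cover x.1 x.2).choose_spec.choose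
  have hE₀ : ∀ x : Subtype Q, P (E₀ x) := fun x => (H.cover x.1 x.2).choose_spec.choose_spec.1
  have hp₀ : ∀ x : Subtype Q, Epi (p₀ x) := fun x => (H.cover x.1 x.2).choose_spec.choose_spec.2
  let val : Subtype Q → KZero.K0sub P := fun x =>
    KZero.clSub P (E₀ x) - KZero.clSub P (kernel (p₀ x))
  have hval : ∀ (x : Subtype Q) {K E : A} (i : K ⟶ E) (p : E ⟶ x.1) (w : i ≫ p = 0)
      (_ : (ShortComplex.mk i p w).ShortExact) (_ : P E),
      val x = KZero.clSub P E - KZero.clSub P K := by
    intro x K E i p w hS hE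
    haveI := hp₀ x
    exact val_indep H x.2 _ _ _ (shortExact_kernel (p₀ x)) (hE₀ x) i p w hS hE
  have hker : KZero.relSub Q ≤ (FreeAbelianGroup.lift val).ker := by
    rw [KZero.relSub, AddSubgroup.closure_le]
    rintro x ⟨S, h₁, h₂, h₃, hS, rfl⟩
    change FreeAbelianGroup.lift val _ = 0
    rw [map_sub, map_sub, FreeAbelianGroup.lift_apply_of, FreeAbelianGroup.lift_apply_of,
      FreeAbelianGroup.lift_apply_of]
    haveI := hp₀ ⟨S.X₂, h₂⟩
    set E := E₀ ⟨S.X₂, h₂⟩ with hEdef
    set p : E ⟶ S.X₂ := p₀ ⟨S.X₂, h₂⟩ with hpdef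
    have hE : P E := hE₀ ⟨S.X₂, h₂⟩
    have hSa := shortExact_kernel p
    have hSb := shortExact_ker S.f S.g S.zero hS p
    have hSc := shortExact_pb (kernel.ι p) p (kernel.condition p) hSa S.f
    have hK'' : P (pullback S.f p) := H.ker _ hSb hE h₃
    have e2 := hval ⟨S.X₂, h₂⟩ _ _ _ hSa hE
    have e3 := hval ⟨S.X₃, h₃⟩ _ _ _ hSb hE
    have e1 := hval ⟨S.X₁, h₁⟩ _ _ _ hSc hK''
    rw [e1, e2, e3]
    abel
  let psi : KZero.K0sub Q →+ KZero.K0sub P :=
    QuotientAddGroup.lift (KZero.relSub Q) (FreeAbelianGroup.lift val) hker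
  have hpsi : ∀ (M : A) (hM : Q M), psi (KZero.clSub Q M) = val ⟨M, hM⟩ := by
    intro M hM
    rw [AD2.clSub_of Q hM]
    change FreeAbelianGroup.lift val _ = _
    rw [FreeAbelianGroup.lift_apply_of]
  have h1 : ∀ x : KZero.K0sub P, psi (AD2.incl P Q H.le x) = x := by
    intro x
    induction x using AD2.K0sub_induction with
    | h0 => simp
    | hcl M hM =>
      rw [AD2.incl_clSub P Q H.le hM, hpsi M (H.le _ hM)]
      have hS := shortExact_kernel (𝟙 M)
      rw [hval ⟨M, H.le _ hM⟩ _ _ _ hS hM]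
      have hz : IsZero (kernel (𝟙 M)) := isZero_kernel_of_mono (𝟙 M)
      rw [AD2.clSub_of_isZero P hz (H.P_zero _ hz), sub_zero]
    | hneg x ih => rw [map_neg, map_neg, ih]
    | hadd x y ihx ihy => rw [map_add, map_add, ihx, ihy]
  have h2 : ∀ y : KZero.K0sub Q, AD2.incl P Q H.le (psi y) = y := by
    intro y
    induction y using AD2.K0sub_induction with
    | h0 => simp
    | hcl M hM =>
      rw [hpsi M hM]
      haveI := hp₀ ⟨M, hM⟩
      have hS := shortExact_kernel (p₀ ⟨M, hM⟩)
      have hK : P (kernel (p₀ ⟨M, hM⟩)) := H.ker _ hS (hE₀ ⟨M, hM⟩) hM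
      change AD2.incl P Q H.le (KZero.clSub P (E₀ ⟨M, hM⟩) - KZero.clSub P (kernel (p₀ ⟨M, hM⟩))) = _
      rw [map_sub, AD2.incl_clSub P Q H.le (hE₀ ⟨M, hM⟩), AD2.incl_clSub P Q H.le hK]
      have e := AD2.clSub_add Q _ hS (H.le _ hK) (H.le _ (hE₀ ⟨M, hM⟩)) hM
      simp only at e
      rw [e]
      abel
    | hneg x ih => rw [map_neg, map_neg, ih]
    | hadd x y ihx ihy => rw [map_add, map_add, ihx, ihy]
  exact ⟨Function.LeftInverse.injective h1, Function.RightInverse.surjective h2⟩

theorem incl_comp {P Q R : ObjectProperty A} (h1 : ∀ M, P M → Q M) (h2 : ∀ M, Q M → R M)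
    (x : KZero.K0sub P) :
    AD2.incl Q R h2 (AD2.incl P Q h1 x) = AD2.incl P R (fun M h => h2 M (h1 M h)) x := by
  induction x using AD2.K0sub_induction with
  | h0 => simp
  | hcl M hM =>
    rw [AD2.incl_clSub P Q h1 hM, AD2.incl_clSub Q R h2 (h1 M hM), AD2.incl_clSub P R _ hM]
  | hneg x ih => rw [map_neg, map_neg, map_neg, ih]
  | hadd x y ihx ihy => rw [map_add, map_add, map_add, ihx, ihy]

section Chain

variable (H : ℕ → ObjectProperty A) (hstep : ∀ n, ResHyp (H n) (H (n + 1)))

include hstep in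
theorem chain_mono {n m : ℕ} (hnm : n ≤ m) (M : A) (h : H n M) : H m M := by
  induction m, hnm using Nat.le_induction with
  | base => exact h
  | succ m _ ih => exact (hstep m).le M ih

include hstep in
theorem bijective_incl_chain_fin (n : ℕ) :
    Function.Bijective (AD2.incl (H 0) (H n) (fun M h => chain_mono H hstep (Nat.zero_le n) M h)) := by
  induction n with
  | zero =>
    have : ∀ x, AD2.incl (H 0) (H 0) (fun M h => chain_mono H hstep (Nat.zero_le 0) M h) x = x := by
      intro x
      induction x using AD2.K0sub_induction with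
      | h0 => simp
      | hcl M hM => rw [AD2.incl_clSub _ _ _ hM]
      | hneg x ih => rw [map_neg, ih]
      | hadd x y ihx ihy => rw [map_add, ihx, ihy]
    exact ⟨fun a b hab => by rw [← this a, ← this b]; exact hab, fun y => ⟨y, this y⟩⟩
  | succ n ih =>
    have hcomp : ∀ x, AD2.incl (H 0) (H (n + 1))
        (fun M h => chain_mono H hstep (Nat.zero_le (n + 1)) M h) x =
        AD2.incl (H n) (H (n + 1)) (hstep n).le
          (AD2.incl (H 0) (H n) (fun M h => chain_mono H hstep (Nat.zero_le n) M h) x) := by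
      intro x
      rw [incl_comp]
    have hb := (bijective_incl_step (hstep n)).comp ih
    refine ⟨fun a b hab => hb.1 ?_, fun y => ?_⟩
    · simp only [Function.comp_apply]
      rw [← hcomp a, ← hcomp b]
      exact hab
    · obtain ⟨x, hx⟩ := hb.2 y
      exact ⟨x, by rw [hcomp]; exact hx⟩

include hstep in
/-- **abstract resolution theorem, union of a chain** -/
theorem bijective_incl_chain (Q : ObjectProperty A) (hQ : ∀ M, Q M ↔ ∃ n, H n M) :
    Function.Bijective (AD2.incl (H 0) Q (fun M h => (hQ M).2 ⟨0, h⟩)) := by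
  classical
  have hle : ∀ n M, H n M → Q M := fun n M h => (hQ M).2 ⟨n, h⟩
  let ι : ∀ n, KZero.K0sub (H 0) →+ KZero.K0sub (H n) := fun n =>
    AD2.incl (H 0) (H n) (fun M h => chain_mono H hstep (Nat.zero_le n) M h)
  have hι : ∀ n, Function.Bijective (ι n) := fun n => bijective_incl_chain_fin H hstep n
  have hιcomp : ∀ {n m : ℕ} (hnm : n ≤ m) (x : KZero.K0sub (H 0)),
      AD2.incl (H n) (H m) (fun M h => chain_mono H hstep hnm M h) (ι n x) = ι m x := by
    intro n m hnm x
    exact incl_comp _ _ x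
  have hιQ : ∀ (n : ℕ) (x : KZero.K0sub (H 0)),
      AD2.incl (H n) Q (hle n) (ι n x) = AD2.incl (H 0) Q (fun M h => (hQ M).2 ⟨0, h⟩) x := by
    intro n x
    exact incl_comp _ _ x
  let idx : Subtype Q → ℕ := fun x => Nat.find ((hQ x.1).1 x.2)
  have hidx : ∀ x : Subtype Q, H (idx x) x.1 := fun x => Nat.find_spec ((hQ x.1).1 x.2)
  let val : Subtype Q → KZero.K0sub (H 0) := fun x =>
    (Equiv.ofBijective (ι (idx x)) (hι (idx x))).symm (KZero.clSub (H (idx x)) x.1)
  have hval0 : ∀ x : Subtype Q, ι (idx x) (val x) = KZero.clSub (H (idx x)) x.1 := fun x =>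
    (Equiv.ofBijective (ι (idx x)) (hι (idx x))).apply_symm_apply _
  have hval : ∀ (x : Subtype Q) (n : ℕ) (_ : H n x.1), ι n (val x) = KZero.clSub (H n) x.1 := by
    intro x n hn
    have hnm : idx x ≤ n := Nat.find_min' _ hn
    rw [← hιcomp hnm, hval0 x, AD2.incl_clSub _ _ _ (hidx x)]
  have hker : KZero.relSub Q ≤ (FreeAbelianGroup.lift val).ker := by
    rw [KZero.relSub, AddSubgroup.closure_le]
    rintro x ⟨S, h₁, h₂, h₃, hS, rfl⟩
    change FreeAbelianGroup.lift val _ = 0
    rw [map_sub, map_sub, FreeAbelianGroup.lift_apply_of, FreeAbelianGroup.lift_apply_of,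
      FreeAbelianGroup.lift_apply_of]
    obtain ⟨n₁, k₁⟩ := (hQ _).1 h₁
    obtain ⟨n₂, k₂⟩ := (hQ _).1 h₂
    obtain ⟨n₃, k₃⟩ := (hQ _).1 h₃
    let N := max n₁ (max n₂ n₃)
    have K₁ : H N S.X₁ := chain_mono H hstep (le_max_left _ _) _ k₁
    have K₂ : H N S.X₂ := chain_mono H hstep ((le_max_left _ _).trans (le_max_right _ _)) _ k₂
    have K₃ : H N S.X₃ := chain_mono H hstep ((le_max_right _ _).trans (le_max_right _ _)) _ k₃
    apply (hι N).1
    rw [map_sub, map_sub, map_zero, hval ⟨S.X₁, h₁⟩ N K₁, hval ⟨S.X₂, h₂⟩ N K₂,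
      hval ⟨S.X₃, h₃⟩ N K₃, AD2.clSub_add (H N) S hS K₁ K₂ K₃]
    abel
  let psi : KZero.K0sub Q →+ KZero.K0sub (H 0) :=
    QuotientAddGroup.lift (KZero.relSub Q) (FreeAbelianGroup.lift val) hker
  have hpsi : ∀ (M : A) (hM : Q M), psi (KZero.clSub Q M) = val ⟨M, hM⟩ := by
    intro M hM
    rw [AD2.clSub_of Q hM]
    change FreeAbelianGroup.lift val _ = _
    rw [FreeAbelianGroup.lift_apply_of]
  have h1 : ∀ x : KZero.K0sub (H 0),
      psi (AD2.incl (H 0) Q (fun M h => (hQ M).2 ⟨0, h⟩) x) = x := by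
    intro x
    induction x using AD2.K0sub_induction with
    | h0 => simp
    | hcl M hM =>
      rw [AD2.incl_clSub _ _ _ hM, hpsi M (hle 0 M hM)]
      apply (hι 0).1
      rw [hval ⟨M, hle 0 M hM⟩ 0 hM]
      exact (AD2.incl_clSub _ _ _ hM).symm
    | hneg x ih => rw [map_neg, map_neg, ih]
    | hadd x y ihx ihy => rw [map_add, map_add, ihx, ihy]
  have h2 : ∀ y : KZero.K0sub Q,
      AD2.incl (H 0) Q (fun M h => (hQ M).2 ⟨0, h⟩) (psi y) = y := by
    intro y
    induction y using AD2.K0sub_induction with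
    | h0 => simp
    | hcl M hM =>
      rw [hpsi M hM, ← hιQ (idx ⟨M, hM⟩), hval0 ⟨M, hM⟩, AD2.incl_clSub _ _ _ (hidx ⟨M, hM⟩)]
    | hneg x ih => rw [map_neg, map_neg, ih]
    | hadd x y ihx ihy => rw [map_add, map_add, ihx, ihy]
  exact ⟨Function.LeftInverse.injective h1, Function.RightInverse.surjective h2⟩

end Chain

end Groth.Agent.Lib.Helper18.RS1
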