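import Mathlib
import Groth.Prelude.Def_KRR
import Groth.Agent.Lib.Helper29.QCohAss2
import Groth.Agent.Lib.Helper29.QCohLocFree
import Groth.Agent.Lib.Helper29.RegDim1
import Groth.Agent.Lib.Helper9.RefStalk2
import Groth.Agent.Lib.Helper12.Dev12
import Groth.Agent.Lib.Helper2.DegAdd.RankTwo
import Groth.Agent.Lib.Helper18.RS1
import Groth.Agent.Lib.Helper18.SerreReg2

/-! # Pointwise projective dimension of coherent modules (helper18) -/

set_option autoImplicit false
set_option linter.style.haveILetI false
universe u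

open CategoryTheory CategoryTheory.Limits AlgebraicGeometry

namespace Groth.Agent.Lib.Helper18.RS2

open Groth.Agent.Lib.Helper29.QCoh Groth.Agent.Lib.Helper18

variable {X : Scheme.{u}}

/-- the stalk as an object of `ModuleCat` -/
noncomputable abbrev St (M : X.Modules) (x : X) : ModuleCat.{u} (X.presheaf.stalk x) :=
  ModuleCat.of (X.presheaf.stalk x) (M.presheaf.stalk x)

theorem stalk_comp_zero (S : ShortComplex X.Modules) (x : X) (t : S.X₁.presheaf.stalk x) :
    stalkMapₗ S.g x (stalkMapₗ S.f x t) = 0 := by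
  have h : (stalkFunctor X x).map S.f ≫ (stalkFunctor X x).map S.g = 0 := by
    rw [← Functor.map_comp, S.zero, Functor.map_zero]
  have h2 := ConcreteCategory.congr_hom h t
  rw [ConcreteCategory.comp_apply] at h2
  exact h2

/-- the short complex of stalks -/
noncomputable def stSC (S : ShortComplex X.Modules) (x : X) :
    ShortComplex (ModuleCat.{u} (X.presheaf.stalk x)) :=
  ShortComplex.mk (X₁ := St S.X₁ x) (X₂ := St S.X₂ x) (X₃ := St S.X₃ x)
    (ModuleCat.ofHom (stalkMapₗ S.f x)) (ModuleCat.ofHom (stalkMapₗ S.g x)) (by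
      ext t
      exact stalk_comp_zero S x t)

theorem stSC_shortExact (S : ShortComplex X.Modules) (hS : S.ShortExact) (x : X) :
    (stSC S x).ShortExact := by
  have := hS.mono_f
  have := hS.epi_g
  have hinj : Function.Injective (stalkMapₗ S.f x) :=
    (mono_iff_stalkMap_injective S.f).mp inferInstance x
  have hsurj : Function.Surjective (stalkMapₗ S.g x) :=
    (epi_iff_stalkMap_surjective S.g).mp inferInstance x
  have hex : Function.Exact (stalkMapₗ S.f x) (stalkMapₗ S.g x) :=
    (exact_iff_stalk_function_exact S).mp hS.exact x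
  haveI : Mono (stSC S x).f := (ModuleCat.mono_iff_injective _).2 hinj
  haveI : Epi (stSC S x).g := (ModuleCat.epi_iff_surjective _).2 hsurj
  exact ShortComplex.ShortExact.mk ((ShortComplex.ShortExact.moduleCat_exact_iff_function_exact _).2 hex)

/-- all stalks have projective dimension `< n` -/
def PdLT (M : X.Modules) (n : ℕ) : Prop := ∀ x : X, HasProjectiveDimensionLT (St M x) n

theorem PdLT.of_ge {M : X.Modules} {n m : ℕ} (h : PdLT M n) (hnm : n ≤ m) : PdLT M m :=
  fun x => haveI := h x; hasProjectiveDimensionLT_of_ge _ n m hnm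

theorem pdLT_of_isZero {M : X.Modules} (hM : IsZero M) (n : ℕ) : PdLT M n := by
  intro x
  have hs : Subsingleton (M.presheaf.stalk x) := (isZero_iff_stalk_subsingleton M).1 hM x
  have hz : IsZero (St M x) := ModuleCat.isZero_of_subsingleton _
  haveI := hz.hasProjectiveDimensionLT_zero
  exact hasProjectiveDimensionLT_of_ge _ 0 n (Nat.zero_le n)

theorem pdLT_X₂ (S : ShortComplex X.Modules) (hS : S.ShortExact) (n : ℕ) (h₁ : PdLT S.X₁ n)
    (h₃ : PdLT S.X₃ n) : PdLT S.X₂ n :=
  fun x => (stSC_shortExact S hS x).hasProjectiveDimensionLT_X₂ n (h₁ x) (h₃ x)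

theorem pdLT_X₁ (S : ShortComplex X.Modules) (hS : S.ShortExact) (n : ℕ) (h₂ : PdLT S.X₂ n)
    (h₃ : PdLT S.X₃ (n + 1)) : PdLT S.X₁ n :=
  fun x => (stSC_shortExact S hS x).hasProjectiveDimensionLT_X₁ n (h₂ x) (h₃ x)

theorem pdLT_X₃ (S : ShortComplex X.Modules) (hS : S.ShortExact) (n : ℕ) (h₁ : PdLT S.X₁ n)
    (h₂ : PdLT S.X₂ (n + 1)) : PdLT S.X₃ (n + 1) :=
  fun x => (stSC_shortExact S hS x).hasProjectiveDimensionLT_X₃ n (h₁ x) (h₂ x)

theorem pdLT_one_of_free_stalk (M : X.Modules) (x : X)
    [Module.Free (X.presheaf.stalk x) (M.presheaf.stalk x)] :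
    HasProjectiveDimensionLT (St M x) 1 := by
  have hp : Module.Projective (X.presheaf.stalk x) (M.presheaf.stalk x) := inferInstance
  have : Projective (St M x) := (IsProjective.iff_projective _).1 hp
  exact projective_iff_hasProjectiveDimensionLT_one.1 this

theorem pdLT_one_of_isFinLocFree {M : X.Modules} (h : FlatMod.IsFinLocFree M) : PdLT M 1 := by
  intro x
  have := free_stalk_of_isFinLocFree h x
  exact pdLT_one_of_free_stalk M x

theorem free_stalk_of_pdLT_one [IsLocallyNoetherian X] {M : X.Modules} (hM : Coh.IsCoh M) (x : X)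
    (h : HasProjectiveDimensionLT (St M x) 1) :
    Module.Free (X.presheaf.stalk x) (M.presheaf.stalk x) := by
  have hfp : M.IsFinitePresentation := isFinitePresentation_of_isCoh M hM
  have hproj : Projective (St M x) := projective_iff_hasProjectiveDimensionLT_one.2 h
  have hp : Module.Projective (X.presheaf.stalk x) (M.presheaf.stalk x) :=
    (IsProjective.iff_projective _).2 hproj
  have := finitePresentation_stalk M x
  exact Module.free_of_flat_of_isLocalRing

theorem isFinLocFree_of_pdLT_one [IsLocallyNoetherian X] {M : X.Modules} (hM : Coh.IsCoh M)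
    (h : PdLT M 1) : FlatMod.IsFinLocFree M := by
  rw [isFinLocFree_iff_free_stalks]
  exact ⟨isFinitePresentation_of_isCoh M hM, fun x => free_stalk_of_pdLT_one hM x (h x)⟩

/-- the free locus of a coherent module is open -/
theorem isOpen_pdLT_one [IsLocallyNoetherian X] {M : X.Modules} (hM : Coh.IsCoh M) :
    IsOpen {x : X | HasProjectiveDimensionLT (St M x) 1} := by
  have hfp : M.IsFinitePresentation := isFinitePresentation_of_isCoh M hM
  have hqc := hM.1
  rw [isOpen_iff_forall_mem_open]
  intro x hx
  have := free_stalk_of_pdLT_one hM x hx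
  obtain ⟨V, n, hV, hxV, ⟨e⟩⟩ := exists_affine_linearEquiv_of_free_stalk M x
  refine ⟨V, ?_, V.isOpen, hxV⟩
  intro y hy
  have : Module.Free Γ(X, V) Γ(M, V) := Module.Free.of_equiv e.symm
  have := free_stalk_of_free_sections M hV y hy
  exact pdLT_one_of_free_stalk M y

/-- openness of the locus where the projective dimension of the stalk is `≤ n` -/
theorem isOpen_pdLT [IsLocallyNoetherian X] (hX : KRR.HasEnoughLocFree X)
    (h : ∀ M : X.Modules, FlatMod.IsFinLocFree M → Coh.IsCoh M) (n : ℕ) :
    ∀ {M : X.Modules} (_ : Coh.IsCoh M),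
      IsOpen {x : X | HasProjectiveDimensionLT (St M x) (n + 1)} := by
  induction n with
  | zero => intro M hM; exact isOpen_pdLT_one hM
  | succ n ih =>
    intro M hM
    obtain ⟨E, p, hE, hp⟩ := hX M hM
    have hK : Coh.IsCoh (kernel p) := Groth.Agent.Lib.Helper12.H12Dev.isCoh_kernel p (h E hE) hM
    have hS := RS1.shortExact_kernel p
    have heq : {x : X | HasProjectiveDimensionLT (St M x) (n + 1 + 1)} =
        {x : X | HasProjectiveDimensionLT (St (kernel p) x) (n + 1)} := by
      ext x
      have hSx := stSC_shortExact _ hS x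
      have hproj : Projective (stSC (ShortComplex.mk (kernel.ι p) p (kernel.condition p)) x).X₂ := by
        have h1 : HasProjectiveDimensionLT (St E x) 1 := pdLT_one_of_isFinLocFree hE x
        exact projective_iff_hasProjectiveDimensionLT_one.2 h1
      exact hSx.hasProjectiveDimensionLT_X₃_iff n hproj
    rw [heq]
    exact ih hK

/-- on a Noetherian scheme with regular local rings, the projective dimensions of the stalks
of a coherent module are bounded -/
theorem exists_pdLT [IsNoetherian X] (hreg : ∀ x : X, IsRegularLocalRing (X.presheaf.stalk x))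
    (hX : KRR.HasEnoughLocFree X)
    (h : ∀ M : X.Modules, FlatMod.IsFinLocFree M → Coh.IsCoh M) {M : X.Modules}
    (hM : Coh.IsCoh M) : ∃ n : ℕ, PdLT M (n + 1) := by
  let U : ℕ → Set X := fun n => {x : X | HasProjectiveDimensionLT (St M x) (n + 1)}
  have hUo : ∀ n, IsOpen (U n) := fun n => isOpen_pdLT hX h n hM
  have hmono : Monotone U := by
    intro n m hnm x hx
    haveI : HasProjectiveDimensionLT (St M x) (n + 1) := hx
    exact hasProjectiveDimensionLT_of_ge _ (n + 1) (m + 1) (by omega)
  have hcov : (Set.univ : Set X) ⊆ ⋃ n, U n := by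
    intro x _
    haveI := hreg x
    obtain ⟨d, hd⟩ := Groth.Agent.Lib.Helper18.SerreReg.exists_ringKrullDim_eq_nat
      (X.presheaf.stalk x)
    haveI := Groth.Agent.Lib.Helper9.RefStalk.finite_stalk_of_isCoh M hM x
    exact Set.mem_iUnion.2 ⟨d,
      Groth.Agent.Lib.Helper4.hasProjectiveDimensionLT_of_isRegularLocalRing_of_finite
        (X.presheaf.stalk x) d hd (M.presheaf.stalk x)⟩
  obtain ⟨n, hn⟩ := isCompact_univ.elim_directed_cover U hUo hcov hmono.directed_le
  exact ⟨n, fun x => hn (Set.mem_univ x)⟩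

end Groth.Agent.Lib.Helper18.RS2
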