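import Mathlib
import Groth.Prelude.Def_KRR
import Groth.Prelude.Def_SGA6
import Groth.Agent.Lib.Helper18.AD3
import Groth.Agent.Lib.Helper18.RS2

/-! # The resolution theorem `K₀(Vect X) ≅ K₀(Coh X)` on regular schemes (helper18) -/

set_option autoImplicit false
set_option linter.style.haveILetI false
universe u

open CategoryTheory CategoryTheory.Limits AlgebraicGeometry

namespace Groth.Agent.Lib.Helper18.RS3

open Groth.Agent.Lib.Helper29.QCoh Groth.Agent.Lib.Helper18 Groth.Agent.Lib.Helper18.RS2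

section Abstract

universe v' u'
variable {A : Type u'} [Category.{v'} A] [Abelian A]

theorem mapSub_id_eq_incl {P Q : ObjectProperty A} (h : ∀ M, P M → Q M) (x : KZero.K0sub P) :
    SGA6.mapSub (𝟭 A) P Q h x = AD2.incl P Q h x := by
  induction x using AD2.K0sub_induction with
  | h0 => simp
  | hcl M hM =>
    rw [AD3.mapSub_clSub (𝟭 A) P Q h hM, AD2.incl_clSub P Q h hM]
    rfl
  | hneg x ih => rw [map_neg, map_neg, ih]
  | hadd x y ihx ihy => rw [map_add, map_add, ihx, ihy]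

theorem bijective_mapSub_of_incl {P P' Q : ObjectProperty A} (hP : P' = P) (h : ∀ M, P M → Q M)
    (h' : ∀ M, P' M → Q M) (hb : Function.Bijective (AD2.incl P' Q h')) :
    Function.Bijective (SGA6.mapSub (𝟭 A) P Q h) := by
  subst hP
  have : ⇑(SGA6.mapSub (𝟭 A) P' Q h) = ⇑(AD2.incl P' Q h') := funext (mapSub_id_eq_incl h)
  rw [this]
  exact hb

end Abstract

variable {X : Scheme.{u}}

/-- coherent modules all of whose stalks have projective dimension `≤ n` -/
def Hn (X : Scheme.{u}) (n : ℕ) : ObjectProperty X.Modules := fun M => Coh.IsCoh M ∧ PdLT M (n + 1)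

theorem isCoh_X₁ [IsLocallyNoetherian X] (S : ShortComplex X.Modules) (hS : S.ShortExact)
    (h₂ : Coh.IsCoh S.X₂) (h₃ : Coh.IsCoh S.X₃) : Coh.IsCoh S.X₁ := by
  have hk : Coh.IsCoh (kernel S.g) := Groth.Agent.Lib.Helper12.H12Dev.isCoh_kernel S.g h₂ h₃
  have e := IsLimit.conePointUniqueUpToIso hS.fIsKernel (kernelIsKernel S.g)
  exact Groth.Agent.Lib.Helper12.H12Dev.isCoh_of_iso (A := kernel S.g) (B := S.X₁) e.symm hk

theorem resHyp [IsLocallyNoetherian X] (hX : KRR.HasEnoughLocFree X)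
    (h : ∀ M : X.Modules, FlatMod.IsFinLocFree M → Coh.IsCoh M) (n : ℕ) :
    RS1.ResHyp (Hn X n) (Hn X (n + 1)) where
  le M hM := ⟨hM.1, hM.2.of_ge (by omega)⟩
  P_zero M hM := ⟨Groth.Agent.Lib.Helper12.H12Dev.isCoh_of_isZero M hM, pdLT_of_isZero hM _⟩
  P_ext S hS h₁ h₃ := ⟨Groth.Agent.Lib.Helper2.DegAdd.isCoh_of_shortExact S hS h₁.1 h₃.1,
    pdLT_X₂ S hS _ h₁.2 h₃.2⟩
  ker S hS h₂ h₃ := ⟨isCoh_X₁ S hS h₂.1 h₃.1, pdLT_X₁ S hS _ h₂.2 h₃.2⟩
  cover M hM := by
    obtain ⟨E, p, hE, hp⟩ := hX M hM.1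
    exact ⟨E, p, ⟨h E hE, (pdLT_one_of_isFinLocFree hE).of_ge (by omega)⟩, hp⟩

theorem Hn_zero_eq [IsLocallyNoetherian X]
    (h : ∀ M : X.Modules, FlatMod.IsFinLocFree M → Coh.IsCoh M) : Hn X 0 = KRR.vbP X := by
  funext M
  apply propext
  constructor
  · rintro ⟨hM, hpd⟩
    exact isFinLocFree_of_pdLT_one hM hpd
  · intro hM
    exact ⟨h M hM, pdLT_one_of_isFinLocFree hM⟩

/-- **S3746** -/
theorem bijective_regular [IsNoetherian X]
    (hreg : ∀ x : X, IsRegularLocalRing (X.presheaf.stalk x)) (hX : KRR.HasEnoughLocFree X)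
    (h : ∀ M : X.Modules, FlatMod.IsFinLocFree M → Coh.IsCoh M) :
    Function.Bijective (SGA6.mapSub (𝟭 X.Modules) (KRR.vbP X)
      (fun M : X.Modules => Coh.IsCoh M) h) := by
  have hQ : ∀ M : X.Modules, Coh.IsCoh M ↔ ∃ n, Hn X n M := by
    intro M
    constructor
    · intro hM
      obtain ⟨n, hn⟩ := exists_pdLT hreg hX h hM
      exact ⟨n, hM, hn⟩
    · rintro ⟨n, hM, -⟩
      exact hM
  have hb := RS1.bijective_incl_chain (Hn X) (resHyp hX h) (fun M : X.Modules => Coh.IsCoh M) hQ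
  exact bijective_mapSub_of_incl (Hn_zero_eq h) h _ hb

end Groth.Agent.Lib.Helper18.RS3
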