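import Mathlib
import Groth.Prelude.Def_KRR
import Groth.Agent.S4270
import Groth.Agent.S4271
import Groth.Agent.Lib.Lead.LinLES.Basic
import Groth.Agent.Lib.Lead.Pn.TwistSeq
import Groth.Agent.Lib.Lead.SD.LowVanish
import Groth.Agent.Lib.Helper18.RS3

/-! # Cohomological dimension of regular schemes via locally free modules (helper18) -/

set_option autoImplicit false
set_option linter.style.haveILetI false
universe u

open CategoryTheory CategoryTheory.Limits AlgebraicGeometry

namespace Groth.Agent.Lib.Helper18.CD1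

open Groth.Agent.Lib.Helper18 Groth.Agent.Lib.Helper18.RS2 Groth.Agent.Lib.Helper18.RS3

variable {S : Scheme.{u}}

theorem isCoh_of_isFinLocFree (M : S.Modules) (hM : FlatMod.IsFinLocFree M) : Coh.IsCoh M :=
  Groth.Agent.Lib.Lead.SD.isCoh_of_isFinLocFree hM

/-- a regular Noetherian separated scheme has enough locally free modules -/
theorem hasEnoughLocFree [IsNoetherian S] [S.IsSeparated]
    (hreg : ∀ x : S, IsRegularLocalRing (S.presheaf.stalk x)) : KRR.HasEnoughLocFree S := by
  have hamp : MoreMor.HasAmpleFamily S :=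
    Groth.Agent.S4271.result S hreg (fun U V hU hV => hU.inf hV)
  have hres := Groth.Agent.S4270.result S hamp
  intro F hF
  exact hres F hF.1 hF.2

/-- induction on the pointwise projective dimension -/
theorem induction_pd [IsNoetherian S] (hX : KRR.HasEnoughLocFree S)
    (P : S.Modules → ℕ → Prop)
    (hlf : ∀ E : S.Modules, FlatMod.IsFinLocFree E → ∀ i, P E i)
    (hses : ∀ (T : ShortComplex S.Modules), T.ShortExact → ∀ i, P T.X₂ i → P T.X₁ (i + 1) →
      P T.X₃ i) :
    ∀ (n : ℕ) (F : S.Modules), Coh.IsCoh F → PdLT F (n + 1) → ∀ i, P F i := by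
  intro n
  induction n with
  | zero =>
    intro F hF hpd i
    exact hlf F (isFinLocFree_of_pdLT_one hF hpd) i
  | succ n ih =>
    intro F hF hpd i
    obtain ⟨E, p, hE, hp⟩ := hX F hF
    have hEc : Coh.IsCoh E := isCoh_of_isFinLocFree E hE
    have hT := RS1.shortExact_kernel p
    have hK : Coh.IsCoh (kernel p) := Groth.Agent.Lib.Helper12.H12Dev.isCoh_kernel p hEc hF
    have hKpd : PdLT (kernel p) (n + 1) :=
      pdLT_X₁ _ hT (n + 1) ((pdLT_one_of_isFinLocFree hE).of_ge (by omega)) hpd
    exact hses _ hT i (hlf E hE i) (ih (kernel p) hK hKpd (i + 1))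

end Groth.Agent.Lib.Helper18.CD1
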