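import Mathlib
import Groth.Agent.Lib.Helper18.CD1

/-! # Finiteness of cohomology of the third term of a short exact sequence (helper18) -/

set_option autoImplicit false
set_option linter.style.haveILetI false
universe u

open CategoryTheory CategoryTheory.Limits AlgebraicGeometry

namespace Groth.Agent.Lib.Helper18.CD2

variable (k : Type u) [Field k] {X : Scheme.{u}} [X.Over (Spec (CommRingCat.of k))]

theorem finite_HH_X₃ (T : ShortComplex X.Modules) (hT : T.ShortExact) (q : ℕ)
    (h₂ : Module.Finite k (Coh.HH X T.X₂ q)) (h₁ : Module.Finite k (Coh.HH X T.X₁ (q + 1))) :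
    Module.Finite k (Coh.HH X T.X₃ q) := by
  let g := Canon.HHlin k T.g q
  let δ := Groth.Agent.Lib.Lead.LinLES.δlin k T hT q
  have hex : Function.Exact g δ := Groth.Agent.Lib.Lead.LinLES.exact₃ k T hT q
  have hker : LinearMap.ker δ = LinearMap.range g := (LinearMap.exact_iff.1 hex)
  haveI : Module.Finite k (LinearMap.range g) := Module.Finite.range g
  haveI : Module.Finite k (LinearMap.ker δ) := by rw [hker]; infer_instance
  haveI : Module.Finite k (LinearMap.range δ) := inferInstance
  haveI : Module.Finite k (Coh.HH X T.X₃ q ⧸ LinearMap.ker δ) :=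
    Module.Finite.equiv (LinearMap.quotKerEquivRange δ).symm
  exact Module.Finite.of_submodule_quotient (LinearMap.ker δ)

end Groth.Agent.Lib.Helper18.CD2
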