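import Mathlib
import Groth.Agent.S0458
import Groth.Agent.Lib.Helper29.Dual4
import Groth.Agent.Lib.Helper29.Ample
import Groth.Agent.Lib.Helper29.TensorIso
import Groth.Agent.Lib.Helper29.TensorInv
import Groth.Agent.Lib.Lead.LinLES.Biprod
import Groth.Agent.Lib.Lead.Pn.TwistZero
import Groth.Agent.Lib.Helper10.OrbitDim2
import Groth.Agent.Lib.Helper18.CD2

/-! # Cohomological dimension from negative powers of an ample module (helper18) -/

set_option autoImplicit false
set_option linter.style.haveILetI false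
universe u

open CategoryTheory CategoryTheory.Limits AlgebraicGeometry

namespace Groth.Agent.Lib.Helper18.CD3

open Groth.Agent.Lib.Helper29.QCoh Groth.Agent.Lib.Helper18

variable {S : Scheme.{u}}

/-- uniqueness of tensor inverses, in the form needed here -/
noncomputable def invIso {E L M : S.Modules} (a N : ℕ)
    (e : CohB1.tensorMod E (CohB1.tensorPow (CohB1.tensorPow L a) N) ≅ unitM S)
    (eM : CohB1.tensorMod M L ≅ unitM S) : E ≅ CohB1.tensorPow M (a * N) :=
  let n := a * N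
  let e1 : CohB1.tensorPow (CohB1.tensorPow L a) N ≅ CohB1.tensorPow L n := tensorPowMul L a N
  let e2 : CohB1.tensorMod (CohB1.tensorPow L n) (CohB1.tensorPow M n) ≅ unitM S :=
    (tensorPowTensor L M n).symm ≪≫ tensorPowCongr (tensorBraid L M ≪≫ eM) n ≪≫ tensorPowUnit S n
  (tensorUnitR E).symm ≪≫ tensorCongr (Iso.refl E) e2.symm ≪≫
    (tensorAssoc E (CohB1.tensorPow L n) (CohB1.tensorPow M n)).symm ≪≫
    tensorCongr (tensorCongr (Iso.refl E) e1.symm) (Iso.refl _) ≪≫
    tensorCongr e (Iso.refl _) ≪≫ tensorUnitL _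

/-- every coherent module is a quotient of a finite sum of large negative powers -/
theorem exists_epi_neg [CompactSpace S] [QuasiSeparatedSpace S] {L M : S.Modules}
    (hL : CohB1.IsAmple L) (hM : ClSub.IsInverseOf M L) (m₀ : ℕ) (F : S.Modules)
    (hF : Coh.IsCoh F) :
    ∃ (k : ℕ) (a : Fin k → ℕ) (π : (⨁ fun j => CohB1.tensorPow M (a j)) ⟶ F),
      Epi π ∧ ∀ j, m₀ ≤ a j := by
  classical
  obtain ⟨hLinv, -, hcov⟩ := hL
  obtain ⟨eM⟩ := hM
  haveI := hF.1
  haveI := hF.2
  let 𝓑 : S.Modules → Prop := fun B => ∃ a, m₀ ≤ a ∧ B = CohB1.tensorPow L a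
  have h𝓑 : ∀ B, 𝓑 B → PicF.IsInvertible B := by
    rintro B ⟨a, -, rfl⟩
    exact isInvertible_tensorPow hLinv a
  have hcov' : ∀ x : S, ∃ B : S.Modules, 𝓑 B ∧ ∃ s : unitM S ⟶ B,
      x ∈ CohB1.genLocus B s ∧ IsAffineOpen (CohB1.genLocus B s) := by
    intro x
    obtain ⟨n, s, hx, haff⟩ := hcov x
    obtain ⟨s', hs'⟩ := exists_pow_section hLinv (a := n + 1) s (m₀ + 1) ((n + 1) * (m₀ + 1))
      (Nat.succ_pos _) rfl
    refine ⟨CohB1.tensorPow L ((n + 1) * (m₀ + 1)), ⟨_, ?_, rfl⟩, s', ?_, ?_⟩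
    · nlinarith
    · rw [hs']; exact hx
    · rw [hs']; exact haff
  obtain ⟨k, B, N, E, π, hπ, hj⟩ := Dual.exists_epi_of_affine_genLocus_cover 𝓑 h𝓑 hcov' F
  have hdata : ∀ j, ∃ a' : ℕ, m₀ ≤ a' ∧ Nonempty (E j ≅ CohB1.tensorPow M a') := by
    intro j
    obtain ⟨⟨a, ha, hBa⟩, hN, -, ⟨e⟩⟩ := hj j
    rw [hBa] at e
    refine ⟨a * N j, ?_, ⟨invIso a (N j) e eM⟩⟩
    nlinarith
  choose a' ha' hiso using hdata
  let ε : ∀ j, CohB1.tensorPow M (a' j) ≅ E j := fun j => (hiso j).some.symm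
  refine ⟨k, a', (biproduct.isoCoproduct _).hom ≫ (Sigma.mapIso ε).hom ≫ π, ?_, ha'⟩
  haveI := hπ
  infer_instance

section Main

variable (k : Type u) [Field k] [S.Over (Spec (CommRingCat.of k))]

include k in
theorem subsingleton_HH_biproduct {ι : Type} [Fintype ι] [DecidableEq ι] (E : ι → S.Modules)
    (q : ℕ) (h : ∀ j, Subsingleton (Coh.HH S (E j) q)) :
    Subsingleton (Coh.HH S (⨁ E : S.Modules) q) := by
  refine subsingleton_of_forall_eq 0 fun x => ?_
  rw [Groth.Agent.Lib.Lead.LinLES.HH_total k E q x]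
  apply Finset.sum_eq_zero
  intro j _
  have : Canon.HHlin k (biproduct.π E j) q x = 0 := (h j).elim _ _
  rw [this, map_zero]

include k in
theorem vanish_of_neg [IsNoetherian S] (d : ℕ) (hd : topologicalKrullDim S ≤ d)
    {L M : S.Modules} (hL : CohB1.IsAmple L) (hM : ClSub.IsInverseOf M L) (r m₀ : ℕ)
    (hneg : ∀ m : ℕ, m₀ ≤ m → ∀ i : ℕ, r < i → Subsingleton (Coh.HH S (CohB1.tensorPow M m) i)) :
    ∀ (t i : ℕ), d < i + t → r < i → ∀ F : S.Modules, Coh.IsCoh F →
      Subsingleton (Coh.HH S F i) := by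
  classical
  have hgv : ∀ (F : S.Modules) (p : ℕ), d < p → Subsingleton (Coh.HH S F p) := by
    intro F p hp
    have : TopologicalSpace.NoetherianSpace S.toTopCat :=
      (inferInstance : TopologicalSpace.NoetherianSpace S)
    exact Groth.Agent.S0458.result (X := S.toTopCat) d hd (Coh.toAb F) p hp
  obtain ⟨eM⟩ := hM
  have hMinv : PicF.IsInvertible M := isInvertible_of_tensor_iso M L eM
  intro t
  induction t with
  | zero =>
    intro i hi _ F _
    exact hgv F i (by omega)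
  | succ t ih =>
    intro i hi hri F hF
    obtain ⟨n, a, π, hπ, ha⟩ := exists_epi_neg hL ⟨eM⟩ m₀ F hF
    have hEc : Coh.IsCoh (⨁ fun j => CohB1.tensorPow M (a j) : S.Modules) :=
      Groth.Agent.Lib.Lead.LinLES.isCoh_biproduct _ (fun j =>
        ⟨isQuasicoherent_of_isInvertible (isInvertible_tensorPow hMinv (a j)),
          isFiniteType_of_isInvertible (isInvertible_tensorPow hMinv (a j))⟩)
    have hT := RS1.shortExact_kernel π
    have hK : Coh.IsCoh (kernel π) := Groth.Agent.Lib.Helper12.H12Dev.isCoh_kernel π hEc hF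
    have h2 : Subsingleton (Coh.HH S (⨁ fun j => CohB1.tensorPow M (a j) : S.Modules) i) :=
      subsingleton_HH_biproduct k _ i (fun j => hneg (a j) (ha j) i hri)
    exact Groth.Agent.Lib.Lead.Pn.subsingleton_HH_X₃ _ hT i h2
      (ih (i + 1) (by omega) (by omega) (kernel π) hK)

end Main

theorem exists_dim_le (k : Type u) [Field k] (f : S ⟶ Spec (CommRingCat.of k))
    [LocallyOfFiniteType f] [QuasiCompact f] : ∃ d : ℕ, topologicalKrullDim S ≤ d := by
  have h := Groth.Agent.Lib.Helper10.OrbitDim.dim_lt_top f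
  by_cases hb : topologicalKrullDim S = ⊥
  · exact ⟨0, by rw [hb]; exact bot_le⟩
  · obtain ⟨n, hn⟩ := WithBot.ne_bot_iff_exists.1 hb
    have hn' : n ≠ ⊤ := by
      rintro rfl
      rw [← hn] at h
      exact lt_irrefl _ h
    obtain ⟨d, rfl⟩ := ENat.ne_top_iff_exists.1 hn'
    exact ⟨d, by rw [← hn]; rfl⟩

end Groth.Agent.Lib.Helper18.CD3
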