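import Mathlib
import Groth.Prelude.Def_CAlg
import Groth.Agent.Lib.Helper18.CM7

/-!
# Depth two and extension of sections (helper18)
* `maximalIdeal_mem_associatedPrimes_of_depth_two`
* `bijective_of_localization_depth_two` (S2090)
-/

set_option autoImplicit false
set_option linter.unusedSectionVars false
universe u

open CategoryTheory RingTheory.Sequence IsLocalRing Pointwise
open Groth.Agent.Lib.Helper16.Depth

namespace Groth.Agent.Lib.Helper18.CM

section depthTwo

/-- local lemma: if `depth M ≥ 2`, `φ : M → N` is injective and some `n ∉ range φ` has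
`𝔪 n ⊆ range φ`, then `𝔪 ∈ Ass N`. -/
theorem maximalIdeal_mem_associatedPrimes_of_depth_two {S : Type u} [CommRing S] [IsLocalRing S]
    [IsNoetherianRing S] {M N : Type u} [AddCommGroup M] [Module S M] [Module.Finite S M]
    [AddCommGroup N] [Module S N] (φ : M →ₗ[S] N) (hφ : Function.Injective φ)
    (hd : 2 ≤ LocCoh.depth S M) (n : N) (hn : n ∉ LinearMap.range φ)
    (hmn : ∀ t ∈ maximalIdeal S, t • n ∈ LinearMap.range φ) :
    maximalIdeal S ∈ associatedPrimes S N := by
  -- a regular sequence of length two
  have hreg2 : HasRegSeq (maximalIdeal S) M 2 := by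
    have := (le_idealDepth_iff (I := maximalIdeal S) (M := M) 2).mp (by exact_mod_cast hd)
    rcases this with h | h
    · -- `𝔪 M = M` forces `M = 0`
      have hsub : Subsingleton M := by
        by_contra hcon
        rw [not_subsingleton_iff_nontrivial] at hcon
        exact maximalIdeal_smul_top_ne_top (R := S) M h
      refine ⟨[0, 0], rfl, ?_, by simp⟩
      have h0 : IsSMulRegular M (0 : S) := fun a b _ => Subsingleton.elim a b
      have h1 : IsSMulRegular (QuotSMulTop (0 : S) M) (0 : S) := fun a b _ => Subsingleton.elim a b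
      exact (isWeaklyRegular_cons_iff M 0 [0]).mpr ⟨h0,
        (isWeaklyRegular_cons_iff _ 0 []).mpr ⟨h1, IsWeaklyRegular.nil S _⟩⟩
    · exact h
  obtain ⟨rs, hlen, hreg, hmem⟩ := hreg2
  match rs, hlen with
  | [x, y], _ =>
    rw [isWeaklyRegular_cons_iff] at hreg
    obtain ⟨hx, hreg'⟩ := hreg
    rw [isWeaklyRegular_cons_iff] at hreg'
    obtain ⟨hy, -⟩ := hreg'
    have hxm : x ∈ maximalIdeal S := hmem x (by simp)
    have hym : y ∈ maximalIdeal S := hmem y (by simp)
    obtain ⟨m₁, hm₁⟩ := hmn x hxm
    obtain ⟨m₂, hm₂⟩ := hmn y hym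
    have h1 : y • m₁ = x • m₂ := by
      apply hφ
      rw [map_smul, map_smul, hm₁, hm₂, smul_comm]
    -- `m₁ ∈ x M`
    have h2 : (Submodule.Quotient.mk m₁ : QuotSMulTop x M) = 0 := by
      apply hy
      change y • (Submodule.Quotient.mk m₁ : QuotSMulTop x M) = y • 0
      rw [smul_zero, ← Submodule.Quotient.mk_smul, h1, Submodule.Quotient.mk_eq_zero]
      exact Submodule.smul_mem_pointwise_smul m₂ x ⊤ trivial
    rw [Submodule.Quotient.mk_eq_zero] at h2
    obtain ⟨m', -, hm'⟩ := (Submodule.mem_smul_pointwise_iff_exists _ _ _).mp h2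
    set z : N := n - φ m' with hz
    have hxz : x • z = 0 := by
      rw [hz, smul_sub, ← map_smul, hm', hm₁, sub_self]
    have hz0 : z ≠ 0 := by
      intro h0
      apply hn
      exact ⟨m', (sub_eq_zero.mp h0).symm⟩
    have htz : ∀ t ∈ maximalIdeal S, t • z = 0 := by
      intro t ht
      obtain ⟨w, hw⟩ := hmn t ht
      have e1 : t • z = φ (w - t • m') := by
        rw [hz, smul_sub, map_sub, hw, map_smul]
      have e2 : x • (w - t • m') = 0 := by
        apply hφ
        rw [map_smul, ← e1, smul_comm, hxz, smul_zero, map_zero]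
      have e3 : w - t • m' = 0 := hx (by change x • (w - t • m') = x • 0; rw [e2, smul_zero])
      rw [e1, e3, map_zero]
    refine isAssociatedPrime_iff.mpr ⟨inferInstance, z, ?_⟩
    ext a
    rw [Submodule.mem_colon_singleton, Submodule.mem_bot]
    constructor
    · exact htz a
    · intro haz
      by_contra ha
      have hu : IsUnit a := by
        by_contra hnu
        exact ha ((IsLocalRing.mem_maximalIdeal a).mpr hnu)
      apply hz0
      have := congrArg (fun v => hu.unit⁻¹.1 • v) haz
      simpa [smul_smul] using this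

theorem bijective_of_localization_depth_two {R M N : Type u} [CommRing R] [IsNoetherianRing R]
    [AddCommGroup M] [Module R M] [Module.Finite R M] [AddCommGroup N] [Module R N]
    (φ : M →ₗ[R] N)
    (h : ∀ (p : Ideal R) [p.IsPrime],
      Function.Bijective (LocalizedModule.map p.primeCompl φ) ∨
        (2 ≤ LocCoh.depth (Localization.AtPrime p) (LocalizedModule p.primeCompl M) ∧
          p ∉ associatedPrimes R N)) :
    Function.Bijective φ := by
  -- injectivity
  have hinj : Function.Injective φ := by
    rw [← LinearMap.ker_eq_bot]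
    by_contra hne
    have hnt : Nontrivial (LinearMap.ker φ) := Submodule.nontrivial_iff_ne_bot.mpr hne
    obtain ⟨p, hp⟩ := associatedPrimes.nonempty R (LinearMap.ker φ)
    have hpp : p.IsPrime := IsAssociatedPrime.isPrime hp
    have hpM : p ∈ associatedPrimes R M :=
      associatedPrimes.subset_of_injective (LinearMap.ker φ).subtype_injective hp
    obtain ⟨-, z, hz⟩ := isAssociatedPrime_iff.mp hp
    have hmem : ∀ a : R, a ∈ p ↔ a • z = 0 := by
      intro a
      rw [hz, Submodule.mem_colon_singleton, Submodule.mem_bot]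
    rcases h p with hb | ⟨hd, -⟩
    · have h0 : LocalizedModule.map p.primeCompl φ (LocalizedModule.mk (z : M) 1) = 0 := by
        rw [LocalizedModule.map_mk, LinearMap.mem_ker.mp z.2, LocalizedModule.zero_mk]
      have h1 := hb.1 (h0.trans (map_zero _).symm)
      rw [← LocalizedModule.zero_mk (1 : p.primeCompl), LocalizedModule.mk_eq] at h1
      obtain ⟨u, hu⟩ := h1
      simp only [one_smul, smul_zero] at hu
      have : (u : R) ∈ p := by
        rw [hmem]
        exact Subtype.ext hu
      exact u.2 this
    · have hm := (mem_associatedPrimes_iff_maximalIdeal_mem (M := M) p).mp hpM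
      have hd0 := (depth_eq_zero_iff (LocalizedModule p.primeCompl M)).mpr hm
      rw [hd0] at hd
      exact absurd hd (by simp)
  refine ⟨hinj, ?_⟩
  -- surjectivity
  rw [← LinearMap.range_eq_top]
  by_contra hne
  have hnt : Nontrivial (N ⧸ LinearMap.range φ) := Submodule.Quotient.nontrivial_iff.mpr hne
  obtain ⟨p, hp⟩ := associatedPrimes.nonempty R (N ⧸ LinearMap.range φ)
  have hpp : p.IsPrime := IsAssociatedPrime.isPrime hp
  obtain ⟨-, c, hc⟩ := isAssociatedPrime_iff.mp hp
  obtain ⟨n, rfl⟩ := Submodule.Quotient.mk_surjective _ c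
  have hmem : ∀ a : R, a ∈ p ↔ a • n ∈ LinearMap.range φ := by
    intro a
    rw [hc, Submodule.mem_colon_singleton, Submodule.mem_bot, ← Submodule.Quotient.mk_smul,
      Submodule.Quotient.mk_eq_zero]
  -- the image of `n` in the localization is not in the range
  have hn' : LocalizedModule.mk n (1 : p.primeCompl) ∉
      LinearMap.range (LocalizedModule.map p.primeCompl φ) := by
    rintro ⟨y, hy⟩
    induction y using LocalizedModule.induction_on with
    | h m s =>
      rw [LocalizedModule.map_mk, LocalizedModule.mk_eq] at hy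
      obtain ⟨u, hu⟩ := hy
      simp only [one_smul] at hu
      have h1 : ((u * s : p.primeCompl) : R) • n ∈ LinearMap.range φ := by
        refine ⟨(u : R) • m, ?_⟩
        rw [map_smul]
        change (u : R) • φ m = ((u : R) * (s : R)) • n
        rw [mul_smul]
        exact hu
      exact (u * s).2 ((hmem _).mpr h1)
  rcases h p with hb | ⟨hd, hpN⟩
  · exact hn' (LinearMap.range_eq_top.mpr hb.2 ▸ Submodule.mem_top)
  · apply hpN
    have hφ' := LocalizedModule.map_injective p.primeCompl φ hinj
    have hmn : ∀ t ∈ maximalIdeal (Localization.AtPrime p),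
        t • LocalizedModule.mk n (1 : p.primeCompl) ∈
          LinearMap.range (LocalizedModule.map p.primeCompl φ) := by
      intro t ht
      obtain ⟨a, s, rfl⟩ := IsLocalization.exists_mk'_eq p.primeCompl t
      rw [IsLocalization.AtPrime.mk'_mem_maximal_iff (Localization.AtPrime p) p] at ht
      obtain ⟨m, hm⟩ := (hmem a).mp ht
      refine ⟨LocalizedModule.mk m s, ?_⟩
      rw [LocalizedModule.map_mk, hm, ← Localization.mk_eq_mk', LocalizedModule.mk_smul_mk, mul_one]
    have hass := maximalIdeal_mem_associatedPrimes_of_depth_two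
      (LocalizedModule.map p.primeCompl φ) hφ' hd _ hn' hmn
    have e : Ideal.comap (algebraMap R (Localization.AtPrime p))
        (maximalIdeal (Localization.AtPrime p)) = p :=
      IsLocalization.AtPrime.under_maximalIdeal (Localization.AtPrime p) p
    have := Module.associatedPrimes.comap_mem_associatedPrimes_of_mem_associatedPrimes_of_isLocalizedModule_of_fg
      p.primeCompl (LocalizedModule.mkLinearMap p.primeCompl N) _ hass
      ((isNoetherianRing_iff_ideal_fg R).mp inferInstance _)
    rwa [e] at this

end depthTwo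


end Groth.Agent.Lib.Helper18.CM
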