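import Mathlib
import Groth.Prelude.Def_CAlg
import Groth.Agent.Lib.Helper18.CM7

/-!
# Saturated chains of primes in the support of a Cohen–Macaulay module (helper18)
* `ringKrullDim_quotient_eq_succ_of_covBy` : `P ⋖ Q` in `Supp M` ⇒ `dim R/P = dim R/Q + 1`.
* `s2084` : every saturated chain from a minimal prime to the maximal ideal has length `dim R`.
-/

set_option autoImplicit false
set_option linter.unusedSectionVars false
universe u

open CategoryTheory RingTheory.Sequence IsLocalRing Pointwise
open Groth.Agent.Lib.Helper16.Depth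

namespace Groth.Agent.Lib.Helper18.CM

section chains

theorem withBot_le_one_of_not_two_le {x : WithBot ℕ∞} (h : ¬ ((2 : ℕ) : WithBot ℕ∞) ≤ x) :
    x ≤ 1 := by
  induction x using WithBot.recBotCoe with
  | bot => exact bot_le
  | coe a =>
    rw [← WithBot.coe_one, WithBot.coe_le_coe]
    by_contra hcon
    rw [not_le] at hcon
    apply h
    have : (2 : ℕ∞) ≤ a := by
      have := Order.add_one_le_of_lt hcon
      simpa [one_add_one_eq_two] using this
    have h2 : ((2 : ℕ) : WithBot ℕ∞) = ((2 : ℕ∞) : WithBot ℕ∞) := rfl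
    rw [h2]
    exact WithBot.coe_le_coe.mpr this

variable {R : Type u} [CommRing R] (P Q : Ideal R) [hP : P.IsPrime] [hQ : Q.IsPrime]

/-- if there is no prime strictly between `P` and `Q`, then `R_Q / P R_Q` has dimension at most one -/
theorem ringKrullDim_localization_quotient_le_one
    (hcov : ∀ I : Ideal R, I.IsPrime → P < I → ¬ I < Q) :
    ringKrullDim (Localization.AtPrime Q ⧸ P.map (algebraMap R (Localization.AtPrime Q))) ≤ 1 := by
  apply withBot_le_one_of_not_two_le
  rw [ringKrullDim_quotient, Order.le_krullDim_iff]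
  rintro ⟨l, hl⟩
  have hcomap_inj : ∀ a b : Ideal (Localization.AtPrime Q),
      a.comap (algebraMap R (Localization.AtPrime Q)) =
        b.comap (algebraMap R (Localization.AtPrime Q)) → a = b := by
    intro a b hab
    have ha := IsLocalization.map_under Q.primeCompl (Localization.AtPrime Q) a
    have hb := IsLocalization.map_under Q.primeCompl (Localization.AtPrime Q) b
    rw [← ha, ← hb]
    exact congrArg _ hab
  have hstrict : ∀ a b : PrimeSpectrum (Localization.AtPrime Q), a < b →
      a.asIdeal.comap (algebraMap R (Localization.AtPrime Q)) <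
        b.asIdeal.comap (algebraMap R (Localization.AtPrime Q)) := by
    intro a b hab
    refine lt_of_le_of_ne (Ideal.comap_mono hab.le) ?_
    intro h
    have := hcomap_inj _ _ h
    exact absurd (PrimeSpectrum.ext this) (ne_of_lt hab)
  have h01 : l ⟨0, by omega⟩ < l ⟨1, by omega⟩ := l.strictMono (by simp [Fin.lt_def])
  have h12 : l ⟨1, by omega⟩ < l ⟨2, by omega⟩ := l.strictMono (by simp [Fin.lt_def])
  have hP0 : P ≤ (l ⟨0, by omega⟩).1.asIdeal.comap (algebraMap R (Localization.AtPrime Q)) := by
    have h := (l ⟨0, by omega⟩).2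
    rw [PrimeSpectrum.mem_zeroLocus] at h
    exact Ideal.map_le_iff_le_comap.mp h
  have h2Q : (l ⟨2, by omega⟩).1.asIdeal.comap (algebraMap R (Localization.AtPrime Q)) ≤ Q := by
    have e : Ideal.comap (algebraMap R (Localization.AtPrime Q))
        (maximalIdeal (Localization.AtPrime Q)) = Q :=
      IsLocalization.AtPrime.under_maximalIdeal (Localization.AtPrime Q) Q
    calc _ ≤ Ideal.comap (algebraMap R (Localization.AtPrime Q))
          (maximalIdeal (Localization.AtPrime Q)) :=
        Ideal.comap_mono (IsLocalRing.le_maximalIdeal (l ⟨2, by omega⟩).1.2.ne_top)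
      _ = Q := e
  have s01 := hstrict _ _ h01
  have s12 := hstrict _ _ h12
  exact hcov _ (Ideal.IsPrime.comap _) (lt_of_le_of_lt hP0 s01) (lt_of_lt_of_le s12 h2Q)

variable [IsLocalRing R] [IsNoetherianRing R]

/-- catenary step for Cohen–Macaulay supports -/
theorem ringKrullDim_quotient_eq_succ_of_covBy (M : Type u) [AddCommGroup M] [Module R M]
    [Module.Finite R M] (hM : LocCoh.IsCohenMacaulayModule R M)
    (hsuppP : (⟨P, hP⟩ : PrimeSpectrum R) ∈ Module.support R M) (hlt : P < Q)
    (hcov : ∀ I : Ideal R, I.IsPrime → P < I → ¬ I < Q) :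
    ringKrullDim (R ⧸ P) = ringKrullDim (R ⧸ Q) + 1 := by
  obtain ⟨n, hn, -, -, hdim⟩ := cm_localization P M hM hsuppP
  have hquot := supportDim_quotient_prime_smul_top P M hsuppP
  have hr : Module.supportDim R (M ⧸ (P • (⊤ : Submodule R M))) + n = Module.supportDim R M := by
    rw [hquot, hdim]
  obtain ⟨⟨xs, hlen, hmem, hreg⟩, h2⟩ := s5760 P M hM hsuppP n hr
  obtain ⟨hd1, hd2, hPass, -⟩ := h2 xs hlen hmem hreg
  have hxs : ∀ x ∈ xs, x ∈ maximalIdeal R :=
    fun x hx => IsLocalRing.le_maximalIdeal hP.ne_top (hmem x hx)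
  have hM'' := (isWeaklyRegular_iff_supportDim_and_isCohenMacaulayModule xs hxs M hM).2 hreg
  have hle : Ideal.ofList xs ≤ P := by
    rw [Ideal.ofList, Ideal.span_le]
    exact fun x hx => hmem x hx
  have hsuppQ : (⟨Q, hQ⟩ : PrimeSpectrum R) ∈
      Module.support R (M ⧸ (Ideal.ofList xs • (⊤ : Submodule R M))) := by
    rw [Module.support_quotient]
    exact ⟨Module.mem_support_mono (show (⟨P, hP⟩ : PrimeSpectrum R) ≤ ⟨Q, hQ⟩ from hlt.le) hsuppP,
      hle.trans hlt.le⟩
  obtain ⟨g, -, -, hg2, hg3⟩ := cm_localization Q _ hM'' hsuppQ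
  have hCMloc := isCohenMacaulayModule_localizedModule Q _ hM'' hsuppQ
  have hdisj : Disjoint (Q.primeCompl : Set R) (P : Set R) := by
    rw [Set.disjoint_left]
    intro x hx hx'
    exact hx (hlt.le hx')
  have hcomap : (P.map (algebraMap R (Localization.AtPrime Q))).comap
      (algebraMap R (Localization.AtPrime Q)) = P :=
    IsLocalization.under_map_of_isPrime_disjoint Q.primeCompl (Localization.AtPrime Q) hP hdisj
  have hassS : P.map (algebraMap R (Localization.AtPrime Q)) ∈
      associatedPrimes (Localization.AtPrime Q)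
        (LocalizedModule Q.primeCompl (M ⧸ (Ideal.ofList xs • (⊤ : Submodule R M)))) := by
    apply Module.associatedPrimes.mem_associatedPrimes_of_comap_mem_associatedPrimes_of_isLocalizedModule
      Q.primeCompl (LocalizedModule.mkLinearMap Q.primeCompl _)
    rw [hcomap]
    exact hPass
  have hprimeS := IsAssociatedPrime.isPrime hassS
  have hun := ringKrullDim_quotient_eq_supportDim_of_isCohenMacaulayModule _ hCMloc _ hassS
  rw [hg2] at hun
  have hle1 := ringKrullDim_localization_quotient_le_one P Q hcov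
  have hltS : P.map (algebraMap R (Localization.AtPrime Q)) <
      maximalIdeal (Localization.AtPrime Q) := by
    refine lt_of_le_of_ne (IsLocalRing.le_maximalIdeal hprimeS.ne_top) ?_
    intro h
    have e : Ideal.comap (algebraMap R (Localization.AtPrime Q))
        (maximalIdeal (Localization.AtPrime Q)) = Q :=
      IsLocalization.AtPrime.under_maximalIdeal (Localization.AtPrime Q) Q
    rw [← h, hcomap] at e
    exact absurd e (ne_of_lt hlt)
  have hge1 := ringKrullDim_quotient_succ_le_of_lt hltS
  have hg : g = 1 := by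
    rw [hun] at hle1 hge1
    have h0 : (0 : WithBot ℕ∞) ≤ ringKrullDim (Localization.AtPrime Q ⧸
        maximalIdeal (Localization.AtPrime Q)) := ringKrullDim_nonneg_of_nontrivial
    have h1 : (1 : WithBot ℕ∞) ≤ (g : WithBot ℕ∞) := by
      calc (1 : WithBot ℕ∞) = 0 + 1 := by simp
        _ ≤ _ := add_le_add h0 le_rfl
        _ ≤ _ := hge1
    have h1' : 1 ≤ g := by exact_mod_cast h1
    have h2' : g ≤ 1 := by exact_mod_cast hle1
    omega
  rw [← hd2, ← hd1, hg3, hg]
  rfl

theorem s2084 {R M : Type u} [CommRing R] [IsLocalRing R] [IsNoetherianRing R]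
    [AddCommGroup M] [Module R M] [Module.Finite R M] (hM : LocCoh.IsCohenMacaulayModule R M)
    (hsupp : Module.support R M = Set.univ) (s : LTSeries (PrimeSpectrum R))
    (hhead : s.head.asIdeal ∈ minimalPrimes R) (hlast : s.last.asIdeal = IsLocalRing.maximalIdeal R)
    (hsat : ∀ i : Fin s.length, s (Fin.castSucc i) ⋖ s (Fin.succ i)) :
    (s.length : WithBot ℕ∞) = ringKrullDim R := by
  have hmem : ∀ P : PrimeSpectrum R, P ∈ Module.support R M := fun P => hsupp ▸ Set.mem_univ P
  -- telescoping
  have key : ∀ k (hk : k ≤ s.length),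
      ringKrullDim (R ⧸ (s ⟨k, by omega⟩).asIdeal) + (k : WithBot ℕ∞) =
        ringKrullDim (R ⧸ s.head.asIdeal) := by
    intro k
    induction k with
    | zero =>
      intro _
      rw [Nat.cast_zero, add_zero]
      rfl
    | succ k ih =>
      intro hk
      have ih' := ih (by omega)
      have hcov := hsat ⟨k, by omega⟩
      have e1 : (Fin.castSucc (⟨k, by omega⟩ : Fin s.length)) = (⟨k, by omega⟩ : Fin (s.length + 1)) := rfl
      have e2 : (Fin.succ (⟨k, by omega⟩ : Fin s.length)) = (⟨k + 1, by omega⟩ : Fin (s.length + 1)) := rfl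
      rw [e1, e2] at hcov
      have hstep := ringKrullDim_quotient_eq_succ_of_covBy
        (s ⟨k, by omega⟩).asIdeal (s ⟨k + 1, by omega⟩).asIdeal M hM (hmem _) hcov.lt
        (fun I hI h1 h2 => hcov.2 (c := ⟨I, hI⟩) h1 h2)
      rw [← ih', hstep]
      push_cast
      rw [add_assoc, add_comm (1 : WithBot ℕ∞)]
  have h1 := key s.length le_rfl
  have e3 : s ⟨s.length, by omega⟩ = s.last := rfl
  rw [e3, hlast] at h1
  have h0 : ringKrullDim (R ⧸ maximalIdeal R) = 0 :=
    ringKrullDim_eq_zero_of_isField
      ((Ideal.Quotient.maximal_ideal_iff_isField_quotient _).mp inferInstance)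
  rw [h0, zero_add] at h1
  rw [h1]
  -- the head is an associated prime of `M`
  have hheadmin : s.head.asIdeal ∈ (Module.annihilator R M).minimalPrimes := by
    refine ⟨⟨s.head.2, Module.mem_support_iff_of_finite.mp (hmem _)⟩, ?_⟩
    rintro q ⟨hq, -⟩ hqle
    exact hhead.2 ⟨hq, bot_le⟩ hqle
  have hass := Module.associatedPrimes.minimalPrimes_annihilator_subset_associatedPrimes R M hheadmin
  rw [ringKrullDim_quotient_eq_supportDim_of_isCohenMacaulayModule M hM _ hass]
  rw [Module.supportDim, hsupp, ringKrullDim]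
  exact Order.krullDim_eq_of_orderIso (OrderIso.Set.univ)

end chains


end Groth.Agent.Lib.Helper18.CM
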