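import Mathlib
import Groth.Agent.Lib.Helper22.Cech.SchemeLeray
import Groth.Agent.Lib.Helper22.CohTop.MayerVietoris
import Groth.Agent.Lib.Lead.Pn.Vanish

/-! # Cohomology vanishes above the size of a finite cover by affines with affine intersections
(helper18) -/

set_option autoImplicit false
universe u

open CategoryTheory CategoryTheory.Limits AlgebraicGeometry TopologicalSpace Opposite

namespace Groth.Agent.Lib.Helper18.CV1

theorem foldr_sup_map {α : Type*} [CompleteLattice α] {ι : Type*} (U : ι → α) (l : List ι) :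
    (l.map U).foldr (· ⊔ ·) ⊥ = ⨆ i ∈ l, U i := by
  induction l with
  | nil => simp
  | cons a l ih =>
    rw [List.map_cons, List.foldr_cons, ih]
    simp only [List.mem_cons, iSup_or, iSup_sup_eq, iSup_iSup_eq_left]

/-- If the finite family `U i`, `i ∈ t`, covers `X` and all nonempty finite intersections are
affine, the cohomology of a quasi-coherent module vanishes in degrees `≥ |t|`. -/
theorem subsingleton_HH_of_affine_family (X : Scheme.{u}) (F : X.Modules) [F.IsQuasicoherent]
    {ι : Type*} [DecidableEq ι] (t : Finset ι) (U : ι → X.Opens)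
    (haff : ∀ s : Finset ι, s ⊆ t → s.Nonempty → IsAffineOpen (⨅ i ∈ s, U i))
    (hcov : ⨆ i ∈ t, U i = ⊤) (p : ℕ) (hp : t.card ≤ p) : Subsingleton (Coh.HH X F p) := by
  have key := Groth.Agent.Lib.Helper22.CohTop.subsingleton_HU_foldr_sup (X := X.carrier)
    (Coh.toAb F) (fun V => ∃ s : Finset ι, s ⊆ t ∧ s.Nonempty ∧ V = ⨅ i ∈ s, U i) ?_ ?_
    t.card (t.toList.map U) (by simp) ?_ p hp
  · have hfold : (t.toList.map U).foldr (· ⊔ ·) ⊥ = ⊤ := by
      rw [foldr_sup_map, ← hcov]
      simp only [Finset.mem_toList]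
    rw [hfold] at key
    obtain ⟨e⟩ := Groth.Agent.Lib.Helper22.Cech.nonempty_HU_top_addEquiv_H (X := X.carrier)
      (Coh.toAb F) p
    exact e.symm.toEquiv.subsingleton
  · rintro V W ⟨s, hs, hsn, rfl⟩ ⟨s', hs', _, rfl⟩
    refine ⟨s ∪ s', Finset.union_subset hs hs', hsn.mono Finset.subset_union_left, ?_⟩
    rw [Finset.iInf_union]
  · rintro V ⟨s, hs, hsn, rfl⟩ q
    exact Groth.Agent.Lib.Helper22.Cech.subsingleton_HU_succ_of_isAffineOpen X F _
      (haff s hs hsn) q
  · intro V hV
    rw [List.mem_map] at hV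
    obtain ⟨i, hi, rfl⟩ := hV
    rw [Finset.mem_toList] at hi
    refine ⟨{i}, Finset.singleton_subset_iff.mpr hi, Finset.singleton_nonempty i, ?_⟩
    simp

theorem preimage_iInf_finset {X Y : Scheme.{u}} (f : X ⟶ Y) {ι : Type*} (s : Finset ι)
    (V : ι → Y.Opens) : f ⁻¹ᵁ (⨅ i ∈ s, V i) = ⨅ i ∈ s, f ⁻¹ᵁ V i := by
  classical
  induction s using Finset.induction_on with
  | empty => simp
  | insert a s ha ih =>
    rw [Finset.iInf_insert, Finset.iInf_insert, Scheme.Hom.preimage_inf, ih]

open Groth.Agent.Lib.Lead.Pn in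
/-- a scheme affine over `P^n_R` has no quasi-coherent cohomology in degrees `> n` -/
theorem subsingleton_HH_of_affine_over_projSpace (n : ℕ) (R : Type u) [CommRing R]
    {X : Scheme.{u}} (f : X ⟶ CohB1.ProjSpace n R) [IsAffineHom f]
    (F : X.Modules) [F.IsQuasicoherent] (p : ℕ) (hp : n + 1 ≤ p) :
    Subsingleton (Coh.HH X F p) := by
  classical
  let g : X ⟶ Proj (𝒜 n R) := f
  haveI : IsAffineHom g := ‹IsAffineHom f›
  refine subsingleton_HH_of_affine_family X F (Finset.univ : Finset (ULift.{u} (Fin (n + 1))))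
    (fun i => g ⁻¹ᵁ stdCov n R i) ?_ ?_ p ?_
  · intro s _ hs
    rw [← preimage_iInf_finset]
    exact IsAffineOpen.preimage (isAffineOpen_iInf_stdCov s hs) g
  · simp only [Finset.mem_univ, iSup_pos]
    rw [← Scheme.Hom.preimage_iSup, iSup_stdCov, Scheme.Hom.preimage_top]
  · simpa using hp

end Groth.Agent.Lib.Helper18.CV1
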