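import Mathlib

/-!
# Finiteness of the codimension one points on an affine open where a nonzero function vanishes
-/

set_option autoImplicit false
set_option linter.style.haveILetI false
universe u
open CategoryTheory AlgebraicGeometry TopologicalSpace

namespace Groth.Agent.Lib.Helper18.CodimOne

variable {X : Scheme.{u}}

theorem finite_codimOne_notUnit [IsIntegral X] [IsLocallyNoetherian X] {V : X.Opens}
    (hV : IsAffineOpen V) (p : Γ(X, V)) (hp : p ≠ 0) :
    {x : X | ∃ hx : x ∈ V, ringKrullDim (X.presheaf.stalk x) = 1 ∧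
      ¬ IsUnit (X.presheaf.germ V x hx p)}.Finite := by
  classical
  by_cases hne : Nonempty V
  swap
  · refine Set.Finite.subset Set.finite_empty ?_
    rintro x ⟨hx, -⟩
    exact (hne ⟨⟨x, hx⟩⟩).elim
  haveI := hne
  haveI : IsNoetherianRing Γ(X, V) := IsLocallyNoetherian.component_noetherian ⟨V, hV⟩
  haveI : IsDomain Γ(X, V) := inferInstance
  have hfin := (Ideal.span {p}).finite_minimalPrimes_of_isNoetherianRing
  set F : X → Ideal Γ(X, V) := fun x =>
    if hx : x ∈ V then (hV.primeIdealOf ⟨x, hx⟩).asIdeal else ⊥ with hF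
  have hinj : Set.InjOn F {x : X | x ∈ V} := by
    intro x hx y hy hxy
    simp only [hF, dif_pos (show x ∈ V from hx), dif_pos (show y ∈ V from hy)] at hxy
    have h1 : hV.primeIdealOf ⟨x, hx⟩ = hV.primeIdealOf ⟨y, hy⟩ := PrimeSpectrum.ext hxy
    have h2 := congrArg hV.fromSpec h1
    rw [hV.fromSpec_primeIdealOf, hV.fromSpec_primeIdealOf] at h2
    exact h2
  refine Set.Finite.subset (hfin.preimage (hinj.mono ?_)) ?_
  · intro x hx
    by_contra hxV
    have hx' : F x ∈ (Ideal.span {p}).minimalPrimes := hx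
    have hFx : F x = ⊥ := by simp only [hF]; exact dif_neg hxV
    rw [hFx] at hx'
    have : p ∈ (⊥ : Ideal Γ(X, V)) := hx'.1.2 (Ideal.subset_span rfl)
    exact hp this
  · rintro x ⟨hx, hdim, hnu⟩
    change F x ∈ (Ideal.span {p}).minimalPrimes
    simp only [hF, dif_pos hx]
    letI := X.presheaf.algebra_section_stalk ⟨x, hx⟩
    haveI := hV.isLocalization_stalk ⟨x, hx⟩
    have hpmem : p ∈ (hV.primeIdealOf ⟨x, hx⟩).asIdeal := by
      by_contra hpn
      exact hnu ((IsLocalization.AtPrime.isUnit_to_map_iff (X.presheaf.stalk x)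
        (hV.primeIdealOf ⟨x, hx⟩).asIdeal p).mpr hpn)
    have hht : (hV.primeIdealOf ⟨x, hx⟩).asIdeal.height = 1 := by
      have := IsLocalization.AtPrime.ringKrullDim_eq_height (hV.primeIdealOf ⟨x, hx⟩).asIdeal
        (X.presheaf.stalk x)
      rw [hdim] at this
      exact_mod_cast this.symm
    refine ⟨⟨(hV.primeIdealOf ⟨x, hx⟩).2, (Ideal.span_singleton_le_iff_mem _).mpr hpmem⟩, ?_⟩
    rintro P' ⟨hP', hle'⟩ hle
    by_contra hnle
    have hlt : P' < (hV.primeIdealOf ⟨x, hx⟩).asIdeal := lt_of_le_of_ne hle (fun h => hnle h.ge)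
    haveI := hP'
    have h1 := Ideal.height_strict_mono_of_isPrime hlt
    rw [hht] at h1
    have h0 : P'.height = 0 := by
      have : P'.height < 1 := h1
      exact ENat.lt_one_iff_eq_zero.mp this
    rw [Ideal.height_eq_zero_iff_eq_bot] at h0
    have : p ∈ (⊥ : Ideal Γ(X, V)) := h0 ▸ hle' (Ideal.subset_span rfl)
    exact hp this

end Groth.Agent.Lib.Helper18.CodimOne
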