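import Mathlib

/-! Nakayama's lemma for complete modules (helper18).

`surjective_of_isPrecomplete_of_isHausdorff`: if `M` is `I`-adically precomplete, `N` is
`I`-adically Hausdorff and `f : M → N` is surjective modulo `I`, then `f` is surjective. -/

set_option autoImplicit false

namespace Groth.Agent.Lib.Helper18

variable {R M N : Type*} [CommRing R] [AddCommGroup M] [Module R M] [AddCommGroup N] [Module R N]

lemma exists_approx (I : Ideal R) (f : M →ₗ[R] N)
    (h : LinearMap.range f ⊔ I • (⊤ : Submodule R N) = ⊤) (k : ℕ) (y : N)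
    (hy : y ∈ (I ^ k • ⊤ : Submodule R N)) :
    ∃ x ∈ (I ^ k • ⊤ : Submodule R M), y - f x ∈ (I ^ (k + 1) • ⊤ : Submodule R N) := by
  have h1 : (I ^ k • ⊤ : Submodule R N) =
      Submodule.map f (I ^ k • ⊤ : Submodule R M) ⊔ (I ^ (k + 1) • ⊤ : Submodule R N) := by
    conv_lhs => rw [← h]
    rw [Submodule.smul_sup, Submodule.map_smul'', Submodule.map_top, ← mul_smul, ← pow_succ]
  rw [h1] at hy
  obtain ⟨a, ⟨x, hx, rfl⟩, b, hb, rfl⟩ := Submodule.mem_sup.mp hy
  exact ⟨x, hx, by simpa using hb⟩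

/-- Nakayama for complete modules. -/
theorem surjective_of_isPrecomplete_of_isHausdorff (I : Ideal R) [IsPrecomplete I M]
    [IsHausdorff I N] (f : M →ₗ[R] N)
    (h : LinearMap.range f ⊔ I • (⊤ : Submodule R N) = ⊤) : Function.Surjective f := by
  intro y
  -- the sequence of partial sums, with the property packaged
  have step : ∀ (k : ℕ) (s : M), y - f s ∈ (I ^ k • ⊤ : Submodule R N) →
      ∃ s' : M, s' - s ∈ (I ^ k • ⊤ : Submodule R M) ∧
        y - f s' ∈ (I ^ (k + 1) • ⊤ : Submodule R N) := by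
    intro k s hs
    obtain ⟨x, hx, hx'⟩ := exists_approx I f h k (y - f s) hs
    refine ⟨s + x, by simpa using hx, ?_⟩
    have : y - f (s + x) = y - f s - f x := by rw [map_add]; abel
    rw [this]; exact hx'
  let P : ℕ → Type _ := fun k => {s : M // y - f s ∈ (I ^ k • ⊤ : Submodule R N)}
  have h0 : y - f 0 ∈ (I ^ 0 • ⊤ : Submodule R N) := by simp
  let nxt : ∀ k, P k → P (k + 1) := fun k s =>
    ⟨(step k s.1 s.2).choose, (step k s.1 s.2).choose_spec.2⟩
  have hnxt : ∀ k (s : P k), (nxt k s).1 - s.1 ∈ (I ^ k • ⊤ : Submodule R M) :=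
    fun k s => (step k s.1 s.2).choose_spec.1
  let seq : ∀ k, P k := fun k => Nat.rec (motive := P) ⟨0, h0⟩ nxt k
  have hseq_succ : ∀ k, seq (k + 1) = nxt k (seq k) := fun k => rfl
  let s : ℕ → M := fun k => (seq k).1
  have hs_mem : ∀ k, y - f (s k) ∈ (I ^ k • ⊤ : Submodule R N) := fun k => (seq k).2
  have hs_succ : ∀ k, s (k + 1) - s k ∈ (I ^ k • ⊤ : Submodule R M) := by
    intro k
    change (seq (k + 1)).1 - (seq k).1 ∈ _
    rw [hseq_succ]
    exact hnxt k (seq k)
  have hmono : ∀ {m n : ℕ}, m ≤ n → (I ^ n • ⊤ : Submodule R M) ≤ I ^ m • ⊤ := fun {m n} hmn =>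
    Submodule.smul_mono_left (Ideal.pow_le_pow_right hmn)
  have hcauchy : ∀ {m n}, m ≤ n → s m ≡ s n [SMOD (I ^ m • ⊤ : Submodule R M)] := by
    intro m n hmn
    induction n, hmn using Nat.le_induction with
    | base => rfl
    | succ n hmn ih =>
      refine ih.trans ?_
      rw [SModEq.sub_mem]
      have := hmono hmn (hs_succ n)
      rw [← neg_sub]; exact Submodule.neg_mem _ this
  obtain ⟨L, hL⟩ := IsPrecomplete.prec' (I := I) s hcauchy
  refine ⟨L, ?_⟩
  have : y - f L = 0 := by
    apply IsHausdorff.haus' (I := I)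
    intro n
    rw [SModEq.sub_mem, sub_zero]
    have h1 : s n - L ∈ (I ^ n • ⊤ : Submodule R M) := (SModEq.sub_mem).mp (hL n)
    have h2 : f (s n - L) ∈ (I ^ n • ⊤ : Submodule R N) := by
      have : f (s n - L) ∈ Submodule.map f (I ^ n • ⊤ : Submodule R M) :=
        Submodule.mem_map_of_mem h1
      rw [Submodule.map_smul''] at this
      exact Submodule.smul_mono le_rfl le_top this
    have h3 : y - f L = (y - f (s n)) + f (s n - L) := by rw [map_sub]; abel
    rw [h3]
    exact Submodule.add_mem _ (hs_mem n) h2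
  exact (sub_eq_zero.mp this).symm

end Groth.Agent.Lib.Helper18
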