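import Mathlib
import Groth.Prelude.Def_Cyc
import Groth.Agent.Lib.Helper18.SchDim4
import Groth.Agent.Lib.Helper18.CatHt
import Groth.Agent.Lib.Helper18.LocStalk2
import Groth.Agent.Lib.Helper21.RegularLocal

/-!
# `-dim O_{S,s}` is a dimension function on a scheme with catenary local domains
-/

set_option autoImplicit false
set_option linter.unusedSectionVars false
set_option linter.style.haveILetI false
universe u
open AlgebraicGeometry CategoryTheory TopologicalSpace

namespace Groth.Agent.Lib.Helper18.DFR

open Groth.Agent.Lib.Helper18.LocStalk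

variable {S : Scheme.{u}} [IsLocallyNoetherian S]

theorem isDimFun_neg_dim (hcat : ∀ s : S, CAlg.IsCatenary (S.presheaf.stalk s))
    (hdom : ∀ s : S, IsDomain (S.presheaf.stalk s)) (δS : S → ℤ)
    (hδS : ∀ s : S, ringKrullDim (S.presheaf.stalk s) = ((-δS s).toNat : WithBot ℕ∞) ∧ δS s ≤ 0) :
    Cyc.IsDimFun S δS := by
  intro x y hsp hne
  set A := S.presheaf.stalk y with hA
  haveI := hdom y
  set P : Ideal A := RingHom.ker (Cyc.specMap y x hsp) with hP
  haveI hPp : P.IsPrime := RingHom.ker_isPrime _
  letI alg : Algebra A (S.presheaf.stalk x) := (S.presheaf.stalkSpecializes hsp).hom.toAlgebra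
  haveI hloc : IsLocalization.AtPrime (S.presheaf.stalk x) P :=
    isLocalization_stalkSpecializes y x hsp
  have hdx : ringKrullDim (S.presheaf.stalk x) = P.height :=
    IsLocalization.AtPrime.ringKrullDim_eq_height P (S.presheaf.stalk x)
  have hdy : ringKrullDim A = (IsLocalRing.maximalIdeal A).height :=
    (IsLocalRing.maximalIdeal_height_eq_ringKrullDim).symm
  have hx1 := fromSpecStalk_ker_specMap y x hsp
  have hPm : P ≠ IsLocalRing.maximalIdeal A := by
    intro e
    apply hne
    have h2 : S.fromSpecStalk y (IsLocalRing.closedPoint A) = y := Scheme.fromSpecStalk_closedPoint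
    have h3 : (⟨P, hPp⟩ : PrimeSpectrum A) = IsLocalRing.closedPoint A := PrimeSpectrum.ext e
    exact hx1.symm.trans ((congrArg (fun q => S.fromSpecStalk y q) h3).trans h2)
  have hlt : P < IsLocalRing.maximalIdeal A :=
    lt_of_le_of_ne (IsLocalRing.le_maximalIdeal hPp.ne_top) hPm
  have hht : P.height < (IsLocalRing.maximalIdeal A).height :=
    Ideal.height_strict_mono_of_isPrime hlt
  obtain ⟨hx2, hx3⟩ := hδS x
  obtain ⟨hy2, hy3⟩ := hδS y
  have hPh : (P.height : WithBot ℕ∞) = ((-δS x).toNat : WithBot ℕ∞) := by rw [← hdx, hx2]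
  have hmh : ((IsLocalRing.maximalIdeal A).height : WithBot ℕ∞) = ((-δS y).toNat : WithBot ℕ∞) := by
    rw [← hdy, hy2]
  have hPh' : P.height = ((-δS x).toNat : ℕ∞) := by exact_mod_cast hPh
  have hmh' : (IsLocalRing.maximalIdeal A).height = ((-δS y).toNat : ℕ∞) := by exact_mod_cast hmh
  constructor
  · rw [hPh', hmh'] at hht
    have : (-δS x).toNat < (-δS y).toNat := by exact_mod_cast hht
    omega
  · intro himm
    -- the covering relation
    have hcov : (⟨P, hPp⟩ : PrimeSpectrum A) ⋖ ⟨IsLocalRing.maximalIdeal A, inferInstance⟩ := by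
      refine ⟨hlt, ?_⟩
      intro Q hQ1 hQ2
      set z := S.fromSpecStalk y Q with hz
      have hxz : x ⤳ z := by
        rw [← hx1]
        exact ((PrimeSpectrum.le_iff_specializes _ _).mp hQ1.le).map
          (S.fromSpecStalk y).continuous
      have hzy : z ⤳ y := fromSpecStalk_specializes y Q
      rcases himm z hxz hzy with h1 | h1
      · have := (S.fromSpecStalk y).isEmbedding.injective (h1.trans hx1.symm)
        exact hQ1.ne this.symm
      · have h2 : z = S.fromSpecStalk y (IsLocalRing.closedPoint A) := by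
          rw [Scheme.fromSpecStalk_closedPoint]; exact h1
        have := (S.fromSpecStalk y).isEmbedding.injective h2
        exact hQ2.ne this
    have h1 := Groth.Agent.Lib.Helper18.CatHt.ringKrullDim_quotient_of_covBy A (hcat y) P
      (IsLocalRing.maximalIdeal A) hcov
    have h2 := Groth.Agent.Lib.Helper18.CatHt.height_add_ringKrullDim_quotient A (hcat y)
      (Groth.Agent.Lib.Helper18.CatHt.isEquidim_of_isDomain A) P
    have h3 : ringKrullDim (A ⧸ IsLocalRing.maximalIdeal A) = 0 := by
      haveI : IsField (A ⧸ IsLocalRing.maximalIdeal A) :=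
        (Ideal.Quotient.maximal_ideal_iff_isField_quotient _).mp inferInstance
      exact ringKrullDim_eq_zero_of_isField this
    rw [h1, h3, zero_add, hy2, hPh'] at h2
    have h4 : (((-δS x).toNat : ℕ∞) : WithBot ℕ∞) + 1 = (((-δS y).toNat : ℕ∞) : WithBot ℕ∞) := h2
    have h5 : (-δS x).toNat + 1 = (-δS y).toNat := by exact_mod_cast h4
    omega

end Groth.Agent.Lib.Helper18.DFR
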