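import Mathlib
import Groth.Agent.Lib.Helper18.DimFormula3

/-!
# The dimension formula, part 4: EGA IV 5.6.1 with the weak catenarity hypothesis

* `bijective_case`, `isCatenary_localization_of_ringEquiv`.
* `step_subalgebra`, `inside_induction`: induction over finitely generated subalgebras of `S`.
* `dim_formula_of_catenary_subalgebras`: equality in the dimension formula if `R'[X]` is catenary at
  the relevant primes for every finitely generated subalgebra `R' ⊆ S`.
* `catenary_of_subalgebra_hyp`: the EGA hypothesis on subalgebras of `S[T]` gives that.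
-/

set_option autoImplicit false
set_option linter.unusedSectionVars false
set_option linter.style.haveILetI false
universe u v
open Polynomial

namespace Groth.Agent.Lib.Helper18.DimFormula

open Groth.Agent.Lib.Helper12.Codim

section Bij

/-- the dimension formula for a bijective structure map -/
theorem bijective_case (R S : Type u) [CommRing R] [IsDomain R] [CommRing S] [IsDomain S]
    [Algebra R S] (hb : Function.Bijective (algebraMap R S)) (p : Ideal R) [p.IsPrime]
    (q : Ideal S) [q.IsPrime] [hqp : q.LiesOver p] :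
    (q.height : Cardinal.{u}) + Algebra.trdeg (R ⧸ p) (S ⧸ q) =
      (p.height : Cardinal.{u}) + Algebra.trdeg R S := by
  let e : R ≃+* S := RingEquiv.ofBijective (algebraMap R S) hb
  have hht : p.height = q.height := by
    rw [← e.height_comap q]
    congr 1
    exact hqp.over
  haveI : Algebra.IsAlgebraic R S := ⟨fun s => by
    obtain ⟨r, rfl⟩ := hb.2 s
    exact isAlgebraic_algebraMap r⟩
  haveI : Algebra.IsAlgebraic (R ⧸ p) (S ⧸ q) := ⟨fun s => by
    obtain ⟨s, rfl⟩ := Ideal.Quotient.mk_surjective s
    obtain ⟨r, rfl⟩ := hb.2 s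
    have : Ideal.Quotient.mk q (algebraMap R S r) =
      algebraMap (R ⧸ p) (S ⧸ q) (Ideal.Quotient.mk p r) := rfl
    rw [this]
    exact isAlgebraic_algebraMap _⟩
  rw [trdeg_eq_zero, trdeg_eq_zero, hht]

end Bij

section CatIso

/-- catenarity of localizations transfers along ring isomorphisms -/
theorem isCatenary_localization_of_ringEquiv {B B' : Type u} [CommRing B] [CommRing B']
    (ε : B ≃+* B') (Q : Ideal B) [Q.IsPrime] (Q' : Ideal B') [Q'.IsPrime] (hQ : Q = Q'.comap ε)
    (h : CAlg.IsCatenary (Localization.AtPrime Q')) : CAlg.IsCatenary (Localization.AtPrime Q) := by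
  have hM : Q.primeCompl.map (ε : B →* B') = Q'.primeCompl := by
    ext y
    constructor
    · rintro ⟨x, hx, rfl⟩
      intro hy
      apply hx
      rw [hQ]
      exact hy
    · intro hy
      refine ⟨ε.symm y, ?_, by simp⟩
      intro hx
      apply hy
      rw [hQ] at hx
      have hx' : ε (ε.symm y) ∈ Q' := hx
      simpa using hx'
  let E : Localization.AtPrime Q ≃+* Localization.AtPrime Q' :=
    IsLocalization.ringEquivOfRingEquiv (Localization.AtPrime Q) (Localization.AtPrime Q') ε hM
  exact isCatenary_of_surjective (E.symm : Localization.AtPrime Q' →+* Localization.AtPrime Q)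
    E.symm.surjective h

end CatIso

section Inside

variable (R S : Type u) [CommRing R] [IsDomain R] [IsNoetherianRing R] [CommRing S] [IsDomain S]
  [Algebra R S] [FaithfulSMul R S]

/-- one step between finitely generated subalgebras of `S` -/
theorem step_subalgebra [DecidableEq S] (t : Finset S) (x : S) (q : Ideal S) [hq : q.IsPrime]
    (hcat : ∀ (Q : Ideal (Algebra.adjoin R (t : Set S))[X]) [Q.IsPrime],
      Q.comap (C : _ →+* (Algebra.adjoin R (t : Set S))[X]) = q.under (Algebra.adjoin R (t : Set S)) →
      CAlg.IsCatenary (Localization.AtPrime Q))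
    (h₁ : (q.height : Cardinal.{u}) +
        Algebra.trdeg (Algebra.adjoin R ((insert x t : Finset S) : Set S) ⧸
          q.under (Algebra.adjoin R ((insert x t : Finset S) : Set S))) (S ⧸ q) =
      ((q.under (Algebra.adjoin R ((insert x t : Finset S) : Set S))).height : Cardinal.{u}) +
        Algebra.trdeg (Algebra.adjoin R ((insert x t : Finset S) : Set S)) S) :
    (q.height : Cardinal.{u}) +
        Algebra.trdeg (Algebra.adjoin R (t : Set S) ⧸ q.under (Algebra.adjoin R (t : Set S))) (S ⧸ q) =
      ((q.under (Algebra.adjoin R (t : Set S))).height : Cardinal.{u}) +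
        Algebra.trdeg (Algebra.adjoin R (t : Set S)) S := by
  let R' : Subalgebra R S := Algebra.adjoin R (t : Set S)
  let R₁ : Subalgebra R S := Algebra.adjoin R ((insert x t : Finset S) : Set S)
  have hle : R' ≤ R₁ := Algebra.adjoin_mono (Finset.coe_subset.2 (Finset.subset_insert x t))
  letI alg : Algebra R' R₁ := (Subalgebra.inclusion hle).toRingHom.toAlgebra
  haveI : IsScalarTower R' R₁ S := IsScalarTower.of_algebraMap_eq (fun _ => rfl)
  haveI : FaithfulSMul R' R₁ := (faithfulSMul_iff_algebraMap_injective R' R₁).2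
    (Subalgebra.inclusion_injective hle)
  have hfg : R'.FG := ⟨t, rfl⟩
  haveI : Algebra.FiniteType R R' := (Subalgebra.fg_iff_finiteType _).1 hfg
  haveI hR'N : IsNoetherianRing R' := Algebra.FiniteType.isNoetherianRing R R'
  let p' : Ideal R' := q.under R'
  let p₁ : Ideal R₁ := q.under R₁
  haveI : p'.IsPrime := Ideal.comap_isPrime _ q
  haveI : p₁.IsPrime := Ideal.comap_isPrime _ q
  haveI : p₁.LiesOver p' := ⟨by
    change q.comap (algebraMap R' S) = (q.comap (algebraMap R₁ S)).comap (algebraMap R' R₁)
    rw [Ideal.comap_comap]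
    rfl⟩
  have hx₁ : x ∈ R₁ := Algebra.subset_adjoin (by simp)
  let x₁ : R₁ := ⟨x, hx₁⟩
  let φ : R'[X] →ₐ[R'] R₁ := Polynomial.aeval x₁
  have hφ : Function.Surjective φ := by
    rintro ⟨y, hy⟩
    have hsub : Algebra.adjoin R ((insert x t : Finset S) : Set S) ≤
        (Polynomial.aeval x : R'[X] →ₐ[R'] S).range.restrictScalars R := by
      apply Algebra.adjoin_le
      intro z hz
      rw [Finset.coe_insert, Set.mem_insert_iff] at hz
      rcases hz with rfl | hz
      · exact ⟨X, by simp⟩
      · exact ⟨C (⟨z, Algebra.subset_adjoin hz⟩ : R'), by simp⟩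
    obtain ⟨f, hf⟩ := hsub hy
    refine ⟨f, Subtype.ext ?_⟩
    have h2 := Polynomial.aeval_algebraMap_apply S x₁ f
    change ((Polynomial.aeval x₁ f : R₁) : S) = y
    rw [← hf]
    exact h2.symm
  obtain ⟨_, hstep⟩ := single_step R' R₁ φ hφ p' p₁
  have hQprime : (p₁.comap (φ : R'[X] →+* R₁)).IsPrime := Ideal.comap_isPrime _ p₁
  have hcond : (p₁.comap φ).height ≤ (RingHom.ker φ).height + p₁.height := by
    have hQ : (p₁.comap (φ : R'[X] →+* R₁)).comap (C : R' →+* R'[X]) = q.under R' := by
      rw [Ideal.comap_comap]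
      have : (φ : R'[X] →+* R₁).comp C = algebraMap R' R₁ := by
        ext r
        simp [φ]
      rw [this]
      exact (Ideal.over_def p₁ p').symm
    have hc := hcat (p₁.comap (φ : R'[X] →+* R₁)) hQ
    exact height_comap_le_of_isCatenary_localization (φ : R'[X] →+* R₁) hφ p₁
      (Localization.AtPrime (p₁.comap (φ : R'[X] →+* R₁))) hc
  exact trans_eq R' R₁ S p' p₁ q (hstep hcond) h₁


/-- induction inside `S` over finitely generated subalgebras -/
theorem inside_induction [DecidableEq S] (q : Ideal S) [hq : q.IsPrime]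
    (hcat : ∀ (t : Finset S) (Q : Ideal (Algebra.adjoin R (t : Set S))[X]) [Q.IsPrime],
      Q.comap (C : _ →+* (Algebra.adjoin R (t : Set S))[X]) = q.under (Algebra.adjoin R (t : Set S)) →
      CAlg.IsCatenary (Localization.AtPrime Q)) (s : Finset S) :
    ∀ t : Finset S, Algebra.adjoin R ((t ∪ s : Finset S) : Set S) = ⊤ →
    (q.height : Cardinal.{u}) +
        Algebra.trdeg (Algebra.adjoin R (t : Set S) ⧸ q.under (Algebra.adjoin R (t : Set S))) (S ⧸ q) =
      ((q.under (Algebra.adjoin R (t : Set S))).height : Cardinal.{u}) +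
        Algebra.trdeg (Algebra.adjoin R (t : Set S)) S := by
  induction s using Finset.induction_on with
  | empty =>
    intro t ht
    rw [Finset.union_empty] at ht
    haveI : (q.under (Algebra.adjoin R (t : Set S))).IsPrime := Ideal.comap_isPrime _ q
    refine bijective_case (Algebra.adjoin R (t : Set S)) S ⟨Subtype.val_injective, fun y => ?_⟩ _ q
    exact ⟨⟨y, ht ▸ Algebra.mem_top⟩, rfl⟩
  | insert x s' hx ih =>
    intro t ht
    refine step_subalgebra R S t x q (hcat t) (ih (insert x t) ?_)
    rw [← ht]
    congr 2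
    ext z
    simp only [Finset.mem_union, Finset.mem_insert]
    tauto


/-- the dimension formula from catenarity of the polynomial rings over the finitely generated
subalgebras of `S` at the relevant primes -/
theorem dim_formula_of_catenary_subalgebras [hft : Algebra.FiniteType R S] (p : Ideal R)
    [hp : p.IsPrime] (q : Ideal S) [hq : q.IsPrime] [hqp : q.LiesOver p]
    (hcat : ∀ (t : Finset S) (Q : Ideal (Algebra.adjoin R (t : Set S))[X]) [Q.IsPrime],
      Q.comap (C : _ →+* (Algebra.adjoin R (t : Set S))[X]) = q.under (Algebra.adjoin R (t : Set S)) →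
      CAlg.IsCatenary (Localization.AtPrime Q)) :
    (q.height : Cardinal.{u}) + Algebra.trdeg (R ⧸ p) (S ⧸ q) =
      (p.height : Cardinal.{u}) + Algebra.trdeg R S := by
  classical
  obtain ⟨s, hs⟩ := hft.out
  have h0 := inside_induction R S q hcat s ∅ (by rw [Finset.empty_union]; exact hs)
  let R₀ : Subalgebra R S := Algebra.adjoin R ((∅ : Finset S) : Set S)
  haveI : (q.under R₀).IsPrime := Ideal.comap_isPrime _ q
  haveI : FaithfulSMul R R₀ := (faithfulSMul_iff_algebraMap_injective R R₀).2
    (fun a b h => FaithfulSMul.algebraMap_injective R S (congrArg Subtype.val h))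
  have hb : Function.Bijective (algebraMap R R₀) := by
    refine ⟨FaithfulSMul.algebraMap_injective R R₀, ?_⟩
    rintro ⟨y, hy⟩
    have hy' : y ∈ Algebra.adjoin R ((∅ : Finset S) : Set S) := hy
    rw [Finset.coe_empty, Algebra.adjoin_empty] at hy'
    obtain ⟨r, hr⟩ := Algebra.mem_bot.1 hy'
    exact ⟨r, Subtype.ext hr⟩
  have h1 := bijective_case R R₀ hb p (q.under R₀)
  exact trans_eq R R₀ S p (q.under R₀) q h1 h0

/-- the hypothesis of EGA IV 5.6.1 (catenarity of the local rings of finitely generated subalgebras
of `S[T]` at maximal ideals over `𝔪`) gives the catenarity needed above -/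
theorem catenary_of_subalgebra_hyp [IsLocalRing R] (q : Ideal S) [hq : q.IsPrime]
    [hqm : q.LiesOver (IsLocalRing.maximalIdeal R)]
    (hcat : ∀ A' : Subalgebra R (Polynomial S), A'.FG →
      ∀ (m' : Ideal A') [m'.IsMaximal], m'.LiesOver (IsLocalRing.maximalIdeal R) →
        CAlg.IsCatenary (Localization.AtPrime m'))
    (t : Finset S) (Q : Ideal (Algebra.adjoin R (t : Set S))[X]) [hQp : Q.IsPrime]
    (hQ : Q.comap (C : _ →+* (Algebra.adjoin R (t : Set S))[X]) =
      q.under (Algebra.adjoin R (t : Set S))) :
    CAlg.IsCatenary (Localization.AtPrime Q) := by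
  let R' : Subalgebra R S := Algebra.adjoin R (t : Set S)
  let ι : R'[X] →ₐ[R] S[X] := Polynomial.mapAlgHom R'.val
  have hinj : Function.Injective ι := Polynomial.map_injective _ Subtype.val_injective
  let A' : Subalgebra R S[X] := ι.range
  have hfg : R'.FG := ⟨t, rfl⟩
  haveI : Algebra.FiniteType R R' := (Subalgebra.fg_iff_finiteType _).1 hfg
  haveI : Algebra.FiniteType R R'[X] := Algebra.FiniteType.trans ‹Algebra.FiniteType R R'› inferInstance
  have hFG : A'.FG := by
    have : A' = (⊤ : Subalgebra R R'[X]).map ι := (Algebra.map_top ι).symm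
    rw [this]
    exact Subalgebra.FG.map _ Algebra.FiniteType.out
  let ε : R'[X] ≃ₐ[R] A' := AlgEquiv.ofInjective ι hinj
  let Q_A : Ideal A' := Q.comap (ε.symm : A' →+* R'[X])
  haveI : Q_A.IsPrime := Ideal.comap_isPrime _ _
  obtain ⟨m', hm', hle⟩ := Ideal.exists_le_maximal Q_A (Ideal.IsPrime.ne_top inferInstance)
  have hlies : m'.LiesOver (IsLocalRing.maximalIdeal R) := by
    constructor
    refine (IsLocalRing.maximalIdeal.isMaximal R).eq_of_le ?_ ?_
    · exact (Ideal.comap_isPrime (algebraMap R A') m').ne_top
    · intro r hr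
      apply hle
      change ε.symm (algebraMap R A' r) ∈ Q
      rw [AlgEquiv.commutes]
      have h1 : algebraMap R R' r ∈ q.under R' := by
        change algebraMap R' S (algebraMap R R' r) ∈ q
        rw [← IsScalarTower.algebraMap_apply R R' S]
        exact (Ideal.mem_of_liesOver q (IsLocalRing.maximalIdeal R) r).1 hr
      rw [← hQ] at h1
      exact h1
  have h1 := hcat A' hFG m' hlies
  have h2 : CAlg.IsCatenary (Localization.AtPrime Q_A) :=
    isCatenary_localization_of_le m'.primeCompl Q_A.primeCompl (fun y hy hyQ => hy (hle hyQ))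
      (Localization.AtPrime m') (Localization.AtPrime Q_A) h1
  refine isCatenary_localization_of_ringEquiv ε.toRingEquiv Q Q_A ?_ h2
  ext z
  change z ∈ Q ↔ ε.symm (ε z) ∈ Q
  rw [AlgEquiv.symm_apply_apply]

end Inside

end Groth.Agent.Lib.Helper18.DimFormula
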