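import Mathlib
import Groth.Prelude.Def_Found
import Groth.Agent.Lib.Helper18.AnUnram3
import Groth.Agent.Lib.Helper21.RegularLocal

/-!
# Completion at an analytically unramified prime with DVR localization
-/

set_option autoImplicit false
set_option linter.style.haveILetI false
set_option linter.unusedSectionVars false
universe u
open IsLocalRing

namespace Groth.Agent.Lib.Helper18.DvrCpl

section unif

variable (R : Type u) [CommRing R] [IsNoetherianRing R] (p : Ideal R) [p.IsPrime]
  [IsDomain (Localization.AtPrime p)] [IsDiscreteValuationRing (Localization.AtPrime p)]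

/-- elementwise uniformizer data for a prime with DVR localization (no domain hypothesis) -/
theorem exists_uniformizer : ∃ π : R, π ∈ p ∧
    algebraMap R (Localization.AtPrime p) π ≠ 0 ∧
    ∃ s : R, s ∉ p ∧ ∀ a ∈ p, s * a ∈ Ideal.span {π} := by
  classical
  obtain ⟨ϖ, hϖ⟩ := (IsPrincipalIdealRing.principal (maximalIdeal (Localization.AtPrime p))).principal
  obtain ⟨π, t, rfl⟩ := IsLocalization.exists_mk'_eq p.primeCompl ϖ
  have hmax : maximalIdeal (Localization.AtPrime p) =
      Ideal.span {algebraMap R (Localization.AtPrime p) π} := by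
    rw [hϖ]
    show Ideal.span _ = _
    apply le_antisymm
    · rw [Ideal.span_singleton_le_iff_mem, Ideal.mem_span_singleton']
      refine ⟨IsLocalization.mk' _ 1 t, ?_⟩
      rw [mul_comm, IsLocalization.mul_mk'_eq_mk'_of_mul, mul_one]
    · rw [Ideal.span_singleton_le_iff_mem, Ideal.mem_span_singleton']
      refine ⟨algebraMap R _ t, ?_⟩
      exact IsLocalization.mk'_spec' (Localization.AtPrime p) π t
  have hπp : π ∈ p := by
    rw [← IsLocalization.AtPrime.to_map_mem_maximal_iff (Localization.AtPrime p) p π, hmax]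
    exact Ideal.mem_span_singleton_self _
  have hπ0 : algebraMap R (Localization.AtPrime p) π ≠ 0 := by
    intro h0
    rw [h0, Ideal.span_singleton_zero] at hmax
    exact IsDiscreteValuationRing.not_a_field (Localization.AtPrime p) hmax
  have key : ∀ a : R, a ∈ p → ∃ s : R, s ∉ p ∧ s * a ∈ Ideal.span {π} := by
    intro a ha
    have ha' : algebraMap R (Localization.AtPrime p) a ∈
        Ideal.span {algebraMap R (Localization.AtPrime p) π} := by
      rw [← hmax]
      exact (IsLocalization.AtPrime.to_map_mem_maximal_iff (Localization.AtPrime p) p a).2 ha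
    rw [Ideal.mem_span_singleton'] at ha'
    obtain ⟨z, hz⟩ := ha'
    obtain ⟨b, s, rfl⟩ := IsLocalization.exists_mk'_eq p.primeCompl z
    have h1 : algebraMap R (Localization.AtPrime p) (b * π) =
        algebraMap R (Localization.AtPrime p) (s * a) := by
      rw [map_mul, map_mul, ← hz, ← mul_assoc, IsLocalization.mk'_spec'_mk]
    obtain ⟨u, hu⟩ := (IsLocalization.eq_iff_exists p.primeCompl _).1 h1
    refine ⟨u * s, p.primeCompl.mul_mem u.2 s.2, ?_⟩
    rw [Ideal.mem_span_singleton']
    refine ⟨u * b, ?_⟩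
    rw [mul_assoc, mul_assoc, hu]
  refine ⟨π, hπp, hπ0, ?_⟩
  obtain ⟨G, hG⟩ := (isNoetherianRing_iff_ideal_fg R).1 inferInstance p
  have h2 : ∀ a : R, ∃ s : R, a ∈ p → (s ∉ p ∧ s * a ∈ Ideal.span {π}) := by
    intro a
    by_cases ha : a ∈ p
    · obtain ⟨s, hs⟩ := key a ha
      exact ⟨s, fun _ => hs⟩
    · exact ⟨0, fun h => absurd h ha⟩
  choose f hf using h2
  have hGp : ∀ g ∈ G, g ∈ p := by
    intro g hg
    rw [← hG]
    exact Ideal.subset_span hg
  refine ⟨∏ g ∈ G, f g, ?_, ?_⟩
  · intro hmem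
    rw [Ideal.IsPrime.prod_mem_iff] at hmem
    obtain ⟨g, hg, hfg⟩ := hmem
    exact (hf g (hGp g hg)).1 hfg
  · intro a ha
    rw [← hG] at ha
    refine Submodule.span_induction ?_ ?_ ?_ ?_ ha
    · intro g hg
      obtain ⟨k, hk⟩ := Finset.dvd_prod_of_mem f hg
      rw [hk, mul_comm (f g) k, mul_assoc]
      exact Ideal.mul_mem_left _ _ (hf g (hGp g hg)).2
    · simp
    · intro a b _ _ ha hb
      rw [mul_add]
      exact Ideal.add_mem _ ha hb
    · intro r a _ ha
      rw [smul_eq_mul, mul_left_comm]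
      exact Ideal.mul_mem_left _ _ ha

end unif

section assoc

variable {T : Type u} [CommRing T] [IsNoetherianRing T]

/-- an associated prime of `T/J` with `T/J` reduced is a minimal prime over `J` -/
theorem mem_minimalPrimes_of_mem_associatedPrimes_of_isReduced (J : Ideal T)
    (hred : IsReduced (T ⧸ J)) (q : Ideal T)
    (hq : q ∈ associatedPrimes T (T ⧸ J)) : q ∈ J.minimalPrimes := by
  obtain ⟨hqp, xbar, hqeq⟩ := (isAssociatedPrime_iff).1 hq
  obtain ⟨t, rfl⟩ := Ideal.Quotient.mk_surjective xbar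
  have hmem : ∀ a, a ∈ q ↔ a * t ∈ J := by
    intro a
    rw [hqeq, Submodule.mem_colon_singleton, Submodule.mem_bot]
    have : a • (Ideal.Quotient.mk J t) = Ideal.Quotient.mk J (a * t) := rfl
    rw [this, Ideal.Quotient.eq_zero_iff_mem]
  have htJ : t ∉ J := by
    intro h
    apply hqp.ne_top
    rw [Ideal.eq_top_iff_one, hmem, one_mul]
    exact h
  have hrad : J.IsRadical := (Ideal.isRadical_iff_quotient_reduced J).2 hred
  have hJq : J ≤ q := fun a ha => (hmem a).2 (J.mul_mem_right _ ha)
  have hex : ∃ P0 ∈ J.minimalPrimes, t ∉ P0 := by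
    by_contra hcon
    push Not at hcon
    apply htJ
    rw [← hrad.radical, ← Ideal.sInf_minimalPrimes, Ideal.mem_sInf]
    intro P hP
    exact hcon P hP
  obtain ⟨P0, hP0, htP0⟩ := hex
  haveI : P0.IsPrime := hP0.1.1
  have hqP0 : q ≤ P0 := by
    intro a ha
    have h1 : a * t ∈ P0 := hP0.1.2 ((hmem a).1 ha)
    exact (Ideal.IsPrime.mem_or_mem inferInstance h1).resolve_right htP0
  have hP0q : P0 ≤ q := hP0.2 ⟨hqp, hJq⟩ hqP0
  rw [le_antisymm hqP0 hP0q]
  exact hP0

end assoc

end Groth.Agent.Lib.Helper18.DvrCpl
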