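import Mathlib
import Groth.Prelude.Def_Found
import Groth.Agent.Lib.Helper18.DvrCpl

/-!
# Flat extensions at an unramified prime with DVR localization
-/

set_option autoImplicit false
set_option linter.style.haveILetI false
set_option linter.unusedSectionVars false
universe u
open IsLocalRing

namespace Groth.Agent.Lib.Helper18.DvrCpl

variable (R T : Type u) [CommRing R] [CommRing T] [IsNoetherianRing R] [IsNoetherianRing T]
  [Algebra R T] [Module.Flat R T]
  (p : Ideal R) [p.IsPrime] [IsDomain (Localization.AtPrime p)]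
  [IsDiscreteValuationRing (Localization.AtPrime p)]

/-- a minimal prime over `pT` lies over `p` (going down for flat algebras) -/
theorem liesOver_of_mem_minimalPrimes (q : Ideal T) [q.IsPrime]
    (hq : q ∈ (p.map (algebraMap R T)).minimalPrimes) : q.LiesOver p := by
  have hPQ : p.map (algebraMap R T) ≤ q := hq.1.2
  have hle : p ≤ q.under R := by
    rw [Ideal.under_def, ← Ideal.map_le_iff_le_comap]
    exact hPQ
  by_contra hne
  have hlt : p < q.under R := lt_of_le_of_ne hle (fun h => hne ⟨h⟩)
  obtain ⟨Q', hQ'le, hQ'p, hQ'lo⟩ :=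
    Algebra.HasGoingDown.exists_ideal_le_liesOver_of_lt (R := R) (S := T) q hlt
  have h1 : p.map (algebraMap R T) ≤ Q' := by
    rw [Ideal.map_le_iff_le_comap, ← Ideal.under_def, ← hQ'lo.over]
  have h2 : q ≤ Q' := hq.2 ⟨hQ'p, h1⟩ hQ'le
  have h3 : q = Q' := le_antisymm h2 hQ'le
  exact hne (h3 ▸ hQ'lo)

theorem isDiscreteValuationRing_localization_of_flat
    (hred : IsReduced (T ⧸ p.map (algebraMap R T))) (q : Ideal T) [q.IsPrime]
    (hq : q ∈ associatedPrimes T (T ⧸ p.map (algebraMap R T))) :
    ∃ _ : IsDomain (Localization.AtPrime q), IsDiscreteValuationRing (Localization.AtPrime q) := by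
  set J := p.map (algebraMap R T) with hJ
  have hmin : q ∈ J.minimalPrimes :=
    mem_minimalPrimes_of_mem_associatedPrimes_of_isReduced J hred q hq
  have hrad : J.IsRadical := (Ideal.isRadical_iff_quotient_reduced J).2 hred
  haveI hlo : q.LiesOver p := liesOver_of_mem_minimalPrimes R T p q hmin
  have hover : q.comap (algebraMap R T) = p := hlo.over.symm
  obtain ⟨π, hπp, hπ0, s, hs, hsp⟩ := exists_uniformizer R p
  let B := Localization.AtPrime q
  letI := Localization.AtPrime.algebraOfLiesOver p q
  haveI : Module.Flat (Localization.AtPrime p) B := inferInstance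
  let ϖ : B := algebraMap T B (algebraMap R T π)
  -- `s` becomes a unit in `B`
  have hsq : algebraMap R T s ∉ q := by
    intro h
    apply hs
    rw [← hover]
    exact h
  have hsu : IsUnit (algebraMap T B (algebraMap R T s)) :=
    IsLocalization.map_units B (⟨algebraMap R T s, hsq⟩ : q.primeCompl)
  -- `J B ⊆ (ϖ)`
  have hJB : ∀ j ∈ J, algebraMap T B j ∈ Ideal.span {ϖ} := by
    intro j hj
    refine Submodule.span_induction ?_ ?_ ?_ ?_ hj
    · rintro _ ⟨a, ha, rfl⟩
      have h1 := hsp a ha
      rw [Ideal.mem_span_singleton'] at h1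
      obtain ⟨c, hc⟩ := h1
      have h2 : algebraMap T B (algebraMap R T s) * algebraMap T B (algebraMap R T a) =
          algebraMap T B (algebraMap R T c) * ϖ := by
        rw [← map_mul, ← map_mul, ← map_mul, ← map_mul, hc]
      have h3 : algebraMap T B (algebraMap R T a) =
          ↑(hsu.unit⁻¹) * (algebraMap T B (algebraMap R T c) * ϖ) := by
        rw [← h2, ← mul_assoc, IsUnit.val_inv_mul, one_mul]
      rw [h3, Ideal.mem_span_singleton']
      exact ⟨↑(hsu.unit⁻¹) * algebraMap T B (algebraMap R T c), by ring⟩
    · simp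
    · intro a b _ _ ha hb
      rw [map_add]
      exact Ideal.add_mem _ ha hb
    · intro r a _ ha
      rw [smul_eq_mul, map_mul]
      exact Ideal.mul_mem_left _ _ ha
  -- the maximal ideal is generated by `ϖ`
  have hmax : maximalIdeal B = Ideal.span {ϖ} := by
    apply le_antisymm
    · rw [← Localization.AtPrime.map_eq_maximalIdeal, Ideal.map_le_iff_le_comap]
      intro t ht
      rw [Ideal.mem_comap]
      have hradB := IsLocalization.AtPrime.radical_map_of_mem_minimalPrimes (A := B) q J hmin
      have h1 : algebraMap T B t ∈ (J.map (algebraMap T B)).radical := by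
        rw [hradB]
        exact Ideal.mem_map_of_mem _ ht
      obtain ⟨n, hn⟩ := h1
      have hn' : algebraMap T B (t ^ (n + 1)) ∈ J.map (algebraMap T B) := by
        rw [map_pow, pow_succ]
        exact Ideal.mul_mem_right _ _ hn
      rw [IsLocalization.mem_map_algebraMap_iff q.primeCompl] at hn'
      obtain ⟨⟨⟨j, hj⟩, u⟩, hju⟩ := hn'
      simp only at hju
      rw [← map_mul] at hju
      obtain ⟨u', hu'⟩ := (IsLocalization.eq_iff_exists q.primeCompl _).1 hju
      have h2 : (u' : T) * (u : T) * t ^ (n + 1) ∈ J := by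
        have : (u' : T) * (u : T) * t ^ (n + 1) = u' * (t ^ (n + 1) * u) := by ring
        rw [this, hu']
        exact J.mul_mem_left _ hj
      have h3 : ((u' : T) * (u : T) * t) ^ (n + 1) ∈ J := by
        have : ((u' : T) * (u : T) * t) ^ (n + 1) =
            ((u' : T) * (u : T)) ^ n * ((u' : T) * (u : T) * t ^ (n + 1)) := by ring
        rw [this]
        exact J.mul_mem_left _ h2
      have h4 : (u' : T) * (u : T) * t ∈ J := hrad ⟨n + 1, h3⟩
      have h5 := hJB _ h4
      have huu : IsUnit (algebraMap T B ((u' : T) * (u : T))) :=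
        IsLocalization.map_units B (u' * u)
      rw [map_mul] at h5
      have h6 : algebraMap T B t = ↑(huu.unit⁻¹) * (algebraMap T B ((u' : T) * (u : T)) *
          algebraMap T B t) := by
        rw [← mul_assoc, IsUnit.val_inv_mul, one_mul]
      rw [h6]
      exact Ideal.mul_mem_left _ _ h5
    · rw [Ideal.span_singleton_le_iff_mem]
      apply (IsLocalization.AtPrime.to_map_mem_maximal_iff B q _).2
      show algebraMap R T π ∈ q
      have : π ∈ q.comap (algebraMap R T) := by rw [hover]; exact hπp
      exact this
  -- `ϖ` is a nonzerodivisor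
  have hϖeq : ϖ = algebraMap (Localization.AtPrime p) B
      (algebraMap R (Localization.AtPrime p) π) := by
    rw [← IsScalarTower.algebraMap_apply R (Localization.AtPrime p) B,
      IsScalarTower.algebraMap_apply R T B]
  have hϖreg : IsSMulRegular B ϖ := by
    rw [hϖeq]
    exact IsSMulRegular.of_flat (fun a b hab => mul_left_cancel₀ hπ0 hab)
  have hϖ0 : ϖ ≠ 0 := by
    intro h0
    have := hϖreg (show ϖ • (1 : B) = ϖ • (0 : B) by rw [h0]; simp)
    exact one_ne_zero this
  -- `B` is regular of dimension one
  haveI hregB : IsRegularLocalRing B := by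
    apply IsRegularLocalRing.of_spanFinrank_maximalIdeal_le
    have h1 : (maximalIdeal B).spanFinrank ≤ 1 := by
      rw [hmax]
      have := Submodule.spanFinrank_span_le_ncard_of_finite (R := B) (Set.finite_singleton ϖ)
      simpa using this
    have h2 : (1 : WithBot ℕ∞) ≤ ringKrullDim B := by
      rw [← IsLocalRing.maximalIdeal_height_eq_ringKrullDim]
      have h3 : (maximalIdeal B).height ≠ 0 := by
        intro h0
        rw [Ideal.height_eq_zero_iff] at h0
        have hd := Ideal.disjoint_nonZeroDivisors_of_mem_minimalPrimes h0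
        have hϖm : ϖ ∈ maximalIdeal B := by
          rw [hmax]; exact Ideal.mem_span_singleton_self _
        have hnzd : ϖ ∈ nonZeroDivisors B := by
          rw [mem_nonZeroDivisors_iff_right]
          intro c hc
          rw [mul_comm] at hc
          exact hϖreg (by simpa using hc)
        exact Set.disjoint_left.mp hd hϖm hnzd
      have h4 : (1 : ℕ∞) ≤ (maximalIdeal B).height := ENat.one_le_iff_ne_zero.mpr h3
      exact_mod_cast h4
    calc ((maximalIdeal B).spanFinrank : WithBot ℕ∞) ≤ 1 := by exact_mod_cast h1
      _ ≤ ringKrullDim B := h2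
  haveI hdom : IsDomain B := Groth.Agent.Lib.Helper21.isDomain_of_isRegularLocalRing B
  refine ⟨hdom, ?_⟩
  have hnf : ¬ IsField B := by
    rw [IsLocalRing.isField_iff_maximalIdeal_eq, hmax, Ideal.span_singleton_eq_bot]
    exact hϖ0
  have hprinc : (maximalIdeal B).IsPrincipal := ⟨ϖ, hmax⟩
  exact ((IsDiscreteValuationRing.TFAE B hnf).out 0 4).mpr hprinc

end Groth.Agent.Lib.Helper18.DvrCpl
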