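import Mathlib
import Groth.Agent.Lib.Helper18.Dim1N2b
import Groth.Agent.Lib.Helper6.GeomReduced
import Groth.Agent.Lib.Helper18.AnUnram5
import Groth.Agent.Lib.Helper18.PolyN2c

/-!
# Descent of the Nagata property along separable extensions of discrete valuation rings
-/

set_option autoImplicit false
set_option linter.style.haveILetI false
set_option linter.unusedSectionVars false
universe u
open CAlg TensorProduct IsLocalRing Groth.Agent.Lib.Helper11.Japanese
open Groth.Agent.Lib.Helper20.Nagata

namespace Groth.Agent.Lib.Helper18.Nag

set_option maxHeartbeats 1600000 in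
set_option synthInstance.maxHeartbeats 400000 in
theorem isNagata_of_dvr_ext (A B K L : Type u) [CommRing A] [IsDomain A]
    [IsDiscreteValuationRing A]
    [CommRing B] [IsDomain B] [IsDiscreteValuationRing B] [Algebra A B]
    [IsLocalHom (algebraMap A B)]
    (hinj : Function.Injective (algebraMap A B))
    [Field K] [Field L] [Algebra A K] [IsFractionRing A K] [Algebra B L] [IsFractionRing B L]
    [Algebra K L] [Algebra A L] [IsScalarTower A K L] [IsScalarTower A B L]
    [Algebra.IsSeparable K L] (hB : CAlg.IsNagata B) : CAlg.IsNagata A := by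
  have hdim : ringKrullDim A = 1 := IsDiscreteValuationRing.ringKrullDim_eq_one A
  refine isNagata_of_isN2_of_dim_one A hdim ?_
  haveI : Ring.KrullDimLE 1 A := Ring.krullDimLE_iff.2 hdim.le
  -- flatness
  haveI : Module.IsTorsionFree A B := by
    refine ⟨fun a ha => ?_⟩
    intro b₁ b₂ h
    have ha0 : a ≠ 0 := ha.ne_zero
    have ha' : algebraMap A B a ≠ 0 := fun h0 => ha0 (hinj (by rw [h0, map_zero]))
    simp only [Algebra.smul_def] at h
    exact mul_left_cancel₀ ha' h
  haveI : Module.Flat A B := inferInstance
  haveI : Module.FaithfullyFlat A B := Module.FaithfullyFlat.of_flat_of_isLocalHom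
  haveI : IsNoetherianRing B := hB.1
  apply isN2_of_forall_finite_isN1
  intro A₁ _ _ _ hfin _
  by_cases hinj₁ : Function.Injective (algebraMap A A₁)
  · -- main case
    haveI : IsNoetherianRing A₁ := IsNoetherianRing.of_finite A A₁
    letI : Algebra B (A₁ ⊗[A] B) := Algebra.TensorProduct.rightAlgebra
    haveI : Module.Finite B (A₁ ⊗[A] B) :=
      Module.Finite.equiv (Algebra.TensorProduct.commRight A B A₁).toLinearEquiv
    haveI : IsNoetherianRing (A₁ ⊗[A] B) := IsNoetherianRing.of_finite B _
    -- reducedness
    haveI : IsReduced (A₁ ⊗[A] B) := by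
      let K₁ := FractionRing A₁
      have hAK₁ : Function.Injective (algebraMap A K₁) := by
        rw [IsScalarTower.algebraMap_eq A A₁ K₁]
        exact (IsFractionRing.injective A₁ K₁).comp hinj₁
      letI : Algebra K K₁ := (IsFractionRing.lift hAK₁).toAlgebra
      haveI : IsScalarTower A K K₁ :=
        IsScalarTower.of_algebraMap_eq (fun a => (IsFractionRing.lift_algebraMap hAK₁ a).symm)
      have h1 : IsReduced (L ⊗[K] K₁) :=
        Groth.Agent.Lib.Helper6.isReduced_tensor_of_isSeparable K₁
      have h2 : IsReduced (L ⊗[A] K₁) :=
        isReduced_of_injective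
          (IsLocalization.algebraTensorEquiv (nonZeroDivisors A) K L K₁).symm.toRingEquiv.toRingHom
          (IsLocalization.algebraTensorEquiv (nonZeroDivisors A) K L K₁).symm.injective
      have h3 : IsReduced (K₁ ⊗[A] L) :=
        isReduced_of_injective
          (Algebra.TensorProduct.comm A K₁ L).toRingEquiv.toRingHom
          (Algebra.TensorProduct.comm A K₁ L).injective
      haveI : Module.Flat A K := IsLocalization.flat K (nonZeroDivisors A)
      haveI : Module.Flat A K₁ := Module.Flat.trans A K K₁
      have hBL : Function.Injective (IsScalarTower.toAlgHom A B L) :=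
        IsFractionRing.injective B L
      have hi1 : Function.Injective (Algebra.TensorProduct.map
          (IsScalarTower.toAlgHom A A₁ K₁) (AlgHom.id A B)) := by
        have h5 := Module.Flat.rTensor_preserves_injective_linearMap (M := B)
          (IsScalarTower.toAlgHom A A₁ K₁).toLinearMap (IsFractionRing.injective A₁ K₁)
        have h6 : ⇑(Algebra.TensorProduct.map
            (IsScalarTower.toAlgHom A A₁ K₁) (AlgHom.id A B)) =
            ⇑(LinearMap.rTensor B (IsScalarTower.toAlgHom A A₁ K₁).toLinearMap) := by
          ext e
          induction e using TensorProduct.induction_on with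
          | zero => simp
          | tmul c a => simp
          | add x y hx hy => rw [map_add, map_add, hx, hy]
        rw [h6]
        exact h5
      have hi2 : Function.Injective (Algebra.TensorProduct.map
          (AlgHom.id A K₁) (IsScalarTower.toAlgHom A B L)) := by
        have h5 := Module.Flat.lTensor_preserves_injective_linearMap (M := K₁)
          (IsScalarTower.toAlgHom A B L).toLinearMap hBL
        have h6 : ⇑(Algebra.TensorProduct.map
            (AlgHom.id A K₁) (IsScalarTower.toAlgHom A B L)) =
            ⇑(LinearMap.lTensor K₁ (IsScalarTower.toAlgHom A B L).toLinearMap) := by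
          ext e
          induction e using TensorProduct.induction_on with
          | zero => simp
          | tmul c a => simp
          | add x y hx hy => rw [map_add, map_add, hx, hy]
        rw [h6]
        exact h5
      have h4 : IsReduced (K₁ ⊗[A] B) :=
        isReduced_of_injective (Algebra.TensorProduct.map
          (AlgHom.id A K₁) (IsScalarTower.toAlgHom A B L)).toRingHom hi2
      exact isReduced_of_injective (Algebra.TensorProduct.map
          (IsScalarTower.toAlgHom A A₁ K₁) (AlgHom.id A B)).toRingHom hi1
    haveI : Module.FaithfullyFlat A₁ (A₁ ⊗[A] B) := inferInstance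
    refine isN1_of_faithfullyFlat A₁ (A₁ ⊗[A] B) ?_
    intro q _ _
    have hN : IsNagata (A₁ ⊗[A] B) := isNagata_of_finite B hB _
    exact isN1_of_isN2 _ (hN.2 q)
  · -- `A₁` is a field
    have hker : RingHom.ker (algebraMap A A₁) ≠ ⊥ := by
      intro h
      exact hinj₁ ((RingHom.injective_iff_ker_eq_bot _).2 h)
    haveI : (RingHom.ker (algebraMap A A₁)).IsPrime := RingHom.ker_isPrime _
    haveI hmax : (RingHom.ker (algebraMap A A₁)).IsMaximal :=
      Ideal.isMaximal_of_isPrime_of_ne_bot _ hker
    have hfield : IsField A₁ := by
      haveI : Algebra.IsIntegral A A₁ := Algebra.IsIntegral.of_finite A A₁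
      have h1 : (⊥ : Ideal A₁).IsMaximal := by
        apply Ideal.isMaximal_of_isIntegral_of_isMaximal_comap (R := A) ⊥
        have : (⊥ : Ideal A₁).comap (algebraMap A A₁) = RingHom.ker (algebraMap A A₁) := rfl
        rw [this]
        exact hmax
      exact Ring.isField_iff_maximal_bot.2 h1
    letI := hfield.toField
    haveI : IsIntegrallyClosed A₁ := inferInstance
    exact Groth.Agent.Lib.Helper18.PolyN2.isN1_of_isIntegrallyClosed A₁

end Groth.Agent.Lib.Helper18.Nag
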