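import Mathlib
import Groth.Prelude.Def_Bivar2
import Groth.Prelude.Def_W4stkchowintpicEnv
import Groth.Agent.Lib.Helper18.PPC1
import Groth.Agent.Lib.Helper18.FF8
import Groth.Agent.Lib.Helper18.SetupLft
import Groth.Agent.S6482
import Groth.Agent.S6484

/-!
# Bivariant classes are determined by their restriction to an envelope
-/

set_option autoImplicit false
set_option linter.unusedSectionVars false
set_option linter.style.haveILetI false
universe u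
open CategoryTheory AlgebraicGeometry TopologicalSpace Limits

namespace Groth.Agent.Lib.Helper18.ENV1

open Groth.Agent.Lib.Helper18.FF8 Groth.Agent.Lib.Helper18.PPC1

variable {X Y : Scheme.{u}} {δX : X → ℤ} {δY : Y → ℤ} (hX : Cyc.IsSetup X δX)
  (hY : Cyc.IsSetup Y δY) {f : X ⟶ Y} [LocallyOfFiniteType f] (hδ : Cyc.DeltaCompat f δX δY)
  {p : ℤ} (s₀ : Bivar.Sq f δX δY) [IsProper s₀.g] (hcd : Cyc.IsCompletelyDecomposed s₀.g)
  (t : Bivar.Sq f δX δY)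

include hY in
theorem isSetupY : Cyc.IsSetup t.Y' t.δY' :=
  haveI := t.lft
  Groth.Agent.Lib.Helper18.SetupLft.isSetup_of_locallyOfFiniteType t.g δY hY t.δY' t.compatY

include hX in
theorem isSetupX : Cyc.IsSetup t.X' t.δX' :=
  haveI := t.lft
  haveI : LocallyOfFiniteType t.g' := MorphismProperty.of_isPullback t.isPullback inferInstance
  Groth.Agent.Lib.Helper18.SetupLft.isSetup_of_locallyOfFiniteType t.g' δX hX t.δX' t.compatX

/-- the base change of the envelope to the test scheme -/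
noncomputable abbrev Y2 : Scheme.{u} := pullback s₀.g t.g
noncomputable abbrev p₁ : Y2 s₀ t ⟶ s₀.Y' := pullback.fst s₀.g t.g
noncomputable abbrev p₂ : Y2 s₀ t ⟶ t.Y' := pullback.snd s₀.g t.g
noncomputable abbrev X2 : Scheme.{u} := pullback (p₁ s₀ t) s₀.f'
noncomputable abbrev f2 : X2 s₀ t ⟶ Y2 s₀ t := pullback.fst (p₁ s₀ t) s₀.f'
noncomputable abbrev q2 : X2 s₀ t ⟶ s₀.X' := pullback.snd (p₁ s₀ t) s₀.f'

instance : LocallyOfFiniteType (p₁ s₀ t) :=
  haveI := t.lft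
  MorphismProperty.of_isPullback (IsPullback.of_hasPullback s₀.g t.g).flip inferInstance

instance : LocallyOfFiniteType (q2 s₀ t) :=
  MorphismProperty.of_isPullback (IsPullback.of_hasPullback (p₁ s₀ t) s₀.f') inferInstance

/-- the square over the base change of `f` to the envelope -/
noncomputable abbrev u : Bivar.Sq s₀.f' s₀.δX' s₀.δY' where
  Y' := Y2 s₀ t
  X' := X2 s₀ t
  g := p₁ s₀ t
  f' := f2 s₀ t
  g' := q2 s₀ t
  isPullback := IsPullback.of_hasPullback _ _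
  lft := inferInstance
  δY' := indDelta (p₁ s₀ t) s₀.δY'
  δX' := indDelta (q2 s₀ t) s₀.δX'
  compatY := deltaCompat_indDelta _ _
  compatX := deltaCompat_indDelta _ _

/-- the pasted square -/
noncomputable abbrev t2 : Bivar.Sq f δX δY := s₀.paste (u s₀ t)

theorem w₁ : p₂ s₀ t ≫ t.g = (t2 s₀ t).g := pullback.condition.symm

theorem cond : (f2 s₀ t ≫ p₂ s₀ t) ≫ t.g = (q2 s₀ t ≫ s₀.g') ≫ f := by
  rw [Category.assoc, ← pullback.condition, ← Category.assoc, pullback.condition, Category.assoc,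
    s₀.isPullback.w, Category.assoc]

/-- the induced morphism on the fibre products -/
noncomputable def h2 : X2 s₀ t ⟶ t.X' := t.isPullback.lift _ _ (cond s₀ t)

theorem w₂ : h2 s₀ t ≫ t.f' = (t2 s₀ t).f' ≫ p₂ s₀ t := t.isPullback.lift_fst _ _ _

theorem w₃ : h2 s₀ t ≫ t.g' = (t2 s₀ t).g' := t.isPullback.lift_snd _ _ _

theorem hsq : IsPullback (h2 s₀ t) (t2 s₀ t).f' t.f' (p₂ s₀ t) :=
  IsPullback.of_right (by rw [w₃, w₁]; exact (t2 s₀ t).isPullback.flip) (w₂ s₀ t)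
    t.isPullback.flip

instance : IsProper (p₂ s₀ t) :=
  MorphismProperty.of_isPullback (IsPullback.of_hasPullback s₀.g t.g) inferInstance

instance : IsProper (h2 s₀ t) :=
  MorphismProperty.of_isPullback (hsq s₀ t).flip inferInstance

theorem compat_p₂ : Cyc.DeltaCompat (p₂ s₀ t) (t2 s₀ t).δY' t.δY' :=
  deltaCompat_cancel _ t.g _ _ δY ((w₁ s₀ t) ▸ (t2 s₀ t).compatY) t.compatY

theorem compat_h2 : Cyc.DeltaCompat (h2 s₀ t) (t2 s₀ t).δX' t.δX' :=
  deltaCompat_cancel _ t.g' _ _ δX ((w₃ s₀ t) ▸ (t2 s₀ t).compatX) t.compatX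

include hX hY hcd in
theorem op_eq (c₁ c₂ : Bivar.Cl p f δX δY) (heq : c₁.res s₀ = c₂.res s₀) (k : ℤ)
    (x : ChowOps.CH t.Y' t.δY' k) : c₁.op t k x = c₂.op t k x := by
  obtain ⟨α, hα, rfl⟩ := Bivar.exists_rep x
  have hcd' : Cyc.IsCompletelyDecomposed (p₂ s₀ t) :=
    Groth.Agent.S6484.result Y t.Y' s₀.Y' s₀.g t.g hcd
  obtain ⟨α', hα', hpush⟩ := Groth.Agent.S6482.result t.Y' (Y2 s₀ t) t.δY' (t2 s₀ t).δY'
    (isSetupY hY t) (isSetupY hY (t2 s₀ t)) (p₂ s₀ t) hcd' (compat_p₂ s₀ t) k α hα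
  obtain ⟨β₁, hβ₁, e1, e2⟩ := c₁.push t (t2 s₀ t) (p₂ s₀ t) (h2 s₀ t) (w₁ s₀ t) (w₂ s₀ t)
    (w₃ s₀ t) k α' hα'
  obtain ⟨β₂, hβ₂, e1', e2'⟩ := c₂.push t (t2 s₀ t) (p₂ s₀ t) (h2 s₀ t) (w₁ s₀ t) (w₂ s₀ t)
    (w₃ s₀ t) k α' hα'
  have hres : c₁.op (t2 s₀ t) k = c₂.op (t2 s₀ t) k :=
    congrFun (congrFun (congrArg Bivar.Cl.op heq) (u s₀ t)) k
  have e3 : ChowOps.cl β₁ hβ₁ = ChowOps.cl β₂ hβ₂ := by
    rw [← e1, ← e1', hres]
  have hcl : ChowOps.cl α hα = ChowOps.cl (AlgebraicCycle.map (p₂ s₀ t) (t2 s₀ t).δY' t.δY' α')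
      (Bivar.cycMap_mem_Zk (p₂ s₀ t) (t2 s₀ t).δY' t.δY' k hα') :=
    Bivar.cl_congr hpush.symm _ _
  rw [hcl, e2, e2']
  exact congrArg (pushCH (h2 s₀ t) (t2 s₀ t).δX' t.δX' (isSetupX hX (t2 s₀ t)) (isSetupX hX t)
    (compat_h2 s₀ t) (k - p)) e3

end Groth.Agent.Lib.Helper18.ENV1
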