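import Mathlib
import Groth.Agent.S9501

/-!
# The stalk of a base-changed closed immersion at a point over a point with field stalk
-/

set_option autoImplicit false
set_option linter.style.haveILetI false
universe u
open CategoryTheory AlgebraicGeometry Limits

namespace Groth.Agent.Lib.Helper18.EP1

variable {P Y V P' : Scheme.{u}} (q : P ⟶ Y) (i : V ⟶ Y) (j : P' ⟶ P) (q' : P' ⟶ V)

theorem le_ker (w : j ≫ q = q' ≫ i) (z' : P')
    (hfield : ∀ a : V.presheaf.stalk (q' z'), ¬ IsUnit a → a = 0) :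
    Ideal.map (q.stalkMap (j z')).hom (IsLocalRing.maximalIdeal (Y.presheaf.stalk (q (j z')))) ≤
      RingHom.ker (j.stalkMap z').hom := by
  rw [Ideal.map_le_iff_le_comap]
  intro b hb
  rw [Ideal.mem_comap, RingHom.mem_ker]
  have h1 : (j.stalkMap z').hom ((q.stalkMap (j z')).hom b) = (j ≫ q).stalkMap z' b := by
    rw [Scheme.Hom.stalkMap_comp]; rfl
  rw [h1, Scheme.Hom.stalkMap_congr_hom _ _ w, Scheme.Hom.stalkMap_comp]
  set σ := (Y.presheaf.stalkCongr (.of_eq (w ▸ rfl : (j ≫ q) z' = (q' ≫ i) z'))) with hσ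
  have hbnu : ¬ IsUnit b := (IsLocalRing.mem_maximalIdeal _).mp hb
  have hσloc : IsLocalHom σ.hom.hom := isLocalHom_of_iso σ
  have hb'nu : ¬ IsUnit (σ.hom b) := fun hu => hbnu (hσloc.map_nonunit b hu)
  have hloc : IsLocalHom (i.stalkMap (q' z')).hom := inferInstance
  have hw : ¬ IsUnit (i.stalkMap (q' z') (σ.hom b)) := fun hu => hb'nu (hloc.map_nonunit _ hu)
  have hw0 := hfield _ hw
  change q'.stalkMap z' (i.stalkMap (q' z') (σ.hom b)) = 0
  rw [hw0, map_zero]

theorem ker_le [IsClosedImmersion i] (sq : IsPullback j q' q i) (z' : P') :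
    RingHom.ker (j.stalkMap z').hom ≤
      Ideal.map (q.stalkMap (j z')).hom
        (IsLocalRing.maximalIdeal (Y.presheaf.stalk (q (j z')))) := by
  haveI : IsClosedImmersion j := MorphismProperty.of_isPullback sq.flip inferInstance
  set x := j z' with hx
  set v := q' z' with hv
  have hpt : i v = q x := by
    have := congrArg (fun (f : P' ⟶ Y) => f z') sq.w
    exact this.symm
  set φ := q.stalkMap x with hφ
  set m := IsLocalRing.maximalIdeal (Y.presheaf.stalk (q x)) with hm
  set J := Ideal.map φ.hom m with hJ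
  have hloc : IsLocalHom φ.hom := inferInstanceAs (IsLocalHom (q.stalkMap x).hom)
  have hJle : J ≤ IsLocalRing.maximalIdeal (P.presheaf.stalk x) :=
    ((IsLocalRing.local_hom_TFAE φ.hom).out 0 2).mp hloc
  have hJne : J ≠ ⊤ := fun h =>
    (inferInstance : (IsLocalRing.maximalIdeal (P.presheaf.stalk x)).IsMaximal).ne_top
      (top_le_iff.mp (h ▸ hJle))
  have : Nontrivial (P.presheaf.stalk x ⧸ J) := Ideal.Quotient.nontrivial_iff.mpr hJne
  have : IsLocalRing (P.presheaf.stalk x ⧸ J) :=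
    IsLocalRing.of_surjective' (Ideal.Quotient.mk J) Ideal.Quotient.mk_surjective
  let C : CommRingCat.{u} := CommRingCat.of (P.presheaf.stalk x ⧸ J)
  have : IsLocalRing C := inferInstanceAs (IsLocalRing (P.presheaf.stalk x ⧸ J))
  let π : P.presheaf.stalk x ⟶ C := CommRingCat.ofHom (Ideal.Quotient.mk J)
  have : IsLocalHom π.hom := IsLocalHom.of_surjective _ Ideal.Quotient.mk_surjective
  let σ := Y.presheaf.stalkCongr (.of_eq hpt)
  have hσloc : IsLocalHom σ.hom.hom := isLocalHom_of_iso σ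
  let ψ : Y.presheaf.stalk (i v) →+* C := (σ.hom ≫ φ ≫ π).hom
  have hsurj : Function.Surjective (i.stalkMap v).hom := i.stalkMap_surjective v
  have hψ : RingHom.ker (i.stalkMap v).hom ≤ RingHom.ker ψ := by
    intro a ha
    rw [RingHom.mem_ker] at ha ⊢
    have hanu : ¬ IsUnit a := by
      intro hu
      have := hu.map (i.stalkMap v).hom
      rw [ha] at this
      exact not_isUnit_zero this
    have h2 : ¬ IsUnit (σ.hom.hom a) := fun hu => hanu (hσloc.map_nonunit a hu)
    have h3 : σ.hom.hom a ∈ m := (IsLocalRing.mem_maximalIdeal _).mpr h2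
    change (Ideal.Quotient.mk J) (φ.hom (σ.hom.hom a)) = 0
    rw [Ideal.Quotient.eq_zero_iff_mem]
    exact Ideal.mem_map_of_mem _ h3
  let c : V.presheaf.stalk v ⟶ C := CommRingCat.ofHom
    (RingHom.liftOfSurjective (i.stalkMap v).hom hsurj ⟨ψ, hψ⟩)
  have hc : i.stalkMap v ≫ c = σ.hom ≫ φ ≫ π := by
    ext a
    exact RingHom.liftOfRightInverse_comp_apply (i.stalkMap v).hom (Function.surjInv hsurj)
      (Function.rightInverse_surjInv hsurj) ⟨ψ, hψ⟩ a
  let g₁ : Spec C ⟶ P := Spec.map π ≫ P.fromSpecStalk x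
  let g₂ : Spec C ⟶ V := Spec.map c ≫ V.fromSpecStalk v
  have hg : g₁ ≫ q = g₂ ≫ i := by
    have e1 : g₁ ≫ q = Spec.map (φ ≫ π) ≫ Y.fromSpecStalk (q x) := by
      simp only [g₁, Category.assoc]
      rw [← Scheme.SpecMap_stalkMap_fromSpecStalk, ← Spec.map_comp_assoc]
    have e2 : g₂ ≫ i = Spec.map (i.stalkMap v ≫ c) ≫ Y.fromSpecStalk (i v) := by
      simp only [g₂, Category.assoc]
      rw [← Scheme.SpecMap_stalkMap_fromSpecStalk, ← Spec.map_comp_assoc]
    have e3 : Spec.map σ.hom ≫ Y.fromSpecStalk (i v) = Y.fromSpecStalk (q x) :=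
      Scheme.SpecMap_stalkSpecializes_fromSpecStalk (Inseparable.of_eq hpt).ge
    rw [e1, e2, hc, Spec.map_comp_assoc σ.hom (φ ≫ π), e3]
  let h : Spec C ⟶ P' := sq.lift g₁ g₂ hg
  have hh : h ≫ j = Spec.map π ≫ P.fromSpecStalk x := sq.lift_fst _ _ _
  have hy' : h (IsLocalRing.closedPoint C) = z' := by
    apply j.isEmbedding.injective
    rw [← Scheme.Hom.comp_apply, hh, Scheme.Hom.comp_apply, Spec_closedPoint,
      Scheme.fromSpecStalk_closedPoint]
  intro a ha
  rw [RingHom.mem_ker] at ha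
  obtain ⟨U, hxU, t, rfl⟩ := P.presheaf.exists_germ_eq a
  have hU' : (h ≫ j) (IsLocalRing.closedPoint C) ∈ U := by
    rw [Scheme.Hom.comp_apply, hy']; exact hxU
  have key := Groth.Agent.S9501.germ_stalkClosedPointTo_of_eq π (h ≫ j) hh U hU' hxU t
  rw [Scheme.stalkClosedPointTo_comp] at key
  have hU'' : j (h (IsLocalRing.closedPoint C)) ∈ U := hU'
  have h0 : j.stalkMap (h (IsLocalRing.closedPoint C))
      (P.presheaf.germ U (j (h (IsLocalRing.closedPoint C))) hU'' t) = 0 := by
    rw [Scheme.Hom.germ_stalkMap_apply]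
    rw [Scheme.Hom.germ_stalkMap_apply] at ha
    exact Groth.Agent.S9501.germ_eq_zero_of_eq _ z' _ hy' _ _ _ ha
  have h1 : π (P.presheaf.germ U x hxU t) = 0 := by
    rw [← key]
    change (Scheme.stalkClosedPointTo h) (j.stalkMap (h (IsLocalRing.closedPoint C))
      (P.presheaf.germ U (j (h (IsLocalRing.closedPoint C))) hU'' t)) = 0
    rw [h0, map_zero]
  exact Ideal.Quotient.eq_zero_iff_mem.mp h1

/-- the kernel of the stalk map of a base-changed closed immersion over a point whose local ring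
is a field -/
theorem ker_eq [IsClosedImmersion i] (sq : IsPullback j q' q i) (z' : P')
    (hfield : ∀ a : V.presheaf.stalk (q' z'), ¬ IsUnit a → a = 0) :
    RingHom.ker (j.stalkMap z').hom =
      Ideal.map (q.stalkMap (j z')).hom
        (IsLocalRing.maximalIdeal (Y.presheaf.stalk (q (j z')))) :=
  le_antisymm (ker_le q i j q' sq z') (le_ker q i j q' sq.w z' hfield)

end Groth.Agent.Lib.Helper18.EP1
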