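import Mathlib
import Groth.Prelude.Def_Cyc
import Groth.Agent.Lib.Helper18.SetupLft
import Groth.Agent.Lib.Helper18.RectDepth4
import Groth.Agent.Lib.Helper18.FF2
import Groth.Agent.Lib.Helper14.SchemeFieldStalk
import Groth.Agent.Lib.Helper21.FibDim6
import Groth.Agent.Lib.Helper21.BaseChg2
import Groth.Agent.Lib.Helper21.BaseChg4

/-!
# Exterior products, part 2: schemes locally of finite type over a field
-/

set_option autoImplicit false
set_option linter.style.haveILetI false
universe u
open CategoryTheory AlgebraicGeometry Limits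

namespace Groth.Agent.Lib.Helper18.EP2

section Field

variable (K : Type u) [Field K]

instance subsingleton_spec_field : Subsingleton ↥(Spec (CommRingCat.of K)) :=
  inferInstanceAs (Subsingleton (PrimeSpectrum K))

/-- the spectrum of a field with the zero dimension function -/
theorem isSetup_spec_field : Cyc.IsSetup (Spec (CommRingCat.of K)) (fun _ => 0) := by
  refine ⟨inferInstance, ?_, ?_⟩
  · intro x
    have hF := Groth.Agent.Lib.Helper14.AS.isField_stalk_Spec_field K x
    letI := hF.toField
    exact Groth.Agent.Lib.Helper18.RectDepth.isUniversallyCatenary_of_isRegularLocalRing _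
  · intro x y _ hne
    exact absurd (Subsingleton.elim x y) hne

/-- schemes locally of finite type over a field with the transcendence degree -/
theorem isSetup_of_field {X : Scheme.{u}} (f : X ⟶ Spec (CommRingCat.of K))
    [LocallyOfFiniteType f] (δ : X → ℤ) (hδ : Cyc.DeltaCompat f δ (fun _ => 0)) :
    Cyc.IsSetup X δ :=
  Groth.Agent.Lib.Helper18.SetupLft.isSetup_of_locallyOfFiniteType f _ (isSetup_spec_field K) δ hδ

open Groth.Agent.Lib.Helper21.FibDim in
/-- an integral scheme locally of finite type over a field is equidimensional over it -/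
theorem hasRelDim_of_isIntegral {V : Scheme.{u}} [IsIntegral V]
    (g : V ⟶ Spec (CommRingCat.of K)) [LocallyOfFiniteType g] (δ : V → ℤ)
    (hδ : Cyc.DeltaCompat g δ (fun _ => 0)) (s : ℕ) (hs : δ (genericPoint V) = s) :
    Cyc.HasRelDim g s := by
  intro y T hT
  obtain ⟨z, hz, hdim, hmax⟩ := exists_isGenericPoint_fiber g y T hT
  have hgen : genericPoint V = g.fiberι y z :=
    hmax (genericPoint V) (genericPoint_specializes _) (Subsingleton.elim _ _)
  obtain ⟨n, hn1, hn2⟩ := fibreDimAt_eq_trdeg_of_maximal g (g.fiberι y z) hmax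
  rw [hdim, hn1]
  obtain ⟨m, hm1, hm2⟩ := hδ (g.fiberι y z)
  rw [← hgen, hs] at hm2
  have hmn : m = n := by
    have : ((m : ℕ) : Cardinal.{u}) = n := by rw [← hm1, ← hn2]
    exact_mod_cast this
  have : (s : ℤ) = m := by simpa using hm2
  have hsn : s = n := by omega
  rw [hsn]

/-- in a product over a field, generic points of the fibres of one projection lie over the
generic point of the other factor -/
theorem map_eq_genericPoint_of_maximal {X V P' : Scheme.{u}} [IsIntegral V]
    (f : X ⟶ Spec (CommRingCat.of K)) (gV : V ⟶ Spec (CommRingCat.of K)) (pr : P' ⟶ X)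
    (q' : P' ⟶ V) (sq : IsPullback pr q' f gV) (z' : P')
    (hmax : ∀ y, pr y = pr z' → y ⤳ z' → y = z') : q' z' = genericPoint V := by
  set x := pr z' with hx
  have hleft : IsPullback (pr.fiberι x) (pr.fiberToSpecResidueField x) pr
      (X.fromSpecResidueField x) := IsPullback.of_hasPullback _ _
  have hpb : IsPullback (pr.fiberι x ≫ q') (pr.fiberToSpecResidueField x) gV
      (X.fromSpecResidueField x ≫ f) := hleft.paste_horiz sq.flip
  haveI : Flat (pr.fiberι x ≫ q') :=
    Groth.Agent.Lib.Helper21.BaseChg.flat_of_isPullback_field K (X.residueField x) gV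
      (X.fromSpecResidueField x ≫ f) (pr.fiberι x ≫ q') (pr.fiberToSpecResidueField x) hpb
  have hgen := Flat.generalizingMap (pr.fiberι x ≫ q')
  set t : pr.fiber x := pr.asFiber z' with ht
  have hιt : pr.fiberι x t = z' := pr.fiberι_asFiber z'
  have hsp : genericPoint V ⤳ (pr.fiberι x ≫ q') t := genericPoint_specializes _
  obtain ⟨t', ht't, ht'⟩ := hgen hsp
  have h1 : pr.fiberι x t' ⤳ z' := by
    rw [← hιt]
    exact ht't.map (pr.fiberι x).continuous
  have h2 : pr (pr.fiberι x t') = pr z' := (pr.fiberHomeo x t').2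
  have h3 := hmax _ h2 h1
  rw [← h3]
  exact ht'

end Field

section Alg

/-- the length of a quotient of a quotient ring -/
theorem length_quot_map_of_surjective {B₀ B : Type u} [CommRing B₀] [CommRing B] (σ : B₀ →+* B)
    (hσ : Function.Surjective σ) (J : Ideal B₀) :
    Module.length B (B ⧸ J.map σ) = Module.length B₀ (B₀ ⧸ (J ⊔ RingHom.ker σ)) := by
  symm
  have hcm : (J.map σ).comap σ = J ⊔ RingHom.ker σ := by
    rw [Ideal.comap_map_of_surjective σ hσ J, RingHom.ker_eq_comap_bot]
  have hle : J ⊔ RingHom.ker σ ≤ (J.map σ).comap σ := hcm.ge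
  have hge : (J.map σ).comap σ ≤ J ⊔ RingHom.ker σ := hcm.le
  have hinj : Function.Injective (Ideal.quotientMap (J.map σ) σ hle) :=
    Ideal.quotientMap_injective' (H := hle) hge
  have hsurj : Function.Surjective (Ideal.quotientMap (J.map σ) σ hle) :=
    Ideal.quotientMap_surjective (H := hle) hσ
  refine Groth.Agent.Lib.Helper18.FF2.length_eq_of_semilinear_bijective σ hσ
    (Ideal.quotientMap (J.map σ) σ hle).toAddMonoidHom ⟨hinj, hsurj⟩ ?_
  intro r m
  obtain ⟨m, rfl⟩ := Ideal.Quotient.mk_surjective m
  change Ideal.quotientMap (J.map σ) σ hle (Ideal.Quotient.mk _ (r * m)) =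
    σ r • Ideal.quotientMap (J.map σ) σ hle (Ideal.Quotient.mk _ m)
  rw [Ideal.quotientMap_mk, Ideal.quotientMap_mk, map_mul]
  rfl

end Alg

end Groth.Agent.Lib.Helper18.EP2
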