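import Mathlib
import Groth.Prelude.Def_Cyc
import Groth.Agent.Lib.Helper18.EP1
import Groth.Agent.Lib.Helper18.EP2
import Groth.Agent.Lib.Helper18.AB9
import Groth.Agent.Lib.Helper18.ClImmRat
import Groth.Agent.Lib.Helper18.CL8d
import Groth.Agent.Lib.Helper18.FF8
import Groth.Agent.Lib.Helper18.PC5
import Groth.Agent.Lib.Helper18.RelDimShift
import Groth.Agent.Lib.Helper18.FlatShift

/-!
# Exterior products, part 3: the exterior product with the class of a point
-/

set_option autoImplicit false
set_option linter.unusedSectionVars false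
set_option linter.style.haveILetI false
universe u
open AlgebraicGeometry CategoryTheory TopologicalSpace Limits

namespace Groth.Agent.Lib.Helper18.EP3

open Groth.Agent.Lib.Helper18.KF16 Groth.Agent.Lib.Helper18.KF18 Groth.Agent.Lib.Helper18.AB8

section Push

variable {D X : Scheme.{u}} (i : D ⟶ X) [IsClosedImmersion i]

/-- extension by zero along a closed immersion preserves rational equivalence to zero -/
theorem ratEquivZeroIn_push (δ : X → ℤ) (hX : Cyc.IsSetup X δ) (k : ℤ) (S : Set D) (A : D → ℤ)
    (h : RatEquivZeroIn S (fun d => δ (i d)) k A) :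
    RatEquivZeroIn (Set.range (i : D → X)) δ k (Function.extend (i : D → X) A 0) := by
  classical
  have hinj : Function.Injective (i : D → X) := i.isClosedEmbedding.injective
  obtain ⟨I, ξ, f, hδ, hf, hlf, hsum, -⟩ := h
  let eκ : (d : D) → X.residueField (i d) ≃+* D.residueField d := fun d =>
    RingEquiv.ofBijective (i.residueFieldMap d).hom (ClImm.residueFieldMap_bijective i d)
  have heκ : ∀ (d : D) (z : D.residueField d),
      (i.residueFieldMap d).hom ((eκ d).symm z) = z := fun d z => (eκ d).apply_symm_apply z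
  refine ⟨I, fun j => i (ξ j), fun j => (eκ (ξ j)).symm (f j), hδ, ?_, ?_, ?_, fun j => ⟨_, rfl⟩⟩
  · intro j
    exact (map_ne_zero_iff _ (eκ (ξ j)).symm.injective).mpr (hf j)
  · intro x
    by_cases hx : x ∈ Set.range (i : D → X)
    · obtain ⟨d, rfl⟩ := hx
      obtain ⟨U, hUo, hdU, hfin⟩ := hlf d
      obtain ⟨V, hVo, hVU⟩ := i.isClosedEmbedding.isInducing.isOpen_iff.mp hUo
      refine ⟨V, hVo, ?_, hfin.subset ?_⟩
      · have : d ∈ (i : D → X) ⁻¹' V := by rw [hVU]; exact hdU
        exact this
      · rintro j ⟨z, hz, hzV⟩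
        have hcl : closure {i (ξ j)} = (i : D → X) '' closure {ξ j} := by
          rw [← i.isClosedEmbedding.closure_image_eq, Set.image_singleton]
        rw [hcl] at hz
        obtain ⟨z', hz', rfl⟩ := hz
        refine ⟨z', hz', ?_⟩
        rw [← hVU]
        exact hzV
    · refine ⟨(Set.range (i : D → X))ᶜ, i.isClosedEmbedding.isClosed_range.isOpen_compl, hx, ?_⟩
      convert Set.finite_empty
      ext j
      simp only [Set.mem_setOf_eq, Set.mem_empty_iff_false, iff_false,
        Set.not_nonempty_iff_eq_empty]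
      rw [Set.eq_empty_iff_forall_notMem]
      rintro z ⟨hz, hzc⟩
      exact hzc (ClImm.closure_singleton_subset_range i (ξ j) hz)
  · intro x
    by_cases hx : x ∈ Set.range (i : D → X)
    · obtain ⟨d, rfl⟩ := hx
      rw [hinj.extend_apply, hsum d]
      apply finsum_congr
      intro j
      rw [← ClImm.divFun_eq i δ hX d (ξ j), heκ]
    · rw [Function.extend_apply' _ _ _ hx]
      symm
      apply finsum_eq_zero_of_forall_eq_zero
      intro j
      exact ClImm.divFun_eq_zero_of_notMem_range i δ (ξ j) _ x hx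

end Push

section Prod

variable {X Y P : Scheme.{u}}

/-- the exterior product coefficient function for an arbitrary fibre product square -/
noncomputable def E (p : P ⟶ X) (q : P ⟶ Y) (δX : X → ℤ) (δY : Y → ℤ) (δ : P → ℤ)
    (α : X → ℤ) (β : Y → ℤ) : P → ℤ :=
  fun z => if δ z = δX (p z) + δY (q z) then
    α (p z) * β (q z) *
      ((Module.length (P.presheaf.stalk z)
        (↑(P.presheaf.stalk z) ⧸
          ((IsLocalRing.maximalIdeal (X.presheaf.stalk (p z))).map (p.stalkMap z).hom ⊔
            (IsLocalRing.maximalIdeal (Y.presheaf.stalk (q z))).map (q.stalkMap z).hom))).toNat : ℤ)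
  else 0

variable (K : Type u) [Field K] (f : X ⟶ Spec (CommRingCat.of K)) (g : Y ⟶ Spec (CommRingCat.of K))
  [LocallyOfFiniteType f] [LocallyOfFiniteType g] (p : P ⟶ X) (q : P ⟶ Y)
  (sq : IsPullback p q f g) (δX : X → ℤ) (δY : Y → ℤ) (δ : P → ℤ)
  (hX : Cyc.DeltaCompat f δX (fun _ => 0)) (hY : Cyc.DeltaCompat g δY (fun _ => 0))
  (hP : Cyc.DeltaCompat (p ≫ f) δ (fun _ => 0))

include sq hX hY hP in
set_option maxHeartbeats 1600000 in
/-- the exterior product of a cycle rationally equivalent to zero with a point -/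
theorem point (y : Y) (n : ℕ) (hn : δY y = n) (r : ℤ) (α : X → ℤ)
    (hα0 : RatEquivZeroIn Set.univ δX r α) :
    RatEquivZeroIn (q ⁻¹' closure {y}) δ (r + n) (E p q δX δY δ α (pt y)) := by
  classical
  obtain ⟨V, hVint, i, hi, hiy⟩ := Groth.Agent.Lib.Helper18.CL8d.exists_integral_closure y
  haveI := hVint
  haveI := hi
  let P' := pullback q i
  let j : P' ⟶ P := pullback.fst q i
  let q' : P' ⟶ V := pullback.snd q i
  have sqV : IsPullback j q' q i := IsPullback.of_hasPullback q i
  haveI : IsClosedImmersion j := MorphismProperty.of_isPullback sqV.flip inferInstance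
  have sqK : IsPullback (j ≫ p) q' f (i ≫ g) := (sqV.flip.paste_vert sq.flip).flip
  haveI : LocallyOfFiniteType p := MorphismProperty.of_isPullback sq.flip inferInstance
  haveI : LocallyOfFiniteType (j ≫ p) := inferInstance
  haveI : Flat (i ≫ g) := inferInstance
  haveI : Flat (j ≫ p) := MorphismProperty.of_isPullback sqK.flip inferInstance
  -- dimension functions
  have hXs : Cyc.IsSetup X δX := EP2.isSetup_of_field K f δX hX
  have hPs : Cyc.IsSetup P δ := EP2.isSetup_of_field K (p ≫ f) δ hP
  have hP's : Cyc.IsSetup P' (fun z' => δ (j z')) := ClImm.isSetup j δ hPs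
  have hp : Cyc.DeltaCompat p δ δX := FF8.deltaCompat_cancel p f δ δX _ hP hX
  have hpr : Cyc.DeltaCompat (j ≫ p) (fun z' => δ (j z')) δX :=
    PC5.deltaCompat_comp j p _ δ δX (ClImm.deltaCompat j δ) hp
  have hV : Cyc.DeltaCompat (i ≫ g) (fun v => δY (i v)) (fun _ => 0) :=
    PC5.deltaCompat_comp i g _ δY _ (ClImm.deltaCompat i δY) hY
  have hrelV : Cyc.HasRelDim (i ≫ g) n :=
    EP2.hasRelDim_of_isIntegral K (i ≫ g) _ hV n (by show δY (i (genericPoint V)) = n; rw [hiy, hn])
  have hrel : Cyc.HasRelDim (j ≫ p) n :=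
    Groth.Agent.Lib.Helper21.BaseChg.hasRelDim_of_isPullback sqK.flip n hrelV
  have hc : ∀ z' : P', (∀ w, (j ≫ p) w = (j ≫ p) z' → w ⤳ z' → w = z') →
      δ (j z') = δX ((j ≫ p) z') + (n : ℤ) := fun z' hmax =>
    RelDimShift.shift_of_hasRelDim (j ≫ p) _ δX n hrel hpr z' hmax
  have hpull := AB9.ratEquivZeroIn_pull (j ≫ p) δX (fun z' => δ (j z')) hXs hP's (n : ℤ) hc r
    Set.univ α hα0
  have hpush := ratEquivZeroIn_push j δ hPs (r + n) _ _ hpull
  have hrange : Set.range (j : P' → P) ⊆ q ⁻¹' closure {y} := by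
    rintro _ ⟨z', rfl⟩
    show q (j z') ∈ closure {y}
    have h1 : q (j z') = i (q' z') := congrArg (fun (φ : P' ⟶ Y) => φ z') sqV.w
    rw [h1, ← hiy, ← CL8d.range_eq_closure' i]
    exact ⟨_, rfl⟩
  refine RatEquivZeroIn.congr (RatEquivZeroIn.mono hrange hpush) ?_
  -- the pointwise identity
  have hinj : Function.Injective (j : P' → P) := j.isClosedEmbedding.injective
  have hiinj : Function.Injective (i : V → Y) := i.isClosedEmbedding.injective
  intro z
  by_cases hz : z ∈ Set.range (j : P' → P)
  · obtain ⟨z', rfl⟩ := hz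
    rw [hinj.extend_apply]
    have h1 : q (j z') = i (q' z') := congrArg (fun (φ : P' ⟶ Y) => φ z') sqV.w
    by_cases hy : q (j z') = y
    · -- the generic case
      have hgen : q' z' = genericPoint V := by
        apply hiinj
        rw [← h1, hy, hiy]
      have hfield : ∀ a : V.presheaf.stalk (q' z'), ¬ IsUnit a → a = 0 := by
        rw [hgen]
        intro a ha
        by_contra h0
        exact ha (isUnit_iff_ne_zero.mpr h0)
      have hker := EP1.ker_eq q i j q' sqV z' hfield
      have hsurj : Function.Surjective (j.stalkMap z').hom := j.stalkMap_surjective z'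
      have hlen := EP2.length_quot_map_of_surjective (j.stalkMap z').hom hsurj
        ((IsLocalRing.maximalIdeal (X.presheaf.stalk (p (j z')))).map (p.stalkMap (j z')).hom)
      rw [hker, Ideal.map_map] at hlen
      have hcomp : (j.stalkMap z').hom.comp (p.stalkMap (j z')).hom = ((j ≫ p).stalkMap z').hom := by
        rw [Scheme.Hom.stalkMap_comp]; rfl
      rw [hcomp] at hlen
      unfold E Cyc.pullFun
      have hpt : pt y (q (j z')) = 1 := by rw [hy]; exact pt_self y
      have hδy : δY (q (j z')) = n := by rw [hy, hn]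
      rw [hpt, hδy, mul_one]
      by_cases hcnd : δ (j z') = δX (p (j z')) + (n : ℤ)
      · rw [if_pos hcnd,
          if_pos (show (fun z' => δ (j z')) z' = δX ((j ≫ p) z') + (n : ℤ) from hcnd)]
        congr 2
        exact congrArg ENat.toNat hlen.symm
      · rw [if_neg hcnd,
          if_neg (show ¬ ((fun z' => δ (j z')) z' = δX ((j ≫ p) z') + (n : ℤ)) from hcnd)]
    · -- the special case: both sides vanish
      have hE : E p q δX δY δ α (pt y) (j z') = 0 := by
        unfold E
        rw [pt_ne hy]
        simp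
      rw [hE]
      unfold Cyc.pullFun
      rw [if_neg]
      intro hcnd
      apply hy
      have hmax := (FlatShift.delta_le_of_shift (j ≫ p) δX (fun z' => δ (j z')) hP's.2.2 (n : ℤ) hc
        z').2 hcnd
      have := EP2.map_eq_genericPoint_of_maximal K f (i ≫ g) (j ≫ p) q' sqK z' hmax
      rw [h1, this, hiy]
  · rw [Function.extend_apply' _ _ _ hz]
    have hy : q z ≠ y := by
      intro hy
      apply hz
      obtain ⟨z', hz'1, -⟩ := Scheme.Pullback.exists_preimage_pullback (f := q) (g := i) z
        (genericPoint V) (by rw [hy, hiy])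
      exact ⟨z', hz'1⟩
    unfold E
    rw [pt_ne hy]
    simp

end Prod

end Groth.Agent.Lib.Helper18.EP3
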