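import Mathlib
import Groth.Prelude.Def_Cyc
import Groth.Agent.Lib.Helper18.EP3

/-!
# Exterior products, part 4: the exterior product with a cycle rationally equivalent to zero
-/

set_option autoImplicit false
set_option linter.unusedSectionVars false
set_option linter.style.haveILetI false
universe u
open AlgebraicGeometry CategoryTheory TopologicalSpace Limits

namespace Groth.Agent.Lib.Helper18.EP4

open Groth.Agent.Lib.Helper18.KF16 Groth.Agent.Lib.Helper18.KF18 Groth.Agent.Lib.Helper18.AB8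
  Groth.Agent.Lib.Helper18.EP3

theorem ratEquivZeroIn_univ_of_ratEquivZero {X : Scheme.{u}} {δ : X → ℤ} {k : ℤ}
    {α : AlgebraicCycle X ℤ} (h : Cyc.RatEquivZero δ k α) : RatEquivZeroIn Set.univ δ k ⇑α := by
  obtain ⟨ι, ξ, f, h1, h2, h3, h4⟩ := h
  exact ⟨ι, ξ, f, h1, h2, h3, h4, fun _ => trivial⟩

variable {X Y P : Scheme.{u}}
  (K : Type u) [Field K] (f : X ⟶ Spec (CommRingCat.of K)) (g : Y ⟶ Spec (CommRingCat.of K))
  [LocallyOfFiniteType f] [LocallyOfFiniteType g] (p : P ⟶ X) (q : P ⟶ Y)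
  (sq : IsPullback p q f g) (δX : X → ℤ) (δY : Y → ℤ) (δ : P → ℤ)
  (hX : Cyc.DeltaCompat f δX (fun _ => 0)) (hY : Cyc.DeltaCompat g δY (fun _ => 0))
  (hP : Cyc.DeltaCompat (p ≫ f) δ (fun _ => 0))

include sq hX hY hP in
/-- the exterior product of a cycle rationally equivalent to zero with any cycle -/
theorem main (r s : ℤ) (α : X → ℤ) (hα0 : RatEquivZeroIn Set.univ δX r α)
    (β : AlgebraicCycle Y ℤ) (hβ : β ∈ Cyc.Zk Y δY s) :
    RatEquivZeroIn Set.univ δ (r + s) (E p q δX δY δ α ⇑β) := by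
  classical
  haveI : LocallyOfFiniteType p := MorphismProperty.of_isPullback sq.flip inferInstance
  have hPs : Cyc.IsSetup P δ := EP2.isSetup_of_field K (p ≫ f) δ hP
  let J := {y : Y // β y ≠ 0}
  have hJ : ∀ y : J, ∃ n : ℕ, δY y.1 = n ∧ (n : ℤ) = s := by
    intro y
    obtain ⟨n, -, hn⟩ := hY y.1
    have hs : δY y.1 = s := by
      by_contra h
      exact y.2 (hβ y.1 h)
    have hn' : δY y.1 = n := by simpa using hn
    exact ⟨n, hn', by rw [← hn', hs]⟩
  have hA : ∀ y : J, RatEquivZeroIn (q ⁻¹' closure {y.1}) δ (r + s)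
      (E p q δX δY δ α (pt y.1)) := by
    intro y
    obtain ⟨n, hn1, hn2⟩ := hJ y
    rw [← hn2]
    exact point K f g p q sq δX δY δ hX hY hP y.1 n hn1 r α hα0
  have hcl : ∀ y : J, IsClosed (q ⁻¹' closure {y.1}) := fun y =>
    isClosed_closure.preimage q.continuous
  have hlf : ∀ z₀ : P, ∃ U : Set P, IsOpen U ∧ z₀ ∈ U ∧
      {y : J | (q ⁻¹' closure {y.1} ∩ U).Nonempty}.Finite := by
    intro z₀
    obtain ⟨_, ⟨W, hW, rfl⟩, hzW, -⟩ :=
      Y.isBasis_affineOpens.exists_subset_of_mem_open (Set.mem_univ (q z₀)) isOpen_univ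
    have hWa : IsAffineOpen W := hW
    refine ⟨q ⁻¹' (W : Set Y), W.isOpen.preimage q.continuous, hzW, ?_⟩
    have hfin := AB5.finite_inter_support β (W : Set Y) hWa.isCompact
    refine (hfin.preimage (Subtype.val_injective.injOn)).subset ?_
    rintro y ⟨z, hz1, hz2⟩
    have hsp : y.1 ⤳ q z := specializes_iff_mem_closure.mpr hz1
    exact ⟨hsp.mem_open W.isOpen hz2, y.2⟩
  have hfs := ratEquivZeroIn_finsum hPs (fun y : J => q ⁻¹' closure {y.1}) hcl hlf (r + s)
    (fun y => β y.1) (fun y => E p q δX δY δ α (pt y.1)) hA Set.univ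
    (fun _ => Set.subset_univ _)
  refine RatEquivZeroIn.congr hfs ?_
  intro z
  by_cases hb : β (q z) = 0
  · have h1 : E p q δX δY δ α ⇑β z = 0 := by
      unfold E
      rw [hb]
      simp
    rw [h1]
    symm
    apply finsum_eq_zero_of_forall_eq_zero
    intro y
    have hne : q z ≠ y.1 := by
      intro h
      exact y.2 (h ▸ hb)
    have : E p q δX δY δ α (pt y.1) z = 0 := by
      unfold E
      rw [pt_ne hne]
      simp
    rw [this, mul_zero]
  · have hsingle := finsum_eq_single (fun y : J => β y.1 * E p q δX δY δ α (pt y.1) z) ⟨q z, hb⟩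
      (by
        intro y hy
        have hne : q z ≠ y.1 := by
          intro h
          apply hy
          exact Subtype.ext h.symm
        have : E p q δX δY δ α (pt y.1) z = 0 := by
          unfold E
          rw [pt_ne hne]
          simp
        show β y.1 * E p q δX δY δ α (pt y.1) z = 0
        rw [this, mul_zero])
    rw [hsingle]
    show E p q δX δY δ α ⇑β z = β (q z) * E p q δX δY δ α (pt (q z)) z
    unfold E
    rw [pt_self]
    split_ifs
    · ring
    · ring

end Groth.Agent.Lib.Helper18.EP4
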