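import Mathlib
import Groth.Prelude.Def_Cyc
import Groth.Prelude.Def_W4stkchowintpicEnv
import Groth.Agent.Lib.Helper18.EX2

/-!
# Lifting rational equivalences along an envelope
-/

set_option autoImplicit false
set_option linter.unusedSectionVars false
set_option linter.style.haveILetI false
universe u
open AlgebraicGeometry CategoryTheory TopologicalSpace

namespace Groth.Agent.Lib.Helper18.EX3

open Groth.Agent.Lib.Helper18.CL10 Groth.Agent.Lib.Helper18.EX1 Groth.Agent.Lib.Helper18.EX2

section Triv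

variable {X Y : Scheme.{u}} (f : Y ⟶ X)

/-- a trivial residue field extension has degree one -/
theorem residueDegree_eq_one (y : Y) (hs : Function.Surjective (f.residueFieldMap y).hom) :
    f.residueDegree y = 1 := by
  let alg : Algebra (X.residueField (f y)) (Y.residueField y) :=
    (f.residueFieldMap y).hom.toAlgebra
  have hsurj : Function.Surjective (algebraMap (X.residueField (f y)) (Y.residueField y)) := hs
  have hinj : Function.Injective (algebraMap (X.residueField (f y)) (Y.residueField y)) :=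
    RingHom.injective _
  change Module.finrank (X.residueField (f y)) (Y.residueField y) = 1
  have e : (X.residueField (f y)) ≃ₗ[X.residueField (f y)] (Y.residueField y) :=
    LinearEquiv.ofBijective (Algebra.linearMap _ _) ⟨hinj, hsurj⟩
  rw [← e.finrank_eq, Module.finrank_self]

/-- a trivial residue field extension preserves the dimension function -/
theorem delta_eq_of_surjective (δ : X → ℤ) (δY : Y → ℤ) (hδ : Cyc.DeltaCompat f δY δ) (y : Y)
    (hs : Function.Surjective (f.residueFieldMap y).hom) : δY y = δ (f y) := by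
  let alg : Algebra (X.residueField (f y)) (Y.residueField y) :=
    (f.residueFieldMap y).hom.toAlgebra
  have hsurj : Function.Surjective (algebraMap (X.residueField (f y)) (Y.residueField y)) := hs
  obtain ⟨n, hn, hδn⟩ := hδ y
  have halg : Algebra.IsAlgebraic (X.residueField (f y)) (Y.residueField y) :=
    ⟨fun z => by obtain ⟨w, rfl⟩ := hsurj z; exact isAlgebraic_algebraMap w⟩
  have h0 : Algebra.trdeg (X.residueField (f y)) (Y.residueField y) = 0 := trdeg_eq_zero
  have hn0 : n = 0 := by
    have : ((n : ℕ) : Cardinal) = 0 := by rw [← hn]; exact h0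
    exact_mod_cast this
  rw [hδn, hn0]; simp

/-- the norm of the image of an element under a trivial residue field extension -/
theorem normGen_residueFieldMap (y : Y) (hs : Function.Surjective (f.residueFieldMap y).hom)
    (a : X.residueField (f y)) : Cyc.normGen f y ((f.residueFieldMap y).hom a) = a := by
  have h1 := residueDegree_eq_one f y hs
  unfold Cyc.normGen
  letI := (f.residueFieldMap y).hom.toAlgebra
  have h2 : Module.finrank (X.residueField (f y)) (Y.residueField y) = 1 := h1
  have := Algebra.norm_algebraMap (R := X.residueField (f y)) (S := Y.residueField y) a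
  rw [h2, pow_one] at this
  exact this

end Triv

section Lift

variable {X Y : Scheme.{u}} (δ : X → ℤ) (δY : Y → ℤ) (hX : Cyc.IsSetup X δ)
  (hY : Cyc.IsSetup Y δY) (f : Y ⟶ X) [IsProper f] (hcd : Cyc.IsCompletelyDecomposed f)
  (hδ : Cyc.DeltaCompat f δY δ)

include hX hY hcd hδ in
/-- a cycle rationally equivalent to zero on the target of an envelope is the pushforward of a
cycle rationally equivalent to zero -/
theorem exists_lift_ratEquivZero (k : ℤ) (α : AlgebraicCycle X ℤ)
    (h0 : Cyc.RatEquivZero δ k α) :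
    ∃ ε : AlgebraicCycle Y ℤ, Cyc.RatEquivZero δY k ε ∧ AlgebraicCycle.map f δY δ ε = α := by
  classical
  obtain ⟨I, ξ, r, hδξ, hr, hlf, hsum⟩ := h0
  choose σ hσ1 hσ2 using hcd
  let ξ' : I → Y := fun i => σ (ξ i)
  let r₀ : (i : I) → X.residueField (f (ξ' i)) := fun i =>
    (X.residueFieldCongr (hσ1 (ξ i)).symm).hom (r i)
  let r' : (i : I) → Y.residueField (ξ' i) := fun i => (f.residueFieldMap (ξ' i)).hom (r₀ i)
  have hr₀ : ∀ i, r₀ i ≠ 0 := fun i => (map_ne_zero_iff _ (RingHom.injective _)).mpr (hr i)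
  have hr' : ∀ i, r' i ≠ 0 := fun i => (map_ne_zero_iff _ (RingHom.injective _)).mpr (hr₀ i)
  have hdim : ∀ i, δY (ξ' i) = δ (f (ξ' i)) := fun i =>
    delta_eq_of_surjective f δ δY hδ (ξ' i) (hσ2 (ξ i))
  have hδξ' : ∀ i, δY (ξ' i) = k + 1 := by
    intro i
    rw [hdim i, hσ1 (ξ i), hδξ i]
  have hlf' : ∀ y : Y, ∃ U : Set Y, IsOpen U ∧ y ∈ U ∧
      {i | (closure {ξ' i} ∩ U).Nonempty}.Finite := by
    intro y
    obtain ⟨U, hU, hyU, hfin⟩ := hlf (f y)
    refine ⟨f ⁻¹' U, hU.preimage f.continuous, hyU, hfin.subset ?_⟩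
    rintro i ⟨z, hz1, hz2⟩
    refine ⟨f z, ?_, hz2⟩
    have h2 := image_closure_subset_closure_image f.continuous ⟨z, hz1, rfl⟩
    rw [Set.image_singleton] at h2
    have : f (ξ' i) = ξ i := hσ1 (ξ i)
    rwa [this] at h2
  refine ⟨ratCycle δY hY ξ' r' hr' hlf', ratCycle_ratEquivZero δY hY ξ' r' hr' hlf' k hδξ', ?_⟩
  ext x
  rw [map_eq_finsum δY δ f hY ξ' r' hr' hlf' _ (fun y => rfl) x, hsum x]
  apply finsum_congr
  intro i
  have h1 := map_divCycle_norm δY δ hY hX f hδ (ξ' i) (r' i) (hr' i)
    (divCycle δY hY (ξ' i) (r' i) (hr' i)) rfl (hdim i)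
  rw [h1, normGen_residueFieldMap f (ξ' i) (hσ2 (ξ i)) (r₀ i),
    divFun_congr δ (ξ i) (f (ξ' i)) (hσ1 (ξ i)) (r₀ i)]
  have : (X.residueFieldCongr (hσ1 (ξ i))).hom (r₀ i) = r i :=
    (rfc_rfc (hσ1 (ξ i)).symm (hσ1 (ξ i)) (r i)).trans (rfc_self _ (r i))
  rw [this]

end Lift

end Groth.Agent.Lib.Helper18.EX3
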