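import Mathlib
import Groth.Prelude.Def_Cyc
import Groth.Prelude.Def_W4stkchowintpicEnv
import Groth.Agent.S6484
import Groth.Agent.Lib.Helper18.EX3

/-!
# Cycle-level exactness for envelopes
-/

set_option autoImplicit false
set_option linter.unusedSectionVars false
set_option linter.style.haveILetI false
universe u
open AlgebraicGeometry CategoryTheory TopologicalSpace
open CategoryTheory.Limits

namespace Groth.Agent.Lib.Helper18.EX4

open Groth.Agent.Lib.Helper18.EX3

/-- points of fibre products with controlled residue fields -/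
theorem exists_point {X X' Y : Scheme.{u}} (f : Y ⟶ X) (g : X' ⟶ X) (y : Y) (x' : X')
    (hy : g x' = f y) (hsurj : Function.Surjective (g.residueFieldMap x').hom) :
    ∃ z : ↥(pullback f g), pullback.fst f g z = y ∧ pullback.snd f g z = x' ∧
      Function.Surjective ((pullback.fst f g).residueFieldMap z).hom := by
  have hbij : Function.Bijective (g.residueFieldMap x').hom :=
    ⟨(g.residueFieldMap x').hom.injective, hsurj⟩
  let e : X.residueField (g x') ≃+* X'.residueField x' := RingEquiv.ofBijective _ hbij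
  let K : Type u := Y.residueField y
  let φ : Y.residueField y ⟶ .of K := 𝟙 _
  let ψ : X'.residueField x' ⟶ .of K :=
    CommRingCat.ofHom e.symm.toRingHom ≫ (X.residueFieldCongr hy).hom ≫ f.residueFieldMap y ≫ φ
  have he : g.residueFieldMap x' ≫ CommRingCat.ofHom e.symm.toRingHom = 𝟙 _ := by
    ext z
    exact e.symm_apply_apply z
  let s : Spec (.of K) ⟶ X' := Spec.map ψ ≫ X'.fromSpecResidueField x'
  let t : Spec (.of K) ⟶ Y := Spec.map φ ≫ Y.fromSpecResidueField y
  have hst : t ≫ f = s ≫ g := by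
    symm
    dsimp only [s, t, ψ]
    rw [Category.assoc, Category.assoc, ← Scheme.Hom.SpecMap_residueFieldMap_fromSpecResidueField,
      ← Scheme.Hom.SpecMap_residueFieldMap_fromSpecResidueField, ← Spec.map_comp_assoc,
      ← Spec.map_comp_assoc, ← Category.assoc (g.residueFieldMap x'), he, Category.id_comp,
      Spec.map_comp, Category.assoc, Scheme.residueFieldCongr_fromSpecResidueField]
  let l : Spec (.of K) ⟶ pullback f g := pullback.lift t s hst
  have hl : l ≫ pullback.fst f g = t := pullback.lift_fst _ _ _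
  have hl2 : l ≫ pullback.snd f g = s := pullback.lift_snd _ _ _
  obtain ⟨h1, h2⟩ := Groth.Agent.S6484.aux l (pullback.fst f g) y φ (fun z => ⟨z, rfl⟩) hl
  refine ⟨_, h1, ?_, h2⟩
  rw [← Scheme.Hom.comp_apply, hl2, Scheme.Hom.comp_apply]
  exact Scheme.fromSpecResidueField_apply _ _

section Main

variable {X Y : Scheme.{u}} (δ : X → ℤ) (δY : Y → ℤ) (f : Y ⟶ X) [IsProper f]
  (hcd : Cyc.IsCompletelyDecomposed f) (hδ : Cyc.DeltaCompat f δY δ)
  (δ2 : ↥(pullback f f) → ℤ) (hδ2 : Cyc.DeltaCompat (pullback.fst f f) δ2 δY)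

include hcd hδ hδ2 in
/-- cycle-level exactness of `Z_k(Y ×_X Y) → Z_k(Y) → Z_k(X)` for an envelope -/
theorem exists_cycle (k : ℤ) (β : AlgebraicCycle Y ℤ) (hβ : β ∈ Cyc.Zk Y δY k)
    (h0 : AlgebraicCycle.map f δY δ β = 0) :
    ∃ γ : AlgebraicCycle (pullback f f) ℤ, γ ∈ Cyc.Zk (pullback f f) δ2 k ∧
      AlgebraicCycle.map (pullback.fst f f) δ2 δY γ = β ∧
      AlgebraicCycle.map (pullback.snd f f) δ2 δY γ = 0 := by
  classical
  choose σ hσ1 hσ2 using hcd
  have hpt : ∀ y : Y, ∃ z : ↥(pullback f f), pullback.fst f f z = y ∧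
      pullback.snd f f z = σ (f y) ∧
      Function.Surjective ((pullback.fst f f).residueFieldMap z).hom :=
    fun y => exists_point f f y (σ (f y)) (hσ1 (f y)) (hσ2 (f y))
  choose w hw1 hw2 hw3 using hpt
  set p1 := pullback.fst f f with hp1
  set p2 := pullback.snd f f with hp2
  have hd1 : ∀ y, δ2 (w y) = δY y := by
    intro y
    have := delta_eq_of_surjective p1 δY δ2 hδ2 (w y) (hw3 y)
    rw [this, hw1]
  have hdeg1 : ∀ y, p1.residueDegree (w y) = 1 := fun y => residueDegree_eq_one p1 (w y) (hw3 y)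
  have hdσ : ∀ x, δY (σ x) = δ x := by
    intro x
    have := delta_eq_of_surjective f δ δY hδ (σ x) (hσ2 x)
    rw [this, hσ1]
  have hdegσ : ∀ x, f.residueDegree (σ x) = 1 := fun x => residueDegree_eq_one f (σ x) (hσ2 x)
  -- the residue degrees of the second projection
  have hdeg2 : ∀ y, p2.residueDegree (w y) = f.residueDegree y := by
    intro y
    have e : (p1 ≫ f).residueDegree (w y) = (p2 ≫ f).residueDegree (w y) :=
      congrArg (fun h => Scheme.Hom.residueDegree h (w y)) pullback.condition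
    rw [Groth.Agent.Lib.Helper18.CycMap.residueDegree_comp,
      Groth.Agent.Lib.Helper18.CycMap.residueDegree_comp, hdeg1, mul_one] at e
    have e2 : f.residueDegree (p2 (w y)) = 1 := by rw [hw2]; exact hdegσ _
    rw [e2, one_mul, hw1] at e
    exact e.symm
  have hc2 : ∀ y, AlgebraicCycle.mapCoeff p2 δ2 δY (w y) = AlgebraicCycle.mapCoeff f δY δ y := by
    intro y
    unfold AlgebraicCycle.mapCoeff
    have e1 : p2.base (w y) = σ (f y) := hw2 y
    have e2 : f.base y = f y := rfl
    rw [e1, e2, hd1, hdσ, hdeg2]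
  let γf : ↥(pullback f f) → ℤ := fun z => if w (p1 z) = z then β (p1 z) else 0
  have hsupp : Function.support γf ⊆ w '' (Function.support β) := by
    intro z hz
    simp only [Function.mem_support, γf] at hz
    split_ifs at hz with h
    · exact ⟨p1 z, hz, h⟩
    · exact absurd rfl hz
  have hlf : ∀ z ∈ (Set.univ : Set ↥(pullback f f)), ∃ t ∈ nhds z,
      Set.Finite (t ∩ Function.support γf) := by
    intro z _
    obtain ⟨t, ht, hfin⟩ := β.supportLocallyFiniteWithinDomain' (p1 z) trivial
    refine ⟨p1 ⁻¹' t, p1.continuous.continuousAt ht, ?_⟩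
    refine (hfin.image w).subset ?_
    rintro z' ⟨hz't, hz's⟩
    obtain ⟨y, hy, rfl⟩ := hsupp hz's
    refine ⟨y, ⟨?_, hy⟩, rfl⟩
    have : p1 (w y) ∈ t := hz't
    rwa [hw1 y] at this
  let γ : AlgebraicCycle (pullback f f) ℤ := ⟨γf, fun _ _ => trivial, hlf⟩
  have hγw : ∀ y, γ (w y) = β y := by
    intro y
    change γf (w y) = β y
    simp only [γf]
    rw [if_pos (by rw [hw1 y]), hw1 y]
  have hγ0 : ∀ z, γ z ≠ 0 → w (p1 z) = z := by
    intro z hz
    by_contra hne
    apply hz
    change γf z = 0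
    simp only [γf]
    rw [if_neg hne]
  refine ⟨γ, ?_, ?_, ?_⟩
  · intro z hz
    by_contra hne
    have h1 := hγ0 z hne
    apply hne
    rw [← h1, hγw]
    apply hβ
    rw [← hd1, h1]
    exact hz
  · ext y
    simp only [AlgebraicCycle.map, Function.locallyFinsupp.map_apply]
    have h1 : ∑ᶠ z ∈ (p1 : ↥(pullback f f) → Y) ⁻¹' {y},
        γ z * ((AlgebraicCycle.mapCoeff p1 δ2 δY z : ℕ) : ℤ)
        = ∑ᶠ z ∈ ({w y} : Set ↥(pullback f f)),
          γ z * ((AlgebraicCycle.mapCoeff p1 δ2 δY z : ℕ) : ℤ) := by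
      apply finsum_mem_inter_support_eq
      ext z
      simp only [Set.mem_inter_iff, Set.mem_preimage, Set.mem_singleton_iff, Function.mem_support]
      constructor
      · rintro ⟨hz1, hz2⟩
        refine ⟨?_, hz2⟩
        have hb : γ z ≠ 0 := left_ne_zero_of_mul hz2
        rw [← hγ0 z hb, hz1]
      · rintro ⟨rfl, hz2⟩
        exact ⟨hw1 y, hz2⟩
    rw [h1, finsum_mem_singleton, hγw]
    have e2 : p1.base (w y) = p1 (w y) := rfl
    simp only [AlgebraicCycle.mapCoeff, e2]
    rw [if_pos (by rw [hd1, hw1]), hdeg1]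
    simp
  · ext y'
    simp only [AlgebraicCycle.map, Function.locallyFinsupp.map_apply]
    change _ = (0 : ℤ)
    set T : Set Y := {y | σ (f y) = y'} with hT
    have h1 : ∑ᶠ z ∈ (p2 : ↥(pullback f f) → Y) ⁻¹' {y'},
        γ z * ((AlgebraicCycle.mapCoeff p2 δ2 δY z : ℕ) : ℤ)
        = ∑ᶠ z ∈ w '' T, γ z * ((AlgebraicCycle.mapCoeff p2 δ2 δY z : ℕ) : ℤ) := by
      apply finsum_mem_inter_support_eq
      ext z
      simp only [Set.mem_inter_iff, Set.mem_preimage, Set.mem_singleton_iff, Function.mem_support,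
        Set.mem_image]
      constructor
      · rintro ⟨hz1, hz2⟩
        refine ⟨?_, hz2⟩
        have hb : γ z ≠ 0 := left_ne_zero_of_mul hz2
        have hz := hγ0 z hb
        refine ⟨p1 z, ?_, hz⟩
        change σ (f (p1 z)) = y'
        rw [← hw2, hz, hz1]
      · rintro ⟨⟨y, hy, rfl⟩, hz2⟩
        refine ⟨?_, hz2⟩
        rw [hw2]
        exact hy
    have hinj : Set.InjOn w T := by
      intro a _ b _ hab
      rw [← hw1 a, ← hw1 b, hab]
    rw [h1, finsum_mem_image hinj]
    have h2 : ∀ y, γ (w y) * ((AlgebraicCycle.mapCoeff p2 δ2 δY (w y) : ℕ) : ℤ) =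
        β y * ((AlgebraicCycle.mapCoeff f δY δ y : ℕ) : ℤ) := by
      intro y
      rw [hγw, hc2]
    rw [finsum_mem_congr rfl (fun y _ => h2 y)]
    by_cases hne : T.Nonempty
    · obtain ⟨y0, hy0⟩ := hne
      have hTeq : T = (f : Y → X) ⁻¹' {f y0} := by
        ext y
        simp only [hT, Set.mem_setOf_eq, Set.mem_preimage, Set.mem_singleton_iff]
        have hy0' : σ (f y0) = y' := hy0
        constructor
        · intro h
          have := congrArg (fun t => f t) (h.trans hy0'.symm)
          simp only [hσ1] at this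
          exact this
        · intro h
          rw [h]
          exact hy0'
      rw [hTeq]
      have := congrFun (congrArg (fun c : AlgebraicCycle X ℤ => (c : X → ℤ)) h0) (f y0)
      simp only [AlgebraicCycle.map, Function.locallyFinsupp.map_apply] at this
      exact this
    · rw [Set.not_nonempty_iff_eq_empty.mp hne]
      exact finsum_mem_empty

end Main

end Groth.Agent.Lib.Helper18.EX4
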