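import Mathlib
import Groth.Prelude.Def_CAlg
import Groth.Prelude.Def_EGA4b
import Groth.Agent.Lib.Helper18.Exc2

set_option autoImplicit false
set_option linter.style.haveILetI false
set_option linter.unusedSectionVars false
set_option linter.overlappingInstances false
universe u

open IsLocalRing TensorProduct

namespace Groth.Agent.Lib.Helper18.Exc

section cover

theorem isRegularHom_cpl_congr {R : Type u} [CommRing R] {q q' : Ideal R} [q.IsPrime]
    [q'.IsPrime] (h : q = q') :
    CAlg.IsRegularHom (Localization.AtPrime q)
      (AdicCompletion (maximalIdeal (Localization.AtPrime q)) (Localization.AtPrime q)) →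
    CAlg.IsRegularHom (Localization.AtPrime q')
      (AdicCompletion (maximalIdeal (Localization.AtPrime q')) (Localization.AtPrime q')) := by
  subst h
  exact id

/-- the G-ring condition at a prime can be checked in a localization -/
theorem isRegularHom_cpl_atPrime_of_isLocalization (R : Type u) [CommRing R] [IsNoetherianRing R]
    (M : Submonoid R) (T : Type u) [CommRing T] [Algebra R T] [IsLocalization M T]
    (hT : CAlg.IsGRing T) (p : Ideal R) [p.IsPrime] (hd : Disjoint (M : Set R) (p : Set R)) :
    CAlg.IsRegularHom (Localization.AtPrime p)
      (AdicCompletion (maximalIdeal (Localization.AtPrime p)) (Localization.AtPrime p)) := by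
  haveI := hT.1
  haveI hP : (p.map (algebraMap R T)).IsPrime :=
    IsLocalization.isPrime_of_isPrime_disjoint M T p inferInstance hd
  have hcomap : (p.map (algebraMap R T)).comap (algebraMap R T) = p :=
    IsLocalization.under_map_of_isPrime_disjoint M T inferInstance hd
  haveI : IsLocalization.AtPrime (Localization.AtPrime (p.map (algebraMap R T)))
      ((p.map (algebraMap R T)).comap (algebraMap R T)) :=
    IsLocalization.isLocalization_isLocalization_atPrime_isLocalization M _ (p.map (algebraMap R T))
  let e : Localization.AtPrime ((p.map (algebraMap R T)).comap (algebraMap R T)) ≃+*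
      Localization.AtPrime (p.map (algebraMap R T)) :=
    (IsLocalization.algEquiv ((p.map (algebraMap R T)).comap (algebraMap R T)).primeCompl _ _).toRingEquiv
  haveI : IsNoetherianRing (Localization.AtPrime (p.map (algebraMap R T))) :=
    IsLocalization.isNoetherianRing (p.map (algebraMap R T)).primeCompl _ inferInstance
  haveI : IsNoetherianRing
      (Localization.AtPrime ((p.map (algebraMap R T)).comap (algebraMap R T))) :=
    IsLocalization.isNoetherianRing ((p.map (algebraMap R T)).comap (algebraMap R T)).primeCompl _
      inferInstance
  exact isRegularHom_cpl_congr hcomap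
    (isRegularHom_cpl_of_ringEquiv e.symm (hT.2 (p.map (algebraMap R T))))

/-- the G-ring property is local for finite covers by basic opens -/
theorem isGRing_of_span_eq_top (R : Type u) [CommRing R] (s : Finset R)
    (hs : Ideal.span (s : Set R) = ⊤)
    (h : ∀ f ∈ s, ∃ (T : Type u) (_ : CommRing T) (_ : Algebra R T),
      IsLocalization.Away f T ∧ CAlg.IsGRing T) : CAlg.IsGRing R := by
  haveI hN : IsNoetherianRing R := by
    apply AlgebraicGeometry.isNoetherianRing_of_away s hs
    rintro ⟨f, hf⟩
    obtain ⟨T, _, _, hloc, hT⟩ := h f hf
    haveI := hT.1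
    exact isNoetherianRing_of_ringEquiv T
      (IsLocalization.algEquiv (Submonoid.powers f) T (Localization.Away f)).toRingEquiv
  refine ⟨hN, fun p _ => ?_⟩
  have hex : ∃ f ∈ s, f ∉ p := by
    by_contra hcon
    push Not at hcon
    have : Ideal.span (s : Set R) ≤ p := Ideal.span_le.mpr (fun f hf => hcon f hf)
    rw [hs] at this
    exact Ideal.IsPrime.ne_top inferInstance (top_le_iff.mp this)
  obtain ⟨f, hf, hfp⟩ := hex
  obtain ⟨T, _, _, hloc, hT⟩ := h f hf
  exact isRegularHom_cpl_atPrime_of_isLocalization R (Submonoid.powers f) T hT p
    (Groth.Agent.Lib.Helper18.J2.disjoint_powers_of_notMem R f p hfp)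

end cover

end Groth.Agent.Lib.Helper18.Exc
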