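import Mathlib
import Groth.Agent.Lib.Helper18.FACP2

/-!
# Flatness above the closed points: invariance under a finite local extension (ring level), II
-/

set_option autoImplicit false
set_option linter.style.haveILetI false
set_option linter.unusedSectionVars false

universe u

namespace Groth.Agent.Lib.Helper18.FACP

open TensorProduct IsLocalRing

section Book

variable {B C : Type u} [CommRing B] [IsLocalRing B] [CommRing C] [IsLocalRing C]
  [Algebra B C] [IsLocalHom (algebraMap B C)]
  {A' : Type u} [CommRing A'] [IsLocalRing A']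
  {B' : Type u} [CommRing B'] [Algebra B B'] [Algebra A' B']
  {C' : Type u} [CommRing C'] [Algebra C C'] [Algebra A' C']
  [Algebra B' C'] [Algebra B C'] [IsScalarTower B C C'] [IsScalarTower B B' C']
  [IsScalarTower A' B' C']

/-- one direction of the bookkeeping holds for any local homomorphism `B → C` -/
theorem sup_le_comap_of_sup_le (r : Ideal C')
    (h : (maximalIdeal A').map (algebraMap A' C') ⊔ (maximalIdeal C).map (algebraMap C C') ≤ r) :
    (maximalIdeal A').map (algebraMap A' B') ⊔ (maximalIdeal B).map (algebraMap B B') ≤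
      r.comap (algebraMap B' C') := by
  refine sup_le ?_ ?_
  · rw [Ideal.map_le_iff_le_comap]
    intro a ha
    change algebraMap B' C' (algebraMap A' B' a) ∈ r
    rw [← IsScalarTower.algebraMap_apply A' B' C']
    exact h (Ideal.mem_sup_left (Ideal.mem_map_of_mem _ ha))
  · rw [Ideal.map_le_iff_le_comap]
    intro b hb
    change algebraMap B' C' (algebraMap B B' b) ∈ r
    rw [← IsScalarTower.algebraMap_apply B B' C', IsScalarTower.algebraMap_apply B C C']
    refine h (Ideal.mem_sup_right (Ideal.mem_map_of_mem _ ?_))
    rw [mem_maximalIdeal] at hb ⊢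
    exact (map_mem_nonunits_iff (algebraMap B C) b).mpr hb

theorem sup_le_of_sup_le_comap [Algebra.IsIntegral B C] (r : Ideal C') [r.IsPrime]
    (h : (maximalIdeal A').map (algebraMap A' B') ⊔ (maximalIdeal B).map (algebraMap B B') ≤
      r.comap (algebraMap B' C')) :
    (maximalIdeal A').map (algebraMap A' C') ⊔ (maximalIdeal C).map (algebraMap C C') ≤ r := by
  refine sup_le ?_ ?_
  · rw [Ideal.map_le_iff_le_comap]
    intro a ha
    change algebraMap A' C' a ∈ r
    rw [IsScalarTower.algebraMap_apply A' B' C']
    exact h (Ideal.mem_sup_left (Ideal.mem_map_of_mem _ ha))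
  · rw [Ideal.map_le_iff_le_comap]
    intro c hc
    change algebraMap C C' c ∈ r
    obtain ⟨n, hn⟩ := maximalIdeal_le_radical_map (B := B) (C := C) hc
    have h1 : algebraMap C C' (c ^ n) ∈
        ((maximalIdeal B).map (algebraMap B C)).map (algebraMap C C') :=
      Ideal.mem_map_of_mem _ hn
    rw [Ideal.map_map, ← IsScalarTower.algebraMap_eq B C C',
      IsScalarTower.algebraMap_eq B B' C', ← Ideal.map_map] at h1
    have h2 : ((maximalIdeal B).map (algebraMap B B')).map (algebraMap B' C') ≤ r :=
      (Ideal.map_mono (le_sup_right.trans h)).trans Ideal.map_comap_le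
    have h3 := h2 h1
    rw [map_pow] at h3
    exact Ideal.IsPrime.mem_of_pow_mem inferInstance n h3

end Book

section Main

variable {B C : Type u} [CommRing B] [IsLocalRing B] [CommRing C] [IsLocalRing C]
  [Algebra B C] [IsLocalHom (algebraMap B C)] [Module.Finite B C]
  {N : Type u} [AddCommGroup N] [Module C N] [Module B N] [IsScalarTower B C N]
  {A' : Type u} [CommRing A'] [IsLocalRing A']
  {B' M' : Type u} [CommRing B'] [Algebra B B'] [Algebra A' B']
  [AddCommGroup M'] [Module B' M'] [Module B M'] [IsScalarTower B B' M'] [Module A' M']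
  [IsScalarTower A' B' M']
  (fB : N →ₗ[B] M') (hfB : IsBaseChange B' fB)
  {C' N' : Type u} [CommRing C'] [Algebra C C'] [Algebra A' C']
  [AddCommGroup N'] [Module C' N'] [Module C N'] [IsScalarTower C C' N'] [Module A' N']
  [IsScalarTower A' C' N']
  (fC : N →ₗ[C] N') (hfC : IsBaseChange C' fC)
  [Algebra B' C'] [Algebra B C'] [IsScalarTower B C C'] [IsScalarTower B B' C']
  [IsScalarTower A' B' C'] [hpo' : Algebra.IsPushout B B' C C']

include hfB hfC in
theorem flatAbove_iff_of_finite :
    (∀ (q : Ideal B') [q.IsPrime],
      (maximalIdeal A').map (algebraMap A' B') ⊔ (maximalIdeal B).map (algebraMap B B') ≤ q →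
        Module.Flat A' (LocalizedModule q.primeCompl M')) ↔
    (∀ (r : Ideal C') [r.IsPrime],
      (maximalIdeal A').map (algebraMap A' C') ⊔ (maximalIdeal C).map (algebraMap C C') ≤ r →
        Module.Flat A' (LocalizedModule r.primeCompl N')) := by
  let e1 : M' ≃ₗ[B'] C' ⊗[C] N :=
    hfB.equiv.symm ≪≫ₗ (Algebra.IsPushout.cancelBaseChange B B' C C' N).symm
  let e2 : N' ≃ₗ[C'] C' ⊗[C] N := hfC.equiv.symm
  haveI : Module.Finite B' C' := Module.Finite.equiv hpo'.out.equiv
  haveI : Algebra.IsIntegral B' C' := inferInstance
  haveI : Algebra.IsIntegral B C := inferInstance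
  constructor
  · intro h r hr hJ
    rw [flat_localizedModule_congr (R := A') r.primeCompl e2]
    have h1 := h (r.comap (algebraMap B' C')) (sup_le_comap_of_sup_le (B := B) (C := C) (B' := B') r hJ)
    rw [flat_localizedModule_congr (R := A') _ e1] at h1
    exact (flat_localizedModule_iff_of_isIntegral (A' := A') (E := C' ⊗[C] N)
      (r.comap (algebraMap B' C'))).mp h1 r rfl
  · intro h q hq hJ
    rw [flat_localizedModule_congr (R := A') q.primeCompl e1,
      flat_localizedModule_iff_of_isIntegral (A' := A') (C' := C') (E := C' ⊗[C] N) q]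
    intro r hr hrq
    rw [← flat_localizedModule_congr (R := A') r.primeCompl e2]
    refine h r (sup_le_of_sup_le_comap (B := B) (C := C) (B' := B') r ?_)
    rw [hrq]
    exact hJ

end Main

end Groth.Agent.Lib.Helper18.FACP
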