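import Mathlib
import Groth.Agent.Lib.Helper18.FACP1

/-!
# Flatness over the base at a prime, along a flat extension of the algebra (ring level)
-/

set_option autoImplicit false
set_option linter.style.haveILetI false
set_option linter.unusedSectionVars false

universe u

namespace Groth.Agent.Lib.Helper18.FACP

open TensorProduct

section FlatExt

variable {A' B' C' : Type u} [CommRing A'] [CommRing B'] [CommRing C'] [Algebra A' B']
  [Algebra B' C'] [Algebra A' C'] [IsScalarTower A' B' C']
  {M' : Type u} [AddCommGroup M'] [Module B' M'] [Module A' M'] [IsScalarTower A' B' M']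

theorem assoc_lTensor (I : Ideal A') (w : (C' ⊗[B'] M') ⊗[A'] I) :
    AlgebraTensorModule.assoc A' B' C' C' M' A' (LinearMap.lTensor (C' ⊗[B'] M') I.subtype w) =
      LinearMap.lTensor C' (AlgebraTensorModule.lTensor B' M' I.subtype)
        (AlgebraTensorModule.assoc A' B' C' C' M' I w) := by
  induction w using TensorProduct.induction_on with
  | zero => simp
  | add a b ha hb => simp only [map_add, ha, hb]
  | tmul s i =>
    induction s using TensorProduct.induction_on with
    | zero => simp
    | add a b ha hb => simp only [TensorProduct.add_tmul, map_add, ha, hb]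
    | tmul c n => simp

variable [Module.Flat B' C']

/-- kernel elements of the base-changed module are killed by elements outside `q`. -/
theorem exists_smul_eq_zero_of_flat (q : Ideal B') [q.IsPrime]
    (hq : Module.Flat A' (LocalizedModule q.primeCompl M')) (I : Ideal A')
    (w : (C' ⊗[B'] M') ⊗[A'] I) (hw : LinearMap.lTensor (C' ⊗[B'] M') I.subtype w = 0) :
    ∃ t ∈ q.primeCompl, algebraMap B' C' t • w = 0 := by
  rw [flat_isLocalizedModule_iff (R := A') (A := B') q.primeCompl
    (LocalizedModule.mkLinearMap q.primeCompl M')] at hq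
  set α := AlgebraTensorModule.assoc A' B' C' C' M' I with hα
  set ψ := AlgebraTensorModule.lTensor B' M' I.subtype with hψ
  have h1 : LinearMap.lTensor C' ψ (α w) = 0 := by rw [← assoc_lTensor, hw, map_zero]
  have h2 : α w ∈ LinearMap.ker (AlgebraTensorModule.lTensor C' C' ψ) := h1
  rw [Module.Flat.ker_lTensor_eq] at h2
  obtain ⟨x, hx⟩ := h2
  have claim : ∀ x : C' ⊗[B'] (LinearMap.ker ψ), ∃ t ∈ q.primeCompl, t • x = 0 := by
    intro x
    induction x using TensorProduct.induction_on with
    | zero => exact ⟨1, q.primeCompl.one_mem, smul_zero _⟩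
    | tmul c k =>
      obtain ⟨t, ht, htk⟩ := hq I k.1 (by
        have := k.2
        rw [LinearMap.mem_ker] at this
        exact this)
      refine ⟨t, ht, ?_⟩
      rw [TensorProduct.smul_tmul', TensorProduct.smul_tmul]
      have : t • k = 0 := Subtype.ext htk
      rw [this, TensorProduct.tmul_zero]
    | add x y hx hy =>
      obtain ⟨t1, ht1, h1⟩ := hx
      obtain ⟨t2, ht2, h2⟩ := hy
      refine ⟨t1 * t2, q.primeCompl.mul_mem ht1 ht2, ?_⟩
      have e1 : (t1 * t2) • x = 0 := by rw [mul_comm, mul_smul, h1, smul_zero]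
      have e2 : (t1 * t2) • y = 0 := by rw [mul_smul, h2, smul_zero]
      rw [smul_add, e1, e2, add_zero]
  obtain ⟨t, ht, htx⟩ := claim x
  refine ⟨t, ht, ?_⟩
  apply α.injective
  rw [map_smul, map_zero, ← hx, ← map_smul, algebraMap_smul, htx, map_zero]

theorem flat_tensor_localized_of_flat (q : Ideal B') [q.IsPrime] (r : Ideal C') [r.IsPrime]
    (hrq : r.comap (algebraMap B' C') ≤ q)
    (hq : Module.Flat A' (LocalizedModule q.primeCompl M')) :
    Module.Flat A' (LocalizedModule r.primeCompl (C' ⊗[B'] M')) := by
  rw [flat_isLocalizedModule_iff (R := A') (A := C') r.primeCompl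
    (LocalizedModule.mkLinearMap r.primeCompl _)]
  intro I w hw
  obtain ⟨t, ht, htw⟩ := exists_smul_eq_zero_of_flat q hq I w hw
  exact ⟨algebraMap B' C' t, fun hmem => ht (hrq hmem), htw⟩

theorem flat_localized_of_flat_tensor_localized (q : Ideal B') [q.IsPrime] (r : Ideal C')
    [r.IsPrime] (hrq : q ≤ r.comap (algebraMap B' C'))
    (hr : Module.Flat A' (LocalizedModule r.primeCompl (C' ⊗[B'] M'))) :
    Module.Flat A' (LocalizedModule q.primeCompl M') := by
  rw [flat_isLocalizedModule_iff (R := A') (A := C') r.primeCompl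
    (LocalizedModule.mkLinearMap r.primeCompl _)] at hr
  rw [flat_isLocalizedModule_iff (R := A') (A := B') q.primeCompl
    (LocalizedModule.mkLinearMap q.primeCompl M')]
  intro I z hz
  set α := AlgebraTensorModule.assoc A' B' C' C' M' I with hα
  set w := α.symm ((1 : C') ⊗ₜ z) with hw_def
  have hw : LinearMap.lTensor (C' ⊗[B'] M') I.subtype w = 0 := by
    apply (AlgebraTensorModule.assoc A' B' C' C' M' A').injective
    rw [assoc_lTensor, map_zero, hw_def, LinearEquiv.apply_symm_apply, LinearMap.lTensor_tmul]
    have : (AlgebraTensorModule.lTensor B' M' I.subtype) z = 0 := hz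
    rw [this, TensorProduct.tmul_zero]
  obtain ⟨s, hs, hsw⟩ := hr I w hw
  have h1 : s ⊗ₜ[B'] z = 0 := by
    have h2 := congrArg α hsw
    rw [map_smul, map_zero, hw_def, LinearEquiv.apply_symm_apply, TensorProduct.smul_tmul',
      smul_eq_mul, mul_one] at h2
    exact h2
  set J : Ideal B' := Ideal.torsionOf B' (M' ⊗[A'] I) z with hJ
  have hex : Function.Exact (Submodule.subtype J)
      (LinearMap.toSpanSingleton B' (M' ⊗[A'] I) z) := by
    intro b
    rw [LinearMap.toSpanSingleton_apply]
    constructor
    · intro hb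
      exact ⟨⟨b, (Ideal.mem_torsionOf_iff _ _).mpr hb⟩, rfl⟩
    · rintro ⟨b', rfl⟩
      exact (Ideal.mem_torsionOf_iff _ _).mp b'.2
  have hex' := Module.Flat.lTensor_exact C' hex
  have h2 : (LinearMap.lTensor C' (LinearMap.toSpanSingleton B' (M' ⊗[A'] I) z))
      (s ⊗ₜ[B'] (1 : B')) = 0 := by
    rw [LinearMap.lTensor_tmul, LinearMap.toSpanSingleton_apply, one_smul]
    exact h1
  obtain ⟨x, hx⟩ := (hex' _).mp h2
  have claim : ∀ x : C' ⊗[B'] J, TensorProduct.rid B' C'
      (LinearMap.lTensor C' (Submodule.subtype J) x) ∈ J.map (algebraMap B' C') := by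
    intro x
    induction x using TensorProduct.induction_on with
    | zero => simp
    | tmul c a =>
      rw [LinearMap.lTensor_tmul, TensorProduct.rid_tmul, Algebra.smul_def]
      exact Ideal.mul_mem_right _ _ (Ideal.mem_map_of_mem _ a.2)
    | add x y hx hy =>
      rw [map_add, map_add]
      exact Ideal.add_mem _ hx hy
  have hsJ : s ∈ J.map (algebraMap B' C') := by
    have := claim x
    rw [hx, TensorProduct.rid_tmul, one_smul] at this
    exact this
  by_contra hno
  push Not at hno
  have hJq : J ≤ q := by
    intro b hb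
    by_contra hbq
    exact hno b hbq ((Ideal.mem_torsionOf_iff _ _).mp hb)
  exact hs (((Ideal.map_mono hJq).trans (Ideal.map_le_iff_le_comap.mpr hrq)) hsJ)

end FlatExt

end Groth.Agent.Lib.Helper18.FACP
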