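import Mathlib

/-!
# Primes of a base change over a prime above the closed point, containing the closed fibre ideal
-/

set_option autoImplicit false
set_option linter.style.haveILetI false
set_option linter.unusedSectionVars false

universe u

namespace Groth.Agent.Lib.Helper18.FACP

open TensorProduct IsLocalRing

section Prime

variable {B C : Type u} [CommRing B] [IsLocalRing B] [CommRing C] [IsLocalRing C]
  [Algebra B C] [IsLocalHom (algebraMap B C)]
  {B' C' : Type u} [CommRing B'] [Algebra B B'] [CommRing C'] [Algebra C C']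
  [Algebra B' C'] [Algebra B C'] [IsScalarTower B C C'] [IsScalarTower B B' C']
  [hpo' : Algebra.IsPushout B B' C C']

/-- the map from the residue field of `B` to `B' ⧸ q` -/
noncomputable def iotaQ (q : Ideal B') (hq : (maximalIdeal B).map (algebraMap B B') ≤ q) :
    ResidueField B →+* B' ⧸ q :=
  Ideal.Quotient.lift (maximalIdeal B) ((Ideal.Quotient.mk q).comp (algebraMap B B'))
    (fun b hb => by
      rw [RingHom.comp_apply, Ideal.Quotient.eq_zero_iff_mem]
      exact hq (Ideal.mem_map_of_mem _ hb))

theorem iotaQ_residue (q : Ideal B') (hq : (maximalIdeal B).map (algebraMap B B') ≤ q) (b : B) :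
    iotaQ q hq (residue B b) = Ideal.Quotient.mk q (algebraMap B B' b) := rfl

/-- the auxiliary `B`-linear map `C → B' ⧸ q` -/
noncomputable def lamQ (q : Ideal B') (hq : (maximalIdeal B).map (algebraMap B B') ≤ q)
    (ρ : ResidueField C →ₗ[ResidueField B] ResidueField B) : C →ₗ[B] B' ⧸ q where
  toFun c := iotaQ q hq (ρ (residue C c))
  map_add' c d := by rw [map_add, map_add, map_add]
  map_smul' b c := by
    rw [RingHom.id_apply, Algebra.smul_def, map_mul]
    have h1 : residue C (algebraMap B C b) * residue C c = residue B b • residue C c := by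
      rw [Algebra.smul_def]
      rfl
    rw [h1, map_smul, smul_eq_mul, map_mul, iotaQ_residue, Algebra.smul_def]
    rfl

theorem exists_prime_over (q : Ideal B') [q.IsPrime]
    (hq : (maximalIdeal B).map (algebraMap B B') ≤ q) :
    ∃ r : Ideal C', r.IsPrime ∧ r.comap (algebraMap B' C') = q ∧
      (maximalIdeal C).map (algebraMap C C') ≤ r := by
  classical
  obtain ⟨ρ, hρ⟩ := LinearMap.exists_leftInverse_of_injective
    (Algebra.linearMap (ResidueField B) (ResidueField C))
    (LinearMap.ker_eq_bot.mpr (algebraMap (ResidueField B) (ResidueField C)).injective)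
  have hρ1 : ρ 1 = 1 := by
    have := LinearMap.congr_fun hρ 1
    simpa using this
  have hbc : IsBaseChange B' (IsScalarTower.toAlgHom B C C').toLinearMap := hpo'.out
  set Ψ : C' →ₗ[B'] B' ⧸ q := hbc.lift (lamQ q hq ρ) with hΨ
  have hΨalg : ∀ c : C, Ψ (algebraMap C C' c) = lamQ q hq ρ c := fun c => hbc.lift_eq _ c
  have hΨ1 : Ψ 1 = 1 := by
    have := hΨalg 1
    rw [map_one] at this
    rw [this]
    change iotaQ q hq (ρ (residue C 1)) = 1
    rw [map_one, hρ1, map_one]
  have hΨB' : ∀ t : B', Ψ (algebraMap B' C' t) = Ideal.Quotient.mk q t := by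
    intro t
    have : algebraMap B' C' t = t • (1 : C') := by rw [Algebra.smul_def, mul_one]
    rw [this, map_smul, hΨ1, Algebra.smul_def, mul_one]
    rfl
  -- `Ψ` kills the ideal `J`
  have hkill1 : ∀ a ∈ q, ∀ c' : C', Ψ (c' * algebraMap B' C' a) = 0 := by
    intro a ha c'
    have : c' * algebraMap B' C' a = a • c' := by rw [Algebra.smul_def, mul_comm]
    rw [this, map_smul, Algebra.smul_def]
    have : algebraMap B' (B' ⧸ q) a = 0 := Ideal.Quotient.eq_zero_iff_mem.mpr ha
    rw [this, zero_mul]
  have hkill2 : ∀ c ∈ maximalIdeal C, ∀ c' : C', Ψ (c' * algebraMap C C' c) = 0 := by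
    intro c hc c'
    refine hbc.inductionOn c' (motive := fun c' => Ψ (c' * algebraMap C C' c) = 0) ?_ ?_ ?_ ?_
    · rw [zero_mul, map_zero]
    · intro c₁
      change Ψ (algebraMap C C' c₁ * algebraMap C C' c) = 0
      rw [← map_mul, hΨalg]
      change iotaQ q hq (ρ (residue C (c₁ * c))) = 0
      have : residue C (c₁ * c) = 0 := by
        rw [residue_eq_zero_iff]
        exact Ideal.mul_mem_left _ _ hc
      rw [this, map_zero, map_zero]
    · intro b' y hy
      rw [smul_mul_assoc, map_smul, hy, smul_zero]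
    · intro y z hy hz
      rw [add_mul, map_add, hy, hz, add_zero]
  set J : Ideal C' := q.map (algebraMap B' C') ⊔ (maximalIdeal C).map (algebraMap C C') with hJ
  have hkill : ∀ x ∈ J, ∀ c' : C', Ψ (c' * x) = 0 := by
    intro x hx
    obtain ⟨u, hu, v, hv, rfl⟩ := Submodule.mem_sup.mp hx
    have hu' : ∀ c' : C', Ψ (c' * u) = 0 := by
      rw [Ideal.map] at hu
      refine Submodule.span_induction (p := fun u _ => ∀ c' : C', Ψ (c' * u) = 0) ?_ ?_ ?_ ?_ hu
      · rintro _ ⟨a, ha, rfl⟩ c'
        exact hkill1 a ha c'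
      · intro c'; rw [mul_zero, map_zero]
      · intro x y _ _ hx hy c'
        rw [mul_add, map_add, hx, hy, add_zero]
      · intro d x _ hx c'
        rw [smul_eq_mul, ← mul_assoc]
        exact hx _
    have hv' : ∀ c' : C', Ψ (c' * v) = 0 := by
      rw [Ideal.map] at hv
      refine Submodule.span_induction (p := fun u _ => ∀ c' : C', Ψ (c' * u) = 0) ?_ ?_ ?_ ?_ hv
      · rintro _ ⟨a, ha, rfl⟩ c'
        exact hkill2 a ha c'
      · intro c'; rw [mul_zero, map_zero]
      · intro x y _ _ hx hy c'
        rw [mul_add, map_add, hx, hy, add_zero]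
      · intro d x _ hx c'
        rw [smul_eq_mul, ← mul_assoc]
        exact hx _
    intro c'
    rw [mul_add, map_add, hu', hv', add_zero]
  have hdisj : Disjoint (J : Set C') ((q.primeCompl.map (algebraMap B' C') : Submonoid C') : Set C') := by
    rw [Set.disjoint_left]
    rintro _ hxJ ⟨t, ht, rfl⟩
    have h1 := hkill _ hxJ 1
    rw [one_mul] at h1
    have h2 : Ψ (algebraMap B' C' t) = Ideal.Quotient.mk q t := hΨB' t
    rw [h2, Ideal.Quotient.eq_zero_iff_mem] at h1
    exact ht h1
  obtain ⟨r, hr, hJr, hrdisj⟩ := Ideal.exists_le_prime_disjoint J _ hdisj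
  refine ⟨r, hr, ?_, le_sup_right.trans hJr⟩
  apply le_antisymm
  · intro b hb
    by_contra hbq
    exact Set.disjoint_left.mp hrdisj hb ⟨b, hbq, rfl⟩
  · rw [← Ideal.map_le_iff_le_comap]
    exact le_sup_left.trans hJr

end Prime

end Groth.Agent.Lib.Helper18.FACP
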