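import Mathlib
import Groth.Agent.Lib.Helper18.FACP3
import Groth.Agent.Lib.Helper18.FACP4
import Groth.Agent.Lib.Helper18.FACP5

/-!
# Flatness above the closed points: invariance under a flat local extension (ring level)
-/

set_option autoImplicit false
set_option linter.style.haveILetI false
set_option linter.unusedSectionVars false

universe u

namespace Groth.Agent.Lib.Helper18.FACP

open TensorProduct IsLocalRing

section MainFlat

variable {B C : Type u} [CommRing B] [IsLocalRing B] [CommRing C] [IsLocalRing C]
  [Algebra B C] [IsLocalHom (algebraMap B C)] [Module.Flat B C]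
  {M : Type u} [AddCommGroup M] [Module B M]
  {N : Type u} [AddCommGroup N] [Module C N] [Module B N] [IsScalarTower B C N]
  (g : M →ₗ[B] N) (hg : IsBaseChange C g)
  {A' : Type u} [CommRing A'] [IsLocalRing A']
  {B' M' : Type u} [CommRing B'] [Algebra B B'] [Algebra A' B']
  [AddCommGroup M'] [Module B' M'] [Module B M'] [IsScalarTower B B' M'] [Module A' M']
  [IsScalarTower A' B' M']
  (fB : M →ₗ[B] M') (hfB : IsBaseChange B' fB)
  {C' N' : Type u} [CommRing C'] [Algebra C C'] [Algebra A' C']
  [AddCommGroup N'] [Module C' N'] [Module C N'] [IsScalarTower C C' N'] [Module A' N']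
  [IsScalarTower A' C' N']
  (fC : N →ₗ[C] N') (hfC : IsBaseChange C' fC)
  [Algebra B' C'] [Algebra B C'] [IsScalarTower B C C'] [IsScalarTower B B' C']
  [IsScalarTower A' B' C'] [hpo' : Algebra.IsPushout B B' C C']

include hg hfB hfC in
theorem flatAbove_iff_of_flat :
    (∀ (q : Ideal B') [q.IsPrime],
      (maximalIdeal A').map (algebraMap A' B') ⊔ (maximalIdeal B).map (algebraMap B B') ≤ q →
        Module.Flat A' (LocalizedModule q.primeCompl M')) ↔
    (∀ (r : Ideal C') [r.IsPrime],
      (maximalIdeal A').map (algebraMap A' C') ⊔ (maximalIdeal C).map (algebraMap C C') ≤ r →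
        Module.Flat A' (LocalizedModule r.primeCompl N')) := by
  haveI : Module.Flat B' C' := Module.Flat.isBaseChange (R := B) (S := B') (M := C) C' hpo'.out
  let e : N' ≃ₗ[C'] C' ⊗[B'] M' :=
    hfC.equiv.symm ≪≫ₗ AlgebraTensorModule.congr (LinearEquiv.refl C' C') hg.equiv.symm ≪≫ₗ
      AlgebraTensorModule.cancelBaseChange B C C' C' M ≪≫ₗ
      (AlgebraTensorModule.cancelBaseChange B B' C' C' M).symm ≪≫ₗ
      AlgebraTensorModule.congr (LinearEquiv.refl C' C') hfB.equiv
  constructor
  · intro h r hr hJ
    rw [flat_localizedModule_congr (R := A') r.primeCompl e]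
    exact flat_tensor_localized_of_flat (r.comap (algebraMap B' C')) r le_rfl
      (h _ (sup_le_comap_of_sup_le (B := B) (C := C) (B' := B') r hJ))
  · intro h q hq hJ
    obtain ⟨r, hr, hrq, hmC⟩ := exists_prime_over (B := B) (C := C) (C' := C') q
      (le_sup_right.trans hJ)
    haveI := hr
    have hJC : (maximalIdeal A').map (algebraMap A' C') ⊔
        (maximalIdeal C).map (algebraMap C C') ≤ r := by
      refine sup_le ?_ hmC
      rw [Ideal.map_le_iff_le_comap]
      intro a ha
      change algebraMap A' C' a ∈ r
      rw [IsScalarTower.algebraMap_apply A' B' C']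
      have : algebraMap A' B' a ∈ r.comap (algebraMap B' C') := by
        rw [hrq]
        exact hJ (Ideal.mem_sup_left (Ideal.mem_map_of_mem _ ha))
      exact this
    have h1 := h r hJC
    rw [flat_localizedModule_congr (R := A') r.primeCompl e] at h1
    exact flat_localized_of_flat_tensor_localized q r hrq.ge h1

end MainFlat

end Groth.Agent.Lib.Helper18.FACP
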