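import Mathlib
import Groth.Agent.Lib.Helper18.KF31
import Groth.Agent.Lib.Helper18.KF28

set_option autoImplicit false
set_option linter.style.haveILetI false
set_option linter.unusedSectionVars false

/-! Key formula, part 32: on `X'`, the Gysin section of `f^*L` and the pullback of the Gysin
section of `L` give cycles differing by divisors on points of `f⁻¹(Z(s))`. -/

universe u
open CategoryTheory AlgebraicGeometry TopologicalSpace Topology Limits

namespace Groth.Agent.Lib.Helper18.KF32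

open Groth.Agent.Lib.Helper29.QCoh Groth.Agent.Lib.Helper18.InvStalk
  Groth.Agent.Lib.Helper18.KF12 Groth.Agent.Lib.Helper18.KF16
  Groth.Agent.Lib.Helper18.KF17 Groth.Agent.Lib.Helper18.KF18 Groth.Agent.Lib.Helper18.KF21
  Groth.Agent.Lib.Helper18.KF24
  Groth.Agent.Lib.Helper18.KF25 Groth.Agent.Lib.Helper18.PullSec
  Groth.Agent.Lib.Helper18.C1Indep Groth.Agent.Lib.Helper18.FlatPullDiv
  Groth.Agent.Lib.Helper18.FlatPullC1

variable {X' X D P : Scheme.{u}} (δ : X → ℤ) (δ' : X' → ℤ) (hX' : Cyc.IsSetup X' δ')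
  {L : X.Modules} (hL : PicF.IsInvertible L)
  (s : L.presheaf.obj (Opposite.op ⊤)) {f : X' ⟶ X} {i : D ⟶ X} [IsClosedImmersion i]
  (hD : Cyc.IsZeroSchemeOf i L s) {i' : P ⟶ X'} {g : P ⟶ D} (hc : IsPullback i' g f i)
  (s' : ((Scheme.Modules.pullback f).obj L).presheaf.obj (Opposite.op ⊤))
  (hD' : Cyc.IsZeroSchemeOf i' ((Scheme.Modules.pullback f).obj L) s')
  (w : (ξ : X) → Cyc.secFibre L ξ)
  (w' : (ξ : X') → Cyc.secFibre ((Scheme.Modules.pullback f).obj L) ξ)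

set_option maxHeartbeats 1600000 in
include hX' hL hD hc hD' in
theorem gysin_pull_in [Flat f] (hw : ∀ ξ, w ξ ≠ 0) (hw' : ∀ ξ, w' ξ ≠ 0) (r : ℤ)
    (hsh : ∀ x' : X', (∀ y, f y = f x' → y ⤳ x' → y = x') → δ' x' = δ (f x') + r)
    (k : ℤ) (α : AlgebraicCycle X ℤ) (hα : α ∈ Cyc.Zk X δ (k + 1)) :
    RatEquivZeroIn (Set.range ⇑i') δ' (k + r) (fun x' =>
      Cyc.c1CapFun δ' ((Scheme.Modules.pullback f).obj L) (Cyc.pullFun f δ' δ r ⇑α)
        (Cyc.gysinChoice ((Scheme.Modules.pullback f).obj L) s' w') x' -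
      Cyc.c1CapFun δ' ((Scheme.Modules.pullback f).obj L) (Cyc.pullFun f δ' δ r ⇑α)
        (fun ξ' => pullFibre f L ξ' (Cyc.gysinChoice L s w (f ξ'))) x') := by
  classical
  haveI : IsClosedImmersion i' := KF30.isClosedImmersion_fst hc
  have hND : PicF.IsInvertible ((Scheme.Modules.pullback f).obj L) := isInvertible_pullback f hL
  have hvL := gysinChoice_ne_zero s w hw
  have hgC := gysinChoice_ne_zero s' w' hw'
  let α' : AlgebraicCycle X' ℤ := pullCycle f δ δ' hX' r hsh α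
  have hα'f : ⇑α' = Cyc.pullFun f δ' δ r ⇑α := rfl
  have hα'Z : α' ∈ Cyc.Zk X' δ' (k + r + 1) := by
    intro ξ' hξ'
    by_contra hne
    have hne' : Cyc.pullFun f δ' δ r ⇑α ξ' ≠ 0 := hne
    obtain ⟨hd, hαne⟩ := pullFun_ne_zero f δ δ' r ⇑α ξ' hne'
    have : δ (f ξ') = k + 1 := by
      by_contra hk
      exact hαne (hα (f ξ') hk)
    apply hξ'
    omega
  let u₀ : (ξ' : X') → Cyc.secFibre ((Scheme.Modules.pullback f).obj L) ξ' := fun ξ' =>
    pullFibre f L ξ' (Cyc.gysinChoice L s w (f ξ'))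
  have hu₀ : ∀ ξ', u₀ ξ' ≠ 0 := fun ξ' => pullFibre_ne_zero f L hL ξ' _ (hvL (f ξ'))
  have hrange : ∀ ξ' : X', ξ' ∉ Set.range ⇑i' → f ξ' ∉ Set.range ⇑i := by
    rintro ξ' hdn ⟨d', hd'⟩
    obtain ⟨z', hz', -⟩ := exists_point hc ξ' d' hd'.symm
    exact hdn ⟨z', hz'⟩
  have hS : ∀ ξ', ξ' ∉ Set.range ⇑i' → ∀ x₀,
      Cyc.secDivFun δ' ((Scheme.Modules.pullback f).obj L) ξ'
        (Cyc.gysinChoice ((Scheme.Modules.pullback f).obj L) s' w' ξ') x₀ =
      Cyc.secDivFun δ' ((Scheme.Modules.pullback f).obj L) ξ' (u₀ ξ') x₀ := by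
    intro ξ' hdn x₀
    show _ = Cyc.secDivFun δ' ((Scheme.Modules.pullback f).obj L) ξ'
      (pullFibre f L ξ' (Cyc.gysinChoice L s w (f ξ'))) x₀
    rw [gysinChoice_of_notMem s' i' hD' w' ξ' hdn,
      gysinChoice_of_notMem s i hD w (f ξ') (hrange ξ' hdn)]
    unfold Cyc.secDivFun
    by_cases hcc : ξ' ⤳ x₀ ∧ δ' x₀ + 1 = δ' ξ'
    · rw [dif_pos hcc, dif_pos hcc]
      exact KF31.secOrdAt_germ_eq_pullFibre δ' hX' hL s hD hc s' hD' x₀ ξ' hcc.1 hcc.2 hdn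
    · rw [dif_neg hcc, dif_neg hcc]
  have hC := c1Cap_sections_in δ' hX' hND (k + r) α' hα'Z
    (Cyc.gysinChoice ((Scheme.Modules.pullback f).obj L) s' w') u₀ hgC hu₀ (Set.range ⇑i') hS
  exact hC

end Groth.Agent.Lib.Helper18.KF32
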