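import Mathlib
import Groth.Agent.Lib.Helper18.KF32
import Groth.Agent.Lib.Helper18.PushStalk

set_option autoImplicit false
set_option linter.style.haveILetI false
set_option linter.unusedSectionVars false

/-! Key formula, part 33: the multiplicities of a flat pullback are unchanged by restricting to a
closed subscheme of the base. -/

universe u
open CategoryTheory AlgebraicGeometry TopologicalSpace Topology Limits

namespace Groth.Agent.Lib.Helper18.KF33

section Alg

variable {A B A₀ B₀ : Type u} [CommRing A] [CommRing B] [CommRing A₀] [CommRing B₀]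
  [IsLocalRing A] [IsLocalRing A₀]

theorem map_maximalIdeal_of_surjective (β : A →+* A₀) (hβ : Function.Surjective β) :
    Ideal.map β (IsLocalRing.maximalIdeal A) = IsLocalRing.maximalIdeal A₀ := by
  have h1 : (IsLocalRing.maximalIdeal A₀).comap β = IsLocalRing.maximalIdeal A := by
    have := Ideal.comap_isMaximal_of_surjective β hβ (K := IsLocalRing.maximalIdeal A₀)
    exact IsLocalRing.eq_maximalIdeal this
  rw [← h1, Ideal.map_comap_of_surjective β hβ]

theorem length_quot_eq (φ : A →+* B) (ψ : B →+* B₀) (β : A →+* A₀) (γ : A₀ →+* B₀)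
    (hcomm : ψ.comp φ = γ.comp β) (hψ : Function.Surjective ψ) (hβ : Function.Surjective β)
    (hker : RingHom.ker ψ ≤ Ideal.map φ (IsLocalRing.maximalIdeal A)) :
    Module.length B (B ⧸ Ideal.map φ (IsLocalRing.maximalIdeal A)) =
      Module.length B₀ (B₀ ⧸ Ideal.map γ (IsLocalRing.maximalIdeal A₀)) := by
  set J : Ideal B := Ideal.map φ (IsLocalRing.maximalIdeal A) with hJ
  set J₀ : Ideal B₀ := Ideal.map γ (IsLocalRing.maximalIdeal A₀) with hJ₀
  have hJJ₀ : Ideal.map ψ J = J₀ := by
    rw [hJ, hJ₀, Ideal.map_map, hcomm, ← Ideal.map_map, map_maximalIdeal_of_surjective β hβ]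
  have hle : J ≤ J₀.comap ψ := by
    rw [← hJJ₀]; exact Ideal.le_comap_map
  have hge : J₀.comap ψ ≤ J := by
    rw [← hJJ₀, Ideal.comap_map_of_surjective' ψ hψ]
    exact sup_le le_rfl hker
  let q : B ⧸ J →+* B₀ ⧸ J₀ := Ideal.quotientMap J₀ ψ hle
  have hqinj : Function.Injective q := Ideal.quotientMap_injective' hge
  have hqsurj : Function.Surjective q := Ideal.quotientMap_surjective hψ
  refine Groth.Agent.Lib.Helper18.PushStalk.length_eq_of_semilinear_bijective ψ hψ
    (q : B ⧸ J →+ B₀ ⧸ J₀) ⟨hqinj, hqsurj⟩ ?_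
  intro r m
  obtain ⟨b, rfl⟩ := Ideal.Quotient.mk_surjective m
  show q (r • Ideal.Quotient.mk J b) = ψ r • q (Ideal.Quotient.mk J b)
  have h1 : r • Ideal.Quotient.mk J b = Ideal.Quotient.mk J (r * b) := rfl
  rw [h1]
  simp only [q, Ideal.quotientMap_mk, map_mul]
  rfl

end Alg

open Groth.Agent.Lib.Helper10.FibreProductStalk Groth.Agent.Lib.Helper18.KF29
  Groth.Agent.Lib.Helper18.FlatPullDiv

variable {X' X D P : Scheme.{u}} {f : X' ⟶ X} {i : D ⟶ X} [IsClosedImmersion i]
  {i' : P ⟶ X'} {g : P ⟶ D} (hc : IsPullback i' g f i)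

include hc in
theorem mult_eq (z : P) : mult g z = mult f (i' z) := by
  haveI : IsClosedImmersion i' := KF30.isClosedImmersion_fst hc
  unfold mult
  congr 2
  symm
  refine length_quot_eq (f.stalkMap (i' z)).hom (i'.stalkMap z).hom (baseStalkMap hc z).hom
    (g.stalkMap z).hom ?_ (i'.stalkMap_surjective z) (baseStalkMap_surjective hc z) ?_
  · have := stalkMap_comp_eq hc z
    rw [← CommRingCat.hom_comp, ← CommRingCat.hom_comp]
    exact congrArg CommRingCat.Hom.hom this
  · rw [ker_stalkMap_pullback hc z]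
    apply Ideal.map_mono
    apply IsLocalRing.le_maximalIdeal
    exact RingHom.ker_ne_top _

include hc in
theorem pullFun_restrict (δ : X → ℤ) (δ' : X' → ℤ) (r : ℤ) (A : X → ℤ) (z : P) :
    Cyc.pullFun g (fun z => δ' (i' z)) (fun d => δ (i d)) r (fun d => A (i d)) z =
      Cyc.pullFun f δ' δ r A (i' z) := by
  rw [pullFun_eq, pullFun_eq, mult_eq hc z]
  have hb : f (i' z) = i (g z) := base_eq hc z
  rw [hb]

end Groth.Agent.Lib.Helper18.KF33
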