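import Mathlib
import Groth.Agent.Lib.Helper18.KF33

/-!
# Gysin maps commute with flat pullback: arbitrary cartesian squares
-/

set_option autoImplicit false
set_option linter.unusedSectionVars false
set_option linter.style.haveILetI false
universe u
open AlgebraicGeometry CategoryTheory TopologicalSpace Limits

namespace Groth.Agent.Lib.Helper18.FF10

theorem gysin_flat_pull {X X' D P : Scheme.{u}} (δ : X → ℤ) (δ' : X' → ℤ) (hX : Cyc.IsSetup X δ)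
    (hX' : Cyc.IsSetup X' δ') (f : X' ⟶ X) [Flat f] (r : ℤ)
    (hsh : ∀ x' : X', (∀ y, f y = f x' → y ⤳ x' → y = x') → δ' x' = δ (f x') + r)
    (L : X.Modules) (hL : PicF.IsInvertible L) (s : L.presheaf.obj (Opposite.op ⊤))
    (i : D ⟶ X) [IsClosedImmersion i] (hD : Cyc.IsZeroSchemeOf i L s)
    (i' : P ⟶ X') (g : P ⟶ D) (hc : IsPullback i' g f i)
    (s' : ((Scheme.Modules.pullback f).obj L).presheaf.obj (Opposite.op ⊤))
    (hD' : Cyc.IsZeroSchemeOf i' ((Scheme.Modules.pullback f).obj L) s') (k : ℤ)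
    (α : AlgebraicCycle X ℤ) (hα : α ∈ Cyc.Zk X δ (k + 1))
    (w : (ξ : X) → Cyc.secFibre L ξ) (hw : ∀ ξ, w ξ ≠ 0)
    (w' : (ξ : X') → Cyc.secFibre ((Scheme.Modules.pullback f).obj L) ξ) (hw' : ∀ ξ, w' ξ ≠ 0)
    (ζ₁ ζ₂ : AlgebraicCycle P ℤ)
    (h₁ : ∀ z, ζ₁ z = Cyc.c1CapFun δ' ((Scheme.Modules.pullback f).obj L)
      (Cyc.pullFun f δ' δ r ⇑α) (Cyc.gysinChoice ((Scheme.Modules.pullback f).obj L) s' w') (i' z))
    (h₂ : ⇑ζ₂ = Cyc.pullFun g (fun z => δ' (i' z)) (fun d => δ (i d)) r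
      (fun d => Cyc.c1CapFun δ L ⇑α (Cyc.gysinChoice L s w) (i d))) :
    Cyc.RatEquiv (fun z => δ' (i' z)) (k + r) ζ₁ ζ₂ := by
  classical
  haveI : IsClosedImmersion i' := Groth.Agent.Lib.Helper18.KF30.isClosedImmersion_fst hc
  have hvL := Groth.Agent.Lib.Helper18.KF17.gysinChoice_ne_zero s w hw
  have hA := Groth.Agent.Lib.Helper18.KF32.gysin_pull_in δ δ' hX' hL s hD hc s' hD' w w' hw hw'
    r hsh k α hα
  have hB := Groth.Agent.Lib.Helper18.KF18.ratEquivZeroIn_comap i' δ' hX' (k + r)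
    _ hA
  refine Groth.Agent.Lib.Helper18.KF16.RatEquivZeroIn.ratEquivZero (S := Set.univ) ?_
  refine Groth.Agent.Lib.Helper18.KF18.RatEquivZeroIn.congr hB ?_
  intro z
  have e0 : (ζ₁ - ζ₂) z = ζ₁ z - ζ₂ z := rfl
  rw [e0, h₁ z, h₂]
  simp only []
  rw [Groth.Agent.Lib.Helper18.KF33.pullFun_restrict hc δ δ' r
    (Cyc.c1CapFun δ L ⇑α (Cyc.gysinChoice L s w)) z,
    Groth.Agent.Lib.Helper18.KF28.pullFun_c1Cap f δ δ' hX hX' r hsh L hL α
      (Cyc.gysinChoice L s w) hvL]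

end Groth.Agent.Lib.Helper18.FF10
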