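import Mathlib
import Groth.Prelude.Def_Cyc
import Groth.Prelude.Def_Bivar
import Groth.Agent.Lib.Helper18.FF6
import Groth.Agent.Lib.Helper18.FlatShift

/-!
# Flat base change commutes with proper pushforward of cycles
-/

set_option autoImplicit false
set_option linter.unusedSectionVars false
set_option linter.style.haveILetI false
universe u
open AlgebraicGeometry CategoryTheory TopologicalSpace Limits

namespace Groth.Agent.Lib.Helper18.FF7

open Groth.Agent.Lib.Helper18.FF4 Groth.Agent.Lib.Helper18.FF5 Groth.Agent.Lib.Helper18.FF6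

theorem natCast_finsum_mem {α : Type*} (s : Set α) (f : α → ℕ) :
    ((∑ᶠ a ∈ s, f a : ℕ) : ℤ) = ∑ᶠ a ∈ s, (f a : ℤ) := by
  have hinj : Function.Injective (Nat.castAddMonoidHom ℤ) := Nat.cast_injective
  have h1 := (Nat.castAddMonoidHom ℤ).map_finsum_of_injective hinj (fun a => ∑ᶠ (_ : a ∈ s), f a)
  have h2 : ∀ a, (Nat.castAddMonoidHom ℤ) (∑ᶠ (_ : a ∈ s), f a) = ∑ᶠ (_ : a ∈ s), (f a : ℤ) :=
    fun a => (Nat.castAddMonoidHom ℤ).map_finsum_of_injective hinj (fun _ => f a)
  simp only [h2] at h1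
  exact h1

/-- fibrewise regrouping of a finsum -/
theorem finsum_mem_fiberwise {α β : Type*} (S : Set α) (g : α → β) (T : Set β)
    (hST : ∀ a ∈ S, g a ∈ T) (t : α → ℤ) (hfin : (S ∩ Function.support t).Finite) :
    ∑ᶠ a ∈ S, t a = ∑ᶠ b ∈ T, ∑ᶠ a ∈ {a | g a = b ∧ a ∈ S}, t a := by
  have hfin' : (g ⁻¹' T ∩ Function.support (S.indicator t)).Finite := by
    refine hfin.subset ?_
    rintro a ⟨-, ha⟩
    have haS : a ∈ S := by
      by_contra hn
      exact ha (Set.indicator_of_notMem hn t)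
    refine ⟨haS, ?_⟩
    intro h0
    apply ha
    rw [Set.indicator_of_mem haS, h0]
  have key := Groth.Agent.Lib.Helper18.CycMap.finsum_fiber g T (S.indicator t) (fun _ => 1) hfin'
  simp only [mul_one] at key
  have hR : ∑ᶠ a ∈ g ⁻¹' T, S.indicator t a = ∑ᶠ a ∈ S, t a := by
    have hset : g ⁻¹' T ∩ S = S := Set.inter_eq_right.mpr (fun a h => hST a h)
    rw [finsum_mem_def, finsum_mem_def, Set.indicator_indicator, hset]
  have hL : ∀ b, ∑ᶠ a ∈ g ⁻¹' {b}, S.indicator t a = ∑ᶠ a ∈ {a | g a = b ∧ a ∈ S}, t a := by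
    intro b
    rw [finsum_mem_def, finsum_mem_def, Set.indicator_indicator]
    rfl
  rw [← hR, ← key]
  exact finsum_mem_congr rfl (fun b _ => hL b)

variable {X X' Y : Scheme.{u}} (f : Y ⟶ X) (p : X' ⟶ X)

/-- the contribution of the points over `(y, x')` -/
theorem per_point [LocallyOfFiniteType f] [Flat p] (δ : X → ℤ) (δ' : X' → ℤ) (δY : Y → ℤ)
    (δY' : ↥(pullback f p) → ℤ) (hX' : Cyc.IsDimFun X' δ')
    (hf : Cyc.DeltaCompat f δY δ) (hf' : Cyc.DeltaCompat (pullback.snd f p) δY' δ') (c : ℤ)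
    (hc : ∀ x' : X', (∀ y, p y = p x' → y ⤳ x' → y = x') → δ' x' = δ (p x') + c)
    (α : Y → ℤ) (y : Y) (x' : X') (h : f y = p x') :
    ∑ᶠ y' ∈ {y' : ↥(pullback f p) | pullback.fst f p y' = y ∧ pullback.snd f p y' = x'},
      Cyc.pullFun (pullback.fst f p) δY' δY c α y' *
        (((pullback.snd f p).residueDegree y' : ℕ) : ℤ) =
      if δ' x' = δ (p x') + c then α y * ((f.residueDegree y : ℕ) : ℤ) * ((multN p x' : ℕ) : ℤ)
      else 0 := by
  set q := pullback.fst f p with hq
  set f' := pullback.snd f p with hf'def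
  obtain ⟨n, -, hn⟩ := hf y
  have hle := (Groth.Agent.Lib.Helper18.FlatShift.delta_le_of_shift p δ δ' hX' c hc x').1
  -- vanishing of the residue degree
  have hdeg0 : ∀ y' : ↥(pullback f p), f' y' = x' → δY' y' ≠ δ' x' → f'.residueDegree y' = 0 := by
    intro y' hy' hne
    apply residueDegree_eq_zero_of_ne f' δY' δ' hf' y'
    rw [hy']
    exact hne
  by_cases E : δ' x' = δ (p x') + c
  · rw [if_pos E]
    by_cases D : δY y = δ (f y)
    · -- the main case
      have hfin := finite_residueFieldMap_of_delta_eq f δY δ hf y D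
      have hCI := core_identity f p y x' h hfin
      have hterm : ∀ y' ∈ {y' : ↥(pullback f p) | q y' = y ∧ f' y' = x'},
          Cyc.pullFun q δY' δY c α y' * ((f'.residueDegree y' : ℕ) : ℤ) =
            α y * (((multN q y' * f'.residueDegree y' : ℕ)) : ℤ) := by
        rintro y' ⟨hy1, hy2⟩
        rw [pullFun_eq, hy1]
        by_cases hc1 : δY' y' = δY y + c
        · rw [if_pos hc1]
          push_cast
          ring
        · rw [if_neg hc1, hdeg0 y' hy2 (by rw [E, ← h, ← D]; exact hc1)]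
          simp
      rw [finsum_mem_congr rfl hterm, ← mul_finsum_mem, ← natCast_finsum_mem, hCI]
      push_cast
      ring
    · -- `κ(y)/κ(f y)` transcendental: both sides vanish
      rw [residueDegree_eq_zero_of_ne f δY δ hf y D]
      have hterm : ∀ y' ∈ {y' : ↥(pullback f p) | q y' = y ∧ f' y' = x'},
          Cyc.pullFun q δY' δY c α y' * ((f'.residueDegree y' : ℕ) : ℤ) = 0 := by
        rintro y' ⟨hy1, hy2⟩
        rw [pullFun_eq, hy1]
        by_cases hc1 : δY' y' = δY y + c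
        · rw [hdeg0 y' hy2 (by rw [E, ← h, hc1]; intro h'; apply D; linarith)]
          simp
        · rw [if_neg hc1, zero_mul]
      rw [finsum_mem_congr rfl hterm]
      simp
  · rw [if_neg E]
    have hlt : δ' x' < δ (p x') + c := lt_of_le_of_ne hle E
    have hterm : ∀ y' ∈ {y' : ↥(pullback f p) | q y' = y ∧ f' y' = x'},
        Cyc.pullFun q δY' δY c α y' * ((f'.residueDegree y' : ℕ) : ℤ) = 0 := by
      rintro y' ⟨hy1, hy2⟩
      rw [pullFun_eq, hy1]
      by_cases hc1 : δY' y' = δY y + c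
      · rw [hdeg0 y' hy2 (by rw [hc1, hn, h]; intro h'; linarith)]
        simp
      · rw [if_neg hc1, zero_mul]
    rw [finsum_mem_congr rfl hterm]
    simp

/-- **Flat base change commutes with proper pushforward of cycles.** -/
theorem base_change [IsProper f] [Flat p] (δ : X → ℤ) (δ' : X' → ℤ) (δY : Y → ℤ)
    (δY' : ↥(pullback f p) → ℤ) (hX' : Cyc.IsDimFun X' δ')
    (hf : Cyc.DeltaCompat f δY δ) (hf' : Cyc.DeltaCompat (pullback.snd f p) δY' δ') (c : ℤ)
    (hc : ∀ x' : X', (∀ y, p y = p x' → y ⤳ x' → y = x') → δ' x' = δ (p x') + c)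
    (α : AlgebraicCycle Y ℤ) (α' : AlgebraicCycle (pullback f p) ℤ)
    (hα' : ⇑α' = Cyc.pullFun (pullback.fst f p) δY' δY c ⇑α) :
    Cyc.pullFun p δ' δ c ⇑(AlgebraicCycle.map f δY δ α) =
      ⇑(AlgebraicCycle.map (pullback.snd f p) δY' δ' α') := by
  ext x'
  set q := pullback.fst f p with hq
  set f' := pullback.snd f p with hf'def
  rw [pullFun_eq]
  simp only [AlgebraicCycle.map, Function.locallyFinsupp.map_apply]
  -- the right hand side, regrouped
  have hR1 : ∑ᶠ y' ∈ f' ⁻¹' {x'}, α' y' * ((AlgebraicCycle.mapCoeff f' δY' δ' y' : ℕ) : ℤ) =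
      ∑ᶠ y' ∈ {y' | f' y' = x'}, Cyc.pullFun q δY' δY c α y' * ((f'.residueDegree y' : ℕ) : ℤ) := by
    apply finsum_mem_congr rfl
    intro y' _
    rw [mapCoeff_eq_residueDegree f' δY' δ' hf' y', hα']
  have hfinS : ({y' | f' y' = x'} ∩ Function.support
      (fun y' => Cyc.pullFun q δY' δY c α y' * ((f'.residueDegree y' : ℕ) : ℤ))).Finite := by
    refine (Bivar.finite_fiber_inter_support f' α' x').subset ?_
    rintro y' ⟨hy1, hy2⟩
    refine ⟨hy1, ?_⟩
    intro h0
    apply hy2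
    change Cyc.pullFun q δY' δY c α y' * _ = 0
    rw [← hα', h0, zero_mul]
  have hST : ∀ y' ∈ {y' : ↥(pullback f p) | f' y' = x'}, q y' ∈ {y : Y | f y = p x'} := by
    intro y' hy'
    have hy'' : f' y' = x' := hy'
    change f (q y') = p x'
    rw [← hy'']
    exact congrArg (fun m : pullback f p ⟶ X => m y') pullback.condition
  have hR2 := finsum_mem_fiberwise {y' : ↥(pullback f p) | f' y' = x'} (fun y' => q y')
    {y : Y | f y = p x'} hST _ hfinS
  have hR3 : ∀ y ∈ {y : Y | f y = p x'},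
      ∑ᶠ y' ∈ {y' : ↥(pullback f p) | q y' = y ∧ y' ∈ {y' | f' y' = x'}},
        Cyc.pullFun q δY' δY c α y' * ((f'.residueDegree y' : ℕ) : ℤ) =
      if δ' x' = δ (p x') + c then α y * ((f.residueDegree y : ℕ) : ℤ) * ((multN p x' : ℕ) : ℤ)
      else 0 :=
    fun y hy => per_point f p δ δ' δY δY' hX' hf hf' c hc α y x' hy
  rw [hR1, hR2, finsum_mem_congr rfl hR3]
  by_cases E : δ' x' = δ (p x') + c
  · simp only [if_pos E]
    rw [← finsum_mem_mul]
    congr 1
    apply finsum_mem_congr rfl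
    intro y _
    rw [mapCoeff_eq_residueDegree f δY δ hf y]
  · simp only [if_neg E]
    simp

end Groth.Agent.Lib.Helper18.FF7
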