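import Mathlib
import Groth.Prelude.Def_Cyc
import Groth.Prelude.Def_Bivar
import Groth.Agent.Lib.Helper18.FF7

/-!
# Flat base change commutes with proper pushforward: arbitrary cartesian squares
-/

set_option autoImplicit false
set_option linter.unusedSectionVars false
set_option linter.style.haveILetI false
universe u
open AlgebraicGeometry CategoryTheory TopologicalSpace Limits

namespace Groth.Agent.Lib.Helper18.FF9

open Groth.Agent.Lib.Helper18.FF2 Groth.Agent.Lib.Helper18.FF3 Groth.Agent.Lib.Helper18.FF4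
  Groth.Agent.Lib.Helper18.FF5 Groth.Agent.Lib.Helper18.FF6 Groth.Agent.Lib.Helper18.FF7

variable {X X' Y P : Scheme.{u}} (f : Y ⟶ X) (p : X' ⟶ X) (q : P ⟶ Y) (f' : P ⟶ X')

/-- **Core identity** for an arbitrary cartesian square. -/
theorem core_identity [Flat p] (hsq0 : IsPullback f' q p f) (y : Y) (x' : X') (h : f y = p x')
    (hfin : (f.residueFieldMap y).hom.Finite) :
    ∑ᶠ y' ∈ {y' : P | q y' = y ∧ f' y' = x'}, multN q y' * f'.residueDegree y' =
      f.residueDegree y * multN p x' := by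
  have hsq := isPullback_fiberToSpecResidueField_of_isPullback hsq0 y
  set π : q.fiber y ⟶ p.fiber (f y) :=
    pullback.map _ _ _ _ f' (Spec.map (f.residueFieldMap y)) f hsq0.w.symm (by simp) with hπ
  have hπι : π ≫ p.fiberι (f y) = q.fiberι y ≫ f' := pullback.lift_fst _ _ _
  haveI : IsFinite (Spec.map (f.residueFieldMap y)) := (IsFinite.SpecMap_iff _).2 hfin
  have hflat0 : (f.residueFieldMap y).hom.Flat := by
    letI := (f.residueFieldMap y).hom.toAlgebra
    exact (inferInstance : Module.Flat (X.residueField (f y)) (Y.residueField y))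
  haveI : Flat (Spec.map (f.residueFieldMap y)) := Flat.SpecMap_iff.2 hflat0
  haveI : IsFinite π := MorphismProperty.of_isPullback hsq.flip inferInstance
  haveI : Flat π := MorphismProperty.of_isPullback hsq.flip inferInstance
  have hrank : ∀ z : p.fiber (f y), π.finrank z = f.residueDegree y := by
    intro z
    refine (Scheme.Hom.finrank_of_isPullback _ _ _ _ hsq.flip z).trans ?_
    rw [Scheme.Hom.finrank_SpecMap_eq_finrank hfin hflat0]
    letI := (f.residueFieldMap y).hom.toAlgebra
    change Module.rankAtStalk (R := X.residueField (f y)) (Y.residueField y) _ = _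
    rw [Module.rankAtStalk_eq_finrank_of_free]
    rfl
  set z₀ : p.fiber (f y) := (p.fiberHomeo (f y)).symm ⟨x', h.symm⟩ with hz₀
  have hz₀x : p.fiberι (f y) z₀ = x' := p.fiberι_fiberHomeo_symm (f y) ⟨x', h.symm⟩
  have hreindex : ∑ᶠ y' ∈ {y' : P | q y' = y ∧ f' y' = x'},
      multN q y' * f'.residueDegree y' =
      ∑ᶠ g ∈ {g : q.fiber y | π g = z₀},
        multN q (q.fiberι y g) * f'.residueDegree (q.fiberι y g) := by
    symm
    refine finsum_mem_eq_of_bijOn (fun g => q.fiberι y g) ⟨?_, ?_, ?_⟩ (fun _ _ => rfl)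
    · intro g hg
      have hg' : π g = z₀ := hg
      refine ⟨?_, ?_⟩
      · have : q.fiberι y g ∈ Set.range (q.fiberι y) := ⟨g, rfl⟩
        rw [q.range_fiberι y] at this
        exact this
      · change (q.fiberι y ≫ f') g = x'
        rw [← hπι, Scheme.Hom.comp_apply, hg', hz₀x]
    · exact (q.fiberι y).isEmbedding.injective.injOn
    · rintro y' ⟨hy1, hy2⟩
      have : y' ∈ Set.range (q.fiberι y) := by
        rw [q.range_fiberι y]
        exact hy1
      obtain ⟨g, rfl⟩ := this
      refine ⟨g, ?_, rfl⟩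
      apply (p.fiberι (f y)).isEmbedding.injective
      change (π ≫ p.fiberι (f y)) g = _
      rw [hπι, Scheme.Hom.comp_apply, hy2, hz₀x]
  rw [hreindex]
  have hterm : ∀ g ∈ {g : q.fiber y | π g = z₀},
      multN q (q.fiberι y g) * f'.residueDegree (q.fiberι y g) =
        multN p x' * (fibLenAt π g).toNat := by
    intro g hg
    have hg' : π g = z₀ := hg
    have hdeg : f'.residueDegree (q.fiberι y g) = π.residueDegree g := by
      have h1 := Groth.Agent.Lib.Helper18.CycMap.residueDegree_comp (q.fiberι y) f' g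
      have h2 := Groth.Agent.Lib.Helper18.CycMap.residueDegree_comp π (p.fiberι (f y)) g
      rw [residueDegree_fiberι, mul_one] at h1
      rw [residueDegree_fiberι, one_mul] at h2
      rw [← h1, ← h2]
      exact congrArg (fun m => Scheme.Hom.residueDegree m g) hπι.symm
    rw [hdeg, multN_fiberι, toNat_length_stalk_mul_residueDegree π g, length_stalk_congr hg',
      ← multN_fiberι p (f y) z₀]
    congr 2
  rw [finsum_mem_congr rfl hterm, ← mul_finsum_mem, finsum_fibLenAt π z₀, hrank z₀, mul_comm]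

/-- the contribution of the points over `(y, x')` -/
theorem per_point [LocallyOfFiniteType f] [Flat p] (hsq0 : IsPullback f' q p f)
    (δ : X → ℤ) (δ' : X' → ℤ) (δY : Y → ℤ)
    (δY' : P → ℤ) (hX' : Cyc.IsDimFun X' δ')
    (hf : Cyc.DeltaCompat f δY δ) (hf' : Cyc.DeltaCompat f' δY' δ') (c : ℤ)
    (hc : ∀ x' : X', (∀ y, p y = p x' → y ⤳ x' → y = x') → δ' x' = δ (p x') + c)
    (α : Y → ℤ) (y : Y) (x' : X') (h : f y = p x') :
    ∑ᶠ y' ∈ {y' : P | q y' = y ∧ f' y' = x'},
      Cyc.pullFun q δY' δY c α y' * ((f'.residueDegree y' : ℕ) : ℤ) =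
      if δ' x' = δ (p x') + c then α y * ((f.residueDegree y : ℕ) : ℤ) * ((multN p x' : ℕ) : ℤ)
      else 0 := by
  obtain ⟨n, -, hn⟩ := hf y
  have hle := (Groth.Agent.Lib.Helper18.FlatShift.delta_le_of_shift p δ δ' hX' c hc x').1
  have hdeg0 : ∀ y' : P, f' y' = x' → δY' y' ≠ δ' x' → f'.residueDegree y' = 0 := by
    intro y' hy' hne
    apply residueDegree_eq_zero_of_ne f' δY' δ' hf' y'
    rw [hy']
    exact hne
  by_cases E : δ' x' = δ (p x') + c
  · rw [if_pos E]
    by_cases D : δY y = δ (f y)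
    · have hfin := finite_residueFieldMap_of_delta_eq f δY δ hf y D
      have hCI := core_identity f p q f' hsq0 y x' h hfin
      have hterm : ∀ y' ∈ {y' : P | q y' = y ∧ f' y' = x'},
          Cyc.pullFun q δY' δY c α y' * ((f'.residueDegree y' : ℕ) : ℤ) =
            α y * (((multN q y' * f'.residueDegree y' : ℕ)) : ℤ) := by
        rintro y' ⟨hy1, hy2⟩
        rw [pullFun_eq, hy1]
        by_cases hc1 : δY' y' = δY y + c
        · rw [if_pos hc1]
          push_cast
          ring
        · rw [if_neg hc1, hdeg0 y' hy2 (by rw [E, ← h, ← D]; exact hc1)]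
          simp
      rw [finsum_mem_congr rfl hterm, ← mul_finsum_mem, ← natCast_finsum_mem, hCI]
      push_cast
      ring
    · rw [residueDegree_eq_zero_of_ne f δY δ hf y D]
      have hterm : ∀ y' ∈ {y' : P | q y' = y ∧ f' y' = x'},
          Cyc.pullFun q δY' δY c α y' * ((f'.residueDegree y' : ℕ) : ℤ) = 0 := by
        rintro y' ⟨hy1, hy2⟩
        rw [pullFun_eq, hy1]
        by_cases hc1 : δY' y' = δY y + c
        · rw [hdeg0 y' hy2 (by rw [E, ← h, hc1]; intro h'; apply D; linarith)]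
          simp
        · rw [if_neg hc1, zero_mul]
      rw [finsum_mem_congr rfl hterm]
      simp
  · rw [if_neg E]
    have hlt : δ' x' < δ (p x') + c := lt_of_le_of_ne hle E
    have hterm : ∀ y' ∈ {y' : P | q y' = y ∧ f' y' = x'},
        Cyc.pullFun q δY' δY c α y' * ((f'.residueDegree y' : ℕ) : ℤ) = 0 := by
      rintro y' ⟨hy1, hy2⟩
      rw [pullFun_eq, hy1]
      by_cases hc1 : δY' y' = δY y + c
      · rw [hdeg0 y' hy2 (by rw [hc1, hn, h]; intro h'; linarith)]
        simp
      · rw [if_neg hc1, zero_mul]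
    rw [finsum_mem_congr rfl hterm]
    simp

/-- **Flat base change commutes with proper pushforward of cycles**, for an arbitrary cartesian
square. -/
theorem base_change [IsProper f] [Flat p] [QuasiCompact f'] (hsq0 : IsPullback f' q p f)
    (δ : X → ℤ) (δ' : X' → ℤ) (δY : Y → ℤ)
    (δY' : P → ℤ) (hX' : Cyc.IsDimFun X' δ')
    (hf : Cyc.DeltaCompat f δY δ) (hf' : Cyc.DeltaCompat f' δY' δ') (c : ℤ)
    (hc : ∀ x' : X', (∀ y, p y = p x' → y ⤳ x' → y = x') → δ' x' = δ (p x') + c)
    (α : AlgebraicCycle Y ℤ) (α' : AlgebraicCycle P ℤ)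
    (hα' : ⇑α' = Cyc.pullFun q δY' δY c ⇑α) :
    Cyc.pullFun p δ' δ c ⇑(AlgebraicCycle.map f δY δ α) =
      ⇑(AlgebraicCycle.map f' δY' δ' α') := by
  ext x'
  rw [pullFun_eq]
  simp only [AlgebraicCycle.map, Function.locallyFinsupp.map_apply]
  have hR1 : ∑ᶠ y' ∈ f' ⁻¹' {x'}, α' y' * ((AlgebraicCycle.mapCoeff f' δY' δ' y' : ℕ) : ℤ) =
      ∑ᶠ y' ∈ {y' | f' y' = x'}, Cyc.pullFun q δY' δY c α y' * ((f'.residueDegree y' : ℕ) : ℤ) := by
    apply finsum_mem_congr rfl
    intro y' _
    rw [mapCoeff_eq_residueDegree f' δY' δ' hf' y', hα']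
  have hfinS : ({y' | f' y' = x'} ∩ Function.support
      (fun y' => Cyc.pullFun q δY' δY c α y' * ((f'.residueDegree y' : ℕ) : ℤ))).Finite := by
    refine (Bivar.finite_fiber_inter_support f' α' x').subset ?_
    rintro y' ⟨hy1, hy2⟩
    refine ⟨hy1, ?_⟩
    intro h0
    apply hy2
    change Cyc.pullFun q δY' δY c α y' * _ = 0
    rw [← hα', h0, zero_mul]
  have hST : ∀ y' ∈ {y' : P | f' y' = x'}, q y' ∈ {y : Y | f y = p x'} := by
    intro y' hy'
    have hy'' : f' y' = x' := hy'
    change f (q y') = p x'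
    rw [← hy'']
    exact congrArg (fun m : P ⟶ X => m y') hsq0.w.symm
  have hR2 := finsum_mem_fiberwise {y' : P | f' y' = x'} (fun y' => q y')
    {y : Y | f y = p x'} hST _ hfinS
  have hR3 : ∀ y ∈ {y : Y | f y = p x'},
      ∑ᶠ y' ∈ {y' : P | q y' = y ∧ y' ∈ {y' | f' y' = x'}},
        Cyc.pullFun q δY' δY c α y' * ((f'.residueDegree y' : ℕ) : ℤ) =
      if δ' x' = δ (p x') + c then α y * ((f.residueDegree y : ℕ) : ℤ) * ((multN p x' : ℕ) : ℤ)
      else 0 :=
    fun y hy => per_point f p q f' hsq0 δ δ' δY δY' hX' hf hf' c hc α y x' hy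
  rw [hR1, hR2, finsum_mem_congr rfl hR3]
  by_cases E : δ' x' = δ (p x') + c
  · simp only [if_pos E]
    rw [← finsum_mem_mul]
    congr 1
    apply finsum_mem_congr rfl
    intro y _
    rw [mapCoeff_eq_residueDegree f δY δ hf y]
  · simp only [if_neg E]
    simp

end Groth.Agent.Lib.Helper18.FF9
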