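import Mathlib
import Groth.Prelude.Def_Bivar2
import Groth.Agent.Lib.Helper18.FF8
import Groth.Agent.Lib.Helper18.FF9
import Groth.Agent.Lib.Helper18.FF10
import Groth.Agent.Lib.Helper18.SetupLft
import Groth.Agent.Lib.Helper18.RelDimShift
import Groth.Agent.Lib.Helper18.FlatPullC1
import Groth.Agent.Lib.Helper18.SubCyc
import Groth.Agent.Lib.Helper18.KF21
import Groth.Agent.Lib.Helper21.BaseChg4
import Groth.Agent.S1857
import Groth.Agent.Lib.Helper18.ClImm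
import Groth.Agent.Lib.Helper18.KF17
import Groth.Agent.Lib.Helper29.QCohLocFree

/-!
# The flat pullback bivariant class
-/

set_option autoImplicit false
set_option linter.unusedSectionVars false
set_option linter.style.haveILetI false
universe u
open AlgebraicGeometry CategoryTheory TopologicalSpace Limits

namespace Groth.Agent.Lib.Helper18.FF11

open Groth.Agent.Lib.Helper18.FF8

/-- rationally equivalent cycles have the same class -/
theorem cl_eq_of_ratEquiv {X : Scheme.{u}} {δ : X → ℤ} {k : ℤ} (α β : AlgebraicCycle X ℤ)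
    (hα : α ∈ Cyc.Zk X δ k) (hβ : β ∈ Cyc.Zk X δ k) (h : Cyc.RatEquiv δ k α β) :
    ChowOps.cl α hα = ChowOps.cl β hβ := by
  unfold ChowOps.cl ChowOps.clHom
  rw [QuotientAddGroup.mk'_apply, QuotientAddGroup.mk'_apply, QuotientAddGroup.eq_iff_sub_mem]
  exact AddSubgroup.subset_closure (show Cyc.RatEquivZero δ k (α - β) from h)

section Square

variable {X Y : Scheme.{u}} {δX : X → ℤ} {δY : Y → ℤ} (hX : Cyc.IsSetup X δX)
  (hY : Cyc.IsSetup Y δY) {f : X ⟶ Y} [Flat f] [LocallyOfFiniteType f] {r : ℕ}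
  (hr : Cyc.HasRelDim f r) (hδ : Cyc.DeltaCompat f δX δY) (s : Bivar.Sq f δX δY)

include hY in
theorem isSetupY : Cyc.IsSetup s.Y' s.δY' :=
  haveI := s.lft
  SetupLft.isSetup_of_locallyOfFiniteType s.g δY hY s.δY' s.compatY

theorem lft_g' : LocallyOfFiniteType s.g' :=
  haveI := s.lft
  MorphismProperty.of_isPullback s.isPullback inferInstance

include hX in
theorem isSetupX : Cyc.IsSetup s.X' s.δX' :=
  haveI := lft_g' s
  SetupLft.isSetup_of_locallyOfFiniteType s.g' δX hX s.δX' s.compatX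

theorem flat_f' : Flat s.f' := MorphismProperty.of_isPullback s.isPullback.flip inferInstance

theorem lft_f' : LocallyOfFiniteType s.f' :=
  MorphismProperty.of_isPullback s.isPullback.flip inferInstance

include hr in
theorem hasRelDim_f' : Cyc.HasRelDim s.f' r :=
  Groth.Agent.Lib.Helper21.BaseChg.hasRelDim_of_isPullback s.isPullback.flip r hr

include hδ in
theorem deltaCompat_f' : Cyc.DeltaCompat s.f' s.δX' s.δY' := by
  refine deltaCompat_cancel s.f' s.g s.δX' s.δY' δY ?_ s.compatY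
  rw [s.isPullback.w]
  exact Bivar.deltaCompat_comp s.g' f s.δX' δX δY s.compatX hδ

include hr hδ in
theorem shift_f' (x' : s.X') (hmax : ∀ y, s.f' y = s.f' x' → y ⤳ x' → y = x') :
    s.δX' x' = s.δY' (s.f' x') + (r : ℤ) :=
  haveI := lft_f' s
  RelDimShift.shift_of_hasRelDim s.f' s.δX' s.δY' r (hasRelDim_f' hr s) (deltaCompat_f' hδ s)
    x' hmax

/-- the flat pullback cycle along the base change -/
noncomputable def pc (α : AlgebraicCycle s.Y' ℤ) : AlgebraicCycle s.X' ℤ :=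
  haveI := flat_f' s
  FlatPullC1.pullCycle s.f' s.δY' s.δX' (isSetupX hX s) (r : ℤ) (shift_f' hr hδ s) α

theorem pc_coe (α : AlgebraicCycle s.Y' ℤ) :
    ⇑(pc hX hr hδ s α) = Cyc.pullFun s.f' s.δX' s.δY' (r : ℤ) ⇑α := rfl

theorem pc_mem (k : ℤ) (α : AlgebraicCycle s.Y' ℤ) (hα : α ∈ Cyc.Zk s.Y' s.δY' k) :
    pc hX hr hδ s α ∈ Cyc.Zk s.X' s.δX' (k - -(r : ℤ)) := by
  have := Bivar.pullFun_mem_Zk s.f' s.δX' s.δY' (r : ℤ) k hα (pc hX hr hδ s α) rfl
  rwa [sub_neg_eq_add]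

theorem pc_add (α β : AlgebraicCycle s.Y' ℤ) :
    pc hX hr hδ s (α + β) = pc hX hr hδ s α + pc hX hr hδ s β := by
  apply DFunLike.coe_injective
  rw [Function.locallyFinsuppWithin.coe_add, pc_coe, pc_coe, pc_coe,
    Function.locallyFinsuppWithin.coe_add, Bivar.pullFun_add]

theorem pc_zero : pc hX hr hδ s 0 = 0 := by
  apply DFunLike.coe_injective
  rw [pc_coe, Function.locallyFinsuppWithin.coe_zero, Function.locallyFinsuppWithin.coe_zero,
    Bivar.pullFun_zero]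

/-- flat pullback on `k`-cycles -/
noncomputable def pullZk (k : ℤ) :
    ↥(ChowOps.zk s.Y' s.δY' k) →+ ↥(ChowOps.zk s.X' s.δX' (k - -(r : ℤ))) where
  toFun a := ⟨pc hX hr hδ s a.1, pc_mem hX hr hδ s k a.1 a.2⟩
  map_zero' := Subtype.ext (pc_zero hX hr hδ s)
  map_add' a b := Subtype.ext (pc_add hX hr hδ s a.1 b.1)

include hY in
theorem ratTriv_le (k : ℤ) :
    ChowOps.ratTriv s.Y' s.δY' k ≤
      (ChowOps.ratTriv s.X' s.δX' (k - -(r : ℤ))).comap (pullZk hX hr hδ s k) := by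
  unfold ChowOps.ratTriv
  rw [AddSubgroup.closure_le]
  intro a ha
  apply AddSubgroup.subset_closure
  haveI := flat_f' s
  have h := FlatPullRat.ratEquivZero_pull s.f' s.δY' s.δX' (isSetupY hY s) (isSetupX hX s) (r : ℤ)
    (shift_f' hr hδ s) k a.1 ha (pc hX hr hδ s a.1) rfl
  have e : k + (r : ℤ) = k - -(r : ℤ) := (sub_neg_eq_add k _).symm
  rw [e] at h
  exact h

/-- the operation of the flat pullback class -/
noncomputable def op (k : ℤ) :
    ChowOps.CH s.Y' s.δY' k →+ ChowOps.CH s.X' s.δX' (k - -(r : ℤ)) :=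
  QuotientAddGroup.map _ _ (pullZk hX hr hδ s k) (ratTriv_le hX hY hr hδ s k)

theorem op_cl (k : ℤ) (α : AlgebraicCycle s.Y' ℤ) (hα : α ∈ Cyc.Zk s.Y' s.δY' k) :
    op hX hY hr hδ s k (ChowOps.cl α hα) =
      ChowOps.cl (pc hX hr hδ s α) (pc_mem hX hr hδ s k α hα) := rfl


section Push

variable (t : Bivar.Sq f δX δY)

include hX hY hr hδ in
theorem push_ok (h : t.Y' ⟶ s.Y') [IsProper h] (h' : t.X' ⟶ s.X') [IsProper h']
    (w₁ : h ≫ s.g = t.g) (w₂ : h' ≫ s.f' = t.f' ≫ h) (w₃ : h' ≫ s.g' = t.g') (k : ℤ) :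
    Bivar.PushOK t.δY' t.δX' s.δY' s.δX' h h' (op hX hY hr hδ t k) (op hX hY hr hδ s k) := by
  intro α hα
  refine ⟨pc hX hr hδ t α, pc_mem hX hr hδ t k α hα, op_cl hX hY hr hδ t k α hα, ?_⟩
  rw [op_cl]
  apply Bivar.cl_congr
  apply DFunLike.coe_injective
  rw [pc_coe]
  haveI := flat_f' s
  have hsq0 : IsPullback h' t.f' s.f' h :=
    IsPullback.of_right (by rw [w₃, w₁]; exact t.isPullback.flip) w₂ s.isPullback.flip
  have hf : Cyc.DeltaCompat h t.δY' s.δY' :=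
    deltaCompat_cancel h s.g t.δY' s.δY' δY (w₁ ▸ t.compatY) s.compatY
  have hf' : Cyc.DeltaCompat h' t.δX' s.δX' :=
    deltaCompat_cancel h' s.g' t.δX' s.δX' δX (w₃ ▸ t.compatX) s.compatX
  exact Groth.Agent.Lib.Helper18.FF9.base_change h s.f' t.f' h' hsq0 s.δY' s.δX' t.δY' t.δX'
    (isSetupX hX s).2.2 hf hf' (r : ℤ) (shift_f' hr hδ s) α (pc hX hr hδ t α) rfl

end Push

section Pull

variable (t : Bivar.Sq f δX δY)

include hX hY hr hδ in
theorem pull_ok (h : t.Y' ⟶ s.Y') [Flat h] (h' : t.X' ⟶ s.X') [Flat h'] (r' : ℕ)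
    (hr₁ : Cyc.HasRelDim h r') (hr₂ : Cyc.HasRelDim h' r')
    (w₁ : h ≫ s.g = t.g) (w₂ : h' ≫ s.f' = t.f' ≫ h) (w₃ : h' ≫ s.g' = t.g') (k : ℤ) :
    Bivar.PullOK s.δY' s.δX' t.δY' t.δX' h h' (r' : ℤ) (op hX hY hr hδ s k)
      (op hX hY hr hδ t (k + r')) := by
  intro α hα
  refine ⟨pc hX hr hδ s α, pc_mem hX hr hδ s k α hα, op_cl hX hY hr hδ s k α hα, ?_⟩
  intro α₁ hα₁c hα₁
  refine ⟨pc hX hr hδ t α₁, pc_mem hX hr hδ t (k + r') α₁ hα₁, ?_, op_cl hX hY hr hδ t _ α₁ hα₁⟩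
  rw [pc_coe, pc_coe, hα₁c]
  haveI := flat_f' s
  haveI := flat_f' t
  haveI := lft_f' s
  haveI := lft_f' t
  haveI : LocallyOfFiniteType (h ≫ s.g) := by rw [w₁]; exact t.lft
  haveI : LocallyOfFiniteType h := locallyOfFiniteType_of_comp h s.g
  haveI : LocallyOfFiniteType (h' ≫ s.g') := by rw [w₃]; exact lft_g' t
  haveI : LocallyOfFiniteType h' := locallyOfFiniteType_of_comp h' s.g'
  have hf : Cyc.DeltaCompat h t.δY' s.δY' :=
    deltaCompat_cancel h s.g t.δY' s.δY' δY (w₁ ▸ t.compatY) s.compatY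
  have hf' : Cyc.DeltaCompat h' t.δX' s.δX' :=
    deltaCompat_cancel h' s.g' t.δX' s.δX' δX (w₃ ▸ t.compatX) s.compatX
  have e1 := (Groth.Agent.S1857.result t.X' t.Y' s.Y' t.δX' t.δY' s.δY' (isSetupX hX t)
    (isSetupY hY t) (isSetupY hY s) t.f' h r r' (hasRelDim_f' hr t) hr₁ (deltaCompat_f' hδ t) hf
    k).2 α hα
  have e2 := (Groth.Agent.S1857.result t.X' s.X' s.Y' t.δX' s.δX' s.δY' (isSetupX hX t)
    (isSetupX hX s) (isSetupY hY s) h' s.f' r' r hr₂ (hasRelDim_f' hr s) hf' (deltaCompat_f' hδ s)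
    k).2 α hα
  rw [e1, e2, w₂, add_comm]

end Pull

section Gysin

variable (t : Bivar.Sq f δX δY)

include hX hY hr hδ in
theorem gysin_ok (i : t.Y' ⟶ s.Y') [IsClosedImmersion i] (j : t.X' ⟶ s.X') [IsClosedImmersion j]
    (w₁ : i ≫ s.g = t.g) (w₂ : j ≫ s.f' = t.f' ≫ i) (w₃ : j ≫ s.g' = t.g')
    (L : s.Y'.Modules) (hL : PicF.IsInvertible L) (σ : L.presheaf.obj (Opposite.op ⊤))
    (hσ : Cyc.IsZeroSchemeOf i L σ)
    (τ : ((Scheme.Modules.pullback s.f').obj L).presheaf.obj (Opposite.op ⊤))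
    (hτ : Cyc.IsZeroSchemeOf j ((Scheme.Modules.pullback s.f').obj L) τ) (k : ℤ) :
    Bivar.GysinOK s.δY' t.δY' s.δX' t.δX' i L σ j ((Scheme.Modules.pullback s.f').obj L) τ
      (op hX hY hr hδ s k) (op hX hY hr hδ t (k - 1)) := by
  intro α hα
  refine ⟨pc hX hr hδ s α, pc_mem hX hr hδ s k α hα, op_cl hX hY hr hδ s k α hα, ?_⟩
  intro w hw γ hγc hγ w' hw'
  have hXs := isSetupX hX s
  have hYs := isSetupY hY s
  haveI := flat_f' s
  have hN : PicF.IsInvertible ((Scheme.Modules.pullback s.f').obj L) :=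
    Groth.Agent.Lib.Helper29.QCoh.isInvertible_pullback s.f' hL
  have eY : t.δY' = fun d => s.δY' (i d) :=
    deltaCompat_unique i _ _ s.δY'
      (deltaCompat_cancel i s.g t.δY' s.δY' δY (w₁ ▸ t.compatY) s.compatY)
      (Groth.Agent.Lib.Helper18.ClImm.deltaCompat i s.δY')
  have eX : t.δX' = fun z => s.δX' (j z) :=
    deltaCompat_unique j _ _ s.δX'
      (deltaCompat_cancel j s.g' t.δX' s.δX' δX (w₃ ▸ t.compatX) s.compatX)
      (Groth.Agent.Lib.Helper18.ClImm.deltaCompat j s.δX')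
  set Γ := Groth.Agent.Lib.Helper18.KF21.c1CapCycle s.δX' hXs hN (pc hX hr hδ s α)
    (Cyc.gysinChoice ((Scheme.Modules.pullback s.f').obj L) τ w')
    (Groth.Agent.Lib.Helper18.KF17.gysinChoice_ne_zero τ w' hw') with hΓ
  have hζmem : Groth.Agent.Lib.Helper18.SubCyc.comapCycle j Γ ∈
      Cyc.Zk t.X' t.δX' (k - 1 - -(r : ℤ)) := by
    intro z hz
    by_contra hne
    apply hz
    rw [eX]
    have hne' : Cyc.c1CapFun s.δX' ((Scheme.Modules.pullback s.f').obj L) ⇑(pc hX hr hδ s α)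
      (Cyc.gysinChoice ((Scheme.Modules.pullback s.f').obj L) τ w') (j z) ≠ 0 := hne
    refine Groth.Agent.Lib.Helper18.KF21.c1Cap_mem_Zk s.δX' (k - 1 - -(r : ℤ)) _ ?_ _ (j z) hne'
    intro η hη
    by_contra hne2
    exact hη (pc_mem hX hr hδ s k α hα η (by intro h; apply hne2; rw [h]; ring))
  refine ⟨Groth.Agent.Lib.Helper18.SubCyc.comapCycle j Γ, hζmem, fun e => rfl, ?_⟩
  rw [op_cl]
  symm
  apply cl_eq_of_ratEquiv
  have hsqc : IsPullback j t.f' s.f' i :=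
    IsPullback.of_right (by rw [w₃, w₁]; exact t.isPullback.flip) w₂ s.isPullback.flip
  have hα' : α ∈ Cyc.Zk s.Y' s.δY' (k - 1 + 1) := by rwa [sub_add_cancel]
  have key := Groth.Agent.Lib.Helper18.FF10.gysin_flat_pull s.δY' s.δX' hYs hXs s.f' (r : ℤ)
    (shift_f' hr hδ s) L hL σ i hσ j t.f' hsqc τ hτ (k - 1) α hα' w hw w' hw'
    (Groth.Agent.Lib.Helper18.SubCyc.comapCycle j Γ) (pc hX hr hδ t γ) (fun z => rfl)
    (by
      rw [pc_coe, eX, eY]
      congr 1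
      funext d
      exact hγc d)
  rw [eX]
  have e : k - 1 - -(r : ℤ) = k - 1 + (r : ℤ) := sub_neg_eq_add _ _
  rw [e]
  exact key

end Gysin



end Square

/-- the flat pullback bivariant class -/
noncomputable def flatPullCl {X Y : Scheme.{u}} {δX : X → ℤ} {δY : Y → ℤ} (hX : Cyc.IsSetup X δX)
    (hY : Cyc.IsSetup Y δY) (f : X ⟶ Y) [Flat f] [LocallyOfFiniteType f] (r : ℕ)
    (hr : Cyc.HasRelDim f r) (hδ : Cyc.DeltaCompat f δX δY) : Bivar.Cl (-(r : ℤ)) f δX δY where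
  op s k := op hX hY hr hδ s k
  push s t h _ h' _ w₁ w₂ w₃ k := push_ok hX hY hr hδ s t h h' w₁ w₂ w₃ k
  pull s t h _ h' _ r' hr₁ hr₂ w₁ w₂ w₃ k := pull_ok hX hY hr hδ s t h h' r' hr₁ hr₂ w₁ w₂ w₃ k
  gysin s t i _ j _ w₁ w₂ w₃ L hL σ hσ τ hτ k :=
    gysin_ok hX hY hr hδ s t i j w₁ w₂ w₃ L hL σ hσ τ hτ k

theorem flatPullCl_isFlatPullClass {X Y : Scheme.{u}} {δX : X → ℤ} {δY : Y → ℤ}
    (hX : Cyc.IsSetup X δX) (hY : Cyc.IsSetup Y δY) (f : X ⟶ Y) [Flat f] [LocallyOfFiniteType f]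
    (r : ℕ) (hr : Cyc.HasRelDim f r) (hδ : Cyc.DeltaCompat f δX δY) :
    Bivar.IsFlatPullClass f r (flatPullCl hX hY f r hr hδ) := by
  refine ⟨inferInstance, inferInstance, hr, hδ, ?_⟩
  intro s k α hα α₁ h hα₁
  change op hX hY hr hδ s k (ChowOps.cl α hα) = _
  rw [op_cl]
  exact Bivar.cl_congr (DFunLike.coe_injective ((pc_coe hX hr hδ s α).trans h.symm)) _ _


end Groth.Agent.Lib.Helper18.FF11
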