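import Mathlib
import Groth.Agent.Lib.Helper4.FinInjFlat7
import Groth.Agent.Lib.Helper8.FlatLoc

/-!
# Ring-level lemmas for descent of flatness at a point along a finite injective extension
of the local ring of the base
-/

set_option autoImplicit false
set_option linter.style.haveILetI false

universe u

namespace Groth.Agent.Lib.Helper18.FFD

open TensorProduct

section LO

variable {R₀ R T₀ B B' : Type u} [CommRing R₀] [CommRing R] [CommRing T₀] [CommRing B] [CommRing B']
  [Algebra R₀ R] [Algebra R₀ T₀] [Algebra R T₀] [IsScalarTower R₀ R T₀]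
  [Algebra R₀ B] [Algebra B B'] [Algebra T₀ B'] [Algebra R₀ B'] [IsScalarTower R₀ B B']
  [IsScalarTower R₀ T₀ B'] [Algebra.IsPushout R₀ T₀ B B']

/-- **Lying over for the pushout, localized.** If no prime of `B'` containing `I'` lies over `q`,
then some `b ∉ q` maps into `I'`. -/
theorem exists_notMem_map_mem (p : Ideal R₀) [p.IsPrime] [IsLocalization.AtPrime R p]
    [Algebra.IsIntegral R T₀] (q : Ideal B) [q.IsPrime] (hp : q.comap (algebraMap R₀ B) = p)
    (I' : Ideal B')
    (h : ∀ q' : Ideal B', q'.IsPrime → I' ≤ q' → q'.comap (algebraMap B B') ≠ q) :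
    ∃ b : B, b ∉ q ∧ algebraMap B B' b ∈ I' := by
  classical
  set Sg : Submonoid B := Algebra.algebraMapSubmonoid B p.primeCompl with hSg
  have hunitR : ∀ r : R₀, r ∉ p → IsUnit (algebraMap R₀ R r) := fun r hr =>
    IsLocalization.map_units R (⟨r, hr⟩ : p.primeCompl)
  have hunits : ∀ s : Sg, IsUnit (algebraMap B B' s) := by
    rintro ⟨_, r, hr, rfl⟩
    have : algebraMap B B' (algebraMap R₀ B r) =
        algebraMap T₀ B' (algebraMap R T₀ (algebraMap R₀ R r)) := by
      rw [← IsScalarTower.algebraMap_apply R₀ B B', ← IsScalarTower.algebraMap_apply R₀ R T₀,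
        ← IsScalarTower.algebraMap_apply R₀ T₀ B']
    rw [this]
    exact ((hunitR r hr).map _).map _
  set C := Localization Sg with hC
  letI algCB' : Algebra C B' := (IsLocalization.lift (M := Sg) (g := algebraMap B B') hunits).toAlgebra
  haveI : IsScalarTower B C B' := IsScalarTower.of_algebraMap_eq (fun b => by
    change _ = (IsLocalization.lift (M := Sg) (g := algebraMap B B') hunits) (algebraMap B C b)
    rw [IsLocalization.lift_eq])
  have hunitsC : ∀ s : p.primeCompl, IsUnit (algebraMap R₀ C s) := by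
    rintro ⟨r, hr⟩
    rw [IsScalarTower.algebraMap_apply R₀ B C]
    exact IsLocalization.map_units C (⟨algebraMap R₀ B r, r, hr, rfl⟩ : Sg)
  letI algRC : Algebra R C :=
    (IsLocalization.lift (M := p.primeCompl) (g := algebraMap R₀ C) hunitsC).toAlgebra
  haveI : IsScalarTower R₀ R C := IsScalarTower.of_algebraMap_eq (fun r => by
    change _ = (IsLocalization.lift (M := p.primeCompl) (g := algebraMap R₀ C) hunitsC)
      (algebraMap R₀ R r)
    rw [IsLocalization.lift_eq])
  letI algRB' : Algebra R B' := ((algebraMap T₀ B').comp (algebraMap R T₀)).toAlgebra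
  haveI : IsScalarTower R T₀ B' := IsScalarTower.of_algebraMap_eq (fun _ => rfl)
  haveI : IsScalarTower R₀ C B' := IsScalarTower.of_algebraMap_eq (fun r => by
    rw [IsScalarTower.algebraMap_apply R₀ B C, ← IsScalarTower.algebraMap_apply B C B',
      ← IsScalarTower.algebraMap_apply R₀ B B'])
  haveI : IsScalarTower R C B' := by
    refine IsScalarTower.of_algebraMap_eq' ?_
    apply IsLocalization.ringHom_ext p.primeCompl
    ext r
    simp only [RingHom.comp_apply]
    rw [← IsScalarTower.algebraMap_apply R₀ R C, ← IsScalarTower.algebraMap_apply R₀ C B']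
    change algebraMap T₀ B' (algebraMap R T₀ (algebraMap R₀ R r)) = algebraMap R₀ B' r
    rw [← IsScalarTower.algebraMap_apply R₀ R T₀, ← IsScalarTower.algebraMap_apply R₀ T₀ B']
  haveI hint : Algebra.IsIntegral C B' := by
    constructor
    intro x
    have hbc : IsBaseChange T₀ (IsScalarTower.toAlgHom R₀ B B').toLinearMap :=
      Algebra.IsPushout.out
    refine hbc.inductionOn x (motive := fun x => IsIntegral C x) isIntegral_zero ?_ ?_ ?_
    · intro b
      change IsIntegral C (algebraMap B B' b)
      rw [IsScalarTower.algebraMap_apply B C B']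
      exact isIntegral_algebraMap
    · intro t y hy
      rw [Algebra.smul_def]
      refine IsIntegral.mul ?_ hy
      have h1 : IsIntegral R t := Algebra.IsIntegral.isIntegral t
      have h2 : IsIntegral R (algebraMap T₀ B' t) := h1.map (IsScalarTower.toAlgHom R T₀ B')
      exact h2.tower_top
    · intro y z hy hz
      exact hy.add hz
  -- the prime of `C` over `q`
  have hdisj : Disjoint (Sg : Set B) (q : Set B) := by
    rw [Set.disjoint_left]
    rintro _ ⟨r, hr, rfl⟩ hq
    have : r ∈ q.comap (algebraMap R₀ B) := hq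
    rw [hp] at this
    exact hr this
  have hqC : (q.map (algebraMap B C)).IsPrime :=
    IsLocalization.isPrime_of_isPrime_disjoint Sg C q inferInstance hdisj
  have hqCcomap : (q.map (algebraMap B C)).comap (algebraMap B C) = q :=
    IsLocalization.under_map_of_isPrime_disjoint Sg C inferInstance hdisj
  by_contra hcon
  push Not at hcon
  have hJ : I'.comap (algebraMap C B') ≤ q.map (algebraMap B C) := by
    intro β hβ
    obtain ⟨b, σ, rfl⟩ := IsLocalization.exists_mk'_eq Sg β
    have h1 : algebraMap B C b ∈ I'.comap (algebraMap C B') := by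
      have := Ideal.mul_mem_right (algebraMap B C σ) _ hβ
      rwa [IsLocalization.mk'_spec] at this
    have h2 : algebraMap B B' b ∈ I' := by
      rw [IsScalarTower.algebraMap_apply B C B']; exact h1
    have h3 : b ∈ q := by
      by_contra hb
      exact hcon b hb h2
    rw [IsLocalization.mk'_mem_map_algebraMap_iff]
    exact ⟨1, Sg.one_mem, by simpa using h3⟩
  obtain ⟨Q, hQI, hQp, hQc⟩ :=
    Ideal.exists_ideal_over_prime_of_isIntegral (q.map (algebraMap B C)) I' hJ
  refine h Q hQp hQI ?_
  rw [IsScalarTower.algebraMap_eq B C B', ← Ideal.comap_comap, hQc, hqCcomap]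

end LO

section AC

variable {R₀ R T₀ B M : Type u} [CommRing R₀] [CommRing R] [CommRing T₀] [CommRing B]
  [Algebra R₀ R] [Algebra R₀ T₀] [Algebra R T₀] [IsScalarTower R₀ R T₀]
  [IsNoetherianRing R] [Module.Finite R T₀]
  [Algebra R₀ B] [AddCommGroup M] [Module B M] [Module R₀ M] [IsScalarTower R₀ B M]

/-- From flatness of the base change of the module of sections to flatness at the prime. -/
theorem flat_localizedModule_of_flat_baseChange (hinj : Function.Injective (algebraMap R T₀))
    (p : Ideal R₀) [p.IsPrime] [IsLocalization.AtPrime R p]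
    (q : Ideal B) [q.IsPrime] (hp : q.comap (algebraMap R₀ B) = p)
    (hflat : Module.Flat T₀ (T₀ ⊗[R₀] M)) :
    Module.Flat R₀ (LocalizedModule q.primeCompl M) := by
  -- Step A: `R ⊗ M` is flat over `R`
  have e : T₀ ⊗[R] (R ⊗[R₀] M) ≃ₗ[T₀] T₀ ⊗[R₀] M :=
    TensorProduct.AlgebraTensorModule.cancelBaseChange R₀ R T₀ T₀ M
  haveI : Module.Flat T₀ (T₀ ⊗[R] (R ⊗[R₀] M)) := Module.Flat.of_linearEquiv e
  haveI hP : Module.Flat R (R ⊗[R₀] M) :=
    Groth.Agent.Lib.Helper4.FinInjFlat.flat_of_flat_baseChange_finite_injective_noetherian R T₀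
      (R ⊗[R₀] M) hinj
  haveI : Module.Flat R₀ R := IsLocalization.flat R p.primeCompl
  haveI hP₀ : Module.Flat R₀ (R ⊗[R₀] M) := Module.Flat.trans R₀ R _
  -- Step C
  set S₁ : Submonoid B := Algebra.algebraMapSubmonoid B p.primeCompl with hS₁
  have hle : S₁ ≤ q.primeCompl := by
    rintro _ ⟨r, hr, rfl⟩ hq
    have : r ∈ q.comap (algebraMap R₀ B) := hq
    rw [hp] at this
    exact hr this
  haveI h1 : IsLocalizedModule p.primeCompl
      ((LocalizedModule.mkLinearMap S₁ M).restrictScalars R₀) :=
    IsLocalizedModule.restrictScalars p.primeCompl (LocalizedModule.mkLinearMap S₁ M)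
  let ε : LocalizedModule S₁ M ≃ₗ[R₀] R ⊗[R₀] M :=
    IsLocalizedModule.linearEquiv p.primeCompl
      ((LocalizedModule.mkLinearMap S₁ M).restrictScalars R₀) (TensorProduct.mk R₀ R M 1)
  haveI : Module.Flat R₀ (LocalizedModule S₁ M) := Module.Flat.of_linearEquiv ε
  exact Groth.Agent.Lib.Helper8.FlatLoc.flat_of_isLocalizedModule (R := R₀) (A := B)
    q.primeCompl (LocalizedModule.liftOfLE S₁ q.primeCompl hle)

end AC

end Groth.Agent.Lib.Helper18.FFD
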