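import Mathlib
import Groth.Agent.Lib.Helper18.GFl5

/-!
# Flatness of a pulled-back module over an affine chart of a fibre product, in ring terms (II)
-/

set_option backward.isDefEq.respectTransparency.types false
set_option autoImplicit false
set_option linter.style.haveILetI false

namespace Groth.Agent.Lib.Helper18.GFl

open TensorProduct Function AlgebraicGeometry CategoryTheory CategoryTheory.Limits
open Groth.Agent.Lib.Helper29.QCoh Groth.Agent.Lib.Helper8.FlatAffine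

universe u

variable {X S T Y : Scheme.{u}} {f : X ⟶ S} {g : T ⟶ S} {p : Y ⟶ X} {q : Y ⟶ T}

theorem forall_isFlatOverAt_pullback_iff (H : IsPullback p q f g) (F : X.Modules)
    [F.IsQuasicoherent]
    {US : S.Opens} {UT : T.Opens} {W : X.Opens} (hUS : IsAffineOpen US)
    (hUT : IsAffineOpen UT) (hW : IsAffineOpen W)
    (hUST : UT ≤ g ⁻¹ᵁ US) (hUSX : W ≤ f ⁻¹ᵁ US) {UY : Y.Opens}
    (hUY : UY = p ⁻¹ᵁ W ⊓ q ⁻¹ᵁ UT) :
    (∀ y ∈ UY, FlatMod.IsFlatOverAt q ((Scheme.Modules.pullback p).obj F) y) ↔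
      (letI : Algebra Γ(S, US) Γ(T, UT) := (g.appLE US UT hUST).hom.toAlgebra
       letI : Module Γ(S, US) Γ(F, W) := Module.compHom _ (f.appLE US W hUSX).hom
       Module.Flat Γ(T, UT) (Γ(T, UT) ⊗[Γ(S, US)] Γ(F, W))) := by
  have hUYaff := isAffineOpen_of_isPullback H hUS hUT hW hUST hUSX hUY
  have hpW : UY ≤ p ⁻¹ᵁ W := by rw [hUY]; exact inf_le_left
  have hqT : UY ≤ q ⁻¹ᵁ UT := by rw [hUY]; exact inf_le_right
  have hpo := isPushout_appLE_of_isPullback H hUS hUT hW hUST hUSX hUY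
  letI algRS : Algebra Γ(S, US) Γ(T, UT) := (g.appLE US UT hUST).hom.toAlgebra
  letI algRA : Algebra Γ(S, US) Γ(X, W) := (f.appLE US W hUSX).hom.toAlgebra
  letI algAB : Algebra Γ(X, W) Γ(Y, UY) := (p.appLE W UY hpW).hom.toAlgebra
  letI algSB : Algebra Γ(T, UT) Γ(Y, UY) := (q.appLE UT UY hqT).hom.toAlgebra
  letI algRB : Algebra Γ(S, US) Γ(Y, UY) :=
    ((p.appLE W UY hpW).hom.comp (f.appLE US W hUSX).hom).toAlgebra
  haveI tw1 : IsScalarTower Γ(S, US) Γ(X, W) Γ(Y, UY) :=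
    IsScalarTower.of_algebraMap_eq (fun _ => rfl)
  haveI tw2 : IsScalarTower Γ(S, US) Γ(T, UT) Γ(Y, UY) :=
    IsScalarTower.of_algebraMap_eq (fun r => by
      have hw := hpo.w
      exact congr($(hw).hom r))
  letI modRM : Module Γ(S, US) Γ(F, W) := Module.compHom _ (f.appLE US W hUSX).hom
  haveI tw3 : IsScalarTower Γ(S, US) Γ(X, W) Γ(F, W) :=
    IsScalarTower.of_algebraMap_smul (fun _ _ => rfl)
  haveI hpo' : Algebra.IsPushout Γ(S, US) Γ(T, UT) Γ(X, W) Γ(Y, UY) :=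
    CommRingCat.isPushout_iff_isPushout.mp hpo.flip
  letI modSG : Module Γ(T, UT) Γ((Scheme.Modules.pullback p).obj F, UY) :=
    Module.compHom _ (q.appLE UT UY hqT).hom
  haveI tw4 : IsScalarTower Γ(T, UT) Γ(Y, UY) Γ((Scheme.Modules.pullback p).obj F, UY) :=
    IsScalarTower.of_algebraMap_smul (fun _ _ => rfl)
  have e1 : Γ((Scheme.Modules.pullback p).obj F, UY) ≃ₗ[Γ(Y, UY)]
      Γ(Y, UY) ⊗[Γ(X, W)] Γ(F, W) := pullbackSectionsEquiv p F hUYaff hW hpW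
  have e2 : Γ(Y, UY) ⊗[Γ(X, W)] Γ(F, W) ≃ₗ[Γ(T, UT)] Γ(T, UT) ⊗[Γ(S, US)] Γ(F, W) :=
    Algebra.IsPushout.cancelBaseChange Γ(S, US) Γ(T, UT) Γ(X, W) Γ(Y, UY) Γ(F, W)
  have e : Γ((Scheme.Modules.pullback p).obj F, UY) ≃ₗ[Γ(T, UT)]
      Γ(T, UT) ⊗[Γ(S, US)] Γ(F, W) := (e1.restrictScalars Γ(T, UT)).trans e2
  constructor
  · intro h
    haveI h1 : Module.Flat Γ(T, UT) Γ((Scheme.Modules.pullback p).obj F, UY) :=
      flat_sections_of_isFlatOverAt q ((Scheme.Modules.pullback p).obj F) hUYaff hUT hqT h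
    exact Module.Flat.of_linearEquiv e.symm
  · intro h y hy
    haveI : Module.Flat Γ(T, UT) (Γ(T, UT) ⊗[Γ(S, US)] Γ(F, W)) := h
    exact isFlatOverAt_of_flat_sections q ((Scheme.Modules.pullback p).obj F) hUYaff hUT hqT y hy
      (Module.Flat.of_linearEquiv e)

end Groth.Agent.Lib.Helper18.GFl
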