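import Mathlib
import Groth.Agent.Lib.Helper18.FFD1
import Groth.Agent.Lib.Helper18.GFl6
import Groth.Agent.Lib.Helper18.FlH
import Groth.Agent.Lib.Helper18.SchDim1
import Groth.Agent.Lib.Helper10.Hartogs
import Groth.Agent.Lib.Helper29.QCohAss2

/-!
# Descent of flatness at a point along a finite injective extension of the local ring of the base:
scheme-level assembly
-/

set_option backward.isDefEq.respectTransparency.types false
set_option autoImplicit false
set_option linter.style.haveILetI false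
set_option linter.unusedSectionVars false

universe u

namespace Groth.Agent.Lib.Helper18.FFD

open TensorProduct AlgebraicGeometry CategoryTheory CategoryTheory.Limits
open Groth.Agent.Lib.Helper29.QCoh

theorem appLE_SpecMap_fromSpecStalk {Y : Scheme.{u}} (y : Y) {A' : CommRingCat.{u}}
    (φ : Y.presheaf.stalk y ⟶ A') {V : Y.Opens} (hy : y ∈ V)
    (hUST : (⊤ : (Spec A').Opens) ≤ (Spec.map φ ≫ Y.fromSpecStalk y) ⁻¹ᵁ V) :
    (Spec.map φ ≫ Y.fromSpecStalk y).appLE V ⊤ hUST =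
      Y.presheaf.germ V y hy ≫ φ ≫ (Scheme.ΓSpecIso A').inv := by
  rw [Scheme.Hom.comp_appLE, Scheme.fromSpecStalk_app hy, Category.assoc, Category.assoc]
  have h1 := Scheme.Hom.map_appLE (Spec.map φ) (U := Y.fromSpecStalk y ⁻¹ᵁ V) (U' := ⊤)
    (V := ⊤) hUST (homOfLE le_top).op
  rw [h1, Scheme.ΓSpecIso_inv_naturality]
  congr 2
  all_goals (rw [Scheme.Hom.appTop, Scheme.Hom.app_eq_appLE])

theorem top_le_preimage {Y : Scheme.{u}} (y : Y) {A' : CommRingCat.{u}}
    (φ : Y.presheaf.stalk y ⟶ A') {V : Y.Opens} (hy : y ∈ V) :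
    (⊤ : (Spec A').Opens) ≤ (Spec.map φ ≫ Y.fromSpecStalk y) ⁻¹ᵁ V := by
  intro z _
  change (Spec.map φ ≫ Y.fromSpecStalk y) z ∈ V
  have h1 : Y.fromSpecStalk y ((Spec.map φ) z) ∈ Set.range (Y.fromSpecStalk y) := ⟨_, rfl⟩
  rw [Scheme.range_fromSpecStalk] at h1
  exact h1.mem_open V.isOpen hy

/-- A point of `Spec A'` over the point `y` is closed when `A'` is integral over `𝒪_{Y,y}`. -/
theorem isClosed_singleton_of_map_eq {Y : Scheme.{u}} (y : Y) {A' : CommRingCat.{u}}
    (φ : Y.presheaf.stalk y ⟶ A') (hint : φ.hom.IsIntegral) (z : Spec A')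
    (hz : (Spec.map φ ≫ Y.fromSpecStalk y) z = y) : IsClosed ({z} : Set (Spec A')) := by
  have h1 : (Spec.map φ) z = IsLocalRing.closedPoint (Y.presheaf.stalk y) := by
    apply (Y.fromSpecStalk y).isEmbedding.injective
    rw [Scheme.fromSpecStalk_closedPoint]
    exact hz
  have h2 : z.asIdeal.comap φ.hom = IsLocalRing.maximalIdeal (Y.presheaf.stalk y) :=
    congrArg PrimeSpectrum.asIdeal h1
  have hmax : z.asIdeal.IsMaximal := by
    letI := φ.hom.toAlgebra
    haveI : Algebra.IsIntegral (Y.presheaf.stalk y) A' := ⟨hint⟩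
    refine Ideal.isMaximal_of_isIntegral_of_isMaximal_comap (R := Y.presheaf.stalk y) z.asIdeal ?_
    change (z.asIdeal.comap φ.hom).IsMaximal
    rw [h2]
    infer_instance
  exact (PrimeSpectrum.isClosed_singleton_iff_isMaximal z).mpr hmax

section Main

variable {X Y : Scheme.{u}} [IsLocallyNoetherian Y] (f : X ⟶ Y) (F : X.Modules)
  [F.IsQuasicoherent] (x : X) (A' : CommRingCat.{u}) (φ : Y.presheaf.stalk (f x) ⟶ A')
  (hfin : φ.hom.Finite) (hinj : Function.Injective φ.hom)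
  {P : Scheme.{u}} {p : P ⟶ X} {q : P ⟶ Spec A'}
  (H : IsPullback p q f (Spec.map φ ≫ Y.fromSpecStalk (f x)))
  {V : Y.Opens} (hV : IsAffineOpen V) (hyV : f x ∈ V) {W : X.Opens} (hW : IsAffineOpen W)
  (hxW : x ∈ W) (hWV : W ≤ f ⁻¹ᵁ V)

include hfin hinj H hV hyV hW hxW hWV

/-- Chart form of the descent: if the pulled-back module is flat at all points over an affine
neighbourhood `W` of `x`, then `F` is flat at `x`. -/
theorem isFlatOverAt_of_forall_chart
    (h : ∀ x' ∈ p ⁻¹ᵁ W ⊓ q ⁻¹ᵁ ⊤,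
      FlatMod.IsFlatOverAt q ((Scheme.Modules.pullback p).obj F) x') :
    FlatMod.IsFlatOverAt f F x := by
  have hUST := top_le_preimage (f x) φ hyV
  have h1 := (GFl.forall_isFlatOverAt_pullback_iff H F hV (isAffineOpen_top _) hW hUST hWV
    rfl).mp h
  rw [Fl.isFlatOverAt_iff_flat_localizedModule f F hW hV hWV x hxW]
  letI algR₀R : Algebra Γ(Y, V) (Y.presheaf.stalk (f x)) :=
    TopCat.Presheaf.algebra_section_stalk Y.presheaf ⟨f x, hyV⟩
  haveI := hV.isLocalization_stalk ⟨f x, hyV⟩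
  letI algRT : Algebra (Y.presheaf.stalk (f x)) Γ(Spec A', ⊤) :=
    ((Scheme.ΓSpecIso A').inv.hom.comp φ.hom).toAlgebra
  letI algR₀T : Algebra Γ(Y, V) Γ(Spec A', ⊤) :=
    ((Spec.map φ ≫ Y.fromSpecStalk (f x)).appLE V ⊤ hUST).hom.toAlgebra
  haveI : IsScalarTower Γ(Y, V) (Y.presheaf.stalk (f x)) Γ(Spec A', ⊤) :=
    IsScalarTower.of_algebraMap_eq (fun r => by
      have := appLE_SpecMap_fromSpecStalk (f x) φ hyV hUST
      exact congr($(this).hom r))
  letI algR₀B : Algebra Γ(Y, V) Γ(X, W) := (f.appLE V W hWV).hom.toAlgebra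
  letI : Module Γ(Y, V) Γ(F, W) := Module.compHom _ (f.appLE V W hWV).hom
  haveI : IsScalarTower Γ(Y, V) Γ(X, W) Γ(F, W) :=
    IsScalarTower.of_algebraMap_smul (fun _ _ => rfl)
  haveI : Module.Finite (Y.presheaf.stalk (f x)) Γ(Spec A', ⊤) := by
    have h2 : ((Scheme.ΓSpecIso A').inv.hom.comp φ.hom).Finite :=
      RingHom.Finite.comp (RingHom.Finite.of_surjective _
        (ConcreteCategory.bijective_of_isIso (Scheme.ΓSpecIso A').inv).2) hfin
    exact h2
  have hinj' : Function.Injective (algebraMap (Y.presheaf.stalk (f x)) Γ(Spec A', ⊤)) :=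
    (ConcreteCategory.bijective_of_isIso (Scheme.ΓSpecIso A').inv).1.comp hinj
  exact flat_localizedModule_of_flat_baseChange (R := Y.presheaf.stalk (f x))
    (T₀ := Γ(Spec A', ⊤)) hinj' (hV.primeIdealOf ⟨f x, hyV⟩).asIdeal
    (hW.primeIdealOf ⟨x, hxW⟩).asIdeal (SchDim.comap_primeIdealOf f hW hV hWV x hxW) h1

end Main

end Groth.Agent.Lib.Helper18.FFD
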