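import Mathlib
import Groth.Agent.Lib.Helper18.FFD2

/-!
# Descent of flatness at a point along a finite injective extension of the local ring of the base:
the neighbourhood over which the base change is flat, and the final statement
-/

set_option backward.isDefEq.respectTransparency.types false
set_option autoImplicit false
set_option linter.style.haveILetI false
set_option linter.unusedSectionVars false

universe u

namespace Groth.Agent.Lib.Helper18.FFD

open TensorProduct AlgebraicGeometry CategoryTheory CategoryTheory.Limits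
open Groth.Agent.Lib.Helper29.QCoh

section Main

variable {X Y : Scheme.{u}} [IsLocallyNoetherian Y] (f : X ⟶ Y) (F : X.Modules)
  [F.IsQuasicoherent] (x : X) (A' : CommRingCat.{u}) (φ : Y.presheaf.stalk (f x) ⟶ A')
  (hfin : φ.hom.Finite)
  {P : Scheme.{u}} {p : P ⟶ X} {q : P ⟶ Spec A'}
  (H : IsPullback p q f (Spec.map φ ≫ Y.fromSpecStalk (f x)))
  {V : Y.Opens} (hV : IsAffineOpen V) (hyV : f x ∈ V) {W : X.Opens} (hW : IsAffineOpen W)
  (hxW : x ∈ W) (hWV : W ≤ f ⁻¹ᵁ V)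

include hfin H hV hyV hW hxW hWV

/-- If the pulled-back module is flat at all points over `x` and its flat locus is open, then it
is flat at all points over a basic open neighbourhood of `x`. -/
theorem exists_basicOpen_forall_isFlatOverAt
    (hopen : IsOpen {x' : P | FlatMod.IsFlatOverAt q ((Scheme.Modules.pullback p).obj F) x'})
    (h : ∀ x' : P, p x' = x → FlatMod.IsFlatOverAt q ((Scheme.Modules.pullback p).obj F) x') :
    ∃ b : Γ(X, W), x ∈ X.basicOpen b ∧ ∀ x' ∈ p ⁻¹ᵁ (X.basicOpen b) ⊓ q ⁻¹ᵁ ⊤,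
      FlatMod.IsFlatOverAt q ((Scheme.Modules.pullback p).obj F) x' := by
  classical
  have hUST := top_le_preimage (f x) φ hyV
  set UY : P.Opens := p ⁻¹ᵁ W ⊓ q ⁻¹ᵁ ⊤ with hUY
  have hUYaff : IsAffineOpen UY :=
    GFl.isAffineOpen_of_isPullback H hV (isAffineOpen_top _) hW hUST hWV rfl
  have hpW : UY ≤ p ⁻¹ᵁ W := inf_le_left
  have hqT : UY ≤ q ⁻¹ᵁ ⊤ := inf_le_right
  have hpo := GFl.isPushout_appLE_of_isPullback H hV (isAffineOpen_top _) hW hUST hWV hUY
  letI algR₀R : Algebra Γ(Y, V) (Y.presheaf.stalk (f x)) :=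
    TopCat.Presheaf.algebra_section_stalk Y.presheaf ⟨f x, hyV⟩
  haveI := hV.isLocalization_stalk ⟨f x, hyV⟩
  letI algRT : Algebra (Y.presheaf.stalk (f x)) Γ(Spec A', ⊤) :=
    ((Scheme.ΓSpecIso A').inv.hom.comp φ.hom).toAlgebra
  letI algR₀T : Algebra Γ(Y, V) Γ(Spec A', ⊤) :=
    ((Spec.map φ ≫ Y.fromSpecStalk (f x)).appLE V ⊤ hUST).hom.toAlgebra
  haveI : IsScalarTower Γ(Y, V) (Y.presheaf.stalk (f x)) Γ(Spec A', ⊤) :=
    IsScalarTower.of_algebraMap_eq (fun r => by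
      have := appLE_SpecMap_fromSpecStalk (f x) φ hyV hUST
      exact congr($(this).hom r))
  letI algR₀B : Algebra Γ(Y, V) Γ(X, W) := (f.appLE V W hWV).hom.toAlgebra
  letI algBB' : Algebra Γ(X, W) Γ(P, UY) := (p.appLE W UY hpW).hom.toAlgebra
  letI algTB' : Algebra Γ(Spec A', ⊤) Γ(P, UY) := (q.appLE ⊤ UY hqT).hom.toAlgebra
  letI algR₀B' : Algebra Γ(Y, V) Γ(P, UY) :=
    ((p.appLE W UY hpW).hom.comp (f.appLE V W hWV).hom).toAlgebra
  haveI tw1 : IsScalarTower Γ(Y, V) Γ(X, W) Γ(P, UY) :=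
    IsScalarTower.of_algebraMap_eq (fun _ => rfl)
  haveI tw2 : IsScalarTower Γ(Y, V) Γ(Spec A', ⊤) Γ(P, UY) :=
    IsScalarTower.of_algebraMap_eq (fun r => by
      have hw := hpo.w
      exact congr($(hw).hom r))
  haveI hpo' : Algebra.IsPushout Γ(Y, V) Γ(Spec A', ⊤) Γ(X, W) Γ(P, UY) :=
    CommRingCat.isPushout_iff_isPushout.mp hpo.flip
  haveI : Algebra.IsIntegral (Y.presheaf.stalk (f x)) Γ(Spec A', ⊤) := by
    have h2 : ((Scheme.ΓSpecIso A').inv.hom.comp φ.hom).Finite :=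
      RingHom.Finite.comp (RingHom.Finite.of_surjective _
        (ConcreteCategory.bijective_of_isIso (Scheme.ΓSpecIso A').inv).2) hfin
    haveI : Module.Finite (Y.presheaf.stalk (f x)) Γ(Spec A', ⊤) := h2
    infer_instance
  -- the non-flat locus in the chart
  set U' : Set P := {x' : P | FlatMod.IsFlatOverAt q ((Scheme.Modules.pullback p).obj F) x'}
    with hU'
  set Zs : Set (PrimeSpectrum Γ(P, UY)) := hUYaff.fromSpec ⁻¹' U'ᶜ with hZs
  have hZsclosed : IsClosed Zs := (hopen.isClosed_compl).preimage hUYaff.fromSpec.continuous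
  set I' : Ideal Γ(P, UY) := PrimeSpectrum.vanishingIdeal Zs with hI'
  have hzl : PrimeSpectrum.zeroLocus (I' : Set Γ(P, UY)) = Zs := by
    rw [hI', PrimeSpectrum.zeroLocus_vanishingIdeal_eq_closure, hZsclosed.closure_eq]
  have hmemZs : ∀ (x' : P) (hx' : x' ∈ UY), x' ∉ U' → hUYaff.primeIdealOf ⟨x', hx'⟩ ∈ Zs := by
    intro x' hx' hnot
    change hUYaff.fromSpec (hUYaff.primeIdealOf ⟨x', hx'⟩) ∈ U'ᶜ
    rw [hUYaff.fromSpec_primeIdealOf ⟨x', hx'⟩]
    exact hnot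
  have hcomap : ∀ (x' : P) (hx' : x' ∈ UY),
      (hUYaff.primeIdealOf ⟨x', hx'⟩).asIdeal.comap (algebraMap Γ(X, W) Γ(P, UY)) =
        (hW.primeIdealOf ⟨p x', hpW hx'⟩).asIdeal :=
    fun x' hx' => SchDim.comap_primeIdealOf p hUYaff hW hpW x' hx'
  have hLO : ∀ q' : Ideal Γ(P, UY), q'.IsPrime → I' ≤ q' →
      q'.comap (algebraMap Γ(X, W) Γ(P, UY)) ≠ (hW.primeIdealOf ⟨x, hxW⟩).asIdeal := by
    intro q' hq' hI hcm
    obtain ⟨x', hx', hx'q⟩ := Groth.Agent.Lib.Helper10.Hartogs.exists_point_primeIdealOf_eq hUYaff q'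
    have h1 : (⟨q', hq'⟩ : PrimeSpectrum Γ(P, UY)) ∈ PrimeSpectrum.zeroLocus (I' : Set Γ(P, UY)) := by
      rw [PrimeSpectrum.mem_zeroLocus]
      exact hI
    rw [hzl] at h1
    have h2 : hUYaff.primeIdealOf ⟨x', hx'⟩ = ⟨q', hq'⟩ := PrimeSpectrum.ext hx'q
    have h3 : x' ∉ U' := by
      have h4 : hUYaff.fromSpec (⟨q', hq'⟩ : PrimeSpectrum Γ(P, UY)) ∈ U'ᶜ := h1
      rw [← h2, hUYaff.fromSpec_primeIdealOf ⟨x', hx'⟩] at h4
      exact h4
    apply h3
    apply h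
    refine eq_of_primeIdealOf_eq hW (p x') x (hpW hx') hxW (PrimeSpectrum.ext ?_)
    rw [← hcomap x' hx', hx'q, hcm]
  obtain ⟨b, hbq, hbI⟩ := exists_notMem_map_mem (R₀ := Γ(Y, V)) (R := Y.presheaf.stalk (f x))
    (T₀ := Γ(Spec A', ⊤)) (B := Γ(X, W)) (B' := Γ(P, UY))
    (hV.primeIdealOf ⟨f x, hyV⟩).asIdeal (hW.primeIdealOf ⟨x, hxW⟩).asIdeal
    (SchDim.comap_primeIdealOf f hW hV hWV x hxW) I' hLO
  refine ⟨b, (mem_basicOpen_iff_notMem_primeIdealOf hW x hxW b).mpr hbq, ?_⟩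
  intro x' hx'
  by_contra hnot
  have hx'b : p x' ∈ X.basicOpen b := hx'.1
  have hx'UY : x' ∈ UY := ⟨X.basicOpen_le b hx'b, hx'.2⟩
  have h1 := hmemZs x' hx'UY hnot
  have h2 : algebraMap Γ(X, W) Γ(P, UY) b ∈ (hUYaff.primeIdealOf ⟨x', hx'UY⟩).asIdeal := by
    have := (PrimeSpectrum.mem_vanishingIdeal Zs _).mp hbI
    exact this _ h1
  have h3 : b ∈ (hW.primeIdealOf ⟨p x', hpW hx'UY⟩).asIdeal := by
    rw [← hcomap x' hx'UY]
    exact h2
  exact (mem_basicOpen_iff_notMem_primeIdealOf hW (p x') (hpW hx'UY) b).mp hx'b h3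

end Main

/-- **Descent of flatness at a point along a finite injective extension of the local ring of the
base.** -/
theorem isFlatOverAt_of_forall_over {X Y : Scheme.{u}} [IsLocallyNoetherian Y] (f : X ⟶ Y)
    [LocallyOfFiniteType f] (F : X.Modules) [F.IsQuasicoherent] [F.IsFinitePresentation] (x : X)
    (A' : CommRingCat.{u}) (φ : Y.presheaf.stalk (f x) ⟶ A') (hfin : φ.hom.Finite)
    (hinj : Function.Injective φ.hom)
    {P : Scheme.{u}} {p : P ⟶ X} {q : P ⟶ Spec A'}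
    (H : IsPullback p q f (Spec.map φ ≫ Y.fromSpecStalk (f x)))
    (h : ∀ x' : P, p x' = x → FlatMod.IsFlatOverAt q ((Scheme.Modules.pullback p).obj F) x') :
    FlatMod.IsFlatOverAt f F x := by
  obtain ⟨W, V, hW, hV, hxW, hWV⟩ := exists_affine_pair f x
  have hyV : f x ∈ V := hWV hxW
  haveI : LocallyOfFinitePresentation q :=
    MorphismProperty.of_isPullback (P := @LocallyOfFinitePresentation) H (inferInstance : LocallyOfFinitePresentation f)
  have hopen := Fl.isOpen_isFlatOverAt q ((Scheme.Modules.pullback p).obj F)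
  obtain ⟨b, hxb, hb⟩ := exists_basicOpen_forall_isFlatOverAt f F x A' φ hfin H hV hyV hW hxW hWV
    hopen h
  exact isFlatOverAt_of_forall_chart f F x A' φ hfin hinj H hV hyV (hW.basicOpen b) hxb
    ((X.basicOpen_le b).trans hWV) hb

end Groth.Agent.Lib.Helper18.FFD
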