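import Mathlib
import Groth.Agent.Lib.Helper18.FlK2

/-!
# Base change of polynomially presented modules along a change of coefficient ring
-/

set_option autoImplicit false

namespace Groth.Agent.Lib.Helper18.Fl

open TensorProduct Function MvPolynomial

universe u

attribute [local instance] MvPolynomial.algebraMvPolynomial

variable {σ : Type} {m r : ℕ}

theorem nonempty_presented_baseChange {R₀ R₁ : Type u} [CommRing R₀] [CommRing R₁] [Algebra R₀ R₁]
    (g₀ : Fin m → Fin r → MvPolynomial σ R₀) :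
    Nonempty (((Fin r → MvPolynomial σ R₁) ⧸ Kspan (fun i => mapVec (algebraMap R₀ R₁) (g₀ i)))
      ≃ₗ[R₁] R₁ ⊗[R₀] ((Fin r → MvPolynomial σ R₀) ⧸ Kspan g₀)) := by
  classical
  obtain ⟨Φ, hΦ⟩ : ∃ Φ : (Fin r → MvPolynomial σ R₀) →ₗ[MvPolynomial σ R₀]
      (Fin r → MvPolynomial σ R₁), ∀ v, Φ v = mapVec (algebraMap R₀ R₁) v :=
    ⟨{ toFun := mapVec (algebraMap R₀ R₁)
       map_add' := mapVec_add _
       map_smul' := fun b v => by
        rw [mapVec_smul, RingHom.id_apply, ← MvPolynomial.algebraMap_def, algebraMap_smul] },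
     fun v => rfl⟩
  have hK : Kspan g₀ ≤ LinearMap.ker
      ((Kspan (fun i => mapVec (algebraMap R₀ R₁) (g₀ i))).mkQ.restrictScalars
        (MvPolynomial σ R₀) ∘ₗ Φ) := by
    rw [Submodule.span_le]
    rintro _ ⟨i, rfl⟩
    rw [SetLike.mem_coe, LinearMap.mem_ker, LinearMap.comp_apply, hΦ]
    change Submodule.Quotient.mk _ = 0
    rw [Submodule.Quotient.mk_eq_zero]
    exact Submodule.subset_span ⟨i, rfl⟩
  obtain ⟨f, hf⟩ : ∃ f : ((Fin r → MvPolynomial σ R₀) ⧸ Kspan g₀) →ₗ[MvPolynomial σ R₀]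
      ((Fin r → MvPolynomial σ R₁) ⧸ Kspan (fun i => mapVec (algebraMap R₀ R₁) (g₀ i))),
      ∀ v, f (Submodule.Quotient.mk v) =
        Submodule.Quotient.mk (mapVec (algebraMap R₀ R₁) v) :=
    ⟨(Kspan g₀).liftQ _ hK, fun v => by
      rw [Submodule.liftQ_apply, LinearMap.comp_apply, hΦ]; rfl⟩
  have hmk₀ : ∀ v : Fin r → MvPolynomial σ R₀,
      (Submodule.Quotient.mk v : (Fin r → MvPolynomial σ R₀) ⧸ Kspan g₀) =
        ∑ j, v j • (Submodule.Quotient.mk (Pi.single j 1) :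
          (Fin r → MvPolynomial σ R₀) ⧸ Kspan g₀) := by
    intro v
    conv_lhs => rw [vec_eq_sum_single v]
    rw [← Submodule.mkQ_apply, map_sum]
    refine Finset.sum_congr rfl fun j _ => ?_
    rw [map_smul]
    rfl
  have hmk₁ : ∀ v : Fin r → MvPolynomial σ R₁,
      (Submodule.Quotient.mk v : (Fin r → MvPolynomial σ R₁) ⧸
          Kspan (fun i => mapVec (algebraMap R₀ R₁) (g₀ i))) =
        ∑ j, v j • (Submodule.Quotient.mk (Pi.single j 1) :
          (Fin r → MvPolynomial σ R₁) ⧸ Kspan (fun i => mapVec (algebraMap R₀ R₁) (g₀ i))) := by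
    intro v
    conv_lhs => rw [vec_eq_sum_single v]
    rw [← Submodule.mkQ_apply, map_sum]
    refine Finset.sum_congr rfl fun j _ => ?_
    rw [map_smul]
    rfl
  have hfx : ∀ j, f (Submodule.Quotient.mk (Pi.single j 1)) =
      Submodule.Quotient.mk (Pi.single j 1) := by
    intro j
    rw [hf, mapVec_single, map_one]
  have hbc : IsBaseChange (MvPolynomial σ R₁) f := by
    refine isBaseChange_of_generators_relations f
      (fun j => Submodule.Quotient.mk (Pi.single j 1)) ?_ ?_ ?_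
    · rw [eq_top_iff]
      intro y _
      obtain ⟨v, rfl⟩ := Submodule.Quotient.mk_surjective _ y
      rw [hmk₀]
      exact Submodule.sum_mem _ fun j _ => Submodule.smul_mem _ _
        (Submodule.subset_span ⟨j, rfl⟩)
    · simp_rw [hfx]
      rw [eq_top_iff]
      intro y _
      obtain ⟨v, rfl⟩ := Submodule.Quotient.mk_surjective _ y
      rw [hmk₁]
      exact Submodule.sum_mem _ fun j _ => Submodule.smul_mem _ _
        (Submodule.subset_span ⟨j, rfl⟩)
    · intro w hw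
      simp_rw [hfx] at hw
      rw [← hmk₁, Submodule.Quotient.mk_eq_zero] at hw
      refine Submodule.span_mono ?_ hw
      rintro _ ⟨i, rfl⟩
      refine ⟨g₀ i, ?_, ?_⟩
      · rw [← hmk₀, Submodule.Quotient.mk_eq_zero]
        exact Submodule.subset_span ⟨i, rfl⟩
      · funext j
        change mapVec (algebraMap R₀ R₁) (g₀ i) j = _
        rw [mapVec_apply, MvPolynomial.algebraMap_def]
  have e₁ : MvPolynomial σ R₁ ⊗[MvPolynomial σ R₀] ((Fin r → MvPolynomial σ R₀) ⧸ Kspan g₀)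
      ≃ₗ[MvPolynomial σ R₁] ((Fin r → MvPolynomial σ R₁) ⧸
        Kspan (fun i => mapVec (algebraMap R₀ R₁) (g₀ i))) := hbc.equiv
  have e₂ : MvPolynomial σ R₁ ⊗[MvPolynomial σ R₀] ((Fin r → MvPolynomial σ R₀) ⧸ Kspan g₀)
      ≃ₗ[R₁] R₁ ⊗[R₀] ((Fin r → MvPolynomial σ R₀) ⧸ Kspan g₀) :=
    Algebra.IsPushout.cancelBaseChange R₀ R₁ (MvPolynomial σ R₀) (MvPolynomial σ R₁)
      ((Fin r → MvPolynomial σ R₀) ⧸ Kspan g₀)
  exact ⟨(e₁.symm.restrictScalars R₁).trans e₂⟩

end Groth.Agent.Lib.Helper18.Fl
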