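import Mathlib
import Groth.Agent.Lib.Helper18.FIJ1
import Groth.Agent.Lib.Helper4.FinInjFlat7

/-!
# Descent of flatness along an injective integral ring map, for polynomially presented modules
(Stacks 0533 in the finitely presented case)
-/

set_option autoImplicit false
set_option linter.style.haveILetI false

namespace Groth.Agent.Lib.Helper18.Fl

open TensorProduct Function MvPolynomial

universe u

variable {σ : Type} [Finite σ] {m r : ℕ}

theorem flat_presented_of_flat_baseChange_injective_integral (R S : Type u) [CommRing R]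
    [CommRing S] [Algebra R S] [Algebra.IsIntegral R S] (hinj : Injective (algebraMap R S))
    (g : Fin m → Fin r → MvPolynomial σ R)
    (hflat : Module.Flat S ((Fin r → MvPolynomial σ S) ⧸
      Kspan (fun i => mapVec (algebraMap R S) (g i)))) :
    Module.Flat R ((Fin r → MvPolynomial σ R) ⧸ Kspan g) := by
  classical
  -- (1) a finitely generated level for `g`
  obtain ⟨T, hTdef⟩ : ∃ T : Set R, T = ⋃ i, ⋃ k, ((g i k).coeffs : Set R) := ⟨_, rfl⟩
  have hT : T.Finite := by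
    rw [hTdef]
    exact Set.finite_iUnion fun i => Set.finite_iUnion fun k => Finset.finite_toSet _
  obtain ⟨S₀, hS₀def⟩ : ∃ S₀ : Subalgebra ℤ R, S₀ = Algebra.adjoin ℤ T := ⟨_, rfl⟩
  have hS₀ : S₀.FG := by rw [hS₀def]; exact Subalgebra.fg_def.2 ⟨T, hT, rfl⟩
  have hgT : ∀ i k, ((g i k).coeffs : Set R) ⊆ S₀ := fun i k x hx => by
    rw [hS₀def]
    exact Algebra.subset_adjoin (by
      rw [hTdef]; exact Set.mem_iUnion.mpr ⟨i, Set.mem_iUnion.mpr ⟨k, hx⟩⟩)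
  choose g₀ hg₀ using fun i k => exists_map_eq_of_coeffs_subset S₀ (g i k) (hgT i k)
  have hg₀' : ∀ i, mapVec (inc S₀) (g₀ i) = g i := fun i => funext fun k => hg₀ i k
  -- (2) its image in `S`
  obtain ⟨T₀, hT₀def⟩ : ∃ T₀ : Subalgebra ℤ S,
      T₀ = S₀.map (algebraMap R S).toIntAlgHom := ⟨_, rfl⟩
  have hT₀ : T₀.FG := by rw [hT₀def]; exact hS₀.map _
  have hmem₀ : ∀ x : S₀, algebraMap R S (x : R) ∈ T₀ := fun x => by
    rw [hT₀def]; exact ⟨x, x.2, rfl⟩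
  obtain ⟨ψ₀, hψ₀⟩ : ∃ ψ₀ : ↥S₀ →+* ↥T₀, ∀ x, (ψ₀ x : S) = algebraMap R S (x : R) :=
    ⟨((algebraMap R S).comp (inc S₀)).codRestrict T₀ hmem₀, fun x => rfl⟩
  have hψ₀c : (inc T₀).comp ψ₀ = (algebraMap R S).comp (inc S₀) := RingHom.ext hψ₀
  have hγ₀ : ∀ i, mapVec (inc T₀) (mapVec ψ₀ (g₀ i)) = mapVec (algebraMap R S) (g i) := by
    intro i
    rw [mapVec_mapVec, hψ₀c, ← mapVec_mapVec, hg₀']
  -- (3) a flat level in `S`
  obtain ⟨T₂, h02, hT₂, hfl₂⟩ := exists_flat_level_global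
    (fun i => mapVec (algebraMap R S) (g i)) T₀ hT₀ (fun i => mapVec ψ₀ (g₀ i)) hγ₀
  -- (4) integral equations for generators of `T₂`
  obtain ⟨F, hF⟩ := Subalgebra.fg_def.1 hT₂
  obtain ⟨hFfin, hFadj⟩ := hF
  have hint : ∀ s : S, ∃ p : Polynomial R, p.Monic ∧ Polynomial.eval₂ (algebraMap R S) s p = 0 :=
    fun s => Algebra.IsIntegral.isIntegral (R := R) s
  choose p hpm hp0 using hint
  obtain ⟨C, hCdef⟩ : ∃ C : Set R, C = ⋃ s ∈ F, ((p s).coeffs : Set R) := ⟨_, rfl⟩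
  have hC : C.Finite := by
    rw [hCdef]
    exact hFfin.biUnion fun s _ => Finset.finite_toSet _
  obtain ⟨S₁, hS₁def⟩ : ∃ S₁ : Subalgebra ℤ R, S₁ = S₀ ⊔ Algebra.adjoin ℤ C := ⟨_, rfl⟩
  have h01 : S₀ ≤ S₁ := by rw [hS₁def]; exact le_sup_left
  have hCS : C ⊆ S₁ := by
    rw [hS₁def]
    exact fun x hx => (le_sup_right : Algebra.adjoin ℤ C ≤ _) (Algebra.subset_adjoin hx)
  have hS₁ : S₁.FG := by
    rw [hS₁def]
    exact hS₀.sup (Subalgebra.fg_def.2 ⟨C, hC, rfl⟩)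
  haveI : IsNoetherianRing ↥S₁ := isNoetherianRing_of_fg S₁ hS₁
  -- (5) `S` as an `S₁`-algebra; the generators are integral over `S₁`
  letI algS₁S : Algebra ↥S₁ S := ((algebraMap R S).comp (inc S₁)).toAlgebra
  have hint₁ : ∀ s ∈ F, IsIntegral ↥S₁ s := by
    intro s hs
    have hl : p s ∈ Polynomial.lifts (inc S₁) := by
      rw [Polynomial.lifts_iff_coeff_lifts]
      intro n
      by_cases h0 : (p s).coeff n = 0
      · exact ⟨0, by rw [map_zero, h0]⟩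
      · have : (p s).coeff n ∈ C := by
          rw [hCdef]
          exact Set.mem_biUnion hs (Polynomial.coeff_mem_coeffs h0)
        exact ⟨⟨_, hCS this⟩, rfl⟩
    obtain ⟨q, hq, -, hqm⟩ := Polynomial.lifts_and_natDegree_eq_and_monic hl (hpm s)
    refine ⟨q, hqm, ?_⟩
    change Polynomial.eval₂ ((algebraMap R S).comp (inc S₁)) s q = 0
    rw [← Polynomial.eval₂_map, hq, hp0]
  obtain ⟨T₃, hT₃def⟩ : ∃ T₃ : Subalgebra ↥S₁ S, T₃ = Algebra.adjoin ↥S₁ F := ⟨_, rfl⟩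
  haveI hfin₃ : Module.Finite ↥S₁ ↥T₃ := by
    rw [hT₃def]
    exact Algebra.finite_adjoin_of_finite_of_isIntegral hFfin hint₁
  haveI : IsNoetherianRing ↥T₃ := IsNoetherianRing.of_finite ↥S₁ ↥T₃
  have hinj₃ : Injective (algebraMap ↥S₁ ↥T₃) := by
    intro x y hxy
    have h1 : algebraMap R S (x : R) = algebraMap R S (y : R) := congrArg Subtype.val hxy
    exact Subtype.ext (hinj h1)
  -- (6) `T₂ → T₃`
  have hmem₂' : ∀ y : S, y ∈ Algebra.adjoin ℤ F → y ∈ T₃ := by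
    intro y hy
    induction hy using Algebra.adjoin_induction with
    | mem s hs => rw [hT₃def]; exact Algebra.subset_adjoin hs
    | algebraMap n => rw [eq_intCast]; exact intCast_mem T₃ n
    | add a b _ _ ha hb => exact add_mem ha hb
    | mul a b _ _ ha hb => exact mul_mem ha hb
  have hmem₂ : ∀ x : T₂, (x : S) ∈ T₃ := by
    intro x
    exact hmem₂' _ (by rw [hFadj]; exact x.2)
  obtain ⟨θ, hθ⟩ : ∃ θ : ↥T₂ →+* ↥T₃, ∀ x, (θ x : S) = (x : S) :=
    ⟨(inc T₂).codRestrict T₃ hmem₂, fun x => rfl⟩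
  -- (7) flatness over `T₃`
  obtain ⟨g₁, hg₁def⟩ : ∃ g₁ : Fin m → Fin r → MvPolynomial σ ↥S₁,
      g₁ = fun i => mapVec (incl h01) (g₀ i) := ⟨_, rfl⟩
  have heq : ∀ i, mapVec θ (mapVec (incl h02) (mapVec ψ₀ (g₀ i))) =
      mapVec (algebraMap ↥S₁ ↥T₃) (g₁ i) := by
    intro i
    rw [hg₁def, mapVec_mapVec, mapVec_mapVec, mapVec_mapVec]
    congr 1
    refine RingHom.ext fun x => Subtype.ext ?_
    change (θ (incl h02 (ψ₀ x)) : S) = algebraMap R S ((incl h01 x : ↥S₁) : R)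
    rw [hθ]
    exact hψ₀ x
  haveI flat₃ : Module.Flat ↥T₃ (↥T₃ ⊗[↥S₁] ((Fin r → MvPolynomial σ ↥S₁) ⧸ Kspan g₁)) := by
    letI algθ : Algebra ↥T₂ ↥T₃ := θ.toAlgebra
    obtain ⟨e₁⟩ := nonempty_presented_baseChange (R₀ := ↥T₂) (R₁ := ↥T₃)
      (fun i => mapVec (incl h02) (mapVec ψ₀ (g₀ i)))
    obtain ⟨e₂⟩ := nonempty_presented_baseChange (R₀ := ↥S₁) (R₁ := ↥T₃) g₁
    have hfun : (fun i => mapVec (algebraMap ↥T₂ ↥T₃) (mapVec (incl h02) (mapVec ψ₀ (g₀ i)))) =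
        fun i => mapVec (algebraMap ↥S₁ ↥T₃) (g₁ i) := funext heq
    rw [hfun] at e₁
    haveI : Module.Flat ↥T₂ ((Fin r → MvPolynomial σ ↥T₂) ⧸
        Kspan (fun i => mapVec (incl h02) (mapVec ψ₀ (g₀ i)))) := hfl₂
    exact Module.Flat.of_linearEquiv (e₂.symm.trans e₁)
  -- (8) descent to `S₁`
  haveI flat₁ : Module.Flat ↥S₁ ((Fin r → MvPolynomial σ ↥S₁) ⧸ Kspan g₁) :=
    Groth.Agent.Lib.Helper4.FinInjFlat.flat_of_flat_baseChange_finite_injective_noetherian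
      ↥S₁ ↥T₃ _ hinj₃
  -- (9) ascent to `R`
  obtain ⟨e⟩ := nonempty_presented_baseChange (R₀ := ↥S₁) (R₁ := R) g₁
  have hfun : (fun i => mapVec (algebraMap ↥S₁ R) (g₁ i)) = g := by
    funext i
    rw [hg₁def, ← inc_eq_algebraMap, mapVec_mapVec, inc_comp_incl, hg₀']
  rw [hfun] at e
  exact Module.Flat.of_linearEquiv e

end Groth.Agent.Lib.Helper18.Fl
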