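import Mathlib
import Groth.Agent.Lib.Helper18.FIJ2
import Groth.Agent.Lib.Helper18.FlG

/-!
# Descent of flatness along injective integral maps: module and algebra forms; stalk maps vs `appLE`
-/

set_option autoImplicit false
set_option linter.style.haveILetI false

namespace Groth.Agent.Lib.Helper18.Fl

open TensorProduct Function

universe u

/-- Stacks 0533 for finitely presented modules over a polynomial ring. -/
theorem flat_of_flat_baseChange_injective_integral_mvPolynomial (R S : Type u) [CommRing R]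
    [CommRing S] [Algebra R S] [Algebra.IsIntegral R S] (hinj : Injective (algebraMap R S))
    (n : ℕ) (M : Type u) [AddCommGroup M] [Module (MvPolynomial (Fin n) R) M] [Module R M]
    [IsScalarTower R (MvPolynomial (Fin n) R) M]
    [Module.FinitePresentation (MvPolynomial (Fin n) R) M]
    [Module.Flat S (S ⊗[R] M)] : Module.Flat R M := by
  classical
  obtain ⟨r, K, e, hK⟩ := Module.FinitePresentation.exists_fin (MvPolynomial (Fin n) R) M
  obtain ⟨m, g, hg⟩ := Submodule.fg_iff_exists_fin_generating_family.mp hK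
  have hKg : K = Kspan g := hg.symm
  subst hKg
  have eR : M ≃ₗ[R] ((Fin r → MvPolynomial (Fin n) R) ⧸ Kspan g) := e.restrictScalars R
  obtain ⟨e₁⟩ := nonempty_presented_baseChange (R₀ := R) (R₁ := S) g
  have e₂ : S ⊗[R] M ≃ₗ[S] S ⊗[R] ((Fin r → MvPolynomial (Fin n) R) ⧸ Kspan g) :=
    TensorProduct.AlgebraTensorModule.congr (LinearEquiv.refl S S) eR
  have hflatS : Module.Flat S ((Fin r → MvPolynomial (Fin n) S) ⧸
      Kspan (fun i => mapVec (algebraMap R S) (g i))) :=
    Module.Flat.of_linearEquiv (e₁.trans e₂.symm)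
  haveI := flat_presented_of_flat_baseChange_injective_integral R S hinj g hflatS
  exact Module.Flat.of_linearEquiv eR

/-- Stacks 0533 for finitely presented algebras. -/
theorem flat_algebra_of_flat_baseChange_injective_integral (R S : Type u) [CommRing R]
    [CommRing S] [Algebra R S] [Algebra.IsIntegral R S] (hinj : Injective (algebraMap R S))
    (B : Type u) [CommRing B] [Algebra R B] [Algebra.FinitePresentation R B]
    [Module.Flat S (S ⊗[R] B)] : Module.Flat R B := by
  classical
  obtain ⟨n, φ, hφ, hker⟩ := Algebra.FinitePresentation.out (R := R) (A := B)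
  letI algPB : Algebra (MvPolynomial (Fin n) R) B := φ.toRingHom.toAlgebra
  haveI : IsScalarTower R (MvPolynomial (Fin n) R) B :=
    IsScalarTower.of_algebraMap_eq (fun x => (φ.commutes x).symm)
  haveI : Module.FinitePresentation (MvPolynomial (Fin n) R) B := by
    refine Module.finitePresentation_of_surjective
      (Algebra.linearMap (MvPolynomial (Fin n) R) B) hφ ?_
    have : LinearMap.ker (Algebra.linearMap (MvPolynomial (Fin n) R) B) =
        RingHom.ker φ.toRingHom := rfl
    rw [this]
    exact hker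
  exact flat_of_flat_baseChange_injective_integral_mvPolynomial R S hinj n B

section Scheme

open AlgebraicGeometry CategoryTheory

theorem appLE_flat_of_forall_stalkMap_flat {X S : Scheme.{u}} (f : X ⟶ S) {U : S.Opens}
    (hU : IsAffineOpen U) {V : X.Opens} (hV : IsAffineOpen V) (hVU : V ≤ f ⁻¹ᵁ U)
    (h : ∀ y ∈ V, (f.stalkMap y).hom.Flat) : (f.appLE U V hVU).hom.Flat := by
  apply RingHom.Flat.ofLocalizationPrime
  intro P hP
  obtain ⟨y, hy⟩ : ∃ y : V, hV.primeIdealOf y = ⟨P, hP⟩ := by
    refine ⟨hV.isoSpec.inv ⟨P, hP⟩, ?_⟩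
    simp [IsAffineOpen.primeIdealOf]
  have h1 := h y.1 y.2
  rw [RingHom.Flat.respectsIso.arrow_mk_iso_iff
    (IsAffineOpen.arrowStalkMapIso f U hU V hV hVU y.2)] at h1
  algebraize [(f.appLE U V hVU).hom]
  have h3 : Module.Flat Γ(S, U)
      (LocalizedModule (hV.primeIdealOf ⟨y.1, y.2⟩).asIdeal.primeCompl Γ(X, V)) :=
    (localRingHom_flat_iff (A := Γ(S, U)) (B := Γ(X, V)) _ _
      (congr($(IsAffineOpen.comap_primeIdealOf_appLE U hU V hV hVU y.2).1).symm)).mp h1
  have h2 : (hV.primeIdealOf ⟨y.1, y.2⟩).asIdeal = P := by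
    have : (⟨y.1, y.2⟩ : V) = y := rfl
    rw [this, hy]
  have h4 : Module.Flat Γ(S, U) (LocalizedModule P.primeCompl Γ(X, V)) :=
    flat_congr_prime h2 h3
  exact (localRingHom_flat_iff (A := Γ(S, U)) (B := Γ(X, V)) P _ rfl).mpr h4

theorem stalkMap_flat_of_appLE_flat {X S : Scheme.{u}} (f : X ⟶ S) {U : S.Opens}
    (hU : IsAffineOpen U) {V : X.Opens} (hV : IsAffineOpen V) (hVU : V ≤ f ⁻¹ᵁ U)
    (h : (f.appLE U V hVU).hom.Flat) (y : X) (hy : y ∈ V) : (f.stalkMap y).hom.Flat := by
  rw [RingHom.Flat.respectsIso.arrow_mk_iso_iff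
    (IsAffineOpen.arrowStalkMapIso f U hU V hV hVU hy)]
  exact RingHom.Flat.localRingHom h _ _
    (congr($(IsAffineOpen.comap_primeIdealOf_appLE U hU V hV hVU hy).1).symm)

end Scheme

end Groth.Agent.Lib.Helper18.Fl
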