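import Mathlib
import Groth.Agent.Lib.Helper18.FIJ3
import Groth.Agent.Lib.Helper18.GFl5

/-!
# Flatness at a point descends along an injective integral base change (EGA IV 11.5-type)
-/

set_option backward.isDefEq.respectTransparency.types false
set_option autoImplicit false
set_option linter.style.haveILetI false

namespace Groth.Agent.Lib.Helper18.Fl

open TensorProduct Function AlgebraicGeometry CategoryTheory CategoryTheory.Limits

universe u

theorem stalkMap_flat_of_flat_baseChange_integral_injective {A A' : Type u} [CommRing A]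
    [CommRing A'] [Algebra A A'] [Algebra.IsIntegral A A']
    (hinj : Function.Injective (algebraMap A A'))
    {X : Scheme.{u}} (f : X ⟶ Spec (CommRingCat.of A)) [LocallyOfFinitePresentation f] (x : X)
    (h : ∀ x' : ↥(pullback f (Spec.map (CommRingCat.ofHom (algebraMap A A')))),
      (pullback.fst f _).base x' = x →
      ((pullback.snd f (Spec.map (CommRingCat.ofHom (algebraMap A A')))).stalkMap x').hom.Flat) :
    (f.stalkMap x).hom.Flat := by
  classical
  haveI hgint : IsIntegralHom (Spec.map (CommRingCat.ofHom (algebraMap A A'))) := by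
    rw [IsIntegralHom.SpecMap_iff]
    exact algebraMap_isIntegral_iff.mpr inferInstance
  have H : IsPullback (pullback.fst f (Spec.map (CommRingCat.ofHom (algebraMap A A'))))
      (pullback.snd f (Spec.map (CommRingCat.ofHom (algebraMap A A')))) f
      (Spec.map (CommRingCat.ofHom (algebraMap A A'))) := IsPullback.of_hasPullback f _
  have hclosed : IsClosedMap
      (pullback.fst f (Spec.map (CommRingCat.ofHom (algebraMap A A')))).base :=
    (pullback.fst f (Spec.map (CommRingCat.ofHom (algebraMap A A')))).isClosedMap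
  have hopen : IsOpen {y : ↥(pullback f (Spec.map (CommRingCat.ofHom (algebraMap A A')))) |
      ((pullback.snd f (Spec.map (CommRingCat.ofHom (algebraMap A A')))).stalkMap y).hom.Flat} :=
    isOpen_flatLocus_scheme _
  have hWopen := (hclosed _ hopen.isClosed_compl).isOpen_compl
  have hxW : x ∈ ((pullback.fst f (Spec.map (CommRingCat.ofHom (algebraMap A A')))).base ''
      {y | ((pullback.snd f (Spec.map (CommRingCat.ofHom (algebraMap A A')))).stalkMap
        y).hom.Flat}ᶜ)ᶜ := by
    rintro ⟨y, hy, rfl⟩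
    exact hy (h y rfl)
  obtain ⟨U, hU, hxU, hUW⟩ : ∃ U : X.Opens, IsAffineOpen U ∧ x ∈ U ∧ (U : Set X) ⊆
      ((pullback.fst f (Spec.map (CommRingCat.ofHom (algebraMap A A')))).base ''
      {y | ((pullback.snd f (Spec.map (CommRingCat.ofHom (algebraMap A A')))).stalkMap
        y).hom.Flat}ᶜ)ᶜ := by
    obtain ⟨_, ⟨U, hU, rfl⟩, hxU, hUW⟩ :=
      X.isBasis_affineOpens.exists_subset_of_mem_open hxW hWopen
    exact ⟨U, hU, hxU, hUW⟩
  have hflatU : ∀ y ∈ (pullback.fst f (Spec.map (CommRingCat.ofHom (algebraMap A A')))) ⁻¹ᵁ U,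
      ((pullback.snd f (Spec.map (CommRingCat.ofHom (algebraMap A A')))).stalkMap
        y).hom.Flat := by
    intro y hy
    by_contra hn
    exact hUW hy ⟨y, hn, rfl⟩
  -- the affine chart
  have hUSX : U ≤ f ⁻¹ᵁ (⊤ : (Spec (CommRingCat.of A)).Opens) := le_top
  have hUST : (⊤ : (Spec (CommRingCat.of A')).Opens) ≤
      (Spec.map (CommRingCat.ofHom (algebraMap A A'))) ⁻¹ᵁ
        (⊤ : (Spec (CommRingCat.of A)).Opens) := le_top
  obtain ⟨UY, hUY⟩ : ∃ UY : (pullback f (Spec.map (CommRingCat.ofHom (algebraMap A A')))).Opens,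
      UY = (pullback.fst f (Spec.map (CommRingCat.ofHom (algebraMap A A')))) ⁻¹ᵁ U ⊓
        (pullback.snd f (Spec.map (CommRingCat.ofHom (algebraMap A A')))) ⁻¹ᵁ ⊤ := ⟨_, rfl⟩
  have hUYaff := Groth.Agent.Lib.Helper18.GFl.isAffineOpen_of_isPullback H
    (isAffineOpen_top (Spec (CommRingCat.of A))) (isAffineOpen_top (Spec (CommRingCat.of A')))
    hU hUST hUSX hUY
  have hpW : UY ≤ (pullback.fst f (Spec.map (CommRingCat.ofHom (algebraMap A A')))) ⁻¹ᵁ U := by
    rw [hUY]; exact inf_le_left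
  have hqT : UY ≤ (pullback.snd f (Spec.map (CommRingCat.ofHom (algebraMap A A')))) ⁻¹ᵁ ⊤ := by
    rw [hUY]; exact inf_le_right
  have hqflat : ((pullback.snd f (Spec.map (CommRingCat.ofHom (algebraMap A A')))).appLE ⊤ UY
      hqT).hom.Flat :=
    appLE_flat_of_forall_stalkMap_flat _ (isAffineOpen_top _) hUYaff hqT
      (fun y hy => hflatU y (hpW hy))
  have hpo := Groth.Agent.Lib.Helper18.GFl.isPushout_appLE_of_isPullback H
    (isAffineOpen_top (Spec (CommRingCat.of A))) (isAffineOpen_top (Spec (CommRingCat.of A')))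
    hU hUST hUSX hUY
  letI algRS : Algebra Γ(Spec (CommRingCat.of A), ⊤) Γ(Spec (CommRingCat.of A'), ⊤) :=
    ((Spec.map (CommRingCat.ofHom (algebraMap A A'))).appLE ⊤ ⊤ hUST).hom.toAlgebra
  letI algRA : Algebra Γ(Spec (CommRingCat.of A), ⊤) Γ(X, U) := (f.appLE ⊤ U hUSX).hom.toAlgebra
  letI algAB : Algebra Γ(X, U)
      Γ(pullback f (Spec.map (CommRingCat.ofHom (algebraMap A A'))), UY) :=
    ((pullback.fst f (Spec.map (CommRingCat.ofHom (algebraMap A A')))).appLE U UY
      hpW).hom.toAlgebra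
  letI algSB : Algebra Γ(Spec (CommRingCat.of A'), ⊤)
      Γ(pullback f (Spec.map (CommRingCat.ofHom (algebraMap A A'))), UY) :=
    ((pullback.snd f (Spec.map (CommRingCat.ofHom (algebraMap A A')))).appLE ⊤ UY
      hqT).hom.toAlgebra
  letI algRB : Algebra Γ(Spec (CommRingCat.of A), ⊤)
      Γ(pullback f (Spec.map (CommRingCat.ofHom (algebraMap A A'))), UY) :=
    (((pullback.fst f (Spec.map (CommRingCat.ofHom (algebraMap A A')))).appLE U UY
      hpW).hom.comp (f.appLE ⊤ U hUSX).hom).toAlgebra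
  haveI tw1 : IsScalarTower Γ(Spec (CommRingCat.of A), ⊤) Γ(X, U)
      Γ(pullback f (Spec.map (CommRingCat.ofHom (algebraMap A A'))), UY) :=
    IsScalarTower.of_algebraMap_eq (fun _ => rfl)
  haveI tw2 : IsScalarTower Γ(Spec (CommRingCat.of A), ⊤) Γ(Spec (CommRingCat.of A'), ⊤)
      Γ(pullback f (Spec.map (CommRingCat.ofHom (algebraMap A A'))), UY) :=
    IsScalarTower.of_algebraMap_eq (fun r => by
      have hw := hpo.w
      exact congr($(hw).hom r))
  haveI hpo' : Algebra.IsPushout Γ(Spec (CommRingCat.of A), ⊤) Γ(Spec (CommRingCat.of A'), ⊤)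
      Γ(X, U) Γ(pullback f (Spec.map (CommRingCat.ofHom (algebraMap A A'))), UY) :=
    CommRingCat.isPushout_iff_isPushout.mp hpo.flip
  haveI flatY : Module.Flat Γ(Spec (CommRingCat.of A'), ⊤)
      Γ(pullback f (Spec.map (CommRingCat.ofHom (algebraMap A A'))), UY) := hqflat
  haveI flatT : Module.Flat Γ(Spec (CommRingCat.of A'), ⊤)
      (Γ(Spec (CommRingCat.of A'), ⊤) ⊗[Γ(Spec (CommRingCat.of A), ⊤)] Γ(X, U)) :=
    Module.Flat.of_linearEquiv
      (Algebra.IsPushout.equiv Γ(Spec (CommRingCat.of A), ⊤) Γ(Spec (CommRingCat.of A'), ⊤)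
        Γ(X, U) Γ(pullback f (Spec.map (CommRingCat.ofHom (algebraMap A A'))), UY)).toLinearEquiv
  -- transport of integrality and injectivity
  let e : Γ(Spec (CommRingCat.of A), ⊤) ≃+* A :=
    (Scheme.ΓSpecIso (CommRingCat.of A)).commRingCatIsoToRingEquiv
  let e' : Γ(Spec (CommRingCat.of A'), ⊤) ≃+* A' :=
    (Scheme.ΓSpecIso (CommRingCat.of A')).commRingCatIsoToRingEquiv
  have hnat : ∀ r, e' (algebraMap Γ(Spec (CommRingCat.of A), ⊤)
      Γ(Spec (CommRingCat.of A'), ⊤) r) = algebraMap A A' (e r) := by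
    intro r
    have h1 := Scheme.ΓSpecIso_naturality (CommRingCat.ofHom (algebraMap A A'))
    have h2 : (Spec.map (CommRingCat.ofHom (algebraMap A A'))).appLE ⊤ ⊤ hUST =
        (Spec.map (CommRingCat.ofHom (algebraMap A A'))).appTop := by
      rw [Scheme.Hom.appTop, Scheme.Hom.app_eq_appLE]
      rfl
    change (Scheme.ΓSpecIso (CommRingCat.of A')).hom
      (((Spec.map (CommRingCat.ofHom (algebraMap A A'))).appLE ⊤ ⊤ hUST) r) = _
    rw [h2]
    exact congr($(h1).hom r)
  have hcomp : algebraMap Γ(Spec (CommRingCat.of A), ⊤) Γ(Spec (CommRingCat.of A'), ⊤) =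
      (e'.symm : A' →+* Γ(Spec (CommRingCat.of A'), ⊤)).comp
        ((algebraMap A A').comp (e : Γ(Spec (CommRingCat.of A), ⊤) →+* A)) := by
    ext r
    change _ = e'.symm (algebraMap A A' (e r))
    rw [← hnat, RingEquiv.symm_apply_apply]
  have hinjΓ : Function.Injective
      (algebraMap Γ(Spec (CommRingCat.of A), ⊤) Γ(Spec (CommRingCat.of A'), ⊤)) := by
    rw [hcomp]
    exact e'.symm.injective.comp (hinj.comp e.injective)
  haveI : Algebra.IsIntegral Γ(Spec (CommRingCat.of A), ⊤) Γ(Spec (CommRingCat.of A'), ⊤) := by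
    rw [← algebraMap_isIntegral_iff, hcomp]
    refine RingHom.IsIntegral.trans _ _ (RingHom.IsIntegral.trans _ _ ?_ ?_) ?_
    · exact RingHom.isIntegral_of_surjective _ e.surjective
    · exact algebraMap_isIntegral_iff.mpr inferInstance
    · exact RingHom.isIntegral_of_surjective _ e'.symm.surjective
  haveI : Algebra.FinitePresentation Γ(Spec (CommRingCat.of A), ⊤) Γ(X, U) :=
    HasRingHomProperty.appLE (P := @LocallyOfFinitePresentation) f inferInstance
      ⟨⊤, isAffineOpen_top _⟩ ⟨U, hU⟩ hUSX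
  have hflatX : Module.Flat Γ(Spec (CommRingCat.of A), ⊤) Γ(X, U) :=
    flat_algebra_of_flat_baseChange_injective_integral Γ(Spec (CommRingCat.of A), ⊤)
      Γ(Spec (CommRingCat.of A'), ⊤) hinjΓ Γ(X, U)
  exact stalkMap_flat_of_appLE_flat f (isAffineOpen_top _) hU hUSX hflatX x hxU

end Groth.Agent.Lib.Helper18.Fl
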