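import Mathlib
import Groth.Agent.Lib.Helper18.SchDim2
import Groth.Agent.Lib.Helper18.SchDim5
import Groth.Agent.Lib.Helper18.JacDim3
import Groth.Agent.Lib.Helper21.FibDim3
import Groth.Agent.Lib.Helper21.FibDimR1

set_option autoImplicit false
set_option linter.unusedSectionVars false
set_option linter.style.haveILetI false
universe u
open AlgebraicGeometry CategoryTheory TopologicalSpace

namespace Groth.Agent.Lib.Helper18.FibGlobal

open Groth.Agent.Lib.Helper21.FibDim Groth.Agent.Lib.Helper18.SchDim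
open Groth.Agent.Lib.Helper12.Codim Groth.Agent.Lib.Helper21.ChartPt
open Groth.Agent.Lib.Helper18.CatHt

section Ring

/-- over a prime `p` in the image, there is a prime `q` with `B/q` algebraic over `A/p`
("a closed point of the fibre") -/
theorem exists_prime_over_trdeg_zero (A B : Type u) [CommRing A] [CommRing B] [Algebra A B]
    [Algebra.FiniteType A B] (p : Ideal A) [p.IsPrime] (q₁ : Ideal B) [q₁.IsPrime]
    [q₁.LiesOver p] :
    ∃ (q : Ideal B) (_ : q.IsPrime) (_ : q.LiesOver p), Algebra.trdeg (A ⧸ p) (B ⧸ q) = 0 := by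
  let Q₁ := PrimeSpectrum.primesOverOrderIsoFiber A B p ⟨q₁, ‹_›, ‹_›⟩
  haveI : Nontrivial (p.Fiber B) := Q₁.nontrivial
  obtain ⟨Q, hQ⟩ := Ideal.exists_maximal (p.Fiber B)
  haveI := hQ
  let q' := (PrimeSpectrum.primesOverOrderIsoFiber A B p).symm ⟨Q, hQ.isPrime⟩
  haveI hq'1 : q'.1.IsPrime := q'.2.1
  haveI hq'2 : q'.1.LiesOver p := q'.2.2
  refine ⟨q'.1, hq'1, hq'2, ?_⟩
  rw [← Groth.Agent.Lib.Helper21.FibDim.trdeg_fiber_quotient A B p Q q'.1
    (PrimeSpectrum.coe_primesOverOrderIsoFiber_symm_apply p ⟨Q, hQ.isPrime⟩).symm]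
  letI : Field (p.Fiber B ⧸ Q) := Ideal.Quotient.field Q
  haveI : Module.Finite p.ResidueField (p.Fiber B ⧸ Q) :=
    finite_of_finite_type_of_isJacobsonRing _ _
  haveI : Algebra.IsAlgebraic p.ResidueField (p.Fiber B ⧸ Q) := Algebra.IsIntegral.isAlgebraic
  exact trdeg_eq_zero

end Ring

section Chart

/-- in a chart of a scheme with a generic point, the codimension from the generic point is the
height -/
theorem cd_eq_height_of_generic {Z : Scheme.{u}} {W : Z.Opens} (hW : IsAffineOpen W)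
    [IsNoetherianRing Γ(Z, W)] (ζ z : Z) (hζ : ζ ∈ W) (hz : z ∈ W) (hgen : ∀ w : Z, ζ ⤳ w) :
    cd (hW.primeIdealOf ⟨ζ, hζ⟩) (hW.primeIdealOf ⟨z, hz⟩) =
      (hW.primeIdealOf ⟨z, hz⟩).asIdeal.height := by
  have hmemW : ∀ P : PrimeSpectrum Γ(Z, W), hW.fromSpec P ∈ W := fun P => (hW.isoSpec.inv _).2
  have hprime : ∀ P : PrimeSpectrum Γ(Z, W), hW.primeIdealOf ⟨hW.fromSpec P, hmemW P⟩ = P :=
    fun P => hW.fromSpec.isOpenEmbedding.injective (hW.fromSpec_primeIdealOf ⟨_, hmemW P⟩)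
  have hfin : Order.height (hW.primeIdealOf ⟨z, hz⟩) ≠ ⊤ := by
    rw [← PrimeSpectrum.height_eq_orderHeight]
    exact Ideal.height_ne_top (hW.primeIdealOf ⟨z, hz⟩).isPrime.ne_top
  obtain ⟨m, hmin, hmq, hm⟩ := exists_isMin_cd_eq_height (hW.primeIdealOf ⟨z, hz⟩) hfin
  have hξm : hW.primeIdealOf ⟨ζ, hζ⟩ ≤ m := by
    have : ζ ⤳ hW.fromSpec m := hgen _
    rw [specializes_iff_primeIdealOf_le hW ⟨ζ, hζ⟩ ⟨_, hmemW _⟩, hprime] at this
    exact this
  have hmξ : m = hW.primeIdealOf ⟨ζ, hζ⟩ := le_antisymm (hmin hξm) hξm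
  rw [← hmξ, hm, ← PrimeSpectrum.height_eq_orderHeight]

end Chart

section Local

variable {X Y : Scheme.{u}} (f : X ⟶ Y) [IsLocallyNoetherian Y] [LocallyOfFiniteType f]
  [IrreducibleSpace X]

/-- **Local dimension formula at a closed point of a fibre**: if the image of the generic point
of `X` is generic in `Y` and `O_{Y,y}` is universally catenary, then some point `x` over `y`
has `dim O_{X,x} = dim O_{Y,y} + e`, `e` the generic fibre dimension. -/
theorem exists_stalk_dim_eq_add (hgen : ∀ y' : Y, f (genericPoint X) ⤳ y') (y : Y)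
    (hy : y ∈ Set.range f) (hUC : CAlg.IsUniversallyCatenary (Y.presheaf.stalk y)) (e : ℕ)
    (he : @Algebra.trdeg (Y.residueField (f (genericPoint X))) (X.residueField (genericPoint X)) _ _
      (f.residueFieldMap (genericPoint X)).hom.toAlgebra = e) :
    ∃ x : X, f x = y ∧
      ringKrullDim (X.presheaf.stalk x) = ringKrullDim (Y.presheaf.stalk y) + e := by
  obtain ⟨x₁, rfl⟩ := hy
  set ξ := genericPoint X with hξdef
  obtain ⟨V, hV, hx₁V, -⟩ := Opens.isBasis_iff_nbhd.mp Y.isBasis_affineOpens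
    (show f x₁ ∈ (⊤ : Y.Opens) from trivial)
  have hV : IsAffineOpen V := hV
  obtain ⟨U, hU, hx₁U, e'⟩ := Opens.isBasis_iff_nbhd.mp X.isBasis_affineOpens
    (show x₁ ∈ f ⁻¹ᵁ V from hx₁V)
  have hU : IsAffineOpen U := hU
  have hξU : ξ ∈ U := (genericPoint_specializes x₁).mem_open U.2 hx₁U
  letI alg : Algebra Γ(Y, V) Γ(X, U) := (f.appLE V U e').hom.toAlgebra
  haveI : IsNoetherianRing Γ(Y, V) := IsLocallyNoetherian.component_noetherian ⟨V, hV⟩
  haveI : Algebra.FiniteType Γ(Y, V) Γ(X, U) :=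
    HasRingHomProperty.appLE (P := @LocallyOfFiniteType) f inferInstance ⟨V, hV⟩ ⟨U, hU⟩ e'
  haveI : IsNoetherianRing Γ(X, U) := Algebra.FiniteType.isNoetherianRing Γ(Y, V) Γ(X, U)
  have hmemU : ∀ P : PrimeSpectrum Γ(X, U), hU.fromSpec P ∈ U := fun P => (hU.isoSpec.inv _).2
  have hprime : ∀ P : PrimeSpectrum Γ(X, U), hU.primeIdealOf ⟨hU.fromSpec P, hmemU P⟩ = P :=
    fun P => hU.fromSpec.isOpenEmbedding.injective (hU.fromSpec_primeIdealOf ⟨_, hmemU P⟩)
  set py := hV.primeIdealOf ⟨f x₁, hx₁V⟩ with hpy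
  set q₁ := hU.primeIdealOf ⟨x₁, hx₁U⟩ with hq₁
  haveI : q₁.asIdeal.LiesOver py.asIdeal := ⟨(comap_primeIdealOf f hU hV e' x₁ hx₁U).symm⟩
  obtain ⟨q, hqp, hqo, hq0⟩ := exists_prime_over_trdeg_zero Γ(Y, V) Γ(X, U) py.asIdeal q₁.asIdeal
  -- the point `x`
  let x : X := hU.fromSpec ⟨q, hqp⟩
  have hxU : x ∈ U := hmemU _
  have hqx : hU.primeIdealOf ⟨x, hxU⟩ = ⟨q, hqp⟩ := hprime _
  have hfx : f x = f x₁ := by
    have h1 := comap_primeIdealOf f hU hV e' x hxU
    rw [hqx] at h1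
    have h2 : hV.primeIdealOf ⟨f x, e' hxU⟩ = py := by
      apply PrimeSpectrum.ext
      rw [← h1]
      exact (Ideal.over_def q py.asIdeal).symm
    have h3 := hV.fromSpec_primeIdealOf ⟨f x, e' hxU⟩
    have h4 := hV.fromSpec_primeIdealOf ⟨f x₁, hx₁V⟩
    rw [h2] at h3
    rw [← hpy] at h4
    exact h3.symm.trans h4
  refine ⟨x, hfx, ?_⟩
  set qξ := hU.primeIdealOf ⟨ξ, hξU⟩ with hqξ
  have hle : qξ.asIdeal ≤ q := by
    have := (specializes_iff_primeIdealOf_le hU ⟨ξ, hξU⟩ ⟨x, hxU⟩).1 (genericPoint_specializes x)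
    rw [hqx] at this
    exact this
  haveI : (qξ.asIdeal.under Γ(Y, V)).IsPrime := Ideal.comap_isPrime _ _
  haveI : qξ.asIdeal.LiesOver (qξ.asIdeal.under Γ(Y, V)) := ⟨rfl⟩
  letI : Algebra Γ(Y, V) (Y.presheaf.stalk (f x₁)) :=
    TopCat.Presheaf.algebra_section_stalk Y.presheaf ⟨f x₁, hx₁V⟩
  haveI : IsLocalization.AtPrime (Y.presheaf.stalk (f x₁)) py.asIdeal :=
    hV.isLocalization_stalk ⟨f x₁, hx₁V⟩
  have key := cd_add_trdeg_eq_local' Γ(Y, V) Γ(X, U) py.asIdeal (Y.presheaf.stalk (f x₁)) hUC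
    qξ.asIdeal q hle (qξ.asIdeal.under Γ(Y, V))
  rw [hq0, add_zero] at key
  rw [trdeg_residueField f hU hV e' ξ hξU] at he
  rw [he] at key
  have hpξ : (⟨qξ.asIdeal.under Γ(Y, V), inferInstance⟩ : PrimeSpectrum Γ(Y, V)) =
      hV.primeIdealOf ⟨f ξ, e' hξU⟩ :=
    PrimeSpectrum.ext (comap_primeIdealOf f hU hV e' ξ hξU)
  rw [hpξ] at key
  have hcdY : cd (hV.primeIdealOf ⟨f ξ, e' hξU⟩) py = py.asIdeal.height :=
    cd_eq_height_of_generic hV (f ξ) (f x₁) (e' hξU) hx₁V hgen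
  have hcdX : cd qξ (hU.primeIdealOf ⟨x, hxU⟩) = (hU.primeIdealOf ⟨x, hxU⟩).asIdeal.height :=
    cd_eq_height_of_generic hU ξ x hξU hxU genericPoint_specializes
  rw [hqx] at hcdX
  have hcdY' : cd (hV.primeIdealOf ⟨f ξ, e' hξU⟩)
      (⟨py.asIdeal, py.isPrime⟩ : PrimeSpectrum Γ(Y, V)) = py.asIdeal.height := hcdY
  have hcdX' : cd (⟨qξ.asIdeal, qξ.isPrime⟩ : PrimeSpectrum Γ(X, U)) ⟨q, hqp⟩ = q.height := hcdX
  rw [hcdX', hcdY'] at key
  have key' : q.height = py.asIdeal.height + (e : ℕ∞) := by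
    have h' := key
    rw [← Cardinal.ofENat_nat e, ← Cardinal.ofENat_add, Cardinal.ofENat_inj] at h'
    exact h'
  rw [ringKrullDim_stalk_eq_height hU x hxU, hqx, ringKrullDim_stalk_eq_height hV (f x₁) hx₁V,
    ← hpy]
  change ((q.height : ℕ∞) : WithBot ℕ∞) = _
  rw [key']
  push_cast
  rfl

end Local

section Global

variable {X Y : Scheme.{u}} (f : X ⟶ Y) [IsLocallyNoetherian Y] [LocallyOfFiniteType f]

theorem topologicalKrullDim_eq_iSup_coheight (Z : Scheme.{u}) [Nonempty Z] :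
    topologicalKrullDim Z = ((⨆ z : Z, Order.coheight z : ℕ∞) : WithBot ℕ∞) := by
  have h1 : topologicalKrullDim ↥Z = Order.krullDim ↥Z := by
    let _ := specializationOrder ↥Z
    exact Order.krullDim_eq_of_orderIso (irreducibleSetEquivPoints (α := ↥Z))
  rw [h1, Order.krullDim_eq_iSup_coheight_of_nonempty]

/-- **EGA IV 5.6.7**: fibres of dimension `≤ n` ⟹ `dim X ≤ dim Y + n`. -/
theorem topologicalKrullDim_le_add_of_fiber_le (n : ℕ)
    (h : ∀ y : Y, topologicalKrullDim (f.fiber y) ≤ n) :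
    topologicalKrullDim X ≤ topologicalKrullDim Y + n := by
  refine topologicalKrullDim_le_add f n (fun ξ _ => ?_)
  exact trdeg_le_of_fibreDimAt_le f ξ n
    ((fibreDimAt_le_topologicalKrullDim_fiber f ξ).trans (h (f ξ)))

variable [IrreducibleSpace X]

/-- **EGA IV 5.6.6**: fibres of dimension `≥ n` over a base with universally catenary local
rings ⟹ `dim X ≥ dim Y + n`. -/
theorem add_le_topologicalKrullDim_of_le_fiber
    (hY : ∀ y : Y, CAlg.IsUniversallyCatenary (Y.presheaf.stalk y)) (n : ℕ)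
    (h : ∀ y : Y, (n : WithBot ℕ∞) ≤ topologicalKrullDim (f.fiber y)) :
    topologicalKrullDim Y + n ≤ topologicalKrullDim X := by
  have hsurj : ∀ y : Y, y ∈ Set.range f := by
    intro y
    by_contra hcon
    haveI : IsEmpty ↥(f.fiber y) :=
      ⟨fun t => hcon ⟨f.fiberι y t, (f.fiberHomeo y t).2⟩⟩
    haveI : IsEmpty (IrreducibleCloseds ↥(f.fiber y)) :=
      ⟨fun Z => IsEmpty.false (Z.isIrreducible.nonempty.some : ↥(f.fiber y))⟩
    have h0 : topologicalKrullDim ↥(f.fiber y) = ⊥ := by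
      unfold topologicalKrullDim
      exact Order.krullDim_eq_bot
    have := h y
    rw [h0] at this
    exact absurd this (by simp)
  have hgen : ∀ y' : Y, f (genericPoint X) ⤳ y' := by
    intro y'
    obtain ⟨x', rfl⟩ := hsurj y'
    exact (genericPoint_specializes x').map f.continuous
  obtain ⟨e, he⟩ := exists_nat_trdeg_residueField f (genericPoint X)
  have hne : n ≤ e := by
    have := h (f (genericPoint X))
    rw [Groth.Agent.Lib.Helper18.JacDim.topologicalKrullDim_fiber_genericPoint f e he] at this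
    exact_mod_cast this
  haveI : Nonempty Y := ⟨f (genericPoint X)⟩
  rw [topologicalKrullDim_eq_iSup_coheight Y, topologicalKrullDim_eq_iSup_coheight X]
  have key : (⨆ y : Y, Order.coheight y) + (n : ℕ∞) ≤ ⨆ x : X, Order.coheight x := by
    rw [ENat.iSup_add]
    apply iSup_le
    intro y
    obtain ⟨x, -, hx⟩ := exists_stalk_dim_eq_add f hgen y (hsurj y) (hY y) e he
    rw [ringKrullDim_stalk_eq_coheight, ringKrullDim_stalk_eq_coheight] at hx
    have hx' : Order.coheight x = Order.coheight y + (e : ℕ∞) := by exact_mod_cast hx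
    refine le_trans ?_ (le_iSup (fun x : X => Order.coheight x) x)
    rw [hx']
    gcongr
  exact_mod_cast key

/-- fibres of dimension exactly `n` ⟹ `dim X = dim Y + n` -/
theorem topologicalKrullDim_eq_add_of_fiber_eq
    (hY : ∀ y : Y, CAlg.IsUniversallyCatenary (Y.presheaf.stalk y)) (n : ℕ)
    (h : ∀ y : Y, topologicalKrullDim (f.fiber y) = n) :
    topologicalKrullDim X = topologicalKrullDim Y + n :=
  le_antisymm (topologicalKrullDim_le_add_of_fiber_le f n (fun y => (h y).le))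
    (add_le_topologicalKrullDim_of_le_fiber f hY n (fun y => (h y).ge))

end Global

end Groth.Agent.Lib.Helper18.FibGlobal
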