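import Mathlib

/-! Helper lemmas on points of fibres of scheme morphisms (helper18). -/

set_option autoImplicit false
universe u

open AlgebraicGeometry CategoryTheory

namespace Groth.Agent.Lib.Helper18

/-- Affine case: in the spectrum of a Noetherian Jacobson ring, a closed point with no proper
generization is open. -/
lemma isOpen_singleton_of_isClosed_of_generization_affine (Y : Scheme.{u}) (hY : ∃ R, Y = Spec R)
    [IsLocallyNoetherian Y] [JacobsonSpace Y] (y : Y)
    (h1 : IsClosed ({y} : Set Y)) (h2 : ∀ y' : Y, y' ⤳ y → y' = y) : IsOpen ({y} : Set Y) := by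
  obtain ⟨R, rfl⟩ := hY
  have : IsNoetherianRing R := isLocallyNoetherian_Spec.mp inferInstance
  have : IsJacobsonRing R := PrimeSpectrum.isJacobsonRing_iff_jacobsonSpace.mpr ‹_›
  have := (PrimeSpectrum.isOpen_singleton_tfae_of_isNoetherian_of_isJacobsonRing (R := R) y).out 0 2
  refine this.mpr ⟨h1, ?_⟩
  intro a b hba ha
  rw [Set.mem_singleton_iff] at ha ⊢
  subst ha
  exact h2 b hba

/-- In a locally Noetherian Jacobson scheme, a closed point with no proper generization is open. -/
lemma isOpen_singleton_of_isClosed_of_generization {X : Scheme.{u}}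
    [IsLocallyNoetherian X] [JacobsonSpace X] (x : X)
    (h1 : IsClosed ({x} : Set X)) (h2 : ∀ x' : X, x' ⤳ x → x' = x) : IsOpen ({x} : Set X) := by
  obtain ⟨i, y, rfl⟩ := X.affineCover.exists_eq x
  have hι : Topology.IsOpenEmbedding (X.affineCover.f i) := (X.affineCover.f i).isOpenEmbedding
  have : JacobsonSpace (X.affineCover.X i) := .of_isOpenEmbedding hι
  have : IsLocallyNoetherian (X.affineCover.X i) := inferInstance
  have hy : IsOpen ({y} : Set (X.affineCover.X i)) := by
    refine isOpen_singleton_of_isClosed_of_generization_affine (X.affineCover.X i) ⟨_, rfl⟩ y ?_ ?_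
    · have : ({y} : Set (X.affineCover.X i)) = (X.affineCover.f i) ⁻¹' {X.affineCover.f i y} := by
        ext z
        simp only [Set.mem_singleton_iff, Set.mem_preimage]
        exact ⟨fun h => by rw [h], fun h => hι.injective h⟩
      rw [this]
      exact h1.preimage hι.continuous
    · intro y' hy'
      exact hι.injective (h2 _ (hι.isInducing.specializes_iff.mpr hy'))
  have := hι.isOpenMap _ hy
  rwa [Set.image_singleton] at this

/-- In a locally Noetherian Jacobson scheme, a point is open iff it is closed and has no proper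
generization. -/
lemma isOpen_singleton_iff_isClosed_and_generization {X : Scheme.{u}}
    [IsLocallyNoetherian X] [JacobsonSpace X] (x : X) :
    IsOpen ({x} : Set X) ↔ IsClosed ({x} : Set X) ∧ ∀ x' : X, x' ⤳ x → x' = x := by
  constructor
  · intro h
    exact ⟨isClosed_singleton_of_isLocallyClosed_singleton h.isLocallyClosed,
      fun x' hx' => hx'.mem_open h rfl⟩
  · rintro ⟨h1, h2⟩
    exact isOpen_singleton_of_isClosed_of_generization x h1 h2

/-- The fibre of a morphism locally of finite type is locally Noetherian. -/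
instance isLocallyNoetherian_fiber {X Y : Scheme.{u}} (f : X ⟶ Y) [LocallyOfFiniteType f] (y : Y) :
    IsLocallyNoetherian (f.fiber y) :=
  have : LocallyOfFiniteType (f.fiberToSpecResidueField y) :=
    MorphismProperty.pullback_snd _ _ inferInstance
  LocallyOfFiniteType.isLocallyNoetherian (f.fiberToSpecResidueField y)

end Groth.Agent.Lib.Helper18

namespace Groth.Agent.Lib.Helper18

/-- A point of a `k`-scheme `F` which is the image of `Spec K → F` with `K/k` integral is closed. -/
lemma isClosed_singleton_of_isIntegral {F : Scheme.{u}} {k K : CommRingCat.{u}}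
    (h : Spec K ⟶ F) (g : F ⟶ Spec k) (φ : k ⟶ K) (hφ : φ.hom.IsIntegral)
    (hcomp : h ≫ g = Spec.map φ) (a : F) (ha : Set.range h = {a}) :
    IsClosed ({a} : Set F) := by
  rw [← closure_subset_iff_isClosed]
  intro b hb
  rw [← specializes_iff_mem_closure] at hb
  obtain ⟨i, b', rfl⟩ := F.affineCover.exists_eq b
  have hι : Topology.IsOpenEmbedding (F.affineCover.f i) := (F.affineCover.f i).isOpenEmbedding
  have ha_mem : a ∈ Set.range (F.affineCover.f i) := hb.mem_open hι.isOpen_range ⟨b', rfl⟩
  have hrange : Set.range h ⊆ Set.range (F.affineCover.f i) := by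
    rw [ha]; simpa using ha_mem
  have key : ∀ (Y : Scheme.{u}) (hY : ∃ R, Y = Spec R) (ι : Y ⟶ F) [IsOpenImmersion ι]
      (h' : Spec K ⟶ Y) (hh' : h' ≫ ι = h), IsClosed (Set.range h') := by
    rintro Y ⟨R, rfl⟩ ι _ h' hh'
    obtain ⟨θ, rfl⟩ := Spec.map_surjective h'
    obtain ⟨ψ, hψ⟩ := Spec.map_surjective (ι ≫ g)
    have hcomp' : ψ ≫ θ = φ := Spec.map_injective (by
      rw [Spec.map_comp, hψ, ← Category.assoc, hh', hcomp])
    have hθint : θ.hom.IsIntegral := by
      have : (θ.hom.comp ψ.hom).IsIntegral := by
        rw [← CommRingCat.hom_comp, hcomp']; exact hφ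
      exact RingHom.IsIntegral.tower_top _ _ this
    exact (PrimeSpectrum.isClosedMap_comap_of_isIntegral _ hθint).isClosed_range
  have hclosed := key (F.affineCover.X i) ⟨_, rfl⟩ (F.affineCover.f i)
    (IsOpenImmersion.lift (F.affineCover.f i) h hrange) (IsOpenImmersion.lift_fac _ _ _)
  obtain ⟨a', rfl⟩ := ha_mem
  have hrange' : Set.range (IsOpenImmersion.lift (F.affineCover.f i) h hrange) = {a'} := by
    apply Set.Subset.antisymm
    · rintro _ ⟨z, rfl⟩
      rw [Set.mem_singleton_iff]
      apply hι.injective
      have : h z ∈ Set.range h := ⟨z, rfl⟩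
      rw [ha, Set.mem_singleton_iff] at this
      rw [← this, ← Scheme.Hom.comp_apply, IsOpenImmersion.lift_fac]
    · have : (F.affineCover.f i) a' ∈ Set.range h := by rw [ha]; rfl
      obtain ⟨z, hz⟩ := this
      rintro _ rfl
      refine ⟨z, hι.injective ?_⟩
      rw [← hz, ← Scheme.Hom.comp_apply, IsOpenImmersion.lift_fac]
  have hspec : a' ⤳ b' := hι.isInducing.specializes_iff.mp hb
  have hmem : b' ∈ closure ({a'} : Set _) := specializes_iff_mem_closure.mp hspec
  rw [← hrange', hclosed.closure_eq, hrange', Set.mem_singleton_iff] at hmem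
  rw [hmem]; rfl

end Groth.Agent.Lib.Helper18
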