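import Mathlib
import Groth.Agent.Lib.Helper18.FlL

/-!
# Descent of faithfully flat finitely presented algebras to a finitely presented base (helper18)
-/

set_option autoImplicit false
set_option linter.unusedSectionVars false

namespace Groth.Agent.Lib.Helper18.Fl

open TensorProduct Function MvPolynomial

universe u

/-- A flat finitely presented algebra has a flat model over a finitely generated `ℤ`-subalgebra
(exposing the presentation and the subalgebra). -/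
theorem exists_flat_model_level (A : Type u) [CommRing A] (B : Type u) [CommRing B] [Algebra A B]
    [Algebra.FinitePresentation A B] [Module.Flat A B] :
    ∃ (n k : ℕ) (P : Algebra.Presentation A B (Fin n) (Fin k)) (S₂ : Subalgebra ℤ A)
      (_ : P.HasCoeffs ↥S₂), S₂.FG ∧ Module.Flat S₂ (P.ModelOfHasCoeffs ↥S₂) := by
  classical
  obtain ⟨n, k, ⟨P⟩⟩ := Algebra.Presentation.exists_presentation_fin A B
  obtain ⟨g, hgdef⟩ : ∃ g : Fin k → Fin 1 → MvPolynomial (Fin n) A,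
      g = fun l => (fun _ => P.relation l) := ⟨_, rfl⟩
  haveI : Module.Flat A ((Fin 1 → MvPolynomial (Fin n) A) ⧸ Kspan g) := by
    rw [hgdef]
    have e1 := (quotFinOneEquiv P.relation).restrictScalars A
    have e2 : (MvPolynomial (Fin n) A ⧸ Ideal.span (Set.range P.relation)) ≃ₗ[A] B :=
      ((Ideal.quotientEquivAlgOfEq A P.span_range_relation_eq_ker).trans
        (P.quotientEquiv.restrictScalars A)).toLinearEquiv
    exact Module.Flat.of_linearEquiv (e1.trans e2)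
  obtain ⟨S₀sub, hS₀def⟩ : ∃ S₀sub : Subalgebra ℤ A, S₀sub = Algebra.adjoin ℤ P.coeffs :=
    ⟨_, rfl⟩
  have hS₀ : S₀sub.FG := by
    rw [hS₀def]; exact Subalgebra.fg_def.2 ⟨P.coeffs, P.finite_coeffs, rfl⟩
  have hTS : P.coeffs ⊆ S₀sub := by rw [hS₀def]; exact Algebra.subset_adjoin
  haveI hcoef₀ : P.HasCoeffs ↥S₀sub := ⟨fun x hx => ⟨⟨x, hTS hx⟩, rfl⟩⟩
  obtain ⟨g₀, hg₀def⟩ : ∃ g₀ : Fin k → Fin 1 → MvPolynomial (Fin n) S₀sub,
      g₀ = fun l => (fun _ => P.relationOfHasCoeffs ↥S₀sub l) := ⟨_, rfl⟩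
  have hg₀ : ∀ i, mapVec (inc S₀sub) (g₀ i) = g i := by
    intro i
    funext j
    rw [mapVec_apply, hg₀def, hgdef]
    exact P.map_relationOfHasCoeffs ↥S₀sub i
  obtain ⟨S₂, h02, hS₂, hflat₂⟩ := exists_flat_level_global g S₀sub hS₀ g₀ hg₀
  have hcoef : P.HasCoeffs ↥S₂ := ⟨fun x hx => ⟨⟨x, h02 (hTS hx)⟩, rfl⟩⟩
  have hg₂ : (fun i => mapVec (incl h02) (g₀ i)) =
      fun l => (fun _ => P.relationOfHasCoeffs ↥S₂ l) := by
    funext i
    apply mapVec_injective (inc S₂) (inc_injective S₂)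
    rw [mapVec_mapVec, inc_comp_incl, hg₀, hgdef]
    funext j
    rw [mapVec_apply]
    exact (P.map_relationOfHasCoeffs ↥S₂ i).symm
  rw [hg₂] at hflat₂
  exact ⟨n, k, P, S₂, hcoef, hS₂, Module.Flat.of_linearEquiv
      ((quotFinOneEquiv (P.relationOfHasCoeffs ↥S₂)).restrictScalars S₂).symm⟩

/-- A faithfully flat finitely presented `A`-algebra descends to a faithfully flat finitely
presented algebra over a finitely presented `R`-algebra `A₀ → A`. -/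
theorem exists_fp_faithfullyFlat_model {R A B : Type u} [CommRing R] [CommRing A] [CommRing B]
    [Algebra R A] [Algebra A B] [Algebra.FinitePresentation A B] [Module.FaithfullyFlat A B] :
    ∃ (A₀ B₀ : Type u) (_ : CommRing A₀) (_ : CommRing B₀) (_ : Algebra R A₀) (_ : Algebra A₀ A)
      (_ : IsScalarTower R A₀ A) (_ : Algebra A₀ B₀), Algebra.FinitePresentation R A₀ ∧
      Algebra.FinitePresentation A₀ B₀ ∧ Module.FaithfullyFlat A₀ B₀ ∧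
      Nonempty (B ≃ₐ[A] A ⊗[A₀] B₀) := by
  classical
  obtain ⟨n, k, P, S₂, hcoef, hS₂, hflat₂⟩ := exists_flat_model_level A B
  obtain ⟨φ, hφ⟩ : ∃ φ : P.ModelOfHasCoeffs ↥S₂ →ₐ[↥S₂] B,
      ∀ y : MvPolynomial (Fin n) S₂, φ (Ideal.Quotient.mk _ y) = aeval P.val y :=
    ⟨Ideal.Quotient.liftₐ _ (aeval P.val) (by
      simp_rw [← RingHom.mem_ker, ← SetLike.le_def, Ideal.span_le]
      rintro a ⟨i, rfl⟩
      simp), fun y => rfl⟩
  -- the image of `Spec B₂ → Spec S₂` is open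
  have hopen : IsOpen (Set.range (PrimeSpectrum.comap
      (algebraMap ↥S₂ (P.ModelOfHasCoeffs ↥S₂)))) :=
    (PrimeSpectrum.isOpenMap_comap_of_hasGoingDown_of_finitePresentation).isOpen_range
  obtain ⟨I, hI⟩ : ∃ I : Ideal ↥S₂, (Set.range (PrimeSpectrum.comap
      (algebraMap ↥S₂ (P.ModelOfHasCoeffs ↥S₂))))ᶜ = PrimeSpectrum.zeroLocus (I : Set ↥S₂) :=
    (PrimeSpectrum.isClosed_iff_zeroLocus_ideal _).mp hopen.isClosed_compl
  -- `I A = A`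
  have hIA : I.map (algebraMap ↥S₂ A) = ⊤ := by
    by_contra hne
    obtain ⟨𝔭, h𝔭max, h𝔭⟩ := Ideal.exists_le_maximal _ hne
    haveI := h𝔭max.isPrime
    obtain ⟨𝔮, h𝔮⟩ := PrimeSpectrum.comap_surjective_of_faithfullyFlat (A := A) (B := B)
      ⟨𝔭, h𝔭max.isPrime⟩
    have hmem : PrimeSpectrum.comap (algebraMap ↥S₂ A) ⟨𝔭, h𝔭max.isPrime⟩ ∈ Set.range
        (PrimeSpectrum.comap (algebraMap ↥S₂ (P.ModelOfHasCoeffs ↥S₂))) := by
      refine ⟨PrimeSpectrum.comap φ.toRingHom 𝔮, ?_⟩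
      rw [← h𝔮, ← PrimeSpectrum.comap_comp_apply, ← PrimeSpectrum.comap_comp_apply]
      congr 1
      ext s
      simp only [RingHom.comp_apply]
      exact φ.commutes s
    have hnot : PrimeSpectrum.comap (algebraMap ↥S₂ A) ⟨𝔭, h𝔭max.isPrime⟩ ∈
        PrimeSpectrum.zeroLocus (I : Set ↥S₂) := by
      intro x hx
      exact h𝔭 (Ideal.mem_map_of_mem _ hx)
    rw [← hI] at hnot
    exact hnot hmem
  -- write `1` as a finite combination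
  have h1 : (1 : A) ∈ Submodule.span A ((algebraMap ↥S₂ A) '' (I : Set ↥S₂)) := by
    have : (1 : A) ∈ I.map (algebraMap ↥S₂ A) := by rw [hIA]; trivial
    exact this
  obtain ⟨l, hl, hl1⟩ := (Finsupp.mem_span_image_iff_linearCombination A).mp h1
  rw [Finsupp.linearCombination_apply, Finsupp.sum] at hl1
  -- the bigger subalgebra
  obtain ⟨S₃, hS₃def⟩ : ∃ S₃ : Subalgebra ℤ A,
      S₃ = S₂ ⊔ Algebra.adjoin ℤ ((l.support.image l : Finset A) : Set A) := ⟨_, rfl⟩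
  have h23 : S₂ ≤ S₃ := by rw [hS₃def]; exact le_sup_left
  have hlS₃ : ∀ x ∈ l.support, l x ∈ S₃ := by
    intro x hx
    rw [hS₃def]
    exact (le_sup_right : _ ≤ S₂ ⊔ _) (Algebra.subset_adjoin
      (Finset.mem_coe.mpr (Finset.mem_image_of_mem l hx)))
  have hS₃ : S₃.FG := by
    rw [hS₃def]
    exact Subalgebra.FG.sup hS₂ (Subalgebra.fg_adjoin_finset _)
  haveI : Algebra.FiniteType ℤ ↥S₃ := (Subalgebra.fg_iff_finiteType S₃).mp hS₃
  haveI : Algebra.FinitePresentation ℤ ↥S₃ := Algebra.FinitePresentation.of_finiteType.mp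
    inferInstance
  -- `A₀`
  obtain ⟨ψ, hψ⟩ : ∃ ψ : R ⊗[ℤ] ↥S₃ →ₐ[R] A, ∀ (r : R) (s : ↥S₃),
      ψ (r ⊗ₜ s) = algebraMap R A r * (s : A) :=
    ⟨Algebra.TensorProduct.lift (Algebra.ofId R A) S₃.val (fun _ _ => Commute.all _ _),
      fun r s => by simp [Algebra.ofId_apply]⟩
  letI algA₀A : Algebra (R ⊗[ℤ] ↥S₃) A := ψ.toRingHom.toAlgebra
  haveI tw1 : IsScalarTower R (R ⊗[ℤ] ↥S₃) A := by
    refine ⟨fun r x a => ?_⟩
    change ψ (r • x) * a = r • (ψ x * a)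
    rw [map_smul, smul_mul_assoc]
  obtain ⟨ι₂₃, hι₂₃⟩ : ∃ ι₂₃ : ↥S₂ →+* ↥S₃, ∀ s : ↥S₂, ((ι₂₃ s : ↥S₃) : A) = (s : A) :=
    ⟨(Subalgebra.inclusion h23).toRingHom, fun s => rfl⟩
  letI algS₂A₀ : Algebra ↥S₂ (R ⊗[ℤ] ↥S₃) :=
    ((Algebra.TensorProduct.includeRight : ↥S₃ →ₐ[ℤ] R ⊗[ℤ] ↥S₃).toRingHom.comp ι₂₃).toAlgebra
  have hmap : ∀ s : ↥S₂, algebraMap ↥S₂ (R ⊗[ℤ] ↥S₃) s = (1 : R) ⊗ₜ[ℤ] ι₂₃ s := fun s => rfl
  haveI tw2 : IsScalarTower ↥S₂ (R ⊗[ℤ] ↥S₃) A :=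
    IsScalarTower.of_algebraMap_eq (fun s => by
      change (s : A) = ψ (algebraMap ↥S₂ (R ⊗[ℤ] ↥S₃) s)
      rw [hmap, hψ, map_one, one_mul, hι₂₃])
  -- `1 ∈ I A₀`
  have h1A₀ : (1 : R ⊗[ℤ] ↥S₃) ∈ I.map (algebraMap ↥S₂ (R ⊗[ℤ] ↥S₃)) := by
    have hsum : (1 : R ⊗[ℤ] ↥S₃) = ∑ x ∈ l.support.attach,
        ((1 : R) ⊗ₜ[ℤ] (⟨l x.1, hlS₃ x.1 x.2⟩ : ↥S₃)) *
          algebraMap ↥S₂ (R ⊗[ℤ] ↥S₃) x.1 := by
      simp_rw [hmap, Algebra.TensorProduct.tmul_mul_tmul, one_mul]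
      rw [← TensorProduct.tmul_sum, Algebra.TensorProduct.one_def]
      congr 1
      apply Subtype.ext
      rw [OneMemClass.coe_one, ← hl1, AddSubmonoidClass.coe_finset_sum,
        ← Finset.sum_attach l.support (fun x => l x • (algebraMap ↥S₂ A) x)]
      refine Finset.sum_congr rfl fun x _ => ?_
      rw [MulMemClass.coe_mul, hι₂₃, smul_eq_mul]
      rfl
    rw [hsum]
    refine Ideal.sum_mem _ fun x _ => Ideal.mul_mem_left _ _ (Ideal.mem_map_of_mem _ ?_)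
    exact hl (Finset.mem_coe.mpr x.2)
  refine ⟨R ⊗[ℤ] ↥S₃, (R ⊗[ℤ] ↥S₃) ⊗[↥S₂] P.ModelOfHasCoeffs ↥S₂, inferInstance, inferInstance,
    inferInstance, algA₀A, tw1, inferInstance, inferInstance, inferInstance, ?_, ?_⟩
  · refine Module.FaithfullyFlat.of_comap_surjective (fun 𝔭 => ?_)
    obtain ⟨𝔭₂, h𝔭₂def⟩ : ∃ 𝔭₂ : PrimeSpectrum ↥S₂,
        𝔭₂ = PrimeSpectrum.comap (algebraMap ↥S₂ (R ⊗[ℤ] ↥S₃)) 𝔭 := ⟨_, rfl⟩
    have h𝔭₂ : 𝔭₂ ∈ Set.range (PrimeSpectrum.comap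
        (algebraMap ↥S₂ (P.ModelOfHasCoeffs ↥S₂))) := by
      by_contra hno
      have hz : 𝔭₂ ∈ PrimeSpectrum.zeroLocus (I : Set ↥S₂) := by rw [← hI]; exact hno
      have hle : I ≤ 𝔭.asIdeal.comap (algebraMap ↥S₂ (R ⊗[ℤ] ↥S₃)) := by
        intro x hx
        have := hz hx
        rw [h𝔭₂def] at this
        exact this
      exact 𝔭.isPrime.ne_top ((Ideal.eq_top_iff_one _).mpr
        (Ideal.map_le_iff_le_comap.mpr hle h1A₀))
    change 𝔭 ∈ Set.range (PrimeSpectrum.comap (algebraMap (R ⊗[ℤ] ↥S₃)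
      ((R ⊗[ℤ] ↥S₃) ⊗[↥S₂] P.ModelOfHasCoeffs ↥S₂)))
    rw [← PrimeSpectrum.nontrivial_iff_mem_rangeComap] at h𝔭₂ ⊢
    obtain ⟨κ, hκ⟩ : ∃ κ : 𝔭₂.asIdeal.ResidueField →+* 𝔭.asIdeal.ResidueField, ∀ s : ↥S₂,
        κ (algebraMap ↥S₂ _ s) =
          algebraMap (R ⊗[ℤ] ↥S₃) _ (algebraMap ↥S₂ (R ⊗[ℤ] ↥S₃) s) := by
      subst h𝔭₂def
      exact ⟨Ideal.ResidueField.map _ _ (algebraMap ↥S₂ (R ⊗[ℤ] ↥S₃)) rfl,
        fun s => Ideal.ResidueField.map_algebraMap _ _ _ _ s⟩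
    letI algK : Algebra 𝔭₂.asIdeal.ResidueField 𝔭.asIdeal.ResidueField := κ.toAlgebra
    haveI twK : IsScalarTower ↥S₂ 𝔭₂.asIdeal.ResidueField 𝔭.asIdeal.ResidueField :=
      IsScalarTower.of_algebraMap_eq (fun s => by
        rw [IsScalarTower.algebraMap_apply ↥S₂ (R ⊗[ℤ] ↥S₃) 𝔭.asIdeal.ResidueField]
        exact (hκ s).symm)
    haveI : Nontrivial (𝔭.asIdeal.ResidueField ⊗[𝔭₂.asIdeal.ResidueField]
        (𝔭₂.asIdeal.ResidueField ⊗[↥S₂] P.ModelOfHasCoeffs ↥S₂)) :=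
      (Module.FaithfullyFlat.nontrivial_tensorProduct_iff_right 𝔭₂.asIdeal.ResidueField
        𝔭.asIdeal.ResidueField).mpr h𝔭₂
    have e4 := Algebra.TensorProduct.cancelBaseChange ↥S₂ 𝔭₂.asIdeal.ResidueField
      𝔭.asIdeal.ResidueField 𝔭.asIdeal.ResidueField (P.ModelOfHasCoeffs ↥S₂)
    have e3 := Algebra.TensorProduct.cancelBaseChange ↥S₂ (R ⊗[ℤ] ↥S₃)
      𝔭.asIdeal.ResidueField 𝔭.asIdeal.ResidueField (P.ModelOfHasCoeffs ↥S₂)
    exact (e3.toEquiv.trans e4.symm.toEquiv).nontrivial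
  · exact ⟨((Algebra.TensorProduct.cancelBaseChange ↥S₂ (R ⊗[ℤ] ↥S₃) A A
      (P.ModelOfHasCoeffs ↥S₂)).trans (P.tensorModelOfHasCoeffsEquiv ↥S₂)).symm⟩

end Groth.Agent.Lib.Helper18.Fl
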