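import Mathlib
import Groth.Agent.Lib.Helper14.FPFib4
import Groth.Agent.Lib.Helper14.LfpOfComp

/-!
# Deformation of flatness along an arbitrary thickening, finite presentation case (helper18)
-/

set_option autoImplicit false
set_option linter.unusedSectionVars false

namespace Groth.Agent.Lib.Helper18.Fl

open CategoryTheory Limits AlgebraicGeometry

universe u

/-- The residue field map of a closed immersion is an isomorphism. -/
theorem isIso_residueFieldMap_of_isClosedImmersion {S S' : Scheme.{u}} (i : S ⟶ S')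
    [IsClosedImmersion i] (s : S) : IsIso (i.residueFieldMap s) := by
  rw [ConcreteCategory.isIso_iff_bijective]
  refine ⟨(i.residueFieldMap s).hom.injective, ?_⟩
  have h1 : Function.Surjective ((S'.residue (i s) ≫ i.residueFieldMap s).hom) := by
    rw [Scheme.residue_residueFieldMap]
    exact (IsLocalRing.residue_surjective).comp (i.stalkMap_surjective s)
  intro y
  obtain ⟨z, hz⟩ := h1 y
  exact ⟨(S'.residue (i s)).hom z, hz⟩

/-- A point of a thickening factors through the thickened subscheme. -/
theorem exists_fromSpecResidueField_factor {S S' : Scheme.{u}} (i : S ⟶ S')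
    [IsClosedImmersion i] (s : S) :
    ∃ a : Spec (S'.residueField (i s)) ⟶ S, a ≫ i = S'.fromSpecResidueField (i s) := by
  haveI := isIso_residueFieldMap_of_isClosedImmersion i s
  refine ⟨Spec.map (inv (i.residueFieldMap s)) ≫ S.fromSpecResidueField s, ?_⟩
  rw [Category.assoc, ← Scheme.Hom.SpecMap_residueFieldMap_fromSpecResidueField,
    ← Spec.map_comp_assoc, IsIso.hom_inv_id, Spec.map_id, Category.id_comp]

/-- Flatness lifts along an arbitrary thickening of the base when the source is flat and
locally of finite presentation over the thickened base (critère de platitude par fibres). -/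
theorem flat_of_flat_baseChange_thickening {X X' Y Y' S S' : Scheme.{u}} (iX : X ⟶ X')
    (iY : Y ⟶ Y') (iS : S ⟶ S') (f : X ⟶ Y) (f' : X' ⟶ Y') (g : Y ⟶ S) (g' : Y' ⟶ S')
    [IsClosedImmersion iS] (hS : Surjective iS) (hcX : IsPullback iX (f ≫ g) (f' ≫ g') iS)
    (hcY : IsPullback iY g g' iS) (w : iX ≫ f' = f ≫ iY) [Flat (f' ≫ g')]
    [LocallyOfFinitePresentation (f' ≫ g')] [LocallyOfFiniteType g'] (hf : Flat f) :
    Flat f' := by
  rw [Flat.iff_flat_stalkMap]
  intro x'
  have hsurj : Surjective iX := MorphismProperty.of_isPullback hcX.flip hS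
  obtain ⟨x, rfl⟩ := hsurj.surj x'
  obtain ⟨a, ha⟩ := exists_fromSpecResidueField_factor iS (g (f x))
  have sqX := IsPullback.of_hasPullback (f ≫ g) a
  have sqY := IsPullback.of_hasPullback g a
  have sqU : IsPullback (pullback.fst (f ≫ g) a ≫ iX) (pullback.snd (f ≫ g) a) (f' ≫ g')
      (S'.fromSpecResidueField (iS (g (f x)))) := by
    rw [← ha]; exact sqX.paste_horiz hcX
  have sqV : IsPullback (pullback.fst g a ≫ iY) (pullback.snd g a) g'
      (S'.fromSpecResidueField (iS (g (f x)))) := by
    rw [← ha]; exact sqY.paste_horiz hcY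
  obtain ⟨φ, hφ1, hφ2⟩ : ∃ φ : pullback (f ≫ g) a ⟶ pullback g a,
      φ ≫ pullback.fst g a = pullback.fst (f ≫ g) a ≫ f ∧
      φ ≫ pullback.snd g a = pullback.snd (f ≫ g) a :=
    ⟨pullback.lift (pullback.fst (f ≫ g) a ≫ f) (pullback.snd (f ≫ g) a)
      (by rw [Category.assoc, pullback.condition]), pullback.lift_fst _ _ _,
      pullback.lift_snd _ _ _⟩
  have sqφ : IsPullback (pullback.fst (f ≫ g) a) φ f (pullback.fst g a) := by
    refine IsPullback.of_bot ?_ hφ1.symm sqY
    rw [hφ2]
    exact sqX
  have hφflat : Flat φ := MorphismProperty.of_isPullback sqφ hf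
  -- the point
  obtain ⟨t, ht⟩ : ∃ t : ↥(pullback (f ≫ g) a), (pullback.fst (f ≫ g) a) t = x := by
    obtain ⟨y⟩ : Nonempty ↥(Spec (S'.residueField (iS (g (f x))))) := inferInstance
    have hy : iS (a y) = iS (g (f x)) := by
      rw [← Scheme.Hom.comp_apply, ha, Scheme.fromSpecResidueField_apply]
    have hy' : a y = g (f x) := iS.isEmbedding.injective hy
    obtain ⟨z, hz1, -⟩ := Groth.Agent.Lib.Helper14.AS.exists_pt_of_isPullback sqX x y
      (by rw [Scheme.Hom.comp_apply, hy'])
    exact ⟨z, hz1⟩
  have key := Groth.Agent.Lib.Helper14.AS.flat_of_fibre_flat_fp f' g' (iS (g (f x)))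
    (pullback.fst (f ≫ g) a ≫ iX) (pullback.snd (f ≫ g) a)
    (pullback.fst g a ≫ iY) (pullback.snd g a) sqU sqV φ
    (by rw [← Category.assoc, hφ1, Category.assoc, Category.assoc, w]) hφ2 t
    (Flat.stalkMap (f' ≫ g') _) (Flat.stalkMap φ t)
  refine Groth.Agent.Lib.Helper14.AS.flat_stalkMap_pt f' ?_ key.2
  rw [Scheme.Hom.comp_apply, ht]

end Groth.Agent.Lib.Helper18.Fl
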