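import Mathlib
import Groth.Prelude.Def_AlgSpInf
import Groth.Agent.Lib.Helper24.DeformTower
import Groth.Agent.Lib.Helper18.FlQ
import Groth.Agent.S1384
import Groth.Agent.S1385

/-!
# Deformation situations of algebraic spaces, finite presentation over finite type (helper18)

Adaptation of helper24's `DeformTower` to arbitrary thickenings, under the hypotheses that
`X'` is flat and locally of finite presentation over `B'` and `Y'` locally of finite type over `B'`.
-/

set_option autoImplicit false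
universe u
open CategoryTheory CategoryTheory.Limits AlgebraicGeometry Opposite AlgSp Topology
open Groth.Agent.Lib.Helper14.AS Groth.Agent.Lib.Helper24.ThickSq Groth.Agent.Lib.Helper24.FinThickBC
open Groth.Agent.Lib.Helper24.DeformTower

namespace Groth.Agent.Lib.Helper18.DeformFp

variable {S : Scheme.{u}}

/-- Scheme-level deformation invariance of a property of morphisms (fp over ft setting). -/
def DeformInvFp (P : MorphismProperty Scheme.{u}) : Prop :=
  ∀ {X X' Y Y' S S' : Scheme.{u}} (iX : X ⟶ X') (iY : Y ⟶ Y') (iS : S ⟶ S') (f : X ⟶ Y)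
    (f' : X' ⟶ Y') (g : Y ⟶ S) (g' : Y' ⟶ S'), MoreMor.IsThickening iS →
    IsPullback iX (f ≫ g) (f' ≫ g') iS → IsPullback iY g g' iS → iX ≫ f' = f ≫ iY →
    Flat (f' ≫ g') → LocallyOfFinitePresentation (f' ≫ g') → LocallyOfFiniteType g' →
    (P f ↔ P f')

theorem deformInvFp_flat : DeformInvFp @Flat.{u} :=
  fun iX iY iS f f' g g' hS hcX hcY w hfl hfp hft => by
    haveI := hfl; haveI := hfp; haveI := hft; haveI := hS.1
    exact ⟨fun hf => Groth.Agent.Lib.Helper18.Fl.flat_of_flat_baseChange_thickening iX iY iS f f'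
      g g' hS.2 hcX hcY w hf,
      fun hf' => MorphismProperty.of_isPullback (P := @Flat) (IsPullback.of_bot hcX w hcY) hf'⟩

theorem deformInvFp_smooth : DeformInvFp @Smooth.{u} :=
  fun iX iY iS f f' g g' hS hcX hcY w hfl hfp hft => by
    haveI := hfl; haveI := hfp; haveI := hft
    exact Groth.Agent.S1384.result iX iY iS f f' g g' hS hcX hcY w

theorem deformInvFp_etale : DeformInvFp @Etale.{u} :=
  fun iX iY iS f f' g g' hS hcX hcY w hfl hfp hft => by
    haveI := hfl; haveI := hfp; haveI := hft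
    exact Groth.Agent.S1385.result iX iY iS f f' g g' hS hcX hcY w

set_option backward.isDefEq.respectTransparency.types false in
/-- The tower of charts over a deformation situation (fp over ft). -/
theorem exists_deform_tower_of_fp {X X' Y Y' B B' : Sp S}
    {iX : X ⟶ X'} {iY : Y ⟶ Y'} {iB : B ⟶ B'} {f : X ⟶ Y} {f' : X' ⟶ Y'} {g : Y ⟶ B}
    {g' : Y' ⟶ B'} (hcX : IsPullback iX (f ≫ g) (f' ≫ g') iB) (hcY : IsPullback iY g g' iB)
    (w : iX ≫ f' = f ≫ iY) (hBt : IsThickMor iB) (hflat : LocP @Flat (f' ≫ g'))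
    (hfp : LocP @LocallyOfFinitePresentation (f' ≫ g')) (hg' : LocP @LocallyOfFiniteType g')
    {U' V' T' : Over S} (a' : (yon S).obj U' ⟶ X') (b' : (yon S).obj V' ⟶ Y')
    (c' : (yon S).obj T' ⟶ B') (h' : U' ⟶ V') (k' : V' ⟶ T')
    (ha' : RepWith @Etale a') (hb' : RepWith @Etale b') (hc' : RepWith @Etale c')
    (comm' : a' ≫ f' = (yon S).map h' ≫ b') (commk' : b' ≫ g' = (yon S).map k' ≫ c') :
    ∃ (U V T : Over S) (a : (yon S).obj U ⟶ X) (b : (yon S).obj V ⟶ Y) (c : (yon S).obj T ⟶ B)
      (h : U ⟶ V) (k : V ⟶ T) (iU : U ⟶ U') (iV : V ⟶ V') (iT : T ⟶ T'),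
      a ≫ f = (yon S).map h ≫ b ∧ b ≫ g = (yon S).map k ≫ c ∧
      IsPullback a ((yon S).map iU) iX a' ∧ IsPullback b ((yon S).map iV) iY b' ∧
      IsPullback c ((yon S).map iT) iB c' ∧
      MoreMor.IsThickening iT.left ∧
      IsPullback iU.left (h.left ≫ k.left) (h'.left ≫ k'.left) iT.left ∧
      IsPullback iV.left k.left k'.left iT.left ∧
      IsPullback iU.left h.left h'.left iV.left ∧
      iU.left ≫ h'.left = h.left ≫ iV.left ∧ Flat (h'.left ≫ k'.left) ∧
      LocallyOfFinitePresentation (h'.left ≫ k'.left) ∧ LocallyOfFiniteType k'.left ∧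
      thick iU.left ∧ thick iV.left := by
  have hYt : IsThickMor iY := repWith_of_isPullback _ hcY.flip hBt
  have hXt : IsThickMor iX := repWith_of_isPullback _ hcX.flip hBt
  have hcart : IsPullback iX f f' iY := IsPullback.of_bot hcX w hcY
  obtain ⟨V, T, b, c, k, iV, iT, commk, sqVT, hiT, hiV, sqV, sqT⟩ :=
    exists_cartesian_chart_of hYt hBt hcY b' c' k' commk'
  obtain ⟨U, a, h, iU, comm, sqUV, hiU, sqU⟩ :=
    exists_cartesian_chart_over hXt hcart a' b' h' comm' b iV sqV
  have hcc : a' ≫ f' ≫ g' = (yon S).map (h' ≫ k') ≫ c' := by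
    rw [← Category.assoc, comm', Category.assoc, commk', Functor.map_comp, Category.assoc]
  have hfl : Flat (h'.left ≫ k'.left) := by
    have := hflat a' c' (h' ≫ k') ha' hc' hcc
    rwa [Over.comp_left] at this
  have hfp' : LocallyOfFinitePresentation (h'.left ≫ k'.left) := by
    have := hfp a' c' (h' ≫ k') ha' hc' hcc
    rwa [Over.comp_left] at this
  have hft' : LocallyOfFiniteType k'.left := hg' b' c' k' hb' hc' commk'
  exact ⟨U, V, T, a, b, c, h, k, iU, iV, iT, comm, commk, sqU, sqV, sqT,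
    hiT, sqUV.paste_vert sqVT, sqVT, sqUV, sqUV.w, hfl, hfp', hft', hiU, hiV⟩

set_option backward.isDefEq.respectTransparency.types false in
/-- Etale local properties which are deformation invariant for schemes (fp over ft) are
deformation invariant for algebraic spaces. -/
theorem deform_locP_iff_fp {X X' Y Y' B B' : Sp S} (hX' : IsAlgSpace X') (hY' : IsAlgSpace Y')
    (hB' : IsAlgSpace B')
    {iX : X ⟶ X'} {iY : Y ⟶ Y'} {iB : B ⟶ B'} {f : X ⟶ Y} {f' : X' ⟶ Y'} {g : Y ⟶ B}
    {g' : Y' ⟶ B'} (hcX : IsPullback iX (f ≫ g) (f' ≫ g') iB) (hcY : IsPullback iY g g' iB)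
    (w : iX ≫ f' = f ≫ iY) (hB : IsThickMor iB) (hflat : LocP @Flat (f' ≫ g'))
    (hfp : LocP @LocallyOfFinitePresentation (f' ≫ g')) (hg' : LocP @LocallyOfFiniteType g')
    {P : MorphismProperty Scheme.{u}} (hP : EtLocal P) (hdef : DeformInvFp P) :
    LocP P f ↔ LocP P f' := by
  obtain ⟨U', V', T', a', b', c', h', k', hae', has', hbe', hbs', hce', hcs', comm', commk'⟩ :=
    exists_atlas_tower hX' hY' hB' f' g'
  obtain ⟨U, V, T, a, b, c, h, k, iU, iV, iT, comm, commk, sqU, sqV, sqT, hfo, sX, sY, sUV, ws,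
    hfl, hfp', hft', hiU, hiV⟩ := exists_deform_tower_of_fp hcX hcY w hB hflat hfp hg' a' b' c' h' k'
      hae' hbe' hce' comm' commk'
  have hae : RepWith @Etale a := repWith_of_isPullback _ sqU.flip hae'
  have has : RepWith @Surjective a := repWith_of_isPullback _ sqU.flip has'
  have hbe : RepWith @Etale b := repWith_of_isPullback _ sqV.flip hbe'
  rw [locP_iff_chart hP f a b h hae has hbe comm, locP_iff_chart hP f' a' b' h' hae' has' hbe' comm']
  exact hdef iU.left iV.left iT.left h.left h'.left k.left k'.left hfo sX sY ws hfl hfp' hft'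

end Groth.Agent.Lib.Helper18.DeformFp
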