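import Mathlib
import Groth.Agent.S2097

/-!
# Local lifting for smooth morphisms of schemes along arbitrary thickenings (helper18)
-/

set_option autoImplicit false
universe u
open CategoryTheory CategoryTheory.Limits AlgebraicGeometry Opposite Topology

namespace Groth.Agent.Lib.Helper18.SmLift

/-- Ring level: smooth ring maps lift along surjections with nil kernel. -/
theorem exists_ringHom_lift_of_smooth {R Sm B' B : Type u} [CommRing R] [CommRing Sm]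
    [CommRing B'] [CommRing B] (φ : R →+* Sm) (hφ : φ.Smooth) (π : B' →+* B)
    (hπ : Function.Surjective π) (hnil : ∀ x ∈ RingHom.ker π, IsNilpotent x) (φq : R →+* B')
    (φr : Sm →+* B) (comm : φr.comp φ = π.comp φq) :
    ∃ ψ : Sm →+* B', ψ.comp φ = φq ∧ π.comp ψ = φr := by
  letI := φ.toAlgebra
  letI := φq.toAlgebra
  haveI : Algebra.Smooth R Sm := hφ
  let e : B' ⧸ RingHom.ker π ≃+* B := RingHom.quotientKerEquivOfSurjective hπ
  have he : ∀ x : B', e (Ideal.Quotient.mk _ x) = π x := fun x =>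
    RingHom.quotientKerEquivOfSurjective_apply_mk hπ x
  let g : Sm →ₐ[R] B' ⧸ RingHom.ker π :=
    { toRingHom := e.symm.toRingHom.comp φr
      commutes' := fun x => by
        change e.symm (φr (φ x)) = Ideal.Quotient.mk _ (φq x)
        rw [RingEquiv.symm_apply_eq, he]
        exact congrArg (fun k => k x) comm }
  obtain ⟨f, hf⟩ := Groth.Agent.S2097.result (RingHom.ker π) hnil g
  refine ⟨f.toRingHom, ?_, ?_⟩
  · ext x
    exact f.commutes x
  · ext s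
    have h1 : Ideal.Quotient.mk _ (f s) = g s := congrArg (fun k => k s) hf
    change π (f s) = φr s
    rw [← he, h1]
    change e (e.symm (φr s)) = φr s
    exact e.apply_symm_apply _

/-- Affine level: smooth morphisms lift along thickenings. -/
theorem exists_lift_of_smooth_of_isAffine {U V A A₀ : Scheme.{u}} [IsAffine U] [IsAffine V]
    [IsAffine A] (h : U ⟶ V) [Smooth h] (α : A₀ ⟶ A) [IsClosedImmersion α] [Surjective α]
    (r : A₀ ⟶ U) (q : A ⟶ V) (comm : r ≫ h = α ≫ q) :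
    ∃ ℓ : A ⟶ U, ℓ ≫ h = q ∧ α ≫ ℓ = r := by
  haveI : IsAffine A₀ := (IsClosedImmersion.isAffine_surjective_of_isAffine α).1
  have hsurj : Function.Surjective α.appTop.hom :=
    (IsClosedImmersion.isAffine_surjective_of_isAffine α).2
  have hnil : ∀ x ∈ RingHom.ker α.appTop.hom, IsNilpotent x := by
    intro x hx
    rw [Scheme.isNilpotent_iff_basicOpen_eq_bot, eq_bot_iff]
    intro a ha
    obtain ⟨a₀, rfl⟩ := α.surjective a
    have h1 : a₀ ∈ α ⁻¹ᵁ A.basicOpen x := ha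
    rw [Scheme.preimage_basicOpen_top] at h1
    have h2 : α.appTop.hom x = 0 := hx
    have h3 : A₀.basicOpen (α.appTop.hom x) = ⊥ := by rw [h2]; exact Scheme.basicOpen_zero _ _
    rw [h3] at h1
    exact h1
  have hsm : RingHom.Smooth h.appTop.hom :=
    (HasRingHomProperty.iff_of_isAffine (P := @Smooth)).1 ‹Smooth h›
  have hcomm : r.appTop.hom.comp h.appTop.hom = α.appTop.hom.comp q.appTop.hom := by
    have := congrArg Scheme.Hom.appTop comm
    rw [Scheme.Hom.comp_appTop, Scheme.Hom.comp_appTop] at this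
    have := congrArg CommRingCat.Hom.hom this
    simpa using this
  obtain ⟨ψ, hψ1, hψ2⟩ := exists_ringHom_lift_of_smooth h.appTop.hom hsm α.appTop.hom hsurj hnil
    q.appTop.hom r.appTop.hom hcomm
  have e1 : h.appTop ≫ CommRingCat.ofHom ψ = q.appTop := by
    ext x
    exact congrArg (fun k => k x) hψ1
  have e2 : CommRingCat.ofHom ψ ≫ α.appTop = r.appTop := by
    ext x
    exact congrArg (fun k => k x) hψ2
  refine ⟨A.isoSpec.hom ≫ Spec.map (CommRingCat.ofHom ψ) ≫ U.isoSpec.inv, ?_, ?_⟩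
  · rw [Category.assoc, Category.assoc, ← Scheme.isoSpec_inv_naturality h, ← Spec.map_comp_assoc,
      e1, Scheme.isoSpec_hom_naturality_assoc, Iso.hom_inv_id, Category.comp_id]
  · rw [← Scheme.isoSpec_hom_naturality_assoc, ← Spec.map_comp_assoc, e2,
      Scheme.isoSpec_hom_naturality_assoc, Iso.hom_inv_id, Category.comp_id]

/-- Smooth morphisms of schemes lift Zariski locally along arbitrary thickenings. -/
theorem exists_local_lift_of_smooth {U V Z Z₀ : Scheme.{u}} (h : U ⟶ V) [Smooth h]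
    (α : Z₀ ⟶ Z) [IsClosedImmersion α] [Surjective α] (r : Z₀ ⟶ U) (q : Z ⟶ V)
    (comm : r ≫ h = α ≫ q) (z₁ : Z) :
    ∃ (A : Z.Opens) (ℓ : A.toScheme ⟶ U), z₁ ∈ A ∧ ℓ ≫ h = A.ι ≫ q ∧
      (α ∣_ A) ≫ ℓ = (α ⁻¹ᵁ A).ι ≫ r := by
  obtain ⟨z₀, rfl⟩ := α.surjective z₁
  have hpt : h (r z₀) = q (α z₀) := by
    have := congrArg (fun k : Z₀ ⟶ V => k z₀) comm
    simpa using this
  obtain ⟨_, ⟨V₀, hV₀, rfl⟩, hxV₀, -⟩ := V.isBasis_affineOpens.exists_subset_of_mem_open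
    (Set.mem_univ (q (α z₀))) isOpen_univ
  obtain ⟨_, ⟨U₀, hU₀, rfl⟩, hxU₀, hUV⟩ := U.isBasis_affineOpens.exists_subset_of_mem_open
    (show r z₀ ∈ (h ⁻¹ᵁ V₀ : U.Opens) by
      change h (r z₀) ∈ V₀
      rw [hpt]; exact hxV₀) (h ⁻¹ᵁ V₀).2
  have hαH : IsHomeomorph α :=
    isHomeomorph_iff_isEmbedding_surjective.2 ⟨α.isClosedEmbedding.isEmbedding, α.surjective⟩
  let O₂ : Z.Opens := ⟨α '' (r ⁻¹ᵁ U₀ : Z₀.Opens), hαH.isOpenMap _ (r ⁻¹ᵁ U₀).2⟩
  obtain ⟨_, ⟨A, hA, rfl⟩, hxA, hAO⟩ := Z.isBasis_affineOpens.exists_subset_of_mem_open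
    (show α z₀ ∈ (q ⁻¹ᵁ V₀ ⊓ O₂ : Z.Opens) from ⟨hxV₀, ⟨z₀, hxU₀, rfl⟩⟩) (q ⁻¹ᵁ V₀ ⊓ O₂).2
  have e_h : U₀ ≤ h ⁻¹ᵁ V₀ := hUV
  have e_q : A ≤ q ⁻¹ᵁ V₀ := fun z hz => (hAO hz).1
  have e_r : α ⁻¹ᵁ A ≤ r ⁻¹ᵁ U₀ := by
    intro y hy
    obtain ⟨y', hy', hyy⟩ := (hAO (show α y ∈ A from hy)).2
    have : y' = y := hαH.injective hyy
    rw [← this]; exact hy'
  haveI : IsAffine ↑U₀ := hU₀
  haveI : IsAffine ↑V₀ := hV₀
  haveI : IsAffine ↑A := hA
  haveI : Smooth (h.resLE V₀ U₀ e_h) := IsZariskiLocalAtSource.resLE (P := @Smooth) e_h ‹_›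
  haveI : IsClosedImmersion (α ∣_ A) :=
    IsZariskiLocalAtTarget.restrict (P := @IsClosedImmersion) ‹_› A
  haveI : Surjective (α ∣_ A) := IsZariskiLocalAtTarget.restrict (P := @Surjective) ‹_› A
  have comm' : r.resLE U₀ (α ⁻¹ᵁ A) e_r ≫ h.resLE V₀ U₀ e_h = (α ∣_ A) ≫ q.resLE V₀ A e_q := by
    rw [← cancel_mono (Scheme.Opens.ι V₀), Category.assoc, Category.assoc, Scheme.Hom.resLE_comp_ι,
      Scheme.Hom.resLE_comp_ι_assoc, Scheme.Hom.resLE_comp_ι, morphismRestrict_ι_assoc, comm]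
  obtain ⟨ℓ', h1, h2⟩ := exists_lift_of_smooth_of_isAffine (h.resLE V₀ U₀ e_h) (α ∣_ A)
    (r.resLE U₀ (α ⁻¹ᵁ A) e_r) (q.resLE V₀ A e_q) comm'
  refine ⟨A, ℓ' ≫ Scheme.Opens.ι U₀, hxA, ?_, ?_⟩
  · rw [Category.assoc, ← Scheme.Hom.resLE_comp_ι h e_h, ← Category.assoc, h1,
      Scheme.Hom.resLE_comp_ι]
  · rw [← Category.assoc, h2, Scheme.Hom.resLE_comp_ι]

end Groth.Agent.Lib.Helper18.SmLift
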