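import Mathlib
import Groth.Prelude.Def_AlgSpInf
import Groth.Agent.Lib.Helper18.FlU
import Groth.Agent.Lib.Helper10.EtThick4
import Groth.Agent.Lib.Helper14.AlgSpDecent3
import Groth.Agent.Lib.Helper14.AlgSpLocP
import Groth.Agent.Lib.Helper14.AlgSpBasic2
import Groth.Agent.Lib.Helper14.AlgSpFibre
import Groth.Agent.Lib.Helper14.AlgSpPoints

/-!
# Smooth morphisms of algebraic spaces lift etale locally along thickenings (helper18)
-/

set_option autoImplicit false
universe u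
open CategoryTheory CategoryTheory.Limits AlgebraicGeometry Opposite AlgSp Topology
open Groth.Agent.Lib.Helper14.AS

namespace Groth.Agent.Lib.Helper18.SmLift

variable {S : Scheme.{u}}

set_option backward.isDefEq.respectTransparency.types false in
theorem smooth_lift_etale_locally {X Y T T' : Sp S} (hX : IsAlgSpace X) (hY : IsAlgSpace Y)
    (hT' : IsAlgSpace T') (f : X ⟶ Y) (hf : LocP @Smooth f) (i : T ⟶ T') (hi : IsThickMor i)
    (a : T ⟶ X) (b : T' ⟶ Y) (w : a ≫ f = i ≫ b) (t' : Points T') :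
    ∃ (V : Over S) (e : (yon S).obj V ⟶ T') (ℓ : (yon S).obj V ⟶ X),
      RepWith @Etale e ∧ t' ∈ Set.range (Points.ofPt e) ∧ ℓ ≫ f = e ≫ b ∧
      ∀ (P : Sp S) (p₁ : P ⟶ T) (p₂ : P ⟶ (yon S).obj V),
        IsPullback p₁ p₂ i e → p₂ ≫ ℓ = p₁ ≫ a := by
  -- atlas of `Y` and a chart for `b`
  obtain ⟨V₀, c, hce, hcs⟩ := hY.atlas
  obtain ⟨W', e', k, he'e, he's, commb⟩ := exists_chart_diagram hT' b c hce hcs
  -- the fibre product `X ×_Y V₀` and its atlas
  have sqP := IsPullback.of_hasPullback f c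
  have hP : IsAlgSpace (pullback f c) :=
    isAlgSpace_of_isPullback (repDiag_of_isAlgSpace hY) hX (IsAlgSpace.yon_obj V₀) sqP
  obtain ⟨U₀, p, hpe, hps⟩ := hP.atlas
  have hfst : RepWith @Etale (pullback.fst f c) := repWith_of_isPullback _ sqP.flip hce
  have ha₀e : RepWith @Etale (p ≫ pullback.fst f c) := repWith_comp _ hpe hfst
  obtain ⟨h₀, hh₀⟩ := (yon S).map_surjective (p ≫ pullback.snd f c)
  have comm₀ : (p ≫ pullback.fst f c) ≫ f = (yon S).map h₀ ≫ c := by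
    rw [hh₀, Category.assoc, Category.assoc, pullback.condition]
  have hsm : Smooth h₀.left := hf _ c h₀ ha₀e hce comm₀
  -- the point
  obtain ⟨w', hw'⟩ := ofPt_surjective_of_repWith he's t'
  -- `W = T ×_{T'} W'`
  have sqW := hi.rep.isPullback e'
  have hiW : thick (hi.rep.snd e').left := hi.property_snd e'
  obtain ⟨W, hWdef⟩ : ∃ W : Over S, W = hi.rep.pullback e' := ⟨_, rfl⟩
  obtain ⟨iW, hiWdef⟩ : ∃ iW : hi.rep.pullback e' ⟶ W', iW = hi.rep.snd e' := ⟨_, rfl⟩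
  obtain ⟨aW, haWdef⟩ : ∃ aW : (yon S).obj (hi.rep.pullback e') ⟶ T, aW = hi.rep.fst e' :=
    ⟨_, rfl⟩
  rw [← hiWdef, ← haWdef] at sqW
  rw [← hiWdef] at hiW
  -- the map `W ⟶ X ×_Y V₀`
  have cW : (aW ≫ a) ≫ f = ((yon S).map iW ≫ (yon S).map k) ≫ c := by
    rw [Category.assoc, w, ← Category.assoc, sqW.w, Category.assoc, commb, Category.assoc]
  obtain ⟨m, hm1, hm2⟩ : ∃ m : (yon S).obj (hi.rep.pullback e') ⟶ pullback f c,
      m ≫ pullback.fst f c = aW ≫ a ∧ m ≫ pullback.snd f c = (yon S).map iW ≫ (yon S).map k :=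
    ⟨pullback.lift _ _ cW, pullback.lift_fst _ _ _, pullback.lift_snd _ _ _⟩
  -- `W₁ = W ×_P U₀`
  have sq₁ := hpe.rep.isPullback m
  have hy_et : Etale (hpe.rep.snd m).left := hpe.property_snd m
  have hy_surj : Surjective (hpe.rep.snd m).left := hps.property _ _ _ sq₁
  obtain ⟨y, hydef⟩ : ∃ y : hpe.rep.pullback m ⟶ hi.rep.pullback e', y = hpe.rep.snd m :=
    ⟨_, rfl⟩
  obtain ⟨r₀, hr₀⟩ := (yon S).map_surjective (hpe.rep.fst m)
  rw [← hydef, ← hr₀] at sq₁
  rw [← hydef] at hy_et hy_surj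
  -- lift the etale `W₁ ⟶ W` along the thickening `W ⟶ W'`
  haveI : IsClosedImmersion iW.left := hiW.1
  haveI : Surjective iW.left := hiW.2
  haveI := hy_et
  obtain ⟨Z, z, α, hz, sqZ⟩ := Groth.Agent.Lib.Helper10.EtThick.exists_lift iW.left y.left
  haveI : IsClosedImmersion α :=
    MorphismProperty.of_isPullback (P := @IsClosedImmersion) sqZ.flip hiW.1
  haveI : Surjective α := MorphismProperty.of_isPullback (P := @Surjective) sqZ.flip hiW.2
  -- `Z` over `S`
  obtain ⟨Zo, zo, hZo, hzo⟩ : ∃ (Zo : Over S) (zo : Zo ⟶ W'), Zo.left = Z ∧ HEq zo.left z :=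
    ⟨Over.mk (z ≫ W'.hom), Over.homMk z rfl, rfl, HEq.rfl⟩
  subst hZo
  obtain rfl : zo.left = z := eq_of_heq hzo
  have hαo : α ≫ Zo.hom = (hpe.rep.pullback m).hom := by
    rw [← Over.w zo, ← Category.assoc, sqZ.w, Category.assoc, Over.w, Over.w]
  obtain ⟨αo, hαodef⟩ : ∃ αo : hpe.rep.pullback m ⟶ Zo, αo.left = α :=
    ⟨Over.homMk α hαo, rfl⟩
  subst hαodef
  have hαz : αo ≫ zo = y ≫ iW := by
    apply Over.OverMorphism.ext
    rw [Over.comp_left, Over.comp_left]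
    exact sqZ.w
  -- commutation in `Over S`
  have hcommO : r₀ ≫ h₀ = αo ≫ zo ≫ k := by
    apply (yon S).map_injective
    rw [Functor.map_comp, hh₀, ← Category.assoc, sq₁.w, Category.assoc, hm2, ← Category.assoc αo,
      hαz, Functor.map_comp, Functor.map_comp, Category.assoc]
  have hcommS : r₀.left ≫ h₀.left = αo.left ≫ (zo.left ≫ k.left) := by
    have := congrArg (fun φ => φ.left) hcommO
    simpa only [Over.comp_left] using this
  -- the point of `Z`
  obtain ⟨w₀, hw₀⟩ := iW.left.surjective w'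
  obtain ⟨w₁, hw₁⟩ := y.left.surjective w₀
  have hz₁ : zo.left (αo.left w₁) = w' := by
    have := congrArg (fun φ : (hpe.rep.pullback m).left ⟶ W'.left => φ w₁) sqZ.w
    simp only [Scheme.Hom.comp_apply] at this
    rw [this, hw₁, hw₀]
  -- the local lift
  haveI := hsm
  obtain ⟨A, ℓs, hzA, hℓ1, hℓ2⟩ :=
    exists_local_lift_of_smooth h₀.left αo.left r₀.left (zo.left ≫ k.left) hcommS (αo.left w₁)
  have hℓo : ℓs ≫ U₀.hom = (openSub Zo A).hom := by
    change ℓs ≫ U₀.hom = A.ι ≫ Zo.hom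
    rw [← Over.w h₀, ← Category.assoc, hℓ1, Category.assoc, Category.assoc, Over.w, Over.w]
  obtain ⟨ℓo, hℓodef⟩ : ∃ ℓo : openSub Zo A ⟶ U₀, ℓo.left = ℓs := ⟨Over.homMk ℓs hℓo, rfl⟩
  have hℓh : ℓo ≫ h₀ = openSubι Zo A ≫ zo ≫ k := by
    apply Over.OverMorphism.ext
    rw [Over.comp_left, Over.comp_left, Over.comp_left, hℓodef]
    exact hℓ1
  refine ⟨openSub Zo A, ((yon S).map (openSubι Zo A) ≫ (yon S).map zo) ≫ e',
    (yon S).map ℓo ≫ p ≫ pullback.fst f c, ?_, ?_, ?_, ?_⟩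
  · refine repWith_comp _ (repWith_comp _ (repWith_etale_openSubι Zo A) ?_) he'e
    exact (repWith_yon_map_iff _ _).2 hz
  · refine ⟨⟨αo.left w₁, hzA⟩, ?_⟩
    rw [Category.assoc, ofPt_yon_map_comp, ofPt_yon_map_comp, ← hw']
    congr 1
  · rw [Category.assoc, comm₀, ← Category.assoc, ← Functor.map_comp, hℓh, Category.assoc,
      Category.assoc, commb, Functor.map_comp, Functor.map_comp, Category.assoc, Category.assoc]
  · intro P p₁ p₂ hsq
    -- the canonical pullback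
    obtain ⟨res, ι₀, sqA0, hresleft, hι₀⟩ : ∃ (res : openSub (hpe.rep.pullback m) (αo.left ⁻¹ᵁ A) ⟶
        openSub Zo A) (ι₀ : openSub (hpe.rep.pullback m) (αo.left ⁻¹ᵁ A) ⟶ hpe.rep.pullback m),
        IsPullback res ι₀ (openSubι Zo A) αo ∧ res.left = αo.left ∣_ A ∧
          ι₀.left = (αo.left ⁻¹ᵁ A).ι :=
      ⟨_, _, isPullback_openSub αo A, rfl, rfl⟩
    have sqA := sqA0.map (yon S)
    have sqZo : IsPullback αo y zo iW := by
      apply IsPullback.of_map (Over.forget S) hαz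
      exact sqZ
    have sqZy := sqZo.map (yon S)
    have big := (sqA.flip.paste_horiz sqZy.flip).paste_horiz sqW
    obtain ⟨φ, hφ1, hφ2⟩ : ∃ φ : P ⟶ _, φ ≫ _ = p₁ ∧ φ ≫ _ = p₂ :=
      ⟨big.lift p₁ p₂ hsq.w, big.lift_fst _ _ _, big.lift_snd _ _ _⟩
    rw [← hφ1, ← hφ2, Category.assoc, Category.assoc]
    congr 1
    have hres : res ≫ ℓo = ι₀ ≫ r₀ := by
      apply Over.OverMorphism.ext
      rw [Over.comp_left, Over.comp_left, hℓodef, hresleft, hι₀]
      exact hℓ2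
    calc (yon S).map res ≫ (yon S).map ℓo ≫ p ≫ pullback.fst f c
        = (yon S).map (res ≫ ℓo) ≫ p ≫ pullback.fst f c := by
          rw [Functor.map_comp, Category.assoc]
      _ = (yon S).map ι₀ ≫ ((yon S).map r₀ ≫ p) ≫ pullback.fst f c := by
          rw [hres, Functor.map_comp, Category.assoc, Category.assoc]
      _ = (yon S).map ι₀ ≫ ((yon S).map y ≫ m) ≫ pullback.fst f c := by rw [sq₁.w]
      _ = _ := by
          rw [Category.assoc, hm1]
          simp only [Category.assoc]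

end Groth.Agent.Lib.Helper18.SmLift
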