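import Mathlib
import Groth.Agent.Lib.Helper18.FlM

/-!
# Finite type ℤ-models of finitely presented modules (no flatness), with injective structure map
-/

set_option autoImplicit false
set_option linter.unusedSectionVars false

namespace Groth.Agent.Lib.Helper18.Fl

open TensorProduct Function MvPolynomial

universe u

/-- Assembly of the model at a given finitely generated level. -/
theorem exists_model_of_level_noflat_inj (R : Type u) [CommRing R]
    (S : Type u) [CommRing S] [Algebra R S] (M : Type u)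
    [AddCommGroup M] [Module S M] [Module R M] [IsScalarTower R S M]
    (n k : ℕ) (P : Algebra.Presentation R S (Fin n) (Fin k))
    (r m : ℕ) (g : Fin m → Fin r → MvPolynomial (Fin n) R) (ε : Fin r → M)
    (c : Fin k → Fin r → Fin m → MvPolynomial (Fin n) R)
    (hε : Submodule.span S (Set.range ε) = ⊤)
    (hrel : ∀ w : Fin r → MvPolynomial (Fin n) R,
      ∑ j, (aeval P.val (w j)) • ε j = 0 ↔ w ∈ Kspan g)
    (hc : ∀ l j, P.relation l • (Pi.single j 1 : Fin r → MvPolynomial (Fin n) R) =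
        ∑ i, c l j i • g i)
    (S₂ : Subalgebra ℤ R) (hS₂ : S₂.FG) (hP : P.coeffs ⊆ S₂)
    (g₂ : Fin m → Fin r → MvPolynomial (Fin n) S₂) (hg₂ : ∀ i, mapVec (inc S₂) (g₂ i) = g i)
    (c₂ : Fin k → Fin r → Fin m → MvPolynomial (Fin n) S₂)
    (hc₂ : ∀ l j i, MvPolynomial.map (inc S₂) (c₂ l j i) = c l j i) :
    ∃ (R₀ : Type u) (_ : CommRing R₀) (_ : Algebra R₀ R) (S₀ : Type u) (_ : CommRing S₀)
      (_ : Algebra R₀ S₀) (_ : Algebra S₀ S) (_ : Algebra R₀ S) (_ : IsScalarTower R₀ R S)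
      (_ : IsScalarTower R₀ S₀ S) (M₀ : Type u) (_ : AddCommGroup M₀) (_ : Module S₀ M₀)
      (_ : Module R₀ M₀) (_ : IsScalarTower R₀ S₀ M₀) (_ : Module S₀ M) (_ : IsScalarTower S₀ S M)
      (f : M₀ →ₗ[S₀] M),
      Function.Injective (algebraMap R₀ R) ∧
      Algebra.FiniteType ℤ R₀ ∧ Algebra.FiniteType R₀ S₀ ∧ Module.Finite S₀ M₀ ∧
        Algebra.IsPushout R₀ R S₀ S ∧ IsBaseChange S f := by
  classical
  haveI hcoef : P.HasCoeffs ↥S₂ := ⟨fun x hx => ⟨⟨x, hP hx⟩, rfl⟩⟩
  have hh : ∀ l, MvPolynomial.map (inc S₂) (P.relationOfHasCoeffs ↥S₂ l) = P.relation l :=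
    fun l => P.map_relationOfHasCoeffs ↥S₂ l
  have hrel₂ : ∀ l j, P.relationOfHasCoeffs ↥S₂ l •
      (Pi.single j 1 : Fin r → MvPolynomial (Fin n) S₂) = ∑ i, c₂ l j i • g₂ i := by
    intro l j
    apply mapVec_injective (inc S₂) (inc_injective S₂)
    rw [mapVec_smul, hh, mapVec_single, map_one, hc, mapVec_sum]
    refine Finset.sum_congr rfl fun i _ => ?_
    rw [mapVec_smul, hc₂, hg₂]
  have htors : Module.IsTorsionBySet (MvPolynomial (Fin n) S₂)
      ((Fin r → MvPolynomial (Fin n) S₂) ⧸ Kspan g₂)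
      (Ideal.span (Set.range (P.relationOfHasCoeffs ↥S₂)) : Set (MvPolynomial (Fin n) S₂)) := by
    rw [← Module.isTorsionBySet_iff_is_torsion_by_span]
    rintro x ⟨_, l, rfl⟩
    obtain ⟨v, rfl⟩ := Submodule.Quotient.mk_surjective _ x
    change P.relationOfHasCoeffs ↥S₂ l • Submodule.Quotient.mk v = 0
    rw [← Submodule.Quotient.mk_smul, Submodule.Quotient.mk_eq_zero, vec_eq_sum_single v,
      Finset.smul_sum]
    refine Submodule.sum_mem _ fun j _ => ?_
    rw [smul_comm, hrel₂]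
    exact Submodule.smul_mem _ _ (Submodule.sum_mem _ fun i _ => Submodule.smul_mem _ _
      (Submodule.subset_span ⟨i, rfl⟩))
  letI modS₀M₀ : Module (P.ModelOfHasCoeffs ↥S₂) ((Fin r → MvPolynomial (Fin n) S₂) ⧸ Kspan g₂) :=
    htors.module
  obtain ⟨φ, hφ⟩ : ∃ φ : P.ModelOfHasCoeffs ↥S₂ →ₐ[↥S₂] S,
      ∀ y : MvPolynomial (Fin n) S₂, φ (Ideal.Quotient.mk _ y) = aeval P.val y :=
    ⟨Ideal.Quotient.liftₐ _ (aeval P.val) (by
      simp_rw [← RingHom.mem_ker, ← SetLike.le_def, Ideal.span_le]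
      rintro a ⟨i, rfl⟩
      simp), fun y => rfl⟩
  letI algS₀S : Algebra (P.ModelOfHasCoeffs ↥S₂) S := φ.toRingHom.toAlgebra
  letI modS₀M : Module (P.ModelOfHasCoeffs ↥S₂) M :=
    Module.compHom M (algebraMap (P.ModelOfHasCoeffs ↥S₂) S)
  haveI tw2 : IsScalarTower (P.ModelOfHasCoeffs ↥S₂) S M :=
    IsScalarTower.of_algebraMap_smul (fun _ _ => rfl)
  letI modP₂M : Module (MvPolynomial (Fin n) S₂) M :=
    Module.compHom M ((algebraMap (P.ModelOfHasCoeffs ↥S₂) S).comp
      (algebraMap (MvPolynomial (Fin n) S₂) (P.ModelOfHasCoeffs ↥S₂)))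
  haveI tw3 : IsScalarTower (MvPolynomial (Fin n) S₂) (P.ModelOfHasCoeffs ↥S₂) M := by
    refine ⟨fun a b y => ?_⟩
    obtain ⟨b', rfl⟩ := Ideal.Quotient.mk_surjective b
    change algebraMap (P.ModelOfHasCoeffs ↥S₂) S (Ideal.Quotient.mk _ (a * b')) • y =
      algebraMap (P.ModelOfHasCoeffs ↥S₂) S (Ideal.Quotient.mk _ a) •
        (algebraMap (P.ModelOfHasCoeffs ↥S₂) S (Ideal.Quotient.mk _ b') • y)
    rw [map_mul, map_mul, mul_smul]
  have hact : ∀ (p : MvPolynomial (Fin n) S₂) (y : M),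
      p • y = (aeval P.val (MvPolynomial.map (inc S₂) p)) • y := by
    intro p y
    have h1 : p • y = φ (Ideal.Quotient.mk _ p) • y := rfl
    rw [h1, hφ, inc_eq_algebraMap, MvPolynomial.aeval_map_algebraMap]
  obtain ⟨φ₁, hφ₁def⟩ : ∃ φ₁ : (Fin r → MvPolynomial (Fin n) S₂) →ₗ[MvPolynomial (Fin n) S₂] M,
      φ₁ = Fintype.linearCombination (MvPolynomial (Fin n) S₂) ε := ⟨_, rfl⟩
  have hφ₁ : ∀ v, φ₁ v = ∑ j, (aeval P.val (MvPolynomial.map (inc S₂) (v j))) • ε j := by
    intro v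
    rw [hφ₁def, Fintype.linearCombination_apply]
    exact Finset.sum_congr rfl fun j _ => hact _ _
  have hK₂ : Kspan g₂ ≤ LinearMap.ker φ₁ := by
    rw [Submodule.span_le]
    rintro _ ⟨i, rfl⟩
    rw [SetLike.mem_coe, LinearMap.mem_ker, hφ₁]
    have := (hrel (g i)).mpr (Submodule.subset_span ⟨i, rfl⟩)
    rw [← this]
    refine Finset.sum_congr rfl fun j _ => ?_
    rw [← hg₂ i, mapVec_apply]
  obtain ⟨f, hfdef⟩ : ∃ f : ((Fin r → MvPolynomial (Fin n) S₂) ⧸ Kspan g₂) →ₗ[P.ModelOfHasCoeffs ↥S₂] M,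
      f = ((Kspan g₂).liftQ φ₁ hK₂).extendScalarsOfSurjective Ideal.Quotient.mk_surjective :=
    ⟨_, rfl⟩
  have hf : ∀ v, f (Submodule.Quotient.mk v) = φ₁ v := by
    intro v
    rw [hfdef]
    rfl
  refine ⟨↥S₂, inferInstance, inferInstance, P.ModelOfHasCoeffs ↥S₂, inferInstance, inferInstance,
    algS₀S, inferInstance, ?_, ?_, (Fin r → MvPolynomial (Fin n) S₂) ⧸ Kspan g₂, inferInstance,
    modS₀M₀, inferInstance, ?_, modS₀M, tw2, f, ?_⟩
  · infer_instance
  · exact IsScalarTower.of_algebraMap_eq (fun x => (φ.commutes x).symm)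
  · infer_instance
  · have hfx : ∀ j, f (Submodule.Quotient.mk (Pi.single j 1)) = ε j := by
      intro j
      rw [hf, hφ₁def, Fintype.linearCombination_apply_single, one_smul]
    refine ⟨Subtype.val_injective, (Subalgebra.fg_iff_finiteType S₂).mp hS₂, inferInstance, ?_, ?_, ?_⟩
    · exact Module.Finite.of_restrictScalars_finite (MvPolynomial (Fin n) S₂) _ _
    · constructor
      refine IsBaseChange.of_equiv ((P.tensorModelOfHasCoeffsEquiv ↥S₂).toLinearEquiv)
        (fun x => ?_)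
      obtain ⟨y, rfl⟩ := Ideal.Quotient.mk_surjective x
      change P.tensorModelOfHasCoeffsEquiv ↥S₂ (1 ⊗ₜ y) = φ (Ideal.Quotient.mk _ y)
      rw [Algebra.Presentation.tensorModelOfHasCoeffsEquiv_tmul, map_one, one_mul, hφ]
    · refine isBaseChange_of_generators_relations f
        (fun j => Submodule.Quotient.mk (Pi.single j 1)) ?_ ?_ ?_
      · rw [eq_top_iff]
        intro y _
        obtain ⟨v, rfl⟩ := Submodule.Quotient.mk_surjective _ y
        have : (Submodule.Quotient.mk v : (Fin r → MvPolynomial (Fin n) S₂) ⧸ Kspan g₂) =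
            ∑ j, (Ideal.Quotient.mk _ (v j) : P.ModelOfHasCoeffs ↥S₂) •
              (Submodule.Quotient.mk (Pi.single j 1) :
                (Fin r → MvPolynomial (Fin n) S₂) ⧸ Kspan g₂) := by
          conv_lhs => rw [vec_eq_sum_single v]
          rw [← Submodule.mkQ_apply, map_sum]
          refine Finset.sum_congr rfl fun j _ => ?_
          rw [map_smul]
          rfl
        rw [this]
        exact Submodule.sum_mem _ fun j _ => Submodule.smul_mem _ _
          (Submodule.subset_span ⟨j, rfl⟩)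
      · simp_rw [hfx]
        exact hε
      · intro w hw
        simp_rw [hfx] at hw
        choose ŵ hŵ using fun j => P.aeval_val_surjective (w j)
        have hŵK : ŵ ∈ Kspan g := by
          rw [← hrel]
          simp_rw [hŵ]
          exact hw
        obtain ⟨b, hb⟩ := (Submodule.mem_span_range_iff_exists_fun _).mp hŵK
        have hwexp : w = ∑ i, (aeval P.val (b i)) • (fun j => aeval P.val (g i j)) := by
          funext j
          rw [← hŵ j, ← hb]
          simp [Finset.sum_apply]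
        rw [hwexp]
        refine Submodule.sum_mem _ fun i _ => Submodule.smul_mem _ _ (Submodule.subset_span ?_)
        refine ⟨fun j => Ideal.Quotient.mk _ (g₂ i j), ?_, ?_⟩
        · have : ∑ j, (Ideal.Quotient.mk _ (g₂ i j) : P.ModelOfHasCoeffs ↥S₂) •
              (Submodule.Quotient.mk (Pi.single j 1) :
                (Fin r → MvPolynomial (Fin n) S₂) ⧸ Kspan g₂) =
              Submodule.Quotient.mk (g₂ i) := by
            conv_rhs => rw [vec_eq_sum_single (g₂ i)]
            rw [← Submodule.mkQ_apply, map_sum]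
            refine Finset.sum_congr rfl fun j _ => ?_
            rw [map_smul]
            rfl
          rw [this, Submodule.Quotient.mk_eq_zero]
          exact Submodule.subset_span ⟨i, rfl⟩
        · funext j
          change aeval P.val (g i j) = φ (Ideal.Quotient.mk _ (g₂ i j))
          rw [hφ, ← hg₂ i, mapVec_apply, inc_eq_algebraMap, MvPolynomial.aeval_map_algebraMap]

/-- The model over a finitely generated subalgebra (no flatness). -/
theorem exists_finiteType_int_module_model_inj (R : Type u) [CommRing R]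
    (S : Type u) [CommRing S] [Algebra R S] [Algebra.FinitePresentation R S] (M : Type u)
    [AddCommGroup M] [Module S M] [Module R M] [IsScalarTower R S M]
    [Module.FinitePresentation S M] :
    ∃ (R₀ : Type u) (_ : CommRing R₀) (_ : Algebra R₀ R) (S₀ : Type u) (_ : CommRing S₀)
      (_ : Algebra R₀ S₀) (_ : Algebra S₀ S) (_ : Algebra R₀ S) (_ : IsScalarTower R₀ R S)
      (_ : IsScalarTower R₀ S₀ S) (M₀ : Type u) (_ : AddCommGroup M₀) (_ : Module S₀ M₀)
      (_ : Module R₀ M₀) (_ : IsScalarTower R₀ S₀ M₀) (_ : Module S₀ M) (_ : IsScalarTower S₀ S M)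
      (f : M₀ →ₗ[S₀] M),
      Function.Injective (algebraMap R₀ R) ∧
      Algebra.FiniteType ℤ R₀ ∧ Algebra.FiniteType R₀ S₀ ∧ Module.Finite S₀ M₀ ∧
        Algebra.IsPushout R₀ R S₀ S ∧ IsBaseChange S f := by
  classical
  obtain ⟨n, k, ⟨P⟩⟩ := Algebra.Presentation.exists_presentation_fin R S
  obtain ⟨r, m, g, ε, c, hε, hrel, hc, ⟨eR⟩⟩ := exists_presentation_data R S M n k P
  -- the initial subalgebra
  obtain ⟨T, hTdef⟩ : ∃ T : Set R, T = P.coeffs ∪ (⋃ i, ⋃ j, ((g i j).coeffs : Set R)) ∪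
      (⋃ l, ⋃ j, ⋃ i, ((c l j i).coeffs : Set R)) := ⟨_, rfl⟩
  have hT : T.Finite := by
    rw [hTdef]
    refine Set.Finite.union (Set.Finite.union P.finite_coeffs ?_) ?_
    · exact Set.finite_iUnion fun i => Set.finite_iUnion fun j => Finset.finite_toSet _
    · exact Set.finite_iUnion fun l => Set.finite_iUnion fun j => Set.finite_iUnion fun i =>
        Finset.finite_toSet _
  obtain ⟨S₀sub, hS₀def⟩ : ∃ S₀sub : Subalgebra ℤ R, S₀sub = Algebra.adjoin ℤ T := ⟨_, rfl⟩
  have hS₀ : S₀sub.FG := by rw [hS₀def]; exact Subalgebra.fg_def.2 ⟨T, hT, rfl⟩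
  have hTS : T ⊆ S₀sub := by rw [hS₀def]; exact Algebra.subset_adjoin
  have hgT : ∀ i j, ((g i j).coeffs : Set R) ⊆ S₀sub := fun i j x hx =>
    hTS (by rw [hTdef]; exact Or.inl (Or.inr (Set.mem_iUnion.mpr ⟨i, Set.mem_iUnion.mpr ⟨j, hx⟩⟩)))
  have hcT : ∀ l j i, ((c l j i).coeffs : Set R) ⊆ S₀sub := fun l j i x hx =>
    hTS (by rw [hTdef]; exact Or.inr (Set.mem_iUnion.mpr ⟨l, Set.mem_iUnion.mpr ⟨j,
      Set.mem_iUnion.mpr ⟨i, hx⟩⟩⟩))
  choose g₀ hg₀' using fun i j => exists_map_eq_of_coeffs_subset S₀sub (g i j) (hgT i j)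
  choose c₀ hc₀ using fun l j i => exists_map_eq_of_coeffs_subset S₀sub (c l j i) (hcT l j i)
  have hg₀ : ∀ i, mapVec (inc S₀sub) (g₀ i) = g i := fun i => funext fun j => hg₀' i j
  refine exists_model_of_level_noflat_inj R S M n k P r m g ε c hε hrel hc S₀sub hS₀ ?_
    g₀ hg₀ c₀ hc₀
  exact fun x hx => hTS (by rw [hTdef]; exact Or.inl (Or.inl hx))


end Groth.Agent.Lib.Helper18.Fl
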