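import Mathlib
import Groth.Prelude.Def_C1
import Groth.Agent.Lib.Helper18.LocStalk2
import Groth.Agent.Lib.Helper26.FracLength

/-!
# `ℓ(O_x/(f)) = Σ_ξ ℓ(O_ξ) · ord_{O_x/𝔭_ξ}(f)` over the immediate generizations of `x`
-/

set_option autoImplicit false
set_option linter.style.haveILetI false
universe u
open CategoryTheory AlgebraicGeometry TopologicalSpace
open scoped Pointwise

namespace Groth.Agent.Lib.Helper18.GenSum

open Groth.Agent.Lib.Helper18.LocStalk
open Groth.Agent.Lib.Helper12.MultFormula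

variable {X : Scheme.{u}}

theorem span_singleton_eq_smul_top {A : Type u} [CommRing A] (f : A) :
    (Ideal.span {f} : Submodule A A) = f • (⊤ : Submodule A A) := by
  ext z
  rw [Ideal.mem_span_singleton', Submodule.mem_smul_pointwise_iff_exists]
  constructor
  · rintro ⟨a, rfl⟩
    exact ⟨a, trivial, by rw [smul_eq_mul, mul_comm]⟩
  · rintro ⟨a, -, rfl⟩
    exact ⟨a, by rw [smul_eq_mul, mul_comm]⟩

open Classical in
/-- geometric form of the length formula in dimension one -/
theorem length_quot_eq_finsum_generizations (δ : X → ℤ) (hX : Cyc.IsSetup X δ) (x : X)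
    (hdim : ∀ ξ : X, ξ ⤳ x → δ ξ ≤ δ x + 1) (f : X.presheaf.stalk x)
    (hf : f ∈ nonZeroDivisors (X.presheaf.stalk x)) :
    ((Module.length (X.presheaf.stalk x) (X.presheaf.stalk x ⧸ Ideal.span {f})).toNat : ℤ) =
      ∑ᶠ ξ : X, if h : ξ ⤳ x ∧ δ x + 1 = δ ξ then
        ((Module.length (X.presheaf.stalk ξ) (X.presheaf.stalk ξ)).toNat : ℤ) *
          ((Ring.ord (Cyc.LocQuot x ξ h.1)
            (Ideal.Quotient.mk (RingHom.ker (Cyc.specMap x ξ h.1)) f)).toNat : ℤ)
      else 0 := by
  classical
  haveI : IsLocallyNoetherian X := hX.1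
  have hδ := hX.2.2
  have hinj : Function.Injective (X.fromSpecStalk x) := (X.fromSpecStalk x).isEmbedding.injective
  have hsp : ∀ q, X.fromSpecStalk x q ⤳ x := fromSpecStalk_specializes x
  have hδeq : ∀ ξ : X, ξ ⤳ x → δ ξ = δ x → ξ = x := by
    intro ξ h he
    by_contra hne
    have := (hδ ξ x h hne).1
    omega
  have hδge : ∀ ξ : X, ξ ⤳ x → δ x ≤ δ ξ := by
    intro ξ h
    by_cases hne : ξ = x
    · rw [hne]
    · exact (hδ ξ x h hne).1.le
  have hmono : ∀ q q' : PrimeSpectrum (X.presheaf.stalk x), q' ≤ q →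
      X.fromSpecStalk x q' ⤳ X.fromSpecStalk x q := by
    intro q q' hle
    exact ((PrimeSpectrum.le_iff_specializes q' q).mp hle).map (X.fromSpecStalk x).continuous
  have hclosed : X.fromSpecStalk x (IsLocalRing.closedPoint (X.presheaf.stalk x)) = x :=
    Scheme.fromSpecStalk_closedPoint
  have hmin : ∀ q : PrimeSpectrum (X.presheaf.stalk x), δ (X.fromSpecStalk x q) = δ x + 1 →
      q.asIdeal ∈ minimalPrimes (X.presheaf.stalk x) := by
    intro q hq
    refine ⟨⟨q.2, bot_le⟩, ?_⟩
    rintro p' ⟨hp', -⟩ hle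
    have h1 := hmono q ⟨p', hp'⟩ hle
    have h2 := hdim _ (hsp ⟨p', hp'⟩)
    have h3 : X.fromSpecStalk x ⟨p', hp'⟩ = X.fromSpecStalk x q := by
      by_contra hne
      have := (hδ _ _ h1 hne).1
      omega
    have := hinj h3
    rw [← this]
  haveI hK1 : Ring.KrullDimLE 1 (X.presheaf.stalk x) := by
    rw [Ring.krullDimLE_one_iff]
    intro I hI
    have h1 := hδge _ (hsp ⟨I, hI⟩)
    have h2 := hdim _ (hsp ⟨I, hI⟩)
    by_cases h3 : δ (X.fromSpecStalk x ⟨I, hI⟩) = δ x
    · right
      have h4 := hδeq _ (hsp ⟨I, hI⟩) h3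
      have h5 := hinj (h4.trans hclosed.symm)
      have h6 : I = IsLocalRing.maximalIdeal (X.presheaf.stalk x) := congrArg PrimeSpectrum.asIdeal h5
      rw [h6]
      infer_instance
    · left
      exact hmin ⟨I, hI⟩ (by omega)
  by_cases hK0 : Ring.KrullDimLE 0 (X.presheaf.stalk x)
  · -- zero-dimensional case: both sides vanish
    haveI : IsArtinianRing (X.presheaf.stalk x) := isArtinianRing_iff_krullDimLE_zero.mpr hK0
    have hu : IsUnit f := IsArtinianRing.isUnit_of_mem_nonZeroDivisors hf
    have htop : Ideal.span {f} = ⊤ := Ideal.span_singleton_eq_top.mpr hu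
    haveI : Subsingleton (X.presheaf.stalk x ⧸ Ideal.span {f}) := by
      rw [htop]; exact Ideal.Quotient.subsingleton_iff.mpr rfl
    rw [Module.length_eq_zero]
    symm
    apply finsum_eq_zero_of_forall_eq_zero
    intro ξ
    rw [dif_neg]
    rintro ⟨h, h1⟩
    haveI hq : (RingHom.ker (Cyc.specMap x ξ h)).IsPrime := RingHom.ker_isPrime _
    haveI := hK0
    haveI : (RingHom.ker (Cyc.specMap x ξ h)).IsMaximal := Ideal.isMaximal_of_isPrime _
    have h2 := IsLocalRing.eq_maximalIdeal ‹(RingHom.ker (Cyc.specMap x ξ h)).IsMaximal›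
    have h3 : (⟨RingHom.ker (Cyc.specMap x ξ h), hq⟩ : PrimeSpectrum (X.presheaf.stalk x)) =
        IsLocalRing.closedPoint (X.presheaf.stalk x) := PrimeSpectrum.ext h2
    have h4 := fromSpecStalk_ker_specMap x ξ h
    rw [h3, hclosed] at h4
    rw [← h4] at h1
    omega
  · -- one-dimensional case
    have hA : ringKrullDim (X.presheaf.stalk x) = 1 := by
      have h1 : ringKrullDim (X.presheaf.stalk x) ≤ 1 := Ring.krullDimLE_iff.mp hK1
      have h0 : ¬ ringKrullDim (X.presheaf.stalk x) ≤ 0 := fun h => hK0 (Ring.krullDimLE_iff.mpr h)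
      have hb : ringKrullDim (X.presheaf.stalk x) ≠ ⊥ := by
        intro hb
        rw [hb] at h0
        exact h0 bot_le
      obtain ⟨n, hn⟩ := WithBot.ne_bot_iff_exists.mp hb
      rw [← hn] at h1 h0 ⊢
      have h1' : n ≤ 1 := by exact_mod_cast h1
      have h0' : ¬ n ≤ 0 := fun h => h0 (by exact_mod_cast h)
      have : n = 1 := le_antisymm h1' (Order.one_le_iff_ne_zero.mpr (fun h => h0' h.le))
      rw [this]; rfl
    have hnotmax : ∀ q : PrimeSpectrum (X.presheaf.stalk x),
        q.asIdeal ∈ minimalPrimes (X.presheaf.stalk x) → δ (X.fromSpecStalk x q) = δ x + 1 := by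
      intro q hq
      have h1 := hδge _ (hsp q)
      have h2 := hdim _ (hsp q)
      by_contra hne
      have h3 : δ (X.fromSpecStalk x q) = δ x := by omega
      have h4 := hδeq _ (hsp q) h3
      have h5 := hinj (h4.trans hclosed.symm)
      apply hK0
      refine Ring.KrullDimLE.mk₀ (fun I hI => ?_)
      have hle : I ≤ IsLocalRing.maximalIdeal (X.presheaf.stalk x) := IsLocalRing.le_maximalIdeal hI.ne_top
      have hq' : (IsLocalRing.maximalIdeal (X.presheaf.stalk x)) ∈ minimalPrimes (X.presheaf.stalk x) := by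
        rw [h5] at hq; exact hq
      have := hq'.2 ⟨hI, bot_le⟩ hle
      have heq : I = IsLocalRing.maximalIdeal (X.presheaf.stalk x) := le_antisymm hle this
      rw [heq]; infer_instance
    have hsupp : Module.support (X.presheaf.stalk x) (X.presheaf.stalk x) = Set.univ := by
      rw [Module.support_of_algebra]
      have : RingHom.ker (algebraMap (X.presheaf.stalk x) (X.presheaf.stalk x)) = ⊥ :=
        (RingHom.injective_iff_ker_eq_bot _).mp (fun a b h => h)
      rw [this]
      exact PrimeSpectrum.zeroLocus_bot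
    have hfx := Groth.Agent.Lib.Helper26.FracLength.notMem_minimalPrimes_of_nzd hf
    have hreg : IsSMulRegular (X.presheaf.stalk x) f := by
      intro a b hab
      exact (mul_cancel_left_mem_nonZeroDivisors hf).mp hab
    have key := Groth.Agent.Lib.Helper26.FracLength.length_quot_eq_sum (M := X.presheaf.stalk x)
      hA hsupp hfx hreg
    have e0 := (Submodule.quotEquivOfEq _ _ (span_singleton_eq_smul_top f)).length_eq
    have key' : Module.length (X.presheaf.stalk x) (X.presheaf.stalk x ⧸ Ideal.span {f}) = _ :=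
      e0.trans key
    rw [key', ENat.toNat_natCast]
    push_cast
    -- now reindex the finsum
    set F : X → ℤ := fun ξ => if h : ξ ⤳ x ∧ δ x + 1 = δ ξ then
        ((Module.length (X.presheaf.stalk ξ) (X.presheaf.stalk ξ)).toNat : ℤ) *
          ((Ring.ord (Cyc.LocQuot x ξ h.1)
            (Ideal.Quotient.mk (RingHom.ker (Cyc.specMap x ξ h.1)) f)).toNat : ℤ)
      else 0 with hF
    have hsub : Function.support F ⊆
        ↑((minT (X.presheaf.stalk x)).image (X.fromSpecStalk x)) := by
      intro ξ hξ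
      rw [Function.mem_support] at hξ
      have hcond : ξ ⤳ x ∧ δ x + 1 = δ ξ := by
        by_contra hc
        exact hξ (dif_neg hc)
      rw [Finset.coe_image]
      refine ⟨⟨RingHom.ker (Cyc.specMap x ξ hcond.1), RingHom.ker_isPrime _⟩,
        Finset.mem_coe.mpr ((mem_minT (A := X.presheaf.stalk x) _).mpr ?_),
        fromSpecStalk_ker_specMap x ξ hcond.1⟩
      apply hmin
      rw [fromSpecStalk_ker_specMap x ξ hcond.1]
      omega
    rw [finsum_eq_finset_sum_of_support_subset F hsub, Finset.sum_image (fun a _ b _ hab => hinj hab)]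
    refine Finset.sum_congr rfl (fun q hq => ?_)
    rw [mem_minT] at hq
    have hδq := hnotmax q hq
    have hcond : X.fromSpecStalk x q ⤳ x ∧ δ x + 1 = δ (X.fromSpecStalk x q) := ⟨hsp q, hδq.symm⟩
    rw [hF]
    simp only
    rw [dif_pos hcond]
    generalize hξ : X.fromSpecStalk x q = ξ at hcond
    have hqe := eq_ker_specMap_of_fromSpecStalk_eq x ξ hcond.1 q hξ
    subst hqe
    rw [mul_comm, ← length_localizedModule_stalk x ξ hcond.1]

end Groth.Agent.Lib.Helper18.GenSum
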