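import Mathlib
import Groth.Prelude.Def_C1
import Groth.Agent.Lib.Helper18.GenSum

/-!
# Finiteness of the set of immediate generizations when `δ ≤ δ x + 1` near `x`
-/

set_option autoImplicit false
set_option linter.style.haveILetI false
universe u
open CategoryTheory AlgebraicGeometry TopologicalSpace

namespace Groth.Agent.Lib.Helper18.GenSum

open Groth.Agent.Lib.Helper18.LocStalk
open Groth.Agent.Lib.Helper12.MultFormula

variable {X : Scheme.{u}}

theorem finite_immediate_generizations (δ : X → ℤ) (hX : Cyc.IsSetup X δ) (x : X)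
    (hdim : ∀ ξ : X, ξ ⤳ x → δ ξ ≤ δ x + 1) :
    {ξ : X | ξ ⤳ x ∧ δ x + 1 = δ ξ}.Finite := by
  classical
  haveI : IsLocallyNoetherian X := hX.1
  have hδ := hX.2.2
  have hinj : Function.Injective (X.fromSpecStalk x) := (X.fromSpecStalk x).isEmbedding.injective
  have hsp : ∀ q, X.fromSpecStalk x q ⤳ x := fromSpecStalk_specializes x
  have hmono : ∀ q q' : PrimeSpectrum (X.presheaf.stalk x), q' ≤ q →
      X.fromSpecStalk x q' ⤳ X.fromSpecStalk x q := by
    intro q q' hle
    exact ((PrimeSpectrum.le_iff_specializes q' q).mp hle).map (X.fromSpecStalk x).continuous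
  have hmin : ∀ q : PrimeSpectrum (X.presheaf.stalk x), δ (X.fromSpecStalk x q) = δ x + 1 →
      q.asIdeal ∈ minimalPrimes (X.presheaf.stalk x) := by
    intro q hq
    refine ⟨⟨q.2, bot_le⟩, ?_⟩
    rintro p' ⟨hp', -⟩ hle
    have h1 := hmono q ⟨p', hp'⟩ hle
    have h2 := hdim _ (hsp ⟨p', hp'⟩)
    have h3 : X.fromSpecStalk x ⟨p', hp'⟩ = X.fromSpecStalk x q := by
      by_contra hne
      have := (hδ _ _ h1 hne).1
      omega
    have := hinj h3
    rw [← this]
  refine Set.Finite.subset
    (((minT (X.presheaf.stalk x)).image (X.fromSpecStalk x)).finite_toSet) ?_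
  intro ξ hcond
  rw [Finset.coe_image]
  refine ⟨⟨RingHom.ker (Cyc.specMap x ξ hcond.1), RingHom.ker_isPrime _⟩,
    Finset.mem_coe.mpr ((mem_minT (A := X.presheaf.stalk x) _).mpr ?_),
    fromSpecStalk_ker_specMap x ξ hcond.1⟩
  apply hmin
  rw [fromSpecStalk_ker_specMap x ξ hcond.1]
  exact hcond.2.symm

end Groth.Agent.Lib.Helper18.GenSum
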