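import Mathlib
import Groth.Prelude.Def_C1
import Groth.Agent.Lib.Helper18.GenSum2
import Groth.Agent.Lib.Helper18.DivPull3

/-!
# Flat pullback of orders of vanishing, summed over the components through a point
-/

set_option autoImplicit false
set_option linter.style.haveILetI false
universe u
open CategoryTheory AlgebraicGeometry TopologicalSpace

namespace Groth.Agent.Lib.Helper18.FlatPullSum

open Groth.Agent.Lib.Helper18.LocStalk Groth.Agent.Lib.Helper18.GenSum
  Groth.Agent.Lib.Helper18.DivPull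

open Classical in
theorem ordAt_mul_length_eq_finsum {X Y : Scheme.{u}} [IsIntegral Y] (δX : X → ℤ) (δY : Y → ℤ)
    (hX : Cyc.IsSetup X δX) (hY : Cyc.IsSetup Y δY) (f : X ⟶ Y) [Flat f] (x : X)
    (hsp : genericPoint Y ⤳ f x) (h2 : δY (f x) + 1 = δY (genericPoint Y))
    (hdim : ∀ ξ : X, ξ ⤳ x → δX ξ ≤ δX x + 1)
    (G : (ξ : X) → X.residueField ξ)
    (a b : Y.presheaf.stalk (f x)) (ha : a ≠ 0) (hb : b ≠ 0)
    (hG : ∀ (ξ : X) (h : ξ ⤳ x), δX x + 1 = δX ξ →
      G ξ = Cyc.specMap x ξ h ((f.stalkMap x).hom a) / Cyc.specMap x ξ h ((f.stalkMap x).hom b) ∧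
      Cyc.specMap x ξ h ((f.stalkMap x).hom a) ≠ 0 ∧
      Cyc.specMap x ξ h ((f.stalkMap x).hom b) ≠ 0) :
    Cyc.ordAt (f x) (genericPoint Y) hsp
        (Cyc.specMap (f x) (genericPoint Y) hsp a / Cyc.specMap (f x) (genericPoint Y) hsp b) *
      ((Module.length (X.presheaf.stalk x) (X.presheaf.stalk x ⧸ Ideal.map (f.stalkMap x).hom
          (IsLocalRing.maximalIdeal (Y.presheaf.stalk (f x))))).toNat : ℤ) =
    ∑ᶠ ξ : X, if h : ξ ⤳ x ∧ δX x + 1 = δX ξ then
      ((Module.length (X.presheaf.stalk ξ) (X.presheaf.stalk ξ)).toNat : ℤ) *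
        Cyc.ordAt x ξ h.1 (G ξ)
    else 0 := by
  classical
  haveI : IsLocallyNoetherian X := hX.1
  haveI : IsLocallyNoetherian Y := hY.1
  haveI : (RingHom.ker (Cyc.specMap (f x) (genericPoint Y) hsp)).IsPrime := RingHom.ker_isPrime _
  haveI : IsDomain (Cyc.LocQuot (f x) (genericPoint Y) hsp) := Ideal.Quotient.isDomain _
  haveI : Ring.KrullDimLE 1 (Cyc.LocQuot (f x) (genericPoint Y) hsp) :=
    krullDimLE_one_locQuot δY hY.2.2 (f x) (genericPoint Y) hsp h2
  haveI : IsFractionRing (Cyc.LocQuot (f x) (genericPoint Y) hsp)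
      (Y.residueField (genericPoint Y)) :=
    isFractionRing_locQuot_of_generic (f x) (genericPoint Y) hsp rfl
  have hbijA := mk_bijective_of_generic (f x) (genericPoint Y) hsp rfl
  have hdown : ∀ c : Y.presheaf.stalk (f x), c ≠ 0 →
      Ideal.Quotient.mk (RingHom.ker (Cyc.specMap (f x) (genericPoint Y) hsp)) c ≠ 0 := by
    intro c hc h0
    exact hc (hbijA.1 (h0.trans (map_zero _).symm))
  have hdown' : ∀ c : Y.presheaf.stalk (f x), c ≠ 0 →
      algebraMap (Cyc.LocQuot (f x) (genericPoint Y) hsp) (Y.residueField (genericPoint Y))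
        (Ideal.Quotient.mk (RingHom.ker (Cyc.specMap (f x) (genericPoint Y) hsp)) c) ≠ 0 := by
    intro c hc
    rw [Ne, FaithfulSMul.algebraMap_eq_zero_iff]
    exact hdown c hc
  have e1 : Cyc.ordAt (f x) (genericPoint Y) hsp
      (Cyc.specMap (f x) (genericPoint Y) hsp a / Cyc.specMap (f x) (genericPoint Y) hsp b) =
      ((Ring.ord (Y.presheaf.stalk (f x)) a).toNat : ℤ) -
        ((Ring.ord (Y.presheaf.stalk (f x)) b).toNat : ℤ) := by
    unfold Cyc.ordAt
    rw [← algebraMap_locQuot_mk, ← algebraMap_locQuot_mk,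
      Groth.Agent.Lib.Helper26.FracLength.ordFrac_div (hdown' a ha) (hdown' b hb),
      Groth.Agent.Lib.Helper26.OrdZ.ordFrac_algebraMap (hdown a ha),
      Groth.Agent.Lib.Helper26.OrdZ.ordFrac_algebraMap (hdown b hb),
      ord_eq_of_bijective _ hbijA, ord_eq_of_bijective _ hbijA]
  have hflat : (f.stalkMap x).hom.Flat := Flat.stalkMap f x
  have e2 : ∀ c : Y.presheaf.stalk (f x),
      ((Ring.ord (X.presheaf.stalk x) ((f.stalkMap x).hom c)).toNat : ℤ) =
      ((Ring.ord (Y.presheaf.stalk (f x)) c).toNat : ℤ) *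
        ((Module.length (X.presheaf.stalk x) (X.presheaf.stalk x ⧸ Ideal.map (f.stalkMap x).hom
          (IsLocalRing.maximalIdeal (Y.presheaf.stalk (f x))))).toNat : ℤ) := by
    intro c
    rw [ord_map_of_flat (f.stalkMap x).hom hflat c, ENat.toNat_mul]
    push_cast
    rfl
  have hnzd : ∀ c : Y.presheaf.stalk (f x), c ≠ 0 →
      (f.stalkMap x).hom c ∈ nonZeroDivisors (X.presheaf.stalk x) := by
    intro c hc
    letI := (f.stalkMap x).hom.toAlgebra
    haveI : Module.Flat (Y.presheaf.stalk (f x)) (X.presheaf.stalk x) := hflat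
    have hreg : IsSMulRegular (X.presheaf.stalk x) c :=
      Module.Flat.isSMulRegular_of_nonZeroDivisors (mem_nonZeroDivisors_of_ne_zero hc)
    rw [mem_nonZeroDivisors_iff_left]
    intro z hz
    apply hreg
    change c • z = c • 0
    rw [smul_zero, Algebra.smul_def]
    exact hz
  have e3 : ∀ c : Y.presheaf.stalk (f x), c ≠ 0 →
      ((Ring.ord (X.presheaf.stalk x) ((f.stalkMap x).hom c)).toNat : ℤ) =
      ∑ᶠ ξ : X, if h : ξ ⤳ x ∧ δX x + 1 = δX ξ then
        ((Module.length (X.presheaf.stalk ξ) (X.presheaf.stalk ξ)).toNat : ℤ) *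
          ((Ring.ord (Cyc.LocQuot x ξ h.1)
            (Ideal.Quotient.mk (RingHom.ker (Cyc.specMap x ξ h.1))
              ((f.stalkMap x).hom c))).toNat : ℤ)
      else 0 := fun c hc =>
    length_quot_eq_finsum_generizations δX hX x hdim ((f.stalkMap x).hom c) (hnzd c hc)
  have e4 : ∀ (ξ : X) (h : ξ ⤳ x ∧ δX x + 1 = δX ξ), Cyc.ordAt x ξ h.1 (G ξ) =
      ((Ring.ord (Cyc.LocQuot x ξ h.1)
            (Ideal.Quotient.mk (RingHom.ker (Cyc.specMap x ξ h.1))
              ((f.stalkMap x).hom a))).toNat : ℤ) -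
      ((Ring.ord (Cyc.LocQuot x ξ h.1)
            (Ideal.Quotient.mk (RingHom.ker (Cyc.specMap x ξ h.1))
              ((f.stalkMap x).hom b))).toNat : ℤ) := by
    intro ξ h
    obtain ⟨hG1, hG2, hG3⟩ := hG ξ h.1 h.2
    haveI : (RingHom.ker (Cyc.specMap x ξ h.1)).IsPrime := RingHom.ker_isPrime _
    haveI : IsDomain (Cyc.LocQuot x ξ h.1) := Ideal.Quotient.isDomain _
    haveI : Ring.KrullDimLE 1 (Cyc.LocQuot x ξ h.1) :=
      krullDimLE_one_locQuot δX hX.2.2 x ξ h.1 h.2
    haveI : IsFractionRing (Cyc.LocQuot x ξ h.1) (X.residueField ξ) :=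
      isFractionRing_locQuot x ξ h.1
    have hup : ∀ c : X.presheaf.stalk x, Cyc.specMap x ξ h.1 c ≠ 0 →
        Ideal.Quotient.mk (RingHom.ker (Cyc.specMap x ξ h.1)) c ≠ 0 := by
      intro c hc h0
      apply hc
      rw [← algebraMap_locQuot_mk, h0, map_zero]
    rw [hG1]
    unfold Cyc.ordAt
    rw [← algebraMap_locQuot_mk, ← algebraMap_locQuot_mk,
      Groth.Agent.Lib.Helper26.FracLength.ordFrac_div
        (by rw [algebraMap_locQuot_mk]; exact hG2) (by rw [algebraMap_locQuot_mk]; exact hG3),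
      Groth.Agent.Lib.Helper26.OrdZ.ordFrac_algebraMap (hup _ hG2),
      Groth.Agent.Lib.Helper26.OrdZ.ordFrac_algebraMap (hup _ hG3)]
  have hfin := finite_immediate_generizations δX hX x hdim
  have hsuppfin : ∀ T : (ξ : X) → (ξ ⤳ x ∧ δX x + 1 = δX ξ) → ℤ,
      (Function.support fun ξ : X => if h : ξ ⤳ x ∧ δX x + 1 = δX ξ then T ξ h else 0).Finite := by
    intro T
    refine hfin.subset (fun ξ hξ => ?_)
    by_contra hc
    exact hξ (dif_neg hc)
  rw [e1, sub_mul, ← e2 a, ← e2 b, e3 a ha, e3 b hb,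
    ← finsum_sub_distrib (hsuppfin _) (hsuppfin _)]
  apply finsum_congr
  intro ξ
  by_cases h : ξ ⤳ x ∧ δX x + 1 = δX ξ
  · rw [dif_pos h, dif_pos h, dif_pos h, e4 ξ h]
    ring
  · rw [dif_neg h, dif_neg h, dif_neg h, sub_zero]

end Groth.Agent.Lib.Helper18.FlatPullSum
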