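import Mathlib
import Groth.Prelude.Def_Bivar2
import Groth.Agent.Lib.Helper18.KF15
import Groth.Agent.Lib.Helper18.KF21
import Groth.Agent.Lib.Helper18.C1Indep2
import Groth.Agent.Lib.Helper18.C1Indep3
import Groth.Agent.Lib.Helper18.BV1
import Groth.Agent.Lib.Helper18.BV2
import Groth.Agent.Lib.Helper18.FF11

/-!
# The operation `c₁(M) ∩ -` on Chow groups
-/

set_option autoImplicit false
set_option linter.unusedSectionVars false
set_option linter.style.haveILetI false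
universe u
open AlgebraicGeometry CategoryTheory TopologicalSpace Limits

namespace Groth.Agent.Lib.Helper18.OC1

variable {Y : Scheme.{u}} (δ : Y → ℤ) (hY : Cyc.IsSetup Y δ) {M : Y.Modules}
  (hM : PicF.IsInvertible M)

/-- a chosen nowhere zero family of rational sections -/
noncomputable def sec : (ξ : Y) → Cyc.secFibre M ξ :=
  (Groth.Agent.Lib.Helper18.BV1.exists_nonzero_sections hM).choose

theorem sec_ne_zero : ∀ ξ, sec hM ξ ≠ 0 :=
  (Groth.Agent.Lib.Helper18.BV1.exists_nonzero_sections hM).choose_spec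

/-- the cycle `c₁(M) ∩ α` computed with the chosen sections -/
noncomputable def capCycle (α : AlgebraicCycle Y ℤ) : AlgebraicCycle Y ℤ :=
  Groth.Agent.Lib.Helper18.KF21.c1CapCycle δ hY hM α (sec hM) (sec_ne_zero hM)

theorem capCycle_coe (α : AlgebraicCycle Y ℤ) :
    ⇑(capCycle δ hY hM α) = Cyc.c1CapFun δ M ⇑α (sec hM) := rfl

theorem c1Cap_mem (k : ℤ) (α : AlgebraicCycle Y ℤ) (hα : α ∈ Cyc.Zk Y δ k)
    (v : (ξ : Y) → Cyc.secFibre M ξ) (γ : AlgebraicCycle Y ℤ)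
    (hγ : ⇑γ = Cyc.c1CapFun δ M ⇑α v) : γ ∈ Cyc.Zk Y δ (k - 1) := by
  intro ξ hξ
  by_contra hne
  apply hξ
  have hne' : Cyc.c1CapFun δ M ⇑α v ξ ≠ 0 := by
    rw [← hγ]
    exact hne
  exact Groth.Agent.Lib.Helper18.KF21.c1Cap_mem_Zk δ (k - 1) ⇑α (fun η hη => by
    have : δ η = k := by
      by_contra hk
      exact hη (hα η hk)
    omega) v ξ hne'

theorem capCycle_mem (k : ℤ) (α : AlgebraicCycle Y ℤ) (hα : α ∈ Cyc.Zk Y δ k) :
    capCycle δ hY hM α ∈ Cyc.Zk Y δ (k - 1) :=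
  c1Cap_mem δ k α hα (sec hM) _ rfl

theorem capCycle_add (α β : AlgebraicCycle Y ℤ) :
    capCycle δ hY hM (α + β) = capCycle δ hY hM α + capCycle δ hY hM β := by
  ext x
  have h1 : (capCycle δ hY hM α + capCycle δ hY hM β) x =
      capCycle δ hY hM α x + capCycle δ hY hM β x := rfl
  rw [h1]
  change Cyc.c1CapFun δ M ⇑(α + β) (sec hM) x =
    Cyc.c1CapFun δ M ⇑α (sec hM) x + Cyc.c1CapFun δ M ⇑β (sec hM) x
  unfold Cyc.c1CapFun
  rw [← finsum_add_distrib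
    (Groth.Agent.Lib.Helper18.C1Indep.finite_support_c1Cap_summand δ M α (sec hM) x)
    (Groth.Agent.Lib.Helper18.C1Indep.finite_support_c1Cap_summand δ M β (sec hM) x)]
  apply finsum_congr
  intro ξ
  have : (α + β) ξ = α ξ + β ξ := rfl
  rw [this, add_mul]

theorem capCycle_zero : capCycle δ hY hM 0 = 0 := by
  ext x
  change Cyc.c1CapFun δ M ⇑(0 : AlgebraicCycle Y ℤ) (sec hM) x = 0
  unfold Cyc.c1CapFun
  apply finsum_eq_zero_of_forall_eq_zero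
  intro ξ
  have : (0 : AlgebraicCycle Y ℤ) ξ = 0 := rfl
  rw [this, zero_mul]

/-- `c₁(M) ∩ -` on `k`-cycles -/
noncomputable def capZk (k : ℤ) : ↥(ChowOps.zk Y δ k) →+ ↥(ChowOps.zk Y δ (k - 1)) where
  toFun a := ⟨capCycle δ hY hM a.1, capCycle_mem δ hY hM k a.1 a.2⟩
  map_zero' := Subtype.ext (capCycle_zero δ hY hM)
  map_add' a b := Subtype.ext (capCycle_add δ hY hM a.1 b.1)

theorem ratTriv_le (k : ℤ) :
    ChowOps.ratTriv Y δ k ≤ (ChowOps.ratTriv Y δ (k - 1)).comap (capZk δ hY hM k) := by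
  unfold ChowOps.ratTriv
  rw [AddSubgroup.closure_le]
  intro a ha
  apply AddSubgroup.subset_closure
  have ha' : Cyc.RatEquivZero δ (k - 1 + 1) a.1 := by
    rw [sub_add_cancel]
    exact ha
  exact Groth.Agent.Lib.Helper18.KF15.c1Cap_ratEquivZero δ hY hM (k - 1) a.1 ha' (sec hM)
    (sec_ne_zero hM) (capCycle δ hY hM a.1) rfl

/-- the operation `c₁(M) ∩ -` on Chow groups -/
noncomputable def op (k : ℤ) : ChowOps.CH Y δ k →+ ChowOps.CH Y δ (k - 1) :=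
  QuotientAddGroup.map _ _ (capZk δ hY hM k) (ratTriv_le δ hY hM k)

theorem op_cl (k : ℤ) (α : AlgebraicCycle Y ℤ) (hα : α ∈ Cyc.Zk Y δ k) :
    op δ hY hM k (ChowOps.cl α hα) =
      ChowOps.cl (capCycle δ hY hM α) (capCycle_mem δ hY hM k α hα) := rfl

/-- the class does not depend on the sections -/
theorem op_cl_eq (k : ℤ) (α : AlgebraicCycle Y ℤ) (hα : α ∈ Cyc.Zk Y δ k)
    (v : (ξ : Y) → Cyc.secFibre M ξ) (hv : ∀ ξ, v ξ ≠ 0) (γ : AlgebraicCycle Y ℤ)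
    (hγf : ⇑γ = Cyc.c1CapFun δ M ⇑α v) (hγ : γ ∈ Cyc.Zk Y δ (k - 1)) :
    op δ hY hM k (ChowOps.cl α hα) = ChowOps.cl γ hγ := by
  rw [op_cl]
  apply Groth.Agent.Lib.Helper18.FF11.cl_eq_of_ratEquiv
  have hα' : α ∈ Cyc.Zk Y δ (k - 1 + 1) := by
    rw [sub_add_cancel]
    exact hα
  exact Groth.Agent.Lib.Helper18.C1Indep.c1Cap_ratEquiv δ hY hM (k - 1) α hα' (sec hM) v
    (sec_ne_zero hM) hv _ γ rfl hγf

/-- isomorphic modules give the same class -/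
theorem cl_eq_of_iso {M' : Y.Modules} (hM' : PicF.IsInvertible M') (e : M' ≅ M) (k : ℤ)
    (α : AlgebraicCycle Y ℤ) (hα : α ∈ Cyc.Zk Y δ k)
    (v : (ξ : Y) → Cyc.secFibre M' ξ) (hv : ∀ ξ, v ξ ≠ 0) (γ : AlgebraicCycle Y ℤ)
    (hγf : ⇑γ = Cyc.c1CapFun δ M' ⇑α v) (hγ : γ ∈ Cyc.Zk Y δ (k - 1)) :
    op δ hY hM k (ChowOps.cl α hα) = ChowOps.cl γ hγ := by
  apply op_cl_eq δ hY hM k α hα (fun ξ => Groth.Agent.Lib.Helper18.BV2.fibreMap e ξ (v ξ))
    (fun ξ => Groth.Agent.Lib.Helper18.BV2.fibreMap_ne_zero e hM' hM ξ (v ξ) (hv ξ)) γ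
  rw [Groth.Agent.Lib.Helper18.BV2.c1CapFun_iso e δ hY hM' hM ⇑α v hv]
  exact hγf

end Groth.Agent.Lib.Helper18.OC1
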