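import Mathlib
import Groth.Prelude.Def_Bivar2
import Groth.Agent.Lib.Helper18.OC1
import Groth.Agent.Lib.Helper18.KF17
import Groth.Agent.Lib.Helper18.KF24
import Groth.Agent.Lib.Helper18.KF31
import Groth.Agent.Lib.Helper18.SubCyc

/-!
# The Gysin operation on Chow groups
-/

set_option autoImplicit false
set_option linter.unusedSectionVars false
set_option linter.style.haveILetI false
universe u
open CategoryTheory AlgebraicGeometry TopologicalSpace Limits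

namespace Groth.Agent.Lib.Helper18.GC1

open Groth.Agent.Lib.Helper18.OC1 Groth.Agent.Lib.Helper18.KF16 Groth.Agent.Lib.Helper18.KF17
  Groth.Agent.Lib.Helper18.KF18 Groth.Agent.Lib.Helper18.KF24

section Op

variable {W E : Scheme.{u}} (δ : W → ℤ) (hW : Cyc.IsSetup W δ) {M : W.Modules}
  (hM : PicF.IsInvertible M) (τ : M.presheaf.obj (Opposite.op ⊤)) (ι : E ⟶ W)
  [IsClosedImmersion ι] (hτ : Cyc.IsZeroSchemeOf ι M τ) (δE : E → ℤ)
  (hδE : δE = fun e => δ (ι e))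

/-- the Gysin cycle `ι^* α` computed with the chosen sections -/
noncomputable def gcyc (α : AlgebraicCycle W ℤ) : AlgebraicCycle E ℤ :=
  Groth.Agent.Lib.Helper18.SubCyc.comapCycle ι
    (Groth.Agent.Lib.Helper18.KF21.c1CapCycle δ hW hM α (Cyc.gysinChoice M τ (sec hM))
      (gysinChoice_ne_zero τ _ (sec_ne_zero hM)))

theorem gcyc_apply (α : AlgebraicCycle W ℤ) (e : E) :
    gcyc δ hW hM τ ι α e = Cyc.c1CapFun δ M ⇑α (Cyc.gysinChoice M τ (sec hM)) (ι e) := rfl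

include hδE in
theorem gysin_mem (k : ℤ) (α : AlgebraicCycle W ℤ) (hα : α ∈ Cyc.Zk W δ k)
    (w : (ξ : W) → Cyc.secFibre M ξ) (γ : AlgebraicCycle E ℤ)
    (hγ : ∀ e, γ e = Cyc.c1CapFun δ M ⇑α (Cyc.gysinChoice M τ w) (ι e)) :
    γ ∈ Cyc.Zk E δE (k - 1) := by
  subst hδE
  intro e he
  by_contra hne
  apply he
  have hne' : Cyc.c1CapFun δ M ⇑α (Cyc.gysinChoice M τ w) (ι e) ≠ 0 := by
    rw [← hγ e]
    exact hne
  exact Groth.Agent.Lib.Helper18.KF21.c1Cap_mem_Zk δ (k - 1) ⇑α (fun η hη => by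
    have : δ η = k := by
      by_contra hk
      exact hη (hα η hk)
    omega) _ (ι e) hne'

include hδE in
theorem gcyc_mem (k : ℤ) (α : AlgebraicCycle W ℤ) (hα : α ∈ Cyc.Zk W δ k) :
    gcyc δ hW hM τ ι α ∈ Cyc.Zk E δE (k - 1) :=
  gysin_mem δ τ ι δE hδE k α hα (sec hM) _ (fun e => rfl)

theorem gcyc_add (α β : AlgebraicCycle W ℤ) :
    gcyc δ hW hM τ ι (α + β) = gcyc δ hW hM τ ι α + gcyc δ hW hM τ ι β := by
  ext e
  have h1 : (gcyc δ hW hM τ ι α + gcyc δ hW hM τ ι β) e =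
      gcyc δ hW hM τ ι α e + gcyc δ hW hM τ ι β e := rfl
  rw [h1, gcyc_apply, gcyc_apply, gcyc_apply]
  unfold Cyc.c1CapFun
  rw [← finsum_add_distrib
    (Groth.Agent.Lib.Helper18.C1Indep.finite_support_c1Cap_summand δ M α _ (ι e))
    (Groth.Agent.Lib.Helper18.C1Indep.finite_support_c1Cap_summand δ M β _ (ι e))]
  apply finsum_congr
  intro ξ
  have : (α + β) ξ = α ξ + β ξ := rfl
  rw [this, add_mul]

theorem gcyc_zero : gcyc δ hW hM τ ι 0 = 0 := by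
  ext e
  rw [gcyc_apply]
  unfold Cyc.c1CapFun
  apply finsum_eq_zero_of_forall_eq_zero
  intro ξ
  have : (0 : AlgebraicCycle W ℤ) ξ = 0 := rfl
  rw [this, zero_mul]

/-- the Gysin map on `k`-cycles -/
noncomputable def gZk (k : ℤ) : ↥(ChowOps.zk W δ k) →+ ↥(ChowOps.zk E δE (k - 1)) where
  toFun a := ⟨gcyc δ hW hM τ ι a.1, gcyc_mem δ hW hM τ ι δE hδE k a.1 a.2⟩
  map_zero' := Subtype.ext (gcyc_zero δ hW hM τ ι)
  map_add' a b := Subtype.ext (gcyc_add δ hW hM τ ι a.1 b.1)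

include hτ in
theorem ratTriv_le (k : ℤ) :
    ChowOps.ratTriv W δ k ≤
      (ChowOps.ratTriv E δE (k - 1)).comap (gZk δ hW hM τ ι δE hδE k) := by
  subst hδE
  unfold ChowOps.ratTriv
  rw [AddSubgroup.closure_le]
  intro a ha
  apply AddSubgroup.subset_closure
  have ha' : Cyc.RatEquivZero δ (k - 1 + 1) a.1 := by
    rw [sub_add_cancel]
    exact ha
  exact gysin_ratEquivZero δ hW hM τ ι hτ (sec hM) (k - 1) a.1 ha' (sec_ne_zero hM)
    (gcyc δ hW hM τ ι a.1) (fun e => rfl)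

/-- the Gysin map on Chow groups -/
noncomputable def gop (k : ℤ) : ChowOps.CH W δ k →+ ChowOps.CH E δE (k - 1) :=
  QuotientAddGroup.map _ _ (gZk δ hW hM τ ι δE hδE k) (ratTriv_le δ hW hM τ ι hτ δE hδE k)

theorem gop_cl (k : ℤ) (α : AlgebraicCycle W ℤ) (hα : α ∈ Cyc.Zk W δ k) :
    gop δ hW hM τ ι hτ δE hδE k (ChowOps.cl α hα) =
      ChowOps.cl (gcyc δ hW hM τ ι α) (gcyc_mem δ hW hM τ ι δE hδE k α hα) := rfl

end Op

section Indep

variable {W E X D : Scheme.{u}} (δ : W → ℤ) (hW : Cyc.IsSetup W δ) {L : X.Modules}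
  (hL : PicF.IsInvertible L) (σ : L.presheaf.obj (Opposite.op ⊤)) {i : D ⟶ X}
  [IsClosedImmersion i] (hσ : Cyc.IsZeroSchemeOf i L σ) {f : W ⟶ X} {ι : E ⟶ W} {g' : E ⟶ D}
  (hc : IsPullback ι g' f i)

include hW hL hσ hc in
/-- the Gysin cycle does not depend on the section cutting out the zero scheme nor on the
fallback sections -/
theorem gysin_indep [IsClosedImmersion ι]
    (τ₁ τ₂ : ((Scheme.Modules.pullback f).obj L).presheaf.obj (Opposite.op ⊤))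
    (hτ₁ : Cyc.IsZeroSchemeOf ι ((Scheme.Modules.pullback f).obj L) τ₁)
    (hτ₂ : Cyc.IsZeroSchemeOf ι ((Scheme.Modules.pullback f).obj L) τ₂)
    (w₁ w₂ : (ξ : W) → Cyc.secFibre ((Scheme.Modules.pullback f).obj L) ξ)
    (hw₁ : ∀ ξ, w₁ ξ ≠ 0) (hw₂ : ∀ ξ, w₂ ξ ≠ 0) (k : ℤ) (α : AlgebraicCycle W ℤ)
    (hα : α ∈ Cyc.Zk W δ k) (γ₁ γ₂ : AlgebraicCycle E ℤ)
    (h₁ : ∀ e, γ₁ e = Cyc.c1CapFun δ ((Scheme.Modules.pullback f).obj L) ⇑α
      (Cyc.gysinChoice ((Scheme.Modules.pullback f).obj L) τ₁ w₁) (ι e))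
    (h₂ : ∀ e, γ₂ e = Cyc.c1CapFun δ ((Scheme.Modules.pullback f).obj L) ⇑α
      (Cyc.gysinChoice ((Scheme.Modules.pullback f).obj L) τ₂ w₂) (ι e)) :
    Cyc.RatEquiv (fun e => δ (ι e)) (k - 1) γ₁ γ₂ := by
  classical
  have hM : PicF.IsInvertible ((Scheme.Modules.pullback f).obj L) :=
    Groth.Agent.Lib.Helper29.QCoh.isInvertible_pullback f hL
  have hS : ∀ ξ, ξ ∉ Set.range ⇑ι → ∀ x,
      Cyc.secDivFun δ ((Scheme.Modules.pullback f).obj L) ξ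
        (Cyc.gysinChoice ((Scheme.Modules.pullback f).obj L) τ₁ w₁ ξ) x =
      Cyc.secDivFun δ ((Scheme.Modules.pullback f).obj L) ξ
        (Cyc.gysinChoice ((Scheme.Modules.pullback f).obj L) τ₂ w₂ ξ) x := by
    intro ξ hdn x
    rw [gysinChoice_of_notMem τ₁ ι hτ₁ w₁ ξ hdn, gysinChoice_of_notMem τ₂ ι hτ₂ w₂ ξ hdn]
    unfold Cyc.secDivFun
    by_cases hcc : ξ ⤳ x ∧ δ x + 1 = δ ξ
    · rw [dif_pos hcc, dif_pos hcc,
        Groth.Agent.Lib.Helper18.KF31.secOrdAt_germ_eq_pullFibre δ hW hL σ hσ hc τ₁ hτ₁ x ξ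
          hcc.1 hcc.2 hdn,
        Groth.Agent.Lib.Helper18.KF31.secOrdAt_germ_eq_pullFibre δ hW hL σ hσ hc τ₂ hτ₂ x ξ
          hcc.1 hcc.2 hdn]
    · rw [dif_neg hcc, dif_neg hcc]
  have hα' : α ∈ Cyc.Zk W δ (k - 1 + 1) := by rwa [sub_add_cancel]
  have hA := c1Cap_sections_in δ hW hM (k - 1) α hα' _ _
    (gysinChoice_ne_zero τ₁ w₁ hw₁) (gysinChoice_ne_zero τ₂ w₂ hw₂) (Set.range ⇑ι) hS
  have hB := ratEquivZeroIn_comap ι δ hW (k - 1) _ hA
  refine RatEquivZeroIn.ratEquivZero (S := Set.univ) ?_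
  refine RatEquivZeroIn.congr hB ?_
  intro e
  have e0 : (γ₁ - γ₂) e = γ₁ e - γ₂ e := rfl
  rw [e0, h₁ e, h₂ e]

end Indep

end Groth.Agent.Lib.Helper18.GC1
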