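import Mathlib
import Groth.Prelude.Def_C1
import Groth.Agent.Lib.Helper18.KF27
import Groth.Agent.Lib.Helper18.KF23

/-!
# Gysin maps commute (general cartesian square)
-/

set_option autoImplicit false
set_option linter.unusedSectionVars false
set_option linter.style.haveILetI false
universe u
open CategoryTheory AlgebraicGeometry TopologicalSpace Limits

namespace Groth.Agent.Lib.Helper18.GG1

theorem gysin_comm {X D D' P : Scheme.{u}} (δ : X → ℤ) (hX : Cyc.IsSetup X δ) (L L' : X.Modules)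
    (hL : PicF.IsInvertible L) (hL' : PicF.IsInvertible L') (s : L.presheaf.obj (Opposite.op ⊤))
    (s' : L'.presheaf.obj (Opposite.op ⊤)) (i : D ⟶ X) (i' : D' ⟶ X) [IsClosedImmersion i]
    [IsClosedImmersion i'] (hD : Cyc.IsZeroSchemeOf i L s) (hD' : Cyc.IsZeroSchemeOf i' L' s')
    {j : P ⟶ D} {j' : P ⟶ D'} (hP : IsPullback j j' i i')
    (σ' : ((Scheme.Modules.pullback i).obj L').presheaf.obj (Opposite.op ⊤))
    (hσ' : Cyc.IsZeroSchemeOf j ((Scheme.Modules.pullback i).obj L') σ')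
    (σ : ((Scheme.Modules.pullback i').obj L).presheaf.obj (Opposite.op ⊤))
    (hσ : Cyc.IsZeroSchemeOf j' ((Scheme.Modules.pullback i').obj L) σ) (k : ℤ)
    (α : AlgebraicCycle X ℤ) (hα : α ∈ Cyc.Zk X δ k) (w : (ξ : X) → Cyc.secFibre L ξ)
    (hw : ∀ ξ, w ξ ≠ 0) (w' : (ξ : X) → Cyc.secFibre L' ξ) (hw' : ∀ ξ, w' ξ ≠ 0)
    (w₁ : (d : D) → Cyc.secFibre ((Scheme.Modules.pullback i).obj L') d) (hw₁ : ∀ d, w₁ d ≠ 0)
    (w₂ : (d : D') → Cyc.secFibre ((Scheme.Modules.pullback i').obj L) d) (hw₂ : ∀ d, w₂ d ≠ 0)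
    (γ : D → ℤ) (hγ : γ = fun d => Cyc.c1CapFun δ L ⇑α (Cyc.gysinChoice L s w) (i d))
    (γ' : D' → ℤ) (hγ' : γ' = fun d => Cyc.c1CapFun δ L' ⇑α (Cyc.gysinChoice L' s' w') (i' d))
    (ζ₁ ζ₂ : AlgebraicCycle P ℤ)
    (h₁ : ∀ z, ζ₁ z = Cyc.c1CapFun (fun d => δ (i d)) ((Scheme.Modules.pullback i).obj L') γ
      (Cyc.gysinChoice ((Scheme.Modules.pullback i).obj L') σ' w₁) (j z))
    (h₂ : ∀ z, ζ₂ z = Cyc.c1CapFun (fun d => δ (i' d)) ((Scheme.Modules.pullback i').obj L) γ'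
      (Cyc.gysinChoice ((Scheme.Modules.pullback i').obj L) σ w₂) (j' z)) :
    Cyc.RatEquiv (fun z => δ (i (j z))) (k - 2) ζ₁ ζ₂ := by
  classical
  haveI : IsClosedImmersion j := Groth.Agent.Lib.Helper18.KF22.isClosedImmersion_fst hP
  have hPset : Cyc.IsSetup P (fun z => δ (i (j z))) :=
    Groth.Agent.Lib.Helper18.ClImm.isSetup (j ≫ i) δ hX
  have hA := Groth.Agent.Lib.Helper18.KF27.gysin_gysin δ hX hL hL' s s' hD hD' hP σ' hσ' w w' w₁
    hw hw' hw₁ k α hα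
  have hB := Groth.Agent.Lib.Helper18.KF27.gysin_gysin δ hX hL' hL s' s hD' hD hP.flip σ hσ w' w w₂
    hw' hw hw₂ k α hα
  have hδeq : (fun z => δ (i' (j' z))) = fun z => δ (i (j z)) :=
    funext fun z => by rw [Groth.Agent.Lib.Helper18.KF25.map_eq hP z]
  rw [hδeq] at hB
  have hC0 := Groth.Agent.Lib.Helper18.KF23.gysin_comm_in δ hX hL hL' s s' i i' hD hD' w w' hw hw' k
    α hα
  have hsub : Set.range ⇑i ∩ Set.range ⇑i' ⊆ Set.range ⇑(j ≫ i) := by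
    rintro x ⟨⟨d, hd⟩, ⟨d', hd'⟩⟩
    obtain ⟨z, hz, -⟩ := Groth.Agent.Lib.Helper18.KF25.exists_point hP d d' (hd.trans hd'.symm)
    exact ⟨z, by rw [Scheme.Hom.comp_apply, hz, hd]⟩
  have hC1 := Groth.Agent.Lib.Helper18.KF18.RatEquivZeroIn.mono hsub hC0
  have hC := Groth.Agent.Lib.Helper18.KF18.ratEquivZeroIn_comap (j ≫ i) δ hX (k - 2)
    _ hC1
  have hC' : Groth.Agent.Lib.Helper18.KF16.RatEquivZeroIn (Set.univ : Set ↥P)
      (fun z => δ (i (j z))) (k - 2) (fun z =>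
      Cyc.c1CapFun δ L' (Cyc.c1CapFun δ L ⇑α (Cyc.gysinChoice L s w)) (Cyc.gysinChoice L' s' w')
        (i (j z)) -
      Cyc.c1CapFun δ L (Cyc.c1CapFun δ L' ⇑α (Cyc.gysinChoice L' s' w')) (Cyc.gysinChoice L s w)
        (i (j z))) := hC
  refine Groth.Agent.Lib.Helper18.KF16.RatEquivZeroIn.ratEquivZero (S := Set.univ) ?_
  refine Groth.Agent.Lib.Helper18.KF18.RatEquivZeroIn.congr
    (Groth.Agent.Lib.Helper18.KF27.RatEquivZeroIn.sub hPset
      (Groth.Agent.Lib.Helper18.KF18.RatEquivZeroIn.add hA hC') hB) ?_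
  intro z
  have e0 : (ζ₁ - ζ₂) z = ζ₁ z - ζ₂ z := rfl
  rw [e0, h₁ z, h₂ z, hγ, hγ']
  simp only []
  have hz : i' (j' z) = i (j z) :=
    (Groth.Agent.Lib.Helper18.KF25.map_eq hP z).symm
  rw [hz]
  ring

end Groth.Agent.Lib.Helper18.GG1
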