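import Mathlib
import Groth.Prelude.Def_C1
import Groth.Agent.Lib.Helper18.BV2

/-!
# Transport of zero schemes and Gysin sections along isomorphisms of modules
-/

set_option autoImplicit false
set_option linter.unusedSectionVars false
set_option linter.style.haveILetI false
universe u
open CategoryTheory AlgebraicGeometry TopologicalSpace Limits

namespace Groth.Agent.Lib.Helper18.GP2

open Groth.Agent.Lib.Helper18.InvStalk Groth.Agent.Lib.Helper29.QCoh
  Groth.Agent.Lib.Helper18.BV2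

variable {X : Scheme.{u}} {L₁ L₂ : X.Modules} (e : L₁ ≅ L₂)

theorem stalkMap_inv_hom (x : X) (t : L₁.presheaf.stalk x) :
    stalkMap e.inv x (stalkMap e.hom x t) = t := by
  have h : stalkMap e.hom x ≫ stalkMap e.inv x = 𝟙 _ := by
    change (stalkFunctor X x).map e.hom ≫ (stalkFunctor X x).map e.inv = 𝟙 _
    rw [← CategoryTheory.Functor.map_comp, e.hom_inv_id, CategoryTheory.Functor.map_id]
  exact congrArg (fun k => k t) h

theorem fibreMap_symm_fibreMap (ξ : X) (a : Cyc.secFibre L₁ ξ) :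
    fibreMap e.symm ξ (fibreMap e ξ a) = a := by
  obtain ⟨t, rfl⟩ := Submodule.Quotient.mk_surjective _ a
  rw [fibreMap_mk, fibreMap_mk]
  congr 1
  exact stalkMap_inv_hom e ξ t

theorem fibreMap_eq_zero_iff (ξ : X) (a : Cyc.secFibre L₁ ξ) : fibreMap e ξ a = 0 ↔ a = 0 := by
  constructor
  · intro h
    rw [← fibreMap_symm_fibreMap e ξ a, h, map_zero]
  · intro h
    rw [h, map_zero]

theorem mk_germ_app (s : L₁.presheaf.obj (Opposite.op ⊤)) (ξ : X) :
    (Submodule.Quotient.mk ((L₂.presheaf.germ ⊤ ξ trivial) (e.hom.app ⊤ s)) : Cyc.secFibre L₂ ξ) =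
      fibreMap e ξ (Submodule.Quotient.mk ((L₁.presheaf.germ ⊤ ξ trivial) s)) := by
  rw [fibreMap_mk, stalkMap_germ]

/-- the Gysin sections are compatible with isomorphisms of modules -/
theorem gysinChoice_iso (s : L₁.presheaf.obj (Opposite.op ⊤)) (w : (ξ : X) → Cyc.secFibre L₁ ξ)
    (ξ : X) :
    Cyc.gysinChoice L₂ (e.hom.app ⊤ s) (fun ξ => fibreMap e ξ (w ξ)) ξ =
      fibreMap e ξ (Cyc.gysinChoice L₁ s w ξ) := by
  classical
  unfold Cyc.gysinChoice
  rw [mk_germ_app]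
  by_cases h : (Submodule.Quotient.mk ((L₁.presheaf.germ ⊤ ξ trivial) s) : Cyc.secFibre L₁ ξ) = 0
  · rw [if_neg (not_not.mpr h), if_neg (not_not.mpr ((fibreMap_eq_zero_iff e ξ _).mpr h))]
  · rw [if_pos h, if_pos (fun h' => h ((fibreMap_eq_zero_iff e ξ _).mp h'))]

/-- zero schemes are compatible with isomorphisms of modules -/
theorem isZeroSchemeOf_iso {D : Scheme.{u}} (i : D ⟶ X) (s : L₁.presheaf.obj (Opposite.op ⊤))
    (h : Cyc.IsZeroSchemeOf i L₁ s) : Cyc.IsZeroSchemeOf i L₂ (e.hom.app ⊤ s) := by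
  refine ⟨?_, ?_⟩
  · rw [h.1]
    ext x
    rw [Set.mem_setOf_eq, Set.mem_setOf_eq, mk_germ_app, fibreMap_eq_zero_iff]
  · intro d
    obtain ⟨t, f, ht, hs, hker⟩ := h.2 d
    refine ⟨stalkMap e.hom (i d) t, f, span_stalkMap_eq_top e (i d) t ht, ?_, hker⟩
    rw [← stalkMap_germ, hs, stalkMap_smul]

end Groth.Agent.Lib.Helper18.GP2
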