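import Mathlib
import Groth.Prelude.Def_C1
import Groth.Agent.Lib.Helper18.KF30

/-!
# The zero scheme of a pulled back section
-/

set_option autoImplicit false
set_option linter.unusedSectionVars false
set_option linter.style.haveILetI false
universe u
open CategoryTheory AlgebraicGeometry TopologicalSpace Limits TensorProduct

namespace Groth.Agent.Lib.Helper18.ZSP

open Groth.Agent.Lib.Helper29.QCoh Groth.Agent.Lib.Helper28.StalkTensor
  Groth.Agent.Lib.Helper18.InvStalk Groth.Agent.Lib.Helper18.PullStalk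
  Groth.Agent.Lib.Helper18.PullTriv
  Groth.Agent.Lib.Helper18.KF17 Groth.Agent.Lib.Helper18.KF22
  Groth.Agent.Lib.Helper18.KF25 Groth.Agent.Lib.Helper18.PullSec
  Groth.Agent.Lib.Helper18.KF29 Groth.Agent.Lib.Helper18.KF30
  Groth.Agent.Lib.Helper10.FibreProductStalk

variable {X' X : Scheme.{u}} (f : X' ⟶ X) (L : X.Modules)

/-- the pullback of a global section -/
noncomputable def pullSection (s : L.presheaf.obj (Opposite.op ⊤)) :
    ((Scheme.Modules.pullback f).obj L).presheaf.obj (Opposite.op ⊤) :=
  etaSec f L ⊤ s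

/-- the germ of the pulled back section in terms of a trivialisation -/
theorem germ_pullSection (s : L.presheaf.obj (Opposite.op ⊤)) {V : X.Opens} {a : Γ(L, V)}
    (hT : IsTriv L V a) (x' : X') (hxV : f x' ∈ V) (f₀ : X.presheaf.stalk (f x'))
    (hf₀ : (L.presheaf.germ ⊤ (f x') trivial) s = f₀ • L.presheaf.germ V (f x') hxV a) :
    (((Scheme.Modules.pullback f).obj L).presheaf.germ ⊤ x' trivial) (pullSection f L s) =
      (f.stalkMap x').hom f₀ • ((Scheme.Modules.pullback f).obj L).presheaf.germ (f ⁻¹ᵁ V) x' hxV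
        (etaSec f L V a) := by
  letI := (f.stalkMap x').hom.toAlgebra
  apply (stalkPullbackEquiv f L x').injective
  rw [map_smul, stalkPullbackEquiv_germ_etaSec f L a x' hxV]
  have h1 := stalkPullbackEquiv_germ_etaSec f L (V := ⊤) s x' trivial
  have h2 : stalkPullbackEquiv f L x'
      ((((Scheme.Modules.pullback f).obj L).presheaf.germ ⊤ x' trivial) (pullSection f L s)) =
      (1 : X'.presheaf.stalk x') ⊗ₜ[X.presheaf.stalk (f x')]
        (L.presheaf.germ ⊤ (f x') trivial s) := h1
  rw [h2, hf₀, TensorProduct.tmul_smul, TensorProduct.smul_tmul', TensorProduct.smul_tmul',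
    Algebra.smul_def, smul_eq_mul, mul_one, mul_one]
  rfl

section Zero

variable {D P : Scheme.{u}} {L} (hL : PicF.IsInvertible L) (s : L.presheaf.obj (Opposite.op ⊤))
  {f} {i : D ⟶ X} [IsClosedImmersion i] (hD : Cyc.IsZeroSchemeOf i L s) {i' : P ⟶ X'} {g : P ⟶ D}
  (hc : IsPullback i' g f i)

set_option maxHeartbeats 1600000 in
include hL hD hc in
/-- **the base change of the zero scheme is the zero scheme of the pulled back section** -/
theorem isZeroSchemeOf_pullSection :
    Cyc.IsZeroSchemeOf i' ((Scheme.Modules.pullback f).obj L) (pullSection f L s) := by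
  haveI : IsClosedImmersion i' := isClosedImmersion_fst hc
  have hL'' : PicF.IsInvertible ((Scheme.Modules.pullback f).obj L) := isInvertible_pullback f hL
  refine ⟨?_, ?_⟩
  · ext x'
    obtain ⟨V, a, hxV, hT⟩ := exists_isTriv hL (f x')
    have he := span_germ_eq_top L hT (f x') hxV
    have hε := span_germ_etaSec_eq_top f L hT x' hxV
    have hm : (L.presheaf.germ ⊤ (f x') trivial) s ∈
        Submodule.span (X.presheaf.stalk (f x')) {L.presheaf.germ V (f x') hxV a} := by
      rw [he]; trivial
    obtain ⟨f₀, hf₀⟩ := Submodule.mem_span_singleton.mp hm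
    have hgerm := germ_pullSection f L s hT x' hxV f₀ hf₀.symm
    have h1 : x' ∈ Set.range ⇑i' ↔ f x' ∈ Set.range ⇑i := by
      constructor
      · rintro ⟨z, rfl⟩
        exact ⟨g z, (map_eq hc z).symm⟩
      · rintro ⟨d, hd⟩
        obtain ⟨z, hz, -⟩ := exists_point hc x' d hd.symm
        exact ⟨z, hz⟩
    rw [h1, hD.1, Set.mem_setOf_eq, Set.mem_setOf_eq, hgerm, ← hf₀]
    constructor
    · intro h0
      have hmem := mem_of_smul_mk_eq_zero (IsLocalRing.maximalIdeal (X.presheaf.stalk (f x'))) _ he
        (smul_germ_eq_zero L hT (f x') hxV) f₀ (by rw [← Submodule.Quotient.mk_smul]; exact h0)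
      rw [Submodule.Quotient.mk_eq_zero]
      refine Submodule.smul_mem_smul ?_ trivial
      rw [IsLocalRing.mem_maximalIdeal, mem_nonunits_iff] at hmem ⊢
      intro hu
      exact hmem (isUnit_of_map_unit (f.stalkMap x').hom _ hu)
    · intro h0
      have hmem := mem_of_smul_mk_eq_zero (IsLocalRing.maximalIdeal (X'.presheaf.stalk x')) _ hε
        (smul_germ_etaSec_eq_zero f L hT x' hxV) _
        (by rw [← Submodule.Quotient.mk_smul]; exact h0)
      rw [Submodule.Quotient.mk_eq_zero]
      refine Submodule.smul_mem_smul ?_ trivial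
      rw [IsLocalRing.mem_maximalIdeal, mem_nonunits_iff] at hmem ⊢
      intro hu
      exact hmem (hu.map _)
  · intro z
    obtain ⟨V, a, hxV, hT⟩ := exists_isTriv hL (f (i' z))
    have he := span_germ_eq_top L hT (f (i' z)) hxV
    have hε := span_germ_etaSec_eq_top f L hT (i' z) hxV
    have hm : (L.presheaf.germ ⊤ (f (i' z)) trivial) s ∈
        Submodule.span (X.presheaf.stalk (f (i' z))) {L.presheaf.germ V (f (i' z)) hxV a} := by
      rw [he]; trivial
    obtain ⟨f₀, hf₀⟩ := Submodule.mem_span_singleton.mp hm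
    have hgerm := germ_pullSection f L s hT (i' z) hxV f₀ hf₀.symm
    refine ⟨_, (f.stalkMap (i' z)).hom f₀, hε, hgerm, ?_⟩
    have hker2 := ker_stalkMap_pullback hc z
    have hker3 : RingHom.ker (baseStalkMap hc z).hom = Ideal.span {f₀} :=
      ker_stalkCongr_stalkMap_eq_span hL s i hD (g z) (f (i' z)) (base_eq hc z) _ he f₀ hf₀.symm
    rw [hker3, Ideal.map_span, Set.image_singleton] at hker2
    exact hker2

end Zero

end Groth.Agent.Lib.Helper18.ZSP
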