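import Mathlib
import Groth.Prelude.Def_Bivar2
import Groth.Agent.Lib.Helper18.GC1
import Groth.Agent.Lib.Helper18.GG1
import Groth.Agent.Lib.Helper18.GP1
import Groth.Agent.Lib.Helper18.GP2
import Groth.Agent.Lib.Helper18.ZSP
import Groth.Agent.Lib.Helper18.FF10
import Groth.Agent.Lib.Helper18.FF11
import Groth.Agent.Lib.Helper18.RelDimShift
import Groth.Agent.Lib.Helper18.SetupLft

/-!
# The Gysin bivariant class: the operation and the compatibility with proper pushforward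
-/

set_option autoImplicit false
set_option linter.unusedSectionVars false
set_option linter.style.haveILetI false
universe u
open CategoryTheory AlgebraicGeometry TopologicalSpace Limits

namespace Groth.Agent.Lib.Helper18.GC2

open Groth.Agent.Lib.Helper18.FF8 Groth.Agent.Lib.Helper18.OC1 Groth.Agent.Lib.Helper18.GC1

variable {X D : Scheme.{u}} {δX : X → ℤ} {δD : D → ℤ} (hX : Cyc.IsSetup X δX)
  (hD : Cyc.IsSetup D δD) {i : D ⟶ X} [IsClosedImmersion i] (hδ : Cyc.DeltaCompat i δD δX)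
  {L : X.Modules} (hL : PicF.IsInvertible L) (σ : L.presheaf.obj (Opposite.op ⊤))
  (hσ : Cyc.IsZeroSchemeOf i L σ) (s : Bivar.Sq i δD δX)

instance instClf' : IsClosedImmersion s.f' :=
  Groth.Agent.Lib.Helper18.KF30.isClosedImmersion_fst s.isPullback

include hX in
theorem isSetupY : Cyc.IsSetup s.Y' s.δY' :=
  haveI := s.lft
  Groth.Agent.Lib.Helper18.SetupLft.isSetup_of_locallyOfFiniteType s.g δX hX s.δY' s.compatY

include hD in
theorem isSetupX : Cyc.IsSetup s.X' s.δX' :=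
  haveI := s.lft
  haveI : LocallyOfFiniteType s.g' := MorphismProperty.of_isPullback s.isPullback inferInstance
  Groth.Agent.Lib.Helper18.SetupLft.isSetup_of_locallyOfFiniteType s.g' δD hD s.δX' s.compatX

include hL in
theorem inv : PicF.IsInvertible ((Scheme.Modules.pullback s.g).obj L) :=
  Groth.Agent.Lib.Helper29.QCoh.isInvertible_pullback s.g hL

include hδ in
theorem compat_f' : Cyc.DeltaCompat s.f' s.δX' s.δY' := by
  refine deltaCompat_cancel s.f' s.g s.δX' s.δY' δX ?_ s.compatY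
  rw [s.isPullback.w]
  exact Bivar.deltaCompat_comp s.g' i s.δX' δD δX s.compatX hδ

include hδ in
theorem eδ : s.δX' = fun e => s.δY' (s.f' e) :=
  deltaCompat_unique s.f' _ _ s.δY' (compat_f' hδ s)
    (Groth.Agent.Lib.Helper18.ClImm.deltaCompat s.f' s.δY')

/-- the section cutting out `s.f'` -/
noncomputable def tau : ((Scheme.Modules.pullback s.g).obj L).presheaf.obj (Opposite.op ⊤) :=
  Groth.Agent.Lib.Helper18.ZSP.pullSection s.g L σ

include hL hσ in
theorem htau : Cyc.IsZeroSchemeOf s.f' ((Scheme.Modules.pullback s.g).obj L) (tau σ s) :=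
  Groth.Agent.Lib.Helper18.ZSP.isZeroSchemeOf_pullSection hL σ hσ s.isPullback

/-- the Gysin cycle on a square -/
noncomputable def gc (α : AlgebraicCycle s.Y' ℤ) : AlgebraicCycle s.X' ℤ :=
  gcyc s.δY' (isSetupY hX s) (inv hL s) (tau σ s) s.f' α

theorem gc_apply (α : AlgebraicCycle s.Y' ℤ) (e : s.X') :
    gc hX hL σ s α e = Cyc.c1CapFun s.δY' ((Scheme.Modules.pullback s.g).obj L) ⇑α
      (Cyc.gysinChoice ((Scheme.Modules.pullback s.g).obj L) (tau σ s) (sec (inv hL s)))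
      (s.f' e) := rfl

include hδ in
theorem gc_mem (k : ℤ) (α : AlgebraicCycle s.Y' ℤ) (hα : α ∈ Cyc.Zk s.Y' s.δY' k) :
    gc hX hL σ s α ∈ Cyc.Zk s.X' s.δX' (k - 1) :=
  gcyc_mem s.δY' (isSetupY hX s) (inv hL s) (tau σ s) s.f' s.δX' (eδ hδ s) k α hα

/-- the operation of the Gysin class -/
noncomputable def op (k : ℤ) : ChowOps.CH s.Y' s.δY' k →+ ChowOps.CH s.X' s.δX' (k - 1) :=
  gop s.δY' (isSetupY hX s) (inv hL s) (tau σ s) s.f' (htau hL σ hσ s) s.δX' (eδ hδ s) k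

theorem op_cl (k : ℤ) (α : AlgebraicCycle s.Y' ℤ) (hα : α ∈ Cyc.Zk s.Y' s.δY' k) :
    op hX hδ hL σ hσ s k (ChowOps.cl α hα) =
      ChowOps.cl (gc hX hL σ s α) (gc_mem hX hδ hL σ s k α hα) := rfl

/-- the defining property -/
theorem op_eq (τ : ((Scheme.Modules.pullback s.g).obj L).presheaf.obj (Opposite.op ⊤))
    (hτ : Cyc.IsZeroSchemeOf s.f' ((Scheme.Modules.pullback s.g).obj L) τ) (k : ℤ)
    (α : AlgebraicCycle s.Y' ℤ) (hα : α ∈ Cyc.Zk s.Y' s.δY' k)
    (w : (ξ : s.Y') → Cyc.secFibre ((Scheme.Modules.pullback s.g).obj L) ξ) (hw : ∀ ξ, w ξ ≠ 0)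
    (γ : AlgebraicCycle s.X' ℤ)
    (hγc : ∀ d, γ d = Cyc.c1CapFun s.δY' ((Scheme.Modules.pullback s.g).obj L) ⇑α
      (Cyc.gysinChoice ((Scheme.Modules.pullback s.g).obj L) τ w) (s.f' d))
    (hγ : γ ∈ Cyc.Zk s.X' s.δX' (k - 1)) :
    op hX hδ hL σ hσ s k (ChowOps.cl α hα) = ChowOps.cl γ hγ := by
  rw [op_cl]
  apply Groth.Agent.Lib.Helper18.FF11.cl_eq_of_ratEquiv
  rw [eδ hδ s]
  exact gysin_indep s.δY' (isSetupY hX s) hL σ hσ s.isPullback (tau σ s) τ (htau hL σ hσ s) hτ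
    (sec (inv hL s)) w (sec_ne_zero (inv hL s)) hw k α hα _ γ (fun e => rfl) hγc

section Two

variable (t : Bivar.Sq i δD δX) (h : t.Y' ⟶ s.Y') (h' : t.X' ⟶ s.X')
  (w₁ : h ≫ s.g = t.g) (w₂ : h' ≫ s.f' = t.f' ≫ h) (w₃ : h' ≫ s.g' = t.g')

include w₁ w₂ w₃ in
theorem hsq : IsPullback t.f' h' h s.f' :=
  (IsPullback.of_right (by rw [w₃, w₁]; exact t.isPullback.flip) w₂ s.isPullback.flip).flip

include w₁ in
theorem compat_h : Cyc.DeltaCompat h t.δY' s.δY' :=
  deltaCompat_cancel h s.g t.δY' s.δY' δX (w₁ ▸ t.compatY) s.compatY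

include w₃ in
theorem compat_h' : Cyc.DeltaCompat h' t.δX' s.δX' :=
  deltaCompat_cancel h' s.g' t.δX' s.δX' δD (w₃ ▸ t.compatX) s.compatX

/-- the comparison isomorphism of the pulled back modules -/
noncomputable def eIso : (Scheme.Modules.pullback h).obj ((Scheme.Modules.pullback s.g).obj L) ≅
    (Scheme.Modules.pullback t.g).obj L :=
  (Scheme.Modules.pullbackComp h s.g).app L ≪≫ (Scheme.Modules.pullbackCongr w₁).app L

include hL in
theorem invh : PicF.IsInvertible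
    ((Scheme.Modules.pullback h).obj ((Scheme.Modules.pullback s.g).obj L)) :=
  Groth.Agent.Lib.Helper29.QCoh.isInvertible_pullback h (inv hL s)

/-- the transported Gysin cycle -/
theorem gc_transport (β : AlgebraicCycle t.Y' ℤ) (z : t.X') :
    gc hX hL σ t β z = Cyc.c1CapFun t.δY'
      ((Scheme.Modules.pullback h).obj ((Scheme.Modules.pullback s.g).obj L)) ⇑β
      (Cyc.gysinChoice _ ((eIso s t h w₁ (L := L)).symm.hom.app ⊤ (tau σ t))
        (fun ξ => Groth.Agent.Lib.Helper18.BV2.fibreMap (eIso s t h w₁ (L := L)).symm ξ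
          (sec (inv hL t) ξ))) (t.f' z) := by
  rw [gc_apply]
  have h1 : Cyc.gysinChoice
      ((Scheme.Modules.pullback h).obj ((Scheme.Modules.pullback s.g).obj L))
      ((eIso s t h w₁ (L := L)).symm.hom.app ⊤ (tau σ t))
      (fun ξ => Groth.Agent.Lib.Helper18.BV2.fibreMap (eIso s t h w₁ (L := L)).symm ξ
        (sec (inv hL t) ξ)) =
      fun ξ => Groth.Agent.Lib.Helper18.BV2.fibreMap (eIso s t h w₁ (L := L)).symm ξ
        (Cyc.gysinChoice _ (tau σ t) (sec (inv hL t)) ξ) :=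
    funext (Groth.Agent.Lib.Helper18.GP2.gysinChoice_iso _ (tau σ t) (sec (inv hL t)))
  rw [h1]
  exact (congrFun (Groth.Agent.Lib.Helper18.BV2.c1CapFun_iso (eIso s t h w₁ (L := L)).symm t.δY'
    (isSetupY hX t) (inv hL t) (invh hL s t h) ⇑β
    (Cyc.gysinChoice _ (tau σ t) (sec (inv hL t)))
    (Groth.Agent.Lib.Helper18.KF17.gysinChoice_ne_zero (tau σ t) _ (sec_ne_zero (inv hL t)))) _).symm

end Two

end Groth.Agent.Lib.Helper18.GC2
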