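import Mathlib
import Groth.Prelude.Def_Bivar2
import Groth.Agent.Lib.Helper18.GC2

/-!
# The Gysin bivariant class
-/

set_option autoImplicit false
set_option linter.unusedSectionVars false
set_option linter.style.haveILetI false
universe u
open CategoryTheory AlgebraicGeometry TopologicalSpace Limits

namespace Groth.Agent.Lib.Helper18.GC3

open Groth.Agent.Lib.Helper18.FF8 Groth.Agent.Lib.Helper18.OC1 Groth.Agent.Lib.Helper18.GC1
  Groth.Agent.Lib.Helper18.GC2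

variable {X D : Scheme.{u}} {δX : X → ℤ} {δD : D → ℤ} (hX : Cyc.IsSetup X δX)
  (hD : Cyc.IsSetup D δD) {i : D ⟶ X} [IsClosedImmersion i] (hδ : Cyc.DeltaCompat i δD δX)
  {L : X.Modules} (hL : PicF.IsInvertible L) (σ : L.presheaf.obj (Opposite.op ⊤))
  (hσ : Cyc.IsZeroSchemeOf i L σ) (s t : Bivar.Sq i δD δX)

set_option maxHeartbeats 1600000 in
theorem push_ok (h : t.Y' ⟶ s.Y') [IsProper h] (h' : t.X' ⟶ s.X') [IsProper h']
    (w₁ : h ≫ s.g = t.g) (w₂ : h' ≫ s.f' = t.f' ≫ h) (w₃ : h' ≫ s.g' = t.g') (k : ℤ) :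
    Bivar.PushOK t.δY' t.δX' s.δY' s.δX' h h' (op hX hδ hL σ hσ t k) (op hX hδ hL σ hσ s k) := by
  intro α hα
  refine ⟨gc hX hL σ t α, gc_mem hX hδ hL σ t k α hα, GC2.op_cl hX hδ hL σ hσ t k α hα, ?_⟩
  rw [GC2.op_cl]
  apply Groth.Agent.Lib.Helper18.FF11.cl_eq_of_ratEquiv
  have hα' : α ∈ Cyc.Zk t.Y' t.δY' (k - 1 + 1) := by rwa [sub_add_cancel]
  have key := Groth.Agent.Lib.Helper18.GP1.gysin_push s.δY' t.δY' (isSetupY hX s) (isSetupY hX t) h
    (compat_h s t h w₁) ((Scheme.Modules.pullback s.g).obj L) (inv hL s) (tau σ s) s.f'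
    (htau hL σ hσ s) t.f' h' (hsq s t h h' w₁ w₂ w₃)
    ((eIso s t h w₁ (L := L)).symm.hom.app ⊤ (tau σ t))
    (Groth.Agent.Lib.Helper18.GP2.isZeroSchemeOf_iso (eIso s t h w₁ (L := L)).symm t.f' (tau σ t)
      (htau hL σ hσ t))
    (k - 1) α hα' (sec (inv hL s)) (sec_ne_zero (inv hL s))
    (fun ξ => Groth.Agent.Lib.Helper18.BV2.fibreMap (eIso s t h w₁ (L := L)).symm ξ
      (sec (inv hL t) ξ))
    (fun ξ => Groth.Agent.Lib.Helper18.BV2.fibreMap_ne_zero (eIso s t h w₁ (L := L)).symm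
      (inv hL t) (invh hL s t h) ξ _ (sec_ne_zero (inv hL t) ξ))
    (gc hX hL σ s (AlgebraicCycle.map h t.δY' s.δY' α)) (fun d => rfl)
    (gc hX hL σ t α) (gc_transport hX hL σ s t h w₁ α)
  rw [eδ hδ s, eδ hδ t]
  exact key

set_option maxHeartbeats 1600000 in
include hD in
theorem pull_ok (h : t.Y' ⟶ s.Y') [Flat h] (h' : t.X' ⟶ s.X') [Flat h'] (r : ℕ)
    (hr : Cyc.HasRelDim h r) (hr' : Cyc.HasRelDim h' r)
    (w₁ : h ≫ s.g = t.g) (w₂ : h' ≫ s.f' = t.f' ≫ h) (w₃ : h' ≫ s.g' = t.g') (k : ℤ) :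
    Bivar.PullOK s.δY' s.δX' t.δY' t.δX' h h' (r : ℤ) (op hX hδ hL σ hσ s k)
      (op hX hδ hL σ hσ t (k + r)) := by
  intro α hα
  refine ⟨gc hX hL σ s α, gc_mem hX hδ hL σ s k α hα, GC2.op_cl hX hδ hL σ hσ s k α hα, ?_⟩
  intro α₁ hα₁c hα₁
  haveI := s.lft
  haveI : LocallyOfFiniteType s.g' := MorphismProperty.of_isPullback s.isPullback inferInstance
  haveI : LocallyOfFiniteType (h ≫ s.g) := by rw [w₁]; exact t.lft
  haveI : LocallyOfFiniteType h := locallyOfFiniteType_of_comp h s.g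
  haveI : LocallyOfFiniteType (h' ≫ s.g') := by
    rw [w₃]
    haveI := t.lft
    exact MorphismProperty.of_isPullback t.isPullback inferInstance
  haveI : LocallyOfFiniteType h' := locallyOfFiniteType_of_comp h' s.g'
  have hshift : ∀ x' : t.Y', (∀ y, h y = h x' → y ⤳ x' → y = x') →
      t.δY' x' = s.δY' (h x') + (r : ℤ) := fun x' hmax =>
    Groth.Agent.Lib.Helper18.RelDimShift.shift_of_hasRelDim h t.δY' s.δY' r hr
      (compat_h s t h w₁) x' hmax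
  have hshift' : ∀ x' : t.X', (∀ y, h' y = h' x' → y ⤳ x' → y = x') →
      t.δX' x' = s.δX' (h' x') + (r : ℤ) := fun x' hmax =>
    Groth.Agent.Lib.Helper18.RelDimShift.shift_of_hasRelDim h' t.δX' s.δX' r hr'
      (compat_h' s t h' w₃) x' hmax
  set β₁ := Groth.Agent.Lib.Helper18.FlatPullC1.pullCycle h' s.δX' t.δX' (isSetupX hD t) (r : ℤ)
    hshift' (gc hX hL σ s α) with hβ₁def
  have hβ₁ : β₁ ∈ Cyc.Zk t.X' t.δX' (k + r - 1) := by
    have := Bivar.pullFun_mem_Zk h' t.δX' s.δX' (r : ℤ) (k - 1) (gc_mem hX hδ hL σ s k α hα) β₁ rfl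
    have e : k - 1 + (r : ℤ) = k + r - 1 := by ring
    rwa [e] at this
  refine ⟨β₁, hβ₁, rfl, ?_⟩
  rw [GC2.op_cl]
  apply Groth.Agent.Lib.Helper18.FF11.cl_eq_of_ratEquiv
  have hα' : α ∈ Cyc.Zk s.Y' s.δY' (k - 1 + 1) := by rwa [sub_add_cancel]
  have key := Groth.Agent.Lib.Helper18.FF10.gysin_flat_pull s.δY' t.δY' (isSetupY hX s)
    (isSetupY hX t) h (r : ℤ) hshift ((Scheme.Modules.pullback s.g).obj L) (inv hL s) (tau σ s)
    s.f' (htau hL σ hσ s) t.f' h' (hsq s t h h' w₁ w₂ w₃)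
    ((eIso s t h w₁ (L := L)).symm.hom.app ⊤ (tau σ t))
    (Groth.Agent.Lib.Helper18.GP2.isZeroSchemeOf_iso (eIso s t h w₁ (L := L)).symm t.f' (tau σ t)
      (htau hL σ hσ t))
    (k - 1) α hα' (sec (inv hL s)) (sec_ne_zero (inv hL s))
    (fun ξ => Groth.Agent.Lib.Helper18.BV2.fibreMap (eIso s t h w₁ (L := L)).symm ξ
      (sec (inv hL t) ξ))
    (fun ξ => Groth.Agent.Lib.Helper18.BV2.fibreMap_ne_zero (eIso s t h w₁ (L := L)).symm
      (inv hL t) (invh hL s t h) ξ _ (sec_ne_zero (inv hL t) ξ))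
    (gc hX hL σ t α₁) β₁
    (by
      intro z
      rw [gc_transport hX hL σ s t h w₁ α₁ z, hα₁c])
    (by
      rw [← eδ hδ s, ← eδ hδ t]
      rfl)
  have e : k + (r : ℤ) - 1 = k - 1 + r := by ring
  rw [eδ hδ t, e]
  exact key

end Groth.Agent.Lib.Helper18.GC3
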