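import Mathlib
import Groth.Prelude.Def_Bivar2
import Groth.Agent.Lib.Helper18.GC3

/-!
# The Gysin bivariant class: Gysin compatibility and the class
-/

set_option autoImplicit false
set_option linter.unusedSectionVars false
set_option linter.style.haveILetI false
universe u
open CategoryTheory AlgebraicGeometry TopologicalSpace Limits

namespace Groth.Agent.Lib.Helper18.GC4

open Groth.Agent.Lib.Helper18.FF8 Groth.Agent.Lib.Helper18.OC1 Groth.Agent.Lib.Helper18.GC1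
  Groth.Agent.Lib.Helper18.GC2 Groth.Agent.Lib.Helper18.GC3

variable {X D : Scheme.{u}} {δX : X → ℤ} {δD : D → ℤ} (hX : Cyc.IsSetup X δX)
  (hD : Cyc.IsSetup D δD) {i : D ⟶ X} [IsClosedImmersion i] (hδ : Cyc.DeltaCompat i δD δX)
  {L : X.Modules} (hL : PicF.IsInvertible L) (σ : L.presheaf.obj (Opposite.op ⊤))
  (hσ : Cyc.IsZeroSchemeOf i L σ) (s t : Bivar.Sq i δD δX)

set_option maxHeartbeats 1600000 in
include hD in
theorem gysin_ok (i₁ : t.Y' ⟶ s.Y') [IsClosedImmersion i₁] (j : t.X' ⟶ s.X')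
    [IsClosedImmersion j]
    (w₁ : i₁ ≫ s.g = t.g) (w₂ : j ≫ s.f' = t.f' ≫ i₁) (w₃ : j ≫ s.g' = t.g')
    (N : s.Y'.Modules) (hN : PicF.IsInvertible N) (σ₁ : N.presheaf.obj (Opposite.op ⊤))
    (hσ₁ : Cyc.IsZeroSchemeOf i₁ N σ₁)
    (τ₁ : ((Scheme.Modules.pullback s.f').obj N).presheaf.obj (Opposite.op ⊤))
    (hτ₁ : Cyc.IsZeroSchemeOf j ((Scheme.Modules.pullback s.f').obj N) τ₁) (k : ℤ) :
    Bivar.GysinOK s.δY' t.δY' s.δX' t.δX' i₁ N σ₁ j ((Scheme.Modules.pullback s.f').obj N) τ₁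
      (op hX hδ hL σ hσ s k) (op hX hδ hL σ hσ t (k - 1)) := by
  intro α hα
  refine ⟨gc hX hL σ s α, gc_mem hX hδ hL σ s k α hα, GC2.op_cl hX hδ hL σ hσ s k α hα, ?_⟩
  intro w hw γ hγc hγ w' hw'
  have hN' : PicF.IsInvertible ((Scheme.Modules.pullback s.f').obj N) :=
    Groth.Agent.Lib.Helper29.QCoh.isInvertible_pullback s.f' hN
  have hXs := isSetupX hD s
  set Γ := Groth.Agent.Lib.Helper18.KF21.c1CapCycle s.δX' hXs hN' (gc hX hL σ s α)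
    (Cyc.gysinChoice ((Scheme.Modules.pullback s.f').obj N) τ₁ w')
    (Groth.Agent.Lib.Helper18.KF17.gysinChoice_ne_zero τ₁ w' hw') with hΓ
  have eδj : t.δX' = fun z => s.δX' (j z) :=
    deltaCompat_unique j _ _ s.δX' (compat_h' s t j w₃)
      (Groth.Agent.Lib.Helper18.ClImm.deltaCompat j s.δX')
  have hζmem : Groth.Agent.Lib.Helper18.SubCyc.comapCycle j Γ ∈
      Cyc.Zk t.X' t.δX' (k - 1 - 1) :=
    gysin_mem s.δX' τ₁ j t.δX' eδj (k - 1) (gc hX hL σ s α) (gc_mem hX hδ hL σ s k α hα) w' _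
      (fun e => rfl)
  refine ⟨Groth.Agent.Lib.Helper18.SubCyc.comapCycle j Γ, hζmem, fun e => rfl, ?_⟩
  rw [GC2.op_cl]
  symm
  apply Groth.Agent.Lib.Helper18.FF11.cl_eq_of_ratEquiv
  have hP : IsPullback j t.f' s.f' i₁ := (hsq s t i₁ j w₁ w₂ w₃).flip
  have eδY : t.δY' = fun d => s.δY' (i₁ d) :=
    deltaCompat_unique i₁ _ _ s.δY' (compat_h s t i₁ w₁)
      (Groth.Agent.Lib.Helper18.ClImm.deltaCompat i₁ s.δY')
  have key := Groth.Agent.Lib.Helper18.GG1.gysin_comm s.δY' (isSetupY hX s)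
    ((Scheme.Modules.pullback s.g).obj L) N (inv hL s) hN (tau σ s) σ₁ s.f' i₁
    (htau hL σ hσ s) hσ₁ hP τ₁ hτ₁
    ((eIso s t i₁ w₁ (L := L)).symm.hom.app ⊤ (tau σ t))
    (Groth.Agent.Lib.Helper18.GP2.isZeroSchemeOf_iso (eIso s t i₁ w₁ (L := L)).symm t.f' (tau σ t)
      (htau hL σ hσ t))
    k α hα (sec (inv hL s)) (sec_ne_zero (inv hL s)) w hw w' hw'
    (fun ξ => Groth.Agent.Lib.Helper18.BV2.fibreMap (eIso s t i₁ w₁ (L := L)).symm ξ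
      (sec (inv hL t) ξ))
    (fun ξ => Groth.Agent.Lib.Helper18.BV2.fibreMap_ne_zero (eIso s t i₁ w₁ (L := L)).symm
      (inv hL t) (invh hL s t i₁) ξ _ (sec_ne_zero (inv hL t) ξ))
    (⇑(gc hX hL σ s α)) (funext fun d => rfl) (⇑γ) (funext hγc)
    (Groth.Agent.Lib.Helper18.SubCyc.comapCycle j Γ) (gc hX hL σ t γ)
    (by
      intro z
      rw [← eδ hδ s]
      rfl)
    (by
      intro z
      rw [← eδY]
      exact gc_transport hX hL σ s t i₁ w₁ γ z)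
  have eδjj : t.δX' = fun z => s.δY' (s.f' (j z)) := by
    rw [eδj, eδ hδ s]
  have e2 : k - 1 - 1 = k - 2 := by ring
  rw [e2, eδjj]
  exact key

/-- the Gysin bivariant class -/
noncomputable def gysinCl : Bivar.Cl 1 i δD δX where
  op s k := op hX hδ hL σ hσ s k
  push s t h _ h' _ w₁ w₂ w₃ k := push_ok hX hδ hL σ hσ s t h h' w₁ w₂ w₃ k
  pull s t h _ h' _ r hr hr' w₁ w₂ w₃ k := pull_ok hX hD hδ hL σ hσ s t h h' r hr hr' w₁ w₂ w₃ k
  gysin s t i₁ _ j _ w₁ w₂ w₃ N hN σ₁ hσ₁ τ₁ hτ₁ k :=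
    gysin_ok hX hD hδ hL σ hσ s t i₁ j w₁ w₂ w₃ N hN σ₁ hσ₁ τ₁ hτ₁ k

theorem gysinCl_isGysinClass :
    Bivar.IsGysinClass i L σ (gysinCl hX hD hδ hL σ hσ) :=
  ⟨hL, hσ, hδ, fun s τ hτ k α hα w hw γ hγc hγ =>
    op_eq hX hδ hL σ hσ s τ hτ k α hα w hw γ hγc hγ⟩

end Groth.Agent.Lib.Helper18.GC4
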