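import Mathlib
import Groth.Agent.Lib.Helper9.FlatArtin
import Groth.Agent.Lib.Helper18.FlC1

/-!
# The generic flattening ideal: the case of a module free modulo a nilpotent ideal
-/

set_option autoImplicit false

namespace Groth.Agent.Lib.Helper18.GFl

open TensorProduct Function

universe u

section BCbij

variable {T : Type*} [CommRing T] {F P : Type*} [AddCommGroup F] [Module T F] [AddCommGroup P]
  [Module T P] (φ : F →ₗ[T] P)

theorem baseChange_comp_cancelBaseChange (T₂ T₃ : Type*) [CommRing T₂] [CommRing T₃]
    [Algebra T T₂] [Algebra T T₃] [Algebra T₂ T₃] [IsScalarTower T T₂ T₃]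
    (z : T₃ ⊗[T₂] (T₂ ⊗[T] F)) :
    φ.baseChange T₃ (TensorProduct.AlgebraTensorModule.cancelBaseChange T T₂ T₃ T₃ F z) =
      TensorProduct.AlgebraTensorModule.cancelBaseChange T T₂ T₃ T₃ P
        ((φ.baseChange T₂).baseChange T₃ z) := by
  induction z using TensorProduct.induction_on with
  | zero => simp
  | add x y hx hy => simp only [map_add, hx, hy]
  | tmul t₃ y =>
    induction y using TensorProduct.induction_on with
    | zero => simp
    | add x y hx hy => simp only [TensorProduct.tmul_add, map_add, hx, hy]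
    | tmul t₂ x => simp

theorem baseChange_baseChange_bijective_iff (T₂ T₃ : Type*) [CommRing T₂] [CommRing T₃]
    [Algebra T T₂] [Algebra T T₃] [Algebra T₂ T₃] [IsScalarTower T T₂ T₃] :
    Bijective ((φ.baseChange T₂).baseChange T₃) ↔ Bijective (φ.baseChange T₃) := by
  have key := baseChange_comp_cancelBaseChange φ T₂ T₃
  have h1 : ⇑((φ.baseChange T₂).baseChange T₃) =
      (TensorProduct.AlgebraTensorModule.cancelBaseChange T T₂ T₃ T₃ P).symm ∘
        (φ.baseChange T₃) ∘ (TensorProduct.AlgebraTensorModule.cancelBaseChange T T₂ T₃ T₃ F) := by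
    funext z
    simp only [Function.comp_apply]
    rw [key, LinearEquiv.symm_apply_apply]
  rw [h1]
  rw [Function.Bijective.of_comp_iff' (LinearEquiv.bijective _),
    Function.Bijective.of_comp_iff _ (LinearEquiv.bijective _)]

theorem baseChange_bijective_of_tower (T₂ T₃ : Type*) [CommRing T₂] [CommRing T₃]
    [Algebra T T₂] [Algebra T T₃] [Algebra T₂ T₃] [IsScalarTower T T₂ T₃]
    (h : Bijective (φ.baseChange T₂)) : Bijective (φ.baseChange T₃) := by
  rw [← baseChange_baseChange_bijective_iff φ T₂ T₃]
  let e := LinearEquiv.ofBijective (φ.baseChange T₂) h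
  have : ⇑((φ.baseChange T₂).baseChange T₃) = ⇑(e.baseChange T₂ T₃ _ _) := by
    funext z
    rfl
  rw [this]
  exact LinearEquiv.bijective _

end BCbij

end Groth.Agent.Lib.Helper18.GFl
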