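import Mathlib
import Groth.Agent.Lib.Helper18.GFl1

/-!
# The generic flattening ideal: the case of a module free modulo a nilpotent ideal (II)
-/

set_option autoImplicit false

namespace Groth.Agent.Lib.Helper18.GFl

open TensorProduct Function

universe u

section NLiso

variable {T : Type*} [CommRing T] (q : Ideal T) {F P : Type*} [AddCommGroup F] [Module T F]
  [AddCommGroup P] [Module T P] (φ : F →ₗ[T] P)

theorem surjective_of_baseChange_quotient_surjective (hq : IsNilpotent q)
    (h : Surjective (φ.baseChange (T ⧸ q))) : Surjective φ := by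
  rw [← LinearMap.range_eq_top]
  refine Groth.Agent.Lib.Helper9.eq_top_of_sup_smul_top_eq_top q hq _ ?_
  rw [eq_top_iff]
  intro p _
  obtain ⟨z, hz⟩ := h ((1 : T ⧸ q) ⊗ₜ[T] p)
  obtain ⟨f, rfl⟩ := Groth.Agent.Lib.Helper18.Fl.exists_one_tmul q z
  rw [LinearMap.baseChange_tmul] at hz
  have h0 : TensorProduct.mk T (T ⧸ q) P 1 (p - φ f) = 0 := by
    rw [map_sub]
    change (1 : T ⧸ q) ⊗ₜ[T] p - (1 : T ⧸ q) ⊗ₜ[T] φ f = 0
    rw [hz, sub_self]
  have h1 : p - φ f ∈ LinearMap.ker (TensorProduct.mk T (T ⧸ q) P 1) := h0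
  rw [LinearMap.ker_tensorProductMk (Q := P) (I := q)] at h1
  have : p = φ f + (p - φ f) := by abel
  rw [this]
  exact Submodule.add_mem_sup (LinearMap.mem_range_self φ f) h1

theorem bijective_of_baseChange_quotient_bijective [Module.Flat T P] (hq : IsNilpotent q)
    (h : Bijective (φ.baseChange (T ⧸ q))) : Bijective φ := by
  have hφs : Surjective φ := surjective_of_baseChange_quotient_surjective q φ hq h.2
  refine ⟨?_, hφs⟩
  have h3a : Injective ((LinearMap.ker φ).subtype.lTensor (T ⧸ q)) :=
    Groth.Agent.Lib.Helper9.lTensor_ker_subtype_injective_of_flat φ hφs q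
  have hφk : Injective (φ.lTensor (T ⧸ q)) := h.1
  have h3c : Subsingleton ((T ⧸ q) ⊗[T] (LinearMap.ker φ)) := by
    refine ⟨fun y z => h3a (hφk ?_)⟩
    have h0 : φ ∘ₗ (LinearMap.ker φ).subtype = 0 := by
      ext ⟨a, ha⟩
      exact ha
    rw [← LinearMap.lTensor_comp_apply, ← LinearMap.lTensor_comp_apply, h0]
    simp
  have h3d : Subsingleton (LinearMap.ker φ) :=
    Groth.Agent.Lib.Helper9.subsingleton_of_subsingleton_quotient_tensor q hq
  rw [injective_iff_map_eq_zero]
  intro x hx
  have h2 : (⟨x, hx⟩ : LinearMap.ker φ) = 0 := Subsingleton.elim _ _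
  exact congrArg Subtype.val h2

end NLiso

section Coord

variable {T : Type*} [CommRing T] {ι : Type*} (T' : Type*) [CommRing T'] [Algebra T T']

theorem one_tmul_eq_zero_iff (k : ι →₀ T) :
    (1 : T') ⊗ₜ[T] k = 0 ↔ ∀ i, algebraMap T T' (k i) = 0 := by
  classical
  let b : Module.Basis ι T' (T' ⊗[T] (ι →₀ T)) := (Finsupp.basisSingleOne).baseChange T'
  rw [← b.repr.map_eq_zero_iff, Finsupp.ext_iff]
  refine forall_congr' fun i => ?_
  rw [Module.Basis.baseChange_repr_tmul, Finsupp.zero_apply, Finsupp.basisSingleOne_repr,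
    LinearEquiv.refl_apply, Algebra.smul_def, mul_one]

end Coord

section Aux

theorem lTensor_ker_exact {T : Type*} [CommRing T] {F P : Type*} [AddCommGroup F] [Module T F]
    [AddCommGroup P] [Module T P] (φ : F →ₗ[T] P) (hφs : Surjective φ) (T' : Type*) [CommRing T']
    [Algebra T T'] :
    Function.Exact ((LinearMap.ker φ).subtype.lTensor T') (φ.lTensor T') := by
  have := lTensor_exact T' (LinearMap.exact_subtype_ker_map φ) hφs
  exact this

end Aux

section Main

theorem exists_flattening_ideal_of_free_quotient {T : Type u} [CommRing T] (q : Ideal T)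
    (hq : IsNilpotent q) (P : Type u) [AddCommGroup P] [Module T P]
    (hfree : Module.Free (T ⧸ q) ((T ⧸ q) ⊗[T] P)) :
    ∃ J : Ideal T, J ≤ q ∧ ∀ (T' : Type u) [CommRing T'] [Algebra T T'],
      (Module.Flat T' (T' ⊗[T] P) ↔ J.map (algebraMap T T') = ⊥) := by
  classical
  let k := T ⧸ q
  let ι := Module.Free.ChooseBasisIndex k (k ⊗[T] P)
  let w : Module.Basis ι k (k ⊗[T] P) := Module.Free.chooseBasis k (k ⊗[T] P)
  have ⟨v, hv⟩ := (TensorProduct.mk_surjective T P k Ideal.Quotient.mk_surjective).comp_left w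
  have hv' : ∀ i, (1 : k) ⊗ₜ[T] v i = w i := fun i => congrFun hv i
  let φ : (ι →₀ T) →ₗ[T] P := Finsupp.linearCombination T v
  have hbij : Bijective (φ.baseChange k) := by
    let b : Module.Basis ι k (k ⊗[T] (ι →₀ T)) := (Finsupp.basisSingleOne).baseChange k
    have h1 : φ.baseChange k = (b.equiv w (Equiv.refl ι)).toLinearMap := by
      refine b.ext fun i => ?_
      have h2 : b i = (1 : k) ⊗ₜ[T] Finsupp.single i (1 : T) := by
        simp [b]
      rw [LinearEquiv.coe_coe, Module.Basis.equiv_apply, h2, LinearMap.baseChange_tmul,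
        Equiv.refl_apply, ← hv' i]
      congr 1
      exact (Finsupp.linearCombination_single T 1 i).trans (one_smul _ _)
    rw [h1]
    exact (b.equiv w (Equiv.refl ι)).bijective
  have hφs : Surjective φ := surjective_of_baseChange_quotient_surjective q φ hq hbij.2
  obtain ⟨J, hJdef⟩ : ∃ J : Ideal T,
      J = Ideal.span {a | ∃ x ∈ LinearMap.ker φ, ∃ i, a = x i} := ⟨_, rfl⟩
  have hJmem : ∀ x ∈ LinearMap.ker φ, ∀ i, x i ∈ J := by
    intro x hx i
    rw [hJdef]
    exact Ideal.subset_span ⟨x, hx, i, rfl⟩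
  refine ⟨J, ?_, ?_⟩
  · rw [hJdef, Ideal.span_le]
    rintro _ ⟨x, hx, i, rfl⟩
    have h1 : φ.baseChange k ((1 : k) ⊗ₜ[T] x) = 0 := by
      rw [LinearMap.baseChange_tmul, LinearMap.mem_ker.mp hx, TensorProduct.tmul_zero]
    have h2 : (1 : k) ⊗ₜ[T] x = 0 := hbij.1 (h1.trans (map_zero _).symm)
    have h3 := (one_tmul_eq_zero_iff k x).mp h2 i
    exact Ideal.Quotient.eq_zero_iff_mem.mp h3
  · intro T' _ _
    have hker : ∀ x ∈ LinearMap.ker φ,
        (φ.baseChange T') ((1 : T') ⊗ₜ[T] x) = 0 := by
      intro x hx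
      rw [LinearMap.baseChange_tmul, LinearMap.mem_ker.mp hx, TensorProduct.tmul_zero]
    constructor
    · intro hflat
      -- bijectivity of the base change
      have hq' : IsNilpotent (q.map (algebraMap T T')) := by
        obtain ⟨n, hn⟩ := hq
        refine ⟨n, ?_⟩
        rw [← Ideal.map_pow, hn, Ideal.zero_eq_bot, Ideal.map_bot]
        rfl
      have hb3 : Bijective (φ.baseChange (T' ⧸ q.map (algebraMap T T'))) :=
        baseChange_bijective_of_tower φ k (T' ⧸ q.map (algebraMap T T')) hbij
      have hb4 : Bijective ((φ.baseChange T').baseChange (T' ⧸ q.map (algebraMap T T'))) :=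
        (baseChange_baseChange_bijective_iff φ T' (T' ⧸ q.map (algebraMap T T'))).mpr hb3
      have hb5 : Bijective (φ.baseChange T') :=
        bijective_of_baseChange_quotient_bijective (q.map (algebraMap T T')) _ hq' hb4
      rw [Ideal.map_eq_bot_iff_le_ker, hJdef, Ideal.span_le]
      rintro _ ⟨x, hx, i, rfl⟩
      have h2 : (1 : T') ⊗ₜ[T] x = 0 := hb5.1 ((hker x hx).trans (map_zero _).symm)
      exact (one_tmul_eq_zero_iff T' x).mp h2 i
    · intro hJ0
      have hzero : ∀ x ∈ LinearMap.ker φ, (1 : T') ⊗ₜ[T] x = 0 := by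
        intro x hx
        rw [one_tmul_eq_zero_iff]
        intro i
        have : algebraMap T T' (x i) ∈ J.map (algebraMap T T') :=
          Ideal.mem_map_of_mem _ (hJmem x hx i)
        rw [hJ0] at this
        exact this
      have hex := lTensor_ker_exact φ hφs T'
      have hz : (LinearMap.ker φ).subtype.lTensor T' = 0 := by
        apply TensorProduct.ext'
        intro t x
        rw [LinearMap.lTensor_tmul, LinearMap.zero_apply]
        have : t ⊗ₜ[T] ((LinearMap.ker φ).subtype x) = t • ((1 : T') ⊗ₜ[T] (x : ι →₀ T)) := by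
          rw [TensorProduct.smul_tmul', smul_eq_mul, mul_one]
          rfl
        rw [this, hzero x x.2, smul_zero]
      have hinj : Injective (φ.baseChange T') := by
        rw [injective_iff_map_eq_zero]
        intro z hzz
        obtain ⟨y, rfl⟩ := (hex z).mp hzz
        rw [hz, LinearMap.zero_apply]
      have hsurj : Surjective (φ.baseChange T') := LinearMap.lTensor_surjective T' hφs
      exact Module.Flat.of_linearEquiv
        (LinearEquiv.ofBijective (φ.baseChange T') ⟨hinj, hsurj⟩).symm

end Main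

end Groth.Agent.Lib.Helper18.GFl
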