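import Mathlib
import Groth.Agent.Lib.Helper9.FlatArtin

/-!
# Freeness of base changes: transfer along algebra maps and lifting along nilpotent thickenings
-/

set_option autoImplicit false

namespace Groth.Agent.Lib.Helper18.GFr

open TensorProduct Function

section BC

variable {A C C' M : Type*} [CommRing A] [CommRing C] [CommRing C'] [Algebra A C] [Algebra A C']
  [AddCommGroup M] [Module A M]

/-- Freeness of `C ⊗[A] M` over `C` passes to any `A`-algebra `C'` receiving a map from `C`. -/
theorem free_tensor_of_algHom (φ : C →ₐ[A] C') (h : Module.Free C (C ⊗[A] M)) :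
    Module.Free C' (C' ⊗[A] M) := by
  letI : Algebra C C' := φ.toRingHom.toAlgebra
  haveI : IsScalarTower A C C' := IsScalarTower.of_algebraMap_eq (fun x => (φ.commutes x).symm)
  exact Module.Free.of_equiv (TensorProduct.AlgebraTensorModule.cancelBaseChange A C C' C' M)

/-- Freeness of `C ⊗[A] M` over `C` in terms of any base change `W` of `M` to `C`. -/
theorem free_of_isBaseChange {W : Type*} [AddCommGroup W] [Module A W] [Module C W]
    [IsScalarTower A C W] {f : M →ₗ[A] W} (hf : IsBaseChange C f)
    (h : Module.Free C (C ⊗[A] M)) : Module.Free C W :=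
  Module.Free.of_equiv hf.equiv

theorem free_tensor_of_isBaseChange {W : Type*} [AddCommGroup W] [Module A W] [Module C W]
    [IsScalarTower A C W] {f : M →ₗ[A] W} (hf : IsBaseChange C f)
    (h : Module.Free C W) : Module.Free C (C ⊗[A] M) :=
  Module.Free.of_equiv hf.equiv.symm

end BC

section NL

/-- Nilpotent lifting of freeness for flat modules. -/
theorem free_of_flat_of_free_quotient {T : Type*} [CommRing T] (I : Ideal T) (hI : IsNilpotent I)
    (P : Type*) [AddCommGroup P] [Module T P] [Module.Flat T P]
    (h : Module.Free (T ⧸ I) ((T ⧸ I) ⊗[T] P)) : Module.Free T P := by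
  classical
  let k := T ⧸ I
  let ι := Module.Free.ChooseBasisIndex k (k ⊗[T] P)
  let w : Module.Basis ι k (k ⊗[T] P) := Module.Free.chooseBasis k (k ⊗[T] P)
  have ⟨v, hv⟩ := (TensorProduct.mk_surjective T P k Ideal.Quotient.mk_surjective).comp_left w
  have hv' : ∀ i, (1 : k) ⊗ₜ[T] v i = w i := fun i => congrFun hv i
  let F := ι →₀ T
  let φ : F →ₗ[T] P := Finsupp.linearCombination T v
  have hφs : Surjective φ := by
    rw [← LinearMap.range_eq_top, Finsupp.range_linearCombination]
    refine Groth.Agent.Lib.Helper9.eq_top_of_sup_smul_top_eq_top _ hI _ ?_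
    have h1 : (Submodule.span T (Set.range v)).map (TensorProduct.mk T k P 1) = ⊤ := by
      rw [Submodule.map_span, ← Submodule.restrictScalars_span T k Ideal.Quotient.mk_surjective,
        Submodule.restrictScalars_eq_top_iff, ← w.span_eq, ← Set.range_comp, ← hv]
    have h2 := Submodule.comap_map_eq (TensorProduct.mk T k P 1) (Submodule.span T (Set.range v))
    rw [h1, Submodule.comap_top] at h2
    have h3 : LinearMap.ker (TensorProduct.mk T k P 1) = I • ⊤ :=
      LinearMap.ker_tensorProductMk (Q := P) (I := I)
    rw [h3] at h2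
    exact h2.symm
  have hφk : Injective (φ.lTensor k) := by
    let b : Module.Basis ι k (k ⊗[T] F) := (Finsupp.basisSingleOne).baseChange k
    have h1 : φ.baseChange k = (b.equiv w (Equiv.refl ι)).toLinearMap := by
      refine b.ext fun i => ?_
      have h2 : b i = (1 : k) ⊗ₜ[T] Finsupp.single i (1 : T) := by
        simp [b]
      rw [LinearEquiv.coe_coe, Module.Basis.equiv_apply, h2, LinearMap.baseChange_tmul,
        Equiv.refl_apply, ← hv' i]
      congr 1
      exact (Finsupp.linearCombination_single T 1 i).trans (one_smul _ _)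
    change Injective (φ.baseChange k)
    rw [h1]
    exact (b.equiv w (Equiv.refl ι)).injective
  let K : Submodule T F := LinearMap.ker φ
  have h3a : Injective (K.subtype.lTensor k) :=
    Groth.Agent.Lib.Helper9.lTensor_ker_subtype_injective_of_flat φ hφs I
  have h3c : Subsingleton (k ⊗[T] K) := by
    refine ⟨fun y z => h3a (hφk ?_)⟩
    have h0 : φ ∘ₗ K.subtype = 0 := by
      ext ⟨a, ha⟩
      exact ha
    rw [← LinearMap.lTensor_comp_apply, ← LinearMap.lTensor_comp_apply, h0]
    simp
  have h3d : Subsingleton K :=
    Groth.Agent.Lib.Helper9.subsingleton_of_subsingleton_quotient_tensor I hI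
  have hφi : Injective φ := by
    rw [injective_iff_map_eq_zero]
    intro x hx
    have h2 : (⟨x, hx⟩ : K) = 0 := Subsingleton.elim _ _
    exact congrArg Subtype.val h2
  exact Module.Free.of_equiv (LinearEquiv.ofBijective φ ⟨hφi, hφs⟩)

/-- Nilpotent lifting of freeness along a surjection with nilpotent kernel. -/
theorem free_of_flat_of_free_of_surjective {T T' : Type*} [CommRing T] [CommRing T']
    [Algebra T T'] (hs : Surjective (algebraMap T T'))
    (hI : IsNilpotent (RingHom.ker (algebraMap T T')))
    (P : Type*) [AddCommGroup P] [Module T P] [Module.Flat T P]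
    (h : Module.Free T' (T' ⊗[T] P)) : Module.Free T P := by
  have hs' : Surjective (Algebra.ofId T T') := hs
  let e := Ideal.quotientKerAlgEquivOfSurjective hs'
  have h1 : Module.Free (T ⧸ RingHom.ker (Algebra.ofId T T'))
      ((T ⧸ RingHom.ker (Algebra.ofId T T')) ⊗[T] P) :=
    free_tensor_of_algHom e.symm.toAlgHom h
  exact free_of_flat_of_free_quotient _ hI P h1

/-- Relative version: `A → C → C̄` with `C → C̄` surjective with nilpotent kernel and `M` flat
over `A`. -/
theorem free_tensor_of_free_tensor_of_surjective {A C C' M : Type*} [CommRing A] [CommRing C]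
    [CommRing C'] [Algebra A C] [Algebra A C'] [Algebra C C'] [IsScalarTower A C C']
    [AddCommGroup M] [Module A M] [Module.Flat A M]
    (hs : Surjective (algebraMap C C')) (hI : IsNilpotent (RingHom.ker (algebraMap C C')))
    (h : Module.Free C' (C' ⊗[A] M)) : Module.Free C (C ⊗[A] M) := by
  refine free_of_flat_of_free_of_surjective hs hI (C ⊗[A] M) ?_
  exact Module.Free.of_equiv
    (TensorProduct.AlgebraTensorModule.cancelBaseChange A C C' C' M).symm

end NL

end Groth.Agent.Lib.Helper18.GFr
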