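import Mathlib
import Groth.Agent.Lib.Helper18.GFr1

/-!
# Auxiliary constructions for generic freeness with nilpotents
-/

set_option autoImplicit false

namespace Groth.Agent.Lib.Helper18.GFr

open TensorProduct Function

universe u

/-- An `A`-algebra `D` in which `f` is invertible and `I` vanishes receives an `A`-algebra map from
the localization of `A ⧸ I` at `f`. -/
theorem exists_algHom_away_quotient {A : Type*} [CommRing A] (I : Ideal A) (f : A)
    (D : Type*) [CommRing D] [Algebra A D] (hu : IsUnit (algebraMap A D f))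
    (hI : ∀ a ∈ I, algebraMap A D a = 0) :
    Nonempty (Localization.Away (Ideal.Quotient.mk I f) →ₐ[A] D) := by
  let ψ : A ⧸ I →+* D := Ideal.Quotient.lift I (algebraMap A D) hI
  have hψ : IsUnit (ψ (Ideal.Quotient.mk I f)) := by
    change IsUnit (Ideal.Quotient.lift I (algebraMap A D) hI (Ideal.Quotient.mk I f))
    rw [Ideal.Quotient.lift_mk]
    exact hu
  let θ : Localization.Away (Ideal.Quotient.mk I f) →+* D :=
    IsLocalization.Away.lift (Ideal.Quotient.mk I f) hψ
  refine ⟨{ toRingHom := θ, commutes' := fun r => ?_ }⟩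
  change θ (algebraMap A (Localization.Away (Ideal.Quotient.mk I f)) r) = algebraMap A D r
  rw [IsScalarTower.algebraMap_apply A (A ⧸ I) (Localization.Away (Ideal.Quotient.mk I f)) r]
  change IsLocalization.Away.lift (Ideal.Quotient.mk I f) hψ _ = _
  rw [IsLocalization.Away.lift_eq]
  rfl

/-- The quotient pair: `(B ⧸ IB, M ⧸ IBM)` over `A ⧸ I`, with `M ⧸ IBM ≃ (A ⧸ I) ⊗ M`. -/
theorem exists_quotient_pair {A B : Type u} [CommRing A] [CommRing B] [Algebra A B]
    [Algebra.FiniteType A B] (M : Type u) [AddCommGroup M] [Module B M] [Module A M]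
    [IsScalarTower A B M] [Module.Finite B M] (I : Ideal A) :
    ∃ (S : Type u) (_ : CommRing S) (_ : Algebra (A ⧸ I) S) (_ : Algebra.FiniteType (A ⧸ I) S)
      (M' : Type u) (_ : AddCommGroup M') (_ : Module S M') (_ : Module (A ⧸ I) M')
      (_ : IsScalarTower (A ⧸ I) S M') (_ : Module.Finite S M'),
      Nonempty (M' ≃ₗ[A ⧸ I] (A ⧸ I) ⊗[A] M) := by
  let J : Ideal B := I.map (algebraMap A B)
  let N : Submodule B M := J • ⊤
  letI modM' : Module (A ⧸ I) (M ⧸ N) := Module.compHom (M ⧸ N) (algebraMap (A ⧸ I) (B ⧸ J))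
  haveI tw : IsScalarTower (A ⧸ I) (B ⧸ J) (M ⧸ N) :=
    IsScalarTower.of_algebraMap_smul (fun _ _ => rfl)
  haveI ft : Algebra.FiniteType (A ⧸ I) (B ⧸ J) := by
    haveI : Algebra.FiniteType A (B ⧸ J) :=
      Algebra.FiniteType.of_surjective (Ideal.Quotient.mkₐ A J) Ideal.Quotient.mk_surjective
    exact Algebra.FiniteType.of_restrictScalars_finiteType A (A ⧸ I) (B ⧸ J)
  haveI fin : Module.Finite (B ⧸ J) (M ⧸ N) := by
    haveI : Module.Finite B (M ⧸ N) := inferInstance
    exact Module.Finite.of_restrictScalars_finite B (B ⧸ J) (M ⧸ N)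
  haveI tw2 : IsScalarTower A (A ⧸ I) (M ⧸ N) := by
    refine IsScalarTower.of_algebraMap_smul (fun a x => ?_)
    obtain ⟨m, rfl⟩ := Submodule.Quotient.mk_surjective N x
    change (algebraMap (A ⧸ I) (B ⧸ J) (Ideal.Quotient.mk I a)) • (Submodule.Quotient.mk m : M ⧸ N) = _
    rw [Ideal.Quotient.algebraMap_quotient_map_quotient]
    change (Submodule.Quotient.mk ((algebraMap A B a) • m) : M ⧸ N) = _
    rw [algebraMap_smul]
    rfl
  have hN : N.restrictScalars A = I • (⊤ : Submodule A M) := by
    apply le_antisymm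
    · intro x hx
      change x ∈ J • (⊤ : Submodule B M) at hx
      refine Submodule.smul_induction_on hx ?_ ?_
      · intro j hj m _
        change j ∈ Ideal.span ((algebraMap A B) '' I) at hj
        have key : ∀ m : M, j • m ∈ I • (⊤ : Submodule A M) := by
          refine Submodule.span_induction
            (p := fun j _ => ∀ m : M, j • m ∈ I • (⊤ : Submodule A M)) ?_ ?_ ?_ ?_ hj
          · rintro _ ⟨a, ha, rfl⟩ m
            rw [algebraMap_smul]
            exact Submodule.smul_mem_smul ha Submodule.mem_top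
          · intro m
            rw [zero_smul]; exact Submodule.zero_mem _
          · intro x y _ _ hx hy m
            rw [add_smul]; exact Submodule.add_mem _ (hx m) (hy m)
          · intro b x _ hx m
            rw [smul_eq_mul, mul_comm, mul_smul]
            exact hx (b • m)
        exact key m
      · intro x y hx hy
        exact Submodule.add_mem _ hx hy
    · rw [Submodule.smul_le]
      intro a ha m _
      change a • m ∈ J • (⊤ : Submodule B M)
      rw [← algebraMap_smul B a m]
      exact Submodule.smul_mem_smul (Ideal.mem_map_of_mem _ ha) Submodule.mem_top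
  let e1 : (A ⧸ I) ⊗[A] M ≃ₗ[A] M ⧸ (I • ⊤ : Submodule A M) :=
    TensorProduct.quotTensorEquivQuotSMul M I
  let e2 : (M ⧸ (I • ⊤ : Submodule A M)) ≃ₗ[A] (M ⧸ N.restrictScalars A) :=
    Submodule.quotEquivOfEq _ _ hN.symm
  let e3 : (M ⧸ N) ≃ₗ[A] (A ⧸ I) ⊗[A] M := (e1.trans e2).symm
  refine ⟨B ⧸ J, inferInstance, inferInstance, ft, M ⧸ N, inferInstance, inferInstance, modM',
    tw, fin, ⟨?_⟩⟩
  exact LinearEquiv.extendScalarsOfSurjective Ideal.Quotient.mk_surjective e3

end Groth.Agent.Lib.Helper18.GFr
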