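import Mathlib
import Groth.Agent.Lib.Helper18.GFl2
import Groth.Agent.Lib.Helper18.GFr2
import Groth.Agent.Lib.Helper25.GFMod

/-!
# The generic flattening ideal over a Noetherian ring with prime nilradical
-/

set_option autoImplicit false

namespace Groth.Agent.Lib.Helper18.GFl

open TensorProduct Function
open Groth.Agent.Lib.Helper18.GFr

universe u

/-- Generic freeness modulo the nilradical (no flatness assumption). -/
theorem exists_free_away_quotient {R S : Type u} [CommRing R] [CommRing S]
    [Algebra R S] [Algebra.FiniteType R S]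
    (M : Type u) [AddCommGroup M] [Module S M] [Module R M] [IsScalarTower R S M]
    [Module.Finite S M] (h : R) (hh : ¬ IsNilpotent h) :
    ∃ g : R, h ∣ g ∧ ¬ IsNilpotent g ∧
      Module.Free (Localization.Away g ⧸ (nilradical R).map (algebraMap R (Localization.Away g)))
        ((Localization.Away g ⧸ (nilradical R).map (algebraMap R (Localization.Away g))) ⊗[R] M)
      := by
  classical
  obtain ⟨N, hNdef⟩ : ∃ N : Ideal R, N = nilradical R := ⟨_, rfl⟩
  rw [← hNdef]
  obtain ⟨S', _, _, _, M', _, _, _, _, _, ⟨e⟩⟩ := exists_quotient_pair (A := R) (B := S) M N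
  haveI : IsReduced (R ⧸ N) := by
    rw [hNdef]
    exact (Ideal.isRadical_iff_quotient_reduced _).mp (Ideal.radical_isRadical _)
  have hh' : Ideal.Quotient.mk N h ≠ 0 := by
    rw [Ne, Ideal.Quotient.eq_zero_iff_mem, hNdef]
    exact fun hm => hh (mem_nilradical.mp hm)
  obtain ⟨gbar, hdvd, hg0, hGF⟩ :=
    Groth.Agent.Lib.Helper25.GFMod.exists_GF (R ⧸ N) S' M' _ hh'
  obtain ⟨cbar, rfl⟩ := hdvd
  obtain ⟨c, rfl⟩ := Ideal.Quotient.mk_surjective cbar
  rw [← map_mul] at hg0 hGF
  obtain ⟨g, hgdef⟩ : ∃ g : R, g = h * c := ⟨_, rfl⟩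
  rw [← hgdef] at hg0 hGF
  refine ⟨g, ⟨c, hgdef⟩, ?_, ?_⟩
  · intro hnil
    apply hg0
    rw [Ideal.Quotient.eq_zero_iff_mem, hNdef]
    exact mem_nilradical.mpr hnil
  · have h1 := (hGF _ dvd_rfl).1
    have h2 : Module.Free (Localization.Away (Ideal.Quotient.mk N g))
        (Localization.Away (Ideal.Quotient.mk N g) ⊗[R ⧸ N] M') :=
      free_tensor_of_isBaseChange
        (IsLocalizedModule.isBaseChange (Submonoid.powers (Ideal.Quotient.mk N g))
          (Localization.Away (Ideal.Quotient.mk N g))
          (LocalizedModule.mkLinearMap (Submonoid.powers (Ideal.Quotient.mk N g)) M')) h1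
    have h3 : Module.Free (Localization.Away (Ideal.Quotient.mk N g))
        (Localization.Away (Ideal.Quotient.mk N g) ⊗[R] M) :=
      Module.Free.of_equiv ((TensorProduct.AlgebraTensorModule.congr
        (LinearEquiv.refl (Localization.Away (Ideal.Quotient.mk N g))
          (Localization.Away (Ideal.Quotient.mk N g))) e).trans
        (TensorProduct.AlgebraTensorModule.cancelBaseChange R (R ⧸ N)
          (Localization.Away (Ideal.Quotient.mk N g))
          (Localization.Away (Ideal.Quotient.mk N g)) M))
    obtain ⟨φ⟩ := exists_algHom_away_quotient N g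
      (Localization.Away g ⧸ N.map (algebraMap R (Localization.Away g)))
      (by
        rw [IsScalarTower.algebraMap_apply R (Localization.Away g)
          (Localization.Away g ⧸ N.map (algebraMap R (Localization.Away g)))]
        exact (IsLocalization.Away.algebraMap_isUnit g).map _)
      (by
        intro a ha
        rw [IsScalarTower.algebraMap_apply R (Localization.Away g)
          (Localization.Away g ⧸ N.map (algebraMap R (Localization.Away g))),
          Ideal.Quotient.algebraMap_eq, Ideal.Quotient.eq_zero_iff_mem]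
        exact Ideal.mem_map_of_mem _ ha)
    exact free_tensor_of_algHom φ h3

theorem exists_flattening_ideal_noetherian {R S : Type u} [CommRing R] [IsNoetherianRing R]
    [CommRing S] [Algebra R S] [Algebra.FiniteType R S]
    (M : Type u) [AddCommGroup M] [Module S M] [Module R M] [IsScalarTower R S M]
    [Module.Finite S M] (hprime : (nilradical R).IsPrime) :
    ∃ (g : R) (J : Ideal R), ¬ IsNilpotent g ∧ J ≤ nilradical R ∧
      ∀ (R' : Type u) [CommRing R'] [Algebra R R'], IsUnit (algebraMap R R' g) →
        (Module.Flat R' (R' ⊗[R] M) ↔ J.map (algebraMap R R') = ⊥) := by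
  classical
  haveI : Nontrivial R := by
    refine ⟨⟨0, 1, fun h01 => hprime.ne_top ?_⟩⟩
    rw [Ideal.eq_top_iff_one, ← h01]
    exact Ideal.zero_mem _
  obtain ⟨g, -, hg, hfree⟩ := exists_free_away_quotient (R := R) (S := S) M 1 not_isNilpotent_one
  obtain ⟨qT, hqTdef⟩ : ∃ qT : Ideal (Localization.Away g),
      qT = (nilradical R).map (algebraMap R (Localization.Away g)) := ⟨_, rfl⟩
  rw [← hqTdef] at hfree
  have hqTnil : IsNilpotent qT := by
    obtain ⟨n, hn⟩ := IsNoetherianRing.isNilpotent_nilradical R
    refine ⟨n, ?_⟩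
    rw [hqTdef, ← Ideal.map_pow, hn, Ideal.zero_eq_bot, Ideal.map_bot]
    rfl
  have hqTle : qT ≤ nilradical (Localization.Away g) := by
    rw [hqTdef, Ideal.map_le_iff_le_comap]
    intro a ha
    exact mem_nilradical.mpr ((mem_nilradical.mp ha).map _)
  have hfreeP : Module.Free (Localization.Away g ⧸ qT)
      ((Localization.Away g ⧸ qT) ⊗[Localization.Away g] (Localization.Away g ⊗[R] M)) :=
    Module.Free.of_equiv (TensorProduct.AlgebraTensorModule.cancelBaseChange R
      (Localization.Away g) (Localization.Away g ⧸ qT) (Localization.Away g ⧸ qT) M).symm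
  obtain ⟨J₀, hJ₀q, hJ₀⟩ := exists_flattening_ideal_of_free_quotient qT hqTnil
    (Localization.Away g ⊗[R] M) hfreeP
  refine ⟨g, J₀.comap (algebraMap R (Localization.Away g)), hg, ?_, ?_⟩
  · intro a ha
    have h1 : algebraMap R (Localization.Away g) a ∈ nilradical (Localization.Away g) :=
      hqTle (hJ₀q ha)
    obtain ⟨n, hn⟩ := mem_nilradical.mp h1
    rw [← map_pow, IsLocalization.map_eq_zero_iff (Submonoid.powers g)] at hn
    obtain ⟨⟨_, m, rfl⟩, hm⟩ := hn
    have h2 : g ^ m * a ^ n ∈ nilradical R := by
      rw [hm]; exact Ideal.zero_mem _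
    rcases hprime.mem_or_mem h2 with h3 | h3
    · exact absurd (mem_nilradical.mp (hprime.mem_of_pow_mem _ h3)) hg
    · exact hprime.mem_of_pow_mem _ h3
  · intro R' _ _ hu
    letI algTR' : Algebra (Localization.Away g) R' := (IsLocalization.Away.lift g hu).toAlgebra
    haveI tw : IsScalarTower R (Localization.Away g) R' :=
      IsScalarTower.of_algebraMap_eq (fun x => (IsLocalization.Away.lift_eq g hu x).symm)
    have h1 := hJ₀ R'
    have h2 : Module.Flat R' (R' ⊗[Localization.Away g] (Localization.Away g ⊗[R] M)) ↔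
        Module.Flat R' (R' ⊗[R] M) :=
      ⟨fun _ => Module.Flat.of_linearEquiv (TensorProduct.AlgebraTensorModule.cancelBaseChange R
          (Localization.Away g) R' R' M).symm,
        fun _ => Module.Flat.of_linearEquiv (TensorProduct.AlgebraTensorModule.cancelBaseChange R
          (Localization.Away g) R' R' M)⟩
    have h3 : J₀.map (algebraMap (Localization.Away g) R') =
        (J₀.comap (algebraMap R (Localization.Away g))).map (algebraMap R R') := by
      conv_lhs => rw [← IsLocalization.map_comap (Submonoid.powers g) (Localization.Away g) J₀]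
      rw [Ideal.map_map, ← IsScalarTower.algebraMap_eq]
    rw [← h2, h1, h3]

end Groth.Agent.Lib.Helper18.GFl
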