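import Mathlib
import Groth.Agent.Lib.Helper18.GFl3
import Groth.Agent.Lib.Helper18.FlX

/-!
# The generic flattening ideal for finitely presented data over a ring with prime nilradical
-/

set_option autoImplicit false

namespace Groth.Agent.Lib.Helper18.GFl

open TensorProduct Function

universe u

theorem exists_flattening_ideal {A B : Type u} [CommRing A] [CommRing B] [Algebra A B]
    [Algebra.FinitePresentation A B]
    (M : Type u) [AddCommGroup M] [Module B M] [Module A M] [IsScalarTower A B M]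
    [Module.FinitePresentation B M] (hprime : (nilradical A).IsPrime) :
    ∃ (h : A) (J : Ideal A), ¬ IsNilpotent h ∧ J.FG ∧ J ≤ nilradical A ∧
      ∀ (A' : Type u) [CommRing A'] [Algebra A A'], IsUnit (algebraMap A A' h) →
        (Module.Flat A' (A' ⊗[A] M) ↔ J.map (algebraMap A A') = ⊥) := by
  classical
  obtain ⟨R₀, _, _, S₀, _, _, _, _, _, _, M₀, _, _, _, _, _, _, f, hinj, hR₀, hS₀, hM₀, hpo,
    hbc⟩ := Groth.Agent.Lib.Helper18.Fl.exists_finiteType_int_module_model_inj A B M
  haveI : IsNoetherianRing R₀ := Algebra.FiniteType.isNoetherianRing ℤ R₀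
  have hnil₀ : nilradical R₀ = (nilradical A).comap (algebraMap R₀ A) := by
    ext a
    rw [Ideal.mem_comap, mem_nilradical, mem_nilradical, IsNilpotent.map_iff hinj]
  have hprime₀ : (nilradical R₀).IsPrime := by
    rw [hnil₀]
    exact Ideal.comap_isPrime _ _
  obtain ⟨g, J₀, hg, hJ₀le, hJ₀⟩ :=
    exists_flattening_ideal_noetherian (R := R₀) (S := S₀) M₀ hprime₀
  have eM : M ≃ₗ[A] A ⊗[R₀] M₀ :=
    (hbc.equiv.symm.restrictScalars A).trans (Algebra.IsPushout.cancelBaseChange R₀ A S₀ B M₀)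
  refine ⟨algebraMap R₀ A g, J₀.map (algebraMap R₀ A), ?_, ?_, ?_, ?_⟩
  · rwa [IsNilpotent.map_iff hinj]
  · exact Ideal.FG.map (IsNoetherian.noetherian J₀) (algebraMap R₀ A)
  · rw [Ideal.map_le_iff_le_comap]
    intro a ha
    exact mem_nilradical.mpr ((mem_nilradical.mp (hJ₀le ha)).map _)
  · intro A' _ _ hu
    letI algR₀A' : Algebra R₀ A' := ((algebraMap A A').comp (algebraMap R₀ A)).toAlgebra
    haveI tw : IsScalarTower R₀ A A' := IsScalarTower.of_algebraMap_eq (fun _ => rfl)
    have h1 := hJ₀ A' hu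
    have h2 : Module.Flat A' (A' ⊗[R₀] M₀) ↔ Module.Flat A' (A' ⊗[A] M) := by
      have e : A' ⊗[A] M ≃ₗ[A'] A' ⊗[R₀] M₀ :=
        (TensorProduct.AlgebraTensorModule.congr (LinearEquiv.refl A' A') eM).trans
          (TensorProduct.AlgebraTensorModule.cancelBaseChange R₀ A A' A' M₀)
      exact ⟨fun _ => Module.Flat.of_linearEquiv e, fun _ => Module.Flat.of_linearEquiv e.symm⟩
    have h3 : J₀.map (algebraMap R₀ A') = (J₀.map (algebraMap R₀ A)).map (algebraMap A A') := by
      rw [Ideal.map_map]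
      rfl
    rw [← h2, h1, h3]

end Groth.Agent.Lib.Helper18.GFl
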