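import Mathlib
import Groth.Agent.Lib.Helper18.GFl4
import Groth.Agent.Lib.Helper18.GFl6
import Groth.Agent.Lib.Helper29.QCohFP2

/-!
# The generic flattening ideal on one affine open of a finitely presented scheme over `Spec A`
-/

set_option backward.isDefEq.respectTransparency.types false
set_option autoImplicit false
set_option linter.style.haveILetI false

namespace Groth.Agent.Lib.Helper18.GFl

open TensorProduct Function AlgebraicGeometry CategoryTheory CategoryTheory.Limits
open Groth.Agent.Lib.Helper29.QCoh Groth.Agent.Lib.Helper8.FlatAffine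

universe u

theorem exists_flattening_ideal_affineOpen {A : Type u} [CommRing A]
    (hprime : (nilradical A).IsPrime)
    {X : Scheme.{u}} (f : X ⟶ Spec (CommRingCat.of A)) [LocallyOfFinitePresentation f]
    (F : X.Modules) [F.IsQuasicoherent] [F.IsFinitePresentation] {W : X.Opens}
    (hW : IsAffineOpen W) :
    ∃ (h : A) (J : Ideal A), ¬ IsNilpotent h ∧ J.FG ∧ J ≤ nilradical A ∧
      ∀ (A' : Type u) [CommRing A'] (ψ : A →+* A'), IsUnit (ψ h) →
        ((∀ y ∈ (pullback.fst f (Spec.map (CommRingCat.ofHom ψ))) ⁻¹ᵁ W,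
            FlatMod.IsFlatOverAt (pullback.snd f (Spec.map (CommRingCat.ofHom ψ)))
              ((Scheme.Modules.pullback
                (pullback.fst f (Spec.map (CommRingCat.ofHom ψ)))).obj F) y) ↔
          J.map ψ = ⊥) := by
  classical
  have hUSX : W ≤ f ⁻¹ᵁ (⊤ : (Spec (CommRingCat.of A)).Opens) := le_top
  let e : Γ(Spec (CommRingCat.of A), ⊤) ≃+* A :=
    (Scheme.ΓSpecIso (CommRingCat.of A)).commRingCatIsoToRingEquiv
  have hprimeR : (nilradical Γ(Spec (CommRingCat.of A), ⊤)).IsPrime := by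
    have : nilradical Γ(Spec (CommRingCat.of A), ⊤) =
        (nilradical A).comap (e : Γ(Spec (CommRingCat.of A), ⊤) →+* A) := by
      ext a
      rw [Ideal.mem_comap, mem_nilradical, mem_nilradical]
      exact (IsNilpotent.map_iff e.injective).symm
    rw [this]
    exact Ideal.comap_isPrime _ _
  have hfp : RingHom.FinitePresentation (f.appLE ⊤ W hUSX).hom :=
    HasRingHomProperty.appLE (P := @LocallyOfFinitePresentation) f inferInstance
      ⟨⊤, isAffineOpen_top _⟩ ⟨W, hW⟩ hUSX
  letI algAB : Algebra Γ(Spec (CommRingCat.of A), ⊤) Γ(X, W) := (f.appLE ⊤ W hUSX).hom.toAlgebra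
  letI mAM : Module Γ(Spec (CommRingCat.of A), ⊤) Γ(F, W) :=
    Module.compHom _ (f.appLE ⊤ W hUSX).hom
  haveI : IsScalarTower Γ(Spec (CommRingCat.of A), ⊤) Γ(X, W) Γ(F, W) :=
    IsScalarTower.of_algebraMap_smul (fun r m => rfl)
  haveI : Algebra.FinitePresentation Γ(Spec (CommRingCat.of A), ⊤) Γ(X, W) := hfp
  haveI : Module.FinitePresentation Γ(X, W) Γ(F, W) :=
    module_finitePresentation_of_isFinitePresentation F hW
  obtain ⟨hR, JR, hnil, hfg, hle, hiff⟩ :=
    exists_flattening_ideal (A := Γ(Spec (CommRingCat.of A), ⊤)) (B := Γ(X, W)) Γ(F, W) hprimeR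
  refine ⟨e hR, JR.map (e : Γ(Spec (CommRingCat.of A), ⊤) →+* A), ?_, ?_, ?_, ?_⟩
  · intro hn
    exact hnil ((IsNilpotent.map_iff (f := (e : Γ(Spec (CommRingCat.of A), ⊤) →+* A))
      e.injective).mp hn)
  · exact hfg.map _
  · rw [Ideal.map_le_iff_le_comap]
    intro x hx
    have := hle hx
    rw [Ideal.mem_comap, mem_nilradical]
    exact (mem_nilradical.mp this).map _
  · intro A' _ ψ hu
    have H : IsPullback (pullback.fst f (Spec.map (CommRingCat.ofHom ψ)))
        (pullback.snd f (Spec.map (CommRingCat.ofHom ψ))) f (Spec.map (CommRingCat.ofHom ψ)) :=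
      IsPullback.of_hasPullback f _
    have hUST : (⊤ : (Spec (CommRingCat.of A')).Opens) ≤
        (Spec.map (CommRingCat.ofHom ψ)) ⁻¹ᵁ (⊤ : (Spec (CommRingCat.of A)).Opens) := le_top
    have key := forall_isFlatOverAt_pullback_iff H F (isAffineOpen_top (Spec (CommRingCat.of A)))
      (isAffineOpen_top (Spec (CommRingCat.of A'))) hW hUST hUSX
      (UY := (pullback.fst f (Spec.map (CommRingCat.ofHom ψ))) ⁻¹ᵁ W) (by simp)
    rw [key]
    let e' : Γ(Spec (CommRingCat.of A'), ⊤) ≃+* A' :=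
      (Scheme.ΓSpecIso (CommRingCat.of A')).commRingCatIsoToRingEquiv
    letI algRR' : Algebra Γ(Spec (CommRingCat.of A), ⊤) Γ(Spec (CommRingCat.of A'), ⊤) :=
      ((Spec.map (CommRingCat.ofHom ψ)).appLE ⊤ ⊤ hUST).hom.toAlgebra
    have hnat : ∀ r, e' (algebraMap Γ(Spec (CommRingCat.of A), ⊤)
        Γ(Spec (CommRingCat.of A'), ⊤) r) = ψ (e r) := by
      intro r
      have h1 := Scheme.ΓSpecIso_naturality (CommRingCat.ofHom ψ)
      have h2 : (Spec.map (CommRingCat.ofHom ψ)).appLE ⊤ ⊤ hUST =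
          (Spec.map (CommRingCat.ofHom ψ)).appTop := by
        rw [Scheme.Hom.appTop, Scheme.Hom.app_eq_appLE]
        rfl
      change (Scheme.ΓSpecIso (CommRingCat.of A')).hom
        (((Spec.map (CommRingCat.ofHom ψ)).appLE ⊤ ⊤ hUST) r) = _
      rw [h2]
      exact congr($(h1).hom r)
    have hu' : IsUnit (algebraMap Γ(Spec (CommRingCat.of A), ⊤)
        Γ(Spec (CommRingCat.of A'), ⊤) hR) := by
      have h3 : IsUnit (e' (algebraMap Γ(Spec (CommRingCat.of A), ⊤)
          Γ(Spec (CommRingCat.of A'), ⊤) hR)) := by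
        rw [hnat]; exact hu
      exact (isUnit_map_iff e' _).mp h3
    rw [hiff _ hu']
    have hcomp : (e' : Γ(Spec (CommRingCat.of A'), ⊤) →+* A').comp
        (algebraMap Γ(Spec (CommRingCat.of A), ⊤) Γ(Spec (CommRingCat.of A'), ⊤)) =
        ψ.comp (e : Γ(Spec (CommRingCat.of A), ⊤) →+* A) := RingHom.ext hnat
    rw [Ideal.map_map, ← hcomp, ← Ideal.map_map]
    exact (Ideal.map_eq_bot_iff_of_injective (f := (e' : Γ(Spec (CommRingCat.of A'), ⊤) →+* A'))
      e'.injective).symm

end Groth.Agent.Lib.Helper18.GFl
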