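import Mathlib
import Groth.Agent.Lib.Helper18.GFr2
import Groth.Agent.Lib.Helper25.GFMod

/-!
# Generic freeness for flat modules over rings with nilpotent nilradical
-/

set_option autoImplicit false

namespace Groth.Agent.Lib.Helper18.GFr

open TensorProduct Function

universe u

/-- Generic freeness with nilpotents: `R` has nilpotent nilradical, `S` finite type over `R`, `M`
finite over `S` and flat over `R`.  Every non-nilpotent `h` has a non-nilpotent multiple `g` with
`R_g ⊗ M` free over `R_g`. -/
theorem exists_free_away_of_isNilpotent_nilradical {R S : Type u} [CommRing R] [CommRing S]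
    [Algebra R S] [Algebra.FiniteType R S]
    (M : Type u) [AddCommGroup M] [Module S M] [Module R M] [IsScalarTower R S M]
    [Module.Finite S M] [Module.Flat R M]
    (hN : IsNilpotent (nilradical R)) (h : R) (hh : ¬ IsNilpotent h) :
    ∃ g : R, h ∣ g ∧ ¬ IsNilpotent g ∧
      Module.Free (Localization.Away g) (Localization.Away g ⊗[R] M) := by
  classical
  obtain ⟨N, hNdef⟩ : ∃ N : Ideal R, N = nilradical R := ⟨_, rfl⟩
  obtain ⟨S', _, _, _, M', _, _, _, _, _, ⟨e⟩⟩ := exists_quotient_pair (A := R) (B := S) M N
  haveI : IsReduced (R ⧸ N) := by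
    rw [hNdef]
    exact (Ideal.isRadical_iff_quotient_reduced _).mp (Ideal.radical_isRadical _)
  have hh' : Ideal.Quotient.mk N h ≠ 0 := by
    rw [Ne, Ideal.Quotient.eq_zero_iff_mem, hNdef]
    exact fun hm => hh (mem_nilradical.mp hm)
  obtain ⟨gbar, hdvd, hg0, hGF⟩ :=
    Groth.Agent.Lib.Helper25.GFMod.exists_GF (R ⧸ N) S' M' _ hh'
  obtain ⟨cbar, rfl⟩ := hdvd
  obtain ⟨c, rfl⟩ := Ideal.Quotient.mk_surjective cbar
  rw [← map_mul] at hg0 hGF
  obtain ⟨g, hgdef⟩ : ∃ g : R, g = h * c := ⟨_, rfl⟩
  rw [← hgdef] at hg0 hGF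
  refine ⟨g, ⟨c, hgdef⟩, ?_, ?_⟩
  · intro hnil
    apply hg0
    rw [Ideal.Quotient.eq_zero_iff_mem, hNdef]
    exact mem_nilradical.mpr hnil
  · have h1 := (hGF _ dvd_rfl).1
    have h2 : Module.Free (Localization.Away (Ideal.Quotient.mk N g))
        (Localization.Away (Ideal.Quotient.mk N g) ⊗[R ⧸ N] M') :=
      free_tensor_of_isBaseChange
        (IsLocalizedModule.isBaseChange (Submonoid.powers (Ideal.Quotient.mk N g))
          (Localization.Away (Ideal.Quotient.mk N g))
          (LocalizedModule.mkLinearMap (Submonoid.powers (Ideal.Quotient.mk N g)) M')) h1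
    have h3 : Module.Free (Localization.Away (Ideal.Quotient.mk N g))
        (Localization.Away (Ideal.Quotient.mk N g) ⊗[R] M) :=
      Module.Free.of_equiv ((TensorProduct.AlgebraTensorModule.congr
        (LinearEquiv.refl (Localization.Away (Ideal.Quotient.mk N g))
          (Localization.Away (Ideal.Quotient.mk N g))) e).trans
        (TensorProduct.AlgebraTensorModule.cancelBaseChange R (R ⧸ N)
          (Localization.Away (Ideal.Quotient.mk N g))
          (Localization.Away (Ideal.Quotient.mk N g)) M))
    obtain ⟨I', hI'def⟩ : ∃ I' : Ideal (Localization.Away g),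
        I' = N.map (algebraMap R (Localization.Away g)) := ⟨_, rfl⟩
    have hI' : IsNilpotent I' := by
      obtain ⟨n, hn⟩ := hN
      refine ⟨n, ?_⟩
      rw [hI'def, hNdef, ← Ideal.map_pow, hn, Ideal.zero_eq_bot, Ideal.map_bot]
      rfl
    obtain ⟨φ⟩ := exists_algHom_away_quotient N g (Localization.Away g ⧸ I')
      (by
        rw [IsScalarTower.algebraMap_apply R (Localization.Away g) (Localization.Away g ⧸ I')]
        exact (IsLocalization.Away.algebraMap_isUnit g).map _)
      (by
        intro a ha
        rw [IsScalarTower.algebraMap_apply R (Localization.Away g) (Localization.Away g ⧸ I'),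
          Ideal.Quotient.algebraMap_eq, Ideal.Quotient.eq_zero_iff_mem, hI'def]
        exact Ideal.mem_map_of_mem _ ha)
    have h4 : Module.Free (Localization.Away g ⧸ I') ((Localization.Away g ⧸ I') ⊗[R] M) :=
      free_tensor_of_algHom φ h3
    refine free_tensor_of_free_tensor_of_surjective (C := Localization.Away g)
      (C' := Localization.Away g ⧸ I') Ideal.Quotient.mk_surjective ?_ h4
    rw [Ideal.Quotient.algebraMap_eq, Ideal.mk_ker]
    exact hI'

end Groth.Agent.Lib.Helper18.GFr
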