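import Mathlib
import Groth.Agent.Lib.Helper18.GFr3

/-!
# Stratification of a Noetherian base by principal opens over which a flat module is free
-/

set_option autoImplicit false

namespace Groth.Agent.Lib.Helper18.GFr

open TensorProduct Function

universe u

theorem exists_list_free_of_noetherian {A B : Type u} [CommRing A] [IsNoetherianRing A]
    [CommRing B] [Algebra A B] [Algebra.FiniteType A B]
    (M : Type u) [AddCommGroup M] [Module B M] [Module A M] [IsScalarTower A B M]
    [Module.Finite B M] [Module.Flat A M] (I : Ideal A) :
    ∃ l : List A, I ⊔ Ideal.span {a | a ∈ l} = ⊤ ∧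
      ∀ (i : ℕ) (hi : i < l.length) (D : Type u) [CommRing D] [Algebra A D],
        IsUnit (algebraMap A D l[i]) → (∀ a ∈ I, algebraMap A D a = 0) →
        (∀ a ∈ l.take i, algebraMap A D a = 0) → Module.Free D (D ⊗[A] M) := by
  classical
  induction I using IsNoetherian.induction with
  | hgt I IH =>
    by_cases hI : I = ⊤
    · refine ⟨[], ?_, ?_⟩
      · rw [hI]; simp
      · intro i hi
        simp at hi
    · haveI : Nontrivial (A ⧸ I) := Ideal.Quotient.nontrivial_iff.mpr hI
      obtain ⟨S', _, _, _, M', _, _, _, _, _, ⟨e⟩⟩ := exists_quotient_pair (A := A) (B := B) M I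
      haveI : Module.Flat (A ⧸ I) M' := Module.Flat.of_linearEquiv e
      obtain ⟨gbar, -, hgnil, hfree⟩ := exists_free_away_of_isNilpotent_nilradical
        (R := A ⧸ I) (S := S') M' (IsNoetherianRing.isNilpotent_nilradical (A ⧸ I)) 1
        not_isNilpotent_one
      obtain ⟨f, rfl⟩ := Ideal.Quotient.mk_surjective gbar
      have hfI : f ∉ I := by
        intro hf
        apply hgnil
        rw [Ideal.Quotient.eq_zero_iff_mem.mpr hf]
        exact IsNilpotent.zero
      have hlt : I < I ⊔ Ideal.span {f} := by
        refine lt_of_le_of_ne le_sup_left (fun h => hfI ?_)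
        rw [h]
        exact Ideal.mem_sup_right (Ideal.mem_span_singleton_self f)
      obtain ⟨l', hl', hfree'⟩ := IH _ hlt
      have hfree0 : Module.Free (Localization.Away (Ideal.Quotient.mk I f))
          (Localization.Away (Ideal.Quotient.mk I f) ⊗[A] M) :=
        Module.Free.of_equiv ((TensorProduct.AlgebraTensorModule.congr
          (LinearEquiv.refl (Localization.Away (Ideal.Quotient.mk I f))
            (Localization.Away (Ideal.Quotient.mk I f))) e).trans
          (TensorProduct.AlgebraTensorModule.cancelBaseChange A (A ⧸ I)
            (Localization.Away (Ideal.Quotient.mk I f))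
            (Localization.Away (Ideal.Quotient.mk I f)) M))
      refine ⟨f :: l', ?_, ?_⟩
      · have : {a | a ∈ f :: l'} = insert f {a | a ∈ l'} := by
          ext a
          simp
        rw [this, Ideal.span_insert, ← sup_assoc]
        exact hl'
      · intro i hi D _ _ hu hvI hvl
        cases i with
        | zero =>
          simp only [List.getElem_cons_zero] at hu
          obtain ⟨φ⟩ := exists_algHom_away_quotient I f D hu hvI
          exact free_tensor_of_algHom φ hfree0
        | succ i =>
          simp only [List.getElem_cons_succ] at hu
          simp only [List.take_succ_cons, List.mem_cons, forall_eq_or_imp] at hvl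
          have hi' : i < l'.length := by simpa using hi
          refine hfree' i hi' D hu ?_ hvl.2
          intro a ha
          obtain ⟨x, hx, y, hy, rfl⟩ := Submodule.mem_sup.mp ha
          obtain ⟨r, rfl⟩ := Ideal.mem_span_singleton'.mp hy
          rw [map_add, hvI x hx, map_mul, hvl.1, mul_zero, add_zero]

end Groth.Agent.Lib.Helper18.GFr
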