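import Mathlib
import Groth.Agent.Lib.Helper18.FlI

/-!
# Spreading out flatness from the localization at a prime to a principal open
-/

set_option autoImplicit false

namespace Groth.Agent.Lib.Helper18.GFr

open TensorProduct Function

universe u

theorem exists_flat_away_of_flat_atPrime {A B : Type u} [CommRing A] [CommRing B] [Algebra A B]
    [Algebra.FinitePresentation A B] (p : Ideal A) [p.IsPrime]
    (M : Type u) [AddCommGroup M] [Module B M] [Module A M] [IsScalarTower A B M]
    [Module.FinitePresentation B M]
    (hflat : Module.Flat (Localization.AtPrime p) (LocalizedModule p.primeCompl M)) :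
    ∃ t : A, t ∉ p ∧ Module.Flat (Localization.Away t) (Localization.Away t ⊗[A] M) := by
  classical
  have hflatA : Module.Flat A (LocalizedModule p.primeCompl M) :=
    (Module.flat_iff_of_isLocalization (Localization.AtPrime p) p.primeCompl _).mp hflat
  have hgen : ∀ (Q : Ideal B) [Q.IsPrime], Q.comap (algebraMap A B) ≤ p →
      Module.Flat A (LocalizedModule Q.primeCompl M) :=
    (Groth.Agent.Lib.Helper18.Fl.flat_localizedModule_tower_iff (A := A) (B := A) (C := B)
      (M := M) p).mp hflatA
  have hU := Groth.Agent.Lib.Helper18.Fl.isOpen_flatLocus (R := A) (S := B) (M := M)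
  obtain ⟨J, hJ⟩ := (PrimeSpectrum.isClosed_iff_zeroLocus_ideal _).mp hU.isClosed_compl
  have key : ∃ t : A, t ∉ p ∧ algebraMap A B t ∈ J.radical := by
    by_contra hcon
    push Not at hcon
    have hdisj : Disjoint (J.radical : Set B)
        (Algebra.algebraMapSubmonoid B p.primeCompl : Set B) := by
      rw [Set.disjoint_left]
      rintro _ hb ⟨a, ha, rfl⟩
      exact hcon a ha hb
    obtain ⟨Q, hQ, hJQ, hQd⟩ := Ideal.exists_le_prime_disjoint _ _ hdisj
    have hQp : Q.comap (algebraMap A B) ≤ p := by
      intro a ha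
      by_contra hap
      exact Set.disjoint_left.mp hQd ha ⟨a, hap, rfl⟩
    have h1 : (⟨Q, hQ⟩ : PrimeSpectrum B) ∈
        {q : PrimeSpectrum B | Module.Flat A (LocalizedModule q.asIdeal.primeCompl M)} :=
      hgen Q hQp
    have h2 : (⟨Q, hQ⟩ : PrimeSpectrum B) ∈ PrimeSpectrum.zeroLocus (J : Set B) := by
      rw [PrimeSpectrum.mem_zeroLocus]
      exact fun x hx => hJQ (Ideal.le_radical hx)
    rw [← hJ] at h2
    exact h2 h1
  obtain ⟨t, htp, n, hn⟩ := key
  refine ⟨t, htp, ?_⟩
  have hB : Module.Flat A (LocalizedModule (Algebra.algebraMapSubmonoid B (Submonoid.powers t)) M) := by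
    rw [Groth.Agent.Lib.Helper18.Fl.flat_localizedModule_iff_forall_prime]
    intro Q hQ hQd
    by_contra hnf
    have h2 : (⟨Q, hQ⟩ : PrimeSpectrum B) ∈ PrimeSpectrum.zeroLocus (J : Set B) := by
      rw [← hJ]
      exact hnf
    rw [PrimeSpectrum.mem_zeroLocus] at h2
    have h3 : algebraMap A B t ^ n ∈ Q := h2 hn
    exact Set.disjoint_left.mp hQd h3 ⟨t ^ n, ⟨n, rfl⟩, map_pow _ _ _⟩
  haveI : IsLocalizedModule (Submonoid.powers t)
      ((LocalizedModule.mkLinearMap (Algebra.algebraMapSubmonoid B (Submonoid.powers t))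
        M).restrictScalars A) := IsLocalizedModule.restrictScalars _ _
  have e := IsLocalizedModule.iso (Submonoid.powers t)
      ((LocalizedModule.mkLinearMap (Algebra.algebraMapSubmonoid B (Submonoid.powers t))
        M).restrictScalars A)
  haveI hA : Module.Flat A (LocalizedModule (Submonoid.powers t) M) :=
    Module.Flat.of_linearEquiv e
  haveI hL : Module.Flat (Localization.Away t) (LocalizedModule (Submonoid.powers t) M) :=
    (Module.flat_iff_of_isLocalization (Localization.Away t) (Submonoid.powers t) _).mpr hA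
  exact Module.Flat.of_linearEquiv
    (IsLocalizedModule.isBaseChange (Submonoid.powers t) (Localization.Away t)
      (LocalizedModule.mkLinearMap (Submonoid.powers t) M)).equiv

end Groth.Agent.Lib.Helper18.GFr
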