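import Mathlib
import Groth.Agent.Lib.Helper18.GFr3
import Groth.Agent.Lib.Helper18.GFr5
import Groth.Agent.Lib.Helper18.FlW

/-!
# Generic freeness at the unique minimal prime for finitely presented data
-/

set_option autoImplicit false

namespace Groth.Agent.Lib.Helper18.GFr

open TensorProduct Function

universe u

attribute [local instance] Algebra.TensorProduct.rightAlgebra

theorem exists_free_away_of_flat_at_nilradical {A B : Type u} [CommRing A] [CommRing B]
    [Algebra A B] [Algebra.FinitePresentation A B] (p : Ideal A) [p.IsPrime]
    (hp : nilradical A = p)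
    (M : Type u) [AddCommGroup M] [Module B M] [Module A M] [IsScalarTower A B M]
    [Module.FinitePresentation B M]
    (hflat : Module.Flat (Localization.AtPrime p) (LocalizedModule p.primeCompl M)) :
    ∃ t : A, t ∉ p ∧ Module.Free (Localization.Away t) (Localization.Away t ⊗[A] M) := by
  classical
  obtain ⟨t, htp, hft⟩ := exists_flat_away_of_flat_atPrime (A := A) (B := B) p M hflat
  haveI hflatM' : Module.Flat (Localization.Away t)
      ((Localization.Away t ⊗[A] B) ⊗[B] M) :=
    Module.Flat.of_linearEquiv
      (Algebra.IsPushout.cancelBaseChange A (Localization.Away t) B (Localization.Away t ⊗[A] B) M)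
  obtain ⟨R₀, _, _, S₀, _, _, _, _, _, _, M₀, _, _, _, _, _, _, f, hinj, hR₀, hS₀, hM₀, hflat₀,
    hpo, hbc⟩ := Groth.Agent.Lib.Helper18.Fl.exists_finiteType_int_model_inj
      (Localization.Away t) (Localization.Away t ⊗[A] B) ((Localization.Away t ⊗[A] B) ⊗[B] M)
  haveI : IsNoetherianRing R₀ := Algebra.FiniteType.isNoetherianRing ℤ R₀
  haveI hRnt : Nontrivial (Localization.Away t) := by
    rw [← not_subsingleton_iff_nontrivial,
      IsLocalization.subsingleton_iff (M := Submonoid.powers t)]
    rintro ⟨n, hn⟩
    apply htp
    rw [← hp]
    exact mem_nilradical.mpr ⟨n, hn⟩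
  haveI : Nontrivial R₀ := (algebraMap R₀ (Localization.Away t)).domain_nontrivial
  obtain ⟨g, -, hgnil, hfree⟩ := exists_free_away_of_isNilpotent_nilradical
    (R := R₀) (S := S₀) M₀ (IsNoetherianRing.isNilpotent_nilradical R₀) 1 not_isNilpotent_one
  obtain ⟨n, a, ha⟩ := IsLocalization.Away.surj t (algebraMap R₀ (Localization.Away t) g)
  have hap : a ∉ p := by
    intro hap
    rw [← hp] at hap
    have h1 : IsNilpotent (algebraMap A (Localization.Away t) a) :=
      (mem_nilradical.mp hap).map _
    rw [← ha] at h1
    obtain ⟨v, hv⟩ := ((IsLocalization.Away.algebraMap_isUnit (S := Localization.Away t) t).pow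
      n).exists_right_inv
    have h2 : algebraMap R₀ (Localization.Away t) g ∈ nilradical (Localization.Away t) := by
      have h3 := Ideal.mul_mem_right v _ (mem_nilradical.mpr h1)
      rwa [mul_assoc, hv, mul_one] at h3
    exact hgnil ((IsNilpotent.map_iff hinj).mp (mem_nilradical.mp h2))
  refine ⟨t * a, fun h => (Ideal.IsPrime.mem_or_mem inferInstance h).elim htp hap, ?_⟩
  have hunit : IsUnit (algebraMap A (Localization.Away (t * a)) (t * a)) :=
    IsLocalization.Away.algebraMap_isUnit (t * a)
  rw [map_mul] at hunit
  have hut : IsUnit (algebraMap A (Localization.Away (t * a)) t) :=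
    isUnit_of_mul_isUnit_left hunit
  have hua : IsUnit (algebraMap A (Localization.Away (t * a)) a) :=
    isUnit_of_mul_isUnit_right hunit
  letI algRD : Algebra (Localization.Away t) (Localization.Away (t * a)) :=
    (IsLocalization.Away.lift t hut).toAlgebra
  haveI tw1 : IsScalarTower A (Localization.Away t) (Localization.Away (t * a)) :=
    IsScalarTower.of_algebraMap_eq (fun x => (IsLocalization.Away.lift_eq t hut x).symm)
  letI algR₀D : Algebra R₀ (Localization.Away (t * a)) :=
    ((algebraMap (Localization.Away t) (Localization.Away (t * a))).comp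
      (algebraMap R₀ (Localization.Away t))).toAlgebra
  haveI tw2 : IsScalarTower R₀ (Localization.Away t) (Localization.Away (t * a)) :=
    IsScalarTower.of_algebraMap_eq (fun x => rfl)
  have hgu : IsUnit (algebraMap R₀ (Localization.Away (t * a)) g) := by
    rw [IsScalarTower.algebraMap_apply R₀ (Localization.Away t) (Localization.Away (t * a))]
    have h1 := congrArg (algebraMap (Localization.Away t) (Localization.Away (t * a))) ha
    rw [map_mul, map_pow, ← IsScalarTower.algebraMap_apply A (Localization.Away t),
      ← IsScalarTower.algebraMap_apply A (Localization.Away t)] at h1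
    have h2 : IsUnit (algebraMap (Localization.Away t) (Localization.Away (t * a))
        (algebraMap R₀ (Localization.Away t) g) *
        algebraMap A (Localization.Away (t * a)) t ^ n) := by
      rw [h1]; exact hua
    exact isUnit_of_mul_isUnit_left h2
  let φ : Localization.Away g →ₐ[R₀] Localization.Away (t * a) :=
    { toRingHom := IsLocalization.Away.lift g hgu
      commutes' := fun r => IsLocalization.Away.lift_eq g hgu r }
  have h2 : Module.Free (Localization.Away (t * a)) (Localization.Away (t * a) ⊗[R₀] M₀) :=
    free_tensor_of_algHom φ hfree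
  have e1 : ((Localization.Away t ⊗[A] B) ⊗[B] M) ≃ₗ[Localization.Away t]
      Localization.Away t ⊗[R₀] M₀ :=
    (hbc.equiv.symm.restrictScalars (Localization.Away t)).trans
      (Algebra.IsPushout.cancelBaseChange R₀ (Localization.Away t) S₀
        (Localization.Away t ⊗[A] B) M₀)
  have e2 : ((Localization.Away t ⊗[A] B) ⊗[B] M) ≃ₗ[Localization.Away t]
      Localization.Away t ⊗[A] M :=
    Algebra.IsPushout.cancelBaseChange A (Localization.Away t) B (Localization.Away t ⊗[A] B) M
  exact Module.Free.of_equiv
    (((TensorProduct.AlgebraTensorModule.cancelBaseChange R₀ (Localization.Away t)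
        (Localization.Away (t * a)) (Localization.Away (t * a)) M₀).symm.trans
      (TensorProduct.AlgebraTensorModule.congr (LinearEquiv.refl _ _) (e1.symm.trans e2))).trans
      (TensorProduct.AlgebraTensorModule.cancelBaseChange A (Localization.Away t)
        (Localization.Away (t * a)) (Localization.Away (t * a)) M))

end Groth.Agent.Lib.Helper18.GFr
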