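import Mathlib
import Groth.Prelude
import Groth.Agent.Lib.Helper18.SQ2
import Groth.Agent.Lib.Helper18.SK1
import Groth.Agent.Lib.Helper29.QCohAss2
import Groth.Agent.Lib.Helper29.QCohExact

/-!
# Cycles of structure sheaves of integral closed subschemes (helper18)
-/

set_option autoImplicit false
set_option linter.unusedSectionVars false

universe u

open CategoryTheory CategoryTheory.Limits AlgebraicGeometry Opposite

namespace Groth.Agent.Lib.Helper18.GR1

open Groth.Agent.Lib.Helper29.QCoh

/-- the cycle of a module only depends on its isomorphism class -/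
theorem sheafFun_congr_iso {X : Scheme.{u}} (δ : X → ℤ) (k : ℤ) {F G : X.Modules} (e : F ≅ G) :
    Cyc.sheafFun δ k F = Cyc.sheafFun δ k G := by
  funext x
  unfold Cyc.sheafFun
  have h : Module.length (X.presheaf.stalk x) (F.presheaf.stalk x) =
      Module.length (X.presheaf.stalk x) (G.presheaf.stalk x) :=
    (LinearEquiv.ofBijective (stalkMapₗ e.hom x)
      ((isIso_iff_stalkMap_bijective e.hom).1 inferInstance x)).length_eq
  rw [h]

/-- the cycle of `ι_* O_W` for an integral closed subscheme `W` is the prime cycle `[W]` -/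
theorem sheafFun_OW {W Y : Scheme.{u}} [IsIntegral W] (ι : W ⟶ Y) [IsClosedImmersion ι]
    (δ : Y → ℤ) (hδ : Cyc.IsDimFun Y δ) :
    Cyc.sheafFun δ (δ (ι (genericPoint W))) (Groth.Agent.Lib.Helper18.SQ2.OW ι) =
      Set.indicator ({ι (genericPoint W)} : Set Y) (fun _ => (1 : ℤ)) := by
  classical
  funext y
  by_cases hy : y ∈ Set.range ι
  · obtain ⟨w, rfl⟩ := hy
    by_cases hw : w = genericPoint W
    · subst hw
      have hlen := Groth.Agent.Lib.Helper18.SQ2.length_stalk ι _ (genericPoint W) rfl
      haveI := Groth.Agent.Lib.Helper18.SK1.isSimpleModule_stalk_genericPoint W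
      rw [Module.length_eq_one (W.presheaf.stalk (genericPoint W))
        (W.presheaf.stalk (genericPoint W))] at hlen
      unfold Cyc.sheafFun
      rw [if_pos rfl, hlen, Set.indicator_of_mem (Set.mem_singleton _)]
      rfl
    · have hne : ι (genericPoint W) ≠ ι w := fun h =>
        hw (ι.isClosedEmbedding.injective h).symm
      have hsp : ι (genericPoint W) ⤳ ι w :=
        ((genericPoint_spec W).specializes trivial).map ι.continuous
      have hlt := (hδ _ _ hsp hne).1
      unfold Cyc.sheafFun
      rw [if_neg (ne_of_lt hlt), Set.indicator_of_notMem]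
      exact fun h => hne (Set.mem_singleton_iff.1 h).symm
  · have hne : y ∉ ({ι (genericPoint W)} : Set Y) := fun h =>
      hy ⟨genericPoint W, (Set.mem_singleton_iff.1 h).symm⟩
    rw [Set.indicator_of_notMem hne]
    unfold Cyc.sheafFun
    split_ifs
    · haveI := Groth.Agent.Lib.Helper18.SQ2.subsingleton_stalk ι y hy
      rw [Module.length_eq_zero]
      rfl
    · rfl

end Groth.Agent.Lib.Helper18.GR1
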