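import Mathlib
import Groth.Prelude.Def_W4bk6serrecg25LocSym
import Groth.Agent.Lib.Helper18.DivPull1

set_option autoImplicit false
universe u v
open CategoryTheory AlgebraicGeometry TopologicalSpace

namespace Groth.Agent.Lib.Helper18.LS1

variable {k : Type u} [Field k] {X : Scheme.{u}}

/-- two `k`-points over the same point of `X` which are sections of `c` coincide -/
theorem hom_eq_of_section (c : X ⟶ Spec (CommRingCat.of k)) (p : X)
    (φ φ' : X.residueField p ⟶ CommRingCat.of k)
    (h : (Spec.map φ ≫ X.fromSpecResidueField p) ≫ c = 𝟙 _)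
    (h' : (Spec.map φ' ≫ X.fromSpecResidueField p) ≫ c = 𝟙 _) : φ = φ' := by
  set ψ : CommRingCat.of k ⟶ X.residueField p := Spec.preimage (X.fromSpecResidueField p ≫ c) with hψ
  have hψm : Spec.map ψ = X.fromSpecResidueField p ≫ c := Spec.map_preimage _
  have e1 : ψ ≫ φ = 𝟙 _ := by
    apply Spec.map_injective
    rw [Spec.map_comp, hψm, Spec.map_id, ← Category.assoc]
    exact h
  have e2 : ψ ≫ φ' = 𝟙 _ := by
    apply Spec.map_injective
    rw [Spec.map_comp, hψm, Spec.map_id, ← Category.assoc]
    exact h'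
  have hinj : Function.Injective φ.hom := φ.hom.injective
  ext a
  have h1 : φ.hom (ψ.hom (φ.hom a)) = φ.hom a := by
    have := congrArg (fun t : CommRingCat.of k ⟶ CommRingCat.of k => t.hom (φ.hom a)) e1
    simpa using this
  have h2 : ψ.hom (φ.hom a) = a := hinj h1
  have h3 : φ'.hom (ψ.hom (φ.hom a)) = φ.hom a := by
    have := congrArg (fun t : CommRingCat.of k ⟶ CommRingCat.of k => t.hom (φ.hom a)) e2
    simpa using this
  rw [h2] at h3
  exact h3.symm

theorem pt_injective (c : X ⟶ Spec (CommRingCat.of k)) :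
    Function.Injective (LocSym.Pt.pt (c := c)) := by
  intro x x' h
  obtain ⟨p, φ, hφ, hp⟩ : ∃ (p : X) (φ : X.residueField p ⟶ CommRingCat.of k),
      Spec.map φ ≫ X.fromSpecResidueField p = x.1 ∧ p = x.pt :=
    ⟨_, _, (Scheme.SpecToEquivOfField k X).symm_apply_apply x.1, rfl⟩
  obtain ⟨p', φ', hφ', hp'⟩ : ∃ (p : X) (φ : X.residueField p ⟶ CommRingCat.of k),
      Spec.map φ ≫ X.fromSpecResidueField p = x'.1 ∧ p = x'.pt :=
    ⟨_, _, (Scheme.SpecToEquivOfField k X).symm_apply_apply x'.1, rfl⟩
  have hpp : p = p' := hp.trans (h.trans hp'.symm)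
  subst hpp
  have := hom_eq_of_section c p φ φ' (by rw [hφ]; exact x.2) (by rw [hφ']; exact x'.2)
  subst this
  exact Subtype.ext (hφ.symm.trans hφ')

/-- a nonzero rational function has order zero near the generic point -/
theorem exists_open_ord_eq_zero [IsIntegral X] (g : X.functionField) (hg : g ≠ 0) :
    ∃ W : X.Opens, genericPoint X ∈ W ∧
      ∀ p ∈ W, CycAlg.ordFrac (X.presheaf.stalk p) X.functionField g = 0 := by
  obtain ⟨U, hηU, a, rfl⟩ := X.presheaf.exists_germ_eq (x := genericPoint X) g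
  have hu : IsUnit (X.presheaf.germ U (genericPoint X) hηU a) := isUnit_iff_ne_zero.mpr hg
  refine ⟨X.basicOpen a, (X.mem_basicOpen a (genericPoint X) hηU).mpr hu, ?_⟩
  intro p hp
  have hpU : p ∈ U := X.basicOpen_le a hp
  have hux : IsUnit (X.presheaf.germ U p hpU a) := (X.mem_basicOpen a p hpU).mp hp
  have e : X.presheaf.germ U (genericPoint X) hηU a =
      algebraMap (X.presheaf.stalk p) X.functionField (X.presheaf.germ U p hpU a) := by
    change _ = (X.presheaf.stalkSpecializes _).hom _
    rw [TopCat.Presheaf.germ_stalkSpecializes_apply]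
  rw [e]
  exact Groth.Agent.Lib.Helper18.DivPull.ordFrac_algebraMap_of_isUnit _ hux

theorem not_chain_of_dim_le_one {T : Type*} [TopologicalSpace T] [T0Space T]
    (hdim : topologicalKrullDim T ≤ 1) (a b c : T) (hab : a ⤳ b) (hbc : b ⤳ c)
    (h1 : a ≠ b) (h2 : b ≠ c) : False := by
  let Z : T → IrreducibleCloseds T := fun x =>
    { carrier := closure {x}
      isIrreducible' := isIrreducible_singleton.closure
      isClosed' := isClosed_closure }
  have hlt : ∀ x y : T, x ⤳ y → x ≠ y → Z y < Z x := by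
    intro x y hxy hne
    rw [lt_iff_le_not_ge]
    constructor
    · change closure {y} ⊆ closure {x}
      exact specializes_iff_closure_subset.mp hxy
    · intro hle
      have : y ⤳ x := specializes_iff_closure_subset.mpr hle
      exact hne (hxy.antisymm this).eq
  let p : LTSeries (IrreducibleCloseds T) :=
    ((RelSeries.singleton _ (Z c)).snoc (Z b) (hlt b c hbc h2)).snoc (Z a)
      (by rw [RelSeries.last_snoc]; exact hlt a b hab h1)
  have hp : p.length = 2 := rfl
  have := Order.LTSeries.length_le_krullDim p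
  rw [hp] at this
  have h2le : ((2 : ℕ) : WithBot ℕ∞) ≤ 1 := this.trans hdim
  have : (2 : ℕ∞) ≤ 1 := by exact_mod_cast h2le
  exact absurd this (by decide)

theorem finite_compl_of_dim_one [IsIntegral X] [IsNoetherian X] (hdim : topologicalKrullDim X ≤ 1)
    (W : X.Opens) (hW : genericPoint X ∈ W) : ((W : Set X)ᶜ).Finite := by
  have hcl : IsClosed ((W : Set X)ᶜ) := W.isOpen.isClosed_compl
  obtain ⟨S, hSfin, hScl, hSirr, hS⟩ := NoetherianSpace.exists_finite_set_isClosed_irreducible hcl
  rw [hS]
  refine hSfin.sUnion ?_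
  intro t ht
  obtain ⟨ζ, hζ⟩ := QuasiSober.sober (hSirr t ht) (hScl t ht)
  have hζt : ζ ∈ t := by rw [← hζ.def]; exact subset_closure rfl
  have hζW : ζ ∉ W := by
    have : ζ ∈ (W : Set X)ᶜ := by rw [hS]; exact ⟨t, ht, hζt⟩
    exact this
  have hηζ : genericPoint X ⤳ ζ := (genericPoint_spec X).specializes trivial
  have hne : genericPoint X ≠ ζ := fun h => hζW (h ▸ hW)
  refine (Set.finite_singleton ζ).subset ?_
  intro z hz
  rw [Set.mem_singleton_iff]
  by_contra hzne
  have hζz : ζ ⤳ z := hζ.specializes hz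
  exact not_chain_of_dim_le_one hdim (genericPoint X) ζ z hηζ hζz hne (fun h => hzne h.symm)

theorem finite_ord_ne_zero [IsIntegral X] [IsNoetherian X] (c : X ⟶ Spec (CommRingCat.of k))
    (hdim : topologicalKrullDim X ≤ 1) (g : X.functionField) (hg : g ≠ 0) :
    {x : LocSym.Pt c | x.ord g ≠ 0}.Finite := by
  obtain ⟨W, hW, hord⟩ := exists_open_ord_eq_zero g hg
  have hfin := finite_compl_of_dim_one hdim W hW
  refine (hfin.preimage ((pt_injective c).injOn)).subset ?_
  intro x hx
  change x.pt ∈ (W : Set X)ᶜ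
  intro hxW
  exact hx (hord x.pt hxW)

end Groth.Agent.Lib.Helper18.LS1
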