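import Mathlib
import Groth.Prelude
import Groth.Agent.Lib.Helper18.PCv2
import Groth.Agent.Lib.Helper18.LS1
import Groth.Agent.Lib.Helper18.FF8
import Groth.Agent.Lib.Helper18.SP1
import Groth.Agent.Lib.Helper18.PC5
import Groth.Agent.Lib.Helper6.Wt2

/-!
# The graph of an endomorphism of a curve as a pullback of the diagonal (helper18)
-/

set_option autoImplicit false
set_option linter.unusedSectionVars false

universe u

open CategoryTheory CategoryTheory.Limits AlgebraicGeometry Opposite

namespace Groth.Agent.Lib.Helper18.GR2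

variable {k : Type u} [Field k] {X : Scheme.{u}} (f : X ⟶ Spec (CommRingCat.of k)) (ψ : X ⟶ X)
  (hψ : ψ ≫ f = f)
  (m : pullback f f ⟶ pullback f f) (hm₁ : m ≫ pullback.fst f f = pullback.fst f f ≫ ψ)
  (hm₂ : m ≫ pullback.snd f f = pullback.snd f f) (g : X ⟶ pullback f f)
  (hg₁ : g ≫ pullback.fst f f = 𝟙 X) (hg₂ : g ≫ pullback.snd f f = ψ)

include hψ hm₁ hm₂ in
/-- `ψ × id` is the base change of `ψ` along the first projection -/
theorem isPullback_m : IsPullback m (pullback.fst f f) (pullback.fst f f) ψ := by
  have t₂ : IsPullback (pullback.snd f f) (pullback.fst f f) f f :=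
    (IsPullback.of_hasPullback f f).flip
  refine IsPullback.of_right ?_ hm₁ t₂
  rw [hm₂, hψ]
  exact t₂

include hm₁ hm₂ hg₁ hg₂ in
/-- the graph of `ψ` is the pullback of the diagonal along `ψ × id` -/
theorem isPullback_g : IsPullback g ψ m (pullback.diagonal f) := by
  have w : g ≫ m = ψ ≫ pullback.diagonal f := by
    apply pullback.hom_ext
    · rw [Category.assoc, hm₁, ← Category.assoc, hg₁, Category.id_comp, Category.assoc,
        pullback.diagonal_fst, Category.comp_id]
    · rw [Category.assoc, hm₂, hg₂, Category.assoc, pullback.diagonal_snd, Category.comp_id]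
  refine ⟨⟨w⟩, ⟨PullbackCone.IsLimit.mk _ (fun s => s.fst ≫ pullback.fst f f) ?_ ?_ ?_⟩⟩
  · intro s
    have h1 : s.fst ≫ pullback.fst f f ≫ ψ = s.snd := by
      rw [← hm₁, ← Category.assoc, s.condition, Category.assoc, pullback.diagonal_fst,
        Category.comp_id]
    have h2 : s.fst ≫ pullback.snd f f = s.snd := by
      rw [← hm₂, ← Category.assoc, s.condition, Category.assoc, pullback.diagonal_snd,
        Category.comp_id]
    apply pullback.hom_ext
    · rw [Category.assoc, Category.assoc, hg₁, Category.comp_id]
    · rw [Category.assoc, Category.assoc, hg₂, h1, h2]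
  · intro s
    rw [Category.assoc, ← hm₁, ← Category.assoc, s.condition, Category.assoc,
      pullback.diagonal_fst, Category.comp_id]
  · intro s t ht _
    rw [← ht, Category.assoc, hg₁, Category.comp_id]

section Curve

variable [IsIntegral X] [Flat ψ]

/-- a flat endomorphism fixes the generic point -/
theorem psi_generic : ψ (genericPoint X) = genericPoint X := by
  have h : GeneralizingMap ψ := Flat.generalizingMap ψ
  have hsp : genericPoint X ⤳ ψ (genericPoint X) := (genericPoint_spec X).specializes trivial
  obtain ⟨a, ha, hψa⟩ := h hsp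
  have ha' : genericPoint X ⤳ a := (genericPoint_spec X).specializes trivial
  have : a = genericPoint X := (ha.antisymm ha').eq
  rw [this] at hψa
  exact hψa

variable [LocallyOfFiniteType f] [QuasiCompact f] (hdim : topologicalKrullDim X = 1)
  (δX : X → ℤ) (hδX : Cyc.DeltaCompat f δX (fun _ => 0))

include hψ hδX in
theorem deltaCompat_psi : Cyc.DeltaCompat ψ δX δX :=
  Groth.Agent.Lib.Helper18.FF8.deltaCompat_cancel ψ f δX δX (fun _ => 0) (by rw [hψ]; exact hδX) hδX

include hψ hδX in
theorem preimage_generic (s : X) (hs : ψ s = genericPoint X) : s = genericPoint X := by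
  by_contra hne
  have hD := (Groth.Agent.Lib.Helper18.PCv2.isSetup f δX hδX).2.2
  have hsp : genericPoint X ⤳ s := (genericPoint_spec X).specializes trivial
  have hlt := (hD _ _ hsp (fun h => hne h.symm)).1
  obtain ⟨n, -, hn⟩ := deltaCompat_psi f ψ hψ δX hδX s
  rw [hs] at hn
  omega

include hψ hdim hδX in
theorem finite_preimage (t : X) : (ψ ⁻¹' {t}).Finite := by
  haveI : IsLocallyNoetherian X := LocallyOfFiniteType.isLocallyNoetherian f
  haveI : CompactSpace X := QuasiCompact.compactSpace_of_compactSpace f
  haveI : IsNoetherian X := {}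
  by_cases ht : t = genericPoint X
  · subst ht
    refine (Set.finite_singleton (genericPoint X)).subset ?_
    intro s hs
    exact preimage_generic f ψ hψ δX hδX s hs
  · let W : X.Opens := ψ ⁻¹ᵁ ⟨(closure {t})ᶜ, isClosed_closure.isOpen_compl⟩
    have hW : genericPoint X ∈ W := by
      change ψ (genericPoint X) ∈ (closure {t})ᶜ
      rw [psi_generic ψ]
      intro hmem
      have h1 : t ⤳ genericPoint X := specializes_iff_mem_closure.mpr hmem
      have h2 : genericPoint X ⤳ t := (genericPoint_spec X).specializes trivial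
      exact ht (h1.antisymm h2).eq
    refine (Groth.Agent.Lib.Helper18.LS1.finite_compl_of_dim_one hdim.le W hW).subset ?_
    intro s hs hsW
    have : ψ s ∈ (closure {t})ᶜ := hsW
    rw [Set.mem_preimage, Set.mem_singleton_iff] at hs
    rw [hs] at this
    exact this (subset_closure rfl)

include hψ hdim hδX in
theorem locallyQuasiFinite_psi : LocallyQuasiFinite ψ := by
  haveI : LocallyOfFiniteType ψ := by
    haveI : LocallyOfFiniteType (ψ ≫ f) := by rw [hψ]; infer_instance
    exact locallyOfFiniteType_of_comp ψ f
  exact LocallyQuasiFinite.of_finite_preimage_singleton ψ (finite_preimage f ψ hψ hdim δX hδX)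

include hψ hm₁ hm₂ hdim hδX in
theorem locallyQuasiFinite_m : LocallyQuasiFinite m :=
  MorphismProperty.of_isPullback (isPullback_m f ψ hψ m hm₁ hm₂).flip
    (locallyQuasiFinite_psi f ψ hψ hdim δX hδX)

include hψ hm₁ hm₂ in
theorem flat_m : Flat m :=
  MorphismProperty.of_isPullback (isPullback_m f ψ hψ m hm₁ hm₂).flip (inferInstance : Flat ψ)

end Curve

end Groth.Agent.Lib.Helper18.GR2
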