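import Mathlib
import Groth.Prelude
import Groth.Agent.S6477
import Groth.Agent.Lib.Helper18.GR1
import Groth.Agent.Lib.Helper18.GR2
import Groth.Agent.Lib.Helper26.FlatBC
import Groth.Agent.Lib.Helper29.PullSect

/-!
# `(ψ × id)^*[Δ] = [Γ_ψ]` (helper18)
-/

set_option autoImplicit false
set_option linter.unusedSectionVars false
set_option linter.style.haveILetI false

universe u

open CategoryTheory CategoryTheory.Limits AlgebraicGeometry Opposite

namespace Groth.Agent.Lib.Helper18.GR3

open Groth.Agent.Lib.Helper29.QCoh Groth.Agent.Lib.Helper18.GR2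

variable {k : Type u} [Field k] {X : Scheme.{u}} (f : X ⟶ Spec (CommRingCat.of k))
  [IsProper f] [IsIntegral X] (hdim : topologicalKrullDim X = 1)
  (ψ : X ⟶ X) (hψ : ψ ≫ f = f) [Flat ψ]
  (m : pullback f f ⟶ pullback f f) (hm₁ : m ≫ pullback.fst f f = pullback.fst f f ≫ ψ)
  (hm₂ : m ≫ pullback.snd f f = pullback.snd f f) (g : X ⟶ pullback f f)
  (hg₁ : g ≫ pullback.fst f f = 𝟙 X) (hg₂ : g ≫ pullback.snd f f = ψ)
  (δ : ↥(pullback f f) → ℤ) (hδ : Cyc.DeltaCompat (pullback.fst f f ≫ f) δ (fun _ => 0))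

include hdim hψ hm₁ hm₂ hg₁ hg₂ hδ in
theorem main :
    Cyc.pullFun m δ δ 0
        (Set.indicator ({pullback.diagonal f (genericPoint ↥X)} : Set ↥(pullback f f)) (fun _ => (1 : ℤ))) =
      Set.indicator ({g (genericPoint ↥X)} : Set ↥(pullback f f)) (fun _ => (1 : ℤ)) := by
  classical
  set d := pullback.diagonal f with hd
  set p := pullback.fst f f ≫ f with hp
  have hY : Cyc.IsSetup (pullback f f) δ := Groth.Agent.Lib.Helper18.PCv2.isSetup p δ hδ
  haveI : IsLocallyNoetherian (pullback f f) := hY.1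
  -- `g` is a closed immersion
  have hpbg := isPullback_g f ψ m hm₁ hm₂ g hg₁ hg₂
  haveI : IsClosedImmersion g := MorphismProperty.of_isPullback hpbg.flip
    (inferInstance : IsClosedImmersion d)
  -- dimension functions on `X`
  have hdp : d ≫ p = f := by
    rw [hp, ← Category.assoc, hd, pullback.diagonal_fst, Category.id_comp]
  have hgp : g ≫ p = f := by
    rw [hp, ← Category.assoc, hg₁, Category.id_comp]
  have hδd : Cyc.DeltaCompat f (fun x => δ (d x)) (fun _ => 0) := by
    have := Groth.Agent.Lib.Helper18.PC5.deltaCompat_comp d p _ δ (fun _ => 0)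
      (Groth.Agent.Lib.Helper18.SP1.deltaCompat_of_isPreimmersion d δ) hδ
    rwa [hdp] at this
  have hδg : Cyc.DeltaCompat f (fun x => δ (g x)) (fun _ => 0) := by
    have := Groth.Agent.Lib.Helper18.PC5.deltaCompat_comp g p _ δ (fun _ => 0)
      (Groth.Agent.Lib.Helper18.SP1.deltaCompat_of_isPreimmersion g δ) hδ
    rwa [hgp] at this
  have hgd : δ (g (genericPoint X)) = δ (d (genericPoint X)) :=
    congrFun (Groth.Agent.Lib.Helper18.FF8.deltaCompat_unique f _ _ _ hδg hδd) (genericPoint X)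
  -- `m` is flat and quasi-finite
  haveI : Flat m := flat_m f ψ hψ m hm₁ hm₂
  haveI : LocallyQuasiFinite m := locallyQuasiFinite_m f ψ hψ m hm₁ hm₂ hdim _ hδd
  have hmp : m ≫ p = p := by
    rw [hp, ← Category.assoc, hm₁, Category.assoc, hψ]
  have hδm : Cyc.DeltaCompat m δ δ :=
    Groth.Agent.Lib.Helper18.FF8.deltaCompat_cancel m p δ δ (fun _ => 0) (by rw [hmp]; exact hδ) hδ
  have hc : ∀ y : ↥(pullback f f), (∀ z, m z = m y → z ⤳ y → z = y) → δ y = δ (m y) + 0 := by
    intro y _
    obtain ⟨n, hn, hy⟩ := hδm y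
    haveI := Groth.Agent.Lib.Helper6.Wt.isAlgebraic_residueField m y
    letI := (m.residueFieldMap y).hom.toAlgebra
    have h0 : Algebra.trdeg ((pullback f f).residueField (m y)) ((pullback f f).residueField y) = 0 :=
      trdeg_eq_zero
    have hn' : Algebra.trdeg ((pullback f f).residueField (m y)) ((pullback f f).residueField y) = n := hn
    rw [h0] at hn'
    have : n = 0 := by exact_mod_cast hn'.symm
    rw [hy, this]
    simp
  -- the module `d_* O_X`
  have hF : Coh.IsCoh (Groth.Agent.Lib.Helper18.SQ2.OW d) := Groth.Agent.Lib.Helper18.SQ2.isCoh_OW d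
  have hdimF : ∀ y : ↥(pullback f f),
      Nontrivial ((Groth.Agent.Lib.Helper18.SQ2.OW d).presheaf.stalk y) →
        δ y ≤ δ (d (genericPoint X)) := by
    intro y hy
    by_cases hyr : y ∈ Set.range d
    · obtain ⟨x, rfl⟩ := hyr
      have hsp : d (genericPoint X) ⤳ d x :=
        ((genericPoint_spec X).specializes trivial).map d.continuous
      by_cases hxe : d (genericPoint X) = d x
      · rw [hxe]
      · exact (hY.2.2 _ _ hsp hxe).1.le
    · haveI := Groth.Agent.Lib.Helper18.SQ2.subsingleton_stalk d y hyr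
      exact absurd hy (not_nontrivial _)
  have key := (Groth.Agent.S6477.result (pullback f f) (pullback f f) m δ δ hY hY 0 hc
    (δ (d (genericPoint X))) (Groth.Agent.Lib.Helper18.SQ2.OW d) hF hdimF).2
  rw [Groth.Agent.Lib.Helper18.GR1.sheafFun_OW d δ hY.2.2] at key
  rw [key, add_zero]
  -- flat base change
  haveI : (Coh.structureModule X).IsQuasicoherent := isQuasicoherent_unitM X
  haveI : IsIso (Groth.Agent.Lib.Helper26.AffineBC.uMap d m ψ g hpbg.flip.w (Coh.structureModule X)) :=
    Groth.Agent.Lib.Helper26.FlatBC.isIso_uMap d m ψ g hpbg.flip (Coh.structureModule X)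
  let e : (Scheme.Modules.pullback m).obj (Groth.Agent.Lib.Helper18.SQ2.OW d) ≅
      Groth.Agent.Lib.Helper18.SQ2.OW g :=
    asIso (Groth.Agent.Lib.Helper26.AffineBC.uMap d m ψ g hpbg.flip.w (Coh.structureModule X)) ≪≫
      (Scheme.Modules.pushforward g).mapIso (pullbackUnitIso ψ)
  rw [Groth.Agent.Lib.Helper18.GR1.sheafFun_congr_iso δ _ e, ← hgd,
    Groth.Agent.Lib.Helper18.GR1.sheafFun_OW g δ hY.2.2]

end Groth.Agent.Lib.Helper18.GR3
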