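import Mathlib
import Groth.Prelude.Def_CAlg
import Groth.Agent.Lib.Helper18.CMRing

set_option autoImplicit false
set_option linter.unusedSectionVars false
universe u

open IsLocalRing Pointwise RingTheory.Sequence

namespace Groth.Agent.Lib.Helper18.CM

section gens

open Groth.Agent.Lib.Helper16.Depth

variable {R : Type u} [CommRing R] [IsLocalRing R] [IsNoetherianRing R]

/-- If `I' ` kills a nonzero element of the finite module `M` and `x ∈ 𝔪`, there is no
`M`-regular sequence of length two in `I' + (x)`. -/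
theorem not_hasRegSeq_two_of_socle (M : Type u) [AddCommGroup M] [Module R M] [Module.Finite R M]
    (I' : Ideal R) (x : R) (hx : x ∈ maximalIdeal R)
    (z₀ : M) (hz₀ : z₀ ≠ 0) (hI'z : ∀ c ∈ I', c • z₀ = 0) :
    ¬ HasRegSeq (I' ⊔ Ideal.span {x}) M 2 := by
  rintro ⟨rs, hlen, hreg, hmem⟩
  match rs, hlen with
  | [u, v], _ =>
    rw [isWeaklyRegular_cons_iff] at hreg
    obtain ⟨hu, hv⟩ := hreg
    rw [isWeaklyRegular_cons_iff] at hv
    replace hv := hv.1
    obtain ⟨a, ha, rx, hrx, hu'⟩ := Submodule.mem_sup.mp (hmem u (by simp))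
    obtain ⟨r, rfl⟩ := Ideal.mem_span_singleton'.mp hrx
    obtain ⟨b, hb, sx, hsx, hv'⟩ := Submodule.mem_sup.mp (hmem v (by simp))
    obtain ⟨s, rfl⟩ := Ideal.mem_span_singleton'.mp hsx
    -- the submodule killed by `I'`
    let N : Submodule R M :=
      { carrier := {z | ∀ c ∈ I', c • z = 0}
        add_mem' := fun {y z} hy hz c hc => by rw [smul_add, hy c hc, hz c hc, add_zero]
        zero_mem' := fun c _ => smul_zero c
        smul_mem' := fun d z hz c hc => by rw [smul_comm, hz c hc, smul_zero] }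
    have hNle : N ≤ x • N := by
      intro z hz
      have huz : u • z = (r * x) • z := by rw [← hu', add_smul, hz a ha, zero_add]
      have hvz : v • z = (s * x) • z := by rw [← hv', add_smul, hz b hb, zero_add]
      have h1 : v • (r • z) = u • (s • z) := by
        rw [smul_comm v r z, hvz, smul_comm u s z, huz, smul_smul, smul_smul]
        congr 1
        ring
      have h2 : r • z ∈ (u • ⊤ : Submodule R M) := by
        have h3 : v • (Submodule.Quotient.mk (r • z) : QuotSMulTop u M) = 0 := by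
          rw [← Submodule.Quotient.mk_smul, h1, Submodule.Quotient.mk_eq_zero]
          exact Submodule.smul_mem_pointwise_smul _ _ _ trivial
        have h4 := hv (a₁ := Submodule.Quotient.mk (r • z)) (a₂ := 0) (by
          show v • _ = v • _
          rw [h3, smul_zero])
        rwa [Submodule.Quotient.mk_eq_zero] at h4
      obtain ⟨t, -, ht⟩ := (Submodule.mem_smul_pointwise_iff_exists _ _ _).mp h2
      have htN : t ∈ N := by
        intro c hc
        apply hu
        show u • (c • t) = u • 0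
        rw [smul_zero, smul_comm, ht, smul_comm, hz c hc, smul_zero]
      have hzt : z = x • t := by
        apply hu
        show u • z = u • (x • t)
        rw [smul_comm u x t, ht, huz, smul_smul]
        congr 1
        ring
      rw [hzt]
      exact Submodule.smul_mem_pointwise_smul _ _ _ htN
    have hNbot : N = ⊥ := by
      apply Submodule.eq_bot_of_le_smul_of_le_jacobson_bot (Ideal.span {x}) N
        (IsNoetherian.noetherian N)
      · rw [Submodule.ideal_span_singleton_smul]
        exact hNle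
      · rw [Ideal.span_singleton_le_iff_mem]
        exact (IsLocalRing.maximalIdeal_le_jacobson _) hx
    have : z₀ ∈ N := hI'z
    rw [hNbot, Submodule.mem_bot] at this
    exact hz₀ this

/-- adding one generator in `𝔪` raises the grade by at most one -/
theorem idealDepth_sup_span_singleton_le (M : Type u) [AddCommGroup M] [Module R M]
    [Module.Finite R M] [Nontrivial M] (I' : Ideal R) (hI' : I' ≤ maximalIdeal R) (x : R)
    (hx : x ∈ maximalIdeal R) :
    LocCoh.idealDepth (I' ⊔ Ideal.span {x}) M ≤ LocCoh.idealDepth I' M + 1 := by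
  have hI'top : I' ≠ ⊤ := fun h => (maximalIdeal.isMaximal R).ne_top (top_le_iff.mp (h ▸ hI'))
  have hIle : I' ⊔ Ideal.span {x} ≤ maximalIdeal R :=
    sup_le hI' ((Ideal.span_singleton_le_iff_mem _).mpr hx)
  have hItop : I' ⊔ Ideal.span {x} ≠ ⊤ :=
    fun h => (maximalIdeal.isMaximal R).ne_top (top_le_iff.mp (h ▸ hIle))
  obtain ⟨g', hg'⟩ := ENat.ne_top_iff_exists.mp (idealDepth_ne_top M I' hI'top)
  have hI'M : I' • (⊤ : Submodule R M) ≠ ⊤ := smul_top_ne_top_of_ne_top M I' hI'top
  have hIM : (I' ⊔ Ideal.span {x}) • (⊤ : Submodule R M) ≠ ⊤ :=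
    smul_top_ne_top_of_ne_top M _ hItop
  have h1 : (g' : ℕ∞) ≤ LocCoh.idealDepth I' M := hg'.le
  rw [le_idealDepth_iff] at h1
  rcases h1 with h1 | ⟨ys, hlen, hreg, hmem⟩
  · exact absurd h1 hI'M
  have hysm : ∀ y ∈ ys, y ∈ maximalIdeal R := fun y hy => hI' (hmem y hy)
  have hnt := nontrivial_quot_ofList ys hysm M
  have e1 := idealDepth_quot_ofList I' ys hmem M hI'M hreg
  have e2 := idealDepth_quot_ofList (I' ⊔ Ideal.span {x}) ys
    (fun y hy => le_sup_left (a := I') (hmem y hy)) M hIM hreg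
  rw [← hg', hlen] at e1
  have h0 : LocCoh.idealDepth I' (M ⧸ (Ideal.ofList ys • ⊤ : Submodule R M)) = 0 := by
    have : LocCoh.idealDepth I' (M ⧸ (Ideal.ofList ys • ⊤ : Submodule R M)) + (g' : ℕ∞) =
        0 + (g' : ℕ∞) := by rw [e1, zero_add]
    exact ENat.add_left_injective_of_ne_top (ENat.natCast_ne_top g') this
  have hI'Mt : I' • (⊤ : Submodule R (M ⧸ (Ideal.ofList ys • ⊤ : Submodule R M))) ≠ ⊤ :=
    smul_top_ne_top_of_ne_top _ I' hI'top
  have h4 : ¬ ∃ y ∈ I', IsSMulRegular (M ⧸ (Ideal.ofList ys • ⊤ : Submodule R M)) y := by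
    rw [← one_le_idealDepth_iff I' _ hI'Mt, h0]
    simp
  rw [exists_regular_iff] at h4
  push Not at h4
  obtain ⟨P, hP, hI'P⟩ := h4
  obtain ⟨hPp, z₀, hz⟩ := isAssociatedPrime_iff.mp hP
  have hz₀ : z₀ ≠ 0 := by
    rintro rfl
    apply hPp.ne_top
    rw [Ideal.eq_top_iff_one, hz, Submodule.mem_colon_singleton]
    simp
  have hkill : ∀ c ∈ I', c • z₀ = 0 := by
    intro c hc
    have := hI'P hc
    rw [hz, Submodule.mem_colon_singleton, Submodule.mem_bot] at this
    exact this
  have hno := not_hasRegSeq_two_of_socle (M ⧸ (Ideal.ofList ys • ⊤ : Submodule R M)) I' x hx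
    z₀ hz₀ hkill
  rw [← hg', ← e2, hlen]
  have h5 : LocCoh.idealDepth (I' ⊔ Ideal.span {x})
      (M ⧸ (Ideal.ofList ys • ⊤ : Submodule R M)) ≤ 1 := by
    by_contra hcon
    rw [not_le] at hcon
    have h6 : ((2 : ℕ) : ℕ∞) ≤ LocCoh.idealDepth (I' ⊔ Ideal.span {x})
        (M ⧸ (Ideal.ofList ys • ⊤ : Submodule R M)) := by
      have := Order.add_one_le_of_lt hcon
      exact_mod_cast this
    rw [le_idealDepth_iff] at h6
    rcases h6 with h6 | h6
    · exact smul_top_ne_top_of_ne_top _ _ hItop h6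
    · exact hno h6
  rw [add_comm (g' : ℕ∞) 1]
  exact add_le_add h5 le_rfl

theorem ofList_le_maximalIdeal (xs : List R) (hxs : ∀ x ∈ xs, x ∈ maximalIdeal R) :
    Ideal.ofList xs ≤ maximalIdeal R := by
  rw [Ideal.ofList, Ideal.span_le]
  exact fun x hx => hxs x hx

theorem ofList_ne_top (xs : List R) (hxs : ∀ x ∈ xs, x ∈ maximalIdeal R) :
    Ideal.ofList xs ≠ ⊤ :=
  fun h => (maximalIdeal.isMaximal R).ne_top
    (top_le_iff.mp (h ▸ ofList_le_maximalIdeal xs hxs))

theorem smul_quot_smul_top_eq_zero (M : Type u) [AddCommGroup M] [Module R M] (I : Ideal R)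
    (c : R) (hc : c ∈ I) (z : M ⧸ (I • ⊤ : Submodule R M)) : c • z = 0 := by
  obtain ⟨z, rfl⟩ := Submodule.Quotient.mk_surjective _ z
  rw [← Submodule.Quotient.mk_smul, Submodule.Quotient.mk_eq_zero]
  exact Submodule.smul_mem_smul hc Submodule.mem_top

/-- the grade of `M/IM` with respect to `I` is zero -/
theorem idealDepth_quot_smul_top_eq_zero (M : Type u) [AddCommGroup M] [Module R M]
    [Module.Finite R M] [Nontrivial M] (I : Ideal R) (hI : I ≠ ⊤) :
    LocCoh.idealDepth I (M ⧸ (I • ⊤ : Submodule R M)) = 0 := by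
  have hnt : Nontrivial (M ⧸ (I • ⊤ : Submodule R M)) :=
    Submodule.Quotient.nontrivial_iff.mpr (smul_top_ne_top_of_ne_top M I hI)
  have hIM := smul_top_ne_top_of_ne_top (M ⧸ (I • ⊤ : Submodule R M)) I hI
  by_contra hne
  have h1 : 1 ≤ LocCoh.idealDepth I (M ⧸ (I • ⊤ : Submodule R M)) :=
    Order.one_le_iff_pos.mpr (pos_iff_ne_zero.mpr hne)
  rw [one_le_idealDepth_iff I _ hIM] at h1
  obtain ⟨c, hc, hreg⟩ := h1
  obtain ⟨z, hz⟩ := exists_ne (0 : M ⧸ (I • ⊤ : Submodule R M))
  apply hz
  apply hreg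
  show c • z = c • 0
  rw [smul_zero, smul_quot_smul_top_eq_zero M I c hc z]

/-- a weakly regular sequence in `𝔪` computes the grade of the ideal it generates -/
theorem idealDepth_ofList_eq_length_of_isWeaklyRegular (M : Type u) [AddCommGroup M] [Module R M]
    [Module.Finite R M] [Nontrivial M] (xs : List R) (hxs : ∀ x ∈ xs, x ∈ maximalIdeal R)
    (hreg : IsWeaklyRegular M xs) :
    LocCoh.idealDepth (Ideal.ofList xs) M = xs.length := by
  have hI := ofList_ne_top xs hxs
  have h := idealDepth_quot_ofList (Ideal.ofList xs) xs (fun x hx => Ideal.subset_span hx) M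
    (smul_top_ne_top_of_ne_top M _ hI) hreg
  rw [idealDepth_quot_smul_top_eq_zero M _ hI, zero_add] at h
  exact h.symm

/-- if the grade of `(xs)` is at least the length of `xs ⊆ 𝔪`, then `xs` is weakly regular -/
theorem isWeaklyRegular_of_length_le_idealDepth (M : Type u) [AddCommGroup M] [Module R M]
    [Module.Finite R M] [Nontrivial M] (xs : List R) (hxs : ∀ x ∈ xs, x ∈ maximalIdeal R)
    (h : (xs.length : ℕ∞) ≤ LocCoh.idealDepth (Ideal.ofList xs) M) :
    IsWeaklyRegular M xs := by
  induction xs using List.reverseRecOn with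
  | nil => exact IsWeaklyRegular.nil R M
  | append_singleton xs x ih =>
    have hxs' : ∀ y ∈ xs, y ∈ maximalIdeal R := fun y hy => hxs y (by simp [hy])
    have hx : x ∈ maximalIdeal R := hxs x (by simp)
    have hI' := ofList_ne_top xs hxs'
    have hI := ofList_ne_top (xs ++ [x]) hxs
    have hsup : Ideal.ofList (xs ++ [x]) = Ideal.ofList xs ⊔ Ideal.span {x} := by
      rw [Ideal.ofList_append, Ideal.ofList_singleton]
    have hle := idealDepth_sup_span_singleton_le M (Ideal.ofList xs)
      (ofList_le_maximalIdeal xs hxs') x hx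
    rw [← hsup] at hle
    have hlen : ((xs ++ [x]).length : ℕ∞) = (xs.length : ℕ∞) + 1 := by simp
    rw [hlen] at h
    have h1 : (xs.length : ℕ∞) ≤ LocCoh.idealDepth (Ideal.ofList xs) M := by
      have := h.trans hle
      exact (ENat.add_le_add_iff_right ENat.one_ne_top).mp this
    have hreg' := ih hxs' h1
    rw [isWeaklyRegular_append_iff]
    refine ⟨hreg', ?_⟩
    rw [isWeaklyRegular_singleton_iff]
    have hnt := nontrivial_quot_ofList xs hxs' M
    have hmem' : ∀ y ∈ xs, y ∈ Ideal.ofList (xs ++ [x]) := fun y hy =>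
      Ideal.subset_span (by simp [hy])
    have e := idealDepth_quot_ofList (Ideal.ofList (xs ++ [x])) xs hmem' M
      (smul_top_ne_top_of_ne_top M _ hI) hreg'
    have h2 : 1 ≤ LocCoh.idealDepth (Ideal.ofList (xs ++ [x]))
        (M ⧸ (Ideal.ofList xs • ⊤ : Submodule R M)) := by
      rw [← e, add_comm] at h
      exact (ENat.add_le_add_iff_right (ENat.natCast_ne_top _)).mp h
    rw [one_le_idealDepth_iff _ _ (smul_top_ne_top_of_ne_top _ _ hI)] at h2
    obtain ⟨r, hr, hrreg⟩ := h2
    rw [hsup] at hr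
    obtain ⟨c, hc, ax, hax, rfl⟩ := Submodule.mem_sup.mp hr
    obtain ⟨a, rfl⟩ := Ideal.mem_span_singleton'.mp hax
    intro z₁ z₂ hz
    apply hrreg
    show (c + a * x) • z₁ = (c + a * x) • z₂
    have hz' : x • z₁ = x • z₂ := hz
    rw [add_smul, add_smul, smul_quot_smul_top_eq_zero M _ c hc,
      smul_quot_smul_top_eq_zero M _ c hc, mul_smul, mul_smul, hz']

theorem idealDepth_ofList_eq_length_iff (M : Type u) [AddCommGroup M] [Module R M]
    [Module.Finite R M] [Nontrivial M] (xs : List R) (hxs : ∀ x ∈ xs, x ∈ maximalIdeal R) :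
    LocCoh.idealDepth (Ideal.ofList xs) M = xs.length ↔ IsWeaklyRegular M xs :=
  ⟨fun h => isWeaklyRegular_of_length_le_idealDepth M xs hxs h.ge,
    idealDepth_ofList_eq_length_of_isWeaklyRegular M xs hxs⟩

end gens

end Groth.Agent.Lib.Helper18.CM
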