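import Mathlib
import Groth.Prelude.Def_C1
import Groth.Agent.Lib.Helper18.SecDiv
import Groth.Agent.Lib.Helper18.LocStalk2
import Groth.Agent.Lib.Helper18.DivPull3

/-!
# The order of a global section along an immediate specialization
-/

set_option autoImplicit false
set_option linter.style.haveILetI false
universe u
open CategoryTheory AlgebraicGeometry TopologicalSpace

namespace Groth.Agent.Lib.Helper18.SecDiv

variable {X : Scheme.{u}}

/-- the order along `ξ ⤳ x` of the rational section induced by a global section `s` whose image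
in `L(ξ)` is nonzero is the order of the coefficient of `s_x` on the chosen generator of `L_x` -/
theorem secOrdAt_germ_eq (δ : X → ℤ) (hX : Cyc.IsSetup X δ) (L : X.Modules)
    (s : L.presheaf.obj (Opposite.op ⊤)) (x ξ : X) (h : ξ ⤳ x) (h1 : δ x + 1 = δ ξ)
    (ht : ∃ t : L.presheaf.stalk x, Submodule.span (X.presheaf.stalk x) {t} = ⊤)
    (f : X.presheaf.stalk x) (hf : L.presheaf.germ ⊤ x trivial s = f • Classical.choose ht)
    (hne : (Submodule.Quotient.mk (L.presheaf.germ ⊤ ξ trivial s) : Cyc.secFibre L ξ) ≠ 0) :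
    Cyc.secOrdAt L ξ x h (Submodule.Quotient.mk (L.presheaf.germ ⊤ ξ trivial s)) =
      ((Ring.ord (Cyc.LocQuot x ξ h)
        (Ideal.Quotient.mk (RingHom.ker (Cyc.specMap x ξ h)) f)).toNat : ℤ) := by
  classical
  unfold Cyc.secOrdAt
  rw [dif_pos ht]
  generalize Classical.choose ht = t at hf ⊢
  have hgen : L.presheaf.germ ⊤ ξ trivial s =
      X.presheaf.stalkSpecializes h f • L.presheaf.stalkSpecializes h t := by
    rw [← stalkSpecializes_germ_top L h s, hf, stalkSpecializes_smul]
  have hφ : ∃ φ : X.presheaf.stalk ξ,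
      (Submodule.Quotient.mk (L.presheaf.germ ⊤ ξ trivial s) : Cyc.secFibre L ξ) =
      φ • (Submodule.Quotient.mk (L.presheaf.stalkSpecializes h t) : Cyc.secFibre L ξ) :=
    ⟨X.presheaf.stalkSpecializes h f, by rw [hgen]; rfl⟩
  rw [dif_pos hφ]
  have hφs := Classical.choose_spec hφ
  generalize Classical.choose hφ = φ at hφs ⊢
  have hres : (X.residue ξ).hom φ = Cyc.specMap x ξ h f := by
    have e1 : (Submodule.Quotient.mk (L.presheaf.germ ⊤ ξ trivial s) : Cyc.secFibre L ξ) =
        X.presheaf.stalkSpecializes h f •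
          (Submodule.Quotient.mk (L.presheaf.stalkSpecializes h t) : Cyc.secFibre L ξ) := by
      rw [hgen]; rfl
    have e2 : (φ - X.presheaf.stalkSpecializes h f) •
        (Submodule.Quotient.mk (L.presheaf.stalkSpecializes h t) : Cyc.secFibre L ξ) = 0 := by
      rw [sub_smul, ← hφs, ← e1, sub_self]
    have hmem : φ - X.presheaf.stalkSpecializes h f ∈
        IsLocalRing.maximalIdeal (X.presheaf.stalk ξ) := by
      rw [IsLocalRing.mem_maximalIdeal, mem_nonunits_iff]
      intro hu
      have : (Submodule.Quotient.mk (L.presheaf.stalkSpecializes h t) : Cyc.secFibre L ξ) = 0 := by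
        calc (Submodule.Quotient.mk (L.presheaf.stalkSpecializes h t) : Cyc.secFibre L ξ)
            = ((↑(hu.unit⁻¹) : X.presheaf.stalk ξ) * (φ - X.presheaf.stalkSpecializes h f)) •
                (Submodule.Quotient.mk (L.presheaf.stalkSpecializes h t) : Cyc.secFibre L ξ) := by
              rw [IsUnit.val_inv_mul, one_smul]
          _ = 0 := by rw [mul_smul, e2, smul_zero]
      rw [this, smul_zero] at hφs
      exact hne hφs
    have := (IsLocalRing.residue_eq_zero_iff _).mpr hmem
    rw [map_sub, sub_eq_zero] at this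
    exact this
  rw [hres]
  haveI : IsLocallyNoetherian X := hX.1
  haveI : (RingHom.ker (Cyc.specMap x ξ h)).IsPrime := RingHom.ker_isPrime _
  haveI : IsDomain (Cyc.LocQuot x ξ h) := Ideal.Quotient.isDomain _
  haveI : Ring.KrullDimLE 1 (Cyc.LocQuot x ξ h) :=
    Groth.Agent.Lib.Helper18.DivPull.krullDimLE_one_locQuot δ hX.2.2 x ξ h h1
  haveI : IsFractionRing (Cyc.LocQuot x ξ h) (X.residueField ξ) :=
    Groth.Agent.Lib.Helper18.LocStalk.isFractionRing_locQuot x ξ h
  have hne' : Ideal.Quotient.mk (RingHom.ker (Cyc.specMap x ξ h)) f ≠ 0 := by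
    intro h0
    rw [Ideal.Quotient.eq_zero_iff_mem, Groth.Agent.Lib.Helper18.LocStalk.ker_specMap_eq,
      Ideal.mem_comap] at h0
    apply hne
    rw [Submodule.Quotient.mk_eq_zero, hgen]
    exact Submodule.smul_mem_smul h0 trivial
  unfold Cyc.ordAt
  rw [← Groth.Agent.Lib.Helper18.DivPull.algebraMap_locQuot_mk,
    Groth.Agent.Lib.Helper26.OrdZ.ordFrac_algebraMap hne']

end Groth.Agent.Lib.Helper18.SecDiv
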