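import Mathlib
import Groth.Prelude.Def_C1
import Groth.Prelude.Def_Pic
import Groth.Prelude.Def_Coh
import Groth.Agent.Lib.Helper18.ModStalkLoc
import Groth.Agent.Lib.Helper18.ClImmStalk
import Groth.Agent.Lib.Helper18.ModGenSum
import Groth.Agent.Lib.Helper18.SecDiv2
import Groth.Agent.Lib.Helper18.InvStalk
import Groth.Agent.Lib.Helper18.JacDim7
import Groth.Agent.Lib.Helper9.FinLenSupp

/-!
# The Gysin pullback of the cycle of a coherent sheaf on which the section is regular
-/

set_option autoImplicit false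
set_option linter.style.haveILetI false
universe u
open CategoryTheory AlgebraicGeometry TopologicalSpace
open scoped Pointwise

namespace Groth.Agent.Lib.Helper18.GysinSheaf

variable {X : Scheme.{u}}

/-- the stalk of `F` at a point of maximal `δ` in the support has finite length -/
theorem isFiniteLength_stalk (δ : X → ℤ) (hX : Cyc.IsSetup X δ) (k : ℤ) (F : X.Modules)
    (hF : Coh.IsCoh F) (hdim : ∀ x : X, Nontrivial (F.presheaf.stalk x) → δ x ≤ k + 1)
    (ξ : X) (hξ : δ ξ = k + 1) :
    IsFiniteLength (X.presheaf.stalk ξ) (F.presheaf.stalk ξ) := by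
  obtain ⟨hnoeth, -, hdimfun⟩ := hX
  haveI := hnoeth
  haveI : F.IsQuasicoherent := hF.1
  haveI : F.IsFiniteType := hF.2
  haveI := Groth.Agent.Lib.Helper17.ZClosDepth.module_finite_stalk F ξ
  apply Groth.Agent.Lib.Helper9.FinLenSupp.isFiniteLength_of_support_subset
  intro q hq
  have hmem := (Groth.Agent.Lib.Helper18.JacDim.fromSpecStalk_mem_support_iff F ξ q).2 hq
  have htx : (X.fromSpecStalk ξ) q ⤳ ξ :=
    Groth.Agent.Lib.Helper18.LocStalk.fromSpecStalk_specializes ξ q
  have hnt : Nontrivial (F.presheaf.stalk ((X.fromSpecStalk ξ) q)) :=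
    not_subsingleton_iff_nontrivial.mp hmem
  have hle := hdim _ hnt
  have heq : (X.fromSpecStalk ξ) q = ξ := by
    by_contra hne
    have := (hdimfun _ _ htx hne).1
    omega
  have hcl : (X.fromSpecStalk ξ) (IsLocalRing.closedPoint (X.presheaf.stalk ξ)) = ξ :=
    Scheme.fromSpecStalk_closedPoint
  have := (X.fromSpecStalk ξ).isEmbedding.injective (heq.trans hcl.symm)
  rw [this]
  rfl

/-- a section acting injectively on `F` does not vanish at the generic points of the support -/
theorem mk_germ_ne_zero (δ : X → ℤ) (hX : Cyc.IsSetup X δ) (L : X.Modules)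
    (hL : PicF.IsInvertible L) (s : L.presheaf.obj (Opposite.op ⊤)) (k : ℤ) (F : X.Modules)
    (hF : Coh.IsCoh F) (hdim : ∀ x : X, Nontrivial (F.presheaf.stalk x) → δ x ≤ k + 1)
    (hreg : ∀ (x : X) (t : L.presheaf.stalk x) (f : X.presheaf.stalk x),
      Submodule.span (X.presheaf.stalk x) {t} = ⊤ → (L.presheaf.germ ⊤ x trivial) s = f • t →
      Function.Injective (fun m : F.presheaf.stalk x => f • m))
    (ξ : X) (hξ : δ ξ = k + 1) (hnt : Nontrivial (F.presheaf.stalk ξ)) :
    (Submodule.Quotient.mk ((L.presheaf.germ ⊤ ξ trivial) s) : Cyc.secFibre L ξ) ≠ 0 := by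
  intro h0
  have hfl := isFiniteLength_stalk δ hX k F hF hdim ξ hξ
  haveI := hX.1
  haveI : F.IsQuasicoherent := hF.1
  haveI : F.IsFiniteType := hF.2
  haveI := Groth.Agent.Lib.Helper17.ZClosDepth.module_finite_stalk F ξ
  obtain ⟨t, ht⟩ := Groth.Agent.Lib.Helper18.InvStalk.exists_generator hL ξ
  have hmem : (L.presheaf.germ ⊤ ξ trivial) s ∈ Submodule.span (X.presheaf.stalk ξ) {t} := by
    rw [ht]; trivial
  obtain ⟨g, hg⟩ := Submodule.mem_span_singleton.mp hmem
  have h1 : g • (Submodule.Quotient.mk t : Cyc.secFibre L ξ) = 0 := by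
    rw [← Submodule.Quotient.mk_smul, hg]; exact h0
  have hgm : g ∈ IsLocalRing.maximalIdeal (X.presheaf.stalk ξ) :=
    Groth.Agent.Lib.Helper18.InvStalk.mem_of_smul_mk_eq_zero _ _ ht
      (Groth.Agent.Lib.Helper18.InvStalk.free_of_generator hL ξ t ht) g h1
  have hinj := hreg ξ t g ht hg.symm
  haveI : IsArtinian (X.presheaf.stalk ξ) (F.presheaf.stalk ξ) :=
    (isFiniteLength_iff_isNoetherian_isArtinian.mp hfl).2
  have hsurj : Function.Surjective (LinearMap.lsmul (X.presheaf.stalk ξ) (F.presheaf.stalk ξ) g) :=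
    IsArtinian.surjective_of_injective_endomorphism _ hinj
  have hle : (⊤ : Submodule (X.presheaf.stalk ξ) (F.presheaf.stalk ξ)) ≤
      IsLocalRing.maximalIdeal (X.presheaf.stalk ξ) •
        (⊤ : Submodule (X.presheaf.stalk ξ) (F.presheaf.stalk ξ)) := by
    intro m _
    obtain ⟨m', rfl⟩ := hsurj m
    exact Submodule.smul_mem_smul hgm trivial
  have hbot := Submodule.eq_bot_of_le_smul_of_le_jacobson_bot
    (IsLocalRing.maximalIdeal (X.presheaf.stalk ξ))
    (⊤ : Submodule (X.presheaf.stalk ξ) (F.presheaf.stalk ξ)) Module.Finite.fg_top hle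
    (IsLocalRing.maximalIdeal_le_jacobson ⊥)
  obtain ⟨a, b, hab⟩ := hnt
  apply hab
  have ha : a ∈ (⊤ : Submodule (X.presheaf.stalk ξ) (F.presheaf.stalk ξ)) := trivial
  have hb : b ∈ (⊤ : Submodule (X.presheaf.stalk ξ) (F.presheaf.stalk ξ)) := trivial
  rw [hbot, Submodule.mem_bot] at ha hb
  rw [ha, hb]

open Classical in
/-- the coefficient of the Gysin pullback of `[F]_{k+1}` at a point `x` of `δ`-dimension `k` -/
theorem c1CapFun_sheafFun (δ : X → ℤ) (hX : Cyc.IsSetup X δ) (L : X.Modules)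
    (hL : PicF.IsInvertible L) (s : L.presheaf.obj (Opposite.op ⊤)) (k : ℤ) (F : X.Modules)
    (hF : Coh.IsCoh F) (hdim : ∀ x : X, Nontrivial (F.presheaf.stalk x) → δ x ≤ k + 1)
    (hreg : ∀ (x : X) (t : L.presheaf.stalk x) (f : X.presheaf.stalk x),
      Submodule.span (X.presheaf.stalk x) {t} = ⊤ → (L.presheaf.germ ⊤ x trivial) s = f • t →
      Function.Injective (fun m : F.presheaf.stalk x => f • m))
    (w : (ξ : X) → Cyc.secFibre L ξ) (x : X) (hx : δ x = k)
    (ht : ∃ t : L.presheaf.stalk x, Submodule.span (X.presheaf.stalk x) {t} = ⊤)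
    (f : X.presheaf.stalk x) (hf : L.presheaf.germ ⊤ x trivial s = f • Classical.choose ht) :
    Cyc.c1CapFun δ L (Cyc.sheafFun δ (k + 1) F) (Cyc.gysinChoice L s w) x =
      ((Module.length (X.presheaf.stalk x) (F.presheaf.stalk x ⧸
        f • (⊤ : Submodule (X.presheaf.stalk x) (F.presheaf.stalk x)))).toNat : ℤ) := by
  haveI := hX.1
  haveI : F.IsQuasicoherent := hF.1
  haveI : F.IsFiniteType := hF.2
  haveI := Groth.Agent.Lib.Helper17.ZClosDepth.module_finite_stalk F x
  have hd : ∀ q ∈ Module.support (X.presheaf.stalk x) (F.presheaf.stalk x),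
      δ (X.fromSpecStalk x q) ≤ δ x + 1 := by
    intro q hq
    have hmem := (Groth.Agent.Lib.Helper18.JacDim.fromSpecStalk_mem_support_iff F x q).2 hq
    have hnt : Nontrivial (F.presheaf.stalk ((X.fromSpecStalk x) q)) :=
      not_subsingleton_iff_nontrivial.mp hmem
    rw [hx]
    exact hdim _ hnt
  have hregx : IsSMulRegular (F.presheaf.stalk x) f :=
    hreg x (Classical.choose ht) f (Classical.choose_spec ht) hf
  rw [Groth.Agent.Lib.Helper18.ModGenSum.length_quot_eq_finsum_generizations δ hX.2.2 x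
    (F.presheaf.stalk x) hd f hregx]
  unfold Cyc.c1CapFun
  apply finsum_congr
  intro ξ
  unfold Cyc.secDivFun Cyc.sheafFun
  by_cases hc : ξ ⤳ x ∧ δ x + 1 = δ ξ
  · have hξ : δ ξ = k + 1 := by omega
    rw [dif_pos hc, dif_pos hc, if_pos hξ,
      Groth.Agent.Lib.Helper18.ModStalkLoc.length_localizedModule_stalk F x ξ hc.1]
    by_cases hnt : Nontrivial (F.presheaf.stalk ξ)
    · have hne := mk_germ_ne_zero δ hX L hL s k F hF hdim hreg ξ hξ hnt
      have hg : Cyc.gysinChoice L s w ξ =
          Submodule.Quotient.mk ((L.presheaf.germ ⊤ ξ trivial) s) := by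
        unfold Cyc.gysinChoice
        rw [if_pos hne]
      rw [hg, Groth.Agent.Lib.Helper18.SecDiv.secOrdAt_germ_eq δ hX L s x ξ hc.1 hc.2 ht f hf hne]
    · rw [not_nontrivial_iff_subsingleton] at hnt
      rw [Module.length_eq_zero]
      simp
  · rw [dif_neg hc, dif_neg hc, mul_zero]

end Groth.Agent.Lib.Helper18.GysinSheaf
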