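import Mathlib

/-! Helper lemmas for Henselian pairs under limits (helper18). -/

set_option autoImplicit false
universe u

open CategoryTheory Polynomial

namespace Groth.Agent.Lib.Helper18

/-- Uniqueness of Hensel lifts for an ideal contained in the Jacobson radical. -/
lemma hensel_root_unique {R : Type*} [CommRing R] (I : Ideal R) (hjac : I ≤ Ideal.jacobson ⊥)
    (f : R[X]) (a₀ a a' : R)
    (hu : IsUnit (Ideal.Quotient.mk I (f.derivative.eval a₀)))
    (ha : f.IsRoot a) (ha' : f.IsRoot a') (h : a - a₀ ∈ I) (h' : a' - a₀ ∈ I) : a = a' := by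
  obtain ⟨k, hk⟩ := f.binomExpansion a (a' - a)
  have e1 : a + (a' - a) = a' := by ring
  rw [e1, ha.eq_zero, ha'.eq_zero, zero_add] at hk
  have hk' : (a' - a) * (f.derivative.eval a + k * (a' - a)) = 0 := by
    rw [hk]; ring
  have hdiff : a' - a ∈ I := by
    have : a' - a = (a' - a₀) - (a - a₀) := by ring
    rw [this]; exact I.sub_mem h' h
  have hloc := isLocalHom_of_le_jacobson_bot I hjac
  have hw : IsUnit (f.derivative.eval a + k * (a' - a)) := by
    apply hloc.map_nonunit
    have : Ideal.Quotient.mk I (f.derivative.eval a + k * (a' - a)) =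
        Ideal.Quotient.mk I (f.derivative.eval a₀) := by
      rw [Ideal.Quotient.eq]
      have h1 : f.derivative.eval a - f.derivative.eval a₀ ∈ I := by
        obtain ⟨c, hc⟩ := Polynomial.sub_dvd_eval_sub a a₀ f.derivative
        rw [hc]; exact I.mul_mem_right _ h
      have : f.derivative.eval a + k * (a' - a) - f.derivative.eval a₀ =
          (f.derivative.eval a - f.derivative.eval a₀) + k * (a' - a) := by ring
      rw [this]
      exact I.add_mem h1 (I.mul_mem_left _ hdiff)
    rw [this]; exact hu
  have := hw.mul_left_eq_zero.mp hk'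
  exact (sub_eq_zero.mp this).symm

section Limits

variable {J : Type u} [Category.{u} J] (F : J ⥤ CommRingCat.{u})

/-- Elements of a limit of commutative rings from compatible families. -/
lemma exists_limit_elt (a : ∀ j, F.obj j)
    (ha : ∀ (i j : J) (φ : i ⟶ j), (F.map φ).hom (a i) = a j) :
    ∃ x : (Limits.limit F : CommRingCat.{u}), ∀ j, (Limits.limit.π F j).hom x = a j := by
  let t := Limits.isLimitOfPreserves (forget CommRingCat.{u}) (Limits.limit.isLimit F)
  let s : (F ⋙ forget CommRingCat.{u}).sections := ⟨a, fun {i j} φ => ha i j φ⟩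
  refine ⟨(Limits.Types.isLimitEquivSections t).symm s, fun j => ?_⟩
  exact Limits.Types.isLimitEquivSections_symm_apply t s j

lemma limit_elt_ext (x y : (Limits.limit F : CommRingCat.{u}))
    (h : ∀ j, (Limits.limit.π F j).hom x = (Limits.limit.π F j).hom y) : x = y :=
  Limits.Concrete.limit_ext F x y h

end Limits

end Groth.Agent.Lib.Helper18
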