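import Mathlib

/-!
# Krull domains, part 1: ℤ-valued discrete valuations on a field (helper18)

A lightweight structure `DVal K` (a possibly trivial ℤ-valued valuation with junk value at `0`),
its valuation subring, pull-back along field homomorphisms, and a criterion for the valuation
subring to be a discrete valuation ring.
-/

set_option autoImplicit false
set_option linter.style.haveILetI false
set_option linter.unusedSectionVars false

namespace Groth.Agent.Lib.Helper18.Krull

/-- a ℤ-valued (possibly trivial) valuation on a field; the value at `0` is junk -/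
structure DVal (K : Type*) [Field K] where
  v : K → ℤ
  map_mul' : ∀ x y : K, x ≠ 0 → y ≠ 0 → v (x * y) = v x + v y
  map_add' : ∀ x y : K, x ≠ 0 → y ≠ 0 → x + y ≠ 0 → min (v x) (v y) ≤ v (x + y)

namespace DVal

variable {K : Type*} [Field K] (w : DVal K)

theorem v_mul {x y : K} (hx : x ≠ 0) (hy : y ≠ 0) : w.v (x * y) = w.v x + w.v y :=
  w.map_mul' x y hx hy

theorem v_one : w.v 1 = 0 := by
  have := w.map_mul' 1 1 one_ne_zero one_ne_zero
  rw [one_mul] at this
  omega

theorem v_inv {x : K} (hx : x ≠ 0) : w.v x⁻¹ = - w.v x := by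
  have := w.map_mul' x x⁻¹ hx (inv_ne_zero hx)
  rw [mul_inv_cancel₀ hx, v_one] at this
  omega

theorem v_div {x y : K} (hx : x ≠ 0) (hy : y ≠ 0) : w.v (x / y) = w.v x - w.v y := by
  rw [div_eq_mul_inv, w.v_mul hx (inv_ne_zero hy), w.v_inv hy]
  ring

theorem v_neg_one : w.v (-1) = 0 := by
  have := w.map_mul' (-1) (-1) (by simp) (by simp)
  rw [neg_one_mul, neg_neg, v_one] at this
  omega

theorem v_neg (x : K) : w.v (-x) = w.v x := by
  by_cases hx : x = 0
  · simp [hx]
  · have := w.map_mul' (-1) x (by simp) hx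
    rw [neg_one_mul] at this
    rw [this, v_neg_one, zero_add]

theorem v_pow {x : K} (hx : x ≠ 0) (n : ℕ) : w.v (x ^ n) = n * w.v x := by
  induction n with
  | zero => simp [v_one]
  | succ n ih =>
    rw [pow_succ, w.v_mul (pow_ne_zero n hx) hx, ih]
    push_cast
    ring

theorem v_zpow {x : K} (hx : x ≠ 0) (n : ℤ) : w.v (x ^ n) = n * w.v x := by
  obtain ⟨m, rfl | rfl⟩ := n.eq_nat_or_neg
  · rw [zpow_natCast, w.v_pow hx]
  · rw [zpow_neg, zpow_natCast, w.v_inv (pow_ne_zero m hx), w.v_pow hx]
    ring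

/-- membership in the valuation ring -/
def Mem (x : K) : Prop := x = 0 ∨ 0 ≤ w.v x

theorem mem_zero : w.Mem 0 := Or.inl rfl

theorem mem_one : w.Mem 1 := Or.inr (by rw [v_one])

theorem mem_of_nonneg {x : K} (h : 0 ≤ w.v x) : w.Mem x := Or.inr h

theorem nonneg_of_mem {x : K} (h : w.Mem x) (hx : x ≠ 0) : 0 ≤ w.v x :=
  h.resolve_left hx

theorem not_mem_iff {x : K} : ¬ w.Mem x ↔ x ≠ 0 ∧ w.v x < 0 := by
  unfold Mem
  push Not
  rfl

theorem mem_mul {x y : K} (hx : w.Mem x) (hy : w.Mem y) : w.Mem (x * y) := by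
  by_cases hx0 : x = 0
  · left; rw [hx0, zero_mul]
  by_cases hy0 : y = 0
  · left; rw [hy0, mul_zero]
  right
  rw [w.v_mul hx0 hy0]
  have := w.nonneg_of_mem hx hx0
  have := w.nonneg_of_mem hy hy0
  omega

theorem mem_neg {x : K} (hx : w.Mem x) : w.Mem (-x) := by
  rcases hx with hx | hx
  · left; rw [hx, neg_zero]
  · right; rwa [v_neg]

theorem mem_add {x y : K} (hx : w.Mem x) (hy : w.Mem y) : w.Mem (x + y) := by
  by_cases hx0 : x = 0
  · rwa [hx0, zero_add]
  by_cases hy0 : y = 0
  · rwa [hy0, add_zero]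
  by_cases hxy : x + y = 0
  · left; exact hxy
  right
  have h1 := w.map_add' x y hx0 hy0 hxy
  have := w.nonneg_of_mem hx hx0
  have := w.nonneg_of_mem hy hy0
  exact le_trans (le_min ‹_› ‹_›) h1

theorem mem_pow {x : K} (hx : w.Mem x) (n : ℕ) : w.Mem (x ^ n) := by
  induction n with
  | zero => rw [pow_zero]; exact w.mem_one
  | succ n ih => rw [pow_succ]; exact w.mem_mul ih hx

theorem mem_or_inv_mem (x : K) : w.Mem x ∨ w.Mem x⁻¹ := by
  by_cases hx0 : x = 0
  · left; left; exact hx0
  by_cases h : 0 ≤ w.v x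
  · left; right; exact h
  · right; right
    rw [w.v_inv hx0]
    omega

/-- the valuation subring of a `DVal` -/
def toValuationSubring : ValuationSubring K :=
  { toSubring :=
      { carrier := {x | w.Mem x}
        mul_mem' := fun hx hy => w.mem_mul hx hy
        one_mem' := w.mem_one
        add_mem' := fun hx hy => w.mem_add hx hy
        zero_mem' := w.mem_zero
        neg_mem' := fun hx => w.mem_neg hx }
    mem_or_inv_mem' := w.mem_or_inv_mem }

theorem mem_toValuationSubring {x : K} : x ∈ w.toValuationSubring ↔ w.Mem x := Iff.rfl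

/-- pull back a `DVal` along a homomorphism of fields -/
def comap {L : Type*} [Field L] (φ : K →+* L) (u : DVal L) : DVal K where
  v x := u.v (φ x)
  map_mul' x y hx hy := by
    rw [map_mul]
    exact u.map_mul' _ _ ((map_ne_zero φ).mpr hx) ((map_ne_zero φ).mpr hy)
  map_add' x y hx hy hxy := by
    rw [map_add]
    exact u.map_add' _ _ ((map_ne_zero φ).mpr hx) ((map_ne_zero φ).mpr hy)
      (by rw [← map_add]; exact (map_ne_zero φ).mpr hxy)

theorem comap_v {L : Type*} [Field L] (φ : K →+* L) (u : DVal L) (x : K) :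
    (u.comap φ).v x = u.v (φ x) := rfl

theorem comap_mem {L : Type*} [Field L] (φ : K →+* L) (u : DVal L) (x : K) :
    (u.comap φ).Mem x ↔ u.Mem (φ x) := by
  unfold Mem
  rw [comap_v, map_eq_zero]

/-- If every value is a multiple of the positive value of `t`, the valuation ring is a DVR. -/
theorem isDiscreteValuationRing (t : K) (ht0 : t ≠ 0) (ht : 0 < w.v t)
    (h : ∀ y : K, y ≠ 0 → ∃ n : ℤ, w.v y = n * w.v t) :
    IsDiscreteValuationRing w.toValuationSubring := by
  set V := w.toValuationSubring with hV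
  have hunit : ∀ a : V, (a : K) ≠ 0 → w.v (a : K) = 0 → IsUnit a := by
    intro a ha0 hva
    have hinv : w.Mem (a : K)⁻¹ := Or.inr (by rw [w.v_inv ha0, hva]; simp)
    refine isUnit_iff_exists_inv.mpr ⟨⟨(a : K)⁻¹, hinv⟩, ?_⟩
    apply Subtype.ext
    change (a : K) * (a : K)⁻¹ = 1
    exact mul_inv_cancel₀ ha0
  have hne : ∀ a : V, a ≠ 0 → (a : K) ≠ 0 := by
    intro a ha h0
    exact ha (Subtype.ext h0)
  have hnn : ∀ a : V, a ≠ 0 → 0 ≤ w.v (a : K) := fun a ha =>
    w.nonneg_of_mem a.2 (hne a ha)
  let π : V := ⟨t, Or.inr ht.le⟩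
  have hπ0 : π ≠ 0 := by
    intro h0
    exact ht0 (congrArg Subtype.val h0)
  apply IsDiscreteValuationRing.ofHasUnitMulPowIrreducibleFactorization
  refine ⟨π, ?_, ?_⟩
  · rw [irreducible_iff]
    refine ⟨?_, ?_⟩
    · intro hu
      obtain ⟨b, hb⟩ := isUnit_iff_exists_inv.mp hu
      have hb0 : b ≠ 0 := by
        rintro rfl
        rw [mul_zero] at hb
        exact zero_ne_one hb
      have h1 : t * (b : K) = 1 := congrArg Subtype.val hb
      have h2 := w.v_mul ht0 (hne b hb0)
      rw [h1, v_one] at h2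
      have := hnn b hb0
      omega
    · intro a b hab
      have ha0 : a ≠ 0 := by
        rintro rfl
        rw [zero_mul] at hab
        exact hπ0 hab
      have hb0 : b ≠ 0 := by
        rintro rfl
        rw [mul_zero] at hab
        exact hπ0 hab
      have h1 : t = (a : K) * (b : K) := congrArg Subtype.val hab
      have h2 := w.v_mul (hne a ha0) (hne b hb0)
      rw [← h1] at h2
      obtain ⟨n, hn⟩ := h _ (hne a ha0)
      obtain ⟨m, hm⟩ := h _ (hne b hb0)
      have hna := hnn a ha0
      have hnb := hnn b hb0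
      have hn0 : 0 ≤ n := by
        by_contra hlt
        push Not at hlt
        have : n * w.v t < 0 := mul_neg_of_neg_of_pos hlt ht
        omega
      have hm0 : 0 ≤ m := by
        by_contra hlt
        push Not at hlt
        have : m * w.v t < 0 := mul_neg_of_neg_of_pos hlt ht
        omega
      have h3 : (n + m) * w.v t = 1 * w.v t := by
        rw [add_mul, ← hn, ← hm, one_mul]
        exact h2.symm
      have h4 : n + m = 1 := mul_right_cancel₀ ht.ne' h3
      rcases (show n = 0 ∨ m = 0 by omega) with h5 | h5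
      · left
        exact hunit a (hne a ha0) (by rw [hn, h5, zero_mul])
      · right
        exact hunit b (hne b hb0) (by rw [hm, h5, zero_mul])
  · intro x hx
    obtain ⟨n, hn⟩ := h _ (hne x hx)
    have hnx := hnn x hx
    have hn0 : 0 ≤ n := by
      by_contra hlt
      push Not at hlt
      have : n * w.v t < 0 := mul_neg_of_neg_of_pos hlt ht
      omega
    obtain ⟨k, rfl⟩ := Int.eq_ofNat_of_zero_le hn0
    refine ⟨k, ?_⟩
    have hx0 := hne x hx
    have htk : t ^ k ≠ 0 := pow_ne_zero k ht0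
    have hu0 : (x : K) / t ^ k ≠ 0 := div_ne_zero hx0 htk
    have hvu : w.v ((x : K) / t ^ k) = 0 := by
      rw [w.v_div hx0 htk, w.v_pow ht0, hn]
      ring
    let u : V := ⟨(x : K) / t ^ k, Or.inr hvu.ge⟩
    obtain ⟨u', hu'⟩ := hunit u hu0 hvu
    refine ⟨u', ?_⟩
    rw [hu']
    apply Subtype.ext
    change t ^ k * ((x : K) / t ^ k) = (x : K)
    field_simp

end DVal

end Groth.Agent.Lib.Helper18.Krull
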