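import Mathlib
import Groth.Agent.Lib.Helper18.Krull1

/-!
# Krull domains, part 2: defining families, centres, localization (helper18)

A domain `B` with fraction field `K` and a family `w : Λ → DVal K` of ℤ-valued valuations
such that `B = ⋂ (valuation rings)` with the finite character property.
We define centres, the localization `locSet P ⊆ K` at a prime, and prove that
`locSet P` is the intersection of the valuation rings with centre inside `P`.
-/

set_option autoImplicit false
set_option linter.style.haveILetI false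
set_option linter.unusedSectionVars false

namespace Groth.Agent.Lib.Helper18.Krull

/-- `w` is a defining family for the domain `B` inside its fraction field `K` -/
structure IsDefining (B : Type*) [CommRing B] {K : Type*} [Field K] [Algebra B K]
    {Λ : Type*} (w : Λ → DVal K) : Prop where
  mem_iff : ∀ x : K, (∃ b : B, algebraMap B K b = x) ↔ ∀ l, (w l).Mem x
  finite : ∀ x : K, x ≠ 0 → {l | (w l).v x < 0}.Finite

variable {B : Type*} [CommRing B] [IsDomain B] {K : Type*} [Field K] [Algebra B K]
  [IsFractionRing B K] {Λ : Type*} {w : Λ → DVal K}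

local notation "ι" => algebraMap B K

theorem map_ne_zero' {b : B} (hb : b ≠ 0) : ι b ≠ 0 :=
  (map_ne_zero_iff _ (IsFractionRing.injective B K)).mpr hb

namespace IsDefining

variable (hw : IsDefining B w)
include hw

theorem mem_algebraMap (b : B) (l : Λ) : (w l).Mem (ι b) := (hw.mem_iff _).mp ⟨b, rfl⟩ l

theorem nonneg {b : B} (hb : b ≠ 0) (l : Λ) : 0 ≤ (w l).v (ι b) :=
  (w l).nonneg_of_mem (hw.mem_algebraMap b l) (map_ne_zero' hb)

/-- elements of `B` of value at least `N` -/
def lev (l : Λ) (N : ℕ) : Ideal B where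
  carrier := {b | b = 0 ∨ (N : ℤ) ≤ (w l).v (ι b)}
  zero_mem' := Or.inl rfl
  add_mem' := by
    intro a b ha hb
    by_cases ha0 : a = 0
    · rw [ha0, zero_add]; exact hb
    by_cases hb0 : b = 0
    · rw [hb0, add_zero]; exact ha
    by_cases hab : a + b = 0
    · left; exact hab
    right
    have h1 := (w l).map_add' (ι a) (ι b) (map_ne_zero' ha0) (map_ne_zero' hb0)
      (by rw [← map_add]; exact map_ne_zero' hab)
    rw [← map_add] at h1
    have h2 := ha.resolve_left ha0
    have h3 := hb.resolve_left hb0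
    exact le_trans (le_min h2 h3) h1
  smul_mem' := by
    intro c b hb
    by_cases hb0 : b = 0
    · left; rw [hb0, smul_zero]
    by_cases hc0 : c = 0
    · left; rw [hc0, zero_smul]
    right
    rw [smul_eq_mul, map_mul, (w l).v_mul (map_ne_zero' hc0) (map_ne_zero' hb0)]
    have h2 := hb.resolve_left hb0
    have h3 := hw.nonneg hc0 l
    omega

theorem mem_lev {l : Λ} {N : ℕ} {b : B} :
    b ∈ hw.lev l N ↔ b = 0 ∨ (N : ℤ) ≤ (w l).v (ι b) := Iff.rfl

/-- the centre of a valuation of the family on `B` -/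
def center (l : Λ) : Ideal B := hw.lev l 1

theorem mem_center {l : Λ} {b : B} : b ∈ hw.center l ↔ b = 0 ∨ 0 < (w l).v (ι b) := by
  unfold center
  rw [mem_lev]
  constructor
  · rintro (h | h)
    · left; exact h
    · right; push_cast at h; omega
  · rintro (h | h)
    · left; exact h
    · right; push_cast; omega

theorem v_eq_zero_of_not_mem_center {l : Λ} {b : B} (hb : b ∉ hw.center l) :
    (w l).v (ι b) = 0 := by
  rw [mem_center] at hb
  push Not at hb
  have := hw.nonneg hb.1 l
  omega

theorem ne_zero_of_not_mem_center {l : Λ} {b : B} (hb : b ∉ hw.center l) : b ≠ 0 := by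
  rintro rfl
  exact hb (Ideal.zero_mem _)

instance center_isPrime (l : Λ) : (hw.center l).IsPrime := by
  refine ⟨?_, ?_⟩
  · intro h
    have h1 : (1 : B) ∈ hw.center l := by rw [h]; trivial
    rw [mem_center, map_one, DVal.v_one] at h1
    rcases h1 with h1 | h1
    · exact one_ne_zero h1
    · exact lt_irrefl _ h1
  · intro a b hab
    by_contra hcon
    push Not at hcon
    obtain ⟨ha, hb⟩ := hcon
    have ha0 := hw.ne_zero_of_not_mem_center ha
    have hb0 := hw.ne_zero_of_not_mem_center hb
    rw [mem_center, map_mul, (w l).v_mul (map_ne_zero' ha0) (map_ne_zero' hb0),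
      hw.v_eq_zero_of_not_mem_center ha, hw.v_eq_zero_of_not_mem_center hb] at hab
    rcases hab with hab | hab
    · exact mul_ne_zero ha0 hb0 hab
    · simp at hab

theorem pow_center_le_lev (l : Λ) (N : ℕ) : (hw.center l) ^ N ≤ hw.lev l N := by
  induction N with
  | zero =>
    intro b _
    by_cases hb : b = 0
    · left; exact hb
    · right; simpa using hw.nonneg hb l
  | succ N ih =>
    rw [pow_succ, Ideal.mul_le]
    intro r hr s hs
    have hr' := ih hr
    by_cases hr0 : r = 0
    · left; rw [hr0, zero_mul]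
    by_cases hs0 : s = 0
    · left; rw [hs0, mul_zero]
    right
    rw [map_mul, (w l).v_mul (map_ne_zero' hr0) (map_ne_zero' hs0)]
    have h1 := hr'.resolve_left hr0
    have h2 := ((hw.mem_center).mp hs).resolve_left hs0
    push_cast
    omega

end IsDefining

section loc

variable (P : Ideal B)

/-- the localization of `B` at the prime `P`, as a subset of `K` -/
def locSet : Set K := {x | ∃ s : B, s ∉ P ∧ ∃ b : B, x * ι s = ι b}

/-- the maximal ideal of the localization of `B` at the prime `P`, as a subset of `K` -/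
def mSet : Set K := {x | ∃ s : B, s ∉ P ∧ ∃ p : B, p ∈ P ∧ x * ι s = ι p}

variable {P}

theorem mSet_subset_locSet : mSet P ⊆ locSet (K := K) P := by
  rintro x ⟨s, hs, p, _, h⟩
  exact ⟨s, hs, p, h⟩

variable [hP : P.IsPrime]

theorem algebraMap_mem_locSet (b : B) : ι b ∈ locSet (K := K) P :=
  ⟨1, by rw [← Ideal.eq_top_iff_one]; exact hP.ne_top, b, by rw [map_one, mul_one]⟩

theorem algebraMap_mem_mSet {p : B} (hp : p ∈ P) : ι p ∈ mSet (K := K) P :=
  ⟨1, by rw [← Ideal.eq_top_iff_one]; exact hP.ne_top, p, hp, by rw [map_one, mul_one]⟩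

theorem zero_mem_mSet : (0 : K) ∈ mSet P := by
  have := algebraMap_mem_mSet (K := K) (P := P) (Ideal.zero_mem P)
  rwa [map_zero] at this

theorem locSet_mul {x y : K} (hx : x ∈ locSet P) (hy : y ∈ locSet P) : x * y ∈ locSet P := by
  obtain ⟨s, hs, b, hb⟩ := hx
  obtain ⟨s', hs', b', hb'⟩ := hy
  refine ⟨s * s', fun h => (hP.mem_or_mem h).elim hs hs', b * b', ?_⟩
  rw [map_mul, map_mul, ← hb, ← hb']
  ring

theorem locSet_pow {x : K} (hx : x ∈ locSet P) (n : ℕ) : x ^ n ∈ locSet P := by
  induction n with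
  | zero =>
    rw [pow_zero]
    have := algebraMap_mem_locSet (K := K) (P := P) 1
    rwa [map_one] at this
  | succ n ih => rw [pow_succ]; exact locSet_mul ih hx

theorem mSet_mul_locSet {x y : K} (hx : x ∈ mSet P) (hy : y ∈ locSet P) : x * y ∈ mSet P := by
  obtain ⟨s, hs, p, hp, hb⟩ := hx
  obtain ⟨s', hs', b', hb'⟩ := hy
  refine ⟨s * s', fun h => (hP.mem_or_mem h).elim hs hs', p * b', P.mul_mem_right _ hp, ?_⟩
  rw [map_mul, map_mul, ← hb, ← hb']
  ring

theorem locSet_of_mul_mem {x : K} {s : B} (hs : s ∉ P) (h : x * ι s ∈ locSet P) :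
    x ∈ locSet P := by
  obtain ⟨s', hs', b, hb⟩ := h
  refine ⟨s * s', fun h => (hP.mem_or_mem h).elim hs hs', b, ?_⟩
  rw [map_mul, ← hb]
  ring

theorem mSet_of_mul_mem {x : K} {s : B} (hs : s ∉ P) (h : x * ι s ∈ mSet P) :
    x ∈ mSet P := by
  obtain ⟨s', hs', p, hp, hb⟩ := h
  refine ⟨s * s', fun h => (hP.mem_or_mem h).elim hs hs', p, hp, ?_⟩
  rw [map_mul, ← hb]
  ring

theorem inv_mem_locSet {u : K} (hu : u ∈ locSet P) (hu' : u ∉ mSet P) : u⁻¹ ∈ locSet P := by
  obtain ⟨s, hs, b, hb⟩ := hu
  have hbP : b ∉ P := fun hbP => hu' ⟨s, hs, b, hbP, hb⟩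
  have hu0 : u ≠ 0 := by
    rintro rfl
    exact hu' zero_mem_mSet
  refine ⟨b, hbP, s, ?_⟩
  rw [← hb]
  field_simp

theorem ne_zero_of_not_mem_mSet {u : K} (hu' : u ∉ mSet P) : u ≠ 0 := by
  rintro rfl
  exact hu' zero_mem_mSet

theorem inv_not_mem_mSet {u : K} (hu : u ∈ locSet P) (hu' : u ∉ mSet P) : u⁻¹ ∉ mSet P := by
  intro h
  have h1 := mSet_mul_locSet h hu
  rw [inv_mul_cancel₀ (ne_zero_of_not_mem_mSet hu')] at h1
  obtain ⟨s, hs, p, hp, hb⟩ := h1
  rw [one_mul] at hb
  have := IsFractionRing.injective B K hb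
  exact hs (this ▸ hp)

end loc

namespace IsDefining

variable (hw : IsDefining B w)
include hw

/-- `B_P` is the intersection of the valuation rings of the family with centre inside `P`. -/
theorem mem_locSet_iff (P : Ideal B) [hP : P.IsPrime] (x : K) :
    x ∈ locSet P ↔ ∀ l, hw.center l ≤ P → (w l).Mem x := by
  classical
  constructor
  · rintro ⟨s, hs, b, hb⟩ l hl
    by_cases hx : x = 0
    · left; exact hx
    have hsc : s ∉ hw.center l := fun h => hs (hl h)
    have hs0 := hw.ne_zero_of_not_mem_center hsc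
    have hb0 : b ≠ 0 := by
      rintro rfl
      rw [map_zero] at hb
      exact mul_ne_zero hx (map_ne_zero' hs0) hb
    right
    have h1 := (w l).v_mul hx (map_ne_zero' hs0)
    rw [hb, hw.v_eq_zero_of_not_mem_center hsc] at h1
    have := hw.nonneg hb0 l
    omega
  · intro h
    by_cases hx : x = 0
    · rw [hx]
      have := algebraMap_mem_locSet (K := K) (P := P) 0
      rwa [map_zero] at this
    set F := (hw.finite x hx).toFinset with hF
    have hex : ∀ l : Λ, ∃ s : B, (w l).v x < 0 → (s ∈ hw.center l ∧ s ∉ P) := by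
      intro l
      by_cases hl : (w l).v x < 0
      · have hnot : ¬ hw.center l ≤ P := by
          intro hle
          have := (w l).nonneg_of_mem (h l hle) hx
          omega
        obtain ⟨s, hs, hsP⟩ := Set.not_subset.mp hnot
        exact ⟨s, fun _ => ⟨hs, hsP⟩⟩
      · exact ⟨1, fun h' => absurd h' hl⟩
    choose s hs using hex
    let k : Λ → ℕ := fun l => (-(w l).v x).toNat
    let S : B := ∏ l ∈ F, s l ^ k l
    have hSP : S ∉ P := by
      intro hmem
      obtain ⟨l, hlF, hl⟩ := (hP.prod_mem_iff).mp hmem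
      have hl' : (w l).v x < 0 := by simpa [hF] using hlF
      exact (hs l hl').2 (hP.mem_of_pow_mem _ hl)
    obtain ⟨b, hb⟩ : ∃ b : B, ι b = x * ι S := by
      rw [hw.mem_iff]
      intro l
      by_cases hl : (w l).v x < 0
      · have hlF : l ∈ F := by simpa [hF] using hl
        have h1 : S = s l ^ k l * ∏ l' ∈ F.erase l, s l' ^ k l' :=
          (Finset.mul_prod_erase F (fun l' => s l' ^ k l') hlF).symm
        rw [h1, map_mul, ← mul_assoc]
        refine (w l).mem_mul ?_ (hw.mem_algebraMap _ l)
        have hsl0 : s l ≠ 0 := fun h0 => (hs l hl).2 (h0 ▸ Ideal.zero_mem P)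
        right
        rw [map_pow, (w l).v_mul hx (pow_ne_zero _ (map_ne_zero' hsl0)),
          (w l).v_pow (map_ne_zero' hsl0)]
        have h2 := ((hw.mem_center).mp (hs l hl).1).resolve_left hsl0
        have h3 : ((k l : ℕ) : ℤ) = -(w l).v x := by
          simp only [k]
          rw [Int.toNat_of_nonneg (by omega)]
        have h4 : (k l : ℤ) * 1 ≤ (k l : ℤ) * (w l).v (ι (s l)) :=
          mul_le_mul_of_nonneg_left (by omega) (by positivity)
        omega
      · push Not at hl
        exact (w l).mem_mul (Or.inr hl) (hw.mem_algebraMap _ l)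
    exact ⟨S, hSP, b, hb.symm⟩

end IsDefining

end Groth.Agent.Lib.Helper18.Krull
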