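import Mathlib
import Groth.Agent.Lib.Helper18.Krull2

/-!
# Krull domains, part 3: the essential valuations are the height-one localizations (helper18)

For a domain `B` with a defining family of ℤ-valued valuations:
* `core`: if `x ∉ W_{l₀}` and `P = centre l₀` is minimal among the centres of valuations with
  `x ∉ W_l`, then `P` has height one and `B_P = W_{l₀}` is a DVR.
* `exists_height_one_not_mem`: `B = ⋂_{ht P = 1} B_P`.
* `exists_of_height_one`: `B_P` is a DVR for every height-one prime.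
* `finite_height_one_not_mem`: finite character.
-/

set_option autoImplicit false
set_option linter.style.haveILetI false
set_option linter.unusedSectionVars false

namespace Groth.Agent.Lib.Helper18.Krull

variable {B : Type*} [CommRing B] [IsDomain B] {K : Type*} [Field K] [Algebra B K]
  [IsFractionRing B K] {Λ : Type*} {w : Λ → DVal K}

local notation "ι" => algebraMap B K

theorem int_archimedean {a c : ℤ} (h : ∀ n : ℕ, 0 ≤ (n : ℤ) * a + c) : 0 ≤ a := by
  by_contra hlt
  push Not at hlt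
  have h1 := h (c.toNat + 1)
  have h2 : c ≤ c.toNat := Int.self_le_toNat c
  push_cast at h1
  nlinarith

theorem eq_of_le_of_height_one {P Q : Ideal B} [P.IsPrime] [Q.IsPrime] (hP : P.height = 1)
    (hQ : Q ≠ ⊥) (hle : Q ≤ P) : Q = P := by
  by_contra hne
  have hlt : Q < P := lt_of_le_of_ne hle hne
  have h1 := (Ideal.height_le_iff (p := P) (n := 1)).mp (by rw [hP]; rfl) Q inferInstance hlt
  have h2 : Q.height = 0 := by
    have : Q.height < 1 := by exact_mod_cast h1
    exact ENat.lt_one_iff_eq_zero.mp this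
  exact hQ (Ideal.height_eq_zero_iff_eq_bot.mp h2)

namespace IsDefining

variable (hw : IsDefining B w)
include hw

section core

variable (P : Ideal B) [hP : P.IsPrime]

theorem core_step2 (x : K) (hx0 : x ≠ 0)
    (hmin : ∀ l, (w l).v x < 0 → hw.center l ≤ P → hw.center l = P) :
    ∃ N : ℕ, ∀ y ∈ P ^ N, ι y * x ∈ locSet P := by
  classical
  set F := (hw.finite x hx0).toFinset with hF
  refine ⟨∑ l ∈ F, (-(w l).v x).toNat, ?_⟩
  intro y hy
  rw [hw.mem_locSet_iff]
  intro l hl
  by_cases hlx : (w l).v x < 0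
  · have hcl := hmin l hlx hl
    have hlF : l ∈ F := by simpa [hF] using hlx
    have h1 : (-(w l).v x).toNat ≤ ∑ l ∈ F, (-(w l).v x).toNat :=
      Finset.single_le_sum (f := fun l => (-(w l).v x).toNat) (fun _ _ => Nat.zero_le _) hlF
    have hy' : y ∈ hw.lev l (∑ l ∈ F, (-(w l).v x).toNat) := by
      apply hw.pow_center_le_lev
      rw [hcl]
      exact hy
    rcases (hw.mem_lev).mp hy' with h0 | h2
    · left; rw [h0, map_zero, zero_mul]
    · by_cases hy0 : y = 0
      · left; rw [hy0, map_zero, zero_mul]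
      right
      rw [(w l).v_mul (map_ne_zero' hy0) hx0]
      have h3 : ((-(w l).v x).toNat : ℤ) = -(w l).v x := Int.toNat_of_nonneg (by omega)
      have h4 : ((-(w l).v x).toNat : ℤ) ≤ ((∑ l ∈ F, (-(w l).v x).toNat : ℕ) : ℤ) := by
        exact_mod_cast h1
      omega
  · push Not at hlx
    exact (w l).mem_mul (hw.mem_algebraMap y l) (Or.inr hlx)

theorem core_step3 (x : K) (hx0 : x ≠ 0) (hxP : x ∉ locSet P)
    (hmin : ∀ l, (w l).v x < 0 → hw.center l ≤ P → hw.center l = P) :
    ∃ z : K, z ∉ locSet P ∧ ∀ p ∈ P, ι p * z ∈ locSet P := by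
  classical
  have hex := hw.core_step2 P x hx0 hmin
  have h0 : Nat.find hex ≠ 0 := by
    intro h0
    have h1 := Nat.find_spec hex
    rw [h0] at h1
    have h2 := h1 1 (by rw [pow_zero, Ideal.one_eq_top]; trivial)
    rw [map_one, one_mul] at h2
    exact hxP h2
  obtain ⟨m, hm⟩ := Nat.exists_eq_succ_of_ne_zero h0
  have h3 : ¬ ∀ y ∈ P ^ m, ι y * x ∈ locSet P := Nat.find_min hex (by omega)
  push Not at h3
  obtain ⟨y, hy, hyx⟩ := h3
  refine ⟨ι y * x, hyx, ?_⟩
  intro p hp
  have h4 := Nat.find_spec hex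
  rw [hm] at h4
  have h5 : y * p ∈ P ^ (m + 1) := by
    rw [pow_succ]
    exact Ideal.mul_mem_mul hy hp
  have h6 := h4 _ h5
  rw [map_mul] at h6
  rw [← mul_assoc, mul_comm (ι p) (ι y)]
  exact h6

theorem core_step4 (z : K) (hz : z ∉ locSet P) (p₀ : B) (hp₀ : p₀ ∈ P) (hp₀0 : p₀ ≠ 0) :
    ∃ p₁ ∈ P, ι p₁ * z ∉ mSet P := by
  by_contra hcon
  push Not at hcon
  have hz0 : z ≠ 0 := by
    rintro rfl
    apply hz
    have := algebraMap_mem_locSet (K := K) (P := P) 0
    rwa [map_zero] at this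
  have haux : ∀ m ∈ mSet P, z * m ∈ mSet (K := K) P := by
    rintro m ⟨s, hs, p, hp, hb⟩
    apply mSet_of_mul_mem hs
    have : z * m * ι s = ι p * z := by rw [mul_assoc, hb, mul_comm]
    rw [this]
    exact hcon p hp
  have hpow : ∀ n : ℕ, z ^ n * ι p₀ ∈ mSet (K := K) P := by
    intro n
    induction n with
    | zero => rw [pow_zero, one_mul]; exact algebraMap_mem_mSet hp₀
    | succ n ih =>
      have : z ^ (n + 1) * ι p₀ = z * (z ^ n * ι p₀) := by ring
      rw [this]
      exact haux _ ih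
  apply hz
  rw [hw.mem_locSet_iff]
  intro l hl
  right
  apply int_archimedean (c := (w l).v (ι p₀))
  intro n
  have h1 := (hw.mem_locSet_iff P _).mp (mSet_subset_locSet (hpow n)) l hl
  have h2 := (w l).nonneg_of_mem h1 (mul_ne_zero (pow_ne_zero n hz0) (map_ne_zero' hp₀0))
  rw [(w l).v_mul (pow_ne_zero n hz0) (map_ne_zero' hp₀0), (w l).v_pow hz0] at h2
  exact h2

theorem core_step7 (z : K) (hz : z ∉ locSet P) (hzm : ∀ m ∈ mSet P, m * z ∈ locSet (K := K) P)
    (y : K) (hy : y ∈ locSet P) (hy0 : y ≠ 0) :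
    ∃ n : ℕ, y * z ^ n ∈ locSet P ∧ y * z ^ n ∉ mSet P := by
  classical
  have hz0 : z ≠ 0 := by
    rintro rfl
    apply hz
    have := algebraMap_mem_locSet (K := K) (P := P) 0
    rwa [map_zero] at this
  have hex : ∃ n : ℕ, y * z ^ n ∉ locSet P := by
    by_contra hcon
    push Not at hcon
    apply hz
    rw [hw.mem_locSet_iff]
    intro l hl
    right
    apply int_archimedean (c := (w l).v y)
    intro n
    have h1 := (hw.mem_locSet_iff P _).mp (hcon n) l hl
    have h2 := (w l).nonneg_of_mem h1 (mul_ne_zero hy0 (pow_ne_zero n hz0))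
    rw [(w l).v_mul hy0 (pow_ne_zero n hz0), (w l).v_pow hz0] at h2
    omega
  have h0 : Nat.find hex ≠ 0 := by
    intro h0
    have h1 := Nat.find_spec hex
    rw [h0, pow_zero, mul_one] at h1
    exact h1 hy
  obtain ⟨m, hm⟩ := Nat.exists_eq_succ_of_ne_zero h0
  have h3 : ¬ (y * z ^ m ∉ locSet P) := Nat.find_min hex (by omega)
  push Not at h3
  refine ⟨m, h3, ?_⟩
  intro hmem
  have h4 := hzm _ hmem
  have h5 := Nat.find_spec hex
  rw [hm] at h5
  apply h5
  rw [pow_succ, ← mul_assoc]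
  exact h4

/-- The core lemma. -/
theorem core (l₀ : Λ) (x : K) (hx0 : x ≠ 0) (hx : (w l₀).v x < 0) (hc : hw.center l₀ = P)
    (hmin : ∀ l, (w l).v x < 0 → hw.center l ≤ P → hw.center l = P) :
    P.height = 1 ∧ (∀ y : K, y ∈ locSet P ↔ (w l₀).Mem y) ∧
      ∃ t : K, t ≠ 0 ∧ 0 < (w l₀).v t ∧ ∀ y : K, y ≠ 0 → ∃ n : ℤ, (w l₀).v y = n * (w l₀).v t := by
  classical
  have hxP : x ∉ locSet P := by
    intro h
    have := (w l₀).nonneg_of_mem ((hw.mem_locSet_iff P x).mp h l₀ hc.le) hx0
    omega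
  -- a nonzero element of `P`
  obtain ⟨p₀, hp₀, hp₀0⟩ : ∃ p₀ : B, p₀ ∈ P ∧ p₀ ≠ 0 := by
    obtain ⟨a, b, hb, hab⟩ := IsFractionRing.div_surjective (A := B) x
    have hb0 : b ≠ 0 := nonZeroDivisors.ne_zero hb
    have ha0 : a ≠ 0 := by
      rintro rfl
      rw [map_zero, zero_div] at hab
      exact hx0 hab.symm
    refine ⟨b, ?_, hb0⟩
    rw [← hc, hw.mem_center]
    right
    rw [← hab, (w l₀).v_div (map_ne_zero' ha0) (map_ne_zero' hb0)] at hx
    have := hw.nonneg ha0 l₀
    omega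
  obtain ⟨z, hz, hzP⟩ := hw.core_step3 P x hx0 hxP hmin
  have hz0 : z ≠ 0 := by
    rintro rfl
    apply hz
    have := algebraMap_mem_locSet (K := K) (P := P) 0
    rwa [map_zero] at this
  obtain ⟨p₁, hp₁, hu⟩ := hw.core_step4 P z hz p₀ hp₀ hp₀0
  have huL : ι p₁ * z ∈ locSet P := hzP p₁ hp₁
  have hu0 := ne_zero_of_not_mem_mSet hu
  have hp₁0 : ι p₁ ≠ 0 := left_ne_zero_of_mul hu0
  have huinv := inv_mem_locSet huL hu
  -- the uniformizer
  have htm : z⁻¹ ∈ mSet (K := K) P := by
    have h1 := mSet_mul_locSet (algebraMap_mem_mSet (K := K) hp₁) huinv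
    have h2 : ι p₁ * (ι p₁ * z)⁻¹ = z⁻¹ := by
      field_simp
    rwa [h2] at h1
  have hzm : ∀ m ∈ mSet P, m * z ∈ locSet (K := K) P := by
    rintro m ⟨s, hs, p, hp, hb⟩
    apply locSet_of_mul_mem hs
    have : m * z * ι s = ι p * z := by rw [mul_right_comm, hb]
    rw [this]
    exact hzP p hp
  -- units of `B_P` have value zero
  have hunit : ∀ u : K, u ∈ locSet P → u ∉ mSet P → (w l₀).v u = 0 := by
    intro u huL huM
    have hu0 := ne_zero_of_not_mem_mSet huM
    have h1 := (w l₀).nonneg_of_mem ((hw.mem_locSet_iff P u).mp huL l₀ hc.le) hu0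
    have h2 := (w l₀).nonneg_of_mem
      ((hw.mem_locSet_iff P _).mp (inv_mem_locSet huL huM) l₀ hc.le) (inv_ne_zero hu0)
    rw [(w l₀).v_inv hu0] at h2
    omega
  have htv : 0 < (w l₀).v z⁻¹ := by
    obtain ⟨s, hs, p, hp, hb⟩ := htm
    have hs' : s ∉ hw.center l₀ := by rw [hc]; exact hs
    have hs0 := hw.ne_zero_of_not_mem_center hs'
    have hp0 : p ≠ 0 := by
      rintro rfl
      rw [map_zero] at hb
      exact mul_ne_zero (inv_ne_zero hz0) (map_ne_zero' hs0) hb
    have h1 := (w l₀).v_mul (inv_ne_zero hz0) (map_ne_zero' hs0)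
    rw [hb, hw.v_eq_zero_of_not_mem_center hs', add_zero] at h1
    have h2 : p ∈ hw.center l₀ := by rw [hc]; exact hp
    have h3 := ((hw.mem_center).mp h2).resolve_left hp0
    omega
  have hvz : (w l₀).v z = -(w l₀).v z⁻¹ := by
    rw [(w l₀).v_inv hz0]; ring
  -- values of elements of `B`
  have hB : ∀ b : B, b ≠ 0 → ∃ n : ℕ, ι b * z ^ n ∈ locSet P ∧ ι b * z ^ n ∉ mSet P ∧
      (w l₀).v (ι b) = n * (w l₀).v z⁻¹ := by
    intro b hb0
    obtain ⟨n, h1, h2⟩ := hw.core_step7 P z hz hzm (ι b) (algebraMap_mem_locSet b)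
      (map_ne_zero' hb0)
    refine ⟨n, h1, h2, ?_⟩
    have h3 := hunit _ h1 h2
    rw [(w l₀).v_mul (map_ne_zero' hb0) (pow_ne_zero n hz0), (w l₀).v_pow hz0, hvz] at h3
    linarith
  refine ⟨?_, ?_, z⁻¹, inv_ne_zero hz0, htv, ?_⟩
  · -- height one
    have hPbot : P ≠ ⊥ := by
      intro h
      rw [h] at hp₀
      exact hp₀0 hp₀
    refine le_antisymm ?_ ?_
    · have : P.height ≤ ((1 : ℕ) : ℕ∞) := by
        rw [Ideal.height_le_iff]
        intro q hq hqP
        have hqbot : q = ⊥ := by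
          by_contra hqne
          obtain ⟨q₀, hq₀, hq₀0⟩ := Submodule.exists_mem_ne_zero_of_ne_bot hqne
          obtain ⟨p, hpP, hpq⟩ := Set.exists_of_ssubset hqP
          have hp0 : p ≠ 0 := by
            rintro rfl
            exact hpq (Ideal.zero_mem q)
          obtain ⟨nq, hq1, hq2, -⟩ := hB q₀ hq₀0
          obtain ⟨np, hp1, hp2, -⟩ := hB p hp0
          have hnp : np ≠ 0 := by
            rintro rfl
            rw [pow_zero, mul_one] at hp2
            exact hp2 (algebraMap_mem_mSet hpP)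
          have hc1 : (ι p * z ^ np) ^ nq * ((ι q₀ * z ^ nq)⁻¹) ^ np ∈ locSet P :=
            locSet_mul (locSet_pow hp1 nq) (locSet_pow (inv_mem_locSet hq1 hq2) np)
          obtain ⟨s, hs, b, hb⟩ := hc1
          have hq₀K : ι q₀ ≠ 0 := map_ne_zero' hq₀0
          have h5 : ι (p ^ nq * s) = ι (q₀ ^ np * b) := by
            rw [map_mul, map_mul, ← hb, map_pow, map_pow]
            have h6 : (z ^ np) ^ nq = (z ^ nq) ^ np := by
              rw [← pow_mul, ← pow_mul, mul_comm]
            rw [mul_pow, inv_pow, mul_pow, h6]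
            have h7 : (z ^ nq) ^ np ≠ 0 := pow_ne_zero _ (pow_ne_zero _ hz0)
            have h8 : ι q₀ ^ np ≠ 0 := pow_ne_zero _ hq₀K
            field_simp
          have h9 := IsFractionRing.injective B K h5
          have h10 : p ^ nq * s ∈ q := by
            rw [h9]
            exact q.mul_mem_right _ (Ideal.pow_mem_of_mem q hq₀ np (Nat.pos_of_ne_zero hnp))
          rcases hq.mem_or_mem h10 with h11 | h11
          · exact hpq (hq.mem_of_pow_mem _ h11)
          · exact hs (hqP.le h11)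
        rw [hqbot, Ideal.height_bot]
        exact_mod_cast zero_lt_one
      simpa using this
    · rw [Order.one_le_iff_pos, pos_iff_ne_zero, Ne, Ideal.height_eq_zero_iff_eq_bot]
      exact hPbot
  · -- `B_P = W_{l₀}`
    intro y
    constructor
    · intro hy
      exact (hw.mem_locSet_iff P y).mp hy l₀ hc.le
    · intro hy
      by_cases hy0 : y = 0
      · rw [hy0]
        have := algebraMap_mem_locSet (K := K) (P := P) 0
        rwa [map_zero] at this
      obtain ⟨a, b, hb, hab⟩ := IsFractionRing.div_surjective (A := B) y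
      have hb0 : b ≠ 0 := nonZeroDivisors.ne_zero hb
      have ha0 : a ≠ 0 := by
        rintro rfl
        rw [map_zero, zero_div] at hab
        exact hy0 hab.symm
      obtain ⟨na, ha1, ha2, ha3⟩ := hB a ha0
      obtain ⟨nb, hb1, hb2, hb3⟩ := hB b hb0
      have hvy := (w l₀).nonneg_of_mem hy hy0
      rw [← hab, (w l₀).v_div (map_ne_zero' ha0) (map_ne_zero' hb0), ha3, hb3] at hvy
      have hle : nb ≤ na := by
        by_contra hlt
        push Not at hlt
        have h1 : (na : ℤ) + 1 ≤ nb := by exact_mod_cast hlt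
        nlinarith
      obtain ⟨d, rfl⟩ := Nat.exists_eq_add_of_le hle
      have h2 : y = (ι a * z ^ (nb + d)) * (ι b * z ^ nb)⁻¹ * (z⁻¹) ^ d := by
        rw [← hab, pow_add, inv_pow]
        have hbK : ι b ≠ 0 := map_ne_zero' hb0
        have hzd : z ^ d ≠ 0 := pow_ne_zero d hz0
        field_simp
      rw [h2]
      exact locSet_mul (locSet_mul ha1 (inv_mem_locSet hb1 hb2))
        (locSet_pow (mSet_subset_locSet htm) d)
  · intro y hy0
    obtain ⟨a, b, hb, hab⟩ := IsFractionRing.div_surjective (A := B) y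
    have hb0 : b ≠ 0 := nonZeroDivisors.ne_zero hb
    have ha0 : a ≠ 0 := by
      rintro rfl
      rw [map_zero, zero_div] at hab
      exact hy0 hab.symm
    obtain ⟨na, -, -, ha3⟩ := hB a ha0
    obtain ⟨nb, -, -, hb3⟩ := hB b hb0
    refine ⟨(na : ℤ) - nb, ?_⟩
    rw [← hab, (w l₀).v_div (map_ne_zero' ha0) (map_ne_zero' hb0), ha3, hb3]
    ring

end core

/-- `B` is the intersection of its localizations at height-one primes. -/
theorem exists_height_one_not_mem (x : K) (hx : ¬ ∃ b : B, ι b = x) :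
    ∃ P : Ideal B, P.IsPrime ∧ P.height = 1 ∧ x ∉ locSet P := by
  rw [hw.mem_iff] at hx
  push Not at hx
  obtain ⟨l, hl⟩ := hx
  obtain ⟨hx0, hlx⟩ := (w l).not_mem_iff.mp hl
  obtain ⟨l₀, hl₀, hmin⟩ := Set.Finite.exists_minimalFor hw.center {l | (w l).v x < 0}
    (hw.finite x hx0) ⟨l, hlx⟩
  have hcore := hw.core (hw.center l₀) l₀ x hx0 hl₀ rfl
    (fun l' hl' hle => le_antisymm hle (hmin hl' hle))
  refine ⟨hw.center l₀, inferInstance, hcore.1, ?_⟩
  rw [hcore.2.1]
  exact (w l₀).not_mem_iff.mpr ⟨hx0, hl₀⟩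

/-- The localization at a height-one prime is the valuation ring of a member of the family,
which is discrete. -/
theorem exists_of_height_one (P : Ideal B) [hP : P.IsPrime] (hP1 : P.height = 1) :
    ∃ l₀, hw.center l₀ = P ∧ (∀ y : K, y ∈ locSet P ↔ (w l₀).Mem y) ∧
      ∃ t : K, t ≠ 0 ∧ 0 < (w l₀).v t ∧ ∀ y : K, y ≠ 0 → ∃ n : ℤ, (w l₀).v y = n * (w l₀).v t := by
  have hPbot : P ≠ ⊥ := by
    intro h
    rw [h, Ideal.height_bot] at hP1
    exact zero_ne_one hP1
  obtain ⟨p, hp, hp0⟩ := Submodule.exists_mem_ne_zero_of_ne_bot hPbot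
  have hpK : ι p ≠ 0 := map_ne_zero' hp0
  have hxP : (ι p)⁻¹ ∉ locSet P := by
    rintro ⟨s, hs, b, hb⟩
    apply hs
    have h1 : ι s = ι (p * b) := by
      rw [map_mul, ← hb]
      field_simp
    rw [IsFractionRing.injective B K h1]
    exact P.mul_mem_right _ hp
  have h2 := (hw.mem_locSet_iff P _).not.mp hxP
  push Not at h2
  obtain ⟨l₀, hl₀, hmem⟩ := h2
  obtain ⟨-, hv⟩ := (w l₀).not_mem_iff.mp hmem
  have key : ∀ l, (w l).v (ι p)⁻¹ < 0 → hw.center l ≤ P → hw.center l = P := by
    intro l hl hle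
    apply eq_of_le_of_height_one hP1 _ hle
    intro hbot
    have h3 : p ∈ hw.center l := by
      rw [hw.mem_center]
      right
      rw [(w l).v_inv hpK] at hl
      omega
    rw [hbot] at h3
    exact hp0 h3
  have hc := key l₀ hv hl₀
  have hcore := hw.core P l₀ _ (inv_ne_zero hpK) hv hc key
  exact ⟨l₀, hc, hcore.2.1, hcore.2.2⟩

/-- finite character for the height-one localizations -/
theorem finite_height_one_not_mem (x : K) :
    {P : Ideal B | P.IsPrime ∧ P.height = 1 ∧ x ∉ locSet P}.Finite := by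
  by_cases hx : x = 0
  · have : {P : Ideal B | P.IsPrime ∧ P.height = 1 ∧ x ∉ locSet P} = ∅ := by
      ext P
      simp only [Set.mem_ofPred_eq, Set.mem_empty_iff_false, iff_false, not_and]
      intro hP _ h
      apply h
      rw [hx]
      have := algebraMap_mem_locSet (K := K) (P := P) 0
      rwa [map_zero] at this
    rw [this]
    exact Set.finite_empty
  · refine ((hw.finite x hx).image hw.center).subset ?_
    rintro P ⟨hP, hP1, hxP⟩
    obtain ⟨l₀, hc, hmem, -⟩ := hw.exists_of_height_one P hP1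
    rw [hmem] at hxP
    exact ⟨l₀, ((w l₀).not_mem_iff.mp hxP).2, hc⟩

/-- The localization at a height-one prime, as a discrete valuation subring of `K`. -/
theorem exists_valuationSubring_of_height_one (P : Ideal B) [hP : P.IsPrime]
    (hP1 : P.height = 1) :
    ∃ V : ValuationSubring K, IsDiscreteValuationRing V ∧ ∀ y : K, y ∈ V ↔ y ∈ locSet P := by
  obtain ⟨l₀, -, hmem, t, ht0, ht, hdiv⟩ := hw.exists_of_height_one P hP1
  refine ⟨(w l₀).toValuationSubring, (w l₀).isDiscreteValuationRing t ht0 ht hdiv, ?_⟩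
  intro y
  rw [hmem]
  rfl

end IsDefining

end Groth.Agent.Lib.Helper18.Krull
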