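import Mathlib
import Groth.Agent.Lib.Helper18.Krull3

/-!
# Krull domains, part 5: transfer of the Krull structure to a subring with the same spectrum
(helper18)

`B` a Krull domain (with a defining family), `C ⊆ B` a subring over which `B` is integral and such
that `Spec B → Spec C` is injective. Then the height-one primes of `C` correspond to those of `B`,
and the localizations `(C ∖ p)⁻¹ B` at height-one primes `p` of `C` are the essential valuation
rings of `B`.
-/

set_option autoImplicit false
set_option linter.style.haveILetI false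
set_option linter.unusedSectionVars false

namespace Groth.Agent.Lib.Helper18.Krull

variable {B : Type*} [CommRing B] [IsDomain B] {K : Type*} [Field K] [Algebra B K]
  [IsFractionRing B K] {Λ : Type*} {w : Λ → DVal K}
  {C : Type*} [CommRing C] [IsDomain C] [Algebra C B] [Algebra.IsIntegral C B]

local notation "ι" => algebraMap B K

/-- the localization `(C ∖ p)⁻¹ B` as a subset of `K` -/
def locSetOver (p : Ideal C) : Set K :=
  {x | ∃ s : C, s ∉ p ∧ ∃ b : B, x * ι (algebraMap C B s) = ι b}

section

variable (hinjC : Function.Injective (algebraMap C B))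
include hinjC

theorem comap_bot_eq_bot : (⊥ : Ideal B).comap (algebraMap C B) = ⊥ := by
  rw [← RingHom.ker_eq_comap_bot]
  exact (RingHom.injective_iff_ker_eq_bot _).mp hinjC

theorem exists_prime_over (p : Ideal C) [p.IsPrime] :
    ∃ P : Ideal B, P.IsPrime ∧ P.comap (algebraMap C B) = p := by
  obtain ⟨Q, -, hQ, hQp⟩ := Ideal.exists_ideal_over_prime_of_isIntegral p (⊥ : Ideal B)
    (by rw [comap_bot_eq_bot hinjC]; exact bot_le)
  exact ⟨Q, hQ, hQp⟩

theorem height_eq_one_of_comap (P : Ideal B) [P.IsPrime]
    (h : (P.comap (algebraMap C B)).height = 1) : P.height = 1 := by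
  have hPbot : P ≠ ⊥ := by
    rintro rfl
    rw [comap_bot_eq_bot hinjC, Ideal.height_bot] at h
    exact zero_ne_one h
  refine le_antisymm ?_ ?_
  · have : P.height ≤ ((1 : ℕ) : ℕ∞) := by
      rw [Ideal.height_le_iff]
      intro Q hQ hQP
      have h1 := Ideal.IsIntegral.comap_lt_comap (R := C) hQP
      have h2 := (Ideal.height_le_iff (p := P.comap (algebraMap C B)) (n := 1)).mp
        (by rw [h]; rfl) _ inferInstance h1
      have h3 : (Q.comap (algebraMap C B)).height = 0 := by
        have : (Q.comap (algebraMap C B)).height < 1 := by exact_mod_cast h2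
        exact ENat.lt_one_iff_eq_zero.mp this
      have h4 := Ideal.height_eq_zero_iff_eq_bot.mp h3
      rw [Ideal.IsIntegral.eq_bot_of_comap_eq_bot C h4, Ideal.height_bot]
      exact_mod_cast zero_lt_one
    simpa using this
  · rw [Order.one_le_iff_pos, pos_iff_ne_zero, Ne, Ideal.height_eq_zero_iff_eq_bot]
    exact hPbot

variable (hspec : ∀ (P₁ P₂ : Ideal B), P₁.IsPrime → P₂.IsPrime →
    P₁.comap (algebraMap C B) = P₂.comap (algebraMap C B) → P₁ = P₂)
include hspec

theorem height_comap_eq_one (P : Ideal B) [hP : P.IsPrime] (h : P.height = 1) :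
    (P.comap (algebraMap C B)).height = 1 := by
  have hPbot : P ≠ ⊥ := by
    rintro rfl
    rw [Ideal.height_bot] at h
    exact zero_ne_one h
  have hpbot : P.comap (algebraMap C B) ≠ ⊥ := Ideal.IsIntegral.comap_ne_bot C hPbot
  refine le_antisymm ?_ ?_
  · have : (P.comap (algebraMap C B)).height ≤ ((1 : ℕ) : ℕ∞) := by
      rw [Ideal.height_le_iff]
      intro q hq hqp
      have hqbot : q = ⊥ := by
        by_contra hqne
        obtain ⟨Q', hQ', hQ'q⟩ := exists_prime_over hinjC q
        obtain ⟨Q, hQQ', hQ, hQp⟩ := Ideal.exists_ideal_over_prime_of_isIntegral_of_isPrime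
          (P.comap (algebraMap C B)) Q' (by rw [hQ'q]; exact hqp.le)
        have hQP : Q = P := hspec Q P hQ hP hQp
        rw [hQP] at hQQ'
        have hQ'bot : Q' ≠ ⊥ := by
          rintro rfl
          rw [comap_bot_eq_bot hinjC] at hQ'q
          exact hqne hQ'q.symm
        have h1 := eq_of_le_of_height_one h hQ'bot hQQ'
        rw [h1] at hQ'q
        exact hqp.ne hQ'q.symm
      rw [hqbot, Ideal.height_bot]
      exact_mod_cast zero_lt_one
    simpa using this
  · rw [Order.one_le_iff_pos, pos_iff_ne_zero, Ne, Ideal.height_eq_zero_iff_eq_bot]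
    exact hpbot

theorem locSetOver_eq (P : Ideal B) [hP : P.IsPrime] :
    locSetOver (B := B) (K := K) (P.comap (algebraMap C B)) = locSet P := by
  ext x
  constructor
  · rintro ⟨s, hs, b, hb⟩
    exact ⟨algebraMap C B s, hs, b, hb⟩
  · rintro ⟨s', hs', b', hb'⟩
    -- the ideal of denominators
    let I : Ideal B :=
      { carrier := {b | ∃ b'' : B, x * ι b = ι b''}
        zero_mem' := ⟨0, by rw [map_zero, mul_zero]⟩
        add_mem' := by
          rintro a b ⟨a', ha⟩ ⟨b'', hb⟩
          exact ⟨a' + b'', by rw [map_add, map_add, mul_add, ha, hb]⟩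
        smul_mem' := by
          rintro c b ⟨b'', hb⟩
          exact ⟨c * b'', by rw [smul_eq_mul, map_mul, map_mul, ← hb]; ring⟩ }
    have hs'I : s' ∈ I := ⟨b', hb'⟩
    by_contra hcon
    have hle : I.comap (algebraMap C B) ≤ P.comap (algebraMap C B) := by
      intro s hs
      by_contra hsp
      obtain ⟨b'', hb''⟩ := hs
      exact hcon ⟨s, hsp, b'', hb''⟩
    obtain ⟨Q, hIQ, hQ, hQp⟩ :=
      Ideal.exists_ideal_over_prime_of_isIntegral (P.comap (algebraMap C B)) I hle
    have hQP : Q = P := hspec Q P hQ hP hQp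
    rw [hQP] at hIQ
    exact hs' (hIQ hs'I)

variable (hw : IsDefining B w)
include hw

theorem exists_valuationSubring_over (p : Ideal C) [p.IsPrime] (hp : p.height = 1) :
    ∃ V : ValuationSubring K, IsDiscreteValuationRing V ∧
      ∀ x : K, x ∈ V ↔ x ∈ locSetOver (B := B) p := by
  obtain ⟨P, hP, hPp⟩ := exists_prime_over hinjC p
  have hP1 : P.height = 1 := height_eq_one_of_comap hinjC P (by rw [hPp]; exact hp)
  obtain ⟨V, hV, hmem⟩ := hw.exists_valuationSubring_of_height_one P hP1
  refine ⟨V, hV, fun x => ?_⟩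
  rw [hmem, ← hPp, locSetOver_eq hinjC hspec P]

theorem mem_iff_forall_locSetOver (x : K) :
    (∃ b : B, ι b = x) ↔
      ∀ (p : Ideal C), p.IsPrime → p.height = 1 → x ∈ locSetOver (B := B) p := by
  constructor
  · rintro ⟨b, rfl⟩ p hp _
    exact ⟨1, by rw [← Ideal.eq_top_iff_one]; exact hp.ne_top, b, by rw [map_one, map_one, mul_one]⟩
  · intro h
    by_contra hx
    obtain ⟨P, hP, hP1, hxP⟩ := hw.exists_height_one_not_mem x hx
    have h1 := h (P.comap (algebraMap C B)) inferInstance (height_comap_eq_one hinjC hspec P hP1)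
    rw [locSetOver_eq hinjC hspec P] at h1
    exact hxP h1

theorem finite_not_mem_locSetOver (x : K) :
    {p : Ideal C | p.IsPrime ∧ p.height = 1 ∧ x ∉ locSetOver (B := B) p}.Finite := by
  refine ((hw.finite_height_one_not_mem x).image (Ideal.comap (algebraMap C B))).subset ?_
  rintro p ⟨hp, hp1, hxp⟩
  obtain ⟨P, hP, hPp⟩ := exists_prime_over hinjC p
  have hP1 : P.height = 1 := height_eq_one_of_comap hinjC P (by rw [hPp]; exact hp1)
  refine ⟨P, ⟨hP, hP1, ?_⟩, hPp⟩
  rw [← locSetOver_eq hinjC hspec P, hPp]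
  exact hxp

end

end Groth.Agent.Lib.Helper18.Krull
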