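import Mathlib
import Groth.Agent.Lib.Helper18.Krull3
import Groth.Agent.Lib.Helper26.NormalSurf

/-!
# Krull domains, part 4: Noetherian normal domains are Krull (helper18)

From an `ℕ∞`-valued order function on a domain we build a `DVal` on its fraction field.
For a Noetherian integrally closed domain the order functions at height-one primes
(helper26's `NormalSurf.ord`) form a defining family.
-/

set_option autoImplicit false
set_option linter.style.haveILetI false
set_option linter.unusedSectionVars false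

namespace Groth.Agent.Lib.Helper18.Krull

open Groth.Agent.Lib.Helper26.NormalSurf

section ofOrd

variable {R : Type*} [CommRing R] [IsDomain R] {L : Type*} [Field L] [Algebra R L]
  [IsFractionRing R L] (o : R → ℕ∞)

/-- the ℤ-valued function on the fraction field attached to an order function -/
noncomputable def ofOrdFun (x : L) : ℤ :=
  ((o (IsLocalization.sec (nonZeroDivisors R) x).1).toNat : ℤ) -
    ((o ((IsLocalization.sec (nonZeroDivisors R) x).2 : R)).toNat : ℤ)

variable (o_mul : ∀ a b, o (a * b) = o a + o b) (o_top : ∀ a, o a = ⊤ ↔ a = 0)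
include o_mul o_top

theorem ofOrdFun_eq (a b : R) (ha : a ≠ 0) (hb : b ≠ 0) :
    ofOrdFun (L := L) o (algebraMap R L a / algebraMap R L b) =
      ((o a).toNat : ℤ) - ((o b).toNat : ℤ) := by
  have hinj := IsFractionRing.injective R L
  have haK : algebraMap R L a ≠ 0 := (map_ne_zero_iff _ hinj).mpr ha
  have hbK : algebraMap R L b ≠ 0 := (map_ne_zero_iff _ hinj).mpr hb
  set x := algebraMap R L a / algebraMap R L b with hx
  set n := (IsLocalization.sec (nonZeroDivisors R) x).1 with hn
  set d := ((IsLocalization.sec (nonZeroDivisors R) x).2 : R) with hd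
  have hspec : x * algebraMap R L d = algebraMap R L n :=
    IsLocalization.sec_spec (nonZeroDivisors R) x
  have hd0 : d ≠ 0 := nonZeroDivisors.ne_zero (IsLocalization.sec (nonZeroDivisors R) x).2.2
  have h1 : a * d = n * b := by
    apply hinj
    rw [map_mul, map_mul, ← hspec, hx]
    field_simp
  have hn0 : n ≠ 0 := by
    rintro h0
    rw [h0, zero_mul] at h1
    exact mul_ne_zero ha hd0 h1
  have h2 : o a + o d = o n + o b := by rw [← o_mul, ← o_mul, h1]
  have fin : ∀ c : R, c ≠ 0 → o c ≠ ⊤ := fun c hc h => hc ((o_top c).mp h)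
  have h3 : (o a).toNat + (o d).toNat = (o n).toNat + (o b).toNat := by
    rw [← ENat.toNat_add (fin a ha) (fin d hd0), ← ENat.toNat_add (fin n hn0) (fin b hb), h2]
  unfold ofOrdFun
  rw [← hn, ← hd]
  omega

variable (o_add : ∀ a b, min (o a) (o b) ≤ o (a + b))
include o_add

/-- the `DVal` attached to an order function -/
noncomputable def ofOrd : DVal L where
  v := ofOrdFun o
  map_mul' x y hx hy := by
    obtain ⟨a, b, hb, rfl⟩ := IsFractionRing.div_surjective (A := R) x
    obtain ⟨c, d, hd, rfl⟩ := IsFractionRing.div_surjective (A := R) y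
    have hb0 : b ≠ 0 := nonZeroDivisors.ne_zero hb
    have hd0 : d ≠ 0 := nonZeroDivisors.ne_zero hd
    have ha0 : a ≠ 0 := by
      rintro rfl
      rw [map_zero, zero_div] at hx
      exact hx rfl
    have hc0 : c ≠ 0 := by
      rintro rfl
      rw [map_zero, zero_div] at hy
      exact hy rfl
    have fin : ∀ c : R, c ≠ 0 → o c ≠ ⊤ := fun c hc h => hc ((o_top c).mp h)
    rw [div_mul_div_comm, ← map_mul, ← map_mul,
      ofOrdFun_eq o o_mul o_top _ _ (mul_ne_zero ha0 hc0) (mul_ne_zero hb0 hd0),
      ofOrdFun_eq o o_mul o_top _ _ ha0 hb0, ofOrdFun_eq o o_mul o_top _ _ hc0 hd0,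
      o_mul, o_mul, ENat.toNat_add (fin a ha0) (fin c hc0), ENat.toNat_add (fin b hb0) (fin d hd0)]
    push_cast
    ring
  map_add' x y hx hy hxy := by
    obtain ⟨a, b, hb, rfl⟩ := IsFractionRing.div_surjective (A := R) x
    obtain ⟨c, d, hd, rfl⟩ := IsFractionRing.div_surjective (A := R) y
    have hinj := IsFractionRing.injective R L
    have hb0 : b ≠ 0 := nonZeroDivisors.ne_zero hb
    have hd0 : d ≠ 0 := nonZeroDivisors.ne_zero hd
    have hbK : algebraMap R L b ≠ 0 := (map_ne_zero_iff _ hinj).mpr hb0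
    have hdK : algebraMap R L d ≠ 0 := (map_ne_zero_iff _ hinj).mpr hd0
    have ha0 : a ≠ 0 := by
      rintro rfl
      rw [map_zero, zero_div] at hx
      exact hx rfl
    have hc0 : c ≠ 0 := by
      rintro rfl
      rw [map_zero, zero_div] at hy
      exact hy rfl
    have fin : ∀ c : R, c ≠ 0 → o c ≠ ⊤ := fun c hc h => hc ((o_top c).mp h)
    have hsum : algebraMap R L a / algebraMap R L b + algebraMap R L c / algebraMap R L d =
        algebraMap R L (a * d + c * b) / algebraMap R L (b * d) := by
      rw [map_add, map_mul, map_mul, map_mul]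
      field_simp
    have he0 : a * d + c * b ≠ 0 := by
      intro h0
      rw [hsum, h0, map_zero, zero_div] at hxy
      exact hxy rfl
    rw [hsum, ofOrdFun_eq o o_mul o_top _ _ he0 (mul_ne_zero hb0 hd0),
      ofOrdFun_eq o o_mul o_top _ _ ha0 hb0, ofOrdFun_eq o o_mul o_top _ _ hc0 hd0]
    have h1 := o_add (a * d) (c * b)
    obtain ⟨α, hα⟩ := ENat.ne_top_iff_exists.mp (fin a ha0)
    obtain ⟨β, hβ⟩ := ENat.ne_top_iff_exists.mp (fin b hb0)
    obtain ⟨γ, hγ⟩ := ENat.ne_top_iff_exists.mp (fin c hc0)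
    obtain ⟨δ, hδ⟩ := ENat.ne_top_iff_exists.mp (fin d hd0)
    obtain ⟨ε, hε⟩ := ENat.ne_top_iff_exists.mp (fin _ he0)
    rw [o_mul, o_mul, ← hα, ← hβ, ← hγ, ← hδ, ← hε] at h1
    rw [o_mul, ← hα, ← hβ, ← hγ, ← hδ, ← hε]
    have h3 : ((β : ℕ∞) + (δ : ℕ∞)).toNat = β + δ := by
      rw [← Nat.cast_add, ENat.toNat_natCast]
    rw [h3]
    simp only [ENat.toNat_natCast]
    rcases min_le_iff.mp h1 with h4 | h4
    · have h4' : α + δ ≤ ε := by exact_mod_cast h4
      refine le_trans (min_le_left _ _) ?_
      push_cast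
      omega
    · have h4' : γ + β ≤ ε := by exact_mod_cast h4
      refine le_trans (min_le_right _ _) ?_
      push_cast
      omega

theorem ofOrd_v (a b : R) (ha : a ≠ 0) (hb : b ≠ 0) :
    (ofOrd (L := L) o o_mul o_top o_add).v (algebraMap R L a / algebraMap R L b) =
      ((o a).toNat : ℤ) - ((o b).toNat : ℤ) :=
  ofOrdFun_eq o o_mul o_top a b ha hb

end ofOrd

section normal

variable {R : Type*} [CommRing R] [IsDomain R] [IsNoetherianRing R] [IsIntegrallyClosed R]
  (L : Type*) [Field L] [Algebra R L] [IsFractionRing R L]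

/-- the valuation of the fraction field attached to a height-one prime of a Noetherian normal
domain -/
noncomputable def dvalH1 (q : {q : Ideal R // H1 q}) : DVal L :=
  ofOrd (ord q.1 q.2) (ord_mul q.1 q.2) (ord_eq_top_iff q.1 q.2) (ord_add q.1 q.2)

theorem dvalH1_v (q : {q : Ideal R // H1 q}) (a b : R) (ha : a ≠ 0) (hb : b ≠ 0) :
    (dvalH1 L q).v (algebraMap R L a / algebraMap R L b) =
      ((ord q.1 q.2 a).toNat : ℤ) - ((ord q.1 q.2 b).toNat : ℤ) :=
  ofOrd_v _ _ _ _ a b ha hb

theorem ord_one (q : {q : Ideal R // H1 q}) : ord q.1 q.2 (1 : R) = 0 := by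
  rw [ord_eq_zero_iff]
  haveI := q.2.1
  rw [← Ideal.eq_top_iff_one]
  exact Ideal.IsPrime.ne_top'

/-- A Noetherian integrally closed domain is a Krull domain. -/
theorem isDefining_dvalH1 : IsDefining R (dvalH1 (R := R) L) where
  mem_iff x := by
    have hinj := IsFractionRing.injective R L
    have fin : ∀ (q : {q : Ideal R // H1 q}) (c : R), c ≠ 0 → ord q.1 q.2 c ≠ ⊤ :=
      fun q c hc h => hc ((ord_eq_top_iff q.1 q.2 c).mp h)
    constructor
    · rintro ⟨b, rfl⟩ q
      by_cases hb : b = 0
      · left; rw [hb, map_zero]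
      right
      have h1 := dvalH1_v L q b 1 hb one_ne_zero
      rw [map_one, div_one, ord_one, ENat.toNat_zero] at h1
      rw [h1]
      simp
    · intro h
      obtain ⟨a, b, hb, rfl⟩ := IsFractionRing.div_surjective (A := R) x
      have hb0 : b ≠ 0 := nonZeroDivisors.ne_zero hb
      by_cases ha : a = 0
      · exact ⟨0, by simp [ha]⟩
      have hbK : algebraMap R L b ≠ 0 := (map_ne_zero_iff _ hinj).mpr hb0
      have haK : algebraMap R L a ≠ 0 := (map_ne_zero_iff _ hinj).mpr ha
      have hmem : a ∈ Ideal.span {b} := by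
        apply mem_span_of_forall_ord_le b a hb0
        intro q hq _
        have h1 := (dvalH1 L ⟨q, hq⟩).nonneg_of_mem (h ⟨q, hq⟩) (div_ne_zero haK hbK)
        rw [dvalH1_v L ⟨q, hq⟩ a b ha hb0] at h1
        have h2 : (ord q hq b).toNat ≤ (ord q hq a).toNat := by
          have h1' : (0 : ℤ) ≤ ((ord q hq a).toNat : ℤ) - ((ord q hq b).toNat : ℤ) := h1
          omega
        rw [← ENat.natCast_toNat (fin ⟨q, hq⟩ b hb0), ← ENat.natCast_toNat (fin ⟨q, hq⟩ a ha)]
        exact_mod_cast h2
      obtain ⟨c, rfl⟩ := Ideal.mem_span_singleton.mp hmem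
      refine ⟨c, ?_⟩
      rw [map_mul]
      field_simp
  finite x hx := by
    have hinj := IsFractionRing.injective R L
    obtain ⟨a, b, hb, rfl⟩ := IsFractionRing.div_surjective (A := R) x
    have hb0 : b ≠ 0 := nonZeroDivisors.ne_zero hb
    have ha : a ≠ 0 := by
      rintro rfl
      rw [map_zero, zero_div] at hx
      exact hx rfl
    refine Set.Finite.subset (Set.Finite.preimage (Subtype.val_injective.injOn) (Z_finite b hb0)) ?_
    intro q hq
    refine ⟨q.2, ?_⟩
    have h1 : (dvalH1 L q).v (algebraMap R L a / algebraMap R L b) < 0 := hq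
    rw [dvalH1_v L q a b ha hb0] at h1
    by_contra hbq
    rw [← ord_eq_zero_iff q.1 q.2] at hbq
    rw [hbq, ENat.toNat_zero] at h1
    omega

end normal

end Groth.Agent.Lib.Helper18.Krull
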