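import Mathlib

/-!
# Mori–Nagata, part 1: integrality descends along a faithfully flat Noetherian extension,
tested on the minimal primes (helper18)

`A` a domain with fraction field `K`, `R` a flat Noetherian `A`-algebra. We construct
`τK : R ⊗[A] K → ∏_{q minimal} Frac (R/q)`, show its kernel consists of nilpotents, and
(for `R` faithfully flat) that `x ∈ K` is integral over `A` iff its images `φ_q x ∈ Frac(R/q)`
are integral over `R/q`.
-/

set_option autoImplicit false
set_option linter.style.haveILetI false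
set_option linter.unusedSectionVars false
universe u
open TensorProduct

namespace Groth.Agent.Lib.Helper18.MN

variable (A : Type u) [CommRing A] [IsDomain A] (R : Type u) [CommRing R] [IsNoetherianRing R]
  [Algebra A R] [Module.Flat A R]

/-- the minimal primes of `R` -/
abbrev Idx := {q : Ideal R // q ∈ minimalPrimes R}

instance : Finite (Idx R) := (minimalPrimes.finite_of_isNoetherianRing R).to_subtype

instance (i : Idx R) : (i.1).IsPrime := i.2.1.1

/-- the fraction field of `R/q` -/
abbrev Kq (i : Idx R) := FractionRing (R ⧸ i.1)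

/-- the product of the fraction fields of the `R/q` -/
abbrev T := ∀ i : Idx R, Kq R i

theorem τ_apply (c : R) (i : Idx R) :
    algebraMap R (T R) c i = algebraMap (R ⧸ i.1) (Kq R i) (Ideal.Quotient.mk i.1 c) := rfl

theorem τ_eq_zero_iff (c : R) : algebraMap R (T R) c = 0 ↔ ∀ i : Idx R, c ∈ i.1 := by
  constructor
  · intro hc i
    have h2 := congrFun hc i
    rw [τ_apply] at h2
    have h3 : Ideal.Quotient.mk i.1 c = 0 :=
      (IsFractionRing.injective (R ⧸ i.1) (Kq R i)) (h2.trans (map_zero _).symm)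
    exact Ideal.Quotient.eq_zero_iff_mem.mp h3
  · intro h
    funext i
    rw [τ_apply, Ideal.Quotient.eq_zero_iff_mem.mpr (h i), map_zero]
    rfl

theorem isNilpotent_of_forall_mem (c : R) (h : ∀ i : Idx R, c ∈ i.1) : IsNilpotent c := by
  have h1 : c ∈ sInf (minimalPrimes R) := by
    rw [Ideal.mem_sInf]
    intro q hq
    exact h ⟨q, hq⟩
  have h2 : sInf (minimalPrimes R) = nilradical R := by
    have := Ideal.sInf_minimalPrimes (I := (⊥ : Ideal R))
    exact this
  rw [h2] at h1
  exact h1

variable {R} in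
theorem algebraMap_notMem (a : A) (ha : a ≠ 0) (i : Idx R) : algebraMap A R a ∉ i.1 := by
  intro hmem
  have hreg : IsSMulRegular A a := (IsRegular.of_ne_zero ha).left.isSMulRegular
  have hregC : IsSMulRegular R (algebraMap A R a) := hreg.of_flat
  have hnzd : algebraMap A R a ∈ nonZeroDivisors R := by
    rw [mem_nonZeroDivisors_iff_right]
    intro c hc
    rw [mul_comm] at hc
    exact hregC (by simpa using hc)
  exact Set.disjoint_left.mp (Ideal.disjoint_nonZeroDivisors_of_mem_minimalPrimes i.2) hmem hnzd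

theorem isUnit_τ (s : Algebra.algebraMapSubmonoid R (nonZeroDivisors A)) :
    IsUnit (algebraMap R (T R) s) := by
  obtain ⟨s, a, ha, rfl⟩ := s
  rw [Pi.isUnit_iff]
  intro i
  apply IsUnit.mk0
  rw [τ_apply]
  intro h0
  have h3 : Ideal.Quotient.mk i.1 (algebraMap A R a) = 0 :=
    (IsFractionRing.injective (R ⧸ i.1) (Kq R i)) (h0.trans (map_zero _).symm)
  exact algebraMap_notMem A a (nonZeroDivisors.ne_zero ha) i (Ideal.Quotient.eq_zero_iff_mem.mp h3)

/-- the map `R ⊗ K → ∏ Frac(R/q)` -/
noncomputable def τK : R ⊗[A] FractionRing A →+* T R :=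
  IsLocalization.lift (M := Algebra.algebraMapSubmonoid R (nonZeroDivisors A)) (isUnit_τ A R)

theorem τK_algebraMap (c : R) :
    τK A R (algebraMap R (R ⊗[A] FractionRing A) c) = algebraMap R (T R) c :=
  IsLocalization.lift_eq (isUnit_τ A R) c

/-- `τK` as an `R`-algebra map -/
noncomputable def τKₐ : R ⊗[A] FractionRing A →ₐ[R] T R :=
  { τK A R with commutes' := τK_algebraMap A R }

theorem τKₐ_apply (z : R ⊗[A] FractionRing A) : τKₐ A R z = τK A R z := rfl

theorem isNilpotent_of_τK_eq_zero (z : R ⊗[A] FractionRing A) (hz : τK A R z = 0) :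
    IsNilpotent z := by
  obtain ⟨⟨r, s⟩, h⟩ := IsLocalization.surj (Algebra.algebraMapSubmonoid R (nonZeroDivisors A)) z
  dsimp only at h
  have h1 := congrArg (τK A R) h
  rw [map_mul, hz, zero_mul, τK_algebraMap] at h1
  obtain ⟨n, hn⟩ := isNilpotent_of_forall_mem R r ((τ_eq_zero_iff R r).mp h1.symm)
  refine ⟨n, ?_⟩
  have h2 : (z * algebraMap R (R ⊗[A] FractionRing A) s) ^ n = 0 := by
    rw [h, ← map_pow, hn, map_zero]
  rw [mul_pow] at h2
  have hu : IsUnit ((algebraMap R (R ⊗[A] FractionRing A) s) ^ n) :=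
    (IsLocalization.map_units (R ⊗[A] FractionRing A) s).pow n
  exact (hu.mul_left_eq_zero).mp h2

/-- the field homomorphisms `K → Frac(R/q)` -/
noncomputable def φ (i : Idx R) : FractionRing A →+* Kq R i :=
  (Pi.evalRingHom _ i).comp ((τK A R).comp
    (Algebra.TensorProduct.includeRight (R := A) (A := R) (B := FractionRing A)).toRingHom)

theorem φ_apply (i : Idx R) (x : FractionRing A) : φ A R i x = τK A R (1 ⊗ₜ x) i := rfl

theorem one_tmul_algebraMap (a : A) :
    (1 : R) ⊗ₜ[A] (algebraMap A (FractionRing A) a) =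
      algebraMap R (R ⊗[A] FractionRing A) (algebraMap A R a) := by
  calc (1 : R) ⊗ₜ[A] (algebraMap A (FractionRing A) a)
      = (1 : R) ⊗ₜ[A] (a • (1 : FractionRing A)) := by rw [Algebra.algebraMap_eq_smul_one]
    _ = (a • (1 : R)) ⊗ₜ[A] (1 : FractionRing A) := (TensorProduct.smul_tmul a 1 1).symm
    _ = (algebraMap A R a) ⊗ₜ[A] (1 : FractionRing A) := by rw [← Algebra.algebraMap_eq_smul_one]
    _ = algebraMap R (R ⊗[A] FractionRing A) (algebraMap A R a) := by
      rw [Algebra.TensorProduct.algebraMap_apply]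
      rfl

theorem φ_algebraMap (i : Idx R) (a : A) :
    φ A R i (algebraMap A (FractionRing A) a) =
      algebraMap (R ⧸ i.1) (Kq R i) (Ideal.Quotient.mk i.1 (algebraMap A R a)) := by
  rw [φ_apply, one_tmul_algebraMap, τK_algebraMap, τ_apply]

end Groth.Agent.Lib.Helper18.MN
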