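import Mathlib
import Groth.Agent.Lib.Helper18.MN1

/-!
# Mori–Nagata, part 2: descent of integrality (helper18)
-/

set_option autoImplicit false
set_option linter.style.haveILetI false
set_option linter.unusedSectionVars false
universe u
open TensorProduct

namespace Groth.Agent.Lib.Helper18.MN

variable (A : Type u) [CommRing A] [IsDomain A] (R : Type u) [CommRing R] [IsNoetherianRing R]
  [Algebra A R] [Module.FaithfullyFlat A R]

theorem isIntegral_one_tmul (x : FractionRing A)
    (h : ∀ i : Idx R, IsIntegral (R ⧸ i.1) (φ A R i x)) :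
    IsIntegral R ((1 : R) ⊗ₜ[A] x) := by
  classical
  haveI : Fintype (Idx R) := Fintype.ofFinite _
  set y := (1 : R) ⊗ₜ[A] x with hy
  have h1 : ∀ i, IsIntegral R (τKₐ A R y i) := by
    intro i
    haveI : Algebra.IsIntegral R (R ⧸ i.1) :=
      Algebra.isIntegral_of_surjective Ideal.Quotient.mk_surjective
    exact isIntegral_trans (A := R ⧸ i.1) _ (h i)
  choose f hf hf0 using h1
  let g := ∏ i, f i
  have hg : g.Monic := Polynomial.monic_prod_of_monic _ _ (fun i _ => hf i)
  have h2 : Polynomial.aeval (τKₐ A R y) g = 0 := by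
    funext i
    have h3 := Polynomial.aeval_algHom_apply (Pi.evalAlgHom R (Kq R) i) (τKₐ A R y) g
    rw [Pi.zero_apply]
    change Pi.evalAlgHom R (Kq R) i (Polynomial.aeval (τKₐ A R y) g) = 0
    rw [← h3]
    simp only [g, map_prod]
    apply Finset.prod_eq_zero (Finset.mem_univ i)
    rw [Polynomial.aeval_def]
    exact hf0 i
  have h3 : τK A R (Polynomial.aeval y g) = 0 := by
    have h4 := Polynomial.aeval_algHom_apply (τKₐ A R) y g
    rw [← τKₐ_apply, ← h4, h2]
  obtain ⟨N, hN⟩ := isNilpotent_of_τK_eq_zero A R _ h3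
  refine ⟨g ^ N, hg.pow N, ?_⟩
  rw [← Polynomial.aeval_def, map_pow, hN]

theorem isIntegral_of_isIntegral_one_tmul (x : FractionRing A)
    (hy : IsIntegral R ((1 : R) ⊗ₜ[A] x)) : IsIntegral A x := by
  set y := (1 : R) ⊗ₜ[A] x with hydef
  let M : Subalgebra A (FractionRing A) := Algebra.adjoin A {x}
  let N₀ : Submodule R (R ⊗[A] FractionRing A) := Subalgebra.toSubmodule (Algebra.adjoin R {y})
  have hN₀ : N₀.FG := hy.fg_adjoin_singleton
  have hincl : ∀ m ∈ M, (1 : R) ⊗ₜ[A] m ∈ Algebra.adjoin R {y} := by
    intro m hm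
    induction hm using Algebra.adjoin_induction with
    | mem z hz =>
      rw [Set.mem_singleton_iff.mp hz]
      exact Algebra.subset_adjoin rfl
    | algebraMap a =>
      rw [one_tmul_algebraMap]
      exact Subalgebra.algebraMap_mem _ _
    | add z z' _ _ hz hz' =>
      rw [TensorProduct.tmul_add]
      exact add_mem hz hz'
    | mul z z' _ _ hz hz' =>
      have : (1 : R) ⊗ₜ[A] (z * z') = ((1 : R) ⊗ₜ[A] z) * ((1 : R) ⊗ₜ[A] z') := by
        rw [Algebra.TensorProduct.tmul_mul_tmul, one_mul]
      rw [this]
      exact mul_mem hz hz'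
  let j : R ⊗[A] M →ₗ[R] R ⊗[A] FractionRing A := M.val.toLinearMap.baseChange R
  have hjinj : Function.Injective j := by
    have h1 := Module.Flat.lTensor_preserves_injective_linearMap (M := R) M.val.toLinearMap
      Subtype.val_injective
    have h2 : ⇑j = ⇑(LinearMap.lTensor R M.val.toLinearMap) := by
      ext e
      induction e using TensorProduct.induction_on with
      | zero => simp
      | tmul c a => simp [j]
      | add x y hx hy => rw [map_add, map_add, hx, hy]
    rw [h2]
    exact h1
  have hjmem : ∀ e, j e ∈ N₀ := by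
    intro e
    induction e using TensorProduct.induction_on with
    | zero => rw [map_zero]; exact zero_mem _
    | tmul r m =>
      have : j (r ⊗ₜ m) = r • ((1 : R) ⊗ₜ[A] (m : FractionRing A)) := by
        rw [TensorProduct.smul_tmul', smul_eq_mul, mul_one]
        rfl
      rw [this]
      exact N₀.smul_mem r (hincl m m.2)
    | add a b ha hb => rw [map_add]; exact add_mem ha hb
  haveI : IsNoetherian R N₀ := isNoetherian_of_fg_of_noetherian N₀ hN₀
  let Λ : R ⊗[A] M →ₗ[R] N₀ := j.codRestrict N₀ hjmem
  have hΛ : Function.Injective Λ := fun a b hab => hjinj (congrArg Subtype.val hab)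
  haveI : Module.Finite R (R ⊗[A] M) := Module.Finite.of_injective Λ hΛ
  haveI : Module.Finite A M := Module.Finite.of_finite_tensorProduct_of_faithfullyFlat R
  have hfg : (Subalgebra.toSubmodule M).FG := Module.Finite.iff_fg.mp ‹Module.Finite A M›
  exact IsIntegral.of_mem_of_fg M hfg x (Algebra.subset_adjoin rfl)

/-- An element of `K` is integral over `A` iff its images in the fraction fields of the
`R/q`, `q` a minimal prime of the faithfully flat Noetherian `A`-algebra `R`, are integral. -/
theorem isIntegral_iff (x : FractionRing A) :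
    IsIntegral A x ↔ ∀ i : Idx R, IsIntegral (R ⧸ i.1) (φ A R i x) := by
  constructor
  · intro h i
    refine IsIntegral.map_of_comp_eq ((Ideal.Quotient.mk i.1).comp (algebraMap A R))
      (φ A R i) ?_ h
    ext a
    simp only [RingHom.comp_apply]
    rw [φ_algebraMap]
  · intro h
    exact isIntegral_of_isIntegral_one_tmul A R x (isIntegral_one_tmul A R x h)

end Groth.Agent.Lib.Helper18.MN
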