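import Mathlib
import Groth.Agent.Lib.Helper18.MN2
import Groth.Agent.Lib.Helper18.Krull4

/-!
# Mori–Nagata, part 3: the integral closure of `A` in its fraction field is a Krull domain
(helper18)

`A` a domain, `R` a faithfully flat Noetherian `A`-algebra such that `R/q` has finite
normalization for every minimal prime `q` (e.g. `A` Noetherian local and `R` its completion).
Then the valuations of the height-one primes of the normalizations of the `R/q`, pulled back to
`K = Frac A`, form a defining family for the integral closure of `A` in `K`.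
-/

set_option autoImplicit false
set_option linter.style.haveILetI false
set_option linter.unusedSectionVars false
universe u
open TensorProduct

namespace Groth.Agent.Lib.Helper18.MN

open Groth.Agent.Lib.Helper18.Krull Groth.Agent.Lib.Helper26.NormalSurf

variable (A : Type u) [CommRing A] [IsDomain A] (R : Type u) [CommRing R] [IsNoetherianRing R]
  [Algebra A R] [Module.FaithfullyFlat A R]

/-- the normalization of `R/q` -/
abbrev D' (i : Idx R) : Subalgebra (R ⧸ i.1) (Kq R i) := integralClosure (R ⧸ i.1) (Kq R i)

instance (i : Idx R) : IsFractionRing (D' R i) (Kq R i) :=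
  integralClosure.isFractionRing_of_finite_extension (Kq R i) (Kq R i)

instance (i : Idx R) : IsIntegrallyClosed (D' R i) :=
  integralClosure.isIntegrallyClosedOfFiniteExtension (Kq R i)

/-- the index type of the defining family -/
abbrev Fam := Σ i : Idx R, {P : Ideal (D' R i) // H1 P}

/-- the defining family of valuations of `K` -/
noncomputable def fam (hN : ∀ i : Idx R, IsNoetherianRing (D' R i)) (l : Fam R) :
    DVal (FractionRing A) :=
  haveI := hN l.1
  (dvalH1 (Kq R l.1) l.2).comap (φ A R l.1)

theorem fam_mem (hN : ∀ i : Idx R, IsNoetherianRing (D' R i)) (l : Fam R) (x : FractionRing A) :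
    (fam A R hN l).Mem x ↔
      (haveI := hN l.1; (dvalH1 (Kq R l.1) l.2).Mem (φ A R l.1 x)) :=
  DVal.comap_mem _ _ _

theorem fam_v (hN : ∀ i : Idx R, IsNoetherianRing (D' R i)) (l : Fam R) (x : FractionRing A) :
    (fam A R hN l).v x = (haveI := hN l.1; (dvalH1 (Kq R l.1) l.2).v (φ A R l.1 x)) := rfl

theorem isDefining_fam (hN : ∀ i : Idx R, IsNoetherianRing (D' R i)) :
    IsDefining (integralClosure A (FractionRing A)) (fam A R hN) where
  mem_iff x := by
    have h1 : (∃ b : integralClosure A (FractionRing A),
        algebraMap (integralClosure A (FractionRing A)) (FractionRing A) b = x) ↔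
        IsIntegral A x := by
      constructor
      · rintro ⟨b, rfl⟩
        exact b.2
      · intro h
        exact ⟨⟨x, h⟩, rfl⟩
    rw [h1, isIntegral_iff A R]
    constructor
    · intro h l
      rw [fam_mem]
      haveI := hN l.1
      exact ((isDefining_dvalH1 (R := D' R l.1) (Kq R l.1)).mem_iff _).mp
        ⟨⟨_, h l.1⟩, rfl⟩ l.2
    · intro h i
      haveI := hN i
      obtain ⟨d, hd⟩ := ((isDefining_dvalH1 (R := D' R i) (Kq R i)).mem_iff (φ A R i x)).mpr
        (fun P => (fam_mem A R hN ⟨i, P⟩ x).mp (h ⟨i, P⟩))
      rw [← hd]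
      exact d.2
  finite x hx := by
    have hsub : {l | (fam A R hN l).v x < 0} ⊆
        ⋃ i : Idx R, Sigma.mk i '' {P | (haveI := hN i; (dvalH1 (Kq R i) P).v (φ A R i x) < 0)} := by
      rintro ⟨i, P⟩ hl
      rw [Set.mem_iUnion]
      exact ⟨i, P, hl, rfl⟩
    refine Set.Finite.subset (Set.finite_iUnion fun i => Set.Finite.image _ ?_) hsub
    haveI := hN i
    exact (isDefining_dvalH1 (R := D' R i) (Kq R i)).finite (φ A R i x)
      ((map_ne_zero (φ A R i)).mpr hx)

end Groth.Agent.Lib.Helper18.MN
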