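import Mathlib
import Groth.Agent.Lib.Helper18.MN3

/-!
# Mori–Nagata, part 4: a finite subalgebra of the integral closure with the same spectrum
(helper18)

With `A`, `R` as in part 3 and `A'` the integral closure of `A` in `K = Frac A`, the image of
`R ⊗ A'` in `∏ Frac(R/q)` is a finite `R`-module. Hence there is a finite sub-`A`-algebra `C₀ ⊆ A'`
such that for `C₀ ⊆ C ⊆ A'` the map `Spec A' → Spec C` is injective.
-/

set_option autoImplicit false
set_option linter.style.haveILetI false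
set_option linter.unusedSectionVars false
universe u
open TensorProduct

namespace Groth.Agent.Lib.Helper18.MN

variable (A : Type u) [CommRing A] [IsDomain A] (R : Type u) [CommRing R] [IsNoetherianRing R]
  [Algebra A R] [Module.FaithfullyFlat A R]

/-- the inclusion `R ⊗ A' → R ⊗ K` -/
noncomputable def jA' : R ⊗[A] (integralClosure A (FractionRing A)) →ₐ[R] R ⊗[A] FractionRing A :=
  Algebra.TensorProduct.map (AlgHom.id R R) (integralClosure A (FractionRing A)).val

theorem jA'_injective : Function.Injective (jA' A R) := by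
  have h1 := Module.Flat.lTensor_preserves_injective_linearMap (M := R)
    (integralClosure A (FractionRing A)).val.toLinearMap Subtype.val_injective
  have h2 : ⇑(jA' A R) =
      ⇑(LinearMap.lTensor R (integralClosure A (FractionRing A)).val.toLinearMap) := by
    ext e
    induction e using TensorProduct.induction_on with
    | zero => simp
    | tmul c a => simp [jA']
    | add x y hx hy => rw [map_add, map_add, hx, hy]
  rw [h2]
  exact h1

/-- the map `R ⊗ A' → ∏ Frac(R/q)` -/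
noncomputable def θ : R ⊗[A] (integralClosure A (FractionRing A)) →ₐ[R] T R :=
  (τKₐ A R).comp (jA' A R)

theorem isNilpotent_of_θ_eq_zero (z : R ⊗[A] (integralClosure A (FractionRing A)))
    (hz : θ A R z = 0) : IsNilpotent z := by
  have h1 : τK A R (jA' A R z) = 0 := hz
  obtain ⟨n, hn⟩ := isNilpotent_of_τK_eq_zero A R _ h1
  refine ⟨n, jA'_injective A R ?_⟩
  rw [map_pow, hn, map_zero]

/-- the finite `R`-module `∏ (R/q)'` -/
def Dmod : Submodule R (T R) :=
  Submodule.pi Set.univ fun i => (Subalgebra.toSubmodule (D' R i)).restrictScalars R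

theorem θ_mem_Dmod (z : R ⊗[A] (integralClosure A (FractionRing A))) : θ A R z ∈ Dmod R := by
  rw [Dmod, Submodule.mem_pi]
  intro i _
  have h1 : IsIntegral R z := by
    haveI : Algebra.IsIntegral A (integralClosure A (FractionRing A)) := inferInstance
    haveI : Algebra.IsIntegral R (R ⊗[A] (integralClosure A (FractionRing A))) := inferInstance
    exact Algebra.IsIntegral.isIntegral z
  have h2 : IsIntegral R (θ A R z) := h1.map (θ A R)
  have h3 : IsIntegral R (θ A R z i) := h2.map (Pi.evalAlgHom R (Kq R) i)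
  exact h3.tower_top

theorem Dmod_fg (hN1 : ∀ i : Idx R, Module.Finite (R ⧸ i.1) (D' R i)) : (Dmod R).FG := by
  apply Submodule.fg_pi
  intro i
  haveI := hN1 i
  haveI : Module.Finite R (D' R i) := Module.Finite.trans (R ⧸ i.1) _
  have h1 : Module.Finite R ((Subalgebra.toSubmodule (D' R i)).restrictScalars R) := ‹_›
  exact Module.Finite.iff_fg.mp h1

section spec

variable {A R}
variable {B C : Type u} [CommRing B] [Algebra A B] [CommRing C] [Algebra A C] (incl : C →ₐ[A] B)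

/-- If `R ⊗ C → R ⊗ B` is surjective modulo nilpotents (`R` faithfully flat over `A`), then
`Spec B → Spec C` is injective. -/
theorem le_of_comap_eq
    (hstar : ∀ c : B, ∃ ξ : R ⊗[A] C,
      IsNilpotent ((1 : R) ⊗ₜ[A] c - Algebra.TensorProduct.map (AlgHom.id R R) incl ξ))
    (P₁ P₂ : Ideal B) [P₁.IsPrime] [P₂.IsPrime]
    (h : P₁.comap incl = P₂.comap incl) :
    P₁ ≤ P₂ := by
  intro c hc
  by_contra hc2
  obtain ⟨p, hp⟩ : ∃ p : Ideal C, p = P₁.comap incl := ⟨_, rfl⟩
  let ρ : R ⊗[A] C →ₐ[R] R ⊗[A] B := Algebra.TensorProduct.map (AlgHom.id R R) incl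
  -- the maps
  let π₁ : R ⊗[A] B →ₐ[R] R ⊗[A] (B ⧸ P₁) :=
    Algebra.TensorProduct.map (AlgHom.id R R) (Ideal.Quotient.mkₐ A P₁)
  let π₂ : R ⊗[A] B →ₐ[R] R ⊗[A] (B ⧸ P₂) :=
    Algebra.TensorProduct.map (AlgHom.id R R) (Ideal.Quotient.mkₐ A P₂)
  let σ : R ⊗[A] C →ₐ[R] R ⊗[A] (C ⧸ p) :=
    Algebra.TensorProduct.map (AlgHom.id R R) (Ideal.Quotient.mkₐ A p)
  let e₁ : C ⧸ p →ₐ[A] B ⧸ P₁ := Ideal.quotientMapₐ P₁ incl hp.le
  let e₂ : C ⧸ p →ₐ[A] B ⧸ P₂ := Ideal.quotientMapₐ P₂ incl (by rw [hp, h])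
  have he₁ : Function.Injective e₁ :=
    Ideal.quotientMap_injective' (f := (incl : C →+* B)) (H := hp.le) hp.ge
  have he₂ : Function.Injective e₂ :=
    Ideal.quotientMap_injective' (f := (incl : C →+* B)) (H := by rw [hp, h]; exact le_rfl)
      (by rw [hp, h]; exact le_rfl)
  let ε₁ : R ⊗[A] (C ⧸ p) →ₐ[R] R ⊗[A] (B ⧸ P₁) := Algebra.TensorProduct.map (AlgHom.id R R) e₁
  let ε₂ : R ⊗[A] (C ⧸ p) →ₐ[R] R ⊗[A] (B ⧸ P₂) := Algebra.TensorProduct.map (AlgHom.id R R) e₂
  have hε₁ : Function.Injective ε₁ := by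
    have h1 := Module.Flat.lTensor_preserves_injective_linearMap (M := R) e₁.toLinearMap he₁
    have h2 : ⇑ε₁ = ⇑(LinearMap.lTensor R e₁.toLinearMap) := by
      ext e
      induction e using TensorProduct.induction_on with
      | zero => simp
      | tmul c a => simp [ε₁]
      | add x y hx hy => rw [map_add, map_add, hx, hy]
    rw [h2]
    exact h1
  have hsq₁ : ∀ ξ, ε₁ (σ ξ) = π₁ (ρ ξ) := by
    intro ξ
    induction ξ using TensorProduct.induction_on with
    | zero => simp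
    | tmul r c => simp [ε₁, σ, π₁, ρ, e₁]
    | add x y hx hy => rw [map_add, map_add, map_add, map_add, hx, hy]
  have hsq₂ : ∀ ξ, ε₂ (σ ξ) = π₂ (ρ ξ) := by
    intro ξ
    induction ξ using TensorProduct.induction_on with
    | zero => simp
    | tmul r c => simp [ε₂, σ, π₂, ρ, e₂]
    | add x y hx hy => rw [map_add, map_add, map_add, map_add, hx, hy]
  obtain ⟨ξ, hη⟩ := hstar c
  change IsNilpotent ((1 : R) ⊗ₜ[A] c - ρ ξ) at hη
  -- in `R ⊗ B/P₁`
  have h1 : π₁ ((1 : R) ⊗ₜ[A] c) = 0 := by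
    simp only [π₁, Algebra.TensorProduct.map_tmul, Ideal.Quotient.mkₐ_eq_mk]
    rw [Ideal.Quotient.eq_zero_iff_mem.mpr hc, TensorProduct.tmul_zero]
  have h2 : IsNilpotent (π₁ (ρ ξ)) := by
    have h3 : π₁ (ρ ξ) = -π₁ ((1 : R) ⊗ₜ[A] c - ρ ξ) := by
      rw [map_sub, h1, zero_sub, neg_neg]
    rw [h3]
    exact (hη.map π₁).neg
  have h4 : IsNilpotent (σ ξ) := by
    rw [← hsq₁] at h2
    obtain ⟨n, hn⟩ := h2
    refine ⟨n, hε₁ ?_⟩
    rw [map_pow, hn, map_zero]
  have h5 : IsNilpotent (π₂ (ρ ξ)) := by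
    rw [← hsq₂]
    exact h4.map ε₂
  have h6 : IsNilpotent (π₂ ((1 : R) ⊗ₜ[A] c)) := by
    have h7 : π₂ ((1 : R) ⊗ₜ[A] c) = π₂ ((1 : R) ⊗ₜ[A] c - ρ ξ) + π₂ (ρ ξ) := by
      rw [map_sub, sub_add_cancel]
    rw [h7]
    exact Commute.isNilpotent_add (Commute.all _ _) (hη.map π₂) h5
  obtain ⟨M, hM⟩ := h6
  have h8 : π₂ ((1 : R) ⊗ₜ[A] c) = (1 : R) ⊗ₜ[A] (Ideal.Quotient.mk P₂ c) := by
    simp only [π₂, Algebra.TensorProduct.map_tmul, Ideal.Quotient.mkₐ_eq_mk]
    rfl
  rw [h8, Algebra.TensorProduct.tmul_pow, one_pow] at hM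
  have h9 : TensorProduct.mk A R (B ⧸ P₂) 1 ((Ideal.Quotient.mk P₂ c) ^ M) =
      TensorProduct.mk A R (B ⧸ P₂) 1 0 := by
    rw [TensorProduct.mk_apply, TensorProduct.mk_apply, hM, TensorProduct.tmul_zero]
  have h10 := Module.FaithfullyFlat.tensorProduct_mk_injective (A := A) (B := R) (B ⧸ P₂) h9
  have h11 : Ideal.Quotient.mk P₂ c = 0 := by
    by_cases hM0 : M = 0
    · rw [hM0, pow_zero] at h10
      exact absurd h10 one_ne_zero
    · exact (pow_eq_zero_iff hM0).mp h10
  exact hc2 (Ideal.Quotient.eq_zero_iff_mem.mp h11)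

end spec

end Groth.Agent.Lib.Helper18.MN
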