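import Mathlib
import Groth.Agent.Lib.Helper18.MN4

/-!
# Mori–Nagata, part 5: existence of the finite subalgebra `C₀` (helper18)
-/

set_option autoImplicit false
set_option linter.style.haveILetI false
set_option linter.unusedSectionVars false
universe u
open TensorProduct

namespace Groth.Agent.Lib.Helper18.MN

variable (A : Type u) [CommRing A] [IsDomain A] (R : Type u) [CommRing R] [IsNoetherianRing R]
  [Algebra A R] [Module.FaithfullyFlat A R]

local notation "A'" => integralClosure A (FractionRing A)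

/-- There is a finite subalgebra `C₀` of the integral closure `A'` such that
`Spec A' → Spec C` is injective for every `C₀ ≤ C ≤ A'`. -/
theorem exists_finite_subalgebra_spec_injective
    (hN1 : ∀ i : Idx R, Module.Finite (R ⧸ i.1) (D' R i)) :
    ∃ C₀ : Subalgebra A (FractionRing A), C₀ ≤ A' ∧ (Subalgebra.toSubmodule C₀).FG ∧
      ∀ (C : Subalgebra A (FractionRing A)) (_ : C₀ ≤ C) (hC : C ≤ A')
        (P₁ P₂ : Ideal A') [P₁.IsPrime] [P₂.IsPrime],
        P₁.comap (Subalgebra.inclusion hC) = P₂.comap (Subalgebra.inclusion hC) → P₁ = P₂ := by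
  classical
  let f : A' → T R := fun c => θ A R ((1 : R) ⊗ₜ[A] c)
  let E : Submodule R (T R) := Submodule.span R (Set.range f)
  have hE : E ≤ Dmod R := by
    rw [Submodule.span_le]
    rintro _ ⟨c, rfl⟩
    exact θ_mem_Dmod A R _
  haveI : IsNoetherian R (Dmod R) := isNoetherian_of_fg_of_noetherian (Dmod R) (Dmod_fg R hN1)
  have hEfg : E.FG := by
    have h1 : (Submodule.comap (Dmod R).subtype E).FG := IsNoetherian.noetherian _
    have h2 := h1.map (Dmod R).subtype
    rwa [Submodule.map_comap_subtype, inf_eq_right.mpr hE] at h2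
  obtain ⟨s', hs', hspan⟩ := (Submodule.fg_span_iff_fg_span_finset_subset (Set.range f)).mp hEfg
  rw [← Set.image_univ] at hs'
  obtain ⟨S, -, hS⟩ := Finset.subset_set_image_iff.mp hs'
  -- the subalgebra
  let C₀ : Subalgebra A (FractionRing A) :=
    Algebra.adjoin A ((fun c : A' => (c : FractionRing A)) '' (S : Set A'))
  have hC₀le : C₀ ≤ A' := by
    apply Algebra.adjoin_le
    rintro _ ⟨c, -, rfl⟩
    exact c.2
  have hC₀fg : (Subalgebra.toSubmodule C₀).FG := by
    apply fg_adjoin_of_finite ((Finset.finite_toSet S).image _)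
    rintro _ ⟨c, -, rfl⟩
    exact c.2
  refine ⟨C₀, hC₀le, hC₀fg, ?_⟩
  intro C hC₀C hC P₁ P₂ _ _ h
  have hstar : ∀ c : A', ∃ ξ : R ⊗[A] C, IsNilpotent ((1 : R) ⊗ₜ[A] c -
      Algebra.TensorProduct.map (AlgHom.id R R) (Subalgebra.inclusion hC) ξ) := by
    intro c
    let ρ : R ⊗[A] C →ₐ[R] R ⊗[A] A' :=
      Algebra.TensorProduct.map (AlgHom.id R R) (Subalgebra.inclusion hC)
    have h1 : E ≤ LinearMap.range ((θ A R).toLinearMap ∘ₗ ρ.toLinearMap) := by
      change Submodule.span R (Set.range f) ≤ _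
      rw [hspan, ← hS, Submodule.span_le]
      intro t ht
      rw [Finset.coe_image] at ht
      obtain ⟨s, hs, rfl⟩ := ht
      have hsC : (s : FractionRing A) ∈ C := hC₀C (Algebra.subset_adjoin ⟨s, hs, rfl⟩)
      refine ⟨(1 : R) ⊗ₜ[A] (⟨(s : FractionRing A), hsC⟩ : C), ?_⟩
      simp only [LinearMap.coe_comp, AlgHom.coe_toLinearMap, Function.comp_apply, ρ,
        Algebra.TensorProduct.map_tmul, AlgHom.coe_id, id_eq]
      rfl
    have h2 : f c ∈ E := Submodule.subset_span ⟨c, rfl⟩
    obtain ⟨ξ, hξ⟩ := h1 h2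
    refine ⟨ξ, isNilpotent_of_θ_eq_zero A R _ ?_⟩
    rw [map_sub]
    have h3 : θ A R (ρ ξ) = f c := hξ
    rw [h3]
    exact sub_self _
  exact le_antisymm (le_of_comap_eq (Subalgebra.inclusion hC) hstar P₁ P₂ h)
    (le_of_comap_eq (Subalgebra.inclusion hC) hstar P₂ P₁ h.symm)

end Groth.Agent.Lib.Helper18.MN
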