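import Mathlib
import Groth.Agent.Lib.Helper18.MN5
import Groth.Agent.Lib.Helper18.Krull5

/-!
# Mori–Nagata, part 6: assembly (helper18)
-/

set_option autoImplicit false
set_option linter.style.haveILetI false
set_option linter.unusedSectionVars false
universe u
open TensorProduct

namespace Groth.Agent.Lib.Helper18.MN

open Groth.Agent.Lib.Helper18.Krull

variable (A : Type u) [CommRing A] [IsDomain A] (R : Type u) [CommRing R] [IsNoetherianRing R]
  [Algebra A R] [Module.FaithfullyFlat A R]

local notation "A'" => integralClosure A (FractionRing A)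

theorem isIntegral_subalgebra_iff (C : Subalgebra A (FractionRing A)) [Module.Finite A C]
    (y : FractionRing A) : IsIntegral C y ↔ IsIntegral A y := by
  constructor
  · intro h
    haveI : Algebra.IsIntegral A C := Algebra.IsIntegral.of_finite A C
    exact isIntegral_trans (A := C) y h
  · intro h
    exact h.tower_top

/-- Mori–Nagata: the integral closure of `A` in its fraction field is a Krull domain, whose
essential valuations are seen on a finite subalgebra. -/
theorem mori_nagata (hN1 : ∀ i : Idx R, Module.Finite (R ⧸ i.1) (D' R i)) :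
    ∃ C : Subalgebra A (FractionRing A), Module.Finite A C ∧
      (∀ (p : Ideal C) [p.IsPrime], p.height = 1 →
        ∃ V : ValuationSubring (FractionRing A), IsDiscreteValuationRing V ∧
          ∀ x : FractionRing A, x ∈ V ↔
            ∃ s : C, s ∉ p ∧ IsIntegral C ((s : FractionRing A) * x)) ∧
      (∀ x : FractionRing A, x ∈ integralClosure A (FractionRing A) ↔
        ∀ (p : Ideal C) [p.IsPrime], p.height = 1 →
          ∃ s : C, s ∉ p ∧ IsIntegral C ((s : FractionRing A) * x)) ∧
      (∀ x : FractionRing A, {p : Ideal C | p.IsPrime ∧ p.height = 1 ∧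
        ¬ ∃ s : C, s ∉ p ∧ IsIntegral C ((s : FractionRing A) * x)}.Finite) := by
  have hN : ∀ i : Idx R, IsNoetherianRing (D' R i) := fun i =>
    haveI := hN1 i
    IsNoetherianRing.of_finite (R ⧸ i.1) _
  obtain ⟨C, hCle, hCfg, hinj⟩ := exists_finite_subalgebra_spec_injective A R hN1
  haveI hfin : Module.Finite A C := Module.Finite.iff_fg.mpr hCfg
  haveI : IsFractionRing A' (FractionRing A) :=
    integralClosure.isFractionRing_of_finite_extension (FractionRing A) (FractionRing A)
  letI algCA' : Algebra C A' := (Subalgebra.inclusion hCle).toRingHom.toAlgebra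
  have halg : ∀ c : C, algebraMap C A' c = Subalgebra.inclusion hCle c := fun _ => rfl
  haveI : IsScalarTower A C A' := IsScalarTower.of_algebraMap_eq (fun a => rfl)
  haveI : Algebra.IsIntegral C A' := ⟨fun b => (Algebra.IsIntegral.isIntegral (R := A) b).tower_top⟩
  have hinjC : Function.Injective (algebraMap C A') := Subalgebra.inclusion_injective hCle
  have hspec : ∀ (P₁ P₂ : Ideal A'), P₁.IsPrime → P₂.IsPrime →
      P₁.comap (algebraMap C A') = P₂.comap (algebraMap C A') → P₁ = P₂ := by
    intro P₁ P₂ h1 h2 h
    exact hinj C le_rfl hCle P₁ P₂ h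
  have hw := isDefining_fam A R hN
  have key : ∀ (p : Ideal C) (x : FractionRing A),
      (∃ s : C, s ∉ p ∧ IsIntegral C ((s : FractionRing A) * x)) ↔
        x ∈ locSetOver (B := A') (K := FractionRing A) p := by
    intro p x
    constructor
    · rintro ⟨s, hs, hint⟩
      rw [isIntegral_subalgebra_iff] at hint
      refine ⟨s, hs, ⟨(s : FractionRing A) * x, hint⟩, ?_⟩
      rw [mul_comm]
      rfl
    · rintro ⟨s, hs, b, hb⟩
      refine ⟨s, hs, ?_⟩
      rw [isIntegral_subalgebra_iff]
      have h1 : (s : FractionRing A) * x = (b : FractionRing A) := by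
        rw [mul_comm]
        exact hb
      rw [h1]
      exact b.2
  refine ⟨C, hfin, ?_, ?_, ?_⟩
  · intro p hp hp1
    obtain ⟨V, hV, hmem⟩ := exists_valuationSubring_over hinjC hspec hw p hp1
    refine ⟨V, hV, fun x => ?_⟩
    rw [hmem, key]
  · intro x
    have h1 := mem_iff_forall_locSetOver (C := C) hinjC hspec hw x
    have h2 : (∃ b : A', algebraMap A' (FractionRing A) b = x) ↔ x ∈ A' := by
      constructor
      · rintro ⟨b, rfl⟩
        exact b.2
      · intro h
        exact ⟨⟨x, h⟩, rfl⟩
    rw [← h2, h1]
    constructor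
    · intro h p hp hp1
      exact (key p x).mpr (h p hp hp1)
    · intro h p hp hp1
      exact (key p x).mp (h p hp1)
  · intro x
    have h1 := finite_not_mem_locSetOver (C := C) hinjC hspec hw x
    refine h1.subset ?_
    rintro p ⟨hp, hp1, hx⟩
    exact ⟨hp, hp1, fun h => hx ((key p x).mpr h)⟩

end Groth.Agent.Lib.Helper18.MN
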