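import Mathlib
import Groth.Agent.S12124

/-!
# Integral closure as intersection of localizations at height-one primes (helper18)
Uses Mori–Nagata (S12124) for the localizations `A_𝔪`.
-/

set_option autoImplicit false
universe u

namespace Groth.Agent.Lib.Helper18.IC1

/-- Mori–Nagata (b) transported to an arbitrary fraction field. -/
theorem mnK (A : Type u) [CommRing A] [IsDomain A] [IsNoetherianRing A] [IsLocalRing A]
    (K : Type u) [Field K] [Algebra A K] [IsFractionRing A K] :
    ∃ C : Subalgebra A K, Module.Finite A C ∧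
      ∀ x : K, x ∈ integralClosure A K ↔
        ∀ (p : Ideal C) [p.IsPrime], p.height = 1 →
          ∃ s : C, s ∉ p ∧ IsIntegral C ((s : K) * x) := by
  obtain ⟨C, hfin, -, hb, -⟩ := Groth.Agent.S12124.result (A := A)
  obtain ⟨e, he⟩ : ∃ e : FractionRing A ≃ₐ[A] K, e = FractionRing.algEquiv A K := ⟨_, rfl⟩
  obtain ⟨φ, hφ⟩ : ∃ φ : C ≃ₐ[A] C.map e.toAlgHom,
      φ = C.equivMapOfInjective e.toAlgHom e.injective := ⟨_, rfl⟩
  have hφc : ∀ c : C, ((φ c : C.map e.toAlgHom) : K) = e (c : FractionRing A) := by
    intro c; rw [hφ]; rfl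
  have hφs : ∀ c' : C.map e.toAlgHom, ((φ.symm c' : C) : FractionRing A) = e.symm (c' : K) := by
    intro c'
    apply e.injective
    rw [← hφc, AlgEquiv.apply_symm_apply, AlgEquiv.apply_symm_apply]
  refine ⟨C.map e.toAlgHom, Module.Finite.equiv φ.toLinearEquiv, fun x => ?_⟩
  have h1 : x ∈ integralClosure A K ↔ e.symm x ∈ integralClosure A (FractionRing A) := by
    rw [mem_integralClosure_iff, mem_integralClosure_iff]
    exact (isIntegral_algEquiv e.symm).symm
  rw [h1, hb]
  have hcomp1 : (algebraMap (C.map e.toAlgHom) K).comp (φ : C →+* C.map e.toAlgHom) =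
      (e : FractionRing A →+* K).comp (algebraMap C (FractionRing A)) := by
    ext c
    exact hφc c
  have hcomp2 : (algebraMap C (FractionRing A)).comp (φ.symm : C.map e.toAlgHom →+* C) =
      (e.symm : K →+* FractionRing A).comp (algebraMap (C.map e.toAlgHom) K) := by
    ext c
    exact hφs c
  constructor
  · intro H p' _ hp'
    have hht : (p'.comap (φ.toRingEquiv)).height = 1 := by
      rw [RingEquiv.height_comap]; exact hp'
    obtain ⟨s, hs, hint⟩ := H (p'.comap (φ.toRingEquiv)) hht
    refine ⟨φ s, fun h => hs (by simpa [Ideal.mem_comap] using h), ?_⟩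
    have h2 := IsIntegral.map_of_comp_eq (φ : C →+* C.map e.toAlgHom)
      (e : FractionRing A →+* K) hcomp1 hint
    have h3 : (e : FractionRing A →+* K) ((s : FractionRing A) * e.symm x) =
        ((φ s : C.map e.toAlgHom) : K) * x := by
      rw [map_mul, hφc]
      simp
    rwa [h3] at h2
  · intro H p _ hp
    have hht : (p.comap (φ.symm.toRingEquiv)).height = 1 := by
      rw [RingEquiv.height_comap]; exact hp
    obtain ⟨s', hs', hint'⟩ := H (p.comap (φ.symm.toRingEquiv)) hht
    refine ⟨φ.symm s', fun h => hs' (by simpa [Ideal.mem_comap] using h), ?_⟩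
    have h2 := IsIntegral.map_of_comp_eq (φ.symm : C.map e.toAlgHom →+* C)
      (e.symm : K →+* FractionRing A) hcomp2 hint'
    have h3 : (e.symm : K →+* FractionRing A) ((s' : K) * x) =
        ((φ.symm s' : C) : FractionRing A) * e.symm x := by
      rw [map_mul, hφs]
      simp
    rwa [h3] at h2

end Groth.Agent.Lib.Helper18.IC1
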