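import Mathlib
import Groth.Agent.Lib.Helper18.IC1

/-!
# Integral closure as intersection of localizations at height-one primes, part 2 (helper18)
-/

set_option autoImplicit false
universe u

namespace Groth.Agent.Lib.Helper18.IC1

theorem core {A : Type u} [CommRing A] [IsDomain A] [IsNoetherianRing A]
    {K : Type u} [Field K] [Algebra A K] [IsFractionRing A K]
    (𝔪 : Ideal A) [𝔪.IsPrime] (Am : Type u) [CommRing Am] [Algebra A Am]
    [IsLocalization.AtPrime Am 𝔪] [Algebra Am K] [IsScalarTower A Am K]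
    (h : ∀ C : Subalgebra A K, C ≤ integralClosure A K → Module.Finite A C →
      ∀ (q : Ideal C) [q.IsPrime], q.height = 1 → (q.comap (algebraMap A C)).height = 1)
    (x : K)
    (hx : ∀ (𝔭 : Ideal A) [𝔭.IsPrime], 𝔭.height = 1 →
      ∃ s : A, s ∉ 𝔭 ∧ IsIntegral A (algebraMap A K s * x)) :
    ∃ t : A, t ∉ 𝔪 ∧ IsIntegral A (algebraMap A K t * x) := by
  haveI : IsDomain Am := IsLocalization.isDomain_of_atPrime Am 𝔪
  haveI : IsNoetherianRing Am := IsLocalization.isNoetherianRing 𝔪.primeCompl Am inferInstance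
  haveI : IsLocalRing Am := IsLocalization.AtPrime.isLocalRing Am 𝔪
  haveI : IsFractionRing Am K :=
    IsFractionRing.isFractionRing_of_isDomain_of_isLocalization 𝔪.primeCompl Am K
  obtain ⟨C, hCfin, hb⟩ := mnK Am K
  suffices hxi : IsIntegral Am x by
    obtain ⟨⟨t, ht⟩, hti⟩ :=
      IsIntegral.exists_multiple_integral_of_isLocalization 𝔪.primeCompl x hxi
    refine ⟨t, ht, ?_⟩
    rwa [Submonoid.smul_def, Algebra.smul_def] at hti
  rw [← mem_integralClosure_iff, hb]
  intro p _ hp1
  -- generators of `C`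
  obtain ⟨G, hG⟩ := Module.finite_def.mp hCfin
  have hint : ∀ g : C, IsIntegral Am (g : K) := fun g =>
    ((Algebra.IsIntegral.of_finite Am C).isIntegral g).map C.val
  have hm : ∀ g : C, ∃ m : 𝔪.primeCompl, IsIntegral A (m • (g : K)) := fun g =>
    IsIntegral.exists_multiple_integral_of_isLocalization 𝔪.primeCompl (g : K) (hint g)
  choose m hm using hm
  obtain ⟨S, hS⟩ : ∃ S : Set K, S = (fun g : C => m g • (g : K)) '' (G : Set C) := ⟨_, rfl⟩
  obtain ⟨C₀, hC₀⟩ : ∃ C₀ : Subalgebra A K, C₀ = Algebra.adjoin A S := ⟨_, rfl⟩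
  have hSfin : S.Finite := by rw [hS]; exact (G.finite_toSet).image _
  have hSint : ∀ y ∈ S, IsIntegral A y := by
    rw [hS]; rintro _ ⟨g, -, rfl⟩; exact hm g
  have hC₀le : C₀ ≤ integralClosure A K := by
    rw [hC₀]; exact Algebra.adjoin_le (fun y hy => hSint y hy)
  haveI hC₀fin : Module.Finite A C₀ := by
    rw [hC₀]; exact Algebra.finite_adjoin_of_finite_of_isIntegral hSfin hSint
  have hsmul : ∀ (t : 𝔪.primeCompl) (y : K), t • y = algebraMap A K t * y := by
    intro t y; rw [Submonoid.smul_def, Algebra.smul_def]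
  have hC₀C : ∀ y ∈ C₀, y ∈ C := by
    intro y hy
    rw [hC₀] at hy
    induction hy using Algebra.adjoin_induction with
    | mem y hy =>
      rw [hS] at hy
      obtain ⟨g, -, rfl⟩ := hy
      change m g • (g : K) ∈ C
      rw [hsmul, IsScalarTower.algebraMap_apply A Am K]
      exact C.mul_mem (C.algebraMap_mem _) g.2
    | algebraMap a => rw [IsScalarTower.algebraMap_apply A Am K]; exact C.algebraMap_mem _
    | add y z _ _ hy hz => exact C.add_mem hy hz
    | mul y z _ _ hy hz => exact C.mul_mem hy hz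
  -- every element of `C` is a fraction
  have hfrac : ∀ z : C, ∃ y ∈ C₀, ∃ t : A, t ∉ 𝔪 ∧ algebraMap A K t * (z : K) = y := by
    intro z
    have hz : z ∈ Submodule.span Am (G : Set C) := by rw [hG]; exact Submodule.mem_top
    induction hz using Submodule.span_induction with
    | mem g hg =>
      refine ⟨m g • (g : K), ?_, (m g : A), (m g).2, (hsmul _ _).symm⟩
      rw [hC₀]
      exact Algebra.subset_adjoin (by rw [hS]; exact ⟨g, hg, rfl⟩)
    | zero => exact ⟨0, C₀.zero_mem, 1, 𝔪.primeCompl.one_mem, by simp⟩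
    | add z w _ _ hz hw =>
      obtain ⟨y1, hy1, t1, ht1, h1⟩ := hz
      obtain ⟨y2, hy2, t2, ht2, h2⟩ := hw
      refine ⟨algebraMap A K t2 * y1 + algebraMap A K t1 * y2,
        C₀.add_mem (C₀.mul_mem (C₀.algebraMap_mem _) hy1) (C₀.mul_mem (C₀.algebraMap_mem _) hy2),
        t1 * t2, 𝔪.primeCompl.mul_mem ht1 ht2, ?_⟩
      rw [← h1, ← h2, map_mul]
      push_cast
      ring
    | smul a z _ hz =>
      obtain ⟨y, hy, t, ht, h1⟩ := hz
      obtain ⟨⟨b, u⟩, hbu⟩ := IsLocalization.surj 𝔪.primeCompl a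
      refine ⟨algebraMap A K b * y, C₀.mul_mem (C₀.algebraMap_mem _) hy, u * t,
        𝔪.primeCompl.mul_mem u.2 ht, ?_⟩
      have h2 : ((a • z : C) : K) = algebraMap Am K a * (z : K) := by
        rw [Subalgebra.coe_smul, Algebra.smul_def]
      have h3 : algebraMap A K b = algebraMap Am K a * algebraMap A K u := by
        rw [IsScalarTower.algebraMap_apply A Am K, IsScalarTower.algebraMap_apply A Am K,
          ← map_mul, hbu]
      rw [h2, ← h1, h3, map_mul]
      ring
  -- the inclusion `C₀ → C`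
  let ι : C₀ →+* C :=
    { toFun := fun y => ⟨y.1, hC₀C y.1 y.2⟩
      map_one' := rfl
      map_mul' := fun _ _ => rfl
      map_zero' := rfl
      map_add' := fun _ _ => rfl }
  letI : Algebra C₀ C := ι.toAlgebra
  have hι : ∀ y : C₀, ((algebraMap C₀ C y : C) : K) = (y : K) := fun y => rfl
  have hloc : IsLocalization (Algebra.algebraMapSubmonoid C₀ 𝔪.primeCompl) C := by
    rw [isLocalization_iff]
    refine ⟨?_, ?_, ?_⟩
    · rintro ⟨_, t, ht, rfl⟩
      have h4 : algebraMap C₀ C (algebraMap A C₀ t) = algebraMap Am C (algebraMap A Am t) := by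
        apply Subtype.ext
        rw [hι]
        change algebraMap A K t = algebraMap Am K (algebraMap A Am t)
        rw [← IsScalarTower.algebraMap_apply A Am K]
      change IsUnit (algebraMap C₀ C (algebraMap A C₀ t))
      rw [h4]
      exact (IsLocalization.map_units Am (⟨t, ht⟩ : 𝔪.primeCompl)).map _
    · intro z
      obtain ⟨y, hy, t, ht, h1⟩ := hfrac z
      refine ⟨(⟨y, hy⟩, ⟨algebraMap A C₀ t, t, ht, rfl⟩), ?_⟩
      apply Subtype.ext
      change (z : K) * algebraMap A K t = y
      rw [mul_comm]; exact h1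
    · intro y z hyz
      refine ⟨1, ?_⟩
      have : (y : K) = (z : K) := by rw [← hι y, ← hι z, hyz]
      rw [Subtype.ext this]
  have hq1 : (p.under C₀).height = 1 := by
    rw [IsLocalization.height_under (Algebra.algebraMapSubmonoid C₀ 𝔪.primeCompl) p]; exact hp1
  have h𝔭 := h C₀ hC₀le hC₀fin (p.under C₀) hq1
  obtain ⟨s, hs, hsi⟩ := hx ((p.under C₀).comap (algebraMap A C₀)) h𝔭
  refine ⟨algebraMap A C s, ?_, ?_⟩
  · intro hsp
    apply hs
    rw [Ideal.mem_comap, Ideal.under_def, Ideal.mem_comap]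
    convert hsp using 1
    apply Subtype.ext
    rfl
  · have h5 : ((algebraMap A C s : C) : K) = algebraMap A K s := rfl
    rw [h5]
    have h6 : IsIntegral Am (algebraMap A K s * x) := hsi.tower_top
    exact h6.tower_top

end Groth.Agent.Lib.Helper18.IC1
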