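import Mathlib

/-!
# Finite incidence structures in which any two distinct "curves" meet in exactly `h` points

Helper lemmas (helper18) for the `Harb.*` double-counting statements.
-/

set_option autoImplicit false

universe u v

namespace Groth.Agent.Lib.Helper18.Incidence

open Finset

variable {P : Type u} {ι : Type v} [Fintype ι] (inc : P → ι → Prop) (h : ℕ)

/-- Packaging of the hypotheses as finsets: pairwise intersections `E i j`, and the finset `T` of
multiple points. -/
theorem exists_finsets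
    (hfin : ∀ i j : ι, i ≠ j → {p : P | inc p i ∧ inc p j}.Finite)
    (hcount : ∀ i j : ι, i ≠ j → {p : P | inc p i ∧ inc p j}.ncard = h) :
    ∃ (E : ι → ι → Finset P) (T : Finset P),
      (∀ i j, i ≠ j → ∀ p, p ∈ E i j ↔ inc p i ∧ inc p j) ∧
      (∀ i j, i ≠ j → (E i j).card = h) ∧
      (∀ p, p ∈ T ↔ 2 ≤ Nat.card {j : ι // inc p j}) ∧
      (∀ p, p ∈ T ↔ ∃ i j, i ≠ j ∧ inc p i ∧ inc p j) ∧
      (∀ i j, i ≠ j → E i j ⊆ T) ∧
      Nat.card {p : P // 2 ≤ Nat.card {j : ι // inc p j}} = T.card := by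
  classical
  set E : ι × ι → Finset P := fun x => if hx : x.1 ≠ x.2 then (hfin x.1 x.2 hx).toFinset else ∅
    with hEdef
  have hE : ∀ x : ι × ι, x.1 ≠ x.2 → ∀ p, p ∈ E x ↔ inc p x.1 ∧ inc p x.2 := by
    intro x hx p
    simp only [hEdef, dif_pos hx, Set.Finite.mem_toFinset, Set.mem_setOf_eq]
  have hEcard : ∀ x : ι × ι, x.1 ≠ x.2 → (E x).card = h := by
    intro x hx
    rw [← hcount x.1 x.2 hx, Set.ncard_eq_toFinset_card _ (hfin x.1 x.2 hx)]
    simp only [hEdef, dif_pos hx]
  set D : Finset (ι × ι) := (Finset.univ : Finset ι).offDiag with hDdef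
  have hD : ∀ x : ι × ι, x ∈ D ↔ x.1 ≠ x.2 := by
    intro x
    simp [hDdef, Finset.mem_offDiag]
  set T : Finset P := D.biUnion E with hTdef
  have hr : ∀ p, Nat.card {j : ι // inc p j} = (Finset.univ.filter (fun j => inc p j)).card := by
    intro p
    rw [Nat.card_eq_fintype_card, Fintype.card_subtype]
  have hT1 : ∀ p, p ∈ T ↔ ∃ i j, i ≠ j ∧ inc p i ∧ inc p j := by
    intro p
    constructor
    · intro hp
      obtain ⟨x, hx, hpx⟩ := Finset.mem_biUnion.1 hp
      have hx' := (hD x).1 hx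
      exact ⟨x.1, x.2, hx', (hE x hx' p).1 hpx⟩
    · rintro ⟨i, j, hij, hi, hj⟩
      exact Finset.mem_biUnion.2 ⟨(i, j), (hD (i, j)).2 hij, (hE (i, j) hij p).2 ⟨hi, hj⟩⟩
  have hT2 : ∀ p, p ∈ T ↔ 2 ≤ Nat.card {j : ι // inc p j} := by
    intro p
    rw [hT1 p, hr p]
    constructor
    · rintro ⟨i, j, hij, hi, hj⟩
      have hsub : ({i, j} : Finset ι) ⊆ Finset.univ.filter (fun j => inc p j) := by
        intro l hl
        simp only [Finset.mem_insert, Finset.mem_singleton] at hl
        rcases hl with rfl | rfl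
        · simp [hi]
        · simp [hj]
      calc 2 = ({i, j} : Finset ι).card := (Finset.card_pair hij).symm
        _ ≤ _ := Finset.card_le_card hsub
    · intro h2
      obtain ⟨i, hi, j, hj, hij⟩ := Finset.one_lt_card.1
        (show 1 < (Finset.univ.filter (fun j => inc p j)).card by omega)
      exact ⟨i, j, hij, (Finset.mem_filter.1 hi).2, (Finset.mem_filter.1 hj).2⟩
  refine ⟨fun i j => E (i, j), T, fun i j hij p => hE (i, j) hij p, fun i j hij => hEcard (i, j) hij,
    hT2, hT1, fun i j hij => Finset.subset_biUnion_of_mem E ((hD (i, j)).2 hij), ?_⟩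
  rw [← Nat.card_eq_finsetCard]
  apply Nat.card_congr
  exact ⟨fun p => ⟨p.1, (hT2 p.1).2 p.2⟩, fun p => ⟨p.1, (hT2 p.1).1 p.2⟩, fun p => rfl, fun p => rfl⟩

end Groth.Agent.Lib.Helper18.Incidence
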