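import Mathlib
import Groth.Prelude.Def_KZero
import Groth.Prelude.Def_SGA6
import Groth.Agent.Lib.Helper18.AL1

/-! # Localization with supports, abstract form (helper18)

In the setting of `AL1` with an additional "support condition" `S` on objects (closed under
subobjects, quotients and binary biproducts): if `R M₁ ≅ R M₂` and both `M₁`, `M₂` satisfy `S`,
then `[M₁] - [M₂]` lies in the subgroup generated by the classes of the objects which satisfy `S`
and are killed by `R`. -/

set_option autoImplicit false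
universe v' u' v u

open CategoryTheory CategoryTheory.Limits

namespace Groth.Agent.Lib.Helper18.NP1

open Groth.Agent.Lib.Helper18 Groth.Agent.Lib.Helper18.AD2

variable {A : Type u} [Category.{v} A] [Abelian A] {B : Type u'} [Category.{v'} B] [Abelian B]
  (R : A ⥤ B) [R.Additive] [PreservesFiniteLimits R] [PreservesFiniteColimits R]

/-- the subgroup generated by the classes of the objects satisfying `S` and killed by `R` -/
def TS (QA S : ObjectProperty A) : AddSubgroup (KZero.K0sub QA) :=
  AddSubgroup.closure {c | ∃ M, QA M ∧ S M ∧ IsZero (R.obj M) ∧ c = KZero.clSub QA M}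

variable {QA : ObjectProperty A} {QB : ObjectProperty B} {S : ObjectProperty A}

theorem clSub_mem_TS {M : A} (hM : QA M) (hS : S M) (hz : IsZero (R.obj M)) :
    KZero.clSub QA M ∈ TS R QA S :=
  AddSubgroup.subset_closure ⟨M, hM, hS, hz, rfl⟩

variable {R}

theorem sub_mem_TS_of_isIso (H : AL1.LocHyp R QA QB)
    (hsub : ∀ {M N : A} (f : M ⟶ N) [Mono f], S N → S M)
    (hquot : ∀ {M N : A} (f : M ⟶ N) [Epi f], S M → S N)
    {M₃ M₁ : A} (a : M₃ ⟶ M₁) (h3 : QA M₃) (h1 : QA M₁) (s3 : S M₃) (s1 : S M₁)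
    [IsIso (R.map a)] : KZero.clSub QA M₃ - KZero.clSub QA M₁ ∈ TS R QA S := by
  have hK : QA (kernel a) := H.QA_ker a h3 h1
  have hC : QA (cokernel a) := H.QA_coker a h3 h1
  have hI : QA (Abelian.image a) := H.QA_ker _ h1 hC
  have sK : S (kernel a) := hsub (kernel.ι a) s3
  have sC : S (cokernel a) := hquot (cokernel.π a) s1
  have e1 := clSub_add QA _ (AD1.shortExact_ker_im a) hK h3 hI
  have e2 := clSub_add QA _ (AD1.shortExact_im_coker a) hI h1 hC
  simp only at e1 e2
  have hzK : IsZero (R.obj (kernel a)) :=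
    IsZero.of_iso (isZero_kernel_of_mono (R.map a)) (PreservesKernel.iso R a)
  have hzC : IsZero (R.obj (cokernel a)) :=
    IsZero.of_iso (isZero_cokernel_of_epi (R.map a)) (PreservesCokernel.iso R a)
  have : KZero.clSub QA M₃ - KZero.clSub QA M₁ =
      KZero.clSub QA (kernel a) - KZero.clSub QA (cokernel a) := by
    rw [e1, e2]; abel
  rw [this]
  exact (TS R QA S).sub_mem (clSub_mem_TS R hK sK hzK) (clSub_mem_TS R hC sC hzC)

theorem sub_mem_TS_of_iso (H : AL1.LocHyp R QA QB)
    (hsub : ∀ {M N : A} (f : M ⟶ N) [Mono f], S N → S M)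
    (hquot : ∀ {M N : A} (f : M ⟶ N) [Epi f], S M → S N)
    (hQbiprod : ∀ M N : A, QA M → QA N → QA (M ⊞ N))
    (hSbiprod : ∀ M N : A, S M → S N → S (M ⊞ N))
    {M₁ M₂ : A} (h1 : QA M₁) (h2 : QA M₂) (s1 : S M₁) (s2 : S M₂)
    (e : R.obj M₁ ≅ R.obj M₂) :
    KZero.clSub QA M₁ - KZero.clSub QA M₂ ∈ TS R QA S := by
  obtain ⟨M₃, a, b, h3, ha, hb⟩ := H.L2 M₁ M₂ h1 h2 e
  have h12 : QA (M₁ ⊞ M₂) := hQbiprod _ _ h1 h2
  have hI : QA (Abelian.image (biprod.lift a b)) :=
    H.QA_ker _ h12 (H.QA_coker (biprod.lift a b) h3 h12)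
  have sI : S (Abelian.image (biprod.lift a b)) :=
    hsub (Abelian.image.ι (biprod.lift a b)) (hSbiprod _ _ s1 s2)
  have hp : Abelian.factorThruImage (biprod.lift a b) ≫ Abelian.image.ι (biprod.lift a b) =
      biprod.lift a b := Abelian.image.fac _
  have key : ∀ {N : A} (q : M₁ ⊞ M₂ ⟶ N) (d : M₃ ⟶ N), biprod.lift a b ≫ q = d →
      IsIso (R.map d) → IsIso (R.map (Abelian.image.ι (biprod.lift a b) ≫ q)) := by
    intro N q d hd hiso
    have hfac : Abelian.factorThruImage (biprod.lift a b) ≫
        (Abelian.image.ι (biprod.lift a b) ≫ q) = d := by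
      rw [← Category.assoc, hp, hd]
    haveI : Epi (R.map (Abelian.factorThruImage (biprod.lift a b))) := inferInstance
    haveI : IsIso (R.map (Abelian.factorThruImage (biprod.lift a b)) ≫
        R.map (Abelian.image.ι (biprod.lift a b) ≫ q)) := by
      rw [← R.map_comp, hfac]; exact hiso
    haveI : Mono (R.map (Abelian.factorThruImage (biprod.lift a b))) :=
      mono_of_mono _ (R.map (Abelian.image.ι (biprod.lift a b) ≫ q))
    haveI : IsIso (R.map (Abelian.factorThruImage (biprod.lift a b))) :=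
      isIso_of_mono_of_epi _
    exact IsIso.of_isIso_comp_left (R.map (Abelian.factorThruImage (biprod.lift a b))) _
  haveI ia := key biprod.fst a (biprod.lift_fst a b) ha
  haveI ib := key biprod.snd b (biprod.lift_snd a b) hb
  have ea := sub_mem_TS_of_isIso H hsub hquot
    (Abelian.image.ι (biprod.lift a b) ≫ biprod.fst) hI h1 sI s1
  have eb := sub_mem_TS_of_isIso H hsub hquot
    (Abelian.image.ι (biprod.lift a b) ≫ biprod.snd) hI h2 sI s2
  have : KZero.clSub QA M₁ - KZero.clSub QA M₂ =
      (KZero.clSub QA (Abelian.image (biprod.lift a b)) - KZero.clSub QA M₂) -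
        (KZero.clSub QA (Abelian.image (biprod.lift a b)) - KZero.clSub QA M₁) := by
    abel
  rw [this]
  exact (TS R QA S).sub_mem eb ea

end Groth.Agent.Lib.Helper18.NP1
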