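import Mathlib
import Groth.Prelude.Def_SGA6
import Groth.Agent.Lib.Helper18.NP1
import Groth.Agent.Lib.Helper18.AL2
import Groth.Agent.Lib.Helper28.PerfTensor1
import Groth.Agent.Lib.Helper28.DCohRes28
import Groth.Agent.Lib.Helper29.QCohExt
import Groth.Agent.Lib.Helper29.QCohExact
import Groth.Agent.Lib.Helper29.QCohRestrict

/-! # Modules vanishing on an open subset (helper18) -/

set_option autoImplicit false
universe u

open CategoryTheory CategoryTheory.Limits AlgebraicGeometry TopologicalSpace Opposite Function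
open Groth.Agent.Lib.Helper29.QCoh
open Groth.Agent.Lib.Helper12.H12ModGlue
open Groth.Agent.Lib.Helper12.H12Dev
open Groth.Agent.Lib.Helper18
open Groth.Agent.Lib.Helper28.DCohRes
open Groth.Agent.Lib.Helper28.PerfTensor

namespace Groth.Agent.Lib.Helper18.NP2

variable {W : Scheme.{u}}

/-- `M` vanishes on the open `O`: all its stalks at points of `O` are zero -/
def Van (O : W.Opens) (M : W.Modules) : Prop :=
  ∀ x : W, x ∈ O → Subsingleton (M.presheaf.stalk x)

theorem van_iff (O : W.Opens) (M : W.Modules) : Van O M ↔ IsZero (M.restrict O.ι) := by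
  rw [isZero_iff_stalk_subsingleton]
  constructor
  · intro h v
    have h2 : IsZero (M.presheaf.stalk (O.ι v)) :=
      @AddCommGrpCat.isZero_of_subsingleton _ (h _ v.2)
    exact AddCommGrpCat.subsingleton_of_isZero (h2.of_iso (restrictStalkIso O.ι M v))
  · intro h x hx
    have h2 : IsZero ((M.restrict O.ι).presheaf.stalk ⟨x, hx⟩) :=
      @AddCommGrpCat.isZero_of_subsingleton _ (h ⟨x, hx⟩)
    exact AddCommGrpCat.subsingleton_of_isZero
      (h2.of_iso (restrictStalkIso O.ι M ⟨x, hx⟩).symm)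

theorem van_sub {O : W.Opens} {M N : W.Modules} (f : M ⟶ N) [Mono f] (h : Van O N) :
    Van O M := by
  rw [van_iff] at h ⊢
  haveI : Mono ((Scheme.Modules.restrictFunctor O.ι).map f) := inferInstance
  exact IsZero.of_mono ((Scheme.Modules.restrictFunctor O.ι).map f) h

theorem van_quot {O : W.Opens} {M N : W.Modules} (f : M ⟶ N) [Epi f] (h : Van O M) :
    Van O N := by
  rw [van_iff] at h ⊢
  haveI : Epi ((Scheme.Modules.restrictFunctor O.ι).map f) := inferInstance
  exact IsZero.of_epi ((Scheme.Modules.restrictFunctor O.ι).map f) h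

theorem van_of_iso {O : W.Opens} {M N : W.Modules} (e : M ≅ N) (h : Van O M) : Van O N :=
  van_sub e.inv h

theorem van_of_isZero {O : W.Opens} {M : W.Modules} (h : IsZero M) : Van O M := by
  rw [van_iff]
  exact (Scheme.Modules.restrictFunctor O.ι).map_isZero h

theorem van_biprod {O : W.Opens} (M N : W.Modules) (hM : Van O M) (hN : Van O N) :
    Van O (M ⊞ N) := by
  rw [van_iff] at hM hN ⊢
  rw [IsZero.iff_id_eq_zero]
  have h1 : 𝟙 ((M ⊞ N).restrict O.ι) = (Scheme.Modules.restrictFunctor O.ι).map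
      (biprod.fst ≫ biprod.inl + biprod.snd ≫ biprod.inr) := by
    rw [biprod.total, CategoryTheory.Functor.map_id]
  rw [h1, Functor.map_add, Functor.map_comp, Functor.map_comp,
    hM.eq_of_tgt ((Scheme.Modules.restrictFunctor O.ι).map biprod.fst) 0,
    hN.eq_of_tgt ((Scheme.Modules.restrictFunctor O.ι).map biprod.snd) 0]
  simp

theorem van_tensor {O : W.Opens} (V M : W.Modules) (h : Van O M) :
    Van O (((DCoh.tensorBi (X := W)).obj V).obj M) := by
  rw [van_iff] at h ⊢
  exact IsZero.of_iso (isZero_tensor_right _ h) (restrictTensorIso' O.ι V M)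

theorem van_sup {O U : W.Opens} {M : W.Modules} (h1 : Van O M) (h2 : Van U M) :
    Van (O ⊔ U) M := by
  intro x hx
  rcases hx with hx | hx
  · exact h1 x hx
  · exact h2 x hx

theorem isZero_of_van_top {M : W.Modules} (h : Van ⊤ M) : IsZero M := by
  rw [isZero_iff_stalk_subsingleton]
  exact fun x => h x trivial

theorem isCoh_biprod (A B : W.Modules) (hA : Coh.IsCoh A) (hB : Coh.IsCoh B) :
    Coh.IsCoh (A ⊞ B) := by
  have hS := (ShortComplex.Splitting.ofHasBinaryBiproduct A B).shortExact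
  haveI : (ShortComplex.mk (biprod.inl : A ⟶ A ⊞ B) biprod.snd biprod.inl_snd).X₁.IsQuasicoherent :=
    hA.1
  haveI : (ShortComplex.mk (biprod.inl : A ⟶ A ⊞ B) biprod.snd biprod.inl_snd).X₁.IsFiniteType :=
    hA.2
  haveI : (ShortComplex.mk (biprod.inl : A ⟶ A ⊞ B) biprod.snd biprod.inl_snd).X₃.IsQuasicoherent :=
    hB.1
  haveI : (ShortComplex.mk (biprod.inl : A ⟶ A ⊞ B) biprod.snd biprod.inl_snd).X₃.IsFiniteType :=
    hB.2
  exact ⟨isQuasicoherent_of_shortExact _ hS, isFiniteType_of_shortExact _ hS⟩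

/-- the subgroup of `K₀(Coh W)` generated by the classes of coherent modules vanishing on `O` -/
noncomputable def G (O : W.Opens) : AddSubgroup (SGA6.Kcoh W) :=
  AddSubgroup.closure {c | ∃ M : W.Modules, Coh.IsCoh M ∧ Van O M ∧
    c = KZero.clSub (fun M : W.Modules => Coh.IsCoh M) M}

theorem mem_G_bot (y : SGA6.Kcoh W) : y ∈ G (⊥ : W.Opens) := by
  refine AD2.K0sub_induction (fun M : W.Modules => Coh.IsCoh M) y (G ⊥).zero_mem ?_
    (fun x hx => (G ⊥).neg_mem hx) (fun x y hx hy => (G ⊥).add_mem hx hy)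
  intro M hM
  exact AddSubgroup.subset_closure ⟨M, hM, fun x hx => absurd hx (by simp), rfl⟩

theorem eq_zero_of_mem_G_top [IsLocallyNoetherian W] {y : SGA6.Kcoh W}
    (hy : y ∈ G (⊤ : W.Opens)) : y = 0 := by
  have : G (⊤ : W.Opens) ≤ ⊥ := by
    rw [G, AddSubgroup.closure_le]
    rintro c ⟨M, hM, hv, rfl⟩
    exact AD2.clSub_of_isZero _ (isZero_of_van_top hv) hM
  simpa using this hy

theorem TS_le_G [IsNoetherian W] (O U : W.Opens) :
    NP1.TS (Scheme.Modules.restrictFunctor U.ι) (fun M : W.Modules => Coh.IsCoh M) (Van O) ≤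
      G (O ⊔ U) := by
  rw [NP1.TS, AddSubgroup.closure_le]
  rintro c ⟨M, hM, hv, hz, rfl⟩
  exact AddSubgroup.subset_closure ⟨M, hM, van_sup hv ((van_iff U M).2 hz), rfl⟩

theorem sub_mem_G [IsNoetherian W] (O U : W.Opens) {M₁ M₂ : W.Modules} (h1 : Coh.IsCoh M₁)
    (h2 : Coh.IsCoh M₂) (s1 : Van O M₁) (s2 : Van O M₂)
    (e : M₁.restrict U.ι ≅ M₂.restrict U.ι) :
    KZero.clSub (fun M : W.Modules => Coh.IsCoh M) M₁ -
      KZero.clSub (fun M : W.Modules => Coh.IsCoh M) M₂ ∈ G (O ⊔ U) :=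
  TS_le_G O U (NP1.sub_mem_TS_of_iso (AL2.locHyp_opens U) (fun f _ h => van_sub f h)
    (fun f _ h => van_quot f h) isCoh_biprod van_biprod h1 h2 s1 s2 e)

end Groth.Agent.Lib.Helper18.NP2
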