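import Mathlib
import Groth.Prelude.Def_KZero
import Groth.Agent.Lib.Helper18.AD2

/-! # The class of a finite constant coproduct in `K₀` (helper18) -/

set_option autoImplicit false
universe v u

open CategoryTheory CategoryTheory.Limits

namespace Groth.Agent.Lib.Helper18.NP3

open Groth.Agent.Lib.Helper18

variable {A : Type u} [Category.{v} A] [Abelian A]

theorem isZero_sigma_fin_zero (M : A) : IsZero (∐ fun _ : Fin 0 => M) := by
  rw [IsZero.iff_id_eq_zero]
  apply Sigma.hom_ext
  intro i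
  exact i.elim0

/-- `∐_{Fin (r+1)} M ≅ M ⊞ ∐_{Fin r} M` -/
noncomputable def sigmaSuccIso (M : A) (r : ℕ) :
    (∐ fun _ : Fin (r + 1) => M) ≅ M ⊞ (∐ fun _ : Fin r => M) :=
  (colimit.isColimit (Discrete.functor fun _ : Fin (r + 1) => M)).coconePointUniqueUpToIso
      (extendCofanIsColimit (fun _ : Fin (r + 1) => M)
        (colimit.isColimit (Discrete.functor fun _ : Fin r => M))
        (colimit.isColimit (pair M (∐ fun _ : Fin r => M)))) ≪≫
    (biprod.isoCoprod M (∐ fun _ : Fin r => M)).symm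

theorem sigma_const (Q : ObjectProperty A)
    (hiso : ∀ {M N : A}, (M ≅ N) → Q M → Q N) (hzero : ∀ M : A, IsZero M → Q M)
    (hbiprod : ∀ M N : A, Q M → Q N → Q (M ⊞ N)) (M : A) (hM : Q M) (r : ℕ) :
    Q (∐ fun _ : Fin r => M) ∧
      KZero.clSub Q (∐ fun _ : Fin r => M) = r • KZero.clSub Q M := by
  induction r with
  | zero =>
    have hz := isZero_sigma_fin_zero M
    exact ⟨hzero _ hz, by rw [AD2.clSub_of_isZero Q hz (hzero _ hz), zero_smul]⟩
  | succ r ih =>
    have hQ : Q (M ⊞ ∐ fun _ : Fin r => M) := hbiprod _ _ hM ih.1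
    have hQ' : Q (∐ fun _ : Fin (r + 1) => M) := hiso (sigmaSuccIso M r).symm hQ
    refine ⟨hQ', ?_⟩
    have h1 := AD2.clSub_iso Q (sigmaSuccIso M r) hQ' hQ
      (hzero _ (isZero_cokernel_of_epi (sigmaSuccIso M r).hom))
    have h2 := AD2.clSub_add Q _
      (ShortComplex.Splitting.ofHasBinaryBiproduct M (∐ fun _ : Fin r => M)).shortExact hM hQ ih.1
    simp only at h2
    rw [← h1, h2, ih.2, succ_nsmul, add_comm]

end Groth.Agent.Lib.Helper18.NP3
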