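import Mathlib
import Groth.Agent.Lib.Helper16.PDChange

/-! # Projective dimension of modules over a quotient by a regular sequence (helper18) -/

set_option autoImplicit false
set_option linter.style.haveILetI false
universe u

open CategoryTheory RingTheory.Sequence

namespace Groth.Agent.Lib.Helper18.PB1

section W

variable {R : Type u} [CommRing R]

theorem pdLT_of_linearEquiv {M N : Type u} [AddCommGroup M] [Module R M] [AddCommGroup N]
    [Module R N] (e : M ≃ₗ[R] N) (n : ℕ) (h : HasProjectiveDimensionLT (ModuleCat.of R M) n) :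
    HasProjectiveDimensionLT (ModuleCat.of R N) n :=
  hasProjectiveDimensionLT_of_iso e.toModuleIso n

/-- `pd (M / (rs) M) ≤ pd M + length rs` for a weakly `M`-regular sequence `rs` -/
theorem pdLT_quot_of_isWeaklyRegular (rs : List R) :
    ∀ (M : ModuleCat.{u} R) (n : ℕ), IsWeaklyRegular M rs → HasProjectiveDimensionLT M (n + 1) →
      HasProjectiveDimensionLT
        (ModuleCat.of R (M ⧸ Ideal.ofList rs • (⊤ : Submodule R M))) (n + rs.length + 1) := by
  induction rs with
  | nil =>
    intro M n _ h
    have e : (M ⧸ Ideal.ofList ([] : List R) • (⊤ : Submodule R M)) ≃ₗ[R] M :=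
      Submodule.quotEquivOfEqBot _ (by rw [Ideal.ofList_nil, Submodule.bot_smul])
    have h' : HasProjectiveDimensionLT (ModuleCat.of R M) (n + 1) := h
    exact pdLT_of_linearEquiv e.symm _ h'
  | cons x rs' ih =>
    intro M n reg h
    rw [isWeaklyRegular_cons_iff] at reg
    have hS : (M.smulShortComplex x).ShortExact := reg.1.smulShortComplex_shortExact
    have h2 : HasProjectiveDimensionLT (ModuleCat.of R (QuotSMulTop x M)) (n + 1 + 1) :=
      hS.hasProjectiveDimensionLT_X₃ (n + 1) h
        (hasProjectiveDimensionLT_of_ge M (n + 1) (n + 1 + 1) (by omega))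
    have h3 := ih (ModuleCat.of R (QuotSMulTop x M)) (n + 1) reg.2 h2
    have e := Submodule.quotOfListConsSMulTopEquivQuotSMulTopInner M x rs'
    have h4 := pdLT_of_linearEquiv e.symm _ h3
    have hlen : n + 1 + rs'.length + 1 = n + (x :: rs').length + 1 := by
      simp only [List.length_cons]; omega
    rw [hlen] at h4
    exact h4

/-- `pd_R (R / (rs)) ≤ length rs` for a weakly regular sequence -/
theorem pdLT_quot_ring (rs : List R) (reg : IsWeaklyRegular R rs) :
    HasProjectiveDimensionLT (ModuleCat.of R (R ⧸ Ideal.ofList rs)) (rs.length + 1) := by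
  have h1 : HasProjectiveDimensionLT (ModuleCat.of R R) (0 + 1) := by
    have : Projective (ModuleCat.of R R) :=
      (IsProjective.iff_projective _).1 (inferInstance : Module.Projective R R)
    exact projective_iff_hasProjectiveDimensionLT_one.1 this
  have h2 := pdLT_quot_of_isWeaklyRegular rs (ModuleCat.of R R) 0 reg h1
  have heq : Ideal.ofList rs • (⊤ : Submodule R R) = Ideal.ofList rs := by
    rw [smul_eq_mul, Ideal.mul_top]
  have e : (R ⧸ Ideal.ofList rs • (⊤ : Submodule R R)) ≃ₗ[R] (R ⧸ Ideal.ofList rs) :=
    Submodule.quotEquivOfEq _ _ heq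
  have h3 := pdLT_of_linearEquiv e _ h2
  rwa [zero_add] at h3

end W

section K

variable {A B R S : Type u} [CommRing A] [CommRing B] [CommRing R] [CommRing S]

/-- the kernel of the localisation of a surjection is the extension of the kernel -/
theorem ker_eq_map (φ : A →+* B) (hφ : Function.Surjective φ) [Algebra A R] [Algebra B S]
    (σ : R →+* S) (hcomp : ∀ a : A, σ (algebraMap A R a) = algebraMap B S (φ a))
    (p : Ideal A) [p.IsPrime] [IsLocalization.AtPrime R p]
    (q : Ideal B) [q.IsPrime] [IsLocalization.AtPrime S q] [IsLocalHom σ] :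
    RingHom.ker σ = (RingHom.ker φ).map (algebraMap A R) := by
  apply le_antisymm
  · intro r hr
    obtain ⟨a, s, rfl⟩ := IsLocalization.exists_mk'_eq p.primeCompl r
    rw [IsLocalization.mk'_mem_iff]
    have h1 : σ (algebraMap A R a) = 0 := by
      have := IsLocalization.mk'_spec R a s
      rw [← this, map_mul, RingHom.mem_ker.1 hr, zero_mul]
    rw [hcomp] at h1
    obtain ⟨t, ht⟩ := (IsLocalization.map_eq_zero_iff q.primeCompl S (φ a)).1 h1
    obtain ⟨t', ht'⟩ := hφ t
    have hu : IsUnit (algebraMap A R t') := by
      have h2 : IsUnit (σ (algebraMap A R t')) := by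
        rw [hcomp, ht']
        exact IsLocalization.map_units S t
      exact IsUnit.of_map σ _ h2
    have hmem : algebraMap A R (t' * a) ∈ (RingHom.ker φ).map (algebraMap A R) := by
      apply Ideal.mem_map_of_mem
      rw [RingHom.mem_ker, map_mul, ht']
      exact ht
    rw [map_mul] at hmem
    exact (Ideal.unit_mul_mem_iff_mem _ hu).1 hmem
  · rw [Ideal.map_le_iff_le_comap]
    intro a ha
    rw [Ideal.mem_comap, RingHom.mem_ker, hcomp, RingHom.mem_ker.1 ha, map_zero]

end K

section P

variable {R S : Type u} [CommRing R] [CommRing S] [IsLocalRing S] [IsNoetherianRing S]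

/-- a finite free module over `S = R / (rs)`, transported along a semilinear bijection, has
projective dimension `≤ length rs` over `R` -/
theorem pdLT_of_semilinear (σ : R →+* S) (hσ : Function.Surjective σ) (rs : List R)
    (reg : IsWeaklyRegular R rs) (hker : RingHom.ker σ = Ideal.ofList rs)
    (M N : Type u) [AddCommGroup M] [Module R M] [AddCommGroup N] [Module S N]
    [Module.Free S N] [Module.Finite S N] (φ : M →+ N) (hφ : Function.Bijective φ)
    (hsmul : ∀ (r : R) (m : M), φ (r • m) = σ r • φ m) :
    HasProjectiveDimensionLT (ModuleCat.of R M) (rs.length + 1) := by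
  letI : Algebra R S := σ.toAlgebra
  letI : Module R N := Module.compHom N σ
  haveI : IsScalarTower R S N := IsScalarTower.of_algebraMap_smul (fun r x => rfl)
  -- `S ≅ R / (rs)` as `R`-modules
  have hB : HasProjectiveDimensionLT (ModuleCat.of R S) (rs.length + 1) := by
    have hsurj : Function.Surjective (Algebra.linearMap R S) := hσ
    have e1 := (Algebra.linearMap R S).quotKerEquivOfSurjective hsurj
    have hk : LinearMap.ker (Algebra.linearMap R S) = Ideal.ofList rs := by
      rw [← hker]
      ext r
      rfl
    have e2 : (R ⧸ Ideal.ofList rs) ≃ₗ[R] (R ⧸ LinearMap.ker (Algebra.linearMap R S)) :=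
      Submodule.quotEquivOfEq _ _ hk.symm
    exact pdLT_of_linearEquiv (e2.trans e1) _ (pdLT_quot_ring rs reg)
  have hN1 : HasProjectiveDimensionLT (ModuleCat.of S N) (0 + 1) := by
    have : Projective (ModuleCat.of S N) :=
      (IsProjective.iff_projective _).1 (inferInstance : Module.Projective S N)
    exact projective_iff_hasProjectiveDimensionLT_one.1 this
  have hN := Groth.Agent.Lib.Helper16.PDChange.hasProjectiveDimensionLT_restrictScalars
    (R := R) (B := S) rs.length hB 0 N hN1
  rw [zero_add] at hN
  let ψ₀ : M →ₗ[R] N :=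
    { toFun := φ
      map_add' := map_add φ
      map_smul' := fun r m => hsmul r m }
  let ψ : M ≃ₗ[R] N := LinearEquiv.ofBijective ψ₀ hφ
  exact pdLT_of_linearEquiv ψ.symm _ hN

end P

end Groth.Agent.Lib.Helper18.PB1
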