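import Mathlib
import Groth.Prelude.Def_KRR
import Groth.Prelude.Def_SGA6
import Groth.Agent.Lib.Helper18.RS3

/-! # Finite locally free resolutions and pointwise projective dimension (helper18) -/

set_option autoImplicit false
set_option linter.style.haveILetI false
universe u

open CategoryTheory CategoryTheory.Limits AlgebraicGeometry

namespace Groth.Agent.Lib.Helper18.RS4

open Groth.Agent.Lib.Helper29.QCoh Groth.Agent.Lib.Helper18 Groth.Agent.Lib.Helper18.RS2
  Groth.Agent.Lib.Helper18.RS3

section Abstract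

universe v' u'
variable {A : Type u'} [Category.{v'} A] [Abelian A]

theorem kernel_lift_zero {X Y Z : A} (f : X ⟶ Y) (g : Y ⟶ Z) (w : f ≫ g = 0) :
    kernel.ι f ≫ kernel.lift g f w = 0 := by
  rw [← cancel_mono (kernel.ι g), Category.assoc, kernel.lift_ι, kernel.condition, zero_comp]

theorem shortExact_kernel_lift {X Y Z : A} (f : X ⟶ Y) (g : Y ⟶ Z) (w : f ≫ g = 0)
    (hex : (ShortComplex.mk f g w).Exact) :
    (ShortComplex.mk (kernel.ι f) (kernel.lift g f w) (kernel_lift_zero f g w)).ShortExact := by
  haveI : Epi (kernel.lift g f w) := (ShortComplex.exact_iff_epi_kernel_lift _).1 hex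
  refine ShortComplex.ShortExact.mk (ShortComplex.exact_of_f_is_kernel _ ?_)
  have key : ∀ {W : A} (k : W ⟶ X), k ≫ kernel.lift g f w = 0 → k ≫ f = 0 := by
    intro W k hk
    rw [← kernel.lift_ι g f w, ← Category.assoc, hk, zero_comp]
  refine KernelFork.IsLimit.ofι _ _ (fun {W} k hk => kernel.lift f k (key k hk)) ?_ ?_
  · intro W k hk
    exact kernel.lift_ι _ _ _
  · intro W k hk m hm
    rw [← cancel_mono (kernel.ι f), kernel.lift_ι]
    exact hm

/-- an abstract bound for the "dimension" of the end of a finite exact sequence -/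
theorem G_of_exact (G : ℕ → ObjectProperty A) (hG0 : ∀ M, IsZero M → G 0 M)
    (hGses : ∀ (S : ShortComplex A), S.ShortExact → ∀ j, G j S.X₁ → G 1 S.X₂ → G (j + 1) S.X₃)
    (C : ChainComplex A ℕ) [Epi (C.d 1 0)]
    (hex : ∀ k, (ShortComplex.mk (C.d (k + 2) (k + 1)) (C.d (k + 1) k)
      (C.d_comp_d _ _ _)).Exact)
    (n : ℕ) (hC : ∀ k, G 1 (C.X (k + 1))) (hz : IsZero (C.X (n + 2))) : G (n + 1) (C.X 0) := by
  have key : ∀ j k, j + k = n → G j (kernel (C.d (k + 1) k)) := by
    intro j
    induction j with
    | zero =>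
      intro k hk
      have hk' : k = n := by omega
      subst hk'
      apply hG0
      have hS := shortExact_kernel_lift _ _ _ (hex k)
      haveI : Epi (kernel.lift (C.d (k + 1) k) (C.d (k + 2) (k + 1)) (C.d_comp_d _ _ _)) :=
        hS.epi_g
      exact IsZero.of_epi (kernel.lift (C.d (k + 1) k) (C.d (k + 2) (k + 1)) (C.d_comp_d _ _ _)) hz
    | succ j ih =>
      intro k hk
      have hS := shortExact_kernel_lift _ _ _ (hex k)
      exact hGses _ hS j (ih (k + 1) (by omega)) (hC (k + 1))
  have hS := RS1.shortExact_kernel (C.d 1 0)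
  exact hGses _ hS n (key n 0 (by omega)) (hC 0)

theorem comp_zero_of_pi (L : ChainComplex A ℕ) (M : A) (π : L ⟶ (ChainComplex.single₀ A).obj M) :
    L.d 1 0 ≫ π.f 0 = 0 := by
  rw [← π.comm 1 0, HomologicalComplex.single_obj_d, comp_zero]

theorem quasiIso_iff_exact (L : ChainComplex A ℕ) (M : A)
    (π : L ⟶ (ChainComplex.single₀ A).obj M) :
    QuasiIso π ↔ ((ShortComplex.mk (L.d 1 0) (π.f 0) (comp_zero_of_pi L M π)).Exact ∧
        Epi (π.f 0)) ∧
      ∀ k, (ShortComplex.mk (L.d (k + 2) (k + 1)) (L.d (k + 1) k) (L.d_comp_d _ _ _)).Exact := by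
  rw [quasiIso_iff]
  constructor
  · intro h
    refine ⟨?_, fun k => ?_⟩
    · have h0 := h 0
      rw [ChainComplex.quasiIsoAt₀_iff, ShortComplex.quasiIso_iff_of_zeros'] at h0
      · exact h0
      · exact L.shape _ _ (by simp)
      · rfl
      · rfl
    · have hk := h (k + 1)
      rw [quasiIsoAt_iff_exactAt' π (k + 1) (ChainComplex.exactAt_succ_single_obj _ _)] at hk
      exact (HomologicalComplex.exactAt_iff' _ (k + 2) (k + 1) k
        (by simp only [ChainComplex.prev]; rfl) (by simp)).1 hk
  · rintro ⟨h0, hk⟩ i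
    cases i with
    | zero =>
      rw [ChainComplex.quasiIsoAt₀_iff, ShortComplex.quasiIso_iff_of_zeros']
      · exact h0
      · exact L.shape _ _ (by simp)
      · rfl
      · rfl
    | succ k =>
      rw [quasiIsoAt_iff_exactAt' π (k + 1) (ChainComplex.exactAt_succ_single_obj _ _)]
      exact (HomologicalComplex.exactAt_iff' _ (k + 2) (k + 1) k
        (by simp only [ChainComplex.prev]; rfl) (by simp)).2 (hk k)

end Abstract

variable {X : Scheme.{u}}

/-- T1: a finite locally free resolution of length `n` bounds the projective dimension of stalks -/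
theorem pdLT_of_isLFRes {M : X.Modules} {n : ℕ} {L : ChainComplex X.Modules ℕ}
    {π : L ⟶ (ChainComplex.single₀ X.Modules).obj M} (hres : KRR.IsLFRes M n L π) :
    PdLT M (n + 1) := by
  obtain ⟨⟨h0, hepi⟩, hk⟩ := (quasiIso_iff_exact L M π).1 hres.quasiIso
  let C := ChainComplex.augment L (π.f 0) (comp_zero_of_pi L M π)
  haveI : Epi (C.d 1 0) := hepi
  have hex : ∀ k, (ShortComplex.mk (C.d (k + 2) (k + 1)) (C.d (k + 1) k)
      (C.d_comp_d _ _ _)).Exact := by
    intro k
    cases k with
    | zero => exact h0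
    | succ k => exact hk k
  exact G_of_exact (fun j (M : X.Modules) => PdLT M j) (fun M hM => pdLT_of_isZero hM 0)
    (fun S hS j h1 h2 => pdLT_X₃ S hS j h1 (h2.of_ge (by omega))) C hex n
    (fun k => pdLT_one_of_isFinLocFree (hres.finLocFree k)) (hres.isZero (n + 1) (by omega))

theorem isFinLocFree_of_isZero [IsLocallyNoetherian X] {M : X.Modules} (hM : IsZero M) :
    FlatMod.IsFinLocFree M :=
  isFinLocFree_of_pdLT_one (Groth.Agent.Lib.Helper12.H12Dev.isCoh_of_isZero M hM)
    (pdLT_of_isZero hM 1)

/-- T2: bounded pointwise projective dimension gives a finite locally free resolution -/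
theorem exists_isLFRes_of_Hn [IsLocallyNoetherian X] (hX : KRR.HasEnoughLocFree X)
    (h : ∀ M : X.Modules, FlatMod.IsFinLocFree M → Coh.IsCoh M) (n : ℕ) :
    ∀ {M : X.Modules}, Hn X n M → ∃ (L : ChainComplex X.Modules ℕ)
      (π : L ⟶ (ChainComplex.single₀ X.Modules).obj M), KRR.IsLFRes M n L π := by
  induction n with
  | zero =>
    intro M hM
    have hLF : FlatMod.IsFinLocFree M := isFinLocFree_of_pdLT_one hM.1 hM.2
    refine ⟨(ChainComplex.single₀ X.Modules).obj M, 𝟙 _, ?_, ?_, inferInstance⟩
    · intro i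
      cases i with
      | zero => exact hLF
      | succ i =>
        exact isFinLocFree_of_isZero (HomologicalComplex.isZero_single_obj_X _ _ _ _ (by simp))
    · intro i hi
      exact HomologicalComplex.isZero_single_obj_X _ _ _ _ (by omega)
  | succ n ih =>
    intro M hM
    obtain ⟨E, p, hE, hp⟩ := hX M hM.1
    have hEn : Hn X n E := ⟨h E hE, (pdLT_one_of_isFinLocFree hE).of_ge (by omega)⟩
    have hK : Hn X n (kernel p) := (resHyp hX h n).ker _ (RS1.shortExact_kernel p) hEn hM
    obtain ⟨L', π', hres'⟩ := ih hK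
    obtain ⟨⟨h0', hepi'⟩, hk'⟩ := (quasiIso_iff_exact L' (kernel p) π').1 hres'.quasiIso
    let q : L'.X 0 ⟶ kernel p := π'.f 0
    haveI : Epi q := hepi'
    have hq : L'.d 1 0 ≫ q = 0 := comp_zero_of_pi L' (kernel p) π'
    let f : L'.X 0 ⟶ E := q ≫ kernel.ι p
    have w₀ : L'.d 1 0 ≫ f = 0 := by
      change L'.d 1 0 ≫ q ≫ kernel.ι p = 0
      rw [← Category.assoc, hq, zero_comp]
    let L := ChainComplex.augment L' f w₀
    have hw : L.d 1 0 ≫ p = 0 := by
      change (q ≫ kernel.ι p) ≫ p = 0
      rw [Category.assoc, kernel.condition, comp_zero]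
    let π : L ⟶ (ChainComplex.single₀ X.Modules).obj M :=
      (ChainComplex.toSingle₀Equiv L M).symm ⟨p, hw⟩
    have hπ0 : π.f 0 = p := ChainComplex.toSingle₀Equiv_symm_apply_f_zero (C := L) (X := M) p hw
    refine ⟨L, π, ?_, ?_, ?_⟩
    · intro i
      cases i with
      | zero => exact hE
      | succ i => exact hres'.finLocFree i
    · intro i hi
      cases i with
      | zero => omega
      | succ i => exact hres'.isZero i (by omega)
    · rw [quasiIso_iff_exact]
      refine ⟨⟨?_, ?_⟩, fun k => ?_⟩
      · -- exactness at `E`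
        let α : ShortComplex.mk (L.d 1 0) (π.f 0) (comp_zero_of_pi L M π) ⟶
            ShortComplex.mk (kernel.ι p) p (kernel.condition p) :=
          { τ₁ := q
            τ₂ := 𝟙 _
            τ₃ := 𝟙 _
            comm₁₂ := by
              change q ≫ kernel.ι p = (q ≫ kernel.ι p) ≫ 𝟙 _
              rw [Category.comp_id]
            comm₂₃ := by
              change 𝟙 _ ≫ p = π.f 0 ≫ 𝟙 _
              rw [Category.id_comp, Category.comp_id, hπ0] }
        haveI : Epi α.τ₁ := hepi'
        haveI : IsIso α.τ₂ := by change IsIso (𝟙 _); infer_instance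
        haveI : Mono α.τ₃ := by change Mono (𝟙 _); infer_instance
        rw [ShortComplex.exact_iff_of_epi_of_isIso_of_mono α]
        exact ShortComplex.exact_kernel p
      · rw [hπ0]; exact hp
      · cases k with
        | zero =>
          let α : ShortComplex.mk (L'.d 1 0) q hq ⟶
              ShortComplex.mk (L.d 2 1) (L.d 1 0) (L.d_comp_d _ _ _) :=
            { τ₁ := 𝟙 _
              τ₂ := 𝟙 _
              τ₃ := kernel.ι p
              comm₁₂ := by
                change 𝟙 _ ≫ L'.d 1 0 = L'.d 1 0 ≫ 𝟙 _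
                rw [Category.id_comp, Category.comp_id]
              comm₂₃ := by
                change 𝟙 _ ≫ (q ≫ kernel.ι p) = q ≫ kernel.ι p
                rw [Category.id_comp] }
          haveI : Epi α.τ₁ := by change Epi (𝟙 _); infer_instance
          haveI : IsIso α.τ₂ := by change IsIso (𝟙 _); infer_instance
          haveI : Mono α.τ₃ := by change Mono (kernel.ι p); infer_instance
          rw [← ShortComplex.exact_iff_of_epi_of_isIso_of_mono α]
          exact h0'
        | succ k => exact hk' k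

end Groth.Agent.Lib.Helper18.RS4
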