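import Mathlib
import Groth.Prelude.Def_Mor2
import Groth.Prelude.Def_KRR
import Groth.Agent.Lib.Helper18.PB1
import Groth.Agent.Lib.Helper18.RS4
import Groth.Agent.Lib.Helper18.AL4
import Groth.Agent.Lib.Lead.SD.LowVanish

/-! # Finite locally free resolutions of `f_* F` for a regular closed immersion (helper18) -/

set_option autoImplicit false
set_option linter.style.haveILetI false
universe u

open CategoryTheory CategoryTheory.Limits AlgebraicGeometry RingTheory.Sequence

namespace Groth.Agent.Lib.Helper18.PB2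

open Groth.Agent.Lib.Helper29.QCoh Groth.Agent.Lib.Helper18 Groth.Agent.Lib.Helper18.RS2
  Groth.Agent.Lib.Helper18.RS3 Groth.Agent.Lib.Helper18.RS4 Groth.Agent.Lib.Helper18.PushStalk

variable {X Y : Scheme.{u}} (f : X ⟶ Y)

/-- the stalk of `f_* F` at a point `f x` where the ideal of `f` is generated by a regular
sequence of length `c` has projective dimension `≤ c` -/
theorem pdLT_stalk_push [IsClosedImmersion f] [IsLocallyNoetherian Y] (F : X.Modules)
    (hF : FlatMod.IsFinLocFree F) (x : X) (U : Y.Opens) (hU : IsAffineOpen U) (hx : f x ∈ U)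
    (rs : List Γ(Y, U)) (reg : IsRegular Γ(Y, U) rs)
    (hker : f.ker.ideal ⟨U, hU⟩ = Ideal.ofList rs) :
    HasProjectiveDimensionLT (St ((Scheme.Modules.pushforward f).obj F) (f x))
      (rs.length + 1) := by
  haveI : IsLocallyNoetherian X := LocallyOfFiniteType.isLocallyNoetherian f
  letI algY : Algebra Γ(Y, U) (Y.presheaf.stalk (f x)) :=
    TopCat.Presheaf.algebra_section_stalk Y.presheaf ⟨f x, hx⟩
  haveI locY := hU.isLocalization_stalk ⟨f x, hx⟩
  have hU' : IsAffineOpen (f ⁻¹ᵁ U) := hU.preimage f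
  have hx' : x ∈ f ⁻¹ᵁ U := hx
  letI algX : Algebra Γ(X, f ⁻¹ᵁ U) (X.presheaf.stalk x) :=
    TopCat.Presheaf.algebra_section_stalk X.presheaf ⟨x, hx'⟩
  haveI locX := hU'.isLocalization_stalk ⟨x, hx'⟩
  let σ : Y.presheaf.stalk (f x) →+* X.presheaf.stalk x := (f.stalkMap x).hom
  have hσ : Function.Surjective σ := f.stalkMap_surjective x
  have hφ : Function.Surjective (f.app U).hom := f.app_surjective U hU
  have hcomp : ∀ a : Γ(Y, U), σ (algebraMap Γ(Y, U) (Y.presheaf.stalk (f x)) a) =
      algebraMap Γ(X, f ⁻¹ᵁ U) (X.presheaf.stalk x) ((f.app U).hom a) :=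
    fun a => f.germ_stalkMap_apply U x hx a
  haveI : IsLocalHom σ := inferInstanceAs (IsLocalHom (f.stalkMap x).hom)
  have hk := PB1.ker_eq_map (f.app U).hom hφ σ hcomp (hU.primeIdealOf ⟨f x, hx⟩).asIdeal
    (hU'.primeIdealOf ⟨x, hx'⟩).asIdeal
  have hk2 : RingHom.ker σ =
      Ideal.ofList (rs.map (algebraMap Γ(Y, U) (Y.presheaf.stalk (f x)))) := by
    rw [hk, ← Ideal.map_ofList, ← hker, Scheme.Hom.ker_apply]
  have reg' : IsWeaklyRegular (Y.presheaf.stalk (f x))
      (rs.map (algebraMap Γ(Y, U) (Y.presheaf.stalk (f x)))) :=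
    reg.1.of_isLocalization _ (hU.primeIdealOf ⟨f x, hx⟩).asIdeal.primeCompl
  haveI : Module.Free (X.presheaf.stalk x) (F.presheaf.stalk x) :=
    free_stalk_of_isFinLocFree hF x
  haveI : Module.Finite (X.presheaf.stalk x) (F.presheaf.stalk x) :=
    Groth.Agent.Lib.Helper9.RefStalk.finite_stalk_of_isCoh F
      (Groth.Agent.Lib.Lead.SD.isCoh_of_isFinLocFree hF) x
  have h := PB1.pdLT_of_semilinear σ hσ _ reg' hk2
    (((Scheme.Modules.pushforward f).obj F).presheaf.stalk (f x)) (F.presheaf.stalk x)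
    (pushStalkMap f F x) (pushStalkMap_bijective f F f.isEmbedding.isInducing x)
    (pushStalkMap_smul f F x)
  rw [List.length_map] at h
  exact h

/-- `f_* F` has bounded pointwise projective dimension -/
theorem exists_pdLT_push [IsNoetherian Y] (hf : Mor2.IsRegularClosedImmersion f)
    (hYe : KRR.HasEnoughLocFree Y) (F : X.Modules) (hF : FlatMod.IsFinLocFree F) :
    ∃ n : ℕ, PdLT ((Scheme.Modules.pushforward f).obj F) (n + 1) := by
  haveI : IsClosedImmersion f := hf.1
  have hcoh : ∀ M : Y.Modules, FlatMod.IsFinLocFree M → Coh.IsCoh M :=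
    fun M hM => Groth.Agent.Lib.Lead.SD.isCoh_of_isFinLocFree hM
  have hM : Coh.IsCoh ((Scheme.Modules.pushforward f).obj F) :=
    AL4.isCoh_pushforward f F (Groth.Agent.Lib.Lead.SD.isCoh_of_isFinLocFree hF)
  set M := (Scheme.Modules.pushforward f).obj F with hMdef
  let V : ℕ → Set Y := fun n => {y : Y | HasProjectiveDimensionLT (St M y) (n + 1)}
  have hVo : ∀ n, IsOpen (V n) := fun n => isOpen_pdLT hYe hcoh n hM
  have hmono : Monotone V := by
    intro n m hnm y hy
    haveI : HasProjectiveDimensionLT (St M y) (n + 1) := hy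
    exact hasProjectiveDimensionLT_of_ge _ (n + 1) (m + 1) (by omega)
  have hcov : (Set.univ : Set Y) ⊆ ⋃ n, V n := by
    intro y _
    by_cases hy : y ∈ Set.range f.base
    · obtain ⟨x, rfl⟩ := hy
      obtain ⟨U, hU, hxU, rs, reg, hker⟩ := hf.2 x
      exact Set.mem_iUnion.2 ⟨rs.length, pdLT_stalk_push f F hF x U hU hxU rs reg hker⟩
    · haveI := subsingleton_stalk_of_notMem_range f F f.isClosedEmbedding.isClosed_range y hy
      refine Set.mem_iUnion.2 ⟨0, ?_⟩
      have hz : IsZero (St M y) := ModuleCat.isZero_of_subsingleton _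
      have := hz.hasProjectiveDimensionLT_zero
      exact hasProjectiveDimensionLT_of_ge _ 0 (0 + 1) (by omega)
  obtain ⟨n, hn⟩ := isCompact_univ.elim_directed_cover V hVo hcov hmono.directed_le
  exact ⟨n, fun y => hn (Set.mem_univ y)⟩

/-- `f_* F` is coherent and has a finite resolution by finite locally free modules -/
theorem hasLFRes_push [IsNoetherian Y] (hf : Mor2.IsRegularClosedImmersion f)
    (hYe : KRR.HasEnoughLocFree Y) (F : X.Modules) (hF : FlatMod.IsFinLocFree F) :
    Coh.IsCoh ((Scheme.Modules.pushforward f).obj F) ∧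
      KRR.HasLFRes ((Scheme.Modules.pushforward f).obj F) := by
  haveI : IsClosedImmersion f := hf.1
  have hcoh : ∀ M : Y.Modules, FlatMod.IsFinLocFree M → Coh.IsCoh M :=
    fun M hM => Groth.Agent.Lib.Lead.SD.isCoh_of_isFinLocFree hM
  have hM : Coh.IsCoh ((Scheme.Modules.pushforward f).obj F) :=
    AL4.isCoh_pushforward f F (Groth.Agent.Lib.Lead.SD.isCoh_of_isFinLocFree hF)
  obtain ⟨n, hn⟩ := exists_pdLT_push f hf hYe F hF
  obtain ⟨L, π, hres⟩ := exists_isLFRes_of_Hn hYe hcoh n (M := _) ⟨hM, hn⟩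
  exact ⟨hM, n, L, π, hres⟩

end Groth.Agent.Lib.Helper18.PB2
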