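import Mathlib
import Groth.Prelude.Def_KRR
import Groth.Prelude.Def_SGA6
import Groth.Agent.Lib.Helper18.RS4

/-! # The resolution theorem `K₀(Vect X) ≅ K₀(Coh X with finite l.f. resolutions)` (helper18) -/

set_option autoImplicit false
set_option linter.style.haveILetI false
universe u

open CategoryTheory CategoryTheory.Limits AlgebraicGeometry

namespace Groth.Agent.Lib.Helper18.RS5

open Groth.Agent.Lib.Helper18 Groth.Agent.Lib.Helper18.RS2 Groth.Agent.Lib.Helper18.RS3
  Groth.Agent.Lib.Helper18.RS4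

variable {X : Scheme.{u}}

/-- **S3745** -/
theorem bijective_lfres [IsNoetherian X] (hX : KRR.HasEnoughLocFree X)
    (h : ∀ M : X.Modules, FlatMod.IsFinLocFree M → Coh.IsCoh M ∧ KRR.HasLFRes M) :
    Function.Bijective (SGA6.mapSub (𝟭 X.Modules) (KRR.vbP X)
      (fun M : X.Modules => Coh.IsCoh M ∧ KRR.HasLFRes M) h) := by
  have h' : ∀ M : X.Modules, FlatMod.IsFinLocFree M → Coh.IsCoh M := fun M hM => (h M hM).1
  have hQ : ∀ M : X.Modules, (Coh.IsCoh M ∧ KRR.HasLFRes M) ↔ ∃ n, Hn X n M := by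
    intro M
    constructor
    · rintro ⟨hM, n, L, π, hres⟩
      exact ⟨n, hM, pdLT_of_isLFRes hres⟩
    · rintro ⟨n, hM⟩
      obtain ⟨L, π, hres⟩ := exists_isLFRes_of_Hn hX h' n hM
      exact ⟨hM.1, n, L, π, hres⟩
  have hb := RS1.bijective_incl_chain (Hn X) (resHyp hX h')
    (fun M : X.Modules => Coh.IsCoh M ∧ KRR.HasLFRes M) hQ
  exact bijective_mapSub_of_incl (Hn_zero_eq h') h _ hb

end Groth.Agent.Lib.Helper18.RS5
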