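import Mathlib
import Groth.Prelude.Def_KRR
import Groth.Prelude.Def_SGA6
import Groth.Agent.Lib.Helper18.PB2
import Groth.Agent.Lib.Helper18.RS5
import Groth.Agent.Lib.Helper18.AD3

/-! # The push-forward `f_K` on `K` of vector bundles along a regular closed immersion (helper18) -/

set_option autoImplicit false
set_option linter.style.haveILetI false
universe v u

open CategoryTheory CategoryTheory.Limits AlgebraicGeometry

namespace Groth.Agent.Lib.Helper18.PB3

open Groth.Agent.Lib.Helper29.QCoh Groth.Agent.Lib.Helper18 Groth.Agent.Lib.Helper18.RS2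
  Groth.Agent.Lib.Helper18.RS3 Groth.Agent.Lib.Helper18.RS4

section Abstract

universe v' u'
variable {A : Type u'} [Category.{v'} A] [Abelian A]

/-- the Euler characteristic of a finite exact sequence vanishes in `K₀` -/
theorem euler_of_exact (Q : ObjectProperty A) (hQ0 : ∀ M, IsZero M → Q M)
    (hQker : ∀ (S : ShortComplex A), S.ShortExact → Q S.X₂ → Q S.X₃ → Q S.X₁)
    (C : ChainComplex A ℕ) [Epi (C.d 1 0)]
    (hex : ∀ k, (ShortComplex.mk (C.d (k + 2) (k + 1)) (C.d (k + 1) k)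
      (C.d_comp_d _ _ _)).Exact)
    (n : ℕ) (hC : ∀ k, Q (C.X k)) (hz : IsZero (C.X (n + 2))) :
    KZero.clSub Q (C.X 0) =
      ∑ k ∈ Finset.range (n + 1), (-1 : ℤ) ^ k • KZero.clSub Q (C.X (k + 1)) := by
  have hS0 := RS1.shortExact_kernel (C.d 1 0)
  have hSk : ∀ k, (ShortComplex.mk (kernel.ι (C.d (k + 2) (k + 1)))
      (kernel.lift (C.d (k + 1) k) (C.d (k + 2) (k + 1)) (C.d_comp_d _ _ _))
      (kernel_lift_zero _ _ _)).ShortExact := fun k => shortExact_kernel_lift _ _ _ (hex k)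
  have hZ : ∀ k, Q (kernel (C.d (k + 1) k)) := by
    intro k
    induction k with
    | zero => exact hQker _ hS0 (hC 1) (hC 0)
    | succ k ih => exact hQker _ (hSk k) (hC (k + 2)) ih
  have e0 : KZero.clSub Q (C.X 1) =
      KZero.clSub Q (kernel (C.d 1 0)) + KZero.clSub Q (C.X 0) :=
    AD2.clSub_add Q _ hS0 (hZ 0) (hC 1) (hC 0)
  have ek : ∀ k, KZero.clSub Q (C.X (k + 2)) =
      KZero.clSub Q (kernel (C.d (k + 2) (k + 1))) + KZero.clSub Q (kernel (C.d (k + 1) k)) :=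
    fun k => AD2.clSub_add Q _ (hSk k) (hZ (k + 1)) (hC (k + 2)) (hZ k)
  have key : ∀ j, KZero.clSub Q (C.X 0) =
      ∑ k ∈ Finset.range (j + 1), (-1 : ℤ) ^ k • KZero.clSub Q (C.X (k + 1)) +
        (-1 : ℤ) ^ (j + 1) • KZero.clSub Q (kernel (C.d (j + 1) j)) := by
    intro j
    induction j with
    | zero =>
      rw [Finset.sum_range_one, e0]
      simp
    | succ j ih =>
      rw [Finset.sum_range_succ, ek j, ih]
      rw [smul_add, pow_succ (-1 : ℤ) (j + 1)]
      simp only [mul_neg, mul_one, neg_smul]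
      abel
  have hzn : IsZero (kernel (C.d (n + 1) n)) := by
    haveI : Epi (kernel.lift (C.d (n + 1) n) (C.d (n + 2) (n + 1)) (C.d_comp_d _ _ _)) :=
      (hSk n).epi_g
    exact IsZero.of_epi
      (kernel.lift (C.d (n + 1) n) (C.d (n + 2) (n + 1)) (C.d_comp_d _ _ _)) hz
  rw [key n, AD2.clSub_of_isZero Q hzn (hZ n), smul_zero, add_zero]

end Abstract

variable {X Y : Scheme.{u}}

/-- coherent modules admitting a finite locally free resolution -/
abbrev QP (Y : Scheme.{u}) : ObjectProperty Y.Modules :=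
  fun M : Y.Modules => Coh.IsCoh M ∧ KRR.HasLFRes M

theorem isCoh_of_lf (M : Y.Modules) (hM : FlatMod.IsFinLocFree M) : Coh.IsCoh M :=
  Groth.Agent.Lib.Lead.SD.isCoh_of_isFinLocFree hM

theorem QP_iff [IsNoetherian Y] (hYe : KRR.HasEnoughLocFree Y) (M : Y.Modules) :
    QP Y M ↔ ∃ n, Hn Y n M := by
  constructor
  · rintro ⟨hM, n, L, π, hres⟩
    exact ⟨n, hM, pdLT_of_isLFRes hres⟩
  · rintro ⟨n, hM⟩
    obtain ⟨L, π, hres⟩ := exists_isLFRes_of_Hn hYe isCoh_of_lf n hM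
    exact ⟨hM.1, n, L, π, hres⟩

theorem QP_of_lf [IsNoetherian Y] (hYe : KRR.HasEnoughLocFree Y) (M : Y.Modules)
    (hM : FlatMod.IsFinLocFree M) : QP Y M :=
  (QP_iff hYe M).2 ⟨0, isCoh_of_lf M hM, pdLT_one_of_isFinLocFree hM⟩

theorem QP_of_isZero [IsNoetherian Y] (hYe : KRR.HasEnoughLocFree Y) (M : Y.Modules)
    (hM : IsZero M) : QP Y M :=
  (QP_iff hYe M).2 ⟨0, (resHyp hYe isCoh_of_lf 0).P_zero M hM⟩

theorem QP_ker [IsNoetherian Y] (hYe : KRR.HasEnoughLocFree Y) (S : ShortComplex Y.Modules)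
    (hS : S.ShortExact) (h₂ : QP Y S.X₂) (h₃ : QP Y S.X₃) : QP Y S.X₁ := by
  obtain ⟨n₂, c₂, p₂⟩ := (QP_iff hYe _).1 h₂
  obtain ⟨n₃, c₃, p₃⟩ := (QP_iff hYe _).1 h₃
  refine (QP_iff hYe _).2 ⟨max n₂ n₃, ?_⟩
  exact (resHyp hYe isCoh_of_lf (max n₂ n₃)).ker S hS ⟨c₂, p₂.of_ge (by omega)⟩
    ⟨c₃, p₃.of_ge (by omega)⟩

/-- the class of a module is the alternating sum of the classes of the terms of a finite
locally free resolution -/
theorem clSub_eq_sum [IsNoetherian Y] (hYe : KRR.HasEnoughLocFree Y) {M : Y.Modules} {n : ℕ}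
    {L : ChainComplex Y.Modules ℕ} {π : L ⟶ (ChainComplex.single₀ Y.Modules).obj M}
    (hcohM : Coh.IsCoh M) (hres : KRR.IsLFRes M n L π) :
    KZero.clSub (QP Y) M =
      ∑ k ∈ Finset.range (n + 1), (-1 : ℤ) ^ k • KZero.clSub (QP Y) (L.X k) := by
  obtain ⟨⟨h0, hepi⟩, hk⟩ := (quasiIso_iff_exact L M π).1 hres.quasiIso
  let C := ChainComplex.augment L (π.f 0) (comp_zero_of_pi L M π)
  haveI : Epi (C.d 1 0) := hepi
  have hex : ∀ k, (ShortComplex.mk (C.d (k + 2) (k + 1)) (C.d (k + 1) k)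
      (C.d_comp_d _ _ _)).Exact := by
    intro k
    cases k with
    | zero => exact h0
    | succ k => exact hk k
  have hM : QP Y M := ⟨hcohM, n, L, π, hres⟩
  have hC : ∀ k, QP Y (C.X k) := by
    intro k
    cases k with
    | zero => exact hM
    | succ k => exact QP_of_lf hYe _ (hres.finLocFree k)
  exact euler_of_exact (QP Y) (QP_of_isZero hYe) (QP_ker hYe) C hex n hC
    (hres.isZero (n + 1) (by omega))

end Groth.Agent.Lib.Helper18.PB3
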