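import Mathlib
import Groth.Prelude.Def_KRR
import Groth.Prelude.Def_SGA6
import Groth.Agent.Lib.Helper18.PB3

/-! # Existence and uniqueness of `f_K` for a regular closed immersion (helper18) -/

set_option autoImplicit false
set_option linter.style.haveILetI false
universe v w u

open CategoryTheory CategoryTheory.Limits AlgebraicGeometry

namespace Groth.Agent.Lib.Helper18.PB4

open Groth.Agent.Lib.Helper29.QCoh Groth.Agent.Lib.Helper18 Groth.Agent.Lib.Helper18.RS2
  Groth.Agent.Lib.Helper18.RS3 Groth.Agent.Lib.Helper18.RS4 Groth.Agent.Lib.Helper18.PB3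

variable {X Y : Scheme.{u}}

/-- the comparison `K(Y) → K₀(QP Y)` -/
noncomputable def psi [IsNoetherian Y] (hYe : KRR.HasEnoughLocFree Y) :
    SGA6.Kvb Y →+ KZero.K0sub (QP Y) :=
  SGA6.mapSub (𝟭 Y.Modules) (KRR.vbP Y) (QP Y) (fun M hM => QP_of_lf hYe M hM)

theorem psi_bijective [IsNoetherian Y] (hYe : KRR.HasEnoughLocFree Y) :
    Function.Bijective (psi hYe) :=
  RS5.bijective_lfres hYe (fun M hM => QP_of_lf hYe M hM)

theorem psi_cl [IsNoetherian Y] (hYe : KRR.HasEnoughLocFree Y) (M : Y.Modules)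
    (hM : FlatMod.IsFinLocFree M) :
    psi hYe (KRR.cl Y M) = KZero.clSub (QP Y) M :=
  AD3.mapSub_clSub (𝟭 Y.Modules) (KRR.vbP Y) (QP Y) (fun M hM => QP_of_lf hYe M hM) hM

/-- the push-forward `K(X) → K₀(QP Y)` -/
noncomputable def gam (f : X ⟶ Y) [IsClosedImmersion f] [IsNoetherian Y]
    (hf : Mor2.IsRegularClosedImmersion f) (hYe : KRR.HasEnoughLocFree Y) :
    SGA6.Kvb X →+ KZero.K0sub (QP Y) :=
  SGA6.mapSub (Scheme.Modules.pushforward f) (KRR.vbP X) (QP Y)
    (fun F hF => PB2.hasLFRes_push f hf hYe F hF)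

theorem gam_cl (f : X ⟶ Y) [IsClosedImmersion f] [IsNoetherian Y]
    (hf : Mor2.IsRegularClosedImmersion f) (hYe : KRR.HasEnoughLocFree Y) (F : X.Modules)
    (hF : FlatMod.IsFinLocFree F) :
    gam f hf hYe (KRR.cl X F) = KZero.clSub (QP Y) ((Scheme.Modules.pushforward f).obj F) :=
  AD3.mapSub_clSub (Scheme.Modules.pushforward f) (KRR.vbP X) (QP Y)
    (fun F hF => PB2.hasLFRes_push f hf hYe F hF) hF

theorem existsUnique_isPushCl (f : X ⟶ Y) (hf : Mor2.IsRegularClosedImmersion f)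
    [IsNoetherian Y] (hYe : KRR.HasEnoughLocFree Y)
    {KX : Type v} {KY : Type w} [CommRing KX] [CommRing KY]
    (φX : SGA6.Kvb X →+ KX) (hφX : Function.Bijective φX)
    (φY : SGA6.Kvb Y →+ KY) :
    ∃! h : KX →+ KY, KRR.IsPushCl f φX φY h := by
  haveI : IsClosedImmersion f := hf.1
  let eX : SGA6.Kvb X ≃+ KX := AddEquiv.ofBijective φX hφX
  let eψ : SGA6.Kvb Y ≃+ KZero.K0sub (QP Y) := AddEquiv.ofBijective (psi hYe) (psi_bijective hYe)
  let h : KX →+ KY :=
    φY.comp (eψ.symm.toAddMonoidHom.comp ((gam f hf hYe).comp eX.symm.toAddMonoidHom))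
  have hh : KRR.IsPushCl f φX φY h := by
    intro F hF n L π hres
    have h1 : eX.symm (φX (KRR.cl X F)) = KRR.cl X F := eX.symm_apply_apply _
    have hcoh := (PB2.hasLFRes_push f hf hYe F hF).1
    have h2 : KZero.clSub (QP Y) ((Scheme.Modules.pushforward f).obj F) =
        psi hYe (∑ k ∈ Finset.range (n + 1), (-1 : ℤ) ^ k • KRR.cl Y (L.X k)) := by
      rw [clSub_eq_sum hYe hcoh hres, map_sum]
      refine Finset.sum_congr rfl fun k _ => ?_
      rw [map_zsmul, psi_cl hYe _ (hres.finLocFree k)]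
    change φY (eψ.symm (gam f hf hYe (eX.symm (φX (KRR.cl X F))))) = _
    rw [h1, gam_cl f hf hYe F hF, h2]
    have h3 : eψ.symm (psi hYe (∑ k ∈ Finset.range (n + 1), (-1 : ℤ) ^ k • KRR.cl Y (L.X k))) =
        ∑ k ∈ Finset.range (n + 1), (-1 : ℤ) ^ k • KRR.cl Y (L.X k) := eψ.symm_apply_apply _
    rw [h3, map_sum]
    refine Finset.sum_congr rfl fun k _ => ?_
    rw [map_zsmul]
  refine ⟨h, hh, fun h' hh' => ?_⟩
  ext a
  obtain ⟨b, rfl⟩ := hφX.2 a
  induction b using AD2.K0sub_induction with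
  | h0 => rw [map_zero, map_zero, map_zero]
  | hcl F hF =>
    obtain ⟨_, n, L, π, hres⟩ := PB2.hasLFRes_push f hf hYe F hF
    exact (hh' F hF n L π hres).trans (hh F hF n L π hres).symm
  | hneg x hx => rw [map_neg, map_neg, map_neg, hx]
  | hadd x y hx hy => rw [map_add, map_add, map_add, hx, hy]

end Groth.Agent.Lib.Helper18.PB4
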