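import Mathlib
import Groth.Agent.Lib.Helper18.PB4

/-! # Push-forward along a regular closed immersion preserves finite locally free
resolvability (helper18) -/

set_option autoImplicit false
set_option linter.style.haveILetI false
universe u

open CategoryTheory CategoryTheory.Limits AlgebraicGeometry RingTheory.Sequence

namespace Groth.Agent.Lib.Helper18.PB5

open Groth.Agent.Lib.Helper29.QCoh Groth.Agent.Lib.Helper18 Groth.Agent.Lib.Helper18.RS2
  Groth.Agent.Lib.Helper18.RS3 Groth.Agent.Lib.Helper18.RS4 Groth.Agent.Lib.Helper18.PushStalk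
  Groth.Agent.Lib.Helper18.PB3

section P

variable {R S : Type u} [CommRing R] [CommRing S] [IsLocalRing S] [IsNoetherianRing S]

theorem pdLT_of_semilinear' (σ : R →+* S) (hσ : Function.Surjective σ) (rs : List R)
    (reg : IsWeaklyRegular R rs) (hker : RingHom.ker σ = Ideal.ofList rs)
    (M N : Type u) [AddCommGroup M] [Module R M] [AddCommGroup N] [Module S N]
    [Module.Finite S N] (n : ℕ) (hN0 : HasProjectiveDimensionLT (ModuleCat.of S N) (n + 1))
    (φ : M →+ N) (hφ : Function.Bijective φ)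
    (hsmul : ∀ (r : R) (m : M), φ (r • m) = σ r • φ m) :
    HasProjectiveDimensionLT (ModuleCat.of R M) (n + rs.length + 1) := by
  letI : Algebra R S := σ.toAlgebra
  letI : Module R N := Module.compHom N σ
  haveI : IsScalarTower R S N := IsScalarTower.of_algebraMap_smul (fun r x => rfl)
  have hB : HasProjectiveDimensionLT (ModuleCat.of R S) (rs.length + 1) := by
    have hsurj : Function.Surjective (Algebra.linearMap R S) := hσ
    have e1 := (Algebra.linearMap R S).quotKerEquivOfSurjective hsurj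
    have hk : LinearMap.ker (Algebra.linearMap R S) = Ideal.ofList rs := by
      rw [← hker]
      ext r
      rfl
    have e2 : (R ⧸ Ideal.ofList rs) ≃ₗ[R] (R ⧸ LinearMap.ker (Algebra.linearMap R S)) :=
      Submodule.quotEquivOfEq _ _ hk.symm
    exact PB1.pdLT_of_linearEquiv (e2.trans e1) _ (PB1.pdLT_quot_ring rs reg)
  have hN := Groth.Agent.Lib.Helper16.PDChange.hasProjectiveDimensionLT_restrictScalars
    (R := R) (B := S) rs.length hB n N hN0
  let ψ₀ : M →ₗ[R] N :=
    { toFun := φ
      map_add' := map_add φ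
      map_smul' := fun r m => hsmul r m }
  let ψ : M ≃ₗ[R] N := LinearEquiv.ofBijective ψ₀ hφ
  exact PB1.pdLT_of_linearEquiv ψ.symm _ hN

end P

variable {X Y : Scheme.{u}} (f : X ⟶ Y)

theorem pdLT_stalk_push' [IsClosedImmersion f] [IsLocallyNoetherian Y] (F : X.Modules)
    (hF : Coh.IsCoh F) (x : X) (n : ℕ) (hn : HasProjectiveDimensionLT (St F x) (n + 1))
    (U : Y.Opens) (hU : IsAffineOpen U) (hx : f x ∈ U)
    (rs : List Γ(Y, U)) (reg : IsRegular Γ(Y, U) rs)
    (hker : f.ker.ideal ⟨U, hU⟩ = Ideal.ofList rs) :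
    HasProjectiveDimensionLT (St ((Scheme.Modules.pushforward f).obj F) (f x))
      (n + rs.length + 1) := by
  haveI : IsLocallyNoetherian X := LocallyOfFiniteType.isLocallyNoetherian f
  letI algY : Algebra Γ(Y, U) (Y.presheaf.stalk (f x)) :=
    TopCat.Presheaf.algebra_section_stalk Y.presheaf ⟨f x, hx⟩
  haveI locY := hU.isLocalization_stalk ⟨f x, hx⟩
  have hU' : IsAffineOpen (f ⁻¹ᵁ U) := hU.preimage f
  have hx' : x ∈ f ⁻¹ᵁ U := hx
  letI algX : Algebra Γ(X, f ⁻¹ᵁ U) (X.presheaf.stalk x) :=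
    TopCat.Presheaf.algebra_section_stalk X.presheaf ⟨x, hx'⟩
  haveI locX := hU'.isLocalization_stalk ⟨x, hx'⟩
  let σ : Y.presheaf.stalk (f x) →+* X.presheaf.stalk x := (f.stalkMap x).hom
  have hσ : Function.Surjective σ := f.stalkMap_surjective x
  have hφ : Function.Surjective (f.app U).hom := f.app_surjective U hU
  have hcomp : ∀ a : Γ(Y, U), σ (algebraMap Γ(Y, U) (Y.presheaf.stalk (f x)) a) =
      algebraMap Γ(X, f ⁻¹ᵁ U) (X.presheaf.stalk x) ((f.app U).hom a) :=
    fun a => f.germ_stalkMap_apply U x hx a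
  haveI : IsLocalHom σ := inferInstanceAs (IsLocalHom (f.stalkMap x).hom)
  have hk := PB1.ker_eq_map (f.app U).hom hφ σ hcomp (hU.primeIdealOf ⟨f x, hx⟩).asIdeal
    (hU'.primeIdealOf ⟨x, hx'⟩).asIdeal
  have hk2 : RingHom.ker σ =
      Ideal.ofList (rs.map (algebraMap Γ(Y, U) (Y.presheaf.stalk (f x)))) := by
    rw [hk, ← Ideal.map_ofList, ← hker, Scheme.Hom.ker_apply]
  have reg' : IsWeaklyRegular (Y.presheaf.stalk (f x))
      (rs.map (algebraMap Γ(Y, U) (Y.presheaf.stalk (f x)))) :=
    reg.1.of_isLocalization _ (hU.primeIdealOf ⟨f x, hx⟩).asIdeal.primeCompl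
  haveI : Module.Finite (X.presheaf.stalk x) (F.presheaf.stalk x) :=
    Groth.Agent.Lib.Helper9.RefStalk.finite_stalk_of_isCoh F hF x
  have h := pdLT_of_semilinear' σ hσ _ reg' hk2
    (((Scheme.Modules.pushforward f).obj F).presheaf.stalk (f x)) (F.presheaf.stalk x) n hn
    (pushStalkMap f F x) (pushStalkMap_bijective f F f.isEmbedding.isInducing x)
    (pushStalkMap_smul f F x)
  rw [List.length_map] at h
  exact h

theorem exists_pdLT_push' [IsNoetherian Y] (hf : Mor2.IsRegularClosedImmersion f)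
    (hYe : KRR.HasEnoughLocFree Y) (F : X.Modules) (hF : Coh.IsCoh F) (n : ℕ)
    (hn : PdLT F (n + 1)) :
    ∃ m : ℕ, PdLT ((Scheme.Modules.pushforward f).obj F) (m + 1) := by
  haveI : IsClosedImmersion f := hf.1
  have hM : Coh.IsCoh ((Scheme.Modules.pushforward f).obj F) := AL4.isCoh_pushforward f F hF
  set M := (Scheme.Modules.pushforward f).obj F with hMdef
  let V : ℕ → Set Y := fun n => {y : Y | HasProjectiveDimensionLT (St M y) (n + 1)}
  have hVo : ∀ n, IsOpen (V n) := fun n => isOpen_pdLT hYe isCoh_of_lf n hM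
  have hmono : Monotone V := by
    intro n m hnm y hy
    haveI : HasProjectiveDimensionLT (St M y) (n + 1) := hy
    exact hasProjectiveDimensionLT_of_ge _ (n + 1) (m + 1) (by omega)
  have hcov : (Set.univ : Set Y) ⊆ ⋃ n, V n := by
    intro y _
    by_cases hy : y ∈ Set.range f.base
    · obtain ⟨x, rfl⟩ := hy
      obtain ⟨U, hU, hxU, rs, reg, hker⟩ := hf.2 x
      exact Set.mem_iUnion.2 ⟨n + rs.length,
        pdLT_stalk_push' f F hF x n (hn x) U hU hxU rs reg hker⟩
    · haveI := subsingleton_stalk_of_notMem_range f F f.isClosedEmbedding.isClosed_range y hy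
      refine Set.mem_iUnion.2 ⟨0, ?_⟩
      have hz : IsZero (St M y) := ModuleCat.isZero_of_subsingleton _
      have := hz.hasProjectiveDimensionLT_zero
      exact hasProjectiveDimensionLT_of_ge _ 0 (0 + 1) (by omega)
  obtain ⟨m, hm⟩ := isCompact_univ.elim_directed_cover V hVo hcov hmono.directed_le
  exact ⟨m, fun y => hm (Set.mem_univ y)⟩

/-- push-forward along a regular closed immersion preserves `QP` -/
theorem QP_push [IsNoetherian Y] (hf : Mor2.IsRegularClosedImmersion f)
    (hYe : KRR.HasEnoughLocFree Y) (F : X.Modules) (hF : QP X F) :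
    QP Y ((Scheme.Modules.pushforward f).obj F) := by
  haveI : IsClosedImmersion f := hf.1
  obtain ⟨hcoh, n, L, π, hres⟩ := hF
  obtain ⟨m, hm⟩ := exists_pdLT_push' f hf hYe F hcoh n (pdLT_of_isLFRes hres)
  exact (QP_iff hYe _).2 ⟨m, AL4.isCoh_pushforward f F hcoh, hm⟩

end Groth.Agent.Lib.Helper18.PB5
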