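import Mathlib
import Groth.Agent.Lib.Helper18.PB5

/-! # Transitivity of `f_K` for regular closed immersions (helper18) -/

set_option autoImplicit false
set_option linter.style.haveILetI false
universe v w w' u

open CategoryTheory CategoryTheory.Limits AlgebraicGeometry

namespace Groth.Agent.Lib.Helper18.PB6

open Groth.Agent.Lib.Helper29.QCoh Groth.Agent.Lib.Helper18 Groth.Agent.Lib.Helper18.RS2
  Groth.Agent.Lib.Helper18.RS3 Groth.Agent.Lib.Helper18.RS4 Groth.Agent.Lib.Helper18.PB3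
  Groth.Agent.Lib.Helper18.PB4 Groth.Agent.Lib.Helper18.PB5

variable {X Y Z : Scheme.{u}}

theorem QP_of_iso [IsNoetherian Y] (hYe : KRR.HasEnoughLocFree Y) {M N : Y.Modules} (e : M ≅ N)
    (hN : QP Y N) : QP Y M := by
  have hS : (ShortComplex.mk e.hom (cokernel.π e.hom) (cokernel.condition _)).ShortExact :=
    ShortComplex.ShortExact.mk (ShortComplex.exact_cokernel e.hom)
  exact QP_ker hYe _ hS hN (QP_of_isZero hYe _ (isZero_cokernel_of_epi e.hom))

theorem clSub_QP_iso [IsNoetherian Y] (hYe : KRR.HasEnoughLocFree Y) {M N : Y.Modules}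
    (e : M ≅ N) (hN : QP Y N) : KZero.clSub (QP Y) N = KZero.clSub (QP Y) M :=
  AD2.clSub_iso (QP Y) e (QP_of_iso hYe e hN) hN
    (QP_of_isZero hYe _ (isZero_cokernel_of_epi e.hom))

/-- the value of a push-forward map on a bundle whose direct image is resolvable -/
theorem pushCl_apply (i : X ⟶ Y) [IsNoetherian Y] (hYe : KRR.HasEnoughLocFree Y)
    {KX : Type v} {KY : Type w} [CommRing KX] [CommRing KY]
    (φX : SGA6.Kvb X →+ KX) (φY : SGA6.Kvb Y →+ KY) (a : KX →+ KY)
    (ha : KRR.IsPushCl i φX φY a) (F : X.Modules) (hF : FlatMod.IsFinLocFree F)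
    (hQ : QP Y ((Scheme.Modules.pushforward i).obj F)) (w : SGA6.Kvb Y)
    (hw : psi hYe w = KZero.clSub (QP Y) ((Scheme.Modules.pushforward i).obj F)) :
    a (φX (KRR.cl X F)) = φY w := by
  obtain ⟨hcoh, n, L, π, hres⟩ := hQ
  have h2 : psi hYe w =
      psi hYe (∑ k ∈ Finset.range (n + 1), (-1 : ℤ) ^ k • KRR.cl Y (L.X k)) := by
    rw [hw, clSub_eq_sum hYe hcoh hres, map_sum]
    refine Finset.sum_congr rfl fun k _ => ?_
    rw [map_zsmul, psi_cl hYe _ (hres.finLocFree k)]
  rw [(psi_bijective hYe).1 h2, ha F hF n L π hres, map_sum]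
  refine Finset.sum_congr rfl fun k _ => ?_
  rw [map_zsmul]

theorem comp_pushCl (f : X ⟶ Y) (g : Y ⟶ Z) (hf : Mor2.IsRegularClosedImmersion f)
    (hg : Mor2.IsRegularClosedImmersion g) [IsNoetherian Y] [IsNoetherian Z]
    (hYe : KRR.HasEnoughLocFree Y) (hZe : KRR.HasEnoughLocFree Z)
    {KX : Type v} {KY : Type w} {KZ : Type w'} [CommRing KX] [CommRing KY] [CommRing KZ]
    (φX : SGA6.Kvb X →+ KX) (hφX : Function.Surjective φX)
    (φY : SGA6.Kvb Y →+ KY) (φZ : SGA6.Kvb Z →+ KZ)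
    (a : KX →+ KY) (ha : KRR.IsPushCl f φX φY a) (b : KY →+ KZ) (hb : KRR.IsPushCl g φY φZ b)
    (c : KX →+ KZ) (hc : KRR.IsPushCl (f ≫ g) φX φZ c) : c = b.comp a := by
  haveI : IsClosedImmersion f := hf.1
  haveI : IsClosedImmersion g := hg.1
  let eY : SGA6.Kvb Y ≃+ KZero.K0sub (QP Y) := AddEquiv.ofBijective (psi hYe) (psi_bijective hYe)
  let eZ : SGA6.Kvb Z ≃+ KZero.K0sub (QP Z) := AddEquiv.ofBijective (psi hZe) (psi_bijective hZe)
  have heY : ∀ t, psi hYe (eY.symm t) = t := fun t => eY.apply_symm_apply t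
  have heZ : ∀ t, psi hZe (eZ.symm t) = t := fun t => eZ.apply_symm_apply t
  let Gg : KZero.K0sub (QP Y) →+ KZero.K0sub (QP Z) :=
    SGA6.mapSub (Scheme.Modules.pushforward g) (QP Y) (QP Z) (QP_push g hg hZe)
  have hGg : ∀ (M : Y.Modules) (hM : QP Y M), Gg (KZero.clSub (QP Y) M) =
      KZero.clSub (QP Z) ((Scheme.Modules.pushforward g).obj M) := fun M hM =>
    AD3.mapSub_clSub (Scheme.Modules.pushforward g) (QP Y) (QP Z) (QP_push g hg hZe) hM
  have hb' : ∀ w : SGA6.Kvb Y, b (φY w) = φZ (eZ.symm (Gg (psi hYe w))) := by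
    intro w
    induction w using AD2.K0sub_induction with
    | h0 => simp only [map_zero]
    | hcl E hE =>
      have hQE : QP Y E := QP_of_lf hYe E hE
      have hpsi : psi hYe (KZero.clSub (KRR.vbP Y) E) = KZero.clSub (QP Y) E := psi_cl hYe E hE
      rw [hpsi, hGg E hQE]
      exact pushCl_apply g hZe φY φZ b hb E hE (QP_push g hg hZe E hQE) _ (heZ _)
    | hneg x hx => simp only [map_neg, hx]
    | hadd x y hx hy => simp only [map_add, hx, hy]
  ext t
  obtain ⟨s, rfl⟩ := hφX t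
  induction s using AD2.K0sub_induction with
  | h0 => simp only [map_zero]
  | hcl F hF =>
    have hQ1 : QP Y ((Scheme.Modules.pushforward f).obj F) := PB2.hasLFRes_push f hf hYe F hF
    have hQ2 : QP Z ((Scheme.Modules.pushforward g).obj ((Scheme.Modules.pushforward f).obj F)) :=
      QP_push g hg hZe _ hQ1
    let e : (Scheme.Modules.pushforward (f ≫ g)).obj F ≅
        (Scheme.Modules.pushforward g).obj ((Scheme.Modules.pushforward f).obj F) :=
      ((Scheme.Modules.pushforwardComp f g).app F).symm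
    have hQ3 : QP Z ((Scheme.Modules.pushforward (f ≫ g)).obj F) := QP_of_iso hZe e hQ2
    have h1 : a (φX (KRR.cl X F)) =
        φY (eY.symm (KZero.clSub (QP Y) ((Scheme.Modules.pushforward f).obj F))) :=
      pushCl_apply f hYe φX φY a ha F hF hQ1 _ (heY _)
    have h2 : c (φX (KRR.cl X F)) =
        φZ (eZ.symm (KZero.clSub (QP Z) ((Scheme.Modules.pushforward (f ≫ g)).obj F))) :=
      pushCl_apply (f ≫ g) hZe φX φZ c hc F hF hQ3 _ (heZ _)
    change c (φX (KRR.cl X F)) = b (a (φX (KRR.cl X F)))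
    rw [h1, h2, hb', heY, hGg _ hQ1, clSub_QP_iso hZe e hQ2]
  | hneg x hx =>
    simp only [map_neg, AddMonoidHom.comp_apply] at hx ⊢
    rw [hx]
  | hadd x y hx hy =>
    simp only [map_add, AddMonoidHom.comp_apply] at hx hy ⊢
    rw [hx, hy]

end Groth.Agent.Lib.Helper18.PB6
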