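import Mathlib
import Groth.Prelude.Def_KRR
import Groth.Prelude.Def_SGA6
import Groth.Agent.Lib.Helper28.StalkAdj2
import Groth.Agent.Lib.Helper18.RS2
import Groth.Agent.Lib.Helper18.AD2

/-! # The pull-back `f^K` on `K` of vector bundles (helper18) -/

set_option autoImplicit false
set_option linter.style.haveILetI false
universe v w u

open CategoryTheory CategoryTheory.Limits AlgebraicGeometry

namespace Groth.Agent.Lib.Helper18.PB8

open Groth.Agent.Lib.Helper29.QCoh Groth.Agent.Lib.Helper18 Groth.Agent.Lib.Helper18.RS2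
  Groth.Agent.Lib.Helper28.StalkTensor

variable {X Y : Scheme.{u}} (f : X ⟶ Y)

theorem additive_pullback : (Scheme.Modules.pullback f).Additive :=
  (Scheme.Modules.pullbackPushforwardAdjunction f).left_adjoint_additive

theorem mono_pullback_map (S : ShortComplex Y.Modules) (hS : S.ShortExact)
    (h3 : FlatMod.IsFinLocFree S.X₃) : Mono ((Scheme.Modules.pullback f).map S.f) := by
  rw [mono_iff_stalkMap_injective]
  intro x
  suffices h : Mono ((DerSch.stalkFunctor X x).map ((Scheme.Modules.pullback f).map S.f)) from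
    (ModuleCat.mono_iff_injective _).1 h
  let iso := pullStalkNatIso f x
  have nat := iso.hom.naturality S.f
  have hT := stSC_shortExact S hS (f.base x)
  haveI : Projective (stSC S (f.base x)).X₃ := by
    haveI := free_stalk_of_isFinLocFree h3 (f.base x)
    exact (IsProjective.iff_projective _).1
      (inferInstance : Module.Projective _ (S.X₃.presheaf.stalk (f.base x)))
  have spl := hT.splittingOfProjective
  have hm : Mono ((esStalk f x).map (stSC S (f.base x)).f) :=
    (spl.map (esStalk f x)).shortExact.mono_f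
  have hbridge : (DerSch.stalkFunctor Y (f.base x)).map S.f = (stSC S (f.base x)).f := by
    apply ModuleCat.hom_ext
    ext t
    rfl
  have hm' : Mono ((DerSch.stalkFunctor Y (f.base x) ⋙ esStalk f x).map S.f) := by
    change Mono ((esStalk f x).map ((DerSch.stalkFunctor Y (f.base x)).map S.f))
    rw [hbridge]
    exact hm
  have h2 : Mono ((Scheme.Modules.pullback f ⋙ DerSch.stalkFunctor X x).map S.f ≫
      iso.hom.app S.X₂) := by
    rw [nat]
    haveI := hm'
    haveI : IsIso (iso.hom.app S.X₁) := NatIso.hom_app_isIso iso S.X₁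
    haveI : Mono (iso.hom.app S.X₁) := IsIso.mono_of_iso _
    exact mono_comp _ _
  exact mono_of_mono ((Scheme.Modules.pullback f ⋙ DerSch.stalkFunctor X x).map S.f)
    (iso.hom.app S.X₂)

theorem shortExact_map_pullback (S : ShortComplex Y.Modules) (hS : S.ShortExact)
    (h3 : FlatMod.IsFinLocFree S.X₃) :
    haveI := additive_pullback f
    (S.map (Scheme.Modules.pullback f)).ShortExact := by
  haveI := additive_pullback f
  haveI : PreservesColimitsOfSize.{0, 0} (Scheme.Modules.pullback f) :=
    (Scheme.Modules.pullbackPushforwardAdjunction f).leftAdjoint_preservesColimits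
  haveI := hS.epi_g
  haveI : Mono (S.map (Scheme.Modules.pullback f)).f := mono_pullback_map f S hS h3
  haveI : Epi (S.map (Scheme.Modules.pullback f)).g := by
    change Epi ((Scheme.Modules.pullback f).map S.g)
    infer_instance
  exact ShortComplex.ShortExact.mk
    (hS.exact.map_of_epi_of_preservesCokernel (Scheme.Modules.pullback f) inferInstance
      inferInstance)

/-- `[E] ↦ [f^* E]` on generators -/
noncomputable def pre (E : Subtype (KRR.vbP Y)) : SGA6.Kvb X :=
  KRR.cl X ((Scheme.Modules.pullback f).obj E.1)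

theorem relSub_le_ker : KZero.relSub (KRR.vbP Y) ≤ (FreeAbelianGroup.lift (pre f)).ker := by
  haveI := additive_pullback f
  rw [KZero.relSub, AddSubgroup.closure_le]
  rintro x ⟨S, h₁, h₂, h₃, hS, rfl⟩
  change FreeAbelianGroup.lift (pre f) _ = 0
  rw [map_sub, map_sub, FreeAbelianGroup.lift_apply_of, FreeAbelianGroup.lift_apply_of,
    FreeAbelianGroup.lift_apply_of]
  have hS' := shortExact_map_pullback f S hS h₃
  have h := AD2.clSub_add (KRR.vbP X) _ hS' (isFinLocFree_pullback f h₁)
    (isFinLocFree_pullback f h₂) (isFinLocFree_pullback f h₃)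
  change KRR.cl X ((Scheme.Modules.pullback f).obj S.X₂) -
    KRR.cl X ((Scheme.Modules.pullback f).obj S.X₁) -
    KRR.cl X ((Scheme.Modules.pullback f).obj S.X₃) = 0
  change KRR.cl X ((Scheme.Modules.pullback f).obj S.X₂) =
    KRR.cl X ((Scheme.Modules.pullback f).obj S.X₁) +
    KRR.cl X ((Scheme.Modules.pullback f).obj S.X₃) at h
  rw [h]
  abel

/-- the pull-back `K(Y) → K(X)` on `K₀` of finite locally free modules -/
noncomputable def pullK : SGA6.Kvb Y →+ SGA6.Kvb X :=
  QuotientAddGroup.lift _ (FreeAbelianGroup.lift (pre f)) (relSub_le_ker f)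

theorem pullK_cl (E : Y.Modules) (hE : FlatMod.IsFinLocFree E) :
    pullK f (KRR.cl Y E) = KRR.cl X ((Scheme.Modules.pullback f).obj E) := by
  rw [show KRR.cl Y E = QuotientAddGroup.mk (FreeAbelianGroup.of ⟨E, hE⟩) from
    AD2.clSub_of (KRR.vbP Y) hE]
  change (FreeAbelianGroup.lift (pre f)) (FreeAbelianGroup.of ⟨E, hE⟩) = _
  rw [FreeAbelianGroup.lift_apply_of]
  rfl

theorem existsUnique_isPull {KX : Type v} {KY : Type w} [CommRing KX] [CommRing KY]
    (φX : SGA6.Kvb X →+ KX) (φY : SGA6.Kvb Y →+ KY) (hφY : Function.Bijective φY) :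
    ∃! g : KY →+ KX, KRR.IsPull f φY φX g := by
  let eY : SGA6.Kvb Y ≃+ KY := AddEquiv.ofBijective φY hφY
  let g : KY →+ KX := φX.comp ((pullK f).comp eY.symm.toAddMonoidHom)
  have hg : KRR.IsPull f φY φX g := by
    intro E hE
    change φX (pullK f (eY.symm (φY (KRR.cl Y E)))) = _
    have h1 : eY.symm (φY (KRR.cl Y E)) = KRR.cl Y E := eY.symm_apply_apply _
    rw [h1, pullK_cl f E hE]
  refine ⟨g, hg, fun g' hg' => ?_⟩
  ext a
  obtain ⟨t, rfl⟩ := hφY.2 a
  induction t using AD2.K0sub_induction with
  | h0 => simp only [map_zero]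
  | hcl E hE => exact (hg' E hE).trans (hg E hE).symm
  | hneg x hx => simp only [map_neg, hx]
  | hadd x y hx hy => simp only [map_add, hx, hy]

end Groth.Agent.Lib.Helper18.PB8
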