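import Mathlib
import Groth.Agent.Lib.Helper18.PB8
import Groth.Agent.Lib.Helper18.PB6
import Groth.Agent.Lib.Helper18.PullStalk

/-! # `h^K ∘ F_K = 0` when the image of `h` misses the closed subscheme (helper18) -/

set_option autoImplicit false
set_option linter.style.haveILetI false
universe v w w' u

open CategoryTheory CategoryTheory.Limits AlgebraicGeometry

namespace Groth.Agent.Lib.Helper18.PB9

open Groth.Agent.Lib.Helper29.QCoh Groth.Agent.Lib.Helper18 Groth.Agent.Lib.Helper18.RS2
  Groth.Agent.Lib.Helper18.RS3 Groth.Agent.Lib.Helper18.RS4 Groth.Agent.Lib.Helper18.PB3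
  Groth.Agent.Lib.Helper18.PB4 Groth.Agent.Lib.Helper18.PB8 Groth.Agent.Lib.Helper18.PushStalk

variable {P M Z : Scheme.{u}}

section VB

variable {U : Scheme.{u}} [IsLocallyNoetherian U]

theorem vb_isZero (N : U.Modules) (hN : IsZero N) : KRR.vbP U N := isFinLocFree_of_isZero hN

theorem vb_ker (S : ShortComplex U.Modules) (hS : S.ShortExact) (h₂ : KRR.vbP U S.X₂)
    (h₃ : KRR.vbP U S.X₃) : KRR.vbP U S.X₁ :=
  isFinLocFree_of_pdLT_one (isCoh_X₁ S hS (isCoh_of_lf _ h₂) (isCoh_of_lf _ h₃))
    (pdLT_X₁ S hS 1 (pdLT_one_of_isFinLocFree h₂)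
      ((pdLT_one_of_isFinLocFree h₃).of_ge (by omega)))

theorem cl_iso {A B : U.Modules} (e : A ≅ B) (hA : FlatMod.IsFinLocFree A)
    (hB : FlatMod.IsFinLocFree B) : KRR.cl U B = KRR.cl U A :=
  AD2.clSub_iso (KRR.vbP U) e hA hB (vb_isZero _ (isZero_cokernel_of_epi e.hom))

end VB

/-- the pull-back of a module vanishes if the module has zero stalks along the image -/
theorem isZero_pullback_of_stalks {X Y : Scheme.{u}} (p : X ⟶ Y) (N : Y.Modules)
    (h : ∀ x : X, Subsingleton (N.presheaf.stalk (p x))) :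
    IsZero ((Scheme.Modules.pullback p).obj N) := by
  rw [isZero_iff_stalk_subsingleton]
  intro x
  by_contra hn
  rw [not_subsingleton_iff_nontrivial] at hn
  have := PullStalk.nontrivial_of_nontrivial_stalk_pullback p N x hn
  exact not_subsingleton _ (h x)

/-- the alternating sum of the pull-backs of the terms of a resolution of a module
supported away from the image vanishes -/
theorem sum_pullback_eq_zero [IsNoetherian M] [IsLocallyNoetherian Z] (W : M.Opens)
    (h' : Z ⟶ W.toScheme) {N : M.Modules} {n : ℕ}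
    {L : ChainComplex M.Modules ℕ} {π : L ⟶ (ChainComplex.single₀ M.Modules).obj N}
    (hres : KRR.IsLFRes N n L π) (hN : ∀ x : W.toScheme, Subsingleton (N.presheaf.stalk (W.ι x))) :
    ∑ k ∈ Finset.range (n + 1),
      (-1 : ℤ) ^ k • KRR.cl Z ((Scheme.Modules.pullback (h' ≫ W.ι)).obj (L.X k)) = 0 := by
  let R := Scheme.Modules.pullback W.ι
  haveI : R.Additive := additive_pullback W.ι
  haveI : PreservesFiniteLimits R :=
    preservesFiniteLimits_of_natIso (Scheme.Modules.restrictFunctorIsoPullback W.ι)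
  haveI : PreservesFiniteColimits R :=
    preservesFiniteColimits_of_natIso (Scheme.Modules.restrictFunctorIsoPullback W.ι)
  haveI : R.PreservesHomology := Functor.preservesHomologyOfExact _
  obtain ⟨⟨h0, hepi⟩, hk⟩ := (quasiIso_iff_exact L N π).1 hres.quasiIso
  let C := ChainComplex.augment L (π.f 0) (comp_zero_of_pi L N π)
  have hepiC : Epi (C.d 1 0) := hepi
  have hex : ∀ k, (ShortComplex.mk (C.d (k + 2) (k + 1)) (C.d (k + 1) k)
      (C.d_comp_d _ _ _)).Exact := by
    intro k
    cases k with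
    | zero => exact h0
    | succ k => exact hk k
  let C' := (R.mapHomologicalComplex (ComplexShape.down ℕ)).obj C
  haveI : Epi (C'.d 1 0) := by
    change Epi (R.map (C.d 1 0))
    infer_instance
  have hex' : ∀ k, (ShortComplex.mk (C'.d (k + 2) (k + 1)) (C'.d (k + 1) k)
      (C'.d_comp_d _ _ _)).Exact := fun k => (hex k).map R
  have hzero : IsZero (C'.X 0) := isZero_pullback_of_stalks W.ι N hN
  have hC' : ∀ k, KRR.vbP W.toScheme (C'.X k) := by
    intro k
    cases k with
    | zero => exact vb_isZero _ hzero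
    | succ k => exact isFinLocFree_pullback W.ι (hres.finLocFree k)
  have hz : IsZero (C'.X (n + 2)) := Functor.map_isZero R (hres.isZero (n + 1) (by omega))
  have he := euler_of_exact (KRR.vbP W.toScheme) vb_isZero vb_ker C' hex' n hC' hz
  rw [AD2.clSub_of_isZero (KRR.vbP W.toScheme) hzero (vb_isZero _ hzero)] at he
  have he2 := congrArg (pullK h') he
  rw [map_zero, map_sum] at he2
  rw [he2]
  refine Finset.sum_congr rfl fun k _ => ?_
  rw [map_zsmul]
  congr 1
  have hk1 : pullK h' (KRR.cl W.toScheme (C'.X (k + 1))) =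
      KRR.cl Z ((Scheme.Modules.pullback h').obj (R.obj (L.X k))) :=
    pullK_cl h' _ (isFinLocFree_pullback W.ι (hres.finLocFree k))
  rw [hk1]
  exact cl_iso ((Scheme.Modules.pullbackComp h' W.ι).app (L.X k))
    (isFinLocFree_pullback h' (isFinLocFree_pullback W.ι (hres.finLocFree k)))
    (isFinLocFree_pullback (h' ≫ W.ι) (hres.finLocFree k))

theorem pull_push_eq_zero (F : P ⟶ M) (hF : Mor2.IsRegularClosedImmersion F) [IsNoetherian M]
    (hMe : KRR.HasEnoughLocFree M) [IsLocallyNoetherian Z] (h : Z ⟶ M)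
    (hdisj : Disjoint (Set.range h.base) (Set.range F.base))
    {KP : Type v} {KM : Type w} {KZ : Type w'} [CommRing KP] [CommRing KM] [CommRing KZ]
    (φP : SGA6.Kvb P →+ KP) (hφP : Function.Surjective φP) (φM : SGA6.Kvb M →+ KM)
    (φZ : SGA6.Kvb Z →+ KZ)
    (gh : KM →+ KZ) (hgh : KRR.IsPull h φM φZ gh)
    (gF : KP →+ KM) (hgF : KRR.IsPushCl F φP φM gF) (p : KP) : gh (gF p) = 0 := by
  haveI : IsClosedImmersion F := hF.1
  let W : M.Opens := ⟨(Set.range F.base)ᶜ, F.isClosedEmbedding.isClosed_range.isOpen_compl⟩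
  have hsub : Set.range h.base ⊆ Set.range W.ι.base := by
    rw [Scheme.Opens.range_ι]
    intro m hm
    exact Set.disjoint_left.1 hdisj hm
  let h' : Z ⟶ W.toScheme := IsOpenImmersion.lift W.ι h hsub
  have hfac : h' ≫ W.ι = h := IsOpenImmersion.lift_fac W.ι h hsub
  obtain ⟨s, rfl⟩ := hφP p
  induction s using AD2.K0sub_induction with
  | h0 => simp only [map_zero]
  | hcl E hE =>
    obtain ⟨hcoh, n, L, π, hres⟩ := PB2.hasLFRes_push F hF hMe E hE
    have hN : ∀ x : W.toScheme, Subsingleton
        (((Scheme.Modules.pushforward F).obj E).presheaf.stalk (W.ι x)) := by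
      intro x
      have hx : (W.ι x : M) ∈ (W : Set M) := by
        have := Set.mem_range_self (f := W.ι.base) x
        rwa [Scheme.Opens.range_ι] at this
      exact subsingleton_stalk_of_notMem_range F E F.isClosedEmbedding.isClosed_range _ hx
    have hsum := sum_pullback_eq_zero W h' hres hN
    rw [hfac] at hsum
    change gh (gF (φP (KRR.cl P E))) = 0
    rw [hgF E hE n L π hres, map_sum]
    have : ∀ k ∈ Finset.range (n + 1), gh ((-1 : ℤ) ^ k • φM (KRR.cl M (L.X k))) =
        φZ ((-1 : ℤ) ^ k • KRR.cl Z ((Scheme.Modules.pullback h).obj (L.X k))) := by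
      intro k _
      rw [map_zsmul, map_zsmul, hgh _ (hres.finLocFree k)]
    rw [Finset.sum_congr rfl this, ← map_sum, hsum, map_zero]
  | hneg x hx => simp only [map_neg, hx, neg_zero]
  | hadd x y hx hy => simp only [map_add, hx, hy, add_zero]

end Groth.Agent.Lib.Helper18.PB9
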