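import Mathlib
import Groth.Prelude.Def_KRR
import Groth.Agent.Lib.Helper29.SerreA
import Groth.Agent.Lib.Helper29.Res2
import Groth.Agent.Lib.Helper29.ProjF4
import Groth.Agent.Lib.Helper28.TrivLocus2
import Groth.Agent.Lib.Helper28.DCohRes4
import Groth.Agent.Lib.Helper18.PB9
import Groth.Agent.Lib.Helper18.NP2
import Groth.Agent.Lib.Helper18.NP3

/-! # The class of an ample invertible module is an ample line element of `K(X)` (helper18) -/

set_option autoImplicit false
universe v u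

open CategoryTheory CategoryTheory.Limits AlgebraicGeometry TopologicalSpace Opposite
open Groth.Agent.Lib.Helper29.QCoh Groth.Agent.Lib.Helper29.QCoh.Res
open Groth.Agent.Lib.Helper28.DCohRes Groth.Agent.Lib.Helper28.TrivLocus
open Groth.Agent.Lib.Helper18

namespace Groth.Agent.Lib.Helper18.KA1

variable {X : Scheme.{u}}

theorem flf_of_rank {n : ℕ} {M : X.Modules} (h : FlatMod.IsFinLocFreeOfRank n M) :
    FlatMod.IsFinLocFree M := fun x => by
  obtain ⟨U, hx, e⟩ := h x
  exact ⟨U, n, hx, e⟩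

/-- on a connected scheme a finite locally free module has constant rank -/
theorem exists_rank_of_connected [ConnectedSpace ↥X] {M : X.Modules}
    (h : FlatMod.IsFinLocFree M) : ∃ n, FlatMod.IsFinLocFreeOfRank n M := by
  classical
  have hloc : IsLocallyConstant
      (fun x : X => Module.finrank (X.presheaf.stalk x) (M.presheaf.stalk x)) := by
    rw [IsLocallyConstant.iff_exists_open]
    intro x
    obtain ⟨U, m, hx, ⟨e⟩⟩ := h x
    refine ⟨U, U.2, hx, fun y hy => ?_⟩
    have h1 := finrank_stalk_of_restrict_iso U.ι ⟨y, hy⟩ m e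
    have h2 := finrank_stalk_of_restrict_iso U.ι ⟨x, hx⟩ m e
    exact h1.trans h2.symm
  obtain ⟨x₀⟩ : Nonempty ↥X := inferInstance
  refine ⟨Module.finrank (X.presheaf.stalk x₀) (M.presheaf.stalk x₀), fun x => ?_⟩
  obtain ⟨U, m, hx, ⟨e⟩⟩ := h x
  have h1 : Module.finrank (X.presheaf.stalk x) (M.presheaf.stalk x) = m :=
    finrank_stalk_of_restrict_iso U.ι ⟨x, hx⟩ m e
  have h2 := hloc.apply_eq_of_preconnectedSpace x x₀
  have h3 : m = Module.finrank (X.presheaf.stalk x₀) (M.presheaf.stalk x₀) := by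
    rw [← h1, h2]
  subst h3
  exact ⟨U, hx, ⟨e⟩⟩

theorem isZero_of_rank_zero {M : X.Modules} (h : FlatMod.IsFinLocFreeOfRank 0 M) : IsZero M := by
  rw [isZero_iff_stalk_subsingleton]
  intro x
  obtain ⟨U, hx, ⟨e⟩⟩ := h x
  have hz : IsZero (M.restrict U.ι) :=
    IsZero.of_iso (NP3.isZero_sigma_fin_zero _) e
  exact ((NP2.van_iff U M).2 hz) x hx

/-- a globally generated quasi-coherent module of finite type on a quasi-compact scheme is a
quotient of a finite free module -/
theorem exists_epi_freeMod [CompactSpace ↥X] (G : X.Modules) [G.IsQuasicoherent] [G.IsFiniteType]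
    (h : Curv2.IsGloballyGenerated G) : ∃ (k : ℕ) (p : FlatMod.freeMod X k ⟶ G), Epi p := by
  obtain ⟨k, σ, hσ⟩ := exists_fin_sections_of_isGloballyGenerated G h
  have hσ' : ∀ x : X, Submodule.span (X.presheaf.stalk x)
      (Set.range fun i : ULift.{u} (Fin k) => G.presheaf.germ ⊤ x trivial (σ i.down)) = ⊤ := by
    intro x
    rw [← hσ x]
    congr 1
    ext t
    constructor
    · rintro ⟨i, rfl⟩
      exact ⟨i.down, rfl⟩
    · rintro ⟨a, rfl⟩
      exact ⟨⟨a⟩, rfl⟩
  haveI := epi_homOfSections_of_span G (fun i : ULift.{u} (Fin k) => σ i.down) hσ'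
  let e : FlatMod.freeMod X k ≅ freeM X (ULift.{u} (Fin k)) :=
    (Sigma.whiskerEquiv (f := fun _ : ULift.{u} (Fin k) => Coh.structureModule X)
      (g := fun _ : Fin k => Coh.structureModule X) Equiv.ulift (fun _ => Iso.refl _)).symm
  exact ⟨k, e.hom ≫ homOfSections G (fun i : ULift.{u} (Fin k) => σ i.down), epi_comp _ _⟩

theorem cl_freeMod [IsLocallyNoetherian X] (k : ℕ) :
    KRR.cl X (FlatMod.freeMod X k) = k • KRR.cl X (Coh.structureModule X) :=
  (NP3.sigma_const (KRR.vbP X) (fun e h => isFinLocFree_of_iso e h)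
    (fun M h => PB9.vb_isZero M h) (fun M N hM hN => isFinLocFree_biprod hM hN)
    (Coh.structureModule X) (Groth.Agent.Lib.Helper29.QCoh.ProjF.isFinLocFree_unitM X) k).2

theorem main (X : Scheme.{u}) [IsNoetherian X] [ConnectedSpace ↥X]
    (K : Type v) [CommRing K] [LambdaRing.LambdaOps K] (P : LambdaRing.PosStructure K)
    (φ : SGA6.Kvb X →+ K) (hK : KRR.IsModel X K P φ)
    (L : X.Modules) (hL : CohB1.IsAmple L) :
    KRR.IsAmpleElt P (φ (KRR.cl X L)) := by
  have hLinv := hL.1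
  have hL1 : FlatMod.IsFinLocFreeOfRank 1 L :=
    (isInvertible_iff_isFinLocFreeOfRank_one L).1 hLinv
  have hLf : FlatMod.IsFinLocFree L := flf_of_rank hL1
  have hupos : φ (KRR.cl X L) ∈ P.pos := (hK.mem_pos_iff _).2 ⟨1, L, le_rfl, hL1, rfl⟩
  have hpowflf : ∀ n, FlatMod.IsFinLocFree (CohB1.tensorPow L n) := fun n =>
    flf_of_rank ((isInvertible_iff_isFinLocFreeOfRank_one _).1 (isInvertible_tensorPow hLinv n))
  have hpow : ∀ n, φ (KRR.cl X (CohB1.tensorPow L n)) = φ (KRR.cl X L) ^ n := by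
    intro n
    induction n with
    | zero => rw [pow_zero]; exact hK.map_one
    | succ n ih => rw [pow_succ, ← ih]; exact (hK.map_mul _ _ (hpowflf n) hLf).symm
  have hpowpos : ∀ n, φ (KRR.cl X L) ^ n ∈ P.pos := by
    intro n
    induction n with
    | zero =>
      rw [pow_zero]
      have := P.natCast_mem 1 one_pos
      simpa using this
    | succ n ih => rw [pow_succ]; exact P.mul_mem _ _ ih hupos
  refine ⟨⟨hupos, hK.aug_cl 1 L hL1⟩, fun x => ?_⟩
  obtain ⟨e₁, f₁, he₁, hf₁, rfl⟩ := P.exists_sub x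
  obtain ⟨r, F, hr, hF, rfl⟩ := (hK.mem_pos_iff f₁).1 hf₁
  have hFf : FlatMod.IsFinLocFree F := flf_of_rank hF
  haveI := isQuasicoherent_of_isFinLocFree hFf
  haveI := isFinitePresentation_of_isFinLocFree hFf
  haveI : F.IsFiniteType := inferInstance
  obtain ⟨n₀, hn₀⟩ := exists_isGloballyGenerated_twist hL F
  refine ⟨n₀, fun n hn => ?_⟩
  have hGf : FlatMod.IsFinLocFree (CohB1.tensorMod F (CohB1.tensorPow L n)) :=
    isFinLocFree_tensor_invertible hFf (isInvertible_tensorPow hLinv n)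
  haveI := isQuasicoherent_of_isFinLocFree hGf
  haveI := isFinitePresentation_of_isFinLocFree hGf
  haveI : (CohB1.tensorMod F (CohB1.tensorPow L n)).IsFiniteType := inferInstance
  obtain ⟨k, p, hp⟩ := exists_epi_freeMod _ (hn₀ n hn)
  have hS : (ShortComplex.mk (kernel.ι p) p (kernel.condition p)).ShortExact :=
    ShortComplex.ShortExact.mk (ShortComplex.exact_kernel p)
  have hRf : FlatMod.IsFinLocFree (kernel p) :=
    PB9.vb_ker _ hS (isFinLocFree_freeMod X k) hGf
  have hadd := AD2.clSub_add (KRR.vbP X) _ hS hRf (isFinLocFree_freeMod X k) hGf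
  simp only at hadd
  have hG : φ (KRR.cl X (CohB1.tensorMod F (CohB1.tensorPow L n))) =
      φ (KRR.cl X F) * φ (KRR.cl X L) ^ n := by
    rw [← hpow n]
    exact (hK.map_mul F _ hFf (hpowflf n)).symm
  have key : (k : K) = φ (KRR.cl X (kernel p)) + φ (KRR.cl X F) * φ (KRR.cl X L) ^ n := by
    rw [← hG, ← map_add]
    change _ = φ (KZero.clSub (KRR.vbP X) (kernel p) + KZero.clSub (KRR.vbP X) _)
    rw [← hadd]
    change _ = φ (KRR.cl X (FlatMod.freeMod X k))
    rw [cl_freeMod k, map_nsmul, hK.map_one, nsmul_eq_mul, mul_one]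
  obtain ⟨r', hr'⟩ := exists_rank_of_connected hRf
  refine ⟨φ (KRR.cl X L) ^ n * e₁ + φ (KRR.cl X (kernel p)), k, ?_, ?_⟩
  · rcases Nat.eq_zero_or_pos r' with h0 | hpos
    · subst h0
      have hz := isZero_of_rank_zero hr'
      have h0 : KRR.cl X (kernel p) = 0 := AD2.clSub_of_isZero _ hz hRf
      rw [h0, map_zero, add_zero]
      exact P.mul_mem _ _ (hpowpos n) he₁
    · exact P.add_mem _ _ (P.mul_mem _ _ (hpowpos n) he₁)
        ((hK.mem_pos_iff _).2 ⟨r', _, hpos, hr', rfl⟩)
  · rw [key]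
    ring

end Groth.Agent.Lib.Helper18.KA1
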