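import Mathlib

/-! Toolkit for three-dimensional Lie algebras with a basis (helper18). -/

set_option autoImplicit false

namespace Groth.Agent.Lib.Helper18.Lie3

variable {A : Type*} [CommRing A] {L : Type*} [LieRing L] [LieAlgebra A L]

/-- Bracket of two combinations of three elements. -/
lemma lie_expand (x y z : L) (u0 u1 u2 v0 v1 v2 : A) :
    ⁅u0 • x + u1 • y + u2 • z, v0 • x + v1 • y + v2 • z⁆ =
      (u0 * v1 - u1 * v0) • ⁅x, y⁆ + (u0 * v2 - u2 * v0) • ⁅x, z⁆ +
        (u1 * v2 - u2 * v1) • ⁅y, z⁆ := by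
  simp only [add_lie, lie_add, smul_lie, lie_smul, lie_self, smul_zero, add_zero, zero_add]
  rw [← lie_skew y x, ← lie_skew z x, ← lie_skew z y]
  module

/-- Decomposition of an element in a basis indexed by `Fin 3`. -/
lemma decomp (bs : Module.Basis (Fin 3) A L) (m : L) :
    m = bs.repr m 0 • bs 0 + bs.repr m 1 • bs 1 + bs.repr m 2 • bs 2 := by
  conv_lhs => rw [← bs.sum_repr m, Fin.sum_univ_three]

/-- Comparing coordinates. -/
lemma coords (bs : Module.Basis (Fin 3) A L) {a0 a1 a2 b0 b1 b2 : A}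
    (h : a0 • bs 0 + a1 • bs 1 + a2 • bs 2 = b0 • bs 0 + b1 • bs 1 + b2 • bs 2) :
    a0 = b0 ∧ a1 = b1 ∧ a2 = b2 := by
  have hrepr := congrArg bs.repr h
  have e0 := DFunLike.congr_fun hrepr 0
  have e1 := DFunLike.congr_fun hrepr 1
  have e2 := DFunLike.congr_fun hrepr 2
  simp at e0 e1 e2
  exact ⟨e0, e1, e2⟩

end Groth.Agent.Lib.Helper18.Lie3
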