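import Mathlib
import Groth.Prelude.Def_Cyc
import Groth.Agent.Lib.Helper18.MV1
import Groth.Agent.Lib.Helper18.CL11

/-!
# Exactness in the middle for a closed cover
-/

set_option autoImplicit false
set_option linter.unusedSectionVars false
set_option linter.style.haveILetI false
universe u
open AlgebraicGeometry CategoryTheory TopologicalSpace

namespace Groth.Agent.Lib.Helper18.MV2

open Groth.Agent.Lib.Helper18.CL10 Groth.Agent.Lib.Helper18.EX2 Groth.Agent.Lib.Helper18.MV1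

variable {X X₁ X₂ Y : Scheme.{u}} (i₁ : X₁ ⟶ X) (i₂ : X₂ ⟶ X) [IsClosedImmersion i₁]
  [IsClosedImmersion i₂] (hcov : Set.range i₁ ∪ Set.range i₂ = Set.univ) (δ : X → ℤ)
  (hX : Cyc.IsSetup X δ)
  (j₁ : Y ⟶ X₁) (j₂ : Y ⟶ X₂) [IsClosedImmersion j₁] [IsClosedImmersion j₂]
  (hcomm : j₁ ≫ i₁ = j₂ ≫ i₂) (hY : Set.range (j₁ ≫ i₁) = Set.range i₁ ∩ Set.range i₂)

include hcov hX hcomm hY in
theorem exact (n : ℤ) (α₁ : AlgebraicCycle X₁ ℤ) (α₂ : AlgebraicCycle X₂ ℤ)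
    (hα₁ : α₁ ∈ Cyc.Zk X₁ (fun x => δ (i₁ x)) n)
    (h : Cyc.RatEquivZero δ n
      (AlgebraicCycle.map i₁ (fun x => δ (i₁ x)) δ α₁ +
        AlgebraicCycle.map i₂ (fun x => δ (i₂ x)) δ α₂)) :
    ∃ γ : AlgebraicCycle Y ℤ, γ ∈ Cyc.Zk Y (fun y => δ (i₁ (j₁ y))) n ∧
      Cyc.RatEquiv (fun x => δ (i₁ x)) n α₁
        (AlgebraicCycle.map j₁ (fun y => δ (i₁ (j₁ y))) (fun x => δ (i₁ x)) γ) ∧
      Cyc.RatEquiv (fun x => δ (i₂ x)) n α₂
        (-AlgebraicCycle.map j₂ (fun y => δ (i₁ (j₁ y))) (fun x => δ (i₂ x)) γ) := by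
  classical
  obtain ⟨I, ξ, r, hδξ, hr, hlf, hsum⟩ := h
  have hpt : ∀ y : Y, i₁ (j₁ y) = i₂ (j₂ y) := fun y =>
    congrArg (fun k : Y ⟶ X => k y) hcomm
  -- the two parts
  let p : I → Prop := fun a => ξ a ∈ Set.range i₁
  have hmem2 : ∀ b : {a // ¬ p a}, ξ b.1 ∈ Set.range i₂ := by
    intro b
    have : ξ b.1 ∈ Set.range i₁ ∪ Set.range i₂ := by rw [hcov]; trivial
    exact this.resolve_left b.2
  have hlfsub : ∀ (q : I → Prop) (x : X), ∃ U : Set X, IsOpen U ∧ x ∈ U ∧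
      {a : {a // q a} | (closure {ξ a.1} ∩ U).Nonempty}.Finite := by
    intro q x
    obtain ⟨U, hU, hxU, hfin⟩ := hlf x
    exact ⟨U, hU, hxU, Set.Finite.preimage (f := Subtype.val) Subtype.val_injective.injOn hfin⟩
  obtain ⟨ε₁, hε₁, hε₁map⟩ := exists_part i₁ δ hX (I := {a // p a}) (fun a => ξ a.1)
    (fun a => r a.1) (fun a => hr a.1) n (fun a => hδξ a.1) (hlfsub p) (fun a => a.2)
  obtain ⟨ε₂, hε₂, hε₂map⟩ := exists_part i₂ δ hX (I := {a // ¬ p a}) (fun a => ξ a.1)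
    (fun a => r a.1) (fun a => hr a.1) n (fun a => hδξ a.1) (hlfsub (fun a => ¬ p a)) hmem2
  -- the sum identity
  have hfinsupp : ∀ x : X, (Function.support fun a => Cyc.divFun δ (ξ a) (r a) x).Finite := by
    intro x
    obtain ⟨U, hU, hxU, hfin⟩ := hlf x
    refine hfin.subset ?_
    intro a ha
    have hsp := specializes_of_divFun_ne_zero δ (ξ a) (r a) x ha
    exact ⟨x, specializes_iff_mem_closure.mp hsp, hxU⟩
  have hkey : ∀ x : X, (AlgebraicCycle.map i₁ (fun x => δ (i₁ x)) δ (α₁ - ε₁)) x +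
      (AlgebraicCycle.map i₂ (fun x => δ (i₂ x)) δ (α₂ - ε₂)) x = 0 := by
    intro x
    rw [Groth.Agent.Lib.Helper18.CL11.map_sub', Groth.Agent.Lib.Helper18.CL11.map_sub']
    have h1 := hsum x
    rw [finsum_split p _ (hfinsupp x), ← hε₁map x, ← hε₂map x] at h1
    have h2 : (AlgebraicCycle.map i₁ (fun x => δ (i₁ x)) δ α₁ +
        AlgebraicCycle.map i₂ (fun x => δ (i₂ x)) δ α₂) x =
        (AlgebraicCycle.map i₁ (fun x => δ (i₁ x)) δ α₁) x +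
        (AlgebraicCycle.map i₂ (fun x => δ (i₂ x)) δ α₂) x := rfl
    rw [h2] at h1
    change ((AlgebraicCycle.map i₁ (fun x => δ (i₁ x)) δ α₁) x -
      (AlgebraicCycle.map i₁ (fun x => δ (i₁ x)) δ ε₁) x) +
      ((AlgebraicCycle.map i₂ (fun x => δ (i₂ x)) δ α₂) x -
      (AlgebraicCycle.map i₂ (fun x => δ (i₂ x)) δ ε₂) x) = 0
    linarith
  set θ₁ := α₁ - ε₁ with hθ₁
  set θ₂ := α₂ - ε₂ with hθ₂
  have hk1 : ∀ w : X₁, θ₁ w + (AlgebraicCycle.map i₂ (fun x => δ (i₂ x)) δ θ₂) (i₁ w) = 0 := by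
    intro w
    have := hkey (i₁ w)
    rwa [Groth.Agent.Lib.Helper18.PullSec.map_apply_of_mem i₁ δ _ w] at this
  have hk2 : ∀ v : X₂, (AlgebraicCycle.map i₁ (fun x => δ (i₁ x)) δ θ₁) (i₂ v) + θ₂ v = 0 := by
    intro v
    have := hkey (i₂ v)
    rwa [Groth.Agent.Lib.Helper18.PullSec.map_apply_of_mem i₂ δ _ v] at this
  have hrangeY : ∀ x : X, x ∈ Set.range i₁ → x ∈ Set.range i₂ → ∃ y : Y, i₁ (j₁ y) = x := by
    intro x h1 h2
    have : x ∈ Set.range (j₁ ≫ i₁) := by rw [hY]; exact ⟨h1, h2⟩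
    obtain ⟨y, hy⟩ := this
    exact ⟨y, hy⟩
  have hinj1 : Function.Injective (i₁ : X₁ → X) := i₁.isClosedEmbedding.injective
  have hinj2 : Function.Injective (i₂ : X₂ → X) := i₂.isClosedEmbedding.injective
  -- supports
  have hs1 : ∀ w : X₁, θ₁ w ≠ 0 → w ∈ Set.range (j₁ : Y → X₁) := by
    intro w hw
    have h2 : i₁ w ∈ Set.range i₂ := by
      by_contra hn
      have := hk1 w
      rw [Groth.Agent.Lib.Helper18.PullSec.map_apply_of_notMem i₂ δ _ _ hn, add_zero] at this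
      exact hw this
    obtain ⟨y, hy⟩ := hrangeY (i₁ w) ⟨w, rfl⟩ h2
    exact ⟨y, hinj1 hy⟩
  have hs2 : ∀ v : X₂, θ₂ v ≠ 0 → v ∈ Set.range (j₂ : Y → X₂) := by
    intro v hv
    have h1 : i₂ v ∈ Set.range i₁ := by
      by_contra hn
      have := hk2 v
      rw [Groth.Agent.Lib.Helper18.PullSec.map_apply_of_notMem i₁ δ _ _ hn, zero_add] at this
      exact hv this
    obtain ⟨y, hy⟩ := hrangeY (i₂ v) h1 ⟨v, rfl⟩
    refine ⟨y, hinj2 ?_⟩
    rw [← hpt y, hy]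
  -- the cycle on `Y`
  let γ := restrict j₁ θ₁
  have hA : AlgebraicCycle.map j₁ (fun y => δ (i₁ (j₁ y))) (fun x => δ (i₁ x)) γ = θ₁ := by
    ext w
    by_cases hw : w ∈ Set.range (j₁ : Y → X₁)
    · obtain ⟨y, rfl⟩ := hw
      rw [map_apply_of_mem' j₁ (fun y => δ (i₁ (j₁ y))) (fun x => δ (i₁ x)) (fun _ => rfl) γ y]
      rfl
    · rw [map_apply_of_notMem' j₁ (fun y => δ (i₁ (j₁ y))) (fun x => δ (i₁ x)) (fun _ => rfl) γ w hw]
      by_contra hne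
      exact hw (hs1 w (Ne.symm hne))
  have hB : AlgebraicCycle.map j₂ (fun y => δ (i₁ (j₁ y))) (fun x => δ (i₂ x)) γ = -θ₂ := by
    ext v
    change _ = -(θ₂ v)
    by_cases hv : v ∈ Set.range (j₂ : Y → X₂)
    · obtain ⟨y, rfl⟩ := hv
      rw [map_apply_of_mem' j₂ (fun y => δ (i₁ (j₁ y))) (fun x => δ (i₂ x)) (fun y => by rw [hpt y]) γ y]
      change θ₁ (j₁ y) = _
      have := hk2 (j₂ y)
      rw [← hpt y, Groth.Agent.Lib.Helper18.PullSec.map_apply_of_mem i₁ δ _ (j₁ y)] at this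
      linarith
    · rw [map_apply_of_notMem' j₂ (fun y => δ (i₁ (j₁ y))) (fun x => δ (i₂ x)) (fun y => by rw [hpt y]) γ v hv]
      have : θ₂ v = 0 := by
        by_contra hne
        exact hv (hs2 v hne)
      rw [this, neg_zero]
  have hε₁Z := mem_Zk_of_ratEquivZero (fun x => δ (i₁ x)) n ε₁ hε₁
  refine ⟨γ, ?_, ?_, ?_⟩
  · intro y hy
    change θ₁ (j₁ y) = 0
    rw [hθ₁]
    change α₁ (j₁ y) - ε₁ (j₁ y) = 0
    rw [hα₁ (j₁ y) hy, hε₁Z (j₁ y) hy, sub_zero]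
  · unfold Cyc.RatEquiv
    rw [hA, hθ₁, sub_sub_cancel]
    exact hε₁
  · unfold Cyc.RatEquiv
    rw [hB, neg_neg, hθ₂, sub_sub_cancel]
    exact hε₂

end Groth.Agent.Lib.Helper18.MV2
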