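import Mathlib
import Groth.Prelude.Def_CAlg
import Groth.Prelude.Def_EGA4b
import Groth.Agent.Lib.Helper18.NFlat4

set_option autoImplicit false
set_option linter.unusedSectionVars false
set_option linter.style.haveILetI false
universe u

open IsLocalRing

namespace Groth.Agent.Lib.Helper18.NFlat

open Groth.Agent.Lib.Helper18.CM

section nilp

variable {A : Type u} [CommRing A] (I : Ideal A)
  (M : Type u) [AddCommGroup M] [Module A M]

/-- The submodule `I • ⊤` of `↥(I^n • ⊤)` is isomorphic to `↥(I^(n+1) • ⊤)`. -/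
noncomputable def smulTopEquiv (n : ℕ) :
    ↥(I • (⊤ : Submodule A ↥(I ^ n • (⊤ : Submodule A M)))) ≃ₗ[A]
      ↥(I ^ (n + 1) • (⊤ : Submodule A M)) :=
  (Submodule.equivMapOfInjective (I ^ n • (⊤ : Submodule A M)).subtype
    (Submodule.injective_subtype _) _).trans
    (LinearEquiv.ofEq _ _ (by
      rw [Submodule.map_smul'', Submodule.map_subtype_top, ← Submodule.mul_smul, ← pow_succ']))

/-- `↥(I^0 • ⊤) ≃ M` -/
noncomputable def powZeroEquiv : ↥(I ^ 0 • (⊤ : Submodule A M)) ≃ₗ[A] M :=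
  (LinearEquiv.ofEq _ _ (by rw [pow_zero, Ideal.one_eq_top, Submodule.top_smul])).trans
    Submodule.topEquiv

variable [IsNoetherianRing A] [IsLocalRing A] [Module.Finite A M]

theorem good_piece (hI : I ≠ ⊤) (n : ℕ)
    (hflat : Module.Flat (A ⧸ I) (↥(I ^ n • (⊤ : Submodule A M)) ⧸
      (I • (⊤ : Submodule A ↥(I ^ n • (⊤ : Submodule A M)))))) :
    Good (R := A) (LocCoh.depth A (A ⧸ I)) (↥(I ^ n • (⊤ : Submodule A M)) ⧸
      (I • (⊤ : Submodule A ↥(I ^ n • (⊤ : Submodule A M))))) := by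
  haveI : Nontrivial (A ⧸ I) := Ideal.Quotient.nontrivial_iff.mpr hI
  haveI : IsLocalRing (A ⧸ I) :=
    IsLocalRing.of_surjective' (Ideal.Quotient.mk I) Ideal.Quotient.mk_surjective
  haveI : Module.Finite (A ⧸ I) (↥(I ^ n • (⊤ : Submodule A M)) ⧸
      (I • (⊤ : Submodule A ↥(I ^ n • (⊤ : Submodule A M))))) :=
    Module.Finite.of_restrictScalars_finite A (A ⧸ I) _
  haveI : Module.Free (A ⧸ I) (↥(I ^ n • (⊤ : Submodule A M)) ⧸
      (I • (⊤ : Submodule A ↥(I ^ n • (⊤ : Submodule A M))))) :=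
    Module.free_of_flat_of_isLocalRing
  have hd : LocCoh.depth A (A ⧸ I) ≠ ⊤ := depth_ne_top (A ⧸ I)
  let b := Module.Free.chooseBasis (A ⧸ I) (↥(I ^ n • (⊤ : Submodule A M)) ⧸
      (I • (⊤ : Submodule A ↥(I ^ n • (⊤ : Submodule A M)))))
  let e := (b.reindex (Fintype.equivFin _)).equivFun
  exact good_congr (e.restrictScalars A).symm (good_pi_fin hd (A ⧸ I) (Or.inr rfl) _)

theorem good_pow (hI : I ≠ ⊤) (hnil : IsNilpotent I) (hM : EGA4.IsNormallyFlat I M) (n : ℕ) :
    Good (R := A) (LocCoh.depth A (A ⧸ I)) ↥(I ^ n • (⊤ : Submodule A M)) := by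
  haveI : Nontrivial (A ⧸ I) := Ideal.Quotient.nontrivial_iff.mpr hI
  have hd : LocCoh.depth A (A ⧸ I) ≠ ⊤ := depth_ne_top (A ⧸ I)
  obtain ⟨k, hk⟩ := hnil
  have hbig : ∀ n, k ≤ n → Good (R := A) (LocCoh.depth A (A ⧸ I))
      ↥(I ^ n • (⊤ : Submodule A M)) := by
    intro n hn
    left
    have h0 : I ^ n = ⊥ := by
      rw [eq_bot_iff, ← Ideal.zero_eq_bot, ← hk]
      exact Ideal.pow_le_pow_right hn
    rw [h0, Submodule.bot_smul]
    infer_instance
  have hstep : ∀ m n, n + m = k → Good (R := A) (LocCoh.depth A (A ⧸ I))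
      ↥(I ^ n • (⊤ : Submodule A M)) := by
    intro m
    induction m with
    | zero => intro n hn; exact hbig n (by omega)
    | succ m ih =>
      intro n hn
      have h1 := ih (n + 1) (by omega)
      have h2 := good_piece I M hI n (hM n)
      exact good_of_exact hd
        (I • (⊤ : Submodule A ↥(I ^ n • (⊤ : Submodule A M)))).subtype
        (I • (⊤ : Submodule A ↥(I ^ n • (⊤ : Submodule A M)))).mkQ
        (Submodule.injective_subtype _) (Submodule.mkQ_surjective _)
        (LinearMap.exact_subtype_mkQ _) (good_congr (smulTopEquiv I M n).symm h1) h2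
  by_cases hn : n ≤ k
  · exact hstep (k - n) n (by omega)
  · exact hbig n (by omega)

theorem depth_eq_of_isNormallyFlat [Nontrivial M] (hnil : IsNilpotent I)
    (hM : EGA4.IsNormallyFlat I M) : LocCoh.depth A M = LocCoh.depth A (A ⧸ I) := by
  have hI : I ≠ ⊤ := by
    rintro rfl
    obtain ⟨k, hk⟩ := hnil
    rw [Ideal.top_pow, Ideal.zero_eq_bot] at hk
    exact top_ne_bot hk
  rcases good_congr (powZeroEquiv I M) (good_pow I M hI hnil hM 0) with h | h
  · exact absurd h (not_subsingleton M)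
  · exact h

theorem supportDim_eq_of_isNormallyFlat [Nontrivial M] (hnil : IsNilpotent I)
    (hM : EGA4.IsNormallyFlat I M) : Module.supportDim A M = ringKrullDim (A ⧸ I) := by
  have hI : I ≠ ⊤ := by
    rintro rfl
    obtain ⟨k, hk⟩ := hnil
    rw [Ideal.top_pow, Ideal.zero_eq_bot] at hk
    exact top_ne_bot hk
  haveI : Nontrivial (A ⧸ I) := Ideal.Quotient.nontrivial_iff.mpr hI
  haveI : IsLocalRing (A ⧸ I) :=
    IsLocalRing.of_surjective' (Ideal.Quotient.mk I) Ideal.Quotient.mk_surjective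
  haveI : Nontrivial ↥(I ^ 0 • (⊤ : Submodule A M)) :=
    (powZeroEquiv I M).toEquiv.nontrivial
  haveI hQ0 : Nontrivial (↥(I ^ 0 • (⊤ : Submodule A M)) ⧸
      (I • (⊤ : Submodule A ↥(I ^ 0 • (⊤ : Submodule A M))))) := by
    rw [Submodule.Quotient.nontrivial_iff]
    exact (Submodule.top_ne_ideal_smul_of_le_jacobson_annihilator
      ((IsLocalRing.le_maximalIdeal hI).trans (IsLocalRing.maximalIdeal_le_jacobson _))).symm
  haveI : Module.Finite (A ⧸ I) (↥(I ^ 0 • (⊤ : Submodule A M)) ⧸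
      (I • (⊤ : Submodule A ↥(I ^ 0 • (⊤ : Submodule A M))))) :=
    Module.Finite.of_restrictScalars_finite A (A ⧸ I) _
  haveI : Module.Flat (A ⧸ I) (↥(I ^ 0 • (⊤ : Submodule A M)) ⧸
      (I • (⊤ : Submodule A ↥(I ^ 0 • (⊤ : Submodule A M))))) := hM 0
  haveI : Module.Free (A ⧸ I) (↥(I ^ 0 • (⊤ : Submodule A M)) ⧸
      (I • (⊤ : Submodule A ↥(I ^ 0 • (⊤ : Submodule A M))))) :=
    Module.free_of_flat_of_isLocalRing
  have hann : Module.annihilator A M ≤ I := by
    intro a ha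
    rw [← Ideal.Quotient.eq_zero_iff_mem]
    refine FaithfulSMul.eq_of_smul_eq_smul (α := (↥(I ^ 0 • (⊤ : Submodule A M)) ⧸
      (I • (⊤ : Submodule A ↥(I ^ 0 • (⊤ : Submodule A M)))))) (fun q => ?_)
    obtain ⟨x, rfl⟩ := Submodule.Quotient.mk_surjective _ q
    rw [zero_smul, ← Ideal.Quotient.algebraMap_eq, algebraMap_smul, ← Submodule.Quotient.mk_smul]
    have : a • x = 0 := Subtype.ext (by
      rw [Submodule.coe_smul, Submodule.coe_zero]
      exact Module.mem_annihilator.mp ha _)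
    rw [this, Submodule.Quotient.mk_zero]
  have hle : ∀ p : PrimeSpectrum A, I ≤ p.asIdeal := by
    intro p
    obtain ⟨k, hk⟩ := hnil
    refine Ideal.IsPrime.le_of_pow_le (n := k) ?_
    rw [hk, Ideal.zero_eq_bot]
    exact bot_le
  have h1 : Module.support A M = Set.univ := by
    ext p
    simp only [Set.mem_univ, iff_true]
    rw [Module.mem_support_iff_of_finite]
    exact hann.trans (hle p)
  have h2 : PrimeSpectrum.zeroLocus (I : Set A) = Set.univ := by
    ext p
    simp only [Set.mem_univ, iff_true, PrimeSpectrum.mem_zeroLocus, SetLike.coe_subset_coe]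
    exact hle p
  rw [Module.supportDim, h1, ringKrullDim_quotient, h2]

end nilp

end Groth.Agent.Lib.Helper18.NFlat
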