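import Mathlib
import Groth.Prelude.Def_SGA6
import Groth.Prelude.Def_FlatMod2
import Groth.Agent.Lib.Helper18.NP2
import Groth.Agent.Lib.Helper18.NP3
import Groth.Agent.Lib.Helper18.AD3

/-! # `[V] ⊗ (-) - r` is nilpotent on `K₀(Coh W)` (helper18) -/

set_option autoImplicit false
universe u

open CategoryTheory CategoryTheory.Limits AlgebraicGeometry TopologicalSpace Opposite Function
open Groth.Agent.Lib.Helper29.QCoh
open Groth.Agent.Lib.Helper12.H12ModGlue
open Groth.Agent.Lib.Helper12.H12Dev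
open Groth.Agent.Lib.Helper18
open Groth.Agent.Lib.Helper28.DCohRes
open Groth.Agent.Lib.Helper28.PerfTensor

namespace Groth.Agent.Lib.Helper18.NP4

open NP2

variable {W : Scheme.{u}} [IsNoetherian W]

theorem sigma_coh (M : W.Modules) (hM : Coh.IsCoh M) (r : ℕ) :
    Coh.IsCoh (∐ fun _ : Fin r => M) ∧
      KZero.clSub (fun M : W.Modules => Coh.IsCoh M) (∐ fun _ : Fin r => M) =
        r • KZero.clSub (fun M : W.Modules => Coh.IsCoh M) M :=
  NP3.sigma_const (fun M : W.Modules => Coh.IsCoh M) (fun e h => isCoh_of_iso e h)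
    (fun M h => isCoh_of_isZero M h) isCoh_biprod M hM r

theorem sigma_van (O : W.Opens) (M : W.Modules) (hM : Van O M) (r : ℕ) :
    Van O (∐ fun _ : Fin r => M) := by
  by_contra hcon
  -- use `sigma_const` with the property `Van O`; the class statement is irrelevant
  exact hcon (NP3.sigma_const (Van O) (fun e h => van_of_iso e h)
    (fun M h => van_of_isZero h) van_biprod M hM r).1

/-- restriction of `V ⊗ M` to an open trivializing `V` -/
noncomputable def resIso (r : ℕ) (V M : W.Modules) (U : W.Opens)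
    (e : V.restrict U.ι ≅ FlatMod.freeMod (↑U) r) :
    (((DCoh.tensorBi (X := W)).obj V).obj M).restrict U.ι ≅
      (∐ fun _ : Fin r => M).restrict U.ι :=
  restrictTensorIso' U.ι V M ≪≫ ((DCoh.tensorBi (X := (U : Scheme.{u}))).mapIso e).app _ ≪≫
    freeTensorIso r (M.restrict U.ι) ≪≫
    (PreservesCoproduct.iso (Scheme.Modules.restrictFunctor U.ι) (fun _ : Fin r => M)).symm

section

variable (r : ℕ) (V : W.Modules)
  [((DCoh.tensorBi (X := W)).obj V).Additive]
  [PreservesFiniteLimits ((DCoh.tensorBi (X := W)).obj V)]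
  [PreservesFiniteColimits ((DCoh.tensorBi (X := W)).obj V)]
  (hVc : ∀ M : W.Modules, Coh.IsCoh M → Coh.IsCoh (((DCoh.tensorBi (X := W)).obj V).obj M))

/-- the endomorphism `[V] ⊗ (-) - r` of `K₀(Coh W)` -/
noncomputable def N : SGA6.Kcoh W →+ SGA6.Kcoh W :=
  SGA6.mapSub ((DCoh.tensorBi (X := W)).obj V) (fun M : W.Modules => Coh.IsCoh M)
    (fun M : W.Modules => Coh.IsCoh M) hVc - r • AddMonoidHom.id (SGA6.Kcoh W)

theorem step (O U : W.Opens) (e : V.restrict U.ι ≅ FlatMod.freeMod (↑U) r)
    (y : SGA6.Kcoh W) (hy : y ∈ G O) : N r V hVc y ∈ G (O ⊔ U) := by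
  unfold G at hy
  induction hy using AddSubgroup.closure_induction with
  | mem c hc =>
    obtain ⟨M, hM, hv, rfl⟩ := hc
    have h1 : N r V hVc (KZero.clSub (fun M : W.Modules => Coh.IsCoh M) M) =
        KZero.clSub (fun M : W.Modules => Coh.IsCoh M) (((DCoh.tensorBi (X := W)).obj V).obj M) -
          KZero.clSub (fun M : W.Modules => Coh.IsCoh M) (∐ fun _ : Fin r => M) := by
      rw [(sigma_coh M hM r).2]
      unfold N
      rw [AddMonoidHom.sub_apply, AddMonoidHom.smul_apply, AddMonoidHom.id_apply,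
        AD3.mapSub_clSub _ _ _ hVc hM]
    rw [h1]
    exact sub_mem_G O U (hVc M hM) (sigma_coh M hM r).1 (van_tensor V M hv)
      (sigma_van O M hv r) (resIso r V M U e)
  | zero => rw [map_zero]; exact (G (O ⊔ U)).zero_mem
  | add a b _ _ ha hb => rw [map_add]; exact (G (O ⊔ U)).add_mem ha hb
  | neg a _ ha => rw [map_neg]; exact (G (O ⊔ U)).neg_mem ha

theorem main (hV : FlatMod.IsFinLocFreeOfRank r V) :
    ∃ n : ℕ, ∀ y : SGA6.Kcoh W, (⇑(N r V hVc))^[n] y = 0 := by
  classical
  choose U hxU hU using hV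
  obtain ⟨s, hs⟩ := isCompact_univ.elim_finite_subcover (fun x : W => ((U x : W.Opens) : Set W))
    (fun x => (U x).2) (fun x _ => Set.mem_iUnion.2 ⟨x, hxU x⟩)
  have key : ∀ t : Finset W, ∀ y : SGA6.Kcoh W, (⇑(N r V hVc))^[t.card] y ∈ G (t.sup U) := by
    intro t
    induction t using Finset.induction_on with
    | empty => intro y; simpa using mem_G_bot y
    | insert a t ha ih =>
      intro y
      rw [Finset.card_insert_of_notMem ha, Function.iterate_succ_apply', Finset.sup_insert,
        sup_comm]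
      exact step r V hVc (t.sup U) (U a) (hU a).some _ (ih y)
  refine ⟨s.card, fun y => ?_⟩
  have htop : s.sup U = ⊤ := by
    rw [eq_top_iff]
    intro x _
    have hx := hs (Set.mem_univ x)
    simp only [Set.mem_iUnion] at hx
    obtain ⟨a, ha, hxa⟩ := hx
    exact (Finset.le_sup (f := U) ha) hxa
  have h1 := key s y
  rw [htop] at h1
  exact eq_zero_of_mem_G_top h1

end

end Groth.Agent.Lib.Helper18.NP4
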