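import Mathlib
import Groth.Prelude.Def_Bivar2
import Groth.Agent.Lib.Helper18.OC1
import Groth.Agent.S1926
import Groth.Agent.S6466
import Groth.Agent.Lib.Helper18.FlatPullC1
import Groth.Agent.Lib.Helper18.RelDimShift
import Groth.Agent.Lib.Helper18.SetupLft
import Groth.Agent.Lib.Helper18.SubCyc
import Groth.Agent.Lib.Helper18.KF17
import Groth.Agent.Lib.Helper18.ClImm

/-!
# The first Chern class as an operational class
-/

set_option autoImplicit false
set_option linter.unusedSectionVars false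
set_option linter.style.haveILetI false
universe u
open AlgebraicGeometry CategoryTheory TopologicalSpace Limits

namespace Groth.Agent.Lib.Helper18.OC2

open Groth.Agent.Lib.Helper18.FF8 Groth.Agent.Lib.Helper18.OC1

variable {X : Scheme.{u}} {δX : X → ℤ} (hX : Cyc.IsSetup X δX) {L : X.Modules}
  (hL : PicF.IsInvertible L) (s : Bivar.OSq X δX)

include hX in
theorem isSetup : Cyc.IsSetup s.Y s.δ :=
  haveI := s.lft
  Groth.Agent.Lib.Helper18.SetupLft.isSetup_of_locallyOfFiniteType s.g δX hX s.δ s.compat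

include hL in
theorem inv : PicF.IsInvertible ((Scheme.Modules.pullback s.g).obj L) :=
  Groth.Agent.Lib.Helper29.QCoh.isInvertible_pullback s.g hL

/-- the operation on a test scheme -/
noncomputable def sop (k : ℤ) : ChowOps.CH s.Y s.δ k →+ ChowOps.CH s.Y s.δ (k - 1) :=
  OC1.op s.δ (isSetup hX s) (inv hL s) k

variable (t : Bivar.OSq X δX)

theorem push_ok (h : t.Y ⟶ s.Y) [IsProper h] (w : h ≫ s.g = t.g) (k : ℤ) :
    Bivar.PushOK t.δ t.δ s.δ s.δ h h (sop hX hL t k) (sop hX hL s k) := by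
  intro α hα
  have hs := isSetup hX s
  have ht := isSetup hX t
  have hMs := inv hL s
  have hMt := inv hL t
  refine ⟨capCycle t.δ ht hMt α, capCycle_mem t.δ ht hMt k α hα, op_cl t.δ ht hMt k α hα, ?_⟩
  have hh : Cyc.DeltaCompat h t.δ s.δ :=
    deltaCompat_cancel h s.g t.δ s.δ δX (w ▸ t.compat) s.compat
  change OC1.op s.δ hs hMs k _ = _
  rw [op_cl]
  symm
  apply Groth.Agent.Lib.Helper18.FF11.cl_eq_of_ratEquiv
  let e : (Scheme.Modules.pullback h).obj ((Scheme.Modules.pullback s.g).obj L) ≅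
      (Scheme.Modules.pullback t.g).obj L :=
    (Scheme.Modules.pullbackComp h s.g).app L ≪≫ (Scheme.Modules.pullbackCongr w).app L
  have hMh : PicF.IsInvertible
      ((Scheme.Modules.pullback h).obj ((Scheme.Modules.pullback s.g).obj L)) :=
    Groth.Agent.Lib.Helper29.QCoh.isInvertible_pullback h hMs
  have hα' : α ∈ Cyc.Zk t.Y t.δ (k - 1 + 1) := by rwa [sub_add_cancel]
  exact Groth.Agent.S1926.result t.Y s.Y t.δ s.δ ht hs h hh
    ((Scheme.Modules.pullback s.g).obj L) hMs (k - 1) α hα'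
    (fun ξ => Groth.Agent.Lib.Helper18.BV2.fibreMap e.symm ξ (sec hMt ξ))
    (fun ξ => Groth.Agent.Lib.Helper18.BV2.fibreMap_ne_zero e.symm hMt hMh ξ _ (sec_ne_zero hMt ξ))
    (sec hMs) (sec_ne_zero hMs) (capCycle t.δ ht hMt α)
    (by
      rw [Groth.Agent.Lib.Helper18.BV2.c1CapFun_iso e.symm t.δ ht hMt hMh ⇑α (sec hMt)
        (sec_ne_zero hMt)]
      rfl)
    (capCycle s.δ hs hMs (AlgebraicCycle.map h t.δ s.δ α)) rfl

theorem pull_ok (h : t.Y ⟶ s.Y) [Flat h] (r : ℕ) (hr : Cyc.HasRelDim h r) (w : h ≫ s.g = t.g)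
    (k : ℤ) :
    Bivar.PullOK s.δ s.δ t.δ t.δ h h (r : ℤ) (sop hX hL s k) (sop hX hL t (k + r)) := by
  intro α hα
  have hs := isSetup hX s
  have ht := isSetup hX t
  have hMs := inv hL s
  have hMt := inv hL t
  refine ⟨capCycle s.δ hs hMs α, capCycle_mem s.δ hs hMs k α hα, op_cl s.δ hs hMs k α hα, ?_⟩
  intro α₁ hα₁c hα₁
  haveI : LocallyOfFiniteType (h ≫ s.g) := by rw [w]; exact t.lft
  haveI := s.lft
  haveI : LocallyOfFiniteType h := locallyOfFiniteType_of_comp h s.g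
  have hh : Cyc.DeltaCompat h t.δ s.δ :=
    deltaCompat_cancel h s.g t.δ s.δ δX (w ▸ t.compat) s.compat
  have hshift : ∀ x' : t.Y, (∀ y, h y = h x' → y ⤳ x' → y = x') →
      t.δ x' = s.δ (h x') + (r : ℤ) := fun x' hmax =>
    Groth.Agent.Lib.Helper18.RelDimShift.shift_of_hasRelDim h t.δ s.δ r hr hh x' hmax
  set β₁ := Groth.Agent.Lib.Helper18.FlatPullC1.pullCycle h s.δ t.δ ht (r : ℤ) hshift
    (capCycle s.δ hs hMs α) with hβ₁def
  have hβ₁ : β₁ ∈ Cyc.Zk t.Y t.δ (k + r - 1) := by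
    have := Bivar.pullFun_mem_Zk h t.δ s.δ (r : ℤ) (k - 1) (capCycle_mem s.δ hs hMs k α hα) β₁ rfl
    have e : k - 1 + (r : ℤ) = k + r - 1 := by ring
    rwa [e] at this
  refine ⟨β₁, hβ₁, rfl, ?_⟩
  change OC1.op t.δ ht hMt (k + r) _ = _
  rw [op_cl]
  symm
  apply Groth.Agent.Lib.Helper18.FF11.cl_eq_of_ratEquiv
  let e : (Scheme.Modules.pullback h).obj ((Scheme.Modules.pullback s.g).obj L) ≅
      (Scheme.Modules.pullback t.g).obj L :=
    (Scheme.Modules.pullbackComp h s.g).app L ≪≫ (Scheme.Modules.pullbackCongr w).app L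
  have hMh : PicF.IsInvertible
      ((Scheme.Modules.pullback h).obj ((Scheme.Modules.pullback s.g).obj L)) :=
    Groth.Agent.Lib.Helper29.QCoh.isInvertible_pullback h hMs
  exact Groth.Agent.Lib.Helper18.FlatPullC1.c1Cap_pull h s.δ t.δ hs ht (r : ℤ) hshift
    ((Scheme.Modules.pullback s.g).obj L) hMs k α hα (sec hMs) (sec_ne_zero hMs)
    (fun ξ => Groth.Agent.Lib.Helper18.BV2.fibreMap e.symm ξ (sec hMt ξ))
    (fun ξ => Groth.Agent.Lib.Helper18.BV2.fibreMap_ne_zero e.symm hMt hMh ξ _ (sec_ne_zero hMt ξ))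
    β₁ (capCycle t.δ ht hMt α₁) rfl
    (by
      rw [Groth.Agent.Lib.Helper18.BV2.c1CapFun_iso e.symm t.δ ht hMt hMh _ (sec hMt)
        (sec_ne_zero hMt), ← hα₁c]
      rfl)

theorem gysin_ok (i : t.Y ⟶ s.Y) [IsClosedImmersion i] (w : i ≫ s.g = t.g) (N : s.Y.Modules)
    (hN : PicF.IsInvertible N) (σ : N.presheaf.obj (Opposite.op ⊤))
    (hσ : Cyc.IsZeroSchemeOf i N σ) (k : ℤ) :
    Bivar.GysinOK₁ s.δ t.δ i N σ (sop hX hL s k) (sop hX hL t (k - 1)) := by
  intro α hα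
  have hs := isSetup hX s
  have ht := isSetup hX t
  have hMs := inv hL s
  have hMt := inv hL t
  refine ⟨capCycle s.δ hs hMs α, capCycle_mem s.δ hs hMs k α hα, op_cl s.δ hs hMs k α hα, ?_⟩
  intro w' hw' γ hγc hγ
  have eδ : t.δ = fun d => s.δ (i d) :=
    deltaCompat_unique i _ _ s.δ (deltaCompat_cancel i s.g t.δ s.δ δX (w ▸ t.compat) s.compat)
      (Groth.Agent.Lib.Helper18.ClImm.deltaCompat i s.δ)
  set Γ := Groth.Agent.Lib.Helper18.KF21.c1CapCycle s.δ hs hN (capCycle s.δ hs hMs α)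
    (Cyc.gysinChoice N σ w') (Groth.Agent.Lib.Helper18.KF17.gysinChoice_ne_zero σ w' hw') with hΓ
  have hζmem : Groth.Agent.Lib.Helper18.SubCyc.comapCycle i Γ ∈ Cyc.Zk t.Y t.δ (k - 1 - 1) := by
    intro z hz
    by_contra hne
    apply hz
    rw [eδ]
    have hne' : Cyc.c1CapFun s.δ N ⇑(capCycle s.δ hs hMs α) (Cyc.gysinChoice N σ w') (i z) ≠ 0 :=
      hne
    refine Groth.Agent.Lib.Helper18.KF21.c1Cap_mem_Zk s.δ (k - 1 - 1) _ ?_ _ (i z) hne'
    intro η hη
    by_contra hne2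
    exact hη (capCycle_mem s.δ hs hMs k α hα η (by intro h; apply hne2; rw [h]; ring))
  refine ⟨Groth.Agent.Lib.Helper18.SubCyc.comapCycle i Γ, hζmem, fun e => rfl, ?_⟩
  change OC1.op t.δ ht hMt (k - 1) _ = _
  let e : (Scheme.Modules.pullback i).obj ((Scheme.Modules.pullback s.g).obj L) ≅
      (Scheme.Modules.pullback t.g).obj L :=
    (Scheme.Modules.pullbackComp i s.g).app L ≪≫ (Scheme.Modules.pullbackCongr w).app L
  have hMi : PicF.IsInvertible
      ((Scheme.Modules.pullback i).obj ((Scheme.Modules.pullback s.g).obj L)) :=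
    Groth.Agent.Lib.Helper29.QCoh.isInvertible_pullback i hMs
  set ζ₂ := Groth.Agent.Lib.Helper18.KF21.c1CapCycle t.δ ht hMi γ (sec hMi) (sec_ne_zero hMi)
    with hζ₂def
  have hζ₂f : ⇑ζ₂ = Cyc.c1CapFun t.δ
      ((Scheme.Modules.pullback i).obj ((Scheme.Modules.pullback s.g).obj L)) ⇑γ (sec hMi) := rfl
  have hζ₂ : ζ₂ ∈ Cyc.Zk t.Y t.δ (k - 1 - 1) := c1Cap_mem t.δ (k - 1) γ hγ (sec hMi) ζ₂ rfl
  rw [cl_eq_of_iso t.δ ht hMt hMi e (k - 1) γ hγ (sec hMi) (sec_ne_zero hMi) ζ₂ rfl hζ₂]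
  symm
  apply Groth.Agent.Lib.Helper18.FF11.cl_eq_of_ratEquiv
  have hk : k - 1 - 1 = k - 2 := by ring
  rw [hk, eδ]
  refine Groth.Agent.S6466.result s.Y t.Y s.δ hs N ((Scheme.Modules.pullback s.g).obj L) hN hMs σ i
    hσ k α hα w' hw' (sec hMs) (sec_ne_zero hMs) (sec hMi) (sec_ne_zero hMi)
    (capCycle s.δ hs hMs α) rfl (fun d => γ d) (funext hγc)
    (Groth.Agent.Lib.Helper18.SubCyc.comapCycle i Γ) ζ₂ (fun d => rfl) ?_
  rw [hζ₂f, eδ]

/-- the first Chern class of an invertible module as an operational class -/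
noncomputable def c1Cl : Bivar.OpCl 1 X δX where
  op s k := sop hX hL s k
  push s t h _ w k := push_ok hX hL s t h w k
  pull s t h _ r hr w k := pull_ok hX hL s t h r hr w k
  gysin s t i _ w N hN σ hσ k := gysin_ok hX hL s t i w N hN σ hσ k

theorem c1Cl_isC1Class : Bivar.IsC1Class L (c1Cl hX hL) := by
  refine ⟨hL, ?_⟩
  intro s k α hα v hv γ hγf hγ
  exact op_cl_eq s.δ (isSetup hX s) (inv hL s) k α hα v hv γ hγf hγ

end Groth.Agent.Lib.Helper18.OC2
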