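import Mathlib

/-!
# Mori–Nagata in a finite extension, part 1: the ring `Ω = B ⊗[A] K'` (helper18)

`A` a domain with fraction field `K`, `K'` a finite extension of `K`, `B` a Noetherian flat
`A`-algebra. Then `Ω = B ⊗[A] K'` is Noetherian and flat over `B`; minimal primes of `Ω` contract
to minimal primes of `B`.
-/

set_option autoImplicit false
set_option linter.style.haveILetI false
set_option linter.unusedSectionVars false
universe u
open TensorProduct

namespace Groth.Agent.Lib.Helper18.Om

variable (A : Type u) [CommRing A] [IsDomain A] (K' : Type u) [Field K'] [Algebra A K']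
  [Algebra (FractionRing A) K'] [IsScalarTower A (FractionRing A) K']
  (B : Type u) [CommRing B] [Algebra A B]

theorem flat_field : Module.Flat A K' := Module.Flat.trans A (FractionRing A) K'

instance flat_Om : Module.Flat B (B ⊗[A] K') :=
  haveI := flat_field A K'
  inferInstance

/-- the map `B ⊗ K → B ⊗ K'` -/
noncomputable def omMap : B ⊗[A] FractionRing A →ₐ[B] B ⊗[A] K' :=
  Algebra.TensorProduct.map (AlgHom.id B B) (IsScalarTower.toAlgHom A (FractionRing A) K')

theorem omMap_tmul (b : B) (k : FractionRing A) :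
    omMap A K' B (b ⊗ₜ k) = b ⊗ₜ (algebraMap (FractionRing A) K' k) := by
  simp [omMap]

variable [FiniteDimensional (FractionRing A) K'] [IsNoetherianRing B]

theorem isNoetherianRing_Om0 : IsNoetherianRing (B ⊗[A] FractionRing A) :=
  IsLocalization.isNoetherianRing (Algebra.algebraMapSubmonoid B (nonZeroDivisors A)) _ inferInstance

theorem isNoetherianRing_Om : IsNoetherianRing (B ⊗[A] K') := by
  classical
  haveI := isNoetherianRing_Om0 A B
  letI : Algebra (B ⊗[A] FractionRing A) (B ⊗[A] K') := (omMap A K' B).toRingHom.toAlgebra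
  have hsmul : ∀ (z : B ⊗[A] FractionRing A) (w : B ⊗[A] K'), z • w = omMap A K' B z * w :=
    fun _ _ => rfl
  obtain ⟨n, e, he⟩ := Module.Finite.exists_fin (R := FractionRing A) (M := K')
  haveI : Module.Finite (B ⊗[A] FractionRing A) (B ⊗[A] K') := by
    refine ⟨⟨Finset.univ.image (fun i => (1 : B) ⊗ₜ[A] e i), ?_⟩⟩
    rw [eq_top_iff]
    intro z hz
    clear hz
    induction z using TensorProduct.induction_on with
    | zero => exact zero_mem _
    | add x y hx hy => exact add_mem hx hy
    | tmul b k' =>
      have hk' : k' ∈ Submodule.span (FractionRing A) (Set.range e) := by rw [he]; trivial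
      induction hk' using Submodule.span_induction with
      | mem x hx =>
        obtain ⟨i, rfl⟩ := hx
        have h1 : b ⊗ₜ[A] e i = (b ⊗ₜ[A] (1 : FractionRing A)) • ((1 : B) ⊗ₜ[A] e i) := by
          rw [hsmul, omMap_tmul, map_one, Algebra.TensorProduct.tmul_mul_tmul, mul_one, one_mul]
        rw [h1]
        refine Submodule.smul_mem _ _ (Submodule.subset_span ?_)
        simp
      | zero => rw [TensorProduct.tmul_zero]; exact zero_mem _
      | add x y _ _ hx hy => rw [TensorProduct.tmul_add]; exact add_mem hx hy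
      | smul k x _ hx =>
        have h1 : b ⊗ₜ[A] (k • x) = ((1 : B) ⊗ₜ[A] k) • (b ⊗ₜ[A] x) := by
          rw [hsmul, omMap_tmul, Algebra.TensorProduct.tmul_mul_tmul, one_mul, Algebra.smul_def]
        rw [h1]
        exact Submodule.smul_mem _ _ hx
  exact IsNoetherianRing.of_finite (B ⊗[A] FractionRing A) (B ⊗[A] K')

omit [FiniteDimensional (FractionRing A) K'] [IsNoetherianRing B] in
/-- minimal primes of `Ω` contract to minimal primes of `B` -/
theorem comap_mem_minimalPrimes (Q : Ideal (B ⊗[A] K')) (hQ : Q ∈ minimalPrimes (B ⊗[A] K')) :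
    Q.comap (algebraMap B (B ⊗[A] K')) ∈ minimalPrimes B := by
  haveI : Q.IsPrime := hQ.1.1
  refine ⟨⟨inferInstance, bot_le⟩, ?_⟩
  rintro p ⟨hp, -⟩ hpq
  by_contra hnle
  have hlt : p < Q.under B := hpq.lt_of_not_ge hnle
  obtain ⟨P, hPQ, hP, -⟩ := Ideal.exists_ideal_lt_liesOver_of_lt (p := p) (q := Q.under B) Q hlt
  exact hPQ.not_ge (hQ.2 ⟨hP, bot_le⟩ hPQ.le)

end Groth.Agent.Lib.Helper18.Om
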