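import Mathlib
import Groth.Prelude.Def_Found
import Groth.Agent.Lib.Helper18.Om1
import Groth.Agent.Lib.Helper18.MN1

/-!
# Mori–Nagata in a finite extension, part 2: finiteness of the integral closure of `B` in the
residue fields of the minimal primes of `Ω = B ⊗[A] K'` (helper18)
-/

set_option autoImplicit false
set_option linter.style.haveILetI false
set_option linter.unusedSectionVars false
universe u
open TensorProduct

namespace Groth.Agent.Lib.Helper18.Om

/-- abstract finite-dimensionality lemma -/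
theorem finiteDimensional_of_generated {F L K K' B Ω : Type*} [Field F] [Field L] [Algebra F L]
    [Field K] [Field K'] [Algebra K K'] [FiniteDimensional K K'] [CommRing B] [CommRing Ω]
    (β : B →+* Ω) (κ : K' →+* Ω) (ψ : Ω →+* L)
    (h1 : ∀ z : L, ∃ x y : Ω, z = ψ x / ψ y)
    (h2 : ∀ (z : Ω) (S : Subring L), (∀ b, ψ (β b) ∈ S) → (∀ k', ψ (κ k') ∈ S) → ψ z ∈ S)
    (h3 : ∀ b : B, ψ (β b) ∈ Set.range (algebraMap F L))
    (h4 : ∀ k : K, ψ (κ (algebraMap K K' k)) ∈ Set.range (algebraMap F L))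
    (h5 : ∀ k' : K', IsIntegral K k' → IsIntegral F (ψ (κ k'))) :
    FiniteDimensional F L := by
  obtain ⟨n, e, he⟩ := Module.Finite.exists_fin (R := K) (M := K')
  let S : Set L := Set.range (fun i => ψ (κ (e i)))
  haveI : Finite S := Set.finite_range _
  have hS : ∀ x ∈ S, IsIntegral F x := by
    rintro _ ⟨i, rfl⟩
    exact h5 _ (Algebra.IsIntegral.isIntegral (R := K) (e i))
  haveI := IntermediateField.finiteDimensional_adjoin hS
  have hκ : ∀ k', ψ (κ k') ∈ IntermediateField.adjoin F S := by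
    intro k'
    have hk' : k' ∈ Submodule.span K (Set.range e) := by rw [he]; trivial
    induction hk' using Submodule.span_induction with
    | mem x hx =>
      obtain ⟨i, rfl⟩ := hx
      exact IntermediateField.subset_adjoin F S ⟨i, rfl⟩
    | zero => rw [map_zero, map_zero]; exact zero_mem _
    | add x y _ _ hx hy => rw [map_add, map_add]; exact add_mem hx hy
    | smul k x _ hx =>
      rw [Algebra.smul_def, map_mul, map_mul]
      obtain ⟨f, hf⟩ := h4 k
      rw [← hf]
      exact mul_mem (IntermediateField.algebraMap_mem _ f) hx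
  have hβ : ∀ b, ψ (β b) ∈ IntermediateField.adjoin F S := by
    intro b
    obtain ⟨f, hf⟩ := h3 b
    rw [← hf]
    exact IntermediateField.algebraMap_mem _ f
  have htop : IntermediateField.adjoin F S = ⊤ := by
    rw [eq_top_iff]
    intro z _
    obtain ⟨x, y, rfl⟩ := h1 z
    exact div_mem (h2 x (IntermediateField.adjoin F S).toSubring hβ hκ)
      (h2 y (IntermediateField.adjoin F S).toSubring hβ hκ)
  rw [htop] at this
  exact Module.Finite.equiv (IntermediateField.topEquiv (F := F) (E := L)).toLinearEquiv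

variable (A : Type u) [CommRing A] [IsDomain A] (K' : Type u) [Field K'] [Algebra A K']
  [Algebra (FractionRing A) K'] [IsScalarTower A (FractionRing A) K']
  [FiniteDimensional (FractionRing A) K']
  (B : Type u) [CommRing B] [Algebra A B] [IsNoetherianRing B] [Module.Flat A B]

attribute [local instance] FractionRing.liftAlgebra in
/-- For a minimal prime `Q` of `Ω = B ⊗[A] K'`, the integral closure of `B` in `Frac(Ω/Q)` is a
finite `B`-module, provided `B/q` is N-2 for the minimal primes `q` of `B`. -/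
theorem fg_integralClosure
    (hJ : ∀ (q : Ideal B) [q.IsPrime], q ∈ minimalPrimes B → CAlg.IsN2 (B ⧸ q))
    (Q : Ideal (B ⊗[A] K')) [hQp : Q.IsPrime] (hQ : Q ∈ minimalPrimes (B ⊗[A] K')) :
    (Subalgebra.toSubmodule (integralClosure B (FractionRing ((B ⊗[A] K') ⧸ Q)))).FG := by
  obtain ⟨q, hq⟩ : ∃ q : Ideal B, q = Q.comap (algebraMap B (B ⊗[A] K')) := ⟨_, rfl⟩
  have hqmin : q ∈ minimalPrimes B := hq ▸ comap_mem_minimalPrimes A K' B Q hQ
  haveI hqp : q.IsPrime := hqmin.1.1
  let g : B ⧸ q →+* (B ⊗[A] K') ⧸ Q :=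
    Ideal.quotientMap Q (algebraMap B (B ⊗[A] K')) hq.le
  have hg : Function.Injective g := Ideal.quotientMap_injective' hq.ge
  letI alg1 : Algebra (B ⧸ q) (FractionRing ((B ⊗[A] K') ⧸ Q)) :=
    ((algebraMap ((B ⊗[A] K') ⧸ Q) (FractionRing ((B ⊗[A] K') ⧸ Q))).comp g).toAlgebra
  have halg1 : ∀ x : B ⧸ q, algebraMap (B ⧸ q) (FractionRing ((B ⊗[A] K') ⧸ Q)) x =
      algebraMap ((B ⊗[A] K') ⧸ Q) (FractionRing ((B ⊗[A] K') ⧸ Q)) (g x) := fun _ => rfl
  haveI : FaithfulSMul (B ⧸ q) (FractionRing ((B ⊗[A] K') ⧸ Q)) := by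
    rw [faithfulSMul_iff_algebraMap_injective]
    intro x y hxy
    rw [halg1, halg1] at hxy
    exact hg (IsFractionRing.injective ((B ⊗[A] K') ⧸ Q) _ hxy)
  haveI tower1 : IsScalarTower B (B ⧸ q) (FractionRing ((B ⊗[A] K') ⧸ Q)) := by
    refine IsScalarTower.of_algebraMap_eq (fun b => ?_)
    rw [halg1]
    rfl
  -- the maps
  let β : B →+* B ⊗[A] K' := algebraMap B (B ⊗[A] K')
  let κ : K' →+* B ⊗[A] K' :=
    (Algebra.TensorProduct.includeRight (R := A) (A := B) (B := K')).toRingHom
  let ψ : B ⊗[A] K' →+* FractionRing ((B ⊗[A] K') ⧸ Q) :=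
    (algebraMap ((B ⊗[A] K') ⧸ Q) (FractionRing ((B ⊗[A] K') ⧸ Q))).comp (Ideal.Quotient.mk Q)
  have hκ : ∀ k', κ k' = (1 : B) ⊗ₜ[A] k' := fun _ => rfl
  have hβ : ∀ b, β b = b ⊗ₜ[A] (1 : K') := fun b => by
    simp only [β, Algebra.TensorProduct.algebraMap_apply]
    rfl
  have hψβ : ∀ b : B, ψ (β b) = algebraMap (FractionRing (B ⧸ q)) (FractionRing ((B ⊗[A] K') ⧸ Q))
      (algebraMap (B ⧸ q) (FractionRing (B ⧸ q)) (Ideal.Quotient.mk q b)) := by
    intro b
    rw [← IsScalarTower.algebraMap_apply (B ⧸ q) (FractionRing (B ⧸ q)), halg1]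
    rfl
  have hκA : ∀ a : A, κ (algebraMap A K' a) = β (algebraMap A B a) := by
    intro a
    rw [hκ, hβ, Algebra.algebraMap_eq_smul_one, Algebra.algebraMap_eq_smul_one (A := B),
      TensorProduct.smul_tmul]
  have h3 : ∀ b : B, ψ (β b) ∈ Set.range (algebraMap (FractionRing (B ⧸ q))
      (FractionRing ((B ⊗[A] K') ⧸ Q))) := fun b => ⟨_, (hψβ b).symm⟩
  haveI : FiniteDimensional (FractionRing (B ⧸ q)) (FractionRing ((B ⊗[A] K') ⧸ Q)) := by
    refine finiteDimensional_of_generated (K := FractionRing A) (K' := K') β κ ψ ?_ ?_ h3 ?_ ?_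
    · intro z
      obtain ⟨x, y, -, rfl⟩ := IsFractionRing.div_surjective (A := (B ⊗[A] K') ⧸ Q) z
      obtain ⟨x, rfl⟩ := Ideal.Quotient.mk_surjective x
      obtain ⟨y, rfl⟩ := Ideal.Quotient.mk_surjective y
      exact ⟨x, y, rfl⟩
    · intro z S hb hk
      induction z using TensorProduct.induction_on with
      | zero => rw [map_zero]; exact zero_mem _
      | add x y hx hy => rw [map_add]; exact add_mem hx hy
      | tmul b k' =>
        have : b ⊗ₜ[A] k' = β b * κ k' := by
          rw [hκ, hβ, Algebra.TensorProduct.tmul_mul_tmul, mul_one, one_mul]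
        rw [this, map_mul]
        exact mul_mem (hb b) (hk k')
    · intro k
      obtain ⟨a, d, -, rfl⟩ := IsFractionRing.div_surjective (A := A) k
      have hcomp : ∀ x : K', ψ (κ x) = (ψ.comp κ) x := fun _ => rfl
      rw [hcomp, map_div₀, map_div₀, ← IsScalarTower.algebraMap_apply A (FractionRing A) K',
        ← IsScalarTower.algebraMap_apply A (FractionRing A) K', ← hcomp, ← hcomp, hκA, hκA]
      obtain ⟨f₁, hf₁⟩ := h3 (algebraMap A B a)
      obtain ⟨f₂, hf₂⟩ := h3 (algebraMap A B d)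
      exact ⟨f₁ / f₂, by rw [map_div₀, hf₁, hf₂]⟩
    · intro k' hk'
      have hinjA : Function.Injective ((algebraMap (B ⧸ q) (FractionRing (B ⧸ q))).comp
          ((Ideal.Quotient.mk q).comp (algebraMap A B))) := by
        rw [injective_iff_map_eq_zero]
        intro a ha
        by_contra ha0
        have h1 : Ideal.Quotient.mk q (algebraMap A B a) = 0 :=
          IsFractionRing.injective (B ⧸ q) (FractionRing (B ⧸ q)) (ha.trans (map_zero _).symm)
        exact Groth.Agent.Lib.Helper18.MN.algebraMap_notMem A a ha0 ⟨q, hqmin⟩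
          (Ideal.Quotient.eq_zero_iff_mem.mp h1)
      let χ : FractionRing A →+* FractionRing (B ⧸ q) := IsFractionRing.lift hinjA
      have hχ : ∀ a : A, χ (algebraMap A (FractionRing A) a) =
          algebraMap (B ⧸ q) (FractionRing (B ⧸ q)) (Ideal.Quotient.mk q (algebraMap A B a)) :=
        fun a => IsFractionRing.lift_algebraMap hinjA a
      refine IsIntegral.map_of_comp_eq χ (ψ.comp κ) ?_ hk'
      apply IsLocalization.ringHom_ext (nonZeroDivisors A)
      ext a
      simp only [RingHom.comp_apply]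
      rw [hχ, ← hψβ, ← IsScalarTower.algebraMap_apply A (FractionRing A) K', hκA]
  have hN2 : Module.Finite (B ⧸ q) (integralClosure (B ⧸ q) (FractionRing ((B ⊗[A] K') ⧸ Q))) :=
    hJ q hqmin (FractionRing ((B ⊗[A] K') ⧸ Q)) inferInstance
  haveI : Module.Finite B (integralClosure (B ⧸ q) (FractionRing ((B ⊗[A] K') ⧸ Q))) :=
    Module.Finite.trans (B ⧸ q) _
  haveI : Algebra.IsIntegral B (B ⧸ q) :=
    Algebra.isIntegral_of_surjective Ideal.Quotient.mk_surjective
  let φ : integralClosure (B ⧸ q) (FractionRing ((B ⊗[A] K') ⧸ Q)) →ₗ[B]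
      integralClosure B (FractionRing ((B ⊗[A] K') ⧸ Q)) :=
    { toFun := fun x => ⟨x.1, isIntegral_trans (R := B) (A := B ⧸ q) x.1 x.2⟩
      map_add' := fun _ _ => rfl
      map_smul' := fun _ _ => rfl }
  have hφ : Function.Surjective φ := fun x => ⟨⟨x.1, x.2.tower_top⟩, rfl⟩
  haveI : Module.Finite B (integralClosure B (FractionRing ((B ⊗[A] K') ⧸ Q))) :=
    Module.Finite.of_surjective φ hφ
  exact Module.Finite.iff_fg.mp ‹_›

end Groth.Agent.Lib.Helper18.Om
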