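import Mathlib
import Groth.Agent.Lib.Helper18.Om2

/-!
# Mori–Nagata in a finite extension, part 3: the maps `B ⊗[A] C → ∏ Frac(Ω/Q)` (helper18)
-/

set_option autoImplicit false
set_option linter.style.haveILetI false
set_option linter.unusedSectionVars false
universe u
open TensorProduct

namespace Groth.Agent.Lib.Helper18.Om

open Groth.Agent.Lib.Helper18.MN

variable (A : Type u) [CommRing A] [IsDomain A] (K' : Type u) [Field K'] [Algebra A K']
  (B : Type u) [CommRing B] [Algebra A B] [Module.Flat A B] [IsNoetherianRing (B ⊗[A] K')]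

/-- the `B`-algebra map `Ω → ∏ Frac(Ω/Q)` -/
noncomputable def τ' : B ⊗[A] K' →ₐ[B] T (B ⊗[A] K') :=
  IsScalarTower.toAlgHom B (B ⊗[A] K') (T (B ⊗[A] K'))

theorem τ'_apply (z : B ⊗[A] K') : τ' A K' B z = algebraMap (B ⊗[A] K') (T (B ⊗[A] K')) z := rfl

theorem isNilpotent_of_τ'_eq_zero (z : B ⊗[A] K') (hz : τ' A K' B z = 0) : IsNilpotent z :=
  isNilpotent_of_forall_mem _ z ((τ_eq_zero_iff _ z).mp hz)

variable {A K'} in
/-- the map `B ⊗ C → Ω` -/
noncomputable def jC (C : Subalgebra A K') : B ⊗[A] C →ₐ[B] B ⊗[A] K' :=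
  Algebra.TensorProduct.map (AlgHom.id B B) C.val

variable {A K'} in
theorem jC_injective (C : Subalgebra A K') : Function.Injective (jC B C) := by
  have h1 := Module.Flat.lTensor_preserves_injective_linearMap (M := B) C.val.toLinearMap
    Subtype.val_injective
  have h2 : ⇑(jC B C) = ⇑(LinearMap.lTensor B C.val.toLinearMap) := by
    ext e
    induction e using TensorProduct.induction_on with
    | zero => simp
    | tmul c a => simp [jC]
    | add x y hx hy => rw [map_add, map_add, hx, hy]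
  rw [h2]
  exact h1

variable {A K'} in
/-- the map `B ⊗ C → ∏ Frac(Ω/Q)` -/
noncomputable def Θ (C : Subalgebra A K') : B ⊗[A] C →ₐ[B] T (B ⊗[A] K') :=
  (τ' A K' B).comp (jC B C)

variable {A K'} in
theorem Θ_tmul (C : Subalgebra A K') (b : B) (c : C) :
    Θ B C (b ⊗ₜ c) = b • τ' A K' B ((1 : B) ⊗ₜ[A] (c : K')) := by
  rw [← map_smul]
  simp [Θ, jC, TensorProduct.smul_tmul']

variable {A K'} in
theorem isNilpotent_of_Θ_eq_zero (C : Subalgebra A K') (z : B ⊗[A] C) (hz : Θ B C z = 0) :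
    IsNilpotent z := by
  have h1 : τ' A K' B (jC B C z) = 0 := hz
  obtain ⟨n, hn⟩ := isNilpotent_of_τ'_eq_zero A K' B _ h1
  refine ⟨n, jC_injective B C ?_⟩
  rw [map_pow, hn, map_zero]

variable {A K'} in
theorem Θ_comp_inclusion {C C' : Subalgebra A K'} (hle : C ≤ C') (x : B ⊗[A] C) :
    Θ B C' (Algebra.TensorProduct.map (AlgHom.id B B) (Subalgebra.inclusion hle) x) = Θ B C x := by
  induction x using TensorProduct.induction_on with
  | zero => simp
  | tmul b c => simp [Θ, jC]
  | add x y hx hy => rw [map_add, map_add, map_add, hx, hy]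

/-- the `B`-module `∏ (integral closure of B in Frac(Ω/Q))` -/
def Dmod : Submodule B (T (B ⊗[A] K')) :=
  Submodule.pi Set.univ fun i => Subalgebra.toSubmodule (integralClosure B (Kq (B ⊗[A] K') i))

variable {A K'} in
theorem τ'_one_tmul_mem_Dmod (c : K') (hc : IsIntegral A c) :
    τ' A K' B ((1 : B) ⊗ₜ[A] c) ∈ Dmod A K' B := by
  rw [Dmod, Submodule.mem_pi]
  intro i _
  have h1 : IsIntegral A ((1 : B) ⊗ₜ[A] c) :=
    hc.map (Algebra.TensorProduct.includeRight (R := A) (A := B) (B := K'))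
  have h2 : IsIntegral B ((1 : B) ⊗ₜ[A] c) := h1.tower_top
  have h3 : IsIntegral B (τ' A K' B ((1 : B) ⊗ₜ[A] c)) := h2.map (τ' A K' B)
  exact h3.map (Pi.evalAlgHom B (Kq (B ⊗[A] K')) i)

end Groth.Agent.Lib.Helper18.Om
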