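import Mathlib
import Groth.Agent.Lib.Helper18.Om3

/-!
# Mori–Nagata in a finite extension, part 4: the finite subalgebra `C_α` (helper18)
-/

set_option autoImplicit false
set_option linter.style.haveILetI false
set_option linter.unusedSectionVars false
universe u
open TensorProduct

namespace Groth.Agent.Lib.Helper18.Om

open Groth.Agent.Lib.Helper18.MN

variable (A : Type u) [CommRing A] [IsDomain A] (K' : Type u) [Field K'] [Algebra A K']
  [Algebra (FractionRing A) K'] [IsScalarTower A (FractionRing A) K']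
  [FiniteDimensional (FractionRing A) K']
  (B : Type u) [CommRing B] [Algebra A B] [IsNoetherianRing B] [Module.Flat A B]

theorem Dmod_fg [IsNoetherianRing (B ⊗[A] K')]
    (hJ : ∀ (q : Ideal B) [q.IsPrime], q ∈ minimalPrimes B → CAlg.IsN2 (B ⧸ q)) :
    (Dmod A K' B).FG := by
  apply Submodule.fg_pi
  intro i
  exact fg_integralClosure A K' B hJ i.1 i.2

/-- There is a subalgebra `C_α ⊆ K'`, finite over `A` with fraction field `K'`, such that for every
integral subalgebra `C ⊇ C_α` the map `B ⊗ C_α → B ⊗ C` is surjective modulo nilpotents. -/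
theorem exists_Cα
    (hJ : ∀ (q : Ideal B) [q.IsPrime], q ∈ minimalPrimes B → CAlg.IsN2 (B ⧸ q)) :
    ∃ Cα : Subalgebra A K', Module.Finite A Cα ∧
      (∀ x : K', ∃ a b : Cα, (b : K') ≠ 0 ∧ x * b = a) ∧
      ∀ C : Subalgebra A K', (∀ c : C, IsIntegral A (c : K')) → ∀ hle : Cα ≤ C,
        ∀ y : B ⊗[A] C, ∃ x : B ⊗[A] Cα, IsNilpotent
          (Algebra.TensorProduct.map (AlgHom.id B B) (Subalgebra.inclusion hle) x - y) := by
  classical
  haveI := isNoetherianRing_Om A K' B
  let f : {c : K' // IsIntegral A c} → T (B ⊗[A] K') := fun c => τ' A K' B ((1 : B) ⊗ₜ[A] c.1)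
  let E : Submodule B (T (B ⊗[A] K')) := Submodule.span B (Set.range f)
  have hE : E ≤ Dmod A K' B := by
    rw [Submodule.span_le]
    rintro _ ⟨c, rfl⟩
    exact τ'_one_tmul_mem_Dmod B c.1 c.2
  haveI : IsNoetherian B (Dmod A K' B) :=
    isNoetherian_of_fg_of_noetherian (Dmod A K' B) (Dmod_fg A K' B hJ)
  have hEfg : E.FG := by
    have h1 : (Submodule.comap (Dmod A K' B).subtype E).FG := IsNoetherian.noetherian _
    have h2 := h1.map (Dmod A K' B).subtype
    rwa [Submodule.map_comap_subtype, inf_eq_right.mpr hE] at h2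
  obtain ⟨s', hs', hspan⟩ := (Submodule.fg_span_iff_fg_span_finset_subset (Set.range f)).mp hEfg
  rw [← Set.image_univ] at hs'
  obtain ⟨S', -, hS'⟩ := Finset.subset_set_image_iff.mp hs'
  obtain ⟨s, b, hb⟩ := FiniteDimensional.exists_is_basis_integral A (FractionRing A) K'
  let G : Set K' := (Subtype.val '' (S' : Set {c : K' // IsIntegral A c})) ∪ Set.range b
  have hGfin : G.Finite := ((Finset.finite_toSet S').image _).union (Set.finite_range b)
  have hGint : ∀ x ∈ G, IsIntegral A x := by
    rintro x (⟨c, -, rfl⟩ | ⟨i, rfl⟩)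
    · exact c.2
    · exact hb i
  refine ⟨Algebra.adjoin A G, Module.Finite.iff_fg.mpr (fg_adjoin_of_finite hGfin hGint), ?_, ?_⟩
  · -- fraction field
    intro x
    obtain ⟨d, hd⟩ := IsLocalization.exist_integer_multiples (nonZeroDivisors A) Finset.univ
      (fun i : s => b.repr x i)
    have hd0 : (d : A) ≠ 0 := nonZeroDivisors.ne_zero d.2
    have hmem : (d : A) • x ∈ Algebra.adjoin A G := by
      have h1 : (d : A) • x = ∑ i : s, ((d : A) • b.repr x i) • b i := by
        conv_lhs => rw [← b.sum_repr x]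
        rw [Finset.smul_sum]
        refine Finset.sum_congr rfl fun i _ => ?_
        rw [smul_assoc]
      rw [h1]
      refine Subalgebra.sum_mem _ fun i _ => ?_
      obtain ⟨a, ha⟩ := hd i (Finset.mem_univ i)
      rw [← ha, algebraMap_smul]
      exact (Algebra.adjoin A G).smul_mem (Algebra.subset_adjoin (Or.inr ⟨i, rfl⟩)) a
    refine ⟨⟨(d : A) • x, hmem⟩, algebraMap A (Algebra.adjoin A G) d, ?_, ?_⟩
    · change algebraMap A K' d ≠ 0
      rw [IsScalarTower.algebraMap_apply A (FractionRing A) K']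
      exact (map_ne_zero _).mpr ((map_ne_zero_iff _ (IsFractionRing.injective A _)).mpr hd0)
    · change x * algebraMap A K' d = (d : A) • x
      rw [Algebra.smul_def, mul_comm]
  · intro C hC hle y
    have h1 : Θ B C y ∈ E := by
      induction y using TensorProduct.induction_on with
      | zero => rw [map_zero]; exact zero_mem _
      | add x y hx hy => rw [map_add]; exact add_mem hx hy
      | tmul b' c =>
        rw [Θ_tmul]
        exact Submodule.smul_mem _ _ (Submodule.subset_span ⟨⟨(c : K'), hC c⟩, rfl⟩)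
    have h2 : E ≤ LinearMap.range (Θ B (Algebra.adjoin A G)).toLinearMap := by
      change Submodule.span B (Set.range f) ≤ _
      rw [hspan, ← hS', Submodule.span_le]
      intro t ht
      rw [Finset.coe_image] at ht
      obtain ⟨c, hc, rfl⟩ := ht
      have hcG : c.1 ∈ Algebra.adjoin A G := Algebra.subset_adjoin (Or.inl ⟨c, hc, rfl⟩)
      refine ⟨(1 : B) ⊗ₜ[A] (⟨c.1, hcG⟩ : Algebra.adjoin A G), ?_⟩
      rw [AlgHom.toLinearMap_apply, Θ_tmul, one_smul]
    obtain ⟨x, hx⟩ := h2 h1
    refine ⟨x, isNilpotent_of_Θ_eq_zero B C _ ?_⟩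
    rw [map_sub, Θ_comp_inclusion]
    rw [AlgHom.toLinearMap_apply] at hx
    rw [hx]
    exact sub_self _

end Groth.Agent.Lib.Helper18.Om
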