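import Mathlib

/-!
# A criterion for `Spec D → Spec C` to be universally injective (helper18)

If `B` is faithfully flat over `A` and `B ⊗[A] C → B ⊗[A] D` is surjective modulo nilpotents,
then `Spec D → Spec C` is universally injective (radicial).
-/

set_option autoImplicit false
set_option linter.style.haveILetI false
set_option linter.unusedSectionVars false
universe u
open TensorProduct AlgebraicGeometry CategoryTheory

namespace Groth.Agent.Lib.Helper18.Om

variable {A B C D : Type u} [CommRing A] [CommRing B] [Algebra A B] [Module.FaithfullyFlat A B]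
  [CommRing C] [Algebra A C] [CommRing D] [Algebra A D]

/-- ring-level statement -/
theorem ringHom_eq_of_surjective_mod_nil (incl : C →ₐ[A] D)
    (hstar : ∀ d : D, ∃ ξ : B ⊗[A] C,
      IsNilpotent (Algebra.TensorProduct.map (AlgHom.id B B) incl ξ - (1 : B) ⊗ₜ[A] d))
    {F : Type u} [Field F] (γ₁ γ₂ : D →+* F)
    (h : γ₁.comp (incl : C →+* D) = γ₂.comp (incl : C →+* D)) : γ₁ = γ₂ := by
  letI : Algebra A F := (γ₁.comp (algebraMap A D)).toAlgebra
  have hA : ∀ a : A, algebraMap A D a = incl (algebraMap A C a) := fun a => (incl.commutes a).symm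
  let g₁ : D →ₐ[A] F := { γ₁ with commutes' := fun a => rfl }
  let g₂ : D →ₐ[A] F :=
    { γ₂ with
      commutes' := fun a => by
        change γ₂ (algebraMap A D a) = γ₁ (algebraMap A D a)
        rw [hA]
        exact (congrArg (fun φ : C →+* F => φ (algebraMap A C a)) h).symm }
  let G₁ : B ⊗[A] D →ₐ[B] B ⊗[A] F := Algebra.TensorProduct.map (AlgHom.id B B) g₁
  let G₂ : B ⊗[A] D →ₐ[B] B ⊗[A] F := Algebra.TensorProduct.map (AlgHom.id B B) g₂
  let ρ : B ⊗[A] C →ₐ[B] B ⊗[A] D := Algebra.TensorProduct.map (AlgHom.id B B) incl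
  have hG : ∀ ξ : B ⊗[A] C, G₁ (ρ ξ) = G₂ (ρ ξ) := by
    intro ξ
    induction ξ using TensorProduct.induction_on with
    | zero => simp
    | add x y hx hy => rw [map_add, map_add, map_add, hx, hy]
    | tmul b c =>
      simp only [ρ, G₁, G₂, Algebra.TensorProduct.map_tmul, AlgHom.coe_id, id_eq]
      congr 1
      exact congrArg (fun φ : C →+* F => φ c) h
  ext d
  obtain ⟨ξ, hξ⟩ := hstar d
  change IsNilpotent (ρ ξ - (1 : B) ⊗ₜ[A] d) at hξ
  have h1 : G₁ ((1 : B) ⊗ₜ[A] d) - G₂ ((1 : B) ⊗ₜ[A] d) =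
      G₂ (ρ ξ - (1 : B) ⊗ₜ[A] d) - G₁ (ρ ξ - (1 : B) ⊗ₜ[A] d) := by
    rw [map_sub, map_sub, hG]
    ring
  have h2 : IsNilpotent (G₁ ((1 : B) ⊗ₜ[A] d) - G₂ ((1 : B) ⊗ₜ[A] d)) := by
    rw [h1]
    exact Commute.isNilpotent_sub (Commute.all _ _) (hξ.map G₂) (hξ.map G₁)
  have h3 : G₁ ((1 : B) ⊗ₜ[A] d) - G₂ ((1 : B) ⊗ₜ[A] d) = (1 : B) ⊗ₜ[A] (γ₁ d - γ₂ d) := by
    simp only [G₁, G₂, Algebra.TensorProduct.map_tmul, AlgHom.coe_id, id_eq,
      TensorProduct.tmul_sub]
    rfl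
  rw [h3] at h2
  obtain ⟨N, hN⟩ := h2
  rw [Algebra.TensorProduct.tmul_pow, one_pow] at hN
  have h4 : TensorProduct.mk A B F 1 ((γ₁ d - γ₂ d) ^ N) = TensorProduct.mk A B F 1 0 := by
    rw [TensorProduct.mk_apply, TensorProduct.mk_apply, hN, TensorProduct.tmul_zero]
  have h5 := Module.FaithfullyFlat.tensorProduct_mk_injective (A := A) (B := B) F h4
  have h6 : γ₁ d - γ₂ d = 0 := by
    by_cases hN0 : N = 0
    · rw [hN0, pow_zero] at h5
      exact absurd h5 one_ne_zero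
    · exact (pow_eq_zero_iff hN0).mp h5
  exact sub_eq_zero.mp h6

/-- scheme-level statement -/
theorem universallyInjective_of_surjective_mod_nil (incl : C →ₐ[A] D)
    (hstar : ∀ d : D, ∃ ξ : B ⊗[A] C,
      IsNilpotent (Algebra.TensorProduct.map (AlgHom.id B B) incl ξ - (1 : B) ⊗ₜ[A] d)) :
    UniversallyInjective (Spec.map (CommRingCat.ofHom incl.toRingHom)) := by
  refine ((tfae_universallyInjective (Spec.map (CommRingCat.ofHom incl.toRingHom))).out 0 1).mpr ?_
  intro F _ g₁ g₂ hg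
  dsimp only at hg
  obtain ⟨φ₁, rfl⟩ : ∃ φ, Spec.map φ = g₁ := ⟨_, Spec.map_preimage _⟩
  obtain ⟨φ₂, rfl⟩ : ∃ φ, Spec.map φ = g₂ := ⟨_, Spec.map_preimage _⟩
  rw [← Spec.map_comp, ← Spec.map_comp, Spec.map_inj] at hg
  have h1 : φ₁.hom.comp (incl : C →+* D) = φ₂.hom.comp (incl : C →+* D) := by
    have := congrArg CommRingCat.Hom.hom hg
    simpa using this
  have h2 := ringHom_eq_of_surjective_mod_nil (B := B) incl hstar φ₁.hom φ₂.hom h1
  rw [CommRingCat.hom_ext h2]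

end Groth.Agent.Lib.Helper18.Om
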