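import Mathlib
import Groth.Prelude.Def_EGA4b
import Groth.Agent.Lib.Helper18.OnePlus

set_option linter.style.haveILetI false
set_option linter.unusedSectionVars false

open TensorProduct IsLocalRing Polynomial

universe u

namespace Groth.Agent.Lib.Helper18.OnePlus

section idem

variable {R : Type u} [CommRing R]

theorem eq_zero_of_isIdempotentElem_of_isNilpotent {e : R} (he : IsIdempotentElem e)
    (hn : IsNilpotent e) : e = 0 := by
  obtain ⟨n, hn⟩ := hn
  rcases n with _ | n
  · rw [pow_zero] at hn
    rw [← mul_one e, hn, mul_zero]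
  · rw [he.pow_succ_eq] at hn
    exact hn

theorem idempotent_trivial_of_connected [ConnectedSpace (PrimeSpectrum R)] {e : R}
    (he : IsIdempotentElem e) : e = 0 ∨ e = 1 := by
  have hcl : IsClopen (PrimeSpectrum.basicOpen e : Set (PrimeSpectrum R)) :=
    PrimeSpectrum.isClopen_iff.mpr ⟨e, he, rfl⟩
  rcases (isClopen_iff.mp hcl) with h | h
  · left
    apply eq_zero_of_isIdempotentElem_of_isNilpotent he
    rw [← PrimeSpectrum.basicOpen_eq_bot_iff]
    exact TopologicalSpace.Opens.ext h
  · right
    have h1 : (PrimeSpectrum.basicOpen (1 - e) : Set (PrimeSpectrum R)) = ∅ := by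
      rw [← PrimeSpectrum.zeroLocus_eq_basicOpen_of_isIdempotentElem e he]
      have h3 := PrimeSpectrum.basicOpen_eq_zeroLocus_compl e
      rw [h] at h3
      rw [← compl_compl (PrimeSpectrum.zeroLocus {e}), ← h3, Set.compl_univ]
    have h2 : (1 - e : R) = 0 := by
      apply eq_zero_of_isIdempotentElem_of_isNilpotent he.one_sub
      rw [← PrimeSpectrum.basicOpen_eq_bot_iff]
      exact TopologicalSpace.Opens.ext h1
    exact (sub_eq_zero.mp h2).symm

theorem connected_of_idempotent_trivial [Nontrivial R]
    (h : ∀ e : R, IsIdempotentElem e → e = 0 ∨ e = 1) : ConnectedSpace (PrimeSpectrum R) := by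
  haveI : PreconnectedSpace (PrimeSpectrum R) := by
    rw [preconnectedSpace_iff_clopen]
    intro s hs
    obtain ⟨e, he, rfl⟩ := PrimeSpectrum.isClopen_iff.mp hs
    rcases h e he with rfl | rfl
    · left; simp
    · right; simp
  exact ⟨inferInstance⟩

end idem

section dom

variable {R : Type u} [CommRing R] [IsNoetherianRing R]

theorem exists_not_mem_forall_mul_eq_zero (m : Ideal R) [m.IsPrime] (a : Ideal R)
    (h : ∀ r ∈ a, algebraMap R (Localization.AtPrime m) r = 0) :
    ∃ t : R, t ∉ m ∧ ∀ r ∈ a, t * r = 0 := by
  classical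
  obtain ⟨s, hs⟩ := (IsNoetherian.noetherian a : a.FG)
  have h1 : ∀ r ∈ s, ∃ t : m.primeCompl, (t : R) * r = 0 := by
    intro r hr
    have hr' : r ∈ a := hs ▸ Ideal.subset_span hr
    exact (IsLocalization.map_eq_zero_iff m.primeCompl (Localization.AtPrime m) r).mp (h r hr')
  choose! t ht using h1
  refine ⟨((∏ r ∈ s, t r : m.primeCompl) : R), (∏ r ∈ s, t r : m.primeCompl).2, ?_⟩
  intro r hr
  rw [← hs] at hr
  refine Submodule.span_induction ?_ ?_ ?_ ?_ hr
  · intro x hx
    rw [← Finset.mul_prod_erase s t hx, Submonoid.coe_mul, mul_comm (t x : R), mul_assoc, ht x hx,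
      mul_zero]
  · rw [mul_zero]
  · intro x y _ _ hx hy
    rw [mul_add, hx, hy, add_zero]
  · intro c x _ hx
    rw [smul_eq_mul, mul_left_comm, hx, mul_zero]

theorem isDomain_of_local_of_idempotent_trivial [Nontrivial R]
    (hloc : ∀ (m : Ideal R) [m.IsMaximal], IsDomain (Localization.AtPrime m))
    (hid : ∀ e : R, IsIdempotentElem e → e = 0 ∨ e = 1) : IsDomain R := by
  haveI : NoZeroDivisors R := by
    refine ⟨fun {x y} hxy => ?_⟩
    let a : Ideal R := (Ideal.span {x}).annihilator
    let b : Ideal R := Submodule.annihilator a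
    have ha : ∀ r, r ∈ a ↔ r * x = 0 := fun r => by
      rw [Submodule.mem_annihilator_span_singleton, smul_eq_mul]
    have hsup : a ⊔ b = ⊤ := by
      by_contra hne
      obtain ⟨m, hm, hle⟩ := Ideal.exists_le_maximal _ hne
      haveI := hm
      haveI := hloc m
      by_cases hx : algebraMap R (Localization.AtPrime m) x = 0
      · obtain ⟨t, ht⟩ := (IsLocalization.map_eq_zero_iff m.primeCompl
          (Localization.AtPrime m) x).mp hx
        exact t.2 (hle (Submodule.mem_sup_left ((ha _).mpr ht)))
      · have h0 : ∀ r ∈ a, algebraMap R (Localization.AtPrime m) r = 0 := by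
          intro r hr
          have h1 : algebraMap R (Localization.AtPrime m) r *
              algebraMap R (Localization.AtPrime m) x = 0 := by
            rw [← map_mul, (ha r).mp hr, map_zero]
          exact (mul_eq_zero.mp h1).resolve_right hx
        obtain ⟨t, htm, ht⟩ := exists_not_mem_forall_mul_eq_zero m a h0
        apply htm
        apply hle
        apply Submodule.mem_sup_right
        rw [Submodule.mem_annihilator]
        intro r hr
        exact ht r hr
    obtain ⟨e, hea, f, hfb, hef⟩ := Submodule.mem_sup.mp (hsup ▸ (Submodule.mem_top : (1 : R) ∈ ⊤))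
    have hfe : f * e = 0 := by
      have := (Submodule.mem_annihilator.mp hfb) e hea
      simpa using this
    have he : IsIdempotentElem e := by
      have : e = e * e + f * e := by
        rw [← add_mul, hef, one_mul]
      rw [hfe, add_zero] at this
      exact this.symm
    rcases hid e he with h0 | h1
    · right
      rw [h0, zero_add] at hef
      have hya : y ∈ a := (ha y).mpr (by rw [mul_comm]; exact hxy)
      have := (Submodule.mem_annihilator.mp hfb) y hya
      rw [hef] at this
      simpa using this
    · left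
      rw [h1] at hea
      have := (ha 1).mp hea
      simpa using this
  exact { }

end dom

section cpl

variable (A : Type u) [CommRing A] [IsNoetherianRing A] (J : Ideal A)

theorem eq_zero_of_idempotent_of_evalOne_eq_zero {e : AdicCompletion J A}
    (he : IsIdempotentElem e) (h0 : AdicCompletion.evalOneₐ J e = 0) : e = 0 := by
  have hJfg : J.FG := IsNoetherian.noetherian J
  haveI : IsAdicComplete (J.map (algebraMap A (AdicCompletion J A))) (AdicCompletion J A) :=
    AdicCompletion.isAdicComplete_self J hJfg
  have h1 : e ∈ RingHom.ker (AdicCompletion.evalOneₐ J).toRingHom := h0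
  rw [AdicCompletion.ker_evalOneₐ_eq_map J hJfg] at h1
  have h2 := IsAdicComplete.le_jacobson_bot (J.map (algebraMap A (AdicCompletion J A))) h1
  have h3 := Ideal.mem_jacobson_bot.mp h2 (-1)
  have h4 : e * (e * -1 + 1) = 0 := by
    have : e * (e * -1 + 1) = e - e * e := by ring
    rw [this, he.eq, sub_self]
  exact (h3.mul_left_eq_zero).mp h4

theorem idempotent_trivial_cpl
    (h : ∀ e : A ⧸ J, IsIdempotentElem e → e = 0 ∨ e = 1)
    (e : AdicCompletion J A) (he : IsIdempotentElem e) : e = 0 ∨ e = 1 := by
  have he' : IsIdempotentElem (AdicCompletion.evalOneₐ J e) := he.map _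
  rcases h _ he' with h0 | h1
  · left
    exact eq_zero_of_idempotent_of_evalOne_eq_zero A J he h0
  · right
    have : (1 - e) = 0 := by
      apply eq_zero_of_idempotent_of_evalOne_eq_zero A J he.one_sub
      rw [map_sub, map_one, h1, sub_self]
    exact (sub_eq_zero.mp this).symm

theorem idempotent_trivial_quot_of_isDomain [IsDomain (AdicCompletion J A)]
    (e : A ⧸ J) (he : IsIdempotentElem e) : e = 0 ∨ e = 1 := by
  have hJfg : J.FG := IsNoetherian.noetherian J
  haveI : IsAdicComplete (J.map (algebraMap A (AdicCompletion J A))) (AdicCompletion J A) :=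
    AdicCompletion.isAdicComplete_self J hJfg
  obtain ⟨a₀, ha₀⟩ := AdicCompletion.evalOneₐ_surjective J e
  have hker := AdicCompletion.ker_evalOneₐ_eq_map J hJfg
  let f : (AdicCompletion J A)[X] := X ^ 2 - X
  have hmonic : f.Monic := by
    apply Polynomial.monic_X_pow_sub
    rw [Polynomial.degree_X]
    norm_num
  have heval : f.eval a₀ ∈ J.map (algebraMap A (AdicCompletion J A)) := by
    rw [← hker, RingHom.mem_ker]
    change AdicCompletion.evalOneₐ J (f.eval a₀) = 0
    simp only [f, Polynomial.eval_sub, Polynomial.eval_pow, Polynomial.eval_X, map_sub, map_pow,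
      ha₀]
    rw [pow_two, he.eq, sub_self]
  have hder : IsUnit (Ideal.Quotient.mk (J.map (algebraMap A (AdicCompletion J A)))
      (f.derivative.eval a₀)) := by
    have hd : f.derivative.eval a₀ = 2 * a₀ - 1 := by
      simp only [f, Polynomial.derivative_sub, Polynomial.derivative_X_pow, Polynomial.derivative_X,
        Polynomial.eval_sub, Polynomial.eval_mul, Polynomial.eval_pow, Polynomial.eval_X,
        Polynomial.eval_one, Polynomial.eval_C, Nat.cast_ofNat, Nat.add_one_sub_one, pow_one]
    rw [hd]
    apply IsUnit.of_mul_eq_one (Ideal.Quotient.mk _ (2 * a₀ - 1))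
    rw [← map_mul, ← map_one (Ideal.Quotient.mk _), Ideal.Quotient.eq]
    have : (2 * a₀ - 1) * (2 * a₀ - 1) - 1 = 4 * f.eval a₀ := by
      simp only [f, Polynomial.eval_sub, Polynomial.eval_pow, Polynomial.eval_X]
      ring
    rw [this]
    exact Ideal.mul_mem_left _ _ heval
  obtain ⟨a, hroot, hsub⟩ := HenselianRing.is_henselian f hmonic a₀ heval hder
  have ha : a * (a - 1) = 0 := by
    have : f.eval a = 0 := hroot
    simp only [f, Polynomial.eval_sub, Polynomial.eval_pow, Polynomial.eval_X] at this
    rw [← this]; ring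
  have hea : AdicCompletion.evalOneₐ J a = e := by
    rw [← ha₀, ← sub_eq_zero, ← map_sub]
    have : a - a₀ ∈ RingHom.ker (AdicCompletion.evalOneₐ J).toRingHom := by
      rw [hker]; exact hsub
    exact this
  rcases mul_eq_zero.mp ha with h0 | h1
  · left
    rw [← hea, h0, map_zero]
  · right
    rw [← hea, sub_eq_zero.mp h1, map_one]

end cpl

end Groth.Agent.Lib.Helper18.OnePlus

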