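import Mathlib
import Groth.Agent.Lib.Helper5.ProjFormulaLF
import Groth.Agent.Lib.Helper5.LocBasisScheme
import Groth.Agent.Lib.Helper17.Tensor
import Groth.Agent.Lib.Helper28.PerfTensor1
import Groth.Agent.Lib.Helper18.PB6

/-! # The projection formula `f_K (x · f^K y) = f_K x · y` for regular closed immersions
(helper18) -/

set_option autoImplicit false
set_option linter.style.haveILetI false
universe v w u

open CategoryTheory CategoryTheory.Limits AlgebraicGeometry

namespace Groth.Agent.Lib.Helper18.PB7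

open Groth.Agent.Lib.Helper29.QCoh Groth.Agent.Lib.Helper18 Groth.Agent.Lib.Helper18.RS2
  Groth.Agent.Lib.Helper18.RS3 Groth.Agent.Lib.Helper18.RS4 Groth.Agent.Lib.Helper18.PB3
  Groth.Agent.Lib.Helper18.PB4 Groth.Agent.Lib.Helper18.PB5 Groth.Agent.Lib.Helper18.PB6

variable {X Y : Scheme.{u}}

/-- `E ⊗ -` -/
noncomputable abbrev TE (E : Y.Modules) : Y.Modules ⥤ Y.Modules := (DCoh.tensorBi (X := Y)).obj E

theorem preservesFiniteLimits_TE (E : Y.Modules) (hE : FlatMod.IsFinLocFree E) :
    PreservesFiniteLimits (TE E) := by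
  have h1 := Groth.Agent.Lib.Helper5.FinLocFreeDual.isFlat (O := Y.sheaf) E
    (Groth.Agent.Lib.Helper5.LocBasisScheme.hasLocBases_of_isFinLocFree E hE)
  exact (Groth.Agent.Lib.Helper17.Tensor.isFlat_iff' (O := Y.sheaf) E).1 h1

theorem preservesFiniteColimits_TE (E : Y.Modules) : PreservesFiniteColimits (TE E) := by
  have : PreservesColimitsOfSize.{u, u} ((ModSite.tensorBi Y.sheaf).obj E) :=
    Groth.Agent.Lib.Helper17.Tensor.obj_preservesColimits (O := Y.sheaf) E
  exact PreservesColimitsOfSize.preservesFiniteColimits ((ModSite.tensorBi Y.sheaf).obj E)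

/-- the projection formula `E ⊗ f_* F ≅ f_* (f^* E ⊗ F)` -/
noncomputable def projIso (f : X ⟶ Y) (E : Y.Modules) (hE : FlatMod.IsFinLocFree E)
    (F : X.Modules) :
    (TE E).obj ((Scheme.Modules.pushforward f).obj F) ≅
      (Scheme.Modules.pushforward f).obj
        ((TE ((Scheme.Modules.pullback f).obj E)).obj F) :=
  Groth.Agent.Lib.Helper17.Tensor.braidIso (O := Y.sheaf) E
      ((Scheme.Modules.pushforward f).obj F) ≪≫
    Groth.Agent.Lib.Helper5.ProjFormulaLF.PiIso f E F
      (Groth.Agent.Lib.Helper5.LocBasisScheme.hasLocBases_of_isFinLocFree E hE) ≪≫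
    (Scheme.Modules.pushforward f).mapIso
      (Groth.Agent.Lib.Helper17.Tensor.braidIso (O := X.sheaf) F
        ((Scheme.Modules.pullback f).obj E))

/-- the class of `E ⊗ M` is the alternating sum of the classes of the `E ⊗ L_k` -/
theorem clSub_tensor_eq_sum [IsNoetherian Y] (hYe : KRR.HasEnoughLocFree Y) (E : Y.Modules)
    (hE : FlatMod.IsFinLocFree E) {M : Y.Modules} {n : ℕ}
    {L : ChainComplex Y.Modules ℕ} {π : L ⟶ (ChainComplex.single₀ Y.Modules).obj M}
    (hres : KRR.IsLFRes M n L π) (hTM : QP Y ((TE E).obj M)) :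
    KZero.clSub (QP Y) ((TE E).obj M) =
      ∑ k ∈ Finset.range (n + 1), (-1 : ℤ) ^ k • KZero.clSub (QP Y) ((TE E).obj (L.X k)) := by
  haveI := preservesFiniteLimits_TE E hE
  haveI := preservesFiniteColimits_TE E
  haveI : (TE E).PreservesHomology := Functor.preservesHomologyOfExact _
  obtain ⟨⟨h0, hepi⟩, hk⟩ := (quasiIso_iff_exact L M π).1 hres.quasiIso
  let C := ChainComplex.augment L (π.f 0) (comp_zero_of_pi L M π)
  have hepiC : Epi (C.d 1 0) := hepi
  have hex : ∀ k, (ShortComplex.mk (C.d (k + 2) (k + 1)) (C.d (k + 1) k)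
      (C.d_comp_d _ _ _)).Exact := by
    intro k
    cases k with
    | zero => exact h0
    | succ k => exact hk k
  let C' := ((TE E).mapHomologicalComplex (ComplexShape.down ℕ)).obj C
  haveI : Epi (C'.d 1 0) := by
    change Epi ((TE E).map (C.d 1 0))
    infer_instance
  have hex' : ∀ k, (ShortComplex.mk (C'.d (k + 2) (k + 1)) (C'.d (k + 1) k)
      (C'.d_comp_d _ _ _)).Exact := fun k => (hex k).map (TE E)
  have hC' : ∀ k, QP Y (C'.X k) := by
    intro k
    cases k with
    | zero => exact hTM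
    | succ k =>
      exact QP_of_lf hYe _
        (Groth.Agent.Lib.Helper28.PerfTensor.isFinLocFree_tensor hE (hres.finLocFree k))
  have hz : IsZero (C'.X (n + 2)) :=
    Functor.map_isZero (TE E) (hres.isZero (n + 1) (by omega))
  exact euler_of_exact (QP Y) (QP_of_isZero hYe) (QP_ker hYe) C' hex' n hC' hz

theorem proj_formula (f : X ⟶ Y) (hf : Mor2.IsRegularClosedImmersion f) [IsNoetherian Y]
    (hYe : KRR.HasEnoughLocFree Y) {KX : Type v} {KY : Type w} [CommRing KX] [CommRing KY]
    (φX : SGA6.Kvb X →+ KX) (hφX : Function.Surjective φX)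
    (hmulX : ∀ E F : X.Modules, FlatMod.IsFinLocFree E → FlatMod.IsFinLocFree F →
      φX (KRR.cl X E) * φX (KRR.cl X F) = φX (KRR.cl X (((DCoh.tensorBi (X := X)).obj E).obj F)))
    (φY : SGA6.Kvb Y →+ KY) (hφY : Function.Surjective φY)
    (hmulY : ∀ E F : Y.Modules, FlatMod.IsFinLocFree E → FlatMod.IsFinLocFree F →
      φY (KRR.cl Y E) * φY (KRR.cl Y F) = φY (KRR.cl Y (((DCoh.tensorBi (X := Y)).obj E).obj F)))
    (g : KY →+ KX) (hg : KRR.IsPull f φY φX g) (h : KX →+ KY) (hh : KRR.IsPushCl f φX φY h)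
    (x : KX) (y : KY) : h (x * g y) = h x * y := by
  haveI : IsClosedImmersion f := hf.1
  have gen : ∀ (F : X.Modules) (hF : FlatMod.IsFinLocFree F) (E : Y.Modules)
      (hE : FlatMod.IsFinLocFree E),
      h (φX (KRR.cl X F) * g (φY (KRR.cl Y E))) = h (φX (KRR.cl X F)) * φY (KRR.cl Y E) := by
    intro F hF E hE
    have hE' : FlatMod.IsFinLocFree ((Scheme.Modules.pullback f).obj E) :=
      isFinLocFree_pullback f hE
    rw [hg E hE, mul_comm, hmulX _ _ hE' hF]
    set G := ((DCoh.tensorBi (X := X)).obj ((Scheme.Modules.pullback f).obj E)).obj F with hGdef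
    have hG : FlatMod.IsFinLocFree G :=
      Groth.Agent.Lib.Helper28.PerfTensor.isFinLocFree_tensor hE' hF
    have hQG : QP Y ((Scheme.Modules.pushforward f).obj G) := PB2.hasLFRes_push f hf hYe G hG
    obtain ⟨hcoh, n, L, π, hres⟩ := PB2.hasLFRes_push f hf hYe F hF
    let e := projIso f E hE F
    have hTM : QP Y ((TE E).obj ((Scheme.Modules.pushforward f).obj F)) := QP_of_iso hYe e hQG
    have hw : psi hYe (∑ k ∈ Finset.range (n + 1),
        (-1 : ℤ) ^ k • KRR.cl Y ((TE E).obj (L.X k))) =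
        KZero.clSub (QP Y) ((Scheme.Modules.pushforward f).obj G) := by
      rw [clSub_QP_iso hYe e hQG, clSub_tensor_eq_sum hYe E hE hres hTM, map_sum]
      refine Finset.sum_congr rfl fun k _ => ?_
      rw [map_zsmul, psi_cl hYe _
        (Groth.Agent.Lib.Helper28.PerfTensor.isFinLocFree_tensor hE (hres.finLocFree k))]
    rw [pushCl_apply f hYe φX φY h hh G hG hQG _ hw, hh F hF n L π hres, map_sum,
      Finset.sum_mul]
    refine Finset.sum_congr rfl fun k _ => ?_
    rw [map_zsmul, smul_mul_assoc, mul_comm, hmulY _ _ hE (hres.finLocFree k)]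
  have gen2 : ∀ (F : X.Modules) (hF : FlatMod.IsFinLocFree F) (t : SGA6.Kvb Y),
      h (φX (KRR.cl X F) * g (φY t)) = h (φX (KRR.cl X F)) * φY t := by
    intro F hF t
    induction t using AD2.K0sub_induction with
    | h0 => simp only [map_zero, mul_zero]
    | hcl E hE => exact gen F hF E hE
    | hneg a ha => simp only [map_neg, mul_neg, ha]
    | hadd a b ha hb => simp only [map_add, mul_add, ha, hb]
  obtain ⟨s, rfl⟩ := hφX x
  obtain ⟨t, rfl⟩ := hφY y
  induction s using AD2.K0sub_induction with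
  | h0 => simp only [map_zero, zero_mul]
  | hcl F hF => exact gen2 F hF t
  | hneg a ha => simp only [map_neg, neg_mul, ha]
  | hadd a b ha hb => simp only [map_add, add_mul, ha, hb]

end Groth.Agent.Lib.Helper18.PB7
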