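import Mathlib
import Groth.Prelude.Def_Cyc
import Groth.Agent.Lib.Helper18.SetupLft
import Groth.Agent.Lib.Helper18.UCat
import Groth.Agent.Lib.Helper18.SchDim2

/-!
# Schemes locally of finite type over a field: the standing hypotheses
-/

set_option autoImplicit false
set_option linter.unusedSectionVars false
set_option linter.style.haveILetI false
universe u
open AlgebraicGeometry CategoryTheory TopologicalSpace

namespace Groth.Agent.Lib.Helper18.PC1

noncomputable section

section Field

variable (K : Type u) [Field K]

theorem isUniversallyCatenary_field : CAlg.IsUniversallyCatenary K := by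
  haveI : LocCoh.IsCohenMacaulayRing K :=
    Groth.Agent.Lib.Helper18.PMor.isCohenMacaulayRing_of_isRegularRing inferInstance
  exact Groth.Agent.Lib.Helper18.UCat.isUniversallyCatenary_of_isCohenMacaulayRing K

/-- The spectrum of a field with the zero dimension function satisfies the standing hypotheses. -/
theorem isSetup_specField : Cyc.IsSetup (Spec (CommRingCat.of K)) (fun _ => 0) := by
  refine ⟨inferInstance, ?_, ?_⟩
  · intro y
    letI : Algebra K ((Spec (CommRingCat.of K)).presheaf.stalk y) :=
      inferInstanceAs (Algebra K ((Spec.structureSheaf K).presheaf.stalk y))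
    haveI : IsLocalization.AtPrime ((Spec (CommRingCat.of K)).presheaf.stalk y) y.asIdeal :=
      inferInstanceAs (IsLocalization.AtPrime ((Spec.structureSheaf K).presheaf.stalk y) y.asIdeal)
    haveI : Algebra.EssFiniteType K ((Spec (CommRingCat.of K)).presheaf.stalk y) :=
      Algebra.EssFiniteType.of_isLocalization _ y.asIdeal.primeCompl
    exact Groth.Agent.Lib.Helper1.Catenary.isUniversallyCatenary_of_essFiniteType K _
      (isUniversallyCatenary_field K)
  · intro x y _ hne
    exact absurd (Subsingleton.elim (α := PrimeSpectrum K) x y) hne

end Field

end

end Groth.Agent.Lib.Helper18.PC1
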