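import Mathlib
import Groth.Prelude.Def_Cyc
import Groth.Agent.Lib.Helper18.PCf1

/-!
# Schemes locally of finite type over a field: closed points and the dimension function
-/

set_option autoImplicit false
set_option linter.unusedSectionVars false
set_option linter.style.haveILetI false
universe u
open AlgebraicGeometry CategoryTheory TopologicalSpace

namespace Groth.Agent.Lib.Helper18.PC2

noncomputable section

variable {K : Type u} [Field K] {X : Scheme.{u}} (c : X ⟶ Spec (CommRingCat.of K))
  [LocallyOfFiniteType c] (δX : X → ℤ) (hδ : Cyc.DeltaCompat c δX (fun _ => 0))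

include hδ

theorem isSetup : Cyc.IsSetup X δX :=
  Groth.Agent.Lib.Helper18.SetupLft.isSetup_of_locallyOfFiniteType c _
    (Groth.Agent.Lib.Helper18.PC1.isSetup_specField K) δX hδ

omit [LocallyOfFiniteType c] in
theorem delta_nonneg (x : X) : 0 ≤ δX x := by
  obtain ⟨n, -, hn⟩ := hδ x
  rw [hn]
  simp

theorem isClosed_of_delta_eq_zero (x : X) (h : δX x = 0) : IsClosed ({x} : Set X) := by
  have hdim := (isSetup c δX hδ).2.2
  rw [← closure_subset_iff_isClosed]
  intro y hy
  have hsp : x ⤳ y := specializes_iff_mem_closure.mpr hy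
  by_contra hne
  have hne' : x ≠ y := fun e => hne (by rw [e]; rfl)
  have h1 := (hdim x y hsp hne').1
  have h2 := delta_nonneg c δX hδ y
  omega

theorem delta_eq_zero_of_isClosed (x : X) (h : IsClosed ({x} : Set X)) : δX x = 0 := by
  obtain ⟨n, hn, hδn⟩ := hδ x
  suffices hn0 : n = 0 by rw [hδn, hn0]; simp
  haveI : IsClosedImmersion (X.fromSpecResidueField x) :=
    isClosed_singleton_iff_isClosedImmersion.mp h
  haveI : JacobsonSpace ↥(Spec (CommRingCat.of K)) :=
    PrimeSpectrum.isJacobsonRing_iff_jacobsonSpace.mp inferInstance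
  haveI : LocallyOfFiniteType (X.fromSpecResidueField x ≫ c) := inferInstance
  haveI : IsFinite (X.fromSpecResidueField x ≫ c) :=
    isFinite_iff_locallyOfFiniteType_of_jacobsonSpace.mpr inferInstance
  let ψ : CommRingCat.of K ⟶ X.residueField x := Spec.preimage (X.fromSpecResidueField x ≫ c)
  let χ : CommRingCat.of K ⟶ (Spec (CommRingCat.of K)).residueField (c x) :=
    Spec.preimage ((Spec (CommRingCat.of K)).fromSpecResidueField (c x))
  have hψ : ψ = χ ≫ c.residueFieldMap x := by
    apply Spec.map_injective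
    rw [Spec.map_preimage, Spec.map_comp, Spec.map_preimage,
      Scheme.Hom.SpecMap_residueFieldMap_fromSpecResidueField]
  have hψint : ψ.hom.IsIntegral := by
    rw [← IsIntegralHom.SpecMap_iff, Spec.map_preimage]
    infer_instance
  have hint : (c.residueFieldMap x).hom.IsIntegral := by
    apply RingHom.IsIntegral.tower_top χ.hom
    have : (c.residueFieldMap x).hom.comp χ.hom = ψ.hom := by rw [hψ]; rfl
    rw [this]
    exact hψint
  letI alg : Algebra ((Spec (CommRingCat.of K)).residueField (c x)) (X.residueField x) :=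
    (c.residueFieldMap x).hom.toAlgebra
  haveI : Algebra.IsIntegral ((Spec (CommRingCat.of K)).residueField (c x)) (X.residueField x) :=
    ⟨hint⟩
  haveI : Algebra.IsAlgebraic ((Spec (CommRingCat.of K)).residueField (c x))
      (X.residueField x) := Algebra.IsIntegral.isAlgebraic
  have h0 : Algebra.trdeg ((Spec (CommRingCat.of K)).residueField (c x)) (X.residueField x) = 0 :=
    trdeg_eq_zero
  have : ((n : ℕ) : Cardinal) = 0 := by rw [← hn]; exact h0
  exact_mod_cast this

theorem isClosed_iff (x : X) : IsClosed ({x} : Set X) ↔ δX x = 0 :=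
  ⟨delta_eq_zero_of_isClosed c δX hδ x, isClosed_of_delta_eq_zero c δX hδ x⟩

/-- on an integral curve the generic point has dimension one -/
theorem delta_genericPoint [IsIntegral X] (hdim : topologicalKrullDim X = 1) :
    δX (genericPoint X) = 1 := by
  have hD := (isSetup c δX hδ).2.2
  let Z : X → IrreducibleCloseds X := fun z =>
    ⟨closure {z}, isIrreducible_singleton.closure, isClosed_closure⟩
  have hlt : ∀ u v : X, u ⤳ v → u ≠ v → Z v < Z u := by
    intro u v huv hne
    refine lt_of_le_of_ne ?_ ?_
    · change closure {v} ⊆ closure {u}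
      exact huv.closure_subset
    · intro heq
      have h1 : u ∈ (Z u : Set X) := subset_closure rfl
      rw [← heq] at h1
      have h2 : v ⤳ u := specializes_iff_mem_closure.mpr h1
      exact hne (huv.antisymm h2).eq
  have hle : Order.krullDim (IrreducibleCloseds X) ≤ 1 := by
    have : topologicalKrullDim X ≤ 1 := hdim.le
    exact this
  have hchain : ∀ a b d : X, a ⤳ b → b ⤳ d → a ≠ b → b ≠ d → False := by
    intro a b d hab hbd hne1 hne2
    rcases Order.krullDim_le_one_iff.mp hle (Z b) with hmin | hmax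
    · exact hmin.not_lt (hlt b d hbd hne2)
    · exact hmax.not_lt (hlt a b hab hne1)
  have hpos : 0 < Order.krullDim (IrreducibleCloseds X) := by
    have : topologicalKrullDim X = 1 := hdim
    unfold topologicalKrullDim at this
    rw [this]
    exact zero_lt_one
  obtain ⟨Z₀, Z₁, hZ⟩ := Order.krullDim_pos_iff.mp hpos
  -- generic points
  set η := genericPoint X with hη
  set z₀ := Z₀.isIrreducible'.genericPoint with hz₀
  set z₁ := Z₁.isIrreducible'.genericPoint with hz₁
  have hc0 : closure {z₀} = (Z₀ : Set X) :=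
    (Z₀.isIrreducible'.isGenericPoint_genericPoint_closure).def.trans Z₀.isClosed'.closure_eq
  have hc1 : closure {z₁} = (Z₁ : Set X) :=
    (Z₁.isIrreducible'.isGenericPoint_genericPoint_closure).def.trans Z₁.isClosed'.closure_eq
  have h10 : z₁ ⤳ z₀ := by
    rw [specializes_iff_closure_subset, hc0, hc1]
    exact hZ.le
  have hne10 : z₁ ≠ z₀ := by
    intro e
    have : (Z₁ : Set X) = (Z₀ : Set X) := by rw [← hc0, ← hc1, e]
    exact hZ.ne (SetLike.coe_injective this).symm
  have hη1 : η ⤳ z₁ := genericPoint_specializes z₁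
  have hηz1 : η = z₁ := by
    by_contra hne
    exact hchain η z₁ z₀ hη1 h10 hne hne10
  have hge : 1 ≤ δX η := by
    have h1 := (hD z₁ z₀ h10 hne10).1
    have h2 := delta_nonneg c δX hδ z₀
    rw [hηz1]
    omega
  -- upper bound
  by_contra hne1
  have hgt : 2 ≤ δX η := by omega
  have hne' : η ≠ z₀ := by rw [hηz1]; exact hne10
  have hηz0 : η ⤳ z₀ := genericPoint_specializes z₀
  by_cases himm : ∀ z : X, η ⤳ z → z ⤳ z₀ → z = η ∨ z = z₀
  · have h3 := (hD η z₀ hηz0 hne').2 himm
    have h4 : δX z₀ ≠ 0 := by omega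
    have hncl : ¬ IsClosed ({z₀} : Set X) := fun hcl =>
      h4 (delta_eq_zero_of_isClosed c δX hδ z₀ hcl)
    rw [← closure_subset_iff_isClosed] at hncl
    obtain ⟨y, hy, hyne⟩ := Set.not_subset.mp hncl
    have hsp : z₀ ⤳ y := specializes_iff_mem_closure.mpr hy
    have hne2 : z₀ ≠ y := fun e => hyne (by rw [← e]; rfl)
    exact hchain η z₀ y hηz0 hsp hne' hne2
  · push_neg at himm
    obtain ⟨z, hz1, hz2, hz3, hz4⟩ := himm
    exact hchain η z z₀ hz1 hz2 (Ne.symm hz3) hz4

end

end Groth.Agent.Lib.Helper18.PC2
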