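import Mathlib
import Groth.Prelude.Def_Cyc
import Groth.Agent.Lib.Helper18.PCv2
import Groth.Agent.Lib.Helper18.KF7
import Groth.Agent.Lib.Helper18.ClImm
import Groth.Agent.Lib.Helper18.CL10
import Groth.Agent.S16921

/-!
# The degree of a principal divisor on a proper curve
-/

set_option autoImplicit false
set_option linter.unusedSectionVars false
set_option linter.style.haveILetI false
universe u
open AlgebraicGeometry CategoryTheory TopologicalSpace

namespace Groth.Agent.Lib.Helper18.PCv3

noncomputable section

open Groth.Agent.Lib.Helper18.LocStalk Groth.Agent.Lib.Helper18.DivPull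

section Ord

variable {X : Scheme.{u}} [IsIntegral X] [IsLocallyNoetherian X] (δ : X → ℤ)
  (hδ : Cyc.IsDimFun X δ)

include hδ in
/-- the order along the generic point of an integral scheme is the order in the local ring -/
theorem ordAt_generic_eq (x : X) (h : genericPoint X ⤳ x) (hd : δ x + 1 = δ (genericPoint X))
    (f : X.functionField) :
    Cyc.ordAt x (genericPoint X) h ((X.residue (genericPoint X)).hom f) =
      CycAlg.ordFrac (X.presheaf.stalk x) X.functionField f := by
  unfold Cyc.ordAt
  have hker := ker_specMap_eq_bot_of_generic x (genericPoint X) h rfl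
  have he : Function.Bijective
      (Ideal.Quotient.mk (RingHom.ker (Cyc.specMap x (genericPoint X) h))) := by
    refine ⟨?_, Ideal.Quotient.mk_surjective⟩
    rw [injective_iff_map_eq_zero]
    intro a ha
    have : a ∈ RingHom.ker (Cyc.specMap x (genericPoint X) h) := Ideal.Quotient.eq_zero_iff_mem.mp ha
    rw [hker] at this
    exact this
  have hdimB : ringKrullDim (Cyc.LocQuot x (genericPoint X) h) = 1 :=
    Groth.Agent.Lib.Helper18.KF7.dim_locQuot_eq_one δ hδ x (genericPoint X) h hd
  have hdimA : ringKrullDim (X.presheaf.stalk x) = 1 := by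
    rw [← hdimB]
    exact ringKrullDim_eq_of_ringEquiv (RingEquiv.ofBijective _ he)
  haveI : Ring.KrullDimLE 1 (X.presheaf.stalk x) := by
    rw [Ring.krullDimLE_iff, hdimA]
    rfl
  haveI : Ring.KrullDimLE 1 (Cyc.LocQuot x (genericPoint X) h) := by
    rw [Ring.krullDimLE_iff, hdimB]
    rfl
  haveI : IsFractionRing (Cyc.LocQuot x (genericPoint X) h) (X.residueField (genericPoint X)) :=
    isFractionRing_locQuot x (genericPoint X) h
  exact Groth.Agent.Lib.Helper18.ClImm.ordFrac_congr
    (A := X.presheaf.stalk x) (B := Cyc.LocQuot x (genericPoint X) h)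
    (K := X.functionField) (L := X.residueField (genericPoint X))
    (Ideal.Quotient.mk (RingHom.ker (Cyc.specMap x (genericPoint X) h))) he
    ((X.residue (genericPoint X)).hom : X.functionField →+* X.residueField (genericPoint X))
    (fun a => rfl) f

end Ord

section Main

variable (K : Type u) [Field K] (X : Scheme.{u}) [IsIntegral X]
  (c : X ⟶ Spec (CommRingCat.of K)) [IsProper c]

theorem degree_principal (hdim : topologicalKrullDim X = 1) (f : X.functionField) (hf : f ≠ 0) :
    ∑ᶠ (x : X) (_ : IsClosed ({x} : Set X)),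
      (c.residueDegree x : ℤ) * CycAlg.ordFrac (X.presheaf.stalk x) X.functionField f = 0 := by
  classical
  let δY : ↥(Spec (CommRingCat.of K)) → ℤ := fun _ => 0
  have hY := Groth.Agent.Lib.Helper18.PCv1.isSetup_specField K
  have hex := fun x => Groth.Agent.Lib.Helper18.SchDim.exists_nat_trdeg_residueField c x
  choose n hn using hex
  let δX : X → ℤ := fun x => (n x : ℤ)
  have hδ : Cyc.DeltaCompat c δX δY := fun x => ⟨n x, hn x, by simp [δX, δY]⟩
  have hX := Groth.Agent.Lib.Helper18.PCv2.isSetup c δX hδ
  haveI : IsLocallyNoetherian X := hX.1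
  have hη := Groth.Agent.Lib.Helper18.PCv2.delta_genericPoint c δX hδ hdim
  let f₀ : X.residueField (genericPoint X) := (X.residue (genericPoint X)).hom f
  have hf₀ : f₀ ≠ 0 := by
    have hinj : Function.Injective
        ((X.residue (genericPoint X)).hom : X.functionField →+* X.residueField (genericPoint X)) :=
      RingHom.injective _
    exact (map_ne_zero_iff _ hinj).mpr hf
  let α := Groth.Agent.Lib.Helper18.CL10.divCycle δX hX (genericPoint X) f₀ hf₀
  have hdom : c (genericPoint X) = genericPoint ↥(Spec (CommRingCat.of K)) :=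
    Subsingleton.elim (α := PrimeSpectrum K) _ _
  have hne : δX (genericPoint X) ≠ δY (genericPoint ↥(Spec (CommRingCat.of K))) := by
    rw [hη]
    simp [δY]
  have h0 := Groth.Agent.S16921.result X (Spec (CommRingCat.of K)) δX δY hX hY c hδ hdom hne
    f₀ hf₀ α rfl
  have h1 := congrFun (congrArg (fun c : AlgebraicCycle (Spec (CommRingCat.of K)) ℤ =>
    (c : ↥(Spec (CommRingCat.of K)) → ℤ)) h0) (genericPoint ↥(Spec (CommRingCat.of K)))
  simp only [AlgebraicCycle.map, Function.locallyFinsupp.map_apply] at h1
  have huniv : ((c : X → ↥(Spec (CommRingCat.of K))) ⁻¹'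
      {genericPoint ↥(Spec (CommRingCat.of K))}) = Set.univ := by
    rw [Set.eq_univ_iff_forall]
    intro x
    exact Subsingleton.elim (α := PrimeSpectrum K) _ _
  rw [huniv, finsum_mem_univ] at h1
  have h2 : (0 : AlgebraicCycle (Spec (CommRingCat.of K)) ℤ)
      (genericPoint ↥(Spec (CommRingCat.of K))) = 0 := rfl
  rw [h2] at h1
  rw [← h1]
  apply finsum_congr
  intro x
  rw [finsum_eq_if]
  have e2 : c.base x = c x := rfl
  split_ifs with hcl
  · have hx0 : δX x = 0 := Groth.Agent.Lib.Helper18.PCv2.delta_eq_zero_of_isClosed c δX hδ x hcl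
    have hd : δX x + 1 = δX (genericPoint X) := by rw [hx0, hη]; rfl
    have hα : α x = Cyc.ordAt x (genericPoint X) (genericPoint_specializes x) f₀ := by
      change Cyc.divFun δX (genericPoint X) f₀ x = _
      unfold Cyc.divFun
      rw [dif_pos ⟨genericPoint_specializes x, hd⟩]
    rw [hα, ordAt_generic_eq δX hX.2.2 x (genericPoint_specializes x) hd f]
    simp only [AlgebraicCycle.mapCoeff, e2]
    rw [if_pos (by rw [hx0])]
    ring
  · have hx0 : δX x ≠ 0 := fun h =>
      hcl (Groth.Agent.Lib.Helper18.PCv2.isClosed_of_delta_eq_zero c δX hδ x h)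
    simp only [AlgebraicCycle.mapCoeff, e2]
    rw [if_neg (by simpa [δY] using hx0)]
    simp

end Main

end

end Groth.Agent.Lib.Helper18.PCv3
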