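import Mathlib
import Groth.Prelude.Def_Cyc
import Groth.Prelude.Def_ChowOps
import Groth.Agent.Lib.Helper18.PC5
import Groth.Agent.Lib.Helper18.PPC1
import Groth.Agent.Lib.Helper18.AB7
import Groth.Agent.S1868

/-!
# Chow groups under a finite purely inseparable base change (abstract pullback square)
-/

set_option autoImplicit false
set_option linter.unusedSectionVars false
set_option linter.style.haveILetI false
universe u
open AlgebraicGeometry CategoryTheory TopologicalSpace Limits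

namespace Groth.Agent.Lib.Helper18.PI1

open Groth.Agent.Lib.Helper18.PC4 Groth.Agent.Lib.Helper18.PC5

section Mult

theorem length_quot_map_comp {A B C : Type u} [CommRing A] [CommRing B] [CommRing C]
    (σ : A →+* B) (hσ : Function.Bijective σ) (g : C →+* A) (gB : C →+* B)
    (hcomp : gB = σ.comp g) (J : Ideal C) :
    Module.length B (B ⧸ J.map gB) = Module.length A (A ⧸ J.map g) := by
  subst hcomp
  rw [← Ideal.map_map]
  exact Groth.Agent.Lib.Helper18.AB7.length_quot_map_of_bijective σ hσ _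

/-- the multiplicity is invariant under precomposition with an isomorphism -/
theorem multN_iso_comp {X'' X' X : Scheme.{u}} (e : X'' ⟶ X') [IsIso e] (π : X' ⟶ X)
    (x'' : X'') : FF6.multN (e ≫ π) x'' = FF6.multN π (e x'') := by
  unfold FF6.multN
  congr 1
  have hcomp : (e ≫ π).stalkMap x'' = π.stalkMap (e x'') ≫ e.stalkMap x'' :=
    Scheme.Hom.stalkMap_comp e π x''
  have hbij : Function.Bijective (e.stalkMap x'').hom :=
    (ConcreteCategory.isIso_iff_bijective (e.stalkMap x'')).1 inferInstance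
  exact length_quot_map_comp (e.stalkMap x'').hom hbij (π.stalkMap (e x'')).hom
    ((e ≫ π).stalkMap x'').hom (by rw [hcomp]; rfl) _

end Mult

section Abs

/-- abstract form of `PC5.main` -/
theorem main_abs {X' X : Scheme.{u}} (π : X' ⟶ X) [CompactSpace X'] (p : ℕ) (δ : X → ℤ)
    (δ' : X' → ℤ) (hinj : Function.Injective π) (hδeq : ∀ x', δ' x' = δ (π x'))
    (hmult : ∀ x', ∃ e : ℕ, FF6.multN π x' = p ^ e) (r : ℤ)
    (β : AlgebraicCycle X' ℤ) (hβ : β ∈ Cyc.Zk X' δ' r) :
    ∃ (n : ℕ) (α : AlgebraicCycle X ℤ), α ∈ Cyc.Zk X δ r ∧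
      (p : ℤ) ^ n • ⇑β = Cyc.pullFun π δ' δ 0 ⇑α := by
  classical
  have hfin : (Function.support β).Finite := by
    have := AB5.finite_inter_support β Set.univ isCompact_univ
    rwa [Set.univ_inter] at this
  choose e he using hmult
  let n : ℕ := hfin.toFinset.sup e
  have hen : ∀ x', β x' ≠ 0 → e x' ≤ n := fun x' hx' =>
    Finset.le_sup (f := e) (hfin.mem_toFinset.mpr hx')
  let αf : X → ℤ := Function.extend π (fun x' => β x' * (p : ℤ) ^ (n - e x')) 0
  have hαf : ∀ x', αf (π x') = β x' * (p : ℤ) ^ (n - e x') :=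
    fun x' => hinj.extend_apply _ _ _
  have hαsupp : ∀ x, αf x ≠ 0 → ∃ x', π x' = x ∧ β x' ≠ 0 := by
    intro x hx
    by_cases hex : ∃ x', π x' = x
    · obtain ⟨x', rfl⟩ := hex
      rw [hαf] at hx
      exact ⟨x', rfl, left_ne_zero_of_mul hx⟩
    · exfalso
      apply hx
      change Function.extend _ _ _ x = 0
      rw [Function.extend_apply' _ _ _ hex]
      rfl
  let α : AlgebraicCycle X ℤ :=
    { toFun := αf
      supportWithinDomain' := Set.subset_univ _
      supportLocallyFiniteWithinDomain' := fun z _ => by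
        refine ⟨Set.univ, Filter.univ_mem, (hfin.image π).subset ?_⟩
        rintro x ⟨-, hx⟩
        obtain ⟨x', hx', hb⟩ := hαsupp x hx
        exact ⟨x', hb, hx'⟩ }
  have hα : ∀ x, α x = αf x := fun _ => rfl
  refine ⟨n, α, ?_, ?_⟩
  · intro x hx
    by_contra hne
    rw [hα] at hne
    obtain ⟨x', rfl, hb⟩ := hαsupp x hne
    apply hx
    rw [← hδeq x']
    by_contra hne'
    exact hb (hβ x' hne')
  · funext x'
    rw [FF6.pullFun_eq, if_pos (by rw [hδeq x', add_zero]), hα, hαf, he x']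
    change (p : ℤ) ^ n • β x' = _
    rw [smul_eq_mul]
    by_cases hb : β x' = 0
    · rw [hb]; ring
    · have hle := hen x' hb
      push_cast
      rw [mul_assoc, ← pow_add, Nat.sub_add_cancel hle]
      ring

end Abs

section Square

variable (k E : Type u) [Field k] [Field E] [Algebra k E] (p : ℕ) [ExpChar k p]
  [IsPurelyInseparable k E] {X X' : Scheme.{u}} (g : X ⟶ Spec (CommRingCat.of k))
  (f : X' ⟶ X) (g' : X' ⟶ Spec (CommRingCat.of E))
  (hsq : IsPullback f g' g (Spec.map (CommRingCat.ofHom (algebraMap k E))))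

include hsq in
theorem universallyInjective_f : UniversallyInjective f :=
  MorphismProperty.of_isPullback (P := @UniversallyInjective) hsq.flip
    (universallyInjective_gE k E)

theorem delta_eq_abs [UniversallyInjective f] (δ : X → ℤ) (δ' : X' → ℤ)
    (hδ : Cyc.DeltaCompat f δ' δ) (x' : X') : δ' x' = δ (f x') := by
  obtain ⟨n, hn1, hn2⟩ := hδ x'
  rw [trdeg_eq_zero_of_isPurelyInseparable f x' ((ui_spec f).2 x')] at hn1
  have hn0 : n = 0 := by exact_mod_cast hn1.symm
  rw [hn2, hn0]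
  simp

include hsq in
theorem multN_pow_abs [LocallyOfFiniteType g] (hp : p.Prime) (x' : X') :
    ∃ e : ℕ, FF6.multN f x' = p ^ e := by
  have hf : f = hsq.isoPullback.hom ≫ πE k E g := hsq.isoPullback_hom_fst.symm
  rw [hf, multN_iso_comp]
  exact multN_pow k p E g hp _

include hsq in
theorem compactSpace_X' [QuasiCompact g] : CompactSpace ↥X' := by
  haveI : QuasiCompact g' := MorphismProperty.of_isPullback (P := @QuasiCompact) hsq inferInstance
  exact QuasiCompact.compactSpace_of_compactSpace g'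

include hsq in
theorem part1 [LocallyOfFiniteType g] [QuasiCompact g] (hp : p.Prime) (δ : X → ℤ) (δ' : X' → ℤ)
    (hδ : Cyc.DeltaCompat f δ' δ) (i : ℤ) (β : AlgebraicCycle X' ℤ)
    (hβ : β ∈ Cyc.Zk X' δ' i) :
    ∃ (α : AlgebraicCycle X ℤ) (hα : α ∈ Cyc.Zk X δ i) (α' : AlgebraicCycle X' ℤ)
      (hα' : α' ∈ Cyc.Zk X' δ' i) (s : ℕ), ⇑α' = Cyc.pullFun f δ' δ 0 ⇑α ∧
        ChowOps.cl α' hα' = p ^ s • ChowOps.cl β hβ := by
  haveI := universallyInjective_f k E g f g' hsq
  haveI := compactSpace_X' k E g f g' hsq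
  obtain ⟨n, α, hα, hn⟩ := main_abs f p δ δ' (ui_spec f).1
    (delta_eq_abs f δ δ' hδ) (multN_pow_abs k E p g f g' hsq hp) i β hβ
  have hmem : (p ^ n) • β ∈ Cyc.Zk X' δ' i :=
    (ChowOps.zk X' δ' i).nsmul_mem hβ (p ^ n)
  refine ⟨α, hα, (p ^ n) • β, hmem, n, ?_, ?_⟩
  · rw [← hn]
    funext x
    simp
  · exact map_nsmul (ChowOps.clHom X' δ' i) (p ^ n) ⟨β, hβ⟩

include hsq in
theorem part2 [Module.Finite k E] (δ : X → ℤ) (δ' : X' → ℤ) (hX : Cyc.IsSetup X δ)
    (hX' : Cyc.IsSetup X' δ') (hδ : Cyc.DeltaCompat f δ' δ) (i : ℤ)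
    (α : AlgebraicCycle X ℤ) (hα : α ∈ Cyc.Zk X δ i) (α' : AlgebraicCycle X' ℤ)
    (hα' : α' ∈ Cyc.Zk X' δ' i) (h1 : ⇑α' = Cyc.pullFun f δ' δ 0 ⇑α)
    (h2 : ChowOps.cl α' hα' = 0) : ∃ s : ℕ, p ^ s • ChowOps.cl α hα = 0 := by
  have hfinE : IsFinite (Spec.map (CommRingCat.ofHom (algebraMap k E))) := by
    rw [IsFinite.SpecMap_iff]
    exact RingHom.finite_algebraMap.mpr inferInstance
  have hflatE : Flat (Spec.map (CommRingCat.ofHom (algebraMap k E))) := by
    rw [Flat.SpecMap_iff]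
    exact RingHom.flat_algebraMap_iff.mpr inferInstance
  haveI : IsFinite f := MorphismProperty.of_isPullback (P := @IsFinite) hsq.flip hfinE
  haveI : Flat f := MorphismProperty.of_isPullback (P := @Flat) hsq.flip hflatE
  obtain ⟨s, hs⟩ := IsPurelyInseparable.finrank_eq_pow (F := k) E p
  have hd : ∀ y : X, f.finrank y = p ^ s := by
    intro y
    rw [Scheme.Hom.finrank_of_isPullback g' f _ g hsq.flip y,
      Scheme.Hom.finrank_SpecMap_algebraMap, Module.rankAtStalk_eq_finrank_of_free]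
    exact hs
  have hmap := (Groth.Agent.S1868.result X' X δ' δ hX' hX f (p ^ s) hd hδ i).2 α hα α' h1
  refine ⟨s, ?_⟩
  have h3 := congrArg (Groth.Agent.Lib.Helper18.PPC1.pushCH f δ' δ hX' hX hδ i) h2
  rw [Groth.Agent.Lib.Helper18.PPC1.pushCH_cl, map_zero] at h3
  have hgen : ∀ (γ : AlgebraicCycle X ℤ) (e : γ = (p ^ s) • α) (hγ : γ ∈ Cyc.Zk X δ i),
      ChowOps.cl γ hγ = p ^ s • ChowOps.cl α hα := by
    intro γ e hγ
    subst e
    exact map_nsmul (ChowOps.clHom X δ i) (p ^ s) ⟨α, hα⟩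
  rw [hgen _ hmap] at h3
  exact h3

end Square

end Groth.Agent.Lib.Helper18.PI1
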