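import Mathlib
import Groth.Prelude.Def_P1

/-!
# The projective line, part A: algebra of the standard charts

`Aw i = (ℤ[T₀,T₁]_{T_i})₀`, `tau i j = T_j / T_i`, and the evaluation `P1.evalAway i` is surjective
with kernel generated by `tau i j` (`j ≠ i`).
-/

set_option autoImplicit false
set_option linter.unusedSectionVars false
set_option linter.style.haveILetI false
universe u
open AlgebraicGeometry CategoryTheory HomogeneousLocalization

namespace Groth.Agent.Lib.Helper18.PLA

abbrev R0 := P1.R0.{u}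
abbrev Poly := MvPolynomial (Fin (1 + 1)) R0.{u}
noncomputable abbrev gr : ℕ → Submodule R0.{u} Poly.{u} := P1.grading.{u}
abbrev Aw (i : Fin (1 + 1)) := Away gr.{u} (P1.T.{u} i)

theorem T_mem (i : Fin (1 + 1)) : P1.T.{u} i ∈ gr.{u} 1 := P1.X_mem i

/-- `T_j / T_i` -/
noncomputable def tau (i j : Fin (1 + 1)) : Aw.{u} i :=
  Away.isLocalizationElem (T_mem i) (T_mem j)

theorem ulift_int_hom_ext {R : Type*} [Semiring R] (f g : R0.{u} →+* R) : f = g := by
  have : f.comp (ULift.ringEquiv.symm : ℤ ≃+* R0.{u}).toRingHom =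
      g.comp (ULift.ringEquiv.symm : ℤ ≃+* R0.{u}).toRingHom := RingHom.ext_int _ _
  ext z
  obtain ⟨n⟩ := z
  exact congrArg (fun φ => φ n) this

/-- the constants `R0 → Aw i` -/
noncomputable def cst (i : Fin (1 + 1)) : R0.{u} →+* Aw.{u} i :=
  (fromZeroRingHom gr.{u} _).comp (algebraMap R0.{u} (gr.{u} 0))

theorem evalAway_cst (i : Fin (1 + 1)) (r : R0.{u}) : P1.evalAway i (cst i r) = r := by
  have := ulift_int_hom_ext ((P1.evalAway i).comp (cst i)) (RingHom.id _)
  exact congrFun (congrArg DFunLike.coe this) r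

theorem evalAway_surjective (i : Fin (1 + 1)) : Function.Surjective (P1.evalAway.{u} i) :=
  fun r => ⟨cst i r, evalAway_cst i r⟩

theorem evalAway_mk (i : Fin (1 + 1)) (n : ℕ) (a : Poly.{u}) (ha : a ∈ gr.{u} (n • 1)) :
    P1.evalAway i (Away.mk gr.{u} (T_mem i) n a ha) =
      MvPolynomial.aeval (Pi.single i (1 : R0.{u}) : Fin (1 + 1) → R0.{u}) a := by
  unfold P1.evalAway
  rw [RingHom.comp_apply, HomogeneousLocalization.algebraMap_apply, Away.val_mk,
    Localization.mk_eq_mk', IsLocalization.Away.lift, IsLocalization.lift_mk',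
    Units.mul_inv_eq_iff_eq_mul, IsUnit.coe_liftRight]
  simp

theorem adjoin_T :
    Algebra.adjoin (gr.{u} 0) (Set.range (P1.T.{u} : Fin (1 + 1) → Poly.{u})) = ⊤ := by
  rw [eq_top_iff]
  intro p hp0
  clear hp0
  have hp : p ∈ Algebra.adjoin R0.{u} (Set.range (MvPolynomial.X : Fin (1 + 1) → Poly.{u})) := by
    rw [MvPolynomial.adjoin_range_X]; trivial
  induction hp using Algebra.adjoin_induction with
  | mem x hx => exact Algebra.subset_adjoin hx
  | algebraMap r =>
    exact Subalgebra.algebraMap_mem _ (algebraMap R0.{u} (gr.{u} 0) r)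
  | add x y _ _ hx hy => exact add_mem hx hy
  | mul x y _ _ hx hy => exact mul_mem hx hy

theorem mk_prod_eq (i j : Fin (1 + 1)) (hij : j ≠ i) (a : ℕ) (ai : Fin (1 + 1) → ℕ)
    (hai : ∑ k, ai k • 1 = a • 1) :
    Away.mk gr.{u} (T_mem i) a (∏ k, P1.T k ^ ai k)
      (hai ▸ SetLike.prod_pow_mem_graded _ _ _ _ fun k _ ↦ T_mem k) = tau i j ^ ai j := by
  apply HomogeneousLocalization.val_injective
  rw [val_pow, tau, Away.isLocalizationElem, Away.val_mk, Away.val_mk, Localization.mk_pow,
    Localization.mk_eq_mk_iff, Localization.r_iff_exists]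
  refine ⟨1, ?_⟩
  simp only [smul_eq_mul, mul_one] at hai
  rw [Fin.sum_univ_two] at hai
  subst hai
  rw [Fin.prod_univ_two]
  fin_cases i <;> fin_cases j <;> simp at hij ⊢ <;> ring

theorem evalAway_tau (i j : Fin (1 + 1)) (hij : j ≠ i) : P1.evalAway.{u} i (tau i j) = 0 := by
  rw [tau, Away.isLocalizationElem, evalAway_mk]
  fin_cases i <;> fin_cases j <;> simp at hij ⊢

theorem gradeZero_eq (r : gr.{u} 0) : ∃ r₀ : R0.{u}, algebraMap R0.{u} (gr.{u} 0) r₀ = r := by
  obtain ⟨x, hx⟩ := r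
  have hx' : x.IsHomogeneous 0 := hx
  rw [← MvPolynomial.totalDegree_zero_iff_isHomogeneous,
    MvPolynomial.totalDegree_eq_zero_iff_eq_C] at hx'
  refine ⟨MvPolynomial.coeff 0 x, ?_⟩
  apply Subtype.ext
  change algebraMap R0.{u} Poly.{u} _ = x
  rw [MvPolynomial.algebraMap_eq]
  exact hx'.symm

theorem abstract_ker {R A B : Type*} [CommRing R] [CommRing A] [CommRing B] [Algebra A B]
    (ev : B →+* R) (c : R →+* B) (hc : ∀ r, ev (c r) = r)
    (hA : ∀ a : A, ∃ r, algebraMap A B a = c r) (τ : B) (hτ : ev τ = 0) (S : Set B)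
    (hS : ∀ s ∈ S, ∃ n : ℕ, s = τ ^ n) (hspan : Submodule.span A S = ⊤) :
    RingHom.ker ev = Ideal.span {τ} := by
  have key : ∀ x : B, x - c (ev x) ∈ Ideal.span {τ} := by
    intro x
    have hx : x ∈ (⊤ : Submodule A B) := trivial
    rw [← hspan] at hx
    induction hx using Submodule.span_induction with
    | mem x hx =>
      obtain ⟨n, rfl⟩ := hS x hx
      rcases Nat.eq_zero_or_pos n with h0 | h0
      · rw [h0, pow_zero, map_one, map_one, sub_self]
        exact zero_mem _
      · obtain ⟨m, rfl⟩ := Nat.exists_eq_succ_of_ne_zero h0.ne'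
        rw [pow_succ, map_mul, hτ, mul_zero, map_zero, sub_zero]
        exact Ideal.mul_mem_left _ _ (Ideal.mem_span_singleton_self _)
    | zero =>
      rw [map_zero, map_zero, sub_zero]
      exact zero_mem _
    | add x y _ _ hx hy =>
      have : x + y - c (ev (x + y)) = (x - c (ev x)) + (y - c (ev y)) := by
        rw [map_add, map_add]; ring
      rw [this]
      exact add_mem hx hy
    | smul r x _ hx =>
      obtain ⟨r₀, hr₀⟩ := hA r
      rw [Algebra.smul_def, hr₀, map_mul, hc, map_mul, ← mul_sub]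
      exact Ideal.mul_mem_left _ _ hx
  apply le_antisymm
  · intro x hx
    have := key x
    rwa [RingHom.mem_ker.mp hx, map_zero, sub_zero] at this
  · rw [Ideal.span_le, Set.singleton_subset_iff]
    exact RingHom.mem_ker.mpr hτ

theorem ker_evalAway (i j : Fin (1 + 1)) (hij : j ≠ i) :
    RingHom.ker (P1.evalAway.{u} i) = Ideal.span {tau i j} := by
  refine abstract_ker (A := gr.{u} 0) (P1.evalAway.{u} i) (cst i) (evalAway_cst i) ?_ (tau i j)
    (evalAway_tau i j hij) _ ?_
    (Away.span_mk_prod_pow_eq_top (T_mem i) P1.T adjoin_T (fun _ => 1) T_mem)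
  · intro a
    obtain ⟨r₀, rfl⟩ := gradeZero_eq a
    exact ⟨r₀, rfl⟩
  · rintro s ⟨a, ai, hai, rfl⟩
    exact ⟨ai j, mk_prod_eq i j hij a ai hai⟩

end Groth.Agent.Lib.Helper18.PLA
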