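import Mathlib
import Groth.Agent.Lib.Helper18.PLA
import Groth.Agent.Lib.Helper18.KF29

/-!
# The projective line, part B: kernels of stalk maps of closed immersions of affine type
-/

set_option autoImplicit false
set_option linter.unusedSectionVars false
set_option linter.style.haveILetI false
universe u
open AlgebraicGeometry CategoryTheory TopologicalSpace

namespace Groth.Agent.Lib.Helper18.PLB

section Alg

variable {A B Ap Bq : Type*} [CommRing A] [CommRing B] [CommRing Ap] [CommRing Bq]
  [Algebra A Ap] [Algebra B Bq]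

/-- kernel of the map induced on localizations by a surjection with principal kernel -/
theorem ker_map_localization (φ : A →+* B) (hφ : Function.Surjective φ) (t : A)
    (hker : RingHom.ker φ = Ideal.span {t}) (p : Ideal A) [p.IsPrime] (q : Ideal B) [q.IsPrime]
    (hpq : q.comap φ = p) [IsLocalization.AtPrime Ap p] [IsLocalization.AtPrime Bq q]
    (ψ : Ap →+* Bq) (hψ : ∀ a, ψ (algebraMap A Ap a) = algebraMap B Bq (φ a)) :
    RingHom.ker ψ = Ideal.span {algebraMap A Ap t} := by
  apply le_antisymm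
  · intro x hx
    obtain ⟨a, s, rfl⟩ := IsLocalization.exists_mk'_eq p.primeCompl x
    have h1 : ψ (IsLocalization.mk' Ap a s) * algebraMap B Bq (φ s) = algebraMap B Bq (φ a) := by
      rw [← hψ, ← hψ, ← map_mul, IsLocalization.mk'_spec]
    rw [RingHom.mem_ker.mp hx, zero_mul] at h1
    obtain ⟨⟨b, hb⟩, hba⟩ := (IsLocalization.map_eq_zero_iff q.primeCompl Bq _).mp h1.symm
    obtain ⟨s', rfl⟩ := hφ b
    have hs' : s' ∈ p.primeCompl := by
      intro hmem
      apply hb
      rw [← hpq] at hmem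
      exact hmem
    have h2 : s' * a ∈ Ideal.span {t} := by
      rw [← hker, RingHom.mem_ker, map_mul]
      exact hba
    obtain ⟨c, hc⟩ := Ideal.mem_span_singleton'.mp h2
    have hu : IsUnit (algebraMap A Ap s') := IsLocalization.map_units Ap ⟨s', hs'⟩
    have h3 : algebraMap A Ap a ∈ Ideal.span {algebraMap A Ap t} := by
      have : algebraMap A Ap s' * algebraMap A Ap a ∈ Ideal.span {algebraMap A Ap t} := by
        rw [← map_mul, ← hc, map_mul]
        exact Ideal.mul_mem_left _ _ (Ideal.mem_span_singleton_self _)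
      exact (Ideal.unit_mul_mem_iff_mem _ hu).mp this
    rw [IsLocalization.mk'_eq_mul_mk'_one]
    exact Ideal.mul_mem_right _ _ h3
  · rw [Ideal.span_le, Set.singleton_subset_iff]
    change ψ (algebraMap A Ap t) = 0
    rw [hψ]
    have : φ t = 0 := by
      rw [← RingHom.mem_ker, hker]
      exact Ideal.mem_span_singleton_self _
    rw [this, map_zero]

end Alg

section Sch

variable {X Y : Scheme.{u}}

/-- the kernel of the stalk map of a morphism which on an affine chart is a surjection with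
principal kernel -/
theorem ker_stalkMap_of_app (g : Y ⟶ X) (U : X.Opens) (hU : IsAffineOpen U)
    (hV : IsAffineOpen (g ⁻¹ᵁ U)) (t : Γ(X, U)) (hsurj : Function.Surjective (g.app U).hom)
    (hker : RingHom.ker (g.app U).hom = Ideal.span {t}) (y : Y) (hy : g y ∈ U) :
    RingHom.ker (g.stalkMap y).hom = Ideal.span {X.presheaf.germ U (g y) hy t} := by
  have hyV : y ∈ g ⁻¹ᵁ U := hy
  letI := X.presheaf.algebra_section_stalk ⟨g y, hy⟩
  letI := Y.presheaf.algebra_section_stalk ⟨y, hyV⟩
  haveI := hU.isLocalization_stalk ⟨g y, hy⟩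
  haveI := hV.isLocalization_stalk ⟨y, hyV⟩
  have hP : (hV.primeIdealOf ⟨y, hyV⟩).asIdeal.comap (g.app U).hom =
      (hU.primeIdealOf ⟨g y, hy⟩).asIdeal := by
    have h := IsAffineOpen.comap_primeIdealOf_appLE U hU (g ⁻¹ᵁ U) hV le_rfl hyV
    rw [← Scheme.Hom.app_eq_appLE] at h
    exact congrArg PrimeSpectrum.asIdeal h
  refine ker_map_localization (g.app U).hom hsurj t hker (hU.primeIdealOf ⟨g y, hy⟩).asIdeal
    (hV.primeIdealOf ⟨y, hyV⟩).asIdeal hP (g.stalkMap y).hom ?_
  intro a
  change (g.stalkMap y) (X.presheaf.germ U (g y) hy a) =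
    Y.presheaf.germ (g ⁻¹ᵁ U) y hyV (g.app U a)
  rw [Scheme.Hom.germ_stalkMap_apply]

theorem mem_span_singleton_of_bijective {A B : Type*} [CommRing A] [CommRing B] (e : A →+* B)
    (he : Function.Bijective e) (t a : A) : e a ∈ Ideal.span {e t} ↔ a ∈ Ideal.span {t} := by
  rw [← Set.image_singleton, ← Ideal.map_span, ← Ideal.mem_comap,
    Ideal.comap_map_of_bijective e he]

theorem ker_comp_of_bijective {A B C : Type*} [CommRing A] [CommRing B] [CommRing C]
    (e : A →+* B) (he : Function.Bijective e) (ψ : B →+* C) (t : A)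
    (h : RingHom.ker ψ = Ideal.span {e t}) : RingHom.ker (ψ.comp e) = Ideal.span {t} := by
  ext a
  rw [RingHom.mem_ker, RingHom.comp_apply, ← RingHom.mem_ker, h,
    mem_span_singleton_of_bijective e he]

/-- the morphism `g` is cut out by the single equation `t` on the open `U` -/
def CutOut {S' S : Scheme.{u}} (g : S' ⟶ S) (U : S.Opens) (t : Γ(S, U)) : Prop :=
  ∀ (y : S') (hy : g y ∈ U),
    RingHom.ker (g.stalkMap y).hom = Ideal.span {S.presheaf.germ U (g y) hy t}

open Groth.Agent.Lib.Helper10.FibreProductStalk in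
/-- base change of a closed immersion cut out by one equation -/
theorem cutOut_pullback {X S X' S' : Scheme.{u}} {f : X ⟶ S} {f' : X' ⟶ S'} {g' : X' ⟶ X}
    {g : S' ⟶ S} (hc : IsPullback g' f' f g) [IsClosedImmersion g] (U : S.Opens) (t : Γ(S, U))
    (h : CutOut g U t) : CutOut g' (f ⁻¹ᵁ U) (f.app U t) := by
  intro x' hx'
  rw [Groth.Agent.Lib.Helper18.KF29.ker_stalkMap_pullback hc x']
  have hx'' : f (g' x') ∈ U := hx'
  have hy : g (f' x') ∈ U := by
    have := base_eq hc x'
    change f (g' x') = g (f' x') at this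
    rw [← this]; exact hx''
  have hk : RingHom.ker (baseStalkMap hc x').hom =
      Ideal.span {S.presheaf.germ U (f (g' x')) hx'' t} := by
    unfold baseStalkMap
    rw [CommRingCat.hom_comp]
    refine ker_comp_of_bijective _ (ConcreteCategory.bijective_of_isIso
      (S.presheaf.stalkCongr (.of_eq (base_eq hc x'))).hom) _
      (S.presheaf.germ U (f (g' x')) hx'' t) ?_
    rw [h _ hy]
    congr 2
    have h1 := TopCat.Presheaf.germ_stalkSpecializes S.presheaf hx''
      (Inseparable.of_eq (base_eq hc x')).ge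
    exact (congrArg (fun φ => φ.hom t) h1).symm
  rw [hk, Ideal.map_span, Set.image_singleton]
  congr 2
  exact Scheme.Hom.germ_stalkMap_apply f U (g' x') hx'' t

/-- `Spec` of a surjection with principal kernel is cut out by the generator -/
theorem cutOut_specMap {A B : CommRingCat.{u}} (φ : A ⟶ B) (hφ : Function.Surjective φ.hom)
    (τ : A) (hker : RingHom.ker φ.hom = Ideal.span {τ}) :
    CutOut (Spec.map φ) ⊤ ((Scheme.ΓSpecIso A).inv τ) := by
  intro y hy
  have hnat : ∀ x, (Scheme.ΓSpecIso B).hom ((Spec.map φ).app ⊤ x) =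
      φ ((Scheme.ΓSpecIso A).hom x) := fun x =>
    congrArg (fun ψ => ψ.hom x) (Scheme.ΓSpecIso_naturality φ)
  have hbB : Function.Bijective (Scheme.ΓSpecIso B).hom :=
    ConcreteCategory.bijective_of_isIso (Scheme.ΓSpecIso B).hom
  have hbA : Function.Bijective (Scheme.ΓSpecIso A).hom :=
    ConcreteCategory.bijective_of_isIso (Scheme.ΓSpecIso A).hom
  have hinv : ∀ a, (Scheme.ΓSpecIso A).hom ((Scheme.ΓSpecIso A).inv a) = a := fun a =>
    congrArg (fun ψ => ψ.hom a) (Scheme.ΓSpecIso A).inv_hom_id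
  refine ker_stalkMap_of_app (Spec.map φ) ⊤ (isAffineOpen_top _)
    ((isAffineOpen_top _).preimage (Spec.map φ)) _ ?_ ?_ y hy
  · intro b
    obtain ⟨a, ha⟩ := hφ ((Scheme.ΓSpecIso B).hom b)
    refine ⟨(Scheme.ΓSpecIso A).inv a, hbB.1 ?_⟩
    rw [hnat, hinv, ha]
  · ext x
    rw [RingHom.mem_ker]
    have h1 : (Spec.map φ).app ⊤ x = 0 ↔ φ ((Scheme.ΓSpecIso A).hom x) = 0 := by
      rw [← hnat]
      constructor
      · intro h; rw [h]; exact map_zero _
      · intro h; exact hbB.1 (h.trans (map_zero _).symm)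
    refine h1.trans ?_
    rw [← RingHom.mem_ker, hker]
    have h2 := mem_span_singleton_of_bijective (Scheme.ΓSpecIso A).hom.hom hbA
      ((Scheme.ΓSpecIso A).inv τ) x
    rw [← h2]
    have : (Scheme.ΓSpecIso A).hom.hom ((Scheme.ΓSpecIso A).inv τ) = τ := hinv τ
    rw [this]

/-- composing with an open immersion -/
theorem cutOut_comp_openImmersion {S' S T : Scheme.{u}} (g : S' ⟶ S) (j : S ⟶ T)
    [IsOpenImmersion j] (V : S.Opens) (t : Γ(S, V)) (h : CutOut g V t) :
    CutOut (g ≫ j) (j ''ᵁ V) ((j.appIso V).inv t) := by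
  intro y hy
  have hgy : g y ∈ V := by
    obtain ⟨v, hv, hvy⟩ := hy
    have : v = g y := j.isOpenEmbedding.injective hvy
    rw [← this]; exact hv
  rw [Scheme.Hom.stalkMap_comp]
  change RingHom.ker ((g.stalkMap y).hom.comp (j.stalkMap (g y)).hom) = _
  refine ker_comp_of_bijective (j.stalkMap (g y)).hom
    (ConcreteCategory.bijective_of_isIso (j.stalkMap (g y))) (g.stalkMap y).hom _ ?_
  rw [h y hgy]
  congr 2
  have h1 := Scheme.Hom.germ_stalkMap_apply j (j ''ᵁ V) (g y) hy ((j.appIso V).inv t)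
  refine Eq.trans ?_ h1.symm
  have h2 : j.app (j ''ᵁ V) ((j.appIso V).inv t) =
      S.presheaf.map (eqToHom (j.preimage_image_eq V)).op t :=
    congrArg (fun ψ => ψ.hom t) (j.appIso_inv_app V)
  rw [h2]
  exact (TopCat.Presheaf.germ_res_apply S.presheaf _ (g y) _ t).symm

end Sch

end Groth.Agent.Lib.Helper18.PLB
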