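import Mathlib
import Groth.Agent.Lib.Helper18.PLB

/-!
# The projective line, part C: the points `0` and `∞` of `P^1_ℤ`
-/

set_option autoImplicit false
set_option linter.unusedSectionVars false
set_option linter.style.haveILetI false
universe u
open AlgebraicGeometry CategoryTheory TopologicalSpace HomogeneousLocalization

namespace Groth.Agent.Lib.Helper18.PLC

open Groth.Agent.Lib.Helper18.PLA Groth.Agent.Lib.Helper18.PLB

/-- `P^1_ℤ` -/
noncomputable abbrev Pj : Scheme.{u} := Proj gr.{u}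

/-- the standard chart `Spec (ℤ[T₀,T₁]_{T_i})₀ ⟶ P^1_ℤ` -/
noncomputable def aι (i : Fin (1 + 1)) : Spec (CommRingCat.of (Aw.{u} i)) ⟶ Pj.{u} :=
  Proj.awayι gr.{u} (P1.T i) (T_mem i) one_pos

instance (i : Fin (1 + 1)) : IsOpenImmersion (aι.{u} i) := by
  unfold aι; infer_instance

/-- the standard open `D₊(T_i)` -/
noncomputable def D (i : Fin (1 + 1)) : Pj.{u}.Opens := (aι i) ''ᵁ ⊤

theorem D_eq (i : Fin (1 + 1)) : D.{u} i = Proj.basicOpen gr.{u} (P1.T i) :=
  ((aι i).image_top_eq_opensRange).trans (Proj.opensRange_awayι gr.{u} (P1.T i) (T_mem i) one_pos)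

/-- the section of `O` on `D₊(T_i)` given by an element of the coordinate ring of the chart -/
noncomputable def sec (i : Fin (1 + 1)) (a : Aw.{u} i) : Γ(Pj.{u}, D i) :=
  ((aι i).appIso ⊤).inv ((Scheme.ΓSpecIso (CommRingCat.of (Aw.{u} i))).inv a)

theorem point_eq (i : Fin (1 + 1)) :
    P1.point.{u} i = Spec.map (CommRingCat.ofHom (P1.evalAway i)) ≫ aι i := rfl

/-- the point `P1.point i` is cut out by `T_j/T_i` on `D₊(T_i)` -/
theorem cutOut_point (i j : Fin (1 + 1)) (hij : j ≠ i) :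
    CutOut (P1.point.{u} i) (D i) (sec i (tau i j)) := by
  rw [point_eq]
  exact cutOut_comp_openImmersion _ (aι i) ⊤ _
    (cutOut_specMap (CommRingCat.ofHom (P1.evalAway i)) (evalAway_surjective i) (tau i j)
      (ker_evalAway i j hij))

theorem D_sup : D.{u} 0 ⊔ D.{u} 1 = ⊤ := by
  have h := Proj.iSup_basicOpen_eq_top' gr.{u} P1.T (fun i => ⟨1, T_mem i⟩) adjoin_T
  rw [D_eq, D_eq, ← h]
  apply le_antisymm
  · rw [sup_le_iff]
    exact ⟨le_iSup (fun i => Proj.basicOpen gr.{u} (P1.T i)) 0,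
      le_iSup (fun i => Proj.basicOpen gr.{u} (P1.T i)) 1⟩
  · rw [iSup_le_iff]
    intro i
    fin_cases i
    · exact le_sup_left
    · exact le_sup_right

theorem D_sup' (i j : Fin (1 + 1)) (hij : j ≠ i) : D.{u} i ⊔ D.{u} j = ⊤ := by
  fin_cases i <;> fin_cases j
  · exact absurd rfl hij
  · exact D_sup
  · rw [sup_comm]; exact D_sup
  · exact absurd rfl hij

theorem aι_preimage_D (i j : Fin (1 + 1)) :
    (aι.{u} i) ⁻¹ᵁ (D j) = PrimeSpectrum.basicOpen (tau i j) := by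
  rw [D_eq]
  exact Proj.awayι_preimage_basicOpen gr.{u} (T_mem i) one_pos (T_mem j) one_pos

theorem range_point (i j : Fin (1 + 1)) (hij : j ≠ i) :
    Set.range (P1.point.{u} i) = ((D.{u} j : Set Pj.{u}))ᶜ := by
  have hr : Set.range (Spec.map (CommRingCat.ofHom (P1.evalAway.{u} i))) =
      PrimeSpectrum.zeroLocus (RingHom.ker (P1.evalAway.{u} i)) :=
    range_comap_of_surjective _ _ (evalAway_surjective i)
  ext p
  constructor
  · rintro ⟨y, rfl⟩
    intro hp
    rw [point_eq] at hp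
    have h1 : Spec.map (CommRingCat.ofHom (P1.evalAway.{u} i)) y ∈ (aι.{u} i) ⁻¹ᵁ (D j) := hp
    rw [aι_preimage_D] at h1
    have h2 : Spec.map (CommRingCat.ofHom (P1.evalAway.{u} i)) y ∈
        PrimeSpectrum.zeroLocus (RingHom.ker (P1.evalAway.{u} i)) := by
      rw [← hr]; exact ⟨y, rfl⟩
    rw [ker_evalAway i j hij, PrimeSpectrum.zeroLocus_span] at h2
    exact h1 (h2 (Set.mem_singleton _))
  · intro hp
    have hpi : p ∈ D.{u} i := by
      have : p ∈ D.{u} i ⊔ D.{u} j := by rw [D_sup' i j hij]; trivial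
      rcases this with h | h
      · exact h
      · exact absurd h hp
    obtain ⟨q, -, rfl⟩ := hpi
    have hq : q ∉ (aι.{u} i) ⁻¹ᵁ (D j) := hp
    rw [aι_preimage_D] at hq
    have hq' : q ∈ PrimeSpectrum.zeroLocus (RingHom.ker (P1.evalAway.{u} i)) := by
      rw [ker_evalAway i j hij, PrimeSpectrum.zeroLocus_span]
      intro x hx
      rw [Set.mem_singleton_iff] at hx
      subst hx
      by_contra hc
      exact hq hc
    rw [← hr] at hq'
    obtain ⟨y, rfl⟩ := hq'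
    exact ⟨y, rfl⟩

theorem point_toSpec (i : Fin (1 + 1)) :
    P1.point.{u} i ≫ CohB1.ProjSpace.toSpec 1 R0.{u} = 𝟙 _ :=
  specULiftZIsTerminal.hom_ext _ _

theorem stalkMap_germ_sec (i : Fin (1 + 1)) {W : Scheme.{u}}
    (k : W ⟶ Spec (CommRingCat.of (Aw.{u} i))) (r : W) (a : Aw.{u} i)
    (h : (k ≫ aι i) r ∈ D.{u} i) :
    (k ≫ aι i).stalkMap r (Pj.{u}.presheaf.germ (D i) ((k ≫ aι i) r) h (sec i a)) =
      W.presheaf.germ ⊤ r trivial
        (k.app ⊤ ((Scheme.ΓSpecIso (CommRingCat.of (Aw.{u} i))).inv a)) := by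
  rw [Scheme.Hom.germ_stalkMap_apply]
  have h1 : (k ≫ aι i).app (D i) (sec i a) =
      k.app ((aι i) ⁻¹ᵁ D i) ((aι i).app (D i) (sec i a)) := by
    rw [Scheme.Hom.comp_app]; rfl
  have h2 : (aι i).app (D i) (sec i a) =
      (Spec (CommRingCat.of (Aw.{u} i))).presheaf.map
        (eqToHom ((aι i).preimage_image_eq ⊤)).op
        ((Scheme.ΓSpecIso (CommRingCat.of (Aw.{u} i))).inv a) :=
    congrArg (fun ψ => ψ.hom ((Scheme.ΓSpecIso (CommRingCat.of (Aw.{u} i))).inv a))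
      ((aι i).appIso_inv_app ⊤)
  have h3 : k.app ((aι i) ⁻¹ᵁ D i) ((Spec (CommRingCat.of (Aw.{u} i))).presheaf.map
        (eqToHom ((aι i).preimage_image_eq ⊤)).op
        ((Scheme.ΓSpecIso (CommRingCat.of (Aw.{u} i))).inv a)) =
      W.presheaf.map ((Opens.map k.base).map (eqToHom ((aι i).preimage_image_eq ⊤))).op
        (k.app ⊤ ((Scheme.ΓSpecIso (CommRingCat.of (Aw.{u} i))).inv a)) :=
    congrArg (fun ψ => ψ.hom ((Scheme.ΓSpecIso (CommRingCat.of (Aw.{u} i))).inv a))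
      (k.naturality (eqToHom ((aι i).preimage_image_eq ⊤)).op)
  rw [h1, h2, h3]
  exact TopCat.Presheaf.germ_res_apply W.presheaf _ r _ _

theorem stalkMap_germ_sec' (i : Fin (1 + 1)) {A' : CommRingCat.{u}}
    (m : CommRingCat.of (Aw.{u} i) ⟶ A') (k : Spec A' ⟶ Pj.{u}) (hk : k = Spec.map m ≫ aι i)
    (r : Spec A') (a : Aw.{u} i) (h : k r ∈ D.{u} i) :
    k.stalkMap r (Pj.{u}.presheaf.germ (D i) (k r) h (sec i a)) =
      (Spec A').presheaf.germ ⊤ r trivial ((Scheme.ΓSpecIso A').inv (m a)) := by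
  subst hk
  rw [stalkMap_germ_sec]
  congr 1
  exact (congrArg (fun ψ => ψ.hom a) (Scheme.ΓSpecIso_inv_naturality m)).symm

/-- `T₀T₁` -/
noncomputable abbrev x01 : Poly.{u} := P1.T 0 * P1.T 1

theorem x01_mem : x01.{u} ∈ gr.{u} (1 + 1) := SetLike.mul_mem_graded (T_mem 0) (T_mem 1)

noncomputable abbrev m0 : Aw.{u} 0 →+* Away gr.{u} x01.{u} := awayMap gr.{u} (T_mem 1) rfl
noncomputable abbrev m1 : Aw.{u} 1 →+* Away gr.{u} x01.{u} :=
  awayMap gr.{u} (T_mem 0) (mul_comm _ _)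

theorem m0_mul_m1 : m0.{u} (tau 0 1) * m1.{u} (tau 1 0) = 1 := by
  apply HomogeneousLocalization.val_injective
  rw [val_mul, val_one, tau, tau, Away.isLocalizationElem, Away.isLocalizationElem, awayMap_mk,
    awayMap_mk, Away.val_mk, Away.val_mk, Localization.mk_mul, ← Localization.mk_one,
    Localization.mk_eq_mk_iff, Localization.r_iff_exists]
  refine ⟨1, ?_⟩
  simp only [OneMemClass.coe_one, one_mul, Submonoid.coe_mul, mul_one, pow_one]
  ring

noncomputable def j01 : Spec (CommRingCat.of (Away gr.{u} x01.{u})) ⟶ Pj.{u} :=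
  Proj.awayι gr.{u} x01.{u} x01_mem (by norm_num)

instance : IsOpenImmersion j01.{u} := by unfold j01; infer_instance

theorem j01_eq0 : j01.{u} = Spec.map (CommRingCat.ofHom m0.{u}) ≫ aι 0 :=
  (Proj.SpecMap_awayMap_awayι gr.{u} (T_mem 0) one_pos (T_mem 1) rfl).symm

theorem j01_eq1 : j01.{u} = Spec.map (CommRingCat.ofHom m1.{u}) ≫ aι 1 :=
  (Proj.SpecMap_awayMap_awayι gr.{u} (T_mem 1) one_pos (T_mem 0) (mul_comm _ _)).symm

theorem range_j01 : Set.range j01.{u} = (D.{u} 0 ⊓ D.{u} 1 : Pj.{u}.Opens) := by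
  have h := Proj.opensRange_awayι gr.{u} x01.{u} x01_mem (by norm_num)
  have h2 : (j01.{u}.opensRange : Set Pj.{u}) = Set.range j01.{u} := rfl
  rw [← h2]
  unfold j01
  rw [h, D_eq, D_eq, Proj.basicOpen_mul]

/-- on the overlap, the two coordinate functions are inverse to each other -/
theorem germ_mul_germ (p : Pj.{u}) (h0 : p ∈ D.{u} 0) (h1 : p ∈ D.{u} 1) :
    Pj.{u}.presheaf.germ (D 0) p h0 (sec 0 (tau 0 1)) *
      Pj.{u}.presheaf.germ (D 1) p h1 (sec 1 (tau 1 0)) = 1 := by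
  have hp : p ∈ Set.range j01.{u} := by rw [range_j01]; exact ⟨h0, h1⟩
  obtain ⟨r, rfl⟩ := hp
  have hinj : Function.Injective (j01.{u}.stalkMap r).hom :=
    (ConcreteCategory.bijective_of_isIso (j01.{u}.stalkMap r)).1
  apply hinj
  rw [map_mul, map_one]
  have e0 := stalkMap_germ_sec' 0 (CommRingCat.ofHom m0.{u}) j01 j01_eq0 r (tau 0 1) h0
  have e1 := stalkMap_germ_sec' 1 (CommRingCat.ofHom m1.{u}) j01 j01_eq1 r (tau 1 0) h1
  refine (congrArg₂ (· * ·) e0 e1).trans ?_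
  rw [← map_mul, ← map_mul]
  have : (CommRingCat.ofHom m0.{u}) (tau 0 1) * (CommRingCat.ofHom m1.{u}) (tau 1 0) = 1 :=
    m0_mul_m1
  rw [this, map_one, map_one]

end Groth.Agent.Lib.Helper18.PLC
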