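import Mathlib
import Groth.Agent.Lib.Helper18.PLC

/-!
# The projective line, part D: the sections `0` and `∞` of `P^1_X → X`
-/

set_option autoImplicit false
set_option linter.unusedSectionVars false
set_option linter.style.haveILetI false
universe u
open AlgebraicGeometry CategoryTheory CategoryTheory.Limits TopologicalSpace

namespace Groth.Agent.Lib.Helper18.PLD

open Groth.Agent.Lib.Helper18.PLA Groth.Agent.Lib.Helper18.PLB Groth.Agent.Lib.Helper18.PLC

variable (X : Scheme.{u})

/-- `P^1_X` -/
noncomputable abbrev P : Scheme.{u} := CohB1.ProjSpaceOver 1 X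

/-- the structure morphism -/
noncomputable abbrev π : P X ⟶ X := CohB1.ProjSpaceOver.toBase 1 X

/-- the projection to `P^1_ℤ` -/
noncomputable def pr : P X ⟶ Pj.{u} :=
  pullback.fst (CohB1.ProjSpace.toSpec 1 R0.{u}) (specULiftZIsTerminal.from X)

theorem sect_π (i : Fin (1 + 1)) : P1.sect X i ≫ π X = 𝟙 X := by
  unfold P1.sect π CohB1.ProjSpaceOver.toBase
  exact pullback.lift_snd _ _ _

theorem sect_pr (i : Fin (1 + 1)) :
    P1.sect X i ≫ pr X = specULiftZIsTerminal.from X ≫ P1.point i := by
  unfold P1.sect pr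
  exact pullback.lift_fst _ _ _

theorem isPullback_sect (i : Fin (1 + 1)) :
    IsPullback (P1.sect X i) (specULiftZIsTerminal.from X) (pr X) (P1.point i) := by
  have hR : IsPullback (π X) (pr X) (specULiftZIsTerminal.from X)
      (CohB1.ProjSpace.toSpec 1 R0.{u}) :=
    (IsPullback.of_hasPullback (CohB1.ProjSpace.toSpec 1 R0.{u})
      (specULiftZIsTerminal.from X)).flip
  have hO : IsPullback (P1.sect X i ≫ π X) (specULiftZIsTerminal.from X)
      (specULiftZIsTerminal.from X) (P1.point i ≫ CohB1.ProjSpace.toSpec 1 R0.{u}) := by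
    rw [sect_π, point_toSpec]
    exact IsPullback.of_horiz_isIso ⟨by simp⟩
  exact IsPullback.of_right hO (sect_pr X i) hR

instance isSeparated_toSpec : IsSeparated (CohB1.ProjSpace.toSpec 1 R0.{u}) := by
  unfold CohB1.ProjSpace.toSpec
  have h1 : IsSeparated (Proj.toSpecZero (CohB1.polyGrading 1 R0.{u})) := inferInstance
  have h2 : IsSeparated (Spec.map (CommRingCat.ofHom
      (algebraMap R0.{u} (CohB1.polyGrading 1 R0.{u} 0)))) := inferInstance
  exact MorphismProperty.comp_mem (W := @IsSeparated) _ _ h1 h2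

instance isSeparated_π : IsSeparated (π X) := by
  have := isSeparated_toSpec.{u}
  change IsSeparated (pullback.snd (CohB1.ProjSpace.toSpec 1 R0.{u})
    (specULiftZIsTerminal.from X))
  infer_instance

instance isClosedImmersion_sect (i : Fin (1 + 1)) : IsClosedImmersion (P1.sect X i) := by
  haveI : IsClosedImmersion (P1.sect X i ≫ π X) := by rw [sect_π]; infer_instance
  exact IsClosedImmersion.of_comp (P1.sect X i) (π X)

instance isClosedImmersion_point (i : Fin (1 + 1)) : IsClosedImmersion (P1.point.{u} i) := by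
  haveI : IsClosedImmersion (P1.point.{u} i ≫ CohB1.ProjSpace.toSpec 1 R0.{u}) := by
    rw [point_toSpec]; infer_instance
  have := isSeparated_toSpec.{u}
  exact IsClosedImmersion.of_comp (P1.point.{u} i) (CohB1.ProjSpace.toSpec 1 R0.{u})

/-- the standard opens of `P^1_X` -/
noncomputable def U (i : Fin (1 + 1)) : (P X).Opens := (pr X) ⁻¹ᵁ (D i)

/-- the coordinate function `T_j / T_i` on `U i` -/
noncomputable def uu (i j : Fin (1 + 1)) : Γ(P X, U X i) := (pr X).app (D i) (sec i (tau i j))

theorem cutOut_sect (i j : Fin (1 + 1)) (hij : j ≠ i) :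
    CutOut (P1.sect X i) (U X i) (uu X i j) :=
  @cutOut_pullback _ _ _ _ _ _ _ _ (isPullback_sect X i) (isClosedImmersion_point i) (D i)
    (sec i (tau i j)) (cutOut_point i j hij)

theorem U_sup : U X 0 ⊔ U X 1 = ⊤ := by
  unfold U
  rw [← Scheme.Hom.preimage_sup, D_sup]
  rfl

theorem germ_mul_germ (p : P X) (h0 : p ∈ U X 0) (h1 : p ∈ U X 1) :
    (P X).presheaf.germ (U X 0) p h0 (uu X 0 1) *
      (P X).presheaf.germ (U X 1) p h1 (uu X 1 0) = 1 := by
  have h := PLC.germ_mul_germ (pr X p) h0 h1
  have h' := congrArg ((pr X).stalkMap p).hom h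
  rw [map_mul, map_one] at h'
  have e0 := Scheme.Hom.germ_stalkMap_apply (pr X) (D 0) p h0 (sec 0 (tau 0 1))
  have e1 := Scheme.Hom.germ_stalkMap_apply (pr X) (D 1) p h1 (sec 1 (tau 1 0))
  refine Eq.trans ?_ h'
  exact (congrArg₂ (· * ·) e0 e1).symm

theorem range_sect (i j : Fin (1 + 1)) (hij : j ≠ i) :
    Set.range (P1.sect X i) = ((U X j : Set (P X)))ᶜ := by
  ext p
  have key : p ∈ Set.range (P1.sect X i) ↔ pr X p ∈ Set.range (P1.point.{u} i) := by
    constructor
    · rintro ⟨x, rfl⟩
      refine ⟨specULiftZIsTerminal.from X x, ?_⟩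
      have := congrArg (fun φ : X ⟶ Pj.{u} => φ x) (sect_pr X i)
      exact this.symm
    · rintro ⟨y, hy⟩
      have hc := isPullback_sect X i
      obtain ⟨z, hz1, hz2⟩ := Scheme.Pullback.exists_preimage_pullback (f := pr X)
        (g := P1.point.{u} i) p y hy.symm
      refine ⟨hc.isoPullback.inv z, ?_⟩
      have := congrArg (fun φ : pullback (pr X) (P1.point.{u} i) ⟶ P X => φ z)
        hc.isoPullback_inv_fst
      exact this.trans hz1
  rw [key, range_point i j hij]
  rfl

instance : IsScalarTower R0.{u} (gr.{u} 0) Poly.{u} :=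
  IsScalarTower.of_algebraMap_eq (R := R0.{u}) (S := gr.{u} 0) (A := Poly.{u}) (fun x => by rfl)

instance : Algebra.FiniteType (gr.{u} 0) Poly.{u} :=
  Algebra.FiniteType.of_restrictScalars_finiteType R0.{u} _ _

instance isProper_toSpec : IsProper (CohB1.ProjSpace.toSpec 1 R0.{u}) := by
  unfold CohB1.ProjSpace.toSpec
  have h1 : IsProper (Proj.toSpecZero (CohB1.polyGrading 1 R0.{u})) := inferInstance
  have h2 : IsProper (Spec.map (CommRingCat.ofHom
      (algebraMap R0.{u} (CohB1.polyGrading 1 R0.{u} 0)))) := by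
    have : IsClosedImmersion (Spec.map (CommRingCat.ofHom
        (algebraMap R0.{u} (CohB1.polyGrading 1 R0.{u} 0)))) :=
      IsClosedImmersion.spec_of_surjective _ (fun r => gradeZero_eq r)
    infer_instance
  exact MorphismProperty.comp_mem (W := @IsProper) _ _ h1 h2

instance isProper_π : IsProper (π X) := by
  have := isProper_toSpec.{u}
  change IsProper (pullback.snd (CohB1.ProjSpace.toSpec 1 R0.{u})
    (specULiftZIsTerminal.from X))
  infer_instance

end Groth.Agent.Lib.Helper18.PLD
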