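import Mathlib
import Groth.Prelude.Def_Cyc
import Groth.Agent.Lib.Helper18.PLB
import Groth.Agent.Lib.Helper18.LocStalk2
import Groth.Agent.Lib.Helper18.FF5
import Groth.Agent.Lib.Helper18.SubCyc
import Groth.Agent.Lib.Helper18.PullSec2

/-!
# The projective line, part F1: generic lemmas on closed subschemes cut out by one equation
-/

set_option autoImplicit false
set_option linter.unusedSectionVars false
set_option linter.style.haveILetI false
universe u
open AlgebraicGeometry CategoryTheory TopologicalSpace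

namespace Groth.Agent.Lib.Helper18.PLF1

open Groth.Agent.Lib.Helper18.PLB Groth.Agent.Lib.Helper18.LocStalk

/-- an element of a local ring of a locally Noetherian scheme which does not vanish at any
associated point is a nonzerodivisor -/
theorem mem_nonZeroDivisors_of_forall_assoc {Y : Scheme.{u}} [IsLocallyNoetherian Y] (w : Y)
    (f : Y.presheaf.stalk w)
    (h : ∀ (ξ : Y) (hs : ξ ⤳ w),
      IsAssociatedPrime (IsLocalRing.maximalIdeal (Y.presheaf.stalk ξ)) (Y.presheaf.stalk ξ) →
        Cyc.specMap w ξ hs f ≠ 0) :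
    f ∈ nonZeroDivisors (Y.presheaf.stalk w) := by
  by_contra hf
  have hf' : f ∈ ((nonZeroDivisors (Y.presheaf.stalk w) : Set (Y.presheaf.stalk w)))ᶜ := hf
  rw [← biUnion_associatedPrimes_eq_compl_nonZeroDivisors] at hf'
  obtain ⟨p, hp, hfp⟩ := Set.mem_iUnion₂.mp hf'
  haveI hpp : p.IsPrime := hp.isPrime
  set ξ : Y := Y.fromSpecStalk w ⟨p, hpp⟩ with hξ
  have hs : ξ ⤳ w := by
    have h1 : (⟨p, hpp⟩ : PrimeSpectrum (Y.presheaf.stalk w)) ⤳
        IsLocalRing.closedPoint (Y.presheaf.stalk w) :=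
      IsLocalRing.specializes_closedPoint _
    have h2 := h1.map (Y.fromSpecStalk w).continuous
    rwa [Scheme.fromSpecStalk_closedPoint] at h2
  have hker : RingHom.ker (Cyc.specMap w ξ hs) = p := by
    have h1 := fromSpecStalk_ker_specMap w ξ hs
    have h2 : (⟨RingHom.ker (Cyc.specMap w ξ hs), RingHom.ker_isPrime _⟩ :
        PrimeSpectrum (Y.presheaf.stalk w)) = ⟨p, hpp⟩ :=
      (Y.fromSpecStalk w).isEmbedding.injective h1
    exact congrArg PrimeSpectrum.asIdeal h2
  letI := (Y.presheaf.stalkSpecializes hs).hom.toAlgebra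
  haveI : (RingHom.ker (Cyc.specMap w ξ hs)).IsPrime := RingHom.ker_isPrime _
  haveI hloc := isLocalization_stalkSpecializes w ξ hs
  have hass : IsAssociatedPrime (IsLocalRing.maximalIdeal (Y.presheaf.stalk ξ))
      (Y.presheaf.stalk ξ) := by
    refine Module.associatedPrimes.mem_associatedPrimes_of_comap_mem_associatedPrimes_of_isLocalizedModule
      (RingHom.ker (Cyc.specMap w ξ hs)).primeCompl
      (Algebra.linearMap (Y.presheaf.stalk w) (Y.presheaf.stalk ξ))
      (IsLocalRing.maximalIdeal (Y.presheaf.stalk ξ)) ?_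
    have : (IsLocalRing.maximalIdeal (Y.presheaf.stalk ξ)).comap
        (algebraMap (Y.presheaf.stalk w) (Y.presheaf.stalk ξ)) = p := by
      rw [← hker, ker_specMap_eq]
      rfl
    rw [this]
    exact hp
  apply h ξ hs hass
  rw [← RingHom.mem_ker, hker]
  exact hfp

/-- length of the local ring of a closed subscheme cut out by one equation -/
theorem length_stalk_of_cutOut {D Y : Scheme.{u}} (j : D ⟶ Y) [IsClosedImmersion j] (V : Y.Opens)
    (t : Γ(Y, V)) (hc : CutOut j V t) (d : D) (hd : j d ∈ V) :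
    Module.length (D.presheaf.stalk d) (D.presheaf.stalk d) =
      Module.length (Y.presheaf.stalk (j d))
        (Y.presheaf.stalk (j d) ⧸ Ideal.span {Y.presheaf.germ V (j d) hd t}) :=
  (Groth.Agent.Lib.Helper18.FF5.length_quot_ker_of_surjective (j.stalkMap d).hom
    (j.stalkMap_surjective d) _ (hc d hd)).symm

theorem maximal_of_le {D : Scheme.{u}} (δD : D → ℤ) (hdim : Cyc.IsDimFun D δD) (k : ℤ)
    (hle : ∀ d, δD d ≤ k) (d : D) (hd : Cyc.subschemeFun δD k (𝟙 D) d ≠ 0) :
    ∀ z : D, z ⤳ d → z = d := by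
  intro z hz
  by_contra hne
  have h1 := (hdim z d hz hne).1
  have h2 : δD d = k := by
    by_contra h3
    apply hd
    unfold Cyc.subschemeFun
    rw [if_neg h3]
  have := hle z
  omega

/-- the cycle `[D]_k` on `D` itself when `δ ≤ k` on `D` -/
noncomputable def selfCycle {D : Scheme.{u}} (δD : D → ℤ) (hD : Cyc.IsSetup D δD) (k : ℤ)
    (hle : ∀ d, δD d ≤ k) : AlgebraicCycle D ℤ :=
  haveI : IsLocallyNoetherian D := hD.1
  Groth.Agent.Lib.Helper18.SubCyc.cycleOfMaximal (Cyc.subschemeFun δD k (𝟙 D))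
    (maximal_of_le δD hD.2.2 k hle)

theorem selfCycle_apply {D : Scheme.{u}} (δD : D → ℤ) (hD : Cyc.IsSetup D δD) (k : ℤ)
    (hle : ∀ d, δD d ≤ k) (d : D) :
    selfCycle δD hD k hle d = Cyc.subschemeFun δD k (𝟙 D) d := rfl

/-- pushforward of `[D]_k` along a closed immersion is `[D]_k` on the target -/
theorem map_selfCycle {D X : Scheme.{u}} (i : D ⟶ X) [IsClosedImmersion i] (δ : X → ℤ)
    (δD : D → ℤ) (hδ : ∀ d, δD d = δ (i d)) (hD : Cyc.IsSetup D δD) (k : ℤ)
    (hle : ∀ d, δD d ≤ k) (x : X) :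
    AlgebraicCycle.map i δD δ (selfCycle δD hD k hle) x = Cyc.subschemeFun δ k i x := by
  obtain rfl : δD = fun d => δ (i d) := funext hδ
  by_cases hx : x ∈ Set.range (i : D → X)
  · obtain ⟨d, rfl⟩ := hx
    rw [Groth.Agent.Lib.Helper18.PullSec.map_apply_of_mem i δ _ d, selfCycle_apply,
      Groth.Agent.Lib.Helper18.SubCyc.subschemeFun_of_mem]
  · rw [Groth.Agent.Lib.Helper18.PullSec.map_apply_of_notMem i δ _ x hx,
      Groth.Agent.Lib.Helper18.SubCyc.subschemeFun_of_notMem i δ k x hx]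

end Groth.Agent.Lib.Helper18.PLF1
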