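import Mathlib
import Groth.Prelude.Def_Cyc
import Groth.Agent.Lib.Helper18.EX3

/-!
# Lifting cycles along a morphism with a pointwise section with trivial residue field extensions
-/

set_option autoImplicit false
set_option linter.unusedSectionVars false
set_option linter.style.haveILetI false
universe u
open AlgebraicGeometry CategoryTheory TopologicalSpace

namespace Groth.Agent.Lib.Helper18.SEC1

open Groth.Agent.Lib.Helper18.EX3

variable {P Y : Scheme.{u}} (p : P ⟶ Y) [QuasiCompact p] (δP : P → ℤ) (δY : Y → ℤ)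

theorem exists_lift_of_section (σ : Y → P) (hσ1 : ∀ y, p (σ y) = y)
    (hσ2 : ∀ y, Function.Surjective (p.residueFieldMap (σ y)).hom)
    (hdim : ∀ y, δP (σ y) = δY y) (k : ℤ) (β : AlgebraicCycle Y ℤ) (hβ : β ∈ Cyc.Zk Y δY k) :
    ∃ γ : AlgebraicCycle P ℤ, γ ∈ Cyc.Zk P δP k ∧ AlgebraicCycle.map p δP δY γ = β := by
  classical
  let γf : P → ℤ := fun z => if σ (p z) = z then β (p z) else 0
  have hsupp : Function.support γf ⊆ σ '' (Function.support β) := by
    intro z hz
    simp only [Function.mem_support, γf] at hz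
    split_ifs at hz with h
    · exact ⟨p z, hz, h⟩
    · exact absurd rfl hz
  have hlf : ∀ z ∈ (Set.univ : Set P), ∃ t ∈ nhds z, Set.Finite (t ∩ Function.support γf) := by
    intro z _
    obtain ⟨t, ht, hfin⟩ := β.supportLocallyFiniteWithinDomain' (p z) trivial
    refine ⟨p ⁻¹' t, p.continuous.continuousAt ht, ?_⟩
    refine (hfin.image σ).subset ?_
    rintro z' ⟨hz't, hz's⟩
    obtain ⟨y, hy, rfl⟩ := hsupp hz's
    refine ⟨y, ⟨?_, hy⟩, rfl⟩
    have : p (σ y) ∈ t := hz't
    rwa [hσ1 y] at this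
  let γ : AlgebraicCycle P ℤ := ⟨γf, fun _ _ => trivial, hlf⟩
  have hγσ : ∀ y, γ (σ y) = β y := by
    intro y
    change γf (σ y) = β y
    simp only [γf]
    rw [if_pos (by rw [hσ1 y]), hσ1 y]
  have hγ0 : ∀ z, γ z ≠ 0 → σ (p z) = z := by
    intro z hz
    by_contra hne
    apply hz
    change γf z = 0
    simp only [γf]
    rw [if_neg hne]
  refine ⟨γ, ?_, ?_⟩
  · intro z hz
    by_contra hne
    have h1 := hγ0 z hne
    apply hne
    rw [← h1, hγσ]
    apply hβ
    rw [← hdim, h1]
    exact hz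
  · ext y
    simp only [AlgebraicCycle.map, Function.locallyFinsupp.map_apply]
    have h1 : ∑ᶠ z ∈ (p : P → Y) ⁻¹' {y}, γ z * ((AlgebraicCycle.mapCoeff p δP δY z : ℕ) : ℤ)
        = ∑ᶠ z ∈ ({σ y} : Set P), γ z * ((AlgebraicCycle.mapCoeff p δP δY z : ℕ) : ℤ) := by
      apply finsum_mem_inter_support_eq
      ext z
      simp only [Set.mem_inter_iff, Set.mem_preimage, Set.mem_singleton_iff, Function.mem_support]
      constructor
      · rintro ⟨hz1, hz2⟩
        refine ⟨?_, hz2⟩
        have hb : γ z ≠ 0 := left_ne_zero_of_mul hz2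
        rw [← hγ0 z hb, hz1]
      · rintro ⟨rfl, hz2⟩
        exact ⟨hσ1 y, hz2⟩
    rw [h1, finsum_mem_singleton, hγσ]
    have e2 : p.base (σ y) = p (σ y) := rfl
    simp only [AlgebraicCycle.mapCoeff, e2]
    rw [if_pos (by rw [hdim, hσ1]), residueDegree_eq_one p (σ y) (hσ2 y)]
    simp

/-- a section of a morphism has trivial residue field extensions -/
theorem surjective_residueFieldMap_of_section (s : Y ⟶ P) (hs : s ≫ p = 𝟙 Y) (y : Y) :
    Function.Surjective (p.residueFieldMap (s y)).hom := by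
  intro z
  have e1 : (s ≫ p) y = (𝟙 Y : Y ⟶ Y) y := by rw [hs]
  have h1 : (s ≫ p).residueFieldMap y =
      (Y.residueFieldCongr e1).hom ≫ (𝟙 Y : Y ⟶ Y).residueFieldMap y :=
    Scheme.Hom.residueFieldMap_congr hs y
  rw [Scheme.residueFieldMap_comp, Scheme.residueFieldMap_id] at h1
  -- `h1 : p.residueFieldMap (s y) ≫ s.residueFieldMap y = (Y.residueFieldCongr e1).hom`
  set b := (s.residueFieldMap y).hom z with hb
  refine ⟨(Y.residueFieldCongr e1).inv b, ?_⟩
  apply (s.residueFieldMap y).hom.injective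
  have h2 : (s.residueFieldMap y).hom ((p.residueFieldMap (s y)).hom
      ((Y.residueFieldCongr e1).inv b)) =
      (Y.residueFieldCongr e1).hom ((Y.residueFieldCongr e1).inv b) :=
    congrArg (fun k => k.hom ((Y.residueFieldCongr e1).inv b)) h1
  refine h2.trans ?_
  exact congrArg (fun k => k.hom b) (Y.residueFieldCongr e1).inv_hom_id

end Groth.Agent.Lib.Helper18.SEC1
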