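import Mathlib
import Groth.Prelude.Def_Cyc
import Groth.Agent.Lib.Helper18.PLD
import Groth.Agent.Lib.Helper18.PLE
import Groth.Agent.Lib.Helper18.PLF1
import Groth.Agent.Lib.Helper18.SEC1
import Groth.Agent.Lib.Helper18.EX3

/-!
# The projective line, part F2: a closed subscheme of `P^1_X` and its fibres over `0` and `∞`
-/

set_option autoImplicit false
set_option linter.unusedSectionVars false
set_option linter.style.haveILetI false
universe u
open AlgebraicGeometry CategoryTheory CategoryTheory.Limits TopologicalSpace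

namespace Groth.Agent.Lib.Helper18.PLF2

open Groth.Agent.Lib.Helper18.PLA Groth.Agent.Lib.Helper18.PLB Groth.Agent.Lib.Helper18.PLC
  Groth.Agent.Lib.Helper18.PLD Groth.Agent.Lib.Helper18.PLF1

variable (X : Scheme.{u}) {Z : Scheme.{u}} (ι : Z ⟶ P X)

/-- the standard opens pulled back to `Z` -/
noncomputable def V (i : Fin (1 + 1)) : Z.Opens := ι ⁻¹ᵁ (U X i)

/-- the coordinate functions pulled back to `Z` -/
noncomputable def aa (i o : Fin (1 + 1)) : Γ(Z, V X ι i) := ι.app (U X i) (uu X i o)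

theorem cutOut_fst (i o : Fin (1 + 1)) (hio : o ≠ i) :
    CutOut (pullback.fst ι (P1.sect X i)) (V X ι i) (aa X ι i o) :=
  cutOut_pullback (IsPullback.of_hasPullback ι (P1.sect X i)) (U X i) (uu X i o)
    (cutOut_sect X i o hio)

theorem range_fst (i : Fin (1 + 1)) :
    Set.range (pullback.fst ι (P1.sect X i)) = ι ⁻¹' (Set.range (P1.sect X i)) :=
  Scheme.Pullback.range_fst ι (P1.sect X i)

theorem fst_q (i : Fin (1 + 1)) :
    pullback.fst ι (P1.sect X i) ≫ ι ≫ π X = pullback.snd ι (P1.sect X i) := by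
  rw [← Category.assoc, pullback.condition, Category.assoc, sect_π, Category.comp_id]

theorem hab : Groth.Agent.Lib.Helper18.PLE.Inv (V X ι 0) (V X ι 1) (aa X ι 0 1) (aa X ι 1 0) := by
  intro w h0 h1
  have h := PLD.germ_mul_germ X (ι w) h0 h1
  have h' := congrArg (ι.stalkMap w).hom h
  rw [map_mul, map_one] at h'
  have e0 := Scheme.Hom.germ_stalkMap_apply ι (U X 0) w h0 (uu X 0 1)
  have e1 := Scheme.Hom.germ_stalkMap_apply ι (U X 1) w h1 (uu X 1 0)
  refine Eq.trans ?_ h'
  exact (congrArg₂ (· * ·) e0 e1).symm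

theorem mem_V_iff (i o : Fin (1 + 1)) (hio : o ≠ i) (w : Z) :
    w ∈ V X ι o ↔ ι w ∉ Set.range (P1.sect X i) := by
  rw [range_sect X i o hio]
  simp only [Set.mem_compl_iff, not_not]
  rfl

theorem mem_V_of_mem_range (i : Fin (1 + 1)) (w : Z) (h : ι w ∈ Set.range (P1.sect X i)) :
    w ∈ V X ι i := by
  obtain ⟨o, ho⟩ : ∃ o : Fin (1 + 1), o ≠ i := by
    fin_cases i
    · exact ⟨1, by decide⟩
    · exact ⟨0, by decide⟩
  have h1 : w ∉ V X ι o := fun hc => (mem_V_iff X ι i o ho w).mp hc h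
  have h2 : ι w ∈ U X i ⊔ U X o := by
    have : U X i ⊔ U X o = ⊤ := by
      unfold U
      rw [← Scheme.Hom.preimage_sup, D_sup' i o ho]
      rfl
    rw [this]; trivial
  rcases h2 with h3 | h3
  · exact h3
  · exact absurd h3 h1

variable {X} (δ : X → ℤ) (δP : P X → ℤ) (hP : Cyc.DeltaCompat (π X) δP δ)

include hP in
theorem delta_sect (i : Fin (1 + 1)) (x : X) : δP (P1.sect X i x) = δ x := by
  have h1 := Groth.Agent.Lib.Helper18.EX3.delta_eq_of_surjective (π X) δ δP hP (P1.sect X i x)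
    (Groth.Agent.Lib.Helper18.SEC1.surjective_residueFieldMap_of_section (π X) (P1.sect X i)
      (sect_π X i) x)
  rw [h1]
  have : π X (P1.sect X i x) = x := congrArg (fun φ : X ⟶ X => φ x) (sect_π X i)
  rw [this]

variable (k : ℤ)

theorem subschemeFun_fst_of_notMem (i : Fin (1 + 1)) (w : Z)
    (hw : ι w ∉ Set.range (P1.sect X i)) :
    Cyc.subschemeFun (fun w => δP (ι w)) k (pullback.fst ι (P1.sect X i)) w = 0 := by
  apply Groth.Agent.Lib.Helper18.SubCyc.subschemeFun_of_notMem
  rw [range_fst]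
  exact hw

theorem subschemeFun_fst_of_mem (i o : Fin (1 + 1)) (hio : o ≠ i) (w : Z) (hk : δP (ι w) = k)
    (hw : w ∈ V X ι i) (hr : ι w ∈ Set.range (P1.sect X i)) :
    Cyc.subschemeFun (fun w => δP (ι w)) k (pullback.fst ι (P1.sect X i)) w =
      ((Module.length (Z.presheaf.stalk w) (Z.presheaf.stalk w ⧸
        Ideal.span {Z.presheaf.germ (V X ι i) w hw (aa X ι i o)})).toNat : ℤ) := by
  have hr' : w ∈ Set.range (pullback.fst ι (P1.sect X i)) := by rw [range_fst]; exact hr
  obtain ⟨z, rfl⟩ := hr'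
  unfold Cyc.subschemeFun
  rw [if_pos hk]
  have h1 : {z' | pullback.fst ι (P1.sect X i) z' = pullback.fst ι (P1.sect X i) z} = {z} := by
    ext z'
    simp only [Set.mem_ofPred_eq, Set.mem_singleton_iff]
    exact ⟨fun h => (pullback.fst ι (P1.sect X i)).isClosedEmbedding.injective h,
      fun h => by rw [h]⟩
  rw [h1, finsum_mem_singleton,
    length_stalk_of_cutOut _ (V X ι i) (aa X ι i o) (cutOut_fst X ι i o hio) z hw]

end Groth.Agent.Lib.Helper18.PLF2
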