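import Mathlib
import Groth.Prelude.Def_Cyc
import Groth.Agent.Lib.Helper18.SubCyc

/-!
# The projective line, part G1: local finiteness of the maximal points of a closed subset
-/

set_option autoImplicit false
set_option linter.unusedSectionVars false
set_option linter.style.haveILetI false
universe u
open AlgebraicGeometry CategoryTheory TopologicalSpace Topology

namespace Groth.Agent.Lib.Helper18.PLG1

/-- the maximal points of a closed subset of a locally Noetherian scheme are locally finite -/
theorem finite_inter_maximal_closed {Y : Scheme.{u}} [IsLocallyNoetherian Y] (C : Set Y)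
    (hC : IsClosed C) (S : Set Y) (hSC : S ⊆ C)
    (hS : ∀ y ∈ S, ∀ z ∈ C, z ⤳ y → z = y) (y₀ : Y) : ∃ t ∈ 𝓝 y₀, (t ∩ S).Finite := by
  obtain ⟨_, ⟨W, hW, rfl⟩, hyW, -⟩ :=
    (Y.isBasis_affineOpens).exists_subset_of_mem_open (Set.mem_univ y₀) isOpen_univ
  haveI : IsNoetherianRing Γ(Y, W) := IsLocallyNoetherian.component_noetherian ⟨W, hW⟩
  haveI : NoetherianSpace ↥(W : Set Y) := noetherianSpace_of_isAffineOpen W hW
  haveI : QuasiSober ↥C := hC.isClosedEmbedding_subtypeVal.quasiSober
  set U' : Set ↥C := Subtype.val ⁻¹' (W : Set Y) with hU'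
  have hU'o : IsOpen U' := W.2.preimage continuous_subtype_val
  -- `U'` is a Noetherian space
  let f : ↥U' → ↥(W : Set Y) := fun c => ⟨c.1.1, c.2⟩
  have hf : IsInducing f := by
    have hcont : Continuous f :=
      Continuous.subtype_mk (continuous_subtype_val.comp continuous_subtype_val) _
    have hcomp : IsInducing ((Subtype.val : ↥(W : Set Y) → Y) ∘ f) := by
      have : ((Subtype.val : ↥(W : Set Y) → Y) ∘ f) =
          (Subtype.val : ↥C → Y) ∘ (Subtype.val : ↥U' → ↥C) := rfl
      rw [this]
      exact IsInducing.subtypeVal.comp IsInducing.subtypeVal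
    exact IsInducing.of_comp hcont continuous_subtype_val hcomp
  haveI : NoetherianSpace ↥U' := hf.noetherianSpace
  have hfin := Groth.Agent.Lib.Helper16.finite_irreducibleComponents_meeting (X := ↥C) hU'o
  refine ⟨W, W.2.mem_nhds hyW, ?_⟩
  -- map `ζ ∈ W ∩ S` to the closure of the corresponding point of `C`
  let g : Y → Set ↥C := fun y => closure {c : ↥C | c.1 = y}
  refine Set.Finite.of_finite_image (f := g) (hfin.subset ?_) ?_
  · rintro _ ⟨y, ⟨hyW', hyS⟩, rfl⟩
    have hsing : {c : ↥C | c.1 = y} = {⟨y, hSC hyS⟩} := by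
      ext c
      simp only [Set.mem_ofPred_eq, Set.mem_singleton_iff]
      exact ⟨fun h => Subtype.ext h, fun h => by rw [h]⟩
    change closure {c : ↥C | c.1 = y} ∈ _
    rw [hsing]
    refine ⟨Groth.Agent.Lib.Helper18.SubCyc.closure_mem_irreducibleComponents _ ?_,
      ⟨⟨y, hSC hyS⟩, subset_closure rfl, hyW'⟩⟩
    intro z hz
    have h1 : z.1 ⤳ y := hz.map continuous_subtype_val
    exact Subtype.ext (hS y hyS z.1 z.2 h1)
  · rintro y ⟨_, hyS⟩ y' ⟨_, hy'S⟩ h
    have hsing : ∀ (y : Y) (hy : y ∈ S), {c : ↥C | c.1 = y} = {⟨y, hSC hy⟩} := by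
      intro y hy
      ext c
      simp only [Set.mem_ofPred_eq, Set.mem_singleton_iff]
      exact ⟨fun h => Subtype.ext h, fun h => by rw [h]⟩
    change closure {c : ↥C | c.1 = y} = closure {c : ↥C | c.1 = y'} at h
    rw [hsing y hyS, hsing y' hy'S] at h
    have := ((inseparable_iff_closure_eq).mpr h).eq
    exact congrArg Subtype.val this

end Groth.Agent.Lib.Helper18.PLG1
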