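import Mathlib
import Groth.Agent.Lib.Helper18.FF2

/-!
# The projective line, part G2: base change of a module along a surjection with principal kernel
-/

set_option autoImplicit false
set_option linter.unusedSectionVars false
set_option linter.style.haveILetI false
universe u
open scoped TensorProduct Pointwise

namespace Groth.Agent.Lib.Helper18.PLG2

variable {A B : Type u} [CommRing A] [CommRing B] [Algebra A B] (M : Type u) [AddCommGroup M]
  [Module A M]

/-- `B ⊗_A M ≃ M / I M` for `A → B` surjective with kernel `I` -/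
noncomputable def tensorEquivQuot (hs : Function.Surjective (algebraMap A B)) :
    B ⊗[A] M ≃ₗ[A] M ⧸ (RingHom.ker (algebraMap A B) • (⊤ : Submodule A M)) := by
  have hs' : Function.Surjective (Algebra.linearMap A B) := hs
  let I : Ideal A := LinearMap.ker (Algebra.linearMap A B)
  have hI : I = RingHom.ker (algebraMap A B) := by
    ext r
    simp only [I, LinearMap.mem_ker, Algebra.linearMap_apply, RingHom.mem_ker]
  let e0 : (A ⧸ I) ≃ₗ[A] B := (Algebra.linearMap A B).quotKerEquivOfSurjective hs'
  let e1 : B ⊗[A] M ≃ₗ[A] (A ⧸ I) ⊗[A] M := LinearEquiv.rTensor M e0.symm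
  let e2 : (A ⧸ I) ⊗[A] M ≃ₗ[A] M ⧸ (I • (⊤ : Submodule A M)) :=
    TensorProduct.quotTensorEquivQuotSMul M I
  exact (e1.trans e2).trans (Submodule.quotEquivOfEq _ _ (by rw [hI]))

theorem length_tensor (hs : Function.Surjective (algebraMap A B)) (f : A)
    (hker : RingHom.ker (algebraMap A B) = Ideal.span {f}) :
    Module.length B (B ⊗[A] M) = Module.length A (M ⧸ f • (⊤ : Submodule A M)) := by
  have h1 : Module.length A (B ⊗[A] M) = Module.length B (B ⊗[A] M) :=
    Groth.Agent.Lib.Helper18.FF2.length_eq_of_semilinear_bijective (algebraMap A B) hs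
      (AddMonoidHom.id (B ⊗[A] M)) Function.bijective_id
      (fun r m => (algebraMap_smul B r m).symm)
  rw [← h1, (tensorEquivQuot M hs).length_eq]
  have h2 : RingHom.ker (algebraMap A B) • (⊤ : Submodule A M) = f • (⊤ : Submodule A M) := by
    rw [hker, Submodule.ideal_span_singleton_smul]
  exact (Submodule.quotEquivOfEq _ _ h2).length_eq

theorem nontrivial_tensor [IsLocalRing A] [Nontrivial B] [Module.Finite A M] [Nontrivial M]
    (hs : Function.Surjective (algebraMap A B)) : Nontrivial (B ⊗[A] M) := by
  rw [(tensorEquivQuot M hs).toEquiv.nontrivial_congr]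
  rw [Submodule.Quotient.nontrivial_iff]
  intro htop
  have hle : RingHom.ker (algebraMap A B) ≤ IsLocalRing.maximalIdeal A :=
    IsLocalRing.le_maximalIdeal (RingHom.ker_ne_top _)
  have h1 : (⊤ : Submodule A M) ≤ RingHom.ker (algebraMap A B) • (⊤ : Submodule A M) := by
    rw [htop]
  have h2 := Submodule.eq_bot_of_le_smul_of_le_jacobson_bot (RingHom.ker (algebraMap A B))
    (⊤ : Submodule A M) Module.Finite.fg_top h1
    (by rw [IsLocalRing.jacobson_eq_maximalIdeal ⊥ bot_ne_top]; exact hle)
  exact top_ne_bot h2

end Groth.Agent.Lib.Helper18.PLG2
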