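import Mathlib
import Groth.Prelude.Def_Cyc
import Groth.Agent.Lib.Helper18.GysinSheaf
import Groth.Agent.Lib.Helper18.ModStalkLoc
import Groth.Agent.Lib.Helper18.PLF1

/-!
# The projective line, part G3: regular elements on stalks of coherent modules; the length formula
-/

set_option autoImplicit false
set_option linter.unusedSectionVars false
set_option linter.style.haveILetI false
universe u
open AlgebraicGeometry CategoryTheory TopologicalSpace
open scoped Pointwise

namespace Groth.Agent.Lib.Helper18.PLG3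

open Groth.Agent.Lib.Helper18.LocStalk Groth.Agent.Lib.Helper18.ModStalkLoc

variable {Y : Scheme.{u}}

/-- an element of a local ring which does not vanish at any associated point of a quasi-coherent
module is a nonzerodivisor on the stalk -/
theorem isSMulRegular_of_forall_assoc [IsLocallyNoetherian Y] (F : Y.Modules) [F.IsQuasicoherent]
    (w : Y) (f : Y.presheaf.stalk w)
    (h : ∀ (ξ : Y) (hs : ξ ⤳ w),
      IsAssociatedPrime (IsLocalRing.maximalIdeal (Y.presheaf.stalk ξ)) (F.presheaf.stalk ξ) →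
        Cyc.specMap w ξ hs f ≠ 0) :
    IsSMulRegular (F.presheaf.stalk w) f := by
  rw [isSMulRegular_iff_right_eq_zero_of_smul]
  intro m hm
  by_contra hm0
  have hf' : f ∈ {r : Y.presheaf.stalk w | ∃ x : F.presheaf.stalk w, x ≠ 0 ∧ r • x = 0} :=
    ⟨m, hm0, hm⟩
  rw [← biUnion_associatedPrimes_eq_zero_divisors] at hf'
  obtain ⟨p, hp, hfp⟩ := Set.mem_iUnion₂.mp hf'
  haveI hpp : p.IsPrime := hp.isPrime
  set ξ : Y := Y.fromSpecStalk w ⟨p, hpp⟩ with hξ
  have hs : ξ ⤳ w := by
    have h1 : (⟨p, hpp⟩ : PrimeSpectrum (Y.presheaf.stalk w)) ⤳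
        IsLocalRing.closedPoint (Y.presheaf.stalk w) :=
      IsLocalRing.specializes_closedPoint _
    have h2 := h1.map (Y.fromSpecStalk w).continuous
    rwa [Scheme.fromSpecStalk_closedPoint] at h2
  have hker : RingHom.ker (Cyc.specMap w ξ hs) = p := by
    have h1 := fromSpecStalk_ker_specMap w ξ hs
    have h2 : (⟨RingHom.ker (Cyc.specMap w ξ hs), RingHom.ker_isPrime _⟩ :
        PrimeSpectrum (Y.presheaf.stalk w)) = ⟨p, hpp⟩ :=
      (Y.fromSpecStalk w).isEmbedding.injective h1
    exact congrArg PrimeSpectrum.asIdeal h2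
  letI := (Y.presheaf.stalkSpecializes hs).hom.toAlgebra
  haveI : (RingHom.ker (Cyc.specMap w ξ hs)).IsPrime := RingHom.ker_isPrime _
  haveI hloc := isLocalization_stalkSpecializes w ξ hs
  letI := modSpec F w ξ hs
  haveI : IsScalarTower (Y.presheaf.stalk w) (Y.presheaf.stalk ξ) (F.presheaf.stalk ξ) :=
    IsScalarTower.of_algebraMap_smul fun _ _ => rfl
  haveI : IsLocalizedModule (RingHom.ker (Cyc.specMap w ξ hs)).primeCompl (specₗ F w ξ hs) :=
    isLocalizedModule_specₗ F w ξ hs
  have hass : IsAssociatedPrime (IsLocalRing.maximalIdeal (Y.presheaf.stalk ξ))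
      (F.presheaf.stalk ξ) := by
    refine Module.associatedPrimes.mem_associatedPrimes_of_comap_mem_associatedPrimes_of_isLocalizedModule
      (RingHom.ker (Cyc.specMap w ξ hs)).primeCompl (specₗ F w ξ hs)
      (IsLocalRing.maximalIdeal (Y.presheaf.stalk ξ)) ?_
    have : (IsLocalRing.maximalIdeal (Y.presheaf.stalk ξ)).comap
        (algebraMap (Y.presheaf.stalk w) (Y.presheaf.stalk ξ)) = p := by
      rw [← hker, ker_specMap_eq]
      rfl
    rw [this]
    exact hp
  apply h ξ hs hass
  rw [← RingHom.mem_ker, hker]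
  exact hfp

open Classical in
/-- the length formula for the stalk of a coherent module with one-dimensional support -/
theorem length_quot_stalk (δ : Y → ℤ) (hY : Cyc.IsSetup Y δ) (F : Y.Modules) (hF : Coh.IsCoh F)
    (w : Y) (hdim : ∀ ξ : Y, ξ ⤳ w → Nontrivial (F.presheaf.stalk ξ) → δ ξ ≤ δ w + 1)
    (f : Y.presheaf.stalk w) (hreg : IsSMulRegular (F.presheaf.stalk w) f) :
    ((Module.length (Y.presheaf.stalk w) (F.presheaf.stalk w ⧸
        f • (⊤ : Submodule (Y.presheaf.stalk w) (F.presheaf.stalk w)))).toNat : ℤ) =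
      ∑ᶠ ξ : Y, if h : ξ ⤳ w ∧ δ w + 1 = δ ξ then
        ((Module.length (Y.presheaf.stalk ξ) (F.presheaf.stalk ξ)).toNat : ℤ) *
          ((Ring.ord (Cyc.LocQuot w ξ h.1)
            (Ideal.Quotient.mk (RingHom.ker (Cyc.specMap w ξ h.1)) f)).toNat : ℤ)
      else 0 := by
  haveI := hY.1
  haveI : F.IsQuasicoherent := hF.1
  haveI : F.IsFiniteType := hF.2
  haveI := Groth.Agent.Lib.Helper17.ZClosDepth.module_finite_stalk F w
  have hd : ∀ q ∈ Module.support (Y.presheaf.stalk w) (F.presheaf.stalk w),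
      δ (Y.fromSpecStalk w q) ≤ δ w + 1 := by
    intro q hq
    have hmem := (Groth.Agent.Lib.Helper18.JacDim.fromSpecStalk_mem_support_iff F w q).2 hq
    have hnt : Nontrivial (F.presheaf.stalk ((Y.fromSpecStalk w) q)) :=
      not_subsingleton_iff_nontrivial.mp hmem
    exact hdim _ (fromSpecStalk_specializes w q) hnt
  rw [Groth.Agent.Lib.Helper18.ModGenSum.length_quot_eq_finsum_generizations δ hY.2.2 w
    (F.presheaf.stalk w) hd f hreg]
  apply finsum_congr
  intro ξ
  by_cases hc : ξ ⤳ w ∧ δ w + 1 = δ ξ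
  · rw [dif_pos hc, dif_pos hc,
      Groth.Agent.Lib.Helper18.ModStalkLoc.length_localizedModule_stalk F w ξ hc.1]
  · rw [dif_neg hc, dif_neg hc]

end Groth.Agent.Lib.Helper18.PLG3
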