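import Mathlib
import Groth.Prelude.Def_Cyc
import Groth.Agent.Lib.Helper18.PLF3
import Groth.Agent.Lib.Helper18.PLG1
import Groth.Agent.Lib.Helper18.PLG2
import Groth.Agent.Lib.Helper18.PLG3
import Groth.Agent.Lib.Helper18.PullStalk
import Groth.Agent.Lib.Helper18.MV1
import Groth.Agent.Lib.Helper29.ZeroDim

/-!
# The projective line, part G4: `[F_0]_k ∼ [F_∞]_k` for a coherent module on `P^1_X`
-/

set_option autoImplicit false
set_option linter.unusedSectionVars false
set_option linter.style.haveILetI false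
universe u
open AlgebraicGeometry CategoryTheory CategoryTheory.Limits TopologicalSpace
open scoped TensorProduct Pointwise

namespace Groth.Agent.Lib.Helper18.PLG4

open Groth.Agent.Lib.Helper18.PLA Groth.Agent.Lib.Helper18.PLB Groth.Agent.Lib.Helper18.PLC
  Groth.Agent.Lib.Helper18.PLD Groth.Agent.Lib.Helper18.PLF1 Groth.Agent.Lib.Helper18.PLF2
  Groth.Agent.Lib.Helper18

section General

variable {X' Y : Scheme.{u}} (s : X' ⟶ Y) [IsClosedImmersion s] (V : Y.Opens) (t : Γ(Y, V))
  (hc : CutOut s V t) (F : Y.Modules)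

include hc in
/-- length of the stalk of the pullback of a module to a closed subscheme cut out by one equation -/
theorem length_stalk_pullback (x : X') (hx : s x ∈ V) :
    Module.length (X'.presheaf.stalk x) (((Scheme.Modules.pullback s).obj F).presheaf.stalk x) =
      Module.length (Y.presheaf.stalk (s x)) (F.presheaf.stalk (s x) ⧸
        (Y.presheaf.germ V (s x) hx t) •
          (⊤ : Submodule (Y.presheaf.stalk (s x)) (F.presheaf.stalk (s x)))) := by
  letI := (s.stalkMap x).hom.toAlgebra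
  rw [(PullStalk.stalkPullbackEquiv s F x).length_eq]
  exact PLG2.length_tensor (F.presheaf.stalk (s x)) (s.stalkMap_surjective x) _ (hc x hx)

theorem nontrivial_stalk_pullback [IsLocallyNoetherian Y] (hF : Coh.IsCoh F) (x : X')
    (hnt : Nontrivial (F.presheaf.stalk (s x))) :
    Nontrivial (((Scheme.Modules.pullback s).obj F).presheaf.stalk x) := by
  letI := (s.stalkMap x).hom.toAlgebra
  haveI : F.IsQuasicoherent := hF.1
  haveI : F.IsFiniteType := hF.2
  haveI := Groth.Agent.Lib.Helper17.ZClosDepth.module_finite_stalk F (s x)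
  rw [(PullStalk.stalkPullbackEquiv s F x).toEquiv.nontrivial_congr]
  exact PLG2.nontrivial_tensor (F.presheaf.stalk (s x)) (s.stalkMap_surjective x)

end General

section Main

variable {X : Scheme.{u}} (δ : X → ℤ) (hX : Cyc.IsSetup X δ) (δP : P X → ℤ)
  (hP : Cyc.DeltaCompat (π X) δP δ) (k : ℤ) (F : (P X).Modules) (hF : Coh.IsCoh F)
  (hsupp : ∀ p : P X, Nontrivial (F.presheaf.stalk p) → δP p ≤ k + 1)
  (hemb : ∀ p : P X,
    IsAssociatedPrime (IsLocalRing.maximalIdeal ((P X).presheaf.stalk p)) (F.presheaf.stalk p) →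
      p ∉ Set.range (P1.sect X 0) ∪ Set.range (P1.sect X 1) ∨ δP p < k)

theorem inv_uu : PLE.Inv (U X 0) (U X 1) (uu X 0 1) (uu X 1 0) :=
  fun p h0 h1 => PLD.germ_mul_germ X p h0 h1

theorem mem_U_iff (i o : Fin (1 + 1)) (hio : o ≠ i) (p : P X) :
    p ∈ U X o ↔ p ∉ Set.range (P1.sect X i) := by
  rw [range_sect X i o hio]
  simp only [Set.mem_compl_iff, not_not]
  rfl

theorem mem_U_of_mem_range (i : Fin (1 + 1)) (p : P X) (h : p ∈ Set.range (P1.sect X i)) :
    p ∈ U X i := by
  obtain ⟨o, ho⟩ : ∃ o : Fin (1 + 1), o ≠ i := by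
    fin_cases i
    · exact ⟨1, by decide⟩
    · exact ⟨0, by decide⟩
  have h1 : p ∉ U X o := fun hc => (mem_U_iff i o ho p).mp hc h
  have h2 : p ∈ U X i ⊔ U X o := by
    have : U X i ⊔ U X o = ⊤ := by
      unfold U
      rw [← Scheme.Hom.preimage_sup, D_sup' i o ho]
      rfl
    rw [this]; trivial
  rcases h2 with h3 | h3
  · exact h3
  · exact absurd h3 h1

open Classical in
include hX hP hF hsupp hemb in
/-- the coefficient of `[F_i]_k` at a point of δ-dimension `k`, as a sum over generizations -/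
theorem val_i (i o : Fin (1 + 1)) (hio : o ≠ i) (x : X) (hk : δ x = k)
    (hpU : P1.sect X i x ∈ U X i) :
    Cyc.sheafFun δ k ((Scheme.Modules.pullback (P1.sect X i)).obj F) x =
      ∑ᶠ ξ : P X, if h : ξ ⤳ P1.sect X i x ∧ δP (P1.sect X i x) + 1 = δP ξ then
        (((Module.length ((P X).presheaf.stalk ξ) (F.presheaf.stalk ξ)).toNat : ℕ) : ℤ) *
          ((Ring.ord (Cyc.LocQuot (P1.sect X i x) ξ h.1)
            (Ideal.Quotient.mk (RingHom.ker (Cyc.specMap (P1.sect X i x) ξ h.1))
              ((P X).presheaf.germ (U X i) (P1.sect X i x) hpU (uu X i o)))).toNat : ℤ)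
      else 0 := by
  have hPs : Cyc.IsSetup (P X) δP :=
    SetupLft.isSetup_of_locallyOfFiniteType (π X) δ hX δP hP
  haveI : IsLocallyNoetherian (P X) := hPs.1
  haveI : F.IsQuasicoherent := hF.1
  set p := P1.sect X i x with hp
  have hδp : δP p = k := by rw [hp, delta_sect δ δP hP i x, hk]
  have hmono : ∀ ξ : P X, ξ ⤳ p → δP p ≤ δP ξ := by
    intro ξ h
    by_cases hne : ξ = p
    · rw [hne]
    · exact (hPs.2.2 ξ p h hne).1.le
  have hreg : IsSMulRegular (F.presheaf.stalk p)
      ((P X).presheaf.germ (U X i) p hpU (uu X i o)) := by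
    apply PLG3.isSMulRegular_of_forall_assoc
    intro ξ hs hass
    have hξU : ξ ∈ U X i := hs.mem_open (U X i).2 hpU
    have hξk : ¬ δP ξ < k := by
      have := hmono ξ hs
      omega
    have hξns : ξ ∉ Set.range (P1.sect X i) := by
      rcases hemb ξ hass with h | h
      · intro hc
        apply h
        fin_cases i
        · exact Or.inl hc
        · exact Or.inr hc
      · exact absurd h hξk
    have hξUo : ξ ∈ U X o := (mem_U_iff i o hio ξ).mpr hξns
    rw [PLE.specMap_germ]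
    have hunit : IsUnit ((P X).presheaf.germ (U X i) ξ hξU (uu X i o)) := by
      fin_cases i <;> fin_cases o
      · exact absurd rfl hio
      · exact IsUnit.of_mul_eq_one _ (inv_uu ξ hξU hξUo)
      · exact IsUnit.of_mul_eq_one _ ((mul_comm _ _).trans (inv_uu ξ hξUo hξU))
      · exact absurd rfl hio
    exact (hunit.map ((P X).residue ξ).hom).ne_zero
  have hdim : ∀ ξ : P X, ξ ⤳ p → Nontrivial (F.presheaf.stalk ξ) → δP ξ ≤ δP p + 1 := by
    intro ξ _ hnt
    rw [hδp]
    exact hsupp ξ hnt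
  rw [← PLG3.length_quot_stalk δP hPs F hF p hdim _ hreg]
  unfold Cyc.sheafFun
  rw [if_pos hk, length_stalk_pullback (P1.sect X i) (U X i) (uu X i o)
    (cutOut_sect X i o hio) F x hpU]

variable (h0 : ∀ x : X,
    Nontrivial (((Scheme.Modules.pullback (P1.sect X 0)).obj F).presheaf.stalk x) → δ x ≤ k)
  (h1 : ∀ x : X,
    Nontrivial (((Scheme.Modules.pullback (P1.sect X 1)).obj F).presheaf.stalk x) → δ x ≤ k)

include hX hP hF hsupp hemb h0 h1 in
/-- `[F_0]_k ∼_rat [F_∞]_k` -/
theorem main (α β : AlgebraicCycle X ℤ)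
    (hα : ⇑α = Cyc.sheafFun δ k ((Scheme.Modules.pullback (P1.sect X 0)).obj F))
    (hβ : ⇑β = Cyc.sheafFun δ k ((Scheme.Modules.pullback (P1.sect X 1)).obj F)) :
    Cyc.RatEquiv δ k α β := by
  classical
  have hPs : Cyc.IsSetup (P X) δP :=
    SetupLft.isSetup_of_locallyOfFiniteType (π X) δ hX δP hP
  haveI : IsLocallyNoetherian (P X) := hPs.1
  haveI : F.IsQuasicoherent := hF.1
  haveI : F.IsFiniteType := hF.2
  set n : P X → ℕ := fun ζ =>
    (Module.length ((P X).presheaf.stalk ζ) (F.presheaf.stalk ζ)).toNat with hn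
  have hnt : ∀ ζ : P X, n ζ ≠ 0 → Nontrivial (F.presheaf.stalk ζ) := by
    intro ζ hζ
    by_contra hc
    rw [not_nontrivial_iff_subsingleton] at hc
    apply hζ
    change (Module.length ((P X).presheaf.stalk ζ) (F.presheaf.stalk ζ)).toNat = 0
    rw [Module.length_eq_zero]
    rfl
  have hh : ∀ i : Fin (1 + 1), ∀ x : X,
      Nontrivial (((Scheme.Modules.pullback (P1.sect X i)).obj F).presheaf.stalk x) → δ x ≤ k := by
    intro i
    fin_cases i
    · exact h0
    · exact h1
  have hnotsec : ∀ (i : Fin (1 + 1)) (ζ : P X), δP ζ = k + 1 → n ζ ≠ 0 →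
      ζ ∉ Set.range (P1.sect X i) := by
    rintro i ζ hζ hnζ ⟨x, rfl⟩
    have h2 := nontrivial_stalk_pullback (P1.sect X i) F hF x (hnt _ hnζ)
    have h3 := hh i x h2
    rw [delta_sect δ δP hP i x] at hζ
    omega
  have hI : ∀ ζ : P X, δP ζ = k + 1 → n ζ ≠ 0 → ζ ∈ U X 0 ∧ ζ ∈ U X 1 := by
    intro ζ hζ hnζ
    exact ⟨(mem_U_iff 1 0 (by decide) ζ).mpr (hnotsec 1 ζ hζ hnζ),
      (mem_U_iff 0 1 (by decide) ζ).mpr (hnotsec 0 ζ hζ hnζ)⟩
  have hlf : ∀ y : P X, ∃ U : Set (P X), IsOpen U ∧ y ∈ U ∧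
      {ζ : PLE.Idx δP k n | (closure {ζ.1} ∩ U).Nonempty}.Finite := by
    intro y
    obtain ⟨t, ht, hfin⟩ := PLG1.finite_inter_maximal_closed (CohB1.support F)
      (Groth.Agent.Lib.Helper29.QCoh.isClosed_support_of_isFiniteType F)
      {ζ : P X | δP ζ = k + 1 ∧ n ζ ≠ 0}
      (fun ζ hζ => not_subsingleton_iff_nontrivial.mpr (hnt ζ hζ.2))
      (by
        intro ζ hζ z hz hsp
        by_contra hne
        have h2 := (hPs.2.2 z ζ hsp hne).1
        have h3 := hsupp z (not_subsingleton_iff_nontrivial.mp hz)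
        have h4 := hζ.1
        omega) y
    obtain ⟨U, hUt, hU, hyU⟩ := mem_nhds_iff.mp ht
    refine ⟨U, hU, hyU, ?_⟩
    refine Set.Finite.of_finite_image (f := Subtype.val) (hfin.subset ?_)
      Subtype.val_injective.injOn
    rintro _ ⟨ζ, ⟨z, hz1, hz2⟩, rfl⟩
    have hsp : ζ.1 ⤳ z := specializes_iff_mem_closure.mpr hz1
    exact ⟨hUt (hsp.mem_open hU hz2), ζ.2⟩
  set γ := PLE.gam δP hPs k n inv_uu hI hlf with hγdef
  have hγ : Cyc.RatEquivZero δP k γ := PLE.gam_ratEquivZero δP hPs k n inv_uu hI hlf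
  have hpush := CL11.ratEquivZero_map δP δ (π X) hPs hX hP k γ hγ
  have hδs : ∀ (i : Fin (1 + 1)) (x : X), δ x = δP (P1.sect X i x) :=
    fun i x => (delta_sect δ δP hP i x).symm
  -- the key pointwise identity on `P^1_X`
  have hkey : ∀ p : P X, γ p = AlgebraicCycle.map (P1.sect X 0) δ δP α p -
      AlgebraicCycle.map (P1.sect X 1) δ δP β p := by
    intro p
    by_cases hp0 : p ∈ Set.range (P1.sect X 0)
    · have hpU0 : p ∈ U X 0 := mem_U_of_mem_range 0 p hp0
      have hpU1 : p ∉ U X 1 := fun hc => (mem_U_iff 0 1 (by decide) p).mp hc hp0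
      have hp1 : p ∉ Set.range (P1.sect X 1) := fun hc => hpU1 (mem_U_of_mem_range 1 p hc)
      rw [MV1.map_apply_of_notMem' (P1.sect X 1) δ δP (hδs 1) β p hp1, sub_zero]
      obtain ⟨x, rfl⟩ := hp0
      rw [MV1.map_apply_of_mem' (P1.sect X 0) δ δP (hδs 0) α x, hα]
      by_cases hk : δ x = k
      · rw [val_i δ hX δP hP k F hF hsupp hemb 0 1 (by decide) x hk hpU0]
        exact PLE.gam_apply_V₀ δP hPs k n inv_uu hI hlf _
          (by rw [delta_sect δ δP hP 0 x, hk]) hpU0
      · have h2 := EX2.mem_Zk_of_ratEquivZero δP k γ hγ (P1.sect X 0 x)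
          (by rw [delta_sect δ δP hP 0 x]; exact hk)
        rw [h2]
        unfold Cyc.sheafFun
        rw [if_neg hk]
    · have hpU1 : p ∈ U X 1 := (mem_U_iff 0 1 (by decide) p).mpr hp0
      rw [MV1.map_apply_of_notMem' (P1.sect X 0) δ δP (hδs 0) α p hp0, zero_sub]
      by_cases hp1 : p ∈ Set.range (P1.sect X 1)
      · obtain ⟨x, rfl⟩ := hp1
        rw [MV1.map_apply_of_mem' (P1.sect X 1) δ δP (hδs 1) β x, hβ]
        by_cases hk : δ x = k
        · rw [val_i δ hX δP hP k F hF hsupp hemb 1 0 (by decide) x hk hpU1]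
          exact PLE.gam_apply_V₁ δP hPs k n inv_uu hI hlf _
            (by rw [delta_sect δ δP hP 1 x, hk]) hpU1
        · have h2 := EX2.mem_Zk_of_ratEquivZero δP k γ hγ (P1.sect X 1 x)
            (by rw [delta_sect δ δP hP 1 x]; exact hk)
          rw [h2]
          unfold Cyc.sheafFun
          rw [if_neg hk, neg_zero]
      · have hpU0 : p ∈ U X 0 := (mem_U_iff 1 0 (by decide) p).mpr hp1
        rw [MV1.map_apply_of_notMem' (P1.sect X 1) δ δP (hδs 1) β p hp1, neg_zero]
        by_cases hk : δP p = k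
        · exact PLE.gam_apply_both δP hPs k n inv_uu hI hlf p hk hpU0 hpU1
        · exact EX2.mem_Zk_of_ratEquivZero δP k γ hγ p hk
  have hγeq : γ = AlgebraicCycle.map (P1.sect X 0) δ δP α -
      AlgebraicCycle.map (P1.sect X 1) δ δP β := by
    ext p
    exact hkey p
  have hcomp : ∀ (i : Fin (1 + 1)) (c : AlgebraicCycle X ℤ),
      AlgebraicCycle.map (π X) δP δ (AlgebraicCycle.map (P1.sect X i) δ δP c) = c := by
    intro i c
    have hd : Cyc.DeltaCompat (P1.sect X i) δ δP := by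
      have := ClImm.deltaCompat (P1.sect X i) δP
      have e : (fun x => δP (P1.sect X i x)) = δ := funext fun x => delta_sect δ δP hP i x
      rwa [e] at this
    rw [CycMap.map_map (P1.sect X i) (π X) δ δP δ hd hP c,
      CL10.map_congr_hom (sect_π X i) δ δ c]
    ext x
    exact PullSec.map_apply_of_mem (𝟙 X) δ c x
  have hfin : α - β = AlgebraicCycle.map (π X) δP δ γ := by
    rw [hγeq, CL11.map_sub', hcomp 0 α, hcomp 1 β]
  unfold Cyc.RatEquiv
  rw [hfin]
  exact hpush

end Main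

end Groth.Agent.Lib.Helper18.PLG4
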