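import Mathlib

/-!
# The projective line, part H1: the scheme-theoretic image of an integral scheme is integral
-/

set_option autoImplicit false
set_option linter.unusedSectionVars false
set_option linter.style.haveILetI false
universe u
open AlgebraicGeometry CategoryTheory TopologicalSpace

namespace Groth.Agent.Lib.Helper18.PLH1

variable {X Y : Scheme.{u}} (f : X ⟶ Y) [QuasiCompact f]

theorem irreducibleSpace_image [IrreducibleSpace X] : IrreducibleSpace f.image := by
  rw [irreducibleSpace_def]
  have h1 : IsIrreducible (Set.range f.toImage) := by
    rw [← Set.image_univ]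
    exact (IrreducibleSpace.isIrreducible_univ X).image _ f.toImage.continuous.continuousOn
  have h2 : closure (Set.range f.toImage) = Set.univ :=
    (inferInstance : IsDominant f.toImage).denseRange.closure_range
  change IsIrreducible (Set.univ : Set f.image)
  rw [← h2]
  exact h1.closure

theorem isReduced_image [IsReduced X] : IsReduced f.image := by
  haveI : ∀ y : f.image, _root_.IsReduced (f.image.presheaf.stalk y) := by
    intro y
    obtain ⟨_, ⟨W, hW, rfl⟩, hyW, -⟩ :=
      Y.isBasis_affineOpens.exists_subset_of_mem_open (Set.mem_univ (f.imageι y)) isOpen_univ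
    have hV : IsAffineOpen (f.imageι ⁻¹ᵁ W) := hW.preimage f.imageι
    have hinj := f.toImage_app_injective ⟨W, hW⟩
    haveI : _root_.IsReduced Γ(f.image, f.imageι ⁻¹ᵁ W) :=
      isReduced_of_injective (f.toImage.app (f.imageι ⁻¹ᵁ W)).hom hinj
    have hyV : y ∈ f.imageι ⁻¹ᵁ W := hyW
    letI := f.image.presheaf.algebra_section_stalk ⟨y, hyV⟩
    haveI := hV.isLocalization_stalk ⟨y, hyV⟩
    exact isReduced_localizationPreserves (hV.primeIdealOf ⟨y, hyV⟩).asIdeal.primeCompl
      (f.image.presheaf.stalk y) inferInstance
  exact isReduced_of_isReduced_stalk f.image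

theorem isIntegral_image [IsIntegral X] : IsIntegral f.image := by
  haveI := irreducibleSpace_image f
  haveI := isReduced_image f
  exact isIntegral_of_irreducibleSpace_of_isReduced f.image

/-- the generic point of the scheme-theoretic image -/
theorem genericPoint_image [IsIntegral X] :
    haveI := isIntegral_image f
    genericPoint f.image = f.toImage (genericPoint X) := by
  haveI := isIntegral_image f
  apply (genericPoint_spec f.image).eq
  rw [isGenericPoint_def]
  have h2 : closure (Set.range f.toImage) = Set.univ :=
    (inferInstance : IsDominant f.toImage).denseRange.closure_range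
  rw [← h2]
  apply subset_antisymm
  · apply closure_mono
    rintro _ rfl
    exact ⟨_, rfl⟩
  · apply closure_minimal _ isClosed_closure
    rintro _ ⟨x, rfl⟩
    have h3 : genericPoint X ⤳ x := genericPoint_specializes x
    exact specializes_iff_mem_closure.mp (h3.map f.toImage.continuous)

end Groth.Agent.Lib.Helper18.PLH1
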