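import Mathlib
import Groth.Prelude.Def_Cyc
import Groth.Agent.Lib.Helper18.PLF2
import Groth.Agent.Lib.Helper18.GenSum
import Groth.Agent.Lib.Helper18.CL11
import Groth.Agent.Lib.Helper18.RelCartier1
import Groth.Agent.Lib.Helper18.PLF3

/-!
# The projective line, part H2: the pointwise form of `[Z_0]_k - [Z_∞]_k = q_* div(t)`
-/

set_option autoImplicit false
set_option linter.unusedSectionVars false
set_option linter.style.haveILetI false
universe u
open AlgebraicGeometry CategoryTheory CategoryTheory.Limits TopologicalSpace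

namespace Groth.Agent.Lib.Helper18.PLH2

open Groth.Agent.Lib.Helper18.PLA Groth.Agent.Lib.Helper18.PLB Groth.Agent.Lib.Helper18.PLC
  Groth.Agent.Lib.Helper18.PLD Groth.Agent.Lib.Helper18.PLF1 Groth.Agent.Lib.Helper18.PLF2
  Groth.Agent.Lib.Helper18

variable {X : Scheme.{u}} (δ : X → ℤ) (hX : Cyc.IsSetup X δ) (δP : P X → ℤ)
  (hP : Cyc.DeltaCompat (π X) δP δ) (k : ℤ) {Z : Scheme.{u}} (ι : Z ⟶ P X) [IsClosedImmersion ι]
  (hZ0 : ∀ z : Z, ι z ∈ Set.range (P1.sect X 0) ∪ Set.range (P1.sect X 1) → δP (ι z) ≤ k)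

variable (hZ : ∀ z : Z, δP (ι z) ≤ k + 1)
  (hemb : ∀ z : Z, IsAssociatedPrime (IsLocalRing.maximalIdeal (Z.presheaf.stalk z))
    (Z.presheaf.stalk z) →
      ι z ∉ Set.range (P1.sect X 0) ∪ Set.range (P1.sect X 1) ∨ δP (ι z) < k)

/-- the multiplicity function: length of the local ring -/
noncomputable def lenFun (Z : Scheme.{u}) : Z → ℕ :=
  fun ζ => (Module.length (Z.presheaf.stalk ζ) (Z.presheaf.stalk ζ)).toNat

include hX hP hZ hZ0 hemb in
/-- `[Z_0]_k - [Z_∞]_k = q_*(∑ n_ζ div(t_ζ))` as cycles -/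
theorem main_eq (α β : AlgebraicCycle X ℤ)
    (hα : ⇑α = Cyc.subschemeFun δ k (pullback.snd ι (P1.sect X 0)))
    (hβ : ⇑β = Cyc.subschemeFun δ k (pullback.snd ι (P1.sect X 1)))
    (hZs : Cyc.IsSetup Z (fun w => δP (ι w)))
    (hI : ∀ ζ : Z, δP (ι ζ) = k + 1 → lenFun Z ζ ≠ 0 → ζ ∈ V X ι 0 ∧ ζ ∈ V X ι 1)
    (hlf : ∀ y : Z, ∃ U : Set Z, IsOpen U ∧ y ∈ U ∧
      {ζ : PLE.Idx (fun w => δP (ι w)) k (lenFun Z) | (closure {ζ.1} ∩ U).Nonempty}.Finite) :
    α - β = AlgebraicCycle.map (ι ≫ π X) (fun w => δP (ι w)) δ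
      (PLE.gam (fun w => δP (ι w)) hZs k (lenFun Z) (hab X ι) hI hlf) := by
  classical
  have hPs : Cyc.IsSetup (P X) δP :=
    SetupLft.isSetup_of_locallyOfFiniteType (π X) δ hX δP hP
  set δZ : Z → ℤ := fun w => δP (ι w) with hδZ
  haveI : IsLocallyNoetherian Z := hZs.1
  have hq : Cyc.DeltaCompat (ι ≫ π X) δZ δ :=
    RelCartier.deltaCompat_comp (i := ι) (p := π X) δP δ hP
  set n : Z → ℕ := lenFun Z with hn
  set γ := PLE.gam δZ hZs k n (hab X ι) hI hlf with hγdef
  have hγ : Cyc.RatEquivZero δZ k γ := PLE.gam_ratEquivZero δZ hZs k n (hab X ι) hI hlf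
  obtain ⟨A0, hA0, hA0'⟩ := PLF3.exists_push δ hX δP hP k ι hZ0 0
  obtain ⟨A1, hA1, hA1'⟩ := PLF3.exists_push δ hX δP hP k ι hZ0 1
  -- monotonicity of δ along specializations
  have hmono : ∀ ξ w : Z, ξ ⤳ w → δZ w ≤ δZ ξ := by
    intro ξ w h
    by_cases hne : ξ = w
    · rw [hne]
    · exact (hZs.2.2 ξ w h hne).1.le
  have hdim : ∀ w : Z, δZ w = k → ∀ ξ : Z, ξ ⤳ w → δZ ξ ≤ δZ w + 1 := by
    intro w hw ξ _
    rw [hw]; exact hZ ξ
  -- nonzerodivisor
  have hnzd : ∀ (i o : Fin (1 + 1)) (hio : o ≠ i) (w : Z) (hw : δZ w = k) (hwV : w ∈ V X ι i),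
      Z.presheaf.germ (V X ι i) w hwV (aa X ι i o) ∈ nonZeroDivisors (Z.presheaf.stalk w) := by
    intro i o hio w hw hwV
    apply mem_nonZeroDivisors_of_forall_assoc
    intro ξ hs hass
    have hξV : ξ ∈ V X ι i := hs.mem_open (V X ι i).2 hwV
    have hξk : ¬ δP (ι ξ) < k := by
      have := hmono ξ w hs
      change δZ w ≤ δP (ι ξ) at this
      omega
    have hξns : ι ξ ∉ Set.range (P1.sect X i) := by
      rcases hemb ξ hass with h | h
      · intro hc
        apply h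
        fin_cases i
        · exact Or.inl hc
        · exact Or.inr hc
      · exact absurd h hξk
    have hξVo : ξ ∈ V X ι o := (mem_V_iff X ι i o hio ξ).mpr hξns
    rw [PLE.specMap_germ]
    -- the residue of the germ is nonzero since it is invertible
    have hunit : IsUnit (Z.presheaf.germ (V X ι i) ξ hξV (aa X ι i o)) := by
      fin_cases i <;> fin_cases o
      · exact absurd rfl hio
      · exact IsUnit.of_mul_eq_one _ (hab X ι ξ hξV hξVo)
      · exact IsUnit.of_mul_eq_one _ ((mul_comm _ _).trans (hab X ι ξ hξVo hξV))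
      · exact absurd rfl hio
    exact (hunit.map (Z.residue ξ).hom).ne_zero
  -- the key pointwise identity
  have hkey : ∀ w : Z, γ w = A0 w - A1 w := by
    intro w
    rw [hA0, hA1]
    by_cases hw : δZ w = k
    · by_cases h0 : ι w ∈ Set.range (P1.sect X 0)
      · have hwV0 : w ∈ V X ι 0 := mem_V_of_mem_range X ι 0 w h0
        have hwV1 : w ∉ V X ι 1 := fun hc => (mem_V_iff X ι 0 1 (by decide) w).mp hc h0
        have h1 : ι w ∉ Set.range (P1.sect X 1) := fun hc => hwV1 (mem_V_of_mem_range X ι 1 w hc)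
        rw [subschemeFun_fst_of_notMem ι δP k 1 w h1, sub_zero,
          subschemeFun_fst_of_mem ι δP k 0 1 (by decide) w hw hwV0 h0,
          GenSum.length_quot_eq_finsum_generizations δZ hZs w (hdim w hw) _
            (hnzd 0 1 (by decide) w hw hwV0)]
        exact PLE.gam_apply_V₀ δZ hZs k n (hab X ι) hI hlf w hw hwV0
      · have hwV1 : w ∈ V X ι 1 := (mem_V_iff X ι 0 1 (by decide) w).mpr h0
        rw [subschemeFun_fst_of_notMem ι δP k 0 w h0, zero_sub]
        by_cases h1 : ι w ∈ Set.range (P1.sect X 1)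
        · rw [subschemeFun_fst_of_mem ι δP k 1 0 (by decide) w hw hwV1 h1,
            GenSum.length_quot_eq_finsum_generizations δZ hZs w (hdim w hw) _
              (hnzd 1 0 (by decide) w hw hwV1)]
          exact PLE.gam_apply_V₁ δZ hZs k n (hab X ι) hI hlf w hw hwV1
        · have hwV0 : w ∈ V X ι 0 := (mem_V_iff X ι 1 0 (by decide) w).mpr h1
          rw [subschemeFun_fst_of_notMem ι δP k 1 w h1, neg_zero]
          exact PLE.gam_apply_both δZ hZs k n (hab X ι) hI hlf w hw hwV0 hwV1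
    · have h1 := EX2.mem_Zk_of_ratEquivZero δZ k γ hγ w hw
      rw [h1]
      unfold Cyc.subschemeFun
      rw [if_neg hw, if_neg hw, sub_zero]
  have hγeq : γ = A0 - A1 := by
    ext w
    exact hkey w
  have hfin : α - β = AlgebraicCycle.map (ι ≫ π X) δZ δ γ := by
    rw [hγeq, CL11.map_sub']
    ext x
    change α x - β x = AlgebraicCycle.map (ι ≫ π X) δZ δ A0 x -
      AlgebraicCycle.map (ι ≫ π X) δZ δ A1 x
    rw [hA0', hA1', hα, hβ]
  exact hfin

end Groth.Agent.Lib.Helper18.PLH2
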