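import Mathlib
import Groth.Prelude.Def_Cyc
import Groth.Agent.Lib.Helper18.PLH2
import Groth.Agent.Lib.Helper18.EX1

/-!
# The projective line, part H3: an integral closed subscheme `W ⊆ P^1_X`:
`[W_0]_k - [W_∞]_k = q_* div_W(t)` pointwise
-/

set_option autoImplicit false
set_option linter.unusedSectionVars false
set_option linter.style.haveILetI false
universe u
open AlgebraicGeometry CategoryTheory CategoryTheory.Limits TopologicalSpace

namespace Groth.Agent.Lib.Helper18.PLH3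

open Groth.Agent.Lib.Helper18.PLA Groth.Agent.Lib.Helper18.PLB Groth.Agent.Lib.Helper18.PLC
  Groth.Agent.Lib.Helper18.PLD Groth.Agent.Lib.Helper18.PLF1 Groth.Agent.Lib.Helper18.PLF2
  Groth.Agent.Lib.Helper18.PLH2 Groth.Agent.Lib.Helper18

variable {X : Scheme.{u}} (δ : X → ℤ) (hX : Cyc.IsSetup X δ) (δP : P X → ℤ)
  (hP : Cyc.DeltaCompat (π X) δP δ) (k : ℤ) {W : Scheme.{u}} [IsIntegral W] (ι : W ⟶ P X)
  [IsClosedImmersion ι] (hW : δP (ι (genericPoint W)) = k + 1)
  (h0 : ι (genericPoint W) ∉ Set.range (P1.sect X 0))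
  (h1 : ι (genericPoint W) ∉ Set.range (P1.sect X 1))

include hX hP hW in
theorem delta_le (z : W) : δP (ι z) ≤ k + 1 := by
  have hPs : Cyc.IsSetup (P X) δP :=
    SetupLft.isSetup_of_locallyOfFiniteType (π X) δ hX δP hP
  have hsp : ι (genericPoint W) ⤳ ι z := (genericPoint_specializes z).map ι.continuous
  by_cases hne : ι (genericPoint W) = ι z
  · rw [← hne, hW]
  · have := (hPs.2.2 _ _ hsp hne).1
    omega

include hX hP hW in
theorem delta_lt (z : W) (hz : z ≠ genericPoint W) : δP (ι z) ≤ k := by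
  have hPs : Cyc.IsSetup (P X) δP :=
    SetupLft.isSetup_of_locallyOfFiniteType (π X) δ hX δP hP
  have hsp : ι (genericPoint W) ⤳ ι z := (genericPoint_specializes z).map ι.continuous
  have hne : ι (genericPoint W) ≠ ι z :=
    fun h => hz (ι.isClosedEmbedding.injective h).symm
  have := (hPs.2.2 _ _ hsp hne).1
  omega

include hX hP hW in
theorem eq_genericPoint (z : W) (hz : δP (ι z) = k + 1) : z = genericPoint W := by
  by_contra hne
  have := delta_lt δ hX δP hP k ι hW z hne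
  omega

include hX hP hW h0 h1 in
theorem hZ0 (z : W) (hz : ι z ∈ Set.range (P1.sect X 0) ∪ Set.range (P1.sect X 1)) :
    δP (ι z) ≤ k := by
  apply delta_lt δ hX δP hP k ι hW
  rintro rfl
  rcases hz with h | h
  · exact h0 h
  · exact h1 h

theorem eq_genericPoint_of_assoc [IsLocallyNoetherian W] (z : W)
    (hass : IsAssociatedPrime (IsLocalRing.maximalIdeal (W.presheaf.stalk z))
      (W.presheaf.stalk z)) : z = genericPoint W := by
  haveI : IsDomain (W.presheaf.stalk z) := inferInstance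
  rw [isAssociatedPrime_iff] at hass
  obtain ⟨hp, x, hx⟩ := hass
  have hx0 : x ≠ 0 := by
    intro h0'
    apply hp.ne_top
    rw [hx, h0']
    ext r
    simp [Submodule.mem_colon_singleton]
  have hbot : IsLocalRing.maximalIdeal (W.presheaf.stalk z) = ⊥ := by
    rw [hx]
    ext r
    rw [Submodule.mem_colon_singleton, Submodule.mem_bot, Ideal.mem_bot, smul_eq_mul,
      mul_eq_zero]
    exact ⟨fun h => h.resolve_right hx0, fun h => Or.inl h⟩
  have hmem : genericPoint W ∈ Set.range (W.fromSpecStalk z) := by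
    rw [Scheme.range_fromSpecStalk]
    exact genericPoint_specializes z
  obtain ⟨q, hq⟩ := hmem
  have hq' : q = IsLocalRing.closedPoint (W.presheaf.stalk z) := by
    apply PrimeSpectrum.ext
    change q.asIdeal = IsLocalRing.maximalIdeal (W.presheaf.stalk z)
    rw [hbot, eq_bot_iff, ← hbot]
    exact IsLocalRing.le_maximalIdeal q.2.ne_top
  rw [hq', Scheme.fromSpecStalk_closedPoint] at hq
  exact hq

include h0 h1 in
theorem hemb [IsLocallyNoetherian W] (z : W)
    (hass : IsAssociatedPrime (IsLocalRing.maximalIdeal (W.presheaf.stalk z))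
      (W.presheaf.stalk z)) :
    ι z ∉ Set.range (P1.sect X 0) ∪ Set.range (P1.sect X 1) ∨ δP (ι z) < k := by
  left
  rw [eq_genericPoint_of_assoc z hass]
  rintro (h | h)
  · exact h0 h
  · exact h1 h

theorem lenFun_genericPoint : lenFun W (genericPoint W) = 1 := by
  unfold lenFun
  have hf : IsField (W.presheaf.stalk (genericPoint W)) :=
    (inferInstance : Field W.functionField).toIsField
  letI := hf.toField
  have : IsSimpleModule (W.presheaf.stalk (genericPoint W)) (W.presheaf.stalk (genericPoint W)) :=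
    inferInstance
  rw [Module.length_eq_one_iff.mpr this]
  rfl

include hX hP hW in
/-- for integral `W` the cycle `gam` is a single principal divisor -/
theorem gam_eq_divFun (hWs : Cyc.IsSetup W (fun w => δP (ι w)))
    (hI : ∀ ζ : W, δP (ι ζ) = k + 1 → lenFun W ζ ≠ 0 → ζ ∈ V X ι 0 ∧ ζ ∈ V X ι 1)
    (hlf : ∀ y : W, ∃ U : Set W, IsOpen U ∧ y ∈ U ∧
      {ζ : PLE.Idx (fun w => δP (ι w)) k (lenFun W) | (closure {ζ.1} ∩ U).Nonempty}.Finite)
    (y : W) :
    PLE.gam (fun w => δP (ι w)) hWs k (lenFun W) (hab X ι) hI hlf y =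
      Cyc.divFun (fun w => δP (ι w)) (genericPoint W)
        (PLE.tfun (V X ι 0) (aa X ι 0 1) (genericPoint W)) y := by
  unfold PLE.gam
  rw [EX2.ratCycle_apply]
  have hζ₀ : (fun w => δP (ι w)) (genericPoint W) = k + 1 ∧ lenFun W (genericPoint W) ≠ 0 :=
    ⟨hW, by rw [lenFun_genericPoint]; exact one_ne_zero⟩
  obtain ⟨ζ₀, hζ₀'⟩ : ∃ ζ₀ : PLE.Idx (fun w => δP (ι w)) k (lenFun W), ζ₀.1 = genericPoint W :=
    ⟨⟨genericPoint W, hζ₀⟩, rfl⟩
  rw [finsum_eq_single _ ζ₀ (fun ζ hζ => absurd (Subtype.ext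
    ((eq_genericPoint δ hX δP hP k ι hW ζ.1 ζ.2.1).trans hζ₀'.symm)) hζ), hζ₀']
  change Cyc.divFun (fun w => δP (ι w)) (genericPoint W)
    (PLE.tfun (V X ι 0) (aa X ι 0 1) (genericPoint W) ^ lenFun W (genericPoint W)) y = _
  rw [lenFun_genericPoint, pow_one]

include hX hP hW h0 h1 in
/-- `[W_0]_k - [W_∞]_k = q_* div_W(t)`, pointwise -/
theorem main_integral (α β : AlgebraicCycle X ℤ)
    (hα : ⇑α = Cyc.subschemeFun δ k (pullback.snd ι (P1.sect X 0)))
    (hβ : ⇑β = Cyc.subschemeFun δ k (pullback.snd ι (P1.sect X 1)))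
    (hdim : δP (ι (genericPoint W)) = δ ((ι ≫ π X) (genericPoint W))) (x : X) :
    α x - β x = Cyc.divFun δ ((ι ≫ π X) (genericPoint W))
      (Cyc.normGen (ι ≫ π X) (genericPoint W)
        (PLE.tfun (V X ι 0) (aa X ι 0 1) (genericPoint W))) x := by
  classical
  have hPs : Cyc.IsSetup (P X) δP :=
    SetupLft.isSetup_of_locallyOfFiniteType (π X) δ hX δP hP
  set δW : W → ℤ := fun w => δP (ι w) with hδW
  have hWs : Cyc.IsSetup W δW := ClImm.isSetup ι δP hPs
  haveI : IsLocallyNoetherian W := hWs.1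
  have hq : Cyc.DeltaCompat (ι ≫ π X) δW δ :=
    RelCartier.deltaCompat_comp (i := ι) (p := π X) δP δ hP
  have hη0 : genericPoint W ∈ V X ι 0 := (mem_V_iff X ι 1 0 (by decide) _).mpr h1
  have hη1 : genericPoint W ∈ V X ι 1 := (mem_V_iff X ι 0 1 (by decide) _).mpr h0
  have hI : ∀ ζ : W, δP (ι ζ) = k + 1 → lenFun W ζ ≠ 0 → ζ ∈ V X ι 0 ∧ ζ ∈ V X ι 1 := by
    intro ζ hζ _
    rw [eq_genericPoint δ hX δP hP k ι hW ζ hζ]
    exact ⟨hη0, hη1⟩
  have hlf : ∀ y : W, ∃ U : Set W, IsOpen U ∧ y ∈ U ∧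
      {ζ : PLE.Idx δW k (lenFun W) | (closure {ζ.1} ∩ U).Nonempty}.Finite := by
    intro y
    refine ⟨Set.univ, isOpen_univ, trivial, ?_⟩
    haveI : Subsingleton (PLE.Idx δW k (lenFun W)) :=
      ⟨fun a b => Subtype.ext ((eq_genericPoint δ hX δP hP k ι hW a.1 a.2.1).trans
        (eq_genericPoint δ hX δP hP k ι hW b.1 b.2.1).symm)⟩
    exact Set.toFinite _
  have heq := main_eq δ hX δP hP k ι (hZ0 δ hX δP hP k ι hW h0 h1)
    (delta_le δ hX δP hP k ι hW) (hemb δP k ι h0 h1) α β hα hβ hWs hI hlf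
  have ht : PLE.tfun (V X ι 0) (aa X ι 0 1) (genericPoint W) ≠ 0 :=
    PLE.tfun_ne_zero (hab X ι) _ hη0 hη1
  have hD : ⇑(PLE.gam δW hWs k (lenFun W) (hab X ι) hI hlf) =
      Cyc.divFun δW (genericPoint W) (PLE.tfun (V X ι 0) (aa X ι 0 1) (genericPoint W)) :=
    funext fun y => gam_eq_divFun δ hX δP hP k ι hW hWs hI hlf y
  have hmap := EX1.map_divCycle_norm δW δ hWs hX (ι ≫ π X) hq (genericPoint W) _ ht _ hD hdim
  have : (α - β) x = α x - β x := rfl
  rw [← this, heq, hmap]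

end Groth.Agent.Lib.Helper18.PLH3
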