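import Mathlib
import Groth.Prelude.Def_Cyc
import Groth.Agent.Lib.Helper18.PLH1
import Groth.Agent.Lib.Helper18.PLH3

/-!
# The projective line, part H4: the graph of an invertible function
-/

set_option autoImplicit false
set_option linter.unusedSectionVars false
set_option linter.style.haveILetI false
universe u
open AlgebraicGeometry CategoryTheory CategoryTheory.Limits TopologicalSpace HomogeneousLocalization

namespace Groth.Agent.Lib.Helper18.PLH4

open Groth.Agent.Lib.Helper18.PLA Groth.Agent.Lib.Helper18.PLB Groth.Agent.Lib.Helper18.PLC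
  Groth.Agent.Lib.Helper18.PLD Groth.Agent.Lib.Helper18

/-- `chartMap` sends the coordinate to the given element -/
theorem chartMap_tau (B : Type u) [CommRing B] (b : B) :
    P1.chartMap 0 B b (tau.{u} 0 1) = b := by
  unfold P1.chartMap
  rw [RingHom.comp_apply, HomogeneousLocalization.algebraMap_apply, tau,
    Away.isLocalizationElem, Away.val_mk, Localization.mk_eq_mk', IsLocalization.Away.lift,
    IsLocalization.lift_mk', Units.mul_inv_eq_iff_eq_mul, IsUnit.coe_liftRight]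
  simp

variable (X : Scheme.{u}) (U : X.Opens) (f : Γ(X, U))

/-- the chart-level morphism of the graph -/
noncomputable def k₀ : (↑U : Scheme.{u}) ⟶ Spec (CommRingCat.of (Aw.{u} 0)) :=
  U.toSpecΓ ≫ Spec.map (CommRingCat.ofHom (P1.chartMap 0 Γ(X, U) f))

theorem graph_π : P1.graph X U f ≫ π X = U.ι := by
  unfold P1.graph π CohB1.ProjSpaceOver.toBase
  exact pullback.lift_snd _ _ _

theorem graph_pr : P1.graph X U f ≫ pr X = k₀ X U f ≫ aι 0 := by
  unfold P1.graph pr k₀ aι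
  refine (pullback.lift_fst _ _ _).trans ?_
  rw [Category.assoc]
  rfl

theorem pr_graph (u : (↑U : Scheme.{u})) :
    pr X (P1.graph X U f u) = aι 0 (k₀ X U f u) :=
  congrArg (fun φ : (↑U : Scheme.{u}) ⟶ Pj.{u} => φ u) (graph_pr X U f)

theorem graph_mem_U0 (u : (↑U : Scheme.{u})) : P1.graph X U f u ∈ PLD.U X 0 := by
  change pr X (P1.graph X U f u) ∈ D 0
  rw [pr_graph]
  exact ⟨k₀ X U f u, trivial, rfl⟩

theorem graph_mem_U1 (hf : IsUnit f) (u : (↑U : Scheme.{u})) : P1.graph X U f u ∈ PLD.U X 1 := by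
  change pr X (P1.graph X U f u) ∈ D 1
  rw [pr_graph]
  have h1 : k₀ X U f u ∈ (aι.{u} 0) ⁻¹ᵁ D 1 := by
    rw [aι_preimage_D]
    change tau.{u} 0 1 ∉ (k₀ X U f u).asIdeal
    intro hmem
    have h2 : P1.chartMap 0 Γ(X, U) f (tau.{u} 0 1) ∈ (U.toSpecΓ u).asIdeal := hmem
    rw [chartMap_tau] at h2
    exact (U.toSpecΓ u).2.ne_top (Ideal.eq_top_of_isUnit_mem _ h2 hf)
  exact h1

instance quasiCompact_graph [IsLocallyNoetherian X] : QuasiCompact (P1.graph X U f) := by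
  haveI : QuasiCompact (P1.graph X U f ≫ π X) := by rw [graph_π]; infer_instance
  exact QuasiCompact.of_comp (P1.graph X U f) (π X)

theorem stalkMap_germ_sec'' (i : Fin (1 + 1)) {W : Scheme.{u}}
    (k : W ⟶ Spec (CommRingCat.of (Aw.{u} i))) (j : W ⟶ Pj.{u}) (hj : j = k ≫ aι i) (r : W)
    (a : Aw.{u} i) (h : j r ∈ D.{u} i) :
    j.stalkMap r (Pj.{u}.presheaf.germ (D i) (j r) h (sec i a)) =
      W.presheaf.germ ⊤ r trivial
        (k.app ⊤ ((Scheme.ΓSpecIso (CommRingCat.of (Aw.{u} i))).inv a)) := by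
  subst hj
  exact stalkMap_germ_sec i k r a h

theorem k₀_app_top :
    (k₀ X U f).app ⊤ ((Scheme.ΓSpecIso (CommRingCat.of (Aw.{u} 0))).inv (tau.{u} 0 1)) =
      U.topIso.inv f := by
  have h1 : (k₀ X U f).app ⊤ ((Scheme.ΓSpecIso (CommRingCat.of (Aw.{u} 0))).inv (tau.{u} 0 1)) =
      U.toSpecΓ.appTop ((Spec.map (CommRingCat.ofHom (P1.chartMap 0 Γ(X, U) f))).appTop
        ((Scheme.ΓSpecIso (CommRingCat.of (Aw.{u} 0))).inv (tau.{u} 0 1))) := by
    have := Scheme.Hom.comp_appTop U.toSpecΓ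
      (Spec.map (CommRingCat.ofHom (P1.chartMap 0 Γ(X, U) f)))
    exact congrArg
      (fun ψ => ψ.hom ((Scheme.ΓSpecIso (CommRingCat.of (Aw.{u} 0))).inv (tau.{u} 0 1))) this
  have h2 : (Spec.map (CommRingCat.ofHom (P1.chartMap 0 Γ(X, U) f))).appTop
      ((Scheme.ΓSpecIso (CommRingCat.of (Aw.{u} 0))).inv (tau.{u} 0 1)) =
      (Scheme.ΓSpecIso Γ(X, U)).inv (P1.chartMap 0 Γ(X, U) f (tau.{u} 0 1)) :=
    (congrArg (fun ψ => ψ.hom (tau.{u} 0 1))
      (Scheme.ΓSpecIso_inv_naturality (CommRingCat.ofHom (P1.chartMap 0 Γ(X, U) f)))).symm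
  rw [h1, h2, chartMap_tau]
  have h3 : U.toSpecΓ.appTop = (Scheme.ΓSpecIso Γ(X, U)).hom ≫ U.topIso.inv :=
    Scheme.Opens.toSpecΓ_appTop U
  rw [h3]
  change U.topIso.inv ((Scheme.ΓSpecIso Γ(X, U)).hom ((Scheme.ΓSpecIso Γ(X, U)).inv f)) = _
  congr 1
  exact congrArg (fun ψ => ψ.hom f) (Scheme.ΓSpecIso Γ(X, U)).inv_hom_id

theorem germ_graph_uu (u : (↑U : Scheme.{u})) :
    (↑U : Scheme.{u}).presheaf.germ ((P1.graph X U f) ⁻¹ᵁ PLD.U X 0) u (graph_mem_U0 X U f u)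
      ((P1.graph X U f).app (PLD.U X 0) (uu X 0 1)) =
    (↑U : Scheme.{u}).presheaf.germ ⊤ u trivial (U.topIso.inv f) := by
  rw [← Scheme.Hom.germ_stalkMap_apply]
  have h1 : (P X).presheaf.germ (PLD.U X 0) (P1.graph X U f u) (graph_mem_U0 X U f u) (uu X 0 1) =
      (pr X).stalkMap (P1.graph X U f u) (Pj.{u}.presheaf.germ (D 0) (pr X (P1.graph X U f u))
        (graph_mem_U0 X U f u) (sec 0 (tau 0 1))) :=
    (Scheme.Hom.germ_stalkMap_apply (pr X) (D 0) (P1.graph X U f u) (graph_mem_U0 X U f u)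
      (sec 0 (tau 0 1))).symm
  rw [h1]
  have h2 := stalkMap_germ_sec'' 0 (k₀ X U f) (P1.graph X U f ≫ pr X) (graph_pr X U f) u
    (tau 0 1) (graph_mem_U0 X U f u)
  rw [k₀_app_top] at h2
  rw [← h2, Scheme.Hom.stalkMap_comp]
  rfl

end Groth.Agent.Lib.Helper18.PLH4
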