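import Mathlib
import Groth.Prelude.Def_Cyc
import Groth.Agent.Lib.Helper18.PLH4
import Groth.Agent.Lib.Helper18.PLF3
import Groth.Agent.Lib.Helper18.EX3
import Groth.Agent.Lib.Helper18.PPC1
import Groth.Agent.Lib.Helper18.OpenImm

/-!
# The projective line, part H5: `div_X(f) = [Y_0] - [Y_∞]` for the closure `Y` of the graph of `f`
-/

set_option autoImplicit false
set_option linter.unusedSectionVars false
set_option linter.style.haveILetI false
universe u
open AlgebraicGeometry CategoryTheory CategoryTheory.Limits TopologicalSpace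

namespace Groth.Agent.Lib.Helper18.PLH5

open Groth.Agent.Lib.Helper18.PLA Groth.Agent.Lib.Helper18.PLB Groth.Agent.Lib.Helper18.PLC
  Groth.Agent.Lib.Helper18.PLD Groth.Agent.Lib.Helper18.PLF1 Groth.Agent.Lib.Helper18.PLF2
  Groth.Agent.Lib.Helper18.PLH2 Groth.Agent.Lib.Helper18

section General

variable {A B C : Scheme.{u}} (a : A ⟶ B) (b : B ⟶ C) (c : A ⟶ C) (hc : a ≫ b = c)

include hc in
theorem surjective_of_comp (u : A) (hs : Function.Surjective (c.residueFieldMap u).hom) :
    Function.Surjective (b.residueFieldMap (a u)).hom := by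
  subst hc
  rw [Scheme.residueFieldMap_comp] at hs
  intro z
  obtain ⟨w, hw⟩ := hs ((a.residueFieldMap u).hom z)
  exact ⟨w, (a.residueFieldMap u).hom.injective hw⟩

include hc in
theorem eval_comp (u : A) (V : C.Opens) (s : Γ(C, V)) (hV : b (a u) ∈ V) (hV' : c u ∈ V) :
    (a.residueFieldMap u).hom ((b.residueFieldMap (a u)).hom (C.evaluation V (b (a u)) hV s)) =
      A.evaluation (c ⁻¹ᵁ V) u hV' (c.app V s) := by
  subst hc
  rw [← Scheme.evaluation_naturality_apply (a ≫ b) u hV s, Scheme.residueFieldMap_comp]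
  rfl

theorem divFun_eval_congr {X : Scheme.{u}} (δ : X → ℤ) (U : X.Opens) (f : Γ(X, U)) (x y : X)
    (h : x = y) (hx : x ∈ U) (hy : y ∈ U) :
    Cyc.divFun δ x (X.evaluation U x hx f) = Cyc.divFun δ y (X.evaluation U y hy f) := by
  subst h
  rfl

end General

section Germ

theorem germ_map_eqToHom {X : Scheme.{u}} {U : X.Opens} (f : Γ(X, U)) (W : X.Opens) (e : W = U)
    (x : X) (hw : x ∈ W) (hu : x ∈ U) :
    X.presheaf.germ W x hw (X.presheaf.map (eqToHom e).op f) = X.presheaf.germ U x hu f := by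
  subst e
  simp

variable {X : Scheme.{u}} (U : X.Opens) (f : Γ(X, U))

/-- the restriction of `f` to the open subscheme `U`, in two ways -/
theorem germ_ι_app (u : (↑U : Scheme.{u})) (h : u ∈ U.ι ⁻¹ᵁ U) :
    (↑U : Scheme.{u}).presheaf.germ (U.ι ⁻¹ᵁ U) u h (U.ι.app U f) =
      (↑U : Scheme.{u}).presheaf.germ ⊤ u trivial (U.topIso.inv f) := by
  apply (ConcreteCategory.bijective_of_isIso (U.stalkIso u).hom).1
  have e1 := congrArg (fun ψ => ψ.hom (U.ι.app U f)) (U.germ_stalkIso_hom (V := U.ι ⁻¹ᵁ U) u h)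
  have e2 := congrArg (fun ψ => ψ.hom (U.topIso.inv f)) (U.germ_stalkIso_hom (V := ⊤) u trivial)
  refine e1.trans (Eq.trans ?_ e2.symm)
  rw [Scheme.Opens.ι_app_self, Scheme.Opens.topIso_inv]
  exact (germ_map_eqToHom f _ _ _ _ u.2).trans (germ_map_eqToHom f _ _ _ _ u.2).symm

end Germ

section Main

theorem main (X : Scheme.{u}) [IsIntegral X] (δ : X → ℤ) (hX : Cyc.IsSetup X δ) (n : ℤ)
    (hn : δ (genericPoint X) = n) (U : X.Opens) (hη : genericPoint X ∈ U) (f : Γ(X, U))
    (hf : IsUnit f) :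
    Cyc.divFun δ (genericPoint X) (X.evaluation U (genericPoint X) hη f) = fun x =>
      Cyc.subschemeFun δ (n - 1) (pullback.snd (P1.graphClosureι X U f) (P1.sect X 0)) x -
      Cyc.subschemeFun δ (n - 1) (pullback.snd (P1.graphClosureι X U f) (P1.sect X 1)) x := by
  classical
  haveI : IsLocallyNoetherian X := hX.1
  haveI : Nonempty (↑U : Scheme.{u}) := ⟨⟨genericPoint X, hη⟩⟩
  haveI : IsIntegral (↑U : Scheme.{u}) := isIntegral_of_isOpenImmersion U.ι
  set g := P1.graph X U f with hg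
  haveI : QuasiCompact g := PLH4.quasiCompact_graph X U f
  haveI : IsIntegral g.image := PLH1.isIntegral_image g
  set ι : g.image ⟶ P X := g.imageι with hι
  have hιdef : P1.graphClosureι X U f = ι := rfl
  rw [hιdef]
  set u : (↑U : Scheme.{u}) := genericPoint (↑U : Scheme.{u}) with hu
  have hgen : genericPoint g.image = g.toImage u := PLH1.genericPoint_image g
  have hti : g.toImage ≫ ι = g := g.toImage_imageι
  have hc : g.toImage ≫ (ι ≫ π X) = U.ι := by
    rw [← Category.assoc, hti]; exact PLH4.graph_π X U f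
  set δP : P X → ℤ := PPC1.indDelta (π X) δ with hδP
  have hP : Cyc.DeltaCompat (π X) δP δ := PPC1.deltaCompat_indDelta (π X) δ
  have hs : Function.Surjective ((ι ≫ π X).residueFieldMap (g.toImage u)).hom :=
    surjective_of_comp g.toImage (ι ≫ π X) U.ι hc u (OpenImm.residueFieldMap_bijective U.ι u).2
  have hqu : (ι ≫ π X) (g.toImage u) = genericPoint X := by
    have h1 : (ι ≫ π X) (g.toImage u) = U.ι u := by
      have := congrArg (fun φ : (↑U : Scheme.{u}) ⟶ X => φ u) hc
      exact this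
    rw [h1]
    exact genericPoint_eq_of_isOpenImmersion U.ι
  have hq : Cyc.DeltaCompat (ι ≫ π X) (fun w => δP (ι w)) δ :=
    RelCartier.deltaCompat_comp (i := ι) (p := π X) δP δ hP
  have hdim : δP (ι (g.toImage u)) = δ ((ι ≫ π X) (g.toImage u)) :=
    EX3.delta_eq_of_surjective (ι ≫ π X) δ (fun w => δP (ι w)) hq (g.toImage u) hs
  have hW : δP (ι (genericPoint g.image)) = (n - 1) + 1 := by
    rw [hgen, hdim, hqu, hn]; ring
  have hιu : ι (g.toImage u) = g u := by
    have := congrArg (fun φ : (↑U : Scheme.{u}) ⟶ P X => φ u) hti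
    exact this
  have h0 : ι (genericPoint g.image) ∉ Set.range (P1.sect X 0) := by
    rw [hgen, hιu, range_sect X 0 1 (by decide)]
    exact fun h => h (PLH4.graph_mem_U1 X U f hf u)
  have h1 : ι (genericPoint g.image) ∉ Set.range (P1.sect X 1) := by
    rw [hgen, hιu, range_sect X 1 0 (by decide)]
    exact fun h => h (PLH4.graph_mem_U0 X U f u)
  have hZ0 := PLH3.hZ0 δ hX δP hP (n - 1) ι hW h0 h1
  obtain ⟨A0, -, hA0⟩ := PLF3.exists_push δ hX δP hP (n - 1) ι hZ0 0
  obtain ⟨A1, -, hA1⟩ := PLF3.exists_push δ hX δP hP (n - 1) ι hZ0 1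
  funext x
  have hmain := PLH3.main_integral δ hX δP hP (n - 1) ι hW h0 h1
    (AlgebraicCycle.map (ι ≫ π X) (fun w => δP (ι w)) δ A0)
    (AlgebraicCycle.map (ι ≫ π X) (fun w => δP (ι w)) δ A1)
    (funext hA0) (funext hA1) (by rw [hgen]; exact hdim) x
  rw [hA0 x, hA1 x] at hmain
  rw [hmain]
  rw [hgen]
  have hmemU : (ι ≫ π X) (g.toImage u) ∈ U := by rw [hqu]; exact hη
  have hV0 : g.toImage u ∈ V X ι 0 := by
    change ι (g.toImage u) ∈ PLD.U X 0
    rw [hιu]; exact PLH4.graph_mem_U0 X U f u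
  have hval : PLE.tfun (V X ι 0) (aa X ι 0 1) (g.toImage u) =
      ((ι ≫ π X).residueFieldMap (g.toImage u)).hom
        (X.evaluation U ((ι ≫ π X) (g.toImage u)) hmemU f) := by
    apply (g.toImage.residueFieldMap u).hom.injective
    rw [PLE.tfun_of_mem _ hV0]
    have e1 : (g.image.residue (g.toImage u)).hom
        (g.image.presheaf.germ (V X ι 0) (g.toImage u) hV0 (aa X ι 0 1)) =
        (ι.residueFieldMap (g.toImage u)).hom
          ((P X).evaluation (PLD.U X 0) (ι (g.toImage u)) hV0 (uu X 0 1)) :=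
      (Scheme.evaluation_naturality_apply ι (g.toImage u) hV0 (uu X 0 1)).symm
    rw [e1, eval_comp g.toImage ι g hti u (PLD.U X 0) (uu X 0 1) hV0 (PLH4.graph_mem_U0 X U f u),
      eval_comp g.toImage (ι ≫ π X) U.ι hc u U f hmemU u.2]
    change ((↑U : Scheme.{u}).residue u).hom ((↑U : Scheme.{u}).presheaf.germ _ u _ _) =
      ((↑U : Scheme.{u}).residue u).hom ((↑U : Scheme.{u}).presheaf.germ _ u _ _)
    rw [PLH4.germ_graph_uu, germ_ι_app]
  rw [hval, EX3.normGen_residueFieldMap (ι ≫ π X) (g.toImage u) hs]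
  exact congrFun (divFun_eval_congr δ U f _ _ hqu.symm hη hmemU) x

end Main

end Groth.Agent.Lib.Helper18.PLH5
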