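import Mathlib
import Groth.Prelude.Def_Cyc
import Groth.Agent.Lib.Helper18.PLD

/-!
# The projective line, part I1: functoriality of `P^1_X` in `X`
-/

set_option autoImplicit false
set_option linter.unusedSectionVars false
set_option linter.style.haveILetI false
universe u
open AlgebraicGeometry CategoryTheory CategoryTheory.Limits TopologicalSpace

namespace Groth.Agent.Lib.Helper18.PLI1

open Groth.Agent.Lib.Helper18.PLA Groth.Agent.Lib.Helper18.PLB Groth.Agent.Lib.Helper18.PLC
  Groth.Agent.Lib.Helper18.PLD Groth.Agent.Lib.Helper18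

variable {Z X : Scheme.{u}} (j : Z ⟶ X)

theorem toP1_π : P1.toP1 j ≫ π X = π Z ≫ j := by
  unfold P1.toP1 π CohB1.ProjSpaceOver.toBase
  exact pullback.lift_snd _ _ _

theorem toP1_pr : P1.toP1 j ≫ pr X = pr Z := by
  unfold P1.toP1 pr
  refine (pullback.lift_fst _ _ _).trans ?_
  exact Category.comp_id _

theorem isPullback_toP1 : IsPullback (P1.toP1 j) (π Z) (π X) j := by
  have hR : IsPullback (pr X) (π X) (CohB1.ProjSpace.toSpec 1 R0.{u})
      (specULiftZIsTerminal.from X) :=
    IsPullback.of_hasPullback (CohB1.ProjSpace.toSpec 1 R0.{u}) (specULiftZIsTerminal.from X)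
  have hO : IsPullback (P1.toP1 j ≫ pr X) (π Z) (CohB1.ProjSpace.toSpec 1 R0.{u})
      (j ≫ specULiftZIsTerminal.from X) := by
    rw [toP1_pr, specULiftZIsTerminal.hom_ext (j ≫ specULiftZIsTerminal.from X)
      (specULiftZIsTerminal.from Z)]
    exact IsPullback.of_hasPullback (CohB1.ProjSpace.toSpec 1 R0.{u})
      (specULiftZIsTerminal.from Z)
  exact IsPullback.of_right hO (toP1_π j) hR

instance isClosedImmersion_toP1 [IsClosedImmersion j] : IsClosedImmersion (P1.toP1 j) :=
  MorphismProperty.of_isPullback (P := @IsClosedImmersion) (isPullback_toP1 j).flip inferInstance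

theorem sect_toP1 (i : Fin (1 + 1)) : P1.sect Z i ≫ P1.toP1 j = j ≫ P1.sect X i := by
  apply pullback.hom_ext
  · change (P1.sect Z i ≫ P1.toP1 j) ≫ pr X = (j ≫ P1.sect X i) ≫ pr X
    rw [Category.assoc, toP1_pr, sect_pr, Category.assoc, sect_pr]
    have := specULiftZIsTerminal.hom_ext (j ≫ specULiftZIsTerminal.from X)
        (specULiftZIsTerminal.from Z)
    rw [← this]
    exact Category.assoc _ _ _
  · change (P1.sect Z i ≫ P1.toP1 j) ≫ π X = (j ≫ P1.sect X i) ≫ π X
    rw [Category.assoc, toP1_π, ← Category.assoc, sect_π, Category.id_comp, Category.assoc,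
      sect_π, Category.comp_id]

theorem isPullback_sect_toP1 (i : Fin (1 + 1)) :
    IsPullback (P1.sect Z i) j (P1.toP1 j) (P1.sect X i) := by
  have hR : IsPullback (π Z) (P1.toP1 j) j (π X) := (isPullback_toP1 j).flip
  have hO : IsPullback (P1.sect Z i ≫ π Z) j j (P1.sect X i ≫ π X) := by
    rw [sect_π, sect_π]
    exact IsPullback.of_horiz_isIso ⟨by simp⟩
  exact IsPullback.of_right hO (sect_toP1 j i) hR

theorem toP1_preimage_U (i : Fin (1 + 1)) : (P1.toP1 j) ⁻¹ᵁ (U X i) = U Z i := by
  unfold U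
  rw [← Scheme.Hom.comp_preimage, toP1_pr]

theorem toP1_mem_U (i : Fin (1 + 1)) (p : P Z) : P1.toP1 j p ∈ U X i ↔ p ∈ U Z i := by
  rw [← toP1_preimage_U j i]
  rfl

end Groth.Agent.Lib.Helper18.PLI1
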