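import Mathlib
import Groth.Prelude.Def_Cyc
import Groth.Agent.Lib.Helper18.ClImm
import Groth.Agent.Lib.Helper18.SubCyc

/-!
# The projective line, part I2: cycles of subschemes and divisors along closed immersions
-/

set_option autoImplicit false
set_option linter.unusedSectionVars false
set_option linter.style.haveILetI false
universe u
open AlgebraicGeometry CategoryTheory CategoryTheory.Limits TopologicalSpace

namespace Groth.Agent.Lib.Helper18.PLI2

theorem length_self_of_ringEquiv {R S : Type u} [CommRing R] [CommRing S] (e : R ≃+* S) :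
    Module.length R R = Module.length S S := by
  letI : Algebra R S := e.toRingHom.toAlgebra
  have h1 : Module.length R S = Module.length S S :=
    Module.length_eq_of_surjective (S := R) (R := S) (M := S) e.surjective
  let l : R ≃ₗ[R] S :=
    { e.toAddEquiv with
      map_smul' := fun r x => by
        change e (r * x) = e r * e x
        exact map_mul e r x }
  rw [← h1]
  exact l.length_eq

section Iso

variable {T' T X : Scheme.{u}} (e : T' ≅ T) (s : T ⟶ X)

theorem length_stalk_iso (z : T') :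
    Module.length (T'.presheaf.stalk z) (T'.presheaf.stalk z) =
      Module.length (T.presheaf.stalk (e.hom z)) (T.presheaf.stalk (e.hom z)) := by
  have hiso : IsIso (e.hom.stalkMap z) := inferInstance
  exact (length_self_of_ringEquiv (asIso (e.hom.stalkMap z)).commRingCatIsoToRingEquiv).symm

theorem subschemeFun_iso (δ : X → ℤ) (k : ℤ) :
    Cyc.subschemeFun δ k (e.hom ≫ s) = Cyc.subschemeFun δ k s := by
  funext x
  unfold Cyc.subschemeFun
  split_ifs with h
  · have hb : Function.Bijective (e.hom : T' → T) :=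
      (TopCat.homeoOfIso (Scheme.forgetToTop.mapIso e)).bijective
    refine finsum_mem_eq_of_bijOn (e.hom : T' → T) ⟨?_, hb.1.injOn, ?_⟩ ?_
    · intro z hz
      exact hz
    · intro t ht
      obtain ⟨z, rfl⟩ := hb.2 t
      exact ⟨z, ht, rfl⟩
    · intro z _
      rw [length_stalk_iso e z]
  · rfl

end Iso

section Comp

variable {T Z X : Scheme.{u}} (s : T ⟶ Z) (j : Z ⟶ X) [IsClosedImmersion j]

theorem subschemeFun_comp_of_mem (δ : X → ℤ) (k : ℤ) (y : Z) :
    Cyc.subschemeFun δ k (s ≫ j) (j y) = Cyc.subschemeFun (fun z => δ (j z)) k s y := by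
  unfold Cyc.subschemeFun
  have h1 : {z : T | (s ≫ j) z = j y} = {z : T | s z = y} := by
    ext z
    simp only [Set.mem_ofPred_eq]
    exact ⟨fun hz => j.isClosedEmbedding.injective hz, fun hz => congrArg j hz⟩
  rw [h1]

theorem subschemeFun_comp_of_notMem (δ : X → ℤ) (k : ℤ) (x : X)
    (hx : x ∉ Set.range (j : Z → X)) :
    Cyc.subschemeFun δ k (s ≫ j) x = 0 := by
  apply SubCyc.subschemeFun_of_notMem
  rintro ⟨z, rfl⟩
  exact hx ⟨s z, rfl⟩

theorem divFun_of_mem (δ : X → ℤ) (hX : Cyc.IsSetup X δ) (d' d : Z)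
    (g : X.residueField (j d')) :
    Cyc.divFun δ (j d') g (j d) =
      Cyc.divFun (fun z => δ (j z)) d' ((j.residueFieldMap d').hom g) d := by
  classical
  unfold Cyc.divFun
  by_cases h : d' ⤳ d ∧ δ (j d) + 1 = δ (j d')
  · have h' : j d' ⤳ j d ∧ δ (j d) + 1 = δ (j d') := ⟨(ClImm.specializes_iff j d d').mp h.1, h.2⟩
    rw [dif_pos h', dif_pos h]
    exact (ClImm.ordAt_eq j δ hX d d' h.1 h'.1 h.2 g).symm
  · have h' : ¬ (j d' ⤳ j d ∧ δ (j d) + 1 = δ (j d')) :=
      fun hh => h ⟨(ClImm.specializes_iff j d d').mpr hh.1, hh.2⟩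
    rw [dif_neg h', dif_neg h]

theorem divFun_of_notMem (δ : X → ℤ) (d' : Z) (g : X.residueField (j d')) (x : X)
    (hx : x ∉ Set.range (j : Z → X)) :
    Cyc.divFun δ (j d') g x = 0 := by
  classical
  unfold Cyc.divFun
  rw [dif_neg]
  intro hh
  exact ClImm.not_specializes_of_notMem_range j d' x hx hh.1

end Comp

section Unit

theorem exists_unit_section (Z : Scheme.{u}) (η : Z) (f : Z.residueField η) (hf : f ≠ 0) :
    ∃ (V : Z.Opens) (hη : η ∈ V) (s : Γ(Z, V)), IsUnit s ∧ Z.evaluation V η hη s = f := by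
  obtain ⟨a, ha⟩ := Z.residue_surjective η f
  obtain ⟨V₀, hV₀, s₀, hs₀⟩ := TopCat.Presheaf.exists_germ_eq Z.presheaf (x := η) a
  have hunit : IsUnit (Z.presheaf.germ V₀ η hV₀ s₀) := by
    rw [hs₀]
    by_contra hnu
    have hmem : a ∈ IsLocalRing.maximalIdeal (Z.presheaf.stalk η) :=
      (IsLocalRing.mem_maximalIdeal a).mpr hnu
    apply hf
    rw [← ha]
    exact (IsLocalRing.residue_eq_zero_iff a).mpr hmem
  have hmemb : η ∈ Z.basicOpen s₀ := (Z.mem_basicOpen s₀ η hV₀).mpr hunit
  refine ⟨Z.basicOpen s₀, hmemb,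
    Z.presheaf.map (homOfLE (Z.basicOpen_le s₀)).op s₀, ?_, ?_⟩
  · exact RingedSpace.isUnit_res_basicOpen Z.toRingedSpace s₀
  · change (Z.residue η).hom (Z.presheaf.germ (Z.basicOpen s₀) η hmemb
      (Z.presheaf.map (homOfLE (Z.basicOpen_le s₀)).op s₀)) = f
    rw [TopCat.Presheaf.germ_res_apply, hs₀]
    exact ha

end Unit

end Groth.Agent.Lib.Helper18.PLI2
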