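import Mathlib
import Groth.Prelude.Def_Cyc
import Groth.Agent.Lib.Helper18.PLH5
import Groth.Agent.Lib.Helper18.PLI1
import Groth.Agent.Lib.Helper18.PLI2
import Groth.Agent.Lib.Helper18.CL8d

/-!
# The projective line, part I3: a principal divisor is `[W_0] - [W_∞]` for some `W ⊆ P^1_X`
-/

set_option autoImplicit false
set_option linter.unusedSectionVars false
set_option linter.style.haveILetI false
universe u
open AlgebraicGeometry CategoryTheory CategoryTheory.Limits TopologicalSpace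

namespace Groth.Agent.Lib.Helper18.PLI3

open Groth.Agent.Lib.Helper18.PLA Groth.Agent.Lib.Helper18.PLB Groth.Agent.Lib.Helper18.PLC
  Groth.Agent.Lib.Helper18.PLD Groth.Agent.Lib.Helper18

section General

variable {A B C : Scheme.{u}} (a : A ⟶ B) (b : B ⟶ C)

theorem surjective_comp (u : A) (h1 : Function.Surjective (a.residueFieldMap u).hom)
    (h2 : Function.Surjective (b.residueFieldMap (a u)).hom) :
    Function.Surjective ((a ≫ b).residueFieldMap u).hom := by
  rw [Scheme.residueFieldMap_comp]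
  exact h1.comp h2

theorem surjective_congr (c c' : A ⟶ C) (h : c = c') (u : A)
    (h1 : Function.Surjective (c.residueFieldMap u).hom) :
    Function.Surjective (c'.residueFieldMap u).hom := by
  subst h
  exact h1

end General

section Graph

variable (Z : Scheme.{u}) [IsIntegral Z] [IsLocallyNoetherian Z] (V : Z.Opens)
  (hη : genericPoint Z ∈ V) (s : Γ(Z, V)) (hs : IsUnit s)

include hη hs in
theorem graph_facts [IsIntegral (P1.graph Z V s).image] :
    (P1.graph Z V s).imageι (genericPoint (P1.graph Z V s).image) ∈ PLD.U Z 0 ∧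
    (P1.graph Z V s).imageι (genericPoint (P1.graph Z V s).image) ∈ PLD.U Z 1 ∧
    ((P1.graph Z V s).imageι ≫ π Z) (genericPoint (P1.graph Z V s).image) = genericPoint Z ∧
    Function.Surjective (((P1.graph Z V s).imageι ≫ π Z).residueFieldMap
      (genericPoint (P1.graph Z V s).image)).hom := by
  haveI : Nonempty (↑V : Scheme.{u}) := ⟨⟨genericPoint Z, hη⟩⟩
  haveI : IsIntegral (↑V : Scheme.{u}) := isIntegral_of_isOpenImmersion V.ι
  set g := P1.graph Z V s with hg
  haveI : QuasiCompact g := PLH4.quasiCompact_graph Z V s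
  set ι : g.image ⟶ P Z := g.imageι with hι
  set u : (↑V : Scheme.{u}) := genericPoint (↑V : Scheme.{u}) with hu
  have hgen : genericPoint g.image = g.toImage u := PLH1.genericPoint_image g
  have hti : g.toImage ≫ ι = g := g.toImage_imageι
  have hc : g.toImage ≫ (ι ≫ π Z) = V.ι := by
    rw [← Category.assoc, hti]; exact PLH4.graph_π Z V s
  have hιu : ι (g.toImage u) = g u := by
    have := congrArg (fun φ : (↑V : Scheme.{u}) ⟶ P Z => φ u) hti
    exact this
  rw [hgen]
  refine ⟨?_, ?_, ?_, ?_⟩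
  · rw [hιu]; exact PLH4.graph_mem_U0 Z V s u
  · rw [hιu]; exact PLH4.graph_mem_U1 Z V s hs u
  · have h1 : (ι ≫ π Z) (g.toImage u) = V.ι u := by
      have := congrArg (fun φ : (↑V : Scheme.{u}) ⟶ Z => φ u) hc
      exact this
    rw [h1]
    exact genericPoint_eq_of_isOpenImmersion V.ι
  · exact PLH5.surjective_of_comp g.toImage (ι ≫ π Z) V.ι hc u
      (OpenImm.residueFieldMap_bijective V.ι u).2

end Graph

section Exists

variable {X : Scheme.{u}} (δ : X → ℤ) (hX : Cyc.IsSetup X δ) (δP : P X → ℤ)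
  (hP : Cyc.DeltaCompat (π X) δP δ) (k : ℤ)

include hX hP in
theorem exists_W (ξ : X) (hξ : δ ξ = k + 1) (f : X.residueField ξ) (hf : f ≠ 0) :
    ∃ (W : Scheme.{u}) (ι : W ⟶ P X) (_ : IsIntegral W) (_ : IsClosedImmersion ι),
      (δP (ι (genericPoint W)) = k + 1 ∧ ι (genericPoint W) ∉ Set.range (P1.sect X 0) ∧
        ι (genericPoint W) ∉ Set.range (P1.sect X 1)) ∧
      Set.range ι ⊆ (π X) ⁻¹' closure {ξ} ∧
      ∀ x, Cyc.divFun δ ξ f x =
        Cyc.subschemeFun δ k (pullback.snd ι (P1.sect X 0)) x -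
          Cyc.subschemeFun δ k (pullback.snd ι (P1.sect X 1)) x := by
  classical
  obtain ⟨Z, hZint, j, hj, hjξ⟩ := CL8d.exists_integral_closure ξ
  subst hjξ
  have hZs : Cyc.IsSetup Z (fun z => δ (j z)) := ClImm.isSetup j δ hX
  haveI : IsLocallyNoetherian Z := hZs.1
  set f' := (j.residueFieldMap (genericPoint Z)).hom f with hf'
  have hf'0 : f' ≠ 0 := by
    intro h
    apply hf
    exact (j.residueFieldMap (genericPoint Z)).hom.injective (h.trans (map_zero _).symm)
  obtain ⟨V, hηV, s, hsu, hsf⟩ := PLI2.exists_unit_section Z (genericPoint Z) f' hf'0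
  have hmain := PLH5.main Z (fun z => δ (j z)) hZs (k + 1) hξ V hηV s hsu
  rw [hsf] at hmain
  have hk : k + 1 - 1 = k := by ring
  rw [hk] at hmain
  haveI : QuasiCompact (P1.graph Z V s) := PLH4.quasiCompact_graph Z V s
  haveI : Nonempty (↑V : Scheme.{u}) := ⟨⟨genericPoint Z, hηV⟩⟩
  haveI : IsIntegral (↑V : Scheme.{u}) := isIntegral_of_isOpenImmersion V.ι
  haveI hWint : IsIntegral (P1.graph Z V s).image := PLH1.isIntegral_image _
  obtain ⟨hU0, hU1, hq, hsurj⟩ := graph_facts Z V hηV s hsu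
  have hιdef : P1.graphClosureι Z V s = (P1.graph Z V s).imageι := rfl
  rw [hιdef] at hmain
  set ι' : (P1.graph Z V s).image ⟶ P Z := (P1.graph Z V s).imageι with hι'
  set ηW := genericPoint (P1.graph Z V s).image with hηW
  have hcomp : (ι' ≫ π Z) ≫ j = (ι' ≫ P1.toP1 j) ≫ π X := by
    rw [Category.assoc, Category.assoc, PLI1.toP1_π]
  have hpt : ∀ w, π X ((ι' ≫ P1.toP1 j) w) = j ((ι' ≫ π Z) w) := by
    intro w
    have := congrArg (fun φ : (P1.graph Z V s).image ⟶ X => φ w) hcomp
    exact this.symm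
  refine ⟨(P1.graph Z V s).image, ι' ≫ P1.toP1 j, hWint, inferInstance, ⟨?_, ?_, ?_⟩, ?_, ?_⟩
  · have hq' : Cyc.DeltaCompat ((ι' ≫ P1.toP1 j) ≫ π X)
        (fun w => δP ((ι' ≫ P1.toP1 j) w)) δ :=
      RelCartier.deltaCompat_comp (i := ι' ≫ P1.toP1 j) (p := π X) δP δ hP
    have hs2 : Function.Surjective
        (((ι' ≫ P1.toP1 j) ≫ π X).residueFieldMap ηW).hom :=
      surjective_congr _ _ hcomp ηW (surjective_comp (ι' ≫ π Z) j ηW hsurj
        (ClImm.residueFieldMap_bijective j _).2)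
    have h1 := EX3.delta_eq_of_surjective ((ι' ≫ P1.toP1 j) ≫ π X) δ _ hq' ηW hs2
    have h2 : ((ι' ≫ P1.toP1 j) ≫ π X) ηW = j (genericPoint Z) := by
      rw [← hq]; exact hpt ηW
    rw [h2] at h1
    exact h1.trans hξ
  · rw [range_sect X 0 1 (by decide)]
    exact fun h => h ((PLI1.toP1_mem_U j 1 _).mpr hU1)
  · rw [range_sect X 1 0 (by decide)]
    exact fun h => h ((PLI1.toP1_mem_U j 0 _).mpr hU0)
  · rintro _ ⟨w, rfl⟩
    change π X ((ι' ≫ P1.toP1 j) w) ∈ closure {j (genericPoint Z)}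
    rw [hpt w, ← CL8d.range_eq_closure' j]
    exact ⟨_, rfl⟩
  · intro x
    have key : ∀ i : Fin (1 + 1),
        Cyc.subschemeFun δ k (pullback.snd (ι' ≫ P1.toP1 j) (P1.sect X i)) =
          Cyc.subschemeFun δ k (pullback.snd ι' (P1.sect Z i) ≫ j) := by
      intro i
      have hpb := (IsPullback.of_hasPullback ι' (P1.sect Z i)).paste_vert
        (PLI1.isPullback_sect_toP1 j i)
      rw [← PLI2.subschemeFun_iso hpb.isoPullback
        (pullback.snd (ι' ≫ P1.toP1 j) (P1.sect X i)) δ k, hpb.isoPullback_hom_snd]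
    rw [key 0, key 1]
    by_cases hx : x ∈ Set.range (j : Z → X)
    · obtain ⟨y, rfl⟩ := hx
      rw [PLI2.subschemeFun_comp_of_mem, PLI2.subschemeFun_comp_of_mem,
        PLI2.divFun_of_mem j δ hX]
      exact congrFun hmain y
    · rw [PLI2.subschemeFun_comp_of_notMem _ j δ k x hx,
        PLI2.subschemeFun_comp_of_notMem _ j δ k x hx, PLI2.divFun_of_notMem j δ _ f x hx]
      rfl

end Exists

end Groth.Agent.Lib.Helper18.PLI3
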