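import Mathlib
import Groth.Prelude.Def_Bivar2
import Groth.Agent.Lib.Helper18.PPC1
import Groth.Agent.Lib.Helper18.FF8
import Groth.Agent.Lib.Helper18.SetupLft
import Groth.Agent.Lib.Helper18.CycMap

/-!
# The proper pushforward of a bivariant class: the operation
-/

set_option autoImplicit false
set_option linter.unusedSectionVars false
set_option linter.style.haveILetI false
universe u
open CategoryTheory AlgebraicGeometry TopologicalSpace Limits

namespace Groth.Agent.Lib.Helper18.PPC2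

open Groth.Agent.Lib.Helper18.FF8 Groth.Agent.Lib.Helper18.PPC1

variable {X Y Z : Scheme.{u}} {δX : X → ℤ} {δY : Y → ℤ} {δZ : Z → ℤ} (hX : Cyc.IsSetup X δX)
  (hY : Cyc.IsSetup Y δY) (hZ : Cyc.IsSetup Z δZ) (f : X ⟶ Y) [IsProper f] {g : Y ⟶ Z}
  [LocallyOfFiniteType g] (hδf : Cyc.DeltaCompat f δX δY) (hδg : Cyc.DeltaCompat g δY δZ) {p : ℤ}
  (c : Bivar.Cl p (f ≫ g) δX δZ) (s : Bivar.Sq g δY δZ)

section Fibre

variable {X' : Scheme.{u}} (f' : X' ⟶ s.X') (gX : X' ⟶ X) (hp : IsPullback f' gX s.g' f)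
  (δX' : X' → ℤ) (hX' : Cyc.DeltaCompat gX δX' δX)

theorem lft_g' : LocallyOfFiniteType s.g' :=
  haveI := s.lft
  MorphismProperty.of_isPullback s.isPullback inferInstance

include hp in
theorem lft_gX : LocallyOfFiniteType gX :=
  haveI := lft_g' s
  MorphismProperty.of_isPullback hp inferInstance

include hp in
theorem proper_f' : IsProper f' := MorphismProperty.of_isPullback hp.flip inferInstance

include hZ in
theorem isSetupY' : Cyc.IsSetup s.Y' s.δY' :=
  haveI := s.lft
  Groth.Agent.Lib.Helper18.SetupLft.isSetup_of_locallyOfFiniteType s.g δZ hZ s.δY' s.compatY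

include hY in
theorem isSetupX' : Cyc.IsSetup s.X' s.δX' :=
  haveI := lft_g' s
  Groth.Agent.Lib.Helper18.SetupLft.isSetup_of_locallyOfFiniteType s.g' δY hY s.δX' s.compatX

include hX hp hX' in
theorem isSetupP : Cyc.IsSetup X' δX' :=
  haveI := lft_gX f s f' gX hp
  Groth.Agent.Lib.Helper18.SetupLft.isSetup_of_locallyOfFiniteType gX δX hX δX' hX'

include hδf hp hX' in
theorem compat_f' : Cyc.DeltaCompat f' δX' s.δX' := by
  refine deltaCompat_cancel f' s.g' δX' s.δX' δY ?_ s.compatX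
  rw [hp.w]
  exact Bivar.deltaCompat_comp gX f δX' δX δY hX' hδf

/-- the pasted square -/
abbrev sq : Bivar.Sq (f ≫ g) δX δZ :=
  ⟨s.Y', X', s.g, f' ≫ s.f', gX, hp.paste_horiz s.isPullback, s.lft, s.δY', δX', s.compatY, hX'⟩

end Fibre

/-- the chosen fibre product -/
noncomputable abbrev XP : Scheme.{u} := pullback s.g' f
noncomputable abbrev fP : XP f s ⟶ s.X' := pullback.fst s.g' f
noncomputable abbrev gP : XP f s ⟶ X := pullback.snd s.g' f

theorem hpb : IsPullback (fP f s) (gP f s) s.g' f := IsPullback.of_hasPullback _ _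

instance : IsProper (fP f s) := proper_f' f s (fP f s) (gP f s) (hpb f s)

instance : LocallyOfFiniteType (gP f s) := lft_gX f s (fP f s) (gP f s) (hpb f s)

variable (δX) in
/-- the induced dimension function on the chosen fibre product -/
noncomputable def δP : XP f s → ℤ := indDelta (gP f s) δX

theorem compatP : Cyc.DeltaCompat (gP f s) (δP δX f s) δX := deltaCompat_indDelta _ _

/-- the pasted square of the chosen fibre product -/
noncomputable abbrev SS : Bivar.Sq (f ≫ g) δX δZ :=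
  sq f s (fP f s) (gP f s) (hpb f s) (δP δX f s) (compatP f s)

/-- the operation of `f_* ∘ c` -/
noncomputable def op (k : ℤ) : ChowOps.CH s.Y' s.δY' k →+ ChowOps.CH s.X' s.δX' (k - p) :=
  (pushCH (fP f s) (δP δX f s) s.δX' (isSetupP hX f s (fP f s) (gP f s) (hpb f s) _ (compatP f s))
    (isSetupX' hY s) (compat_f' f hδf s (fP f s) (gP f s) (hpb f s) _ (compatP f s)) (k - p)).comp
    (c.op (SS f s) k)

theorem op_cl (k : ℤ) (α : AlgebraicCycle s.Y' ℤ) (hα : α ∈ Cyc.Zk s.Y' s.δY' k)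
    (β₀ : AlgebraicCycle (XP f s) ℤ) (hβ₀ : β₀ ∈ Cyc.Zk (XP f s) (δP δX f s) (k - p))
    (e : c.op (SS f s) k (ChowOps.cl α hα) = ChowOps.cl β₀ hβ₀) :
    op hX hY f hδf c s k (ChowOps.cl α hα) =
      ChowOps.cl (AlgebraicCycle.map (fP f s) (δP δX f s) s.δX' β₀)
        (Bivar.cycMap_mem_Zk (fP f s) (δP δX f s) s.δX' (k - p) hβ₀) := by
  have h := congrArg (pushCH (fP f s) (δP δX f s) s.δX'
    (isSetupP hX f s (fP f s) (gP f s) (hpb f s) _ (compatP f s))
    (isSetupX' hY s) (compat_f' f hδf s (fP f s) (gP f s) (hpb f s) _ (compatP f s)) (k - p)) e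
  exact h

end Groth.Agent.Lib.Helper18.PPC2
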