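import Mathlib
import Groth.Prelude.Def_Bivar2
import Groth.Agent.Lib.Helper18.PPC2
import Groth.Agent.Lib.Helper18.CL10

/-!
# The proper pushforward of a bivariant class: independence of the fibre product
-/

set_option autoImplicit false
set_option linter.unusedSectionVars false
set_option linter.style.haveILetI false
universe u
open CategoryTheory AlgebraicGeometry TopologicalSpace Limits

namespace Groth.Agent.Lib.Helper18.PPC3

open Groth.Agent.Lib.Helper18.FF8 Groth.Agent.Lib.Helper18.PPC1 Groth.Agent.Lib.Helper18.PPC2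
  Groth.Agent.Lib.Helper18.CL10

variable {X Y Z : Scheme.{u}} {δX : X → ℤ} {δY : Y → ℤ} {δZ : Z → ℤ} (hX : Cyc.IsSetup X δX)
  (hY : Cyc.IsSetup Y δY) (hZ : Cyc.IsSetup Z δZ) (f : X ⟶ Y) [IsProper f] {g : Y ⟶ Z}
  [LocallyOfFiniteType g] (hδf : Cyc.DeltaCompat f δX δY) (hδg : Cyc.DeltaCompat g δY δZ) {p : ℤ}
  (c : Bivar.Cl p (f ≫ g) δX δZ) (s : Bivar.Sq g δY δZ)

theorem op_eq {X' : Scheme.{u}} (f' : X' ⟶ s.X') [IsProper f'] (gX : X' ⟶ X)
    (hp : IsPullback f' gX s.g' f) (δX' : X' → ℤ) (hX' : Cyc.DeltaCompat gX δX' δX) (k : ℤ)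
    (α : AlgebraicCycle s.Y' ℤ) (hα : α ∈ Cyc.Zk s.Y' s.δY' k) (β : AlgebraicCycle X' ℤ)
    (hβ : β ∈ Cyc.Zk X' δX' (k - p))
    (e : c.op (sq f s f' gX hp δX' hX') k (ChowOps.cl α hα) = ChowOps.cl β hβ) :
    op hX hY f hδf c s k (ChowOps.cl α hα) =
      ChowOps.cl (AlgebraicCycle.map f' δX' s.δX' β)
        (Bivar.cycMap_mem_Zk f' δX' s.δX' (k - p) hβ) := by
  set φ : X' ⟶ XP f s := hp.isoPullback.hom with hφ
  have hφ1 : φ ≫ fP f s = f' := hp.isoPullback_hom_fst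
  have hφ2 : φ ≫ gP f s = gX := hp.isoPullback_hom_snd
  haveI : IsProper φ := inferInstance
  have hpush := c.push (SS f s) (sq f s f' gX hp δX' hX') (𝟙 s.Y') φ (Category.id_comp _)
    (by
      change φ ≫ (fP f s ≫ s.f') = (f' ≫ s.f') ≫ 𝟙 _
      rw [Category.comp_id, ← Category.assoc, hφ1]) hφ2 k
  obtain ⟨β₀, hβ₀, e1, e2⟩ := hpush α hα
  have hid : ChowOps.cl (AlgebraicCycle.map (𝟙 s.Y') s.δY' s.δY' α)
      (Bivar.cycMap_mem_Zk (𝟙 s.Y') s.δY' s.δY' k hα) = ChowOps.cl α hα :=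
    Bivar.cl_congr (map_id s.δY' α) _ _
  have e2' : c.op (SS f s) k (ChowOps.cl α hα) =
      ChowOps.cl (AlgebraicCycle.map φ δX' (δP δX f s) β₀)
        (Bivar.cycMap_mem_Zk φ δX' (δP δX f s) (k - p) hβ₀) :=
    (congrArg (c.op (SS f s) k) hid.symm).trans e2
  rw [op_cl hX hY f hδf c s k α hα _ _ e2']
  have hφδ : Cyc.DeltaCompat φ δX' (δP δX f s) :=
    deltaCompat_cancel φ (gP f s) δX' (δP δX f s) δX (hφ2 ▸ hX') (compatP f s)
  have hfδ := compat_f' f hδf s (fP f s) (gP f s) (hpb f s) _ (compatP f s)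
  have hcyc : AlgebraicCycle.map (fP f s) (δP δX f s) s.δX' (AlgebraicCycle.map φ δX' (δP δX f s) β₀) =
      AlgebraicCycle.map f' δX' s.δX' β₀ := by
    rw [Groth.Agent.Lib.Helper18.CycMap.map_map φ (fP f s) δX' (δP δX f s) s.δX' hφδ hfδ β₀]
    exact map_congr_hom hφ1 δX' s.δX' β₀
  rw [Bivar.cl_congr hcyc _ (Bivar.cycMap_mem_Zk f' δX' s.δX' (k - p) hβ₀)]
  have e3 : ChowOps.cl β₀ hβ₀ = ChowOps.cl β hβ := e1.symm.trans e
  have h := congrArg (pushCH f' δX' s.δX' (isSetupP hX f s f' gX hp δX' hX') (isSetupX' hY s)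
    (compat_f' f hδf s f' gX hp δX' hX') (k - p)) e3
  exact h

end Groth.Agent.Lib.Helper18.PPC3
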