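import Mathlib
import Groth.Prelude.Def_Bivar2
import Groth.Agent.Lib.Helper18.PPC3
import Groth.Agent.Lib.Helper18.FF9
import Groth.Agent.Lib.Helper18.RelDimShift
import Groth.Agent.Lib.Helper21.BaseChg4

/-!
# The proper pushforward of a bivariant class: compatibility with proper pushforward and flat
pullback
-/

set_option autoImplicit false
set_option linter.unusedSectionVars false
set_option linter.style.haveILetI false
universe u
open CategoryTheory AlgebraicGeometry TopologicalSpace Limits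

namespace Groth.Agent.Lib.Helper18.PPC4

open Groth.Agent.Lib.Helper18.FF8 Groth.Agent.Lib.Helper18.PPC1 Groth.Agent.Lib.Helper18.PPC2
  Groth.Agent.Lib.Helper18.PPC3 Groth.Agent.Lib.Helper18.CL10

variable {X Y Z : Scheme.{u}} {δX : X → ℤ} {δY : Y → ℤ} {δZ : Z → ℤ} (hX : Cyc.IsSetup X δX)
  (hY : Cyc.IsSetup Y δY) (hZ : Cyc.IsSetup Z δZ) (f : X ⟶ Y) [IsProper f] {g : Y ⟶ Z}
  [LocallyOfFiniteType g] (hδf : Cyc.DeltaCompat f δX δY) (hδg : Cyc.DeltaCompat g δY δZ) {p : ℤ}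
  (c : Bivar.Cl p (f ≫ g) δX δZ) (s t : Bivar.Sq g δY δZ)

section Between

variable (h' : t.X' ⟶ s.X') (w₃ : h' ≫ s.g' = t.g')

/-- the induced morphism between the chosen fibre products -/
noncomputable def hP : XP f t ⟶ XP f s :=
  pullback.lift (fP f t ≫ h') (gP f t) (by rw [Category.assoc, w₃]; exact (hpb f t).w)

theorem hP_fst : hP f s t h' w₃ ≫ fP f s = fP f t ≫ h' := pullback.lift_fst _ _ _

theorem hP_snd : hP f s t h' w₃ ≫ gP f s = gP f t := pullback.lift_snd _ _ _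

theorem hP_isPullback : IsPullback (hP f s t h' w₃) (fP f t) (fP f s) h' :=
  IsPullback.of_right (by rw [hP_snd, w₃]; exact (hpb f t).flip) (hP_fst f s t h' w₃)
    (hpb f s).flip

theorem compat_hP : Cyc.DeltaCompat (hP f s t h' w₃) (δP δX f t) (δP δX f s) :=
  deltaCompat_cancel _ (gP f s) _ _ δX ((hP_snd f s t h' w₃) ▸ compatP f t) (compatP f s)

include w₃ in
theorem compat_h' : Cyc.DeltaCompat h' t.δX' s.δX' :=
  deltaCompat_cancel h' s.g' _ _ δY (w₃ ▸ t.compatX) s.compatX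

theorem w₂P {h : t.Y' ⟶ s.Y'} (w₂ : h' ≫ s.f' = t.f' ≫ h) :
    hP f s t h' w₃ ≫ (fP f s ≫ s.f') = (fP f t ≫ t.f') ≫ h := by
  rw [← Category.assoc, hP_fst, Category.assoc, w₂, Category.assoc]

end Between

theorem push_ok (h : t.Y' ⟶ s.Y') [IsProper h] (h' : t.X' ⟶ s.X') [IsProper h']
    (w₁ : h ≫ s.g = t.g) (w₂ : h' ≫ s.f' = t.f' ≫ h) (w₃ : h' ≫ s.g' = t.g') (k : ℤ) :
    Bivar.PushOK t.δY' t.δX' s.δY' s.δX' h h' (op hX hY f hδf c t k) (op hX hY f hδf c s k) := by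
  intro α hα
  haveI : IsProper (hP f s t h' w₃) := by
    haveI : IsProper (hP f s t h' w₃ ≫ fP f s) := by rw [hP_fst]; infer_instance
    exact IsProper.of_comp _ (fP f s)
  have hc := c.push (SS f s) (SS f t) h (hP f s t h' w₃) w₁ (w₂P f s t h' w₃ w₂)
    (hP_snd f s t h' w₃) k
  obtain ⟨β₀, hβ₀, e1, e2⟩ := hc α hα
  refine ⟨AlgebraicCycle.map (fP f t) (δP δX f t) t.δX' β₀,
    Bivar.cycMap_mem_Zk (fP f t) (δP δX f t) t.δX' (k - p) hβ₀,
    op_cl hX hY f hδf c t k α hα β₀ hβ₀ e1, ?_⟩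
  rw [op_cl hX hY f hδf c s k _ _ _ _ e2]
  apply Bivar.cl_congr
  have hfs := compat_f' f hδf s (fP f s) (gP f s) (hpb f s) _ (compatP f s)
  have hft := compat_f' f hδf t (fP f t) (gP f t) (hpb f t) _ (compatP f t)
  rw [Groth.Agent.Lib.Helper18.CycMap.map_map (hP f s t h' w₃) (fP f s) (δP δX f t) (δP δX f s)
      s.δX' (compat_hP f s t h' w₃) hfs β₀,
    Groth.Agent.Lib.Helper18.CycMap.map_map (fP f t) h' (δP δX f t) t.δX' s.δX' hft
      (compat_h' s t h' w₃) β₀]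
  exact map_congr_hom (hP_fst f s t h' w₃) _ _ β₀

theorem pull_ok (h : t.Y' ⟶ s.Y') [Flat h] (h' : t.X' ⟶ s.X') [Flat h'] (r : ℕ)
    (hr : Cyc.HasRelDim h r) (hr' : Cyc.HasRelDim h' r)
    (w₁ : h ≫ s.g = t.g) (w₂ : h' ≫ s.f' = t.f' ≫ h) (w₃ : h' ≫ s.g' = t.g') (k : ℤ) :
    Bivar.PullOK s.δY' s.δX' t.δY' t.δX' h h' (r : ℤ) (op hX hY f hδf c s k)
      (op hX hY f hδf c t (k + r)) := by
  intro α hα
  haveI := lft_g' s
  haveI : LocallyOfFiniteType (h' ≫ s.g') := by rw [w₃]; exact lft_g' t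
  haveI : LocallyOfFiniteType h' := locallyOfFiniteType_of_comp h' s.g'
  have hsq := hP_isPullback f s t h' w₃
  haveI : Flat (hP f s t h' w₃) := MorphismProperty.of_isPullback hsq.flip inferInstance
  have hrP : Cyc.HasRelDim (hP f s t h' w₃) r :=
    Groth.Agent.Lib.Helper21.BaseChg.hasRelDim_of_isPullback hsq.flip r hr'
  have hc := c.pull (SS f s) (SS f t) h (hP f s t h' w₃) r hr hrP w₁ (w₂P f s t h' w₃ w₂)
    (hP_snd f s t h' w₃) k
  obtain ⟨β₀, hβ₀, e1, e2⟩ := hc α hα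
  refine ⟨AlgebraicCycle.map (fP f s) (δP δX f s) s.δX' β₀,
    Bivar.cycMap_mem_Zk (fP f s) (δP δX f s) s.δX' (k - p) hβ₀,
    op_cl hX hY f hδf c s k α hα β₀ hβ₀ e1, ?_⟩
  intro α₁ hα₁c hα₁
  obtain ⟨β₀₁, hβ₀₁, hβ₀₁c, e3⟩ := e2 α₁ hα₁c hα₁
  refine ⟨AlgebraicCycle.map (fP f t) (δP δX f t) t.δX' β₀₁,
    Bivar.cycMap_mem_Zk (fP f t) (δP δX f t) t.δX' (k + r - p) hβ₀₁, ?_,
    op_cl hX hY f hδf c t (k + r) α₁ hα₁ β₀₁ hβ₀₁ e3⟩
  symm
  have hfs := compat_f' f hδf s (fP f s) (gP f s) (hpb f s) _ (compatP f s)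
  have hft := compat_f' f hδf t (fP f t) (gP f t) (hpb f t) _ (compatP f t)
  have hshift : ∀ x' : t.X', (∀ y, h' y = h' x' → y ⤳ x' → y = x') →
      t.δX' x' = s.δX' (h' x') + (r : ℤ) := fun x' hmax =>
    Groth.Agent.Lib.Helper18.RelDimShift.shift_of_hasRelDim h' t.δX' s.δX' r hr'
      (compat_h' s t h' w₃) x' hmax
  exact Groth.Agent.Lib.Helper18.FF9.base_change (fP f s) h' (hP f s t h' w₃) (fP f t) hsq.flip
    s.δX' t.δX' (δP δX f s) (δP δX f t) (isSetupX' hY t).2.2 hfs hft (r : ℤ) hshift β₀ β₀₁ hβ₀₁c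

end Groth.Agent.Lib.Helper18.PPC4
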