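import Mathlib
import Groth.Prelude.Def_Bivar2
import Groth.Agent.Lib.Helper18.PPC4
import Groth.Agent.Lib.Helper18.GP1
import Groth.Agent.Lib.Helper18.GP2
import Groth.Agent.Lib.Helper18.ZSP
import Groth.Agent.Lib.Helper18.FF11

/-!
# The proper pushforward of a bivariant class: Gysin compatibility and the class
-/

set_option autoImplicit false
set_option linter.unusedSectionVars false
set_option linter.style.haveILetI false
universe u
open CategoryTheory AlgebraicGeometry TopologicalSpace Limits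

namespace Groth.Agent.Lib.Helper18.PPC5

open Groth.Agent.Lib.Helper18.FF8 Groth.Agent.Lib.Helper18.PPC1 Groth.Agent.Lib.Helper18.PPC2
  Groth.Agent.Lib.Helper18.PPC3 Groth.Agent.Lib.Helper18.PPC4 Groth.Agent.Lib.Helper18.CL10

variable {X Y Z : Scheme.{u}} {δX : X → ℤ} {δY : Y → ℤ} {δZ : Z → ℤ} (hX : Cyc.IsSetup X δX)
  (hY : Cyc.IsSetup Y δY) (hZ : Cyc.IsSetup Z δZ) (f : X ⟶ Y) [IsProper f] {g : Y ⟶ Z}
  [LocallyOfFiniteType g] (hδf : Cyc.DeltaCompat f δX δY) (hδg : Cyc.DeltaCompat g δY δZ) {p : ℤ}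
  (c : Bivar.Cl p (f ≫ g) δX δZ) (s t : Bivar.Sq g δY δZ)

set_option maxHeartbeats 1600000 in
theorem gysin_ok (i : t.Y' ⟶ s.Y') [IsClosedImmersion i] (j : t.X' ⟶ s.X') [IsClosedImmersion j]
    (w₁ : i ≫ s.g = t.g) (w₂ : j ≫ s.f' = t.f' ≫ i) (w₃ : j ≫ s.g' = t.g')
    (L : s.Y'.Modules) (hL : PicF.IsInvertible L) (σ : L.presheaf.obj (Opposite.op ⊤))
    (hσ : Cyc.IsZeroSchemeOf i L σ)
    (τ : ((Scheme.Modules.pullback s.f').obj L).presheaf.obj (Opposite.op ⊤))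
    (hτ : Cyc.IsZeroSchemeOf j ((Scheme.Modules.pullback s.f').obj L) τ) (k : ℤ) :
    Bivar.GysinOK s.δY' t.δY' s.δX' t.δX' i L σ j ((Scheme.Modules.pullback s.f').obj L) τ
      (op hX hY f hδf c s k) (op hX hY f hδf c t (k - 1)) := by
  intro α hα
  have hN : PicF.IsInvertible ((Scheme.Modules.pullback s.f').obj L) :=
    Groth.Agent.Lib.Helper29.QCoh.isInvertible_pullback s.f' hL
  have hsq := hP_isPullback f s t j w₃
  haveI : IsClosedImmersion (hP f s t j w₃) :=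
    MorphismProperty.of_isPullback (P := @IsClosedImmersion) hsq.flip inferInstance
  let e : (Scheme.Modules.pullback (fP f s)).obj ((Scheme.Modules.pullback s.f').obj L) ≅
      (Scheme.Modules.pullback (fP f s ≫ s.f')).obj L :=
    (Scheme.Modules.pullbackComp (fP f s) s.f').app L
  have hM : PicF.IsInvertible
      ((Scheme.Modules.pullback (fP f s)).obj ((Scheme.Modules.pullback s.f').obj L)) :=
    Groth.Agent.Lib.Helper29.QCoh.isInvertible_pullback _ hN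
  have hM' : PicF.IsInvertible ((Scheme.Modules.pullback (fP f s ≫ s.f')).obj L) :=
    Groth.Agent.Lib.Helper29.QCoh.isInvertible_pullback _ hL
  set A := Groth.Agent.Lib.Helper18.ZSP.pullSection (fP f s)
    ((Scheme.Modules.pullback s.f').obj L) τ with hAdef
  have hA : Cyc.IsZeroSchemeOf (hP f s t j w₃)
      ((Scheme.Modules.pullback (fP f s)).obj ((Scheme.Modules.pullback s.f').obj L)) A :=
    Groth.Agent.Lib.Helper18.ZSP.isZeroSchemeOf_pullSection hN τ hτ hsq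
  have hτ'' := Groth.Agent.Lib.Helper18.GP2.isZeroSchemeOf_iso e (hP f s t j w₃) A hA
  have hc := c.gysin (SS f s) (SS f t) i (hP f s t j w₃) w₁ (w₂P f s t j w₃ w₂)
    (hP_snd f s t j w₃) L hL σ hσ (e.hom.app ⊤ A) hτ'' k
  obtain ⟨β₀, hβ₀, e1, e2⟩ := hc α hα
  refine ⟨AlgebraicCycle.map (fP f s) (δP δX f s) s.δX' β₀,
    Bivar.cycMap_mem_Zk (fP f s) (δP δX f s) s.δX' (k - p) hβ₀,
    op_cl hX hY f hδf c s k α hα β₀ hβ₀ e1, ?_⟩
  intro w hw γ hγc hγ w' hw'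
  obtain ⟨w₁', hw₁'⟩ := Groth.Agent.Lib.Helper18.BV1.exists_nonzero_sections hM
  obtain ⟨ζ₀, hζ₀, hζ₀c, e3⟩ := e2 w hw γ hγc hγ
    (fun ξ => Groth.Agent.Lib.Helper18.BV2.fibreMap e ξ (w₁' ξ))
    (fun ξ => Groth.Agent.Lib.Helper18.BV2.fibreMap_ne_zero e hM hM' ξ _ (hw₁' ξ))
  have hXs := isSetupX' hY s
  have hXPs := isSetupP hX f s (fP f s) (gP f s) (hpb f s) _ (compatP f s)
  set β := AlgebraicCycle.map (fP f s) (δP δX f s) s.δX' β₀ with hβdef
  have hβ : β ∈ Cyc.Zk s.X' s.δX' (k - p) :=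
    Bivar.cycMap_mem_Zk (fP f s) (δP δX f s) s.δX' (k - p) hβ₀
  set Γ := Groth.Agent.Lib.Helper18.KF21.c1CapCycle s.δX' hXs hN β
    (Cyc.gysinChoice ((Scheme.Modules.pullback s.f').obj L) τ w')
    (Groth.Agent.Lib.Helper18.KF17.gysinChoice_ne_zero τ w' hw') with hΓ
  have eδ : t.δX' = fun z => s.δX' (j z) :=
    deltaCompat_unique j _ _ s.δX' (compat_h' s t j w₃)
      (Groth.Agent.Lib.Helper18.ClImm.deltaCompat j s.δX')
  have eδP : δP δX f t = fun z => δP δX f s (hP f s t j w₃ z) :=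
    deltaCompat_unique (hP f s t j w₃) _ _ (δP δX f s) (compat_hP f s t j w₃)
      (Groth.Agent.Lib.Helper18.ClImm.deltaCompat (hP f s t j w₃) (δP δX f s))
  have hζmem : Groth.Agent.Lib.Helper18.SubCyc.comapCycle j Γ ∈
      Cyc.Zk t.X' t.δX' (k - 1 - p) := by
    intro z hz
    by_contra hne
    apply hz
    rw [eδ]
    have hne' : Cyc.c1CapFun s.δX' ((Scheme.Modules.pullback s.f').obj L) ⇑β
      (Cyc.gysinChoice ((Scheme.Modules.pullback s.f').obj L) τ w') (j z) ≠ 0 := hne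
    refine Groth.Agent.Lib.Helper18.KF21.c1Cap_mem_Zk s.δX' (k - 1 - p) _ ?_ _ (j z) hne'
    intro η hη
    by_contra hne2
    exact hη (hβ η (by intro h; apply hne2; rw [h]; ring))
  refine ⟨Groth.Agent.Lib.Helper18.SubCyc.comapCycle j Γ, hζmem, fun e => rfl, ?_⟩
  rw [op_cl hX hY f hδf c t (k - 1) γ hγ ζ₀ hζ₀ e3]
  symm
  apply Groth.Agent.Lib.Helper18.FF11.cl_eq_of_ratEquiv
  have hβ₀' : β₀ ∈ Cyc.Zk (XP f s) (δP δX f s) (k - 1 - p + 1) := by
    have e : k - 1 - p + 1 = k - p := by ring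
    rw [e]
    exact hβ₀
  have hfs := compat_f' f hδf s (fP f s) (gP f s) (hpb f s) _ (compatP f s)
  have key := Groth.Agent.Lib.Helper18.GP1.gysin_push s.δX' (δP δX f s) hXs hXPs (fP f s) hfs
    ((Scheme.Modules.pullback s.f').obj L) hN τ j hτ (hP f s t j w₃) (fP f t) hsq A hA
    (k - 1 - p) β₀ hβ₀' w' hw' w₁' hw₁'
    (Groth.Agent.Lib.Helper18.SubCyc.comapCycle j Γ) (fun d => rfl) ζ₀ (by
      intro z
      rw [hζ₀c z]
      have h1 : Cyc.gysinChoice ((Scheme.Modules.pullback (fP f s ≫ s.f')).obj L) (e.hom.app ⊤ A)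
          (fun ξ => Groth.Agent.Lib.Helper18.BV2.fibreMap e ξ (w₁' ξ)) =
          fun ξ => Groth.Agent.Lib.Helper18.BV2.fibreMap e ξ
            (Cyc.gysinChoice _ A w₁' ξ) :=
        funext (Groth.Agent.Lib.Helper18.GP2.gysinChoice_iso e A w₁')
      rw [h1]
      exact congrFun (Groth.Agent.Lib.Helper18.BV2.c1CapFun_iso e (δP δX f s) hXPs hM hM' ⇑β₀
        (Cyc.gysinChoice _ A w₁')
        (Groth.Agent.Lib.Helper18.KF17.gysinChoice_ne_zero A w₁' hw₁')) _)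
  rw [eδ, eδP]
  exact key

/-- the class `f_* ∘ c` -/
noncomputable def pushCl : Bivar.Cl p g δY δZ where
  op s k := op hX hY f hδf c s k
  push s t h _ h' _ w₁ w₂ w₃ k := push_ok hX hY f hδf c s t h h' w₁ w₂ w₃ k
  pull s t h _ h' _ r hr hr' w₁ w₂ w₃ k := pull_ok hX hY f hδf c s t h h' r hr hr' w₁ w₂ w₃ k
  gysin s t i _ j _ w₁ w₂ w₃ L hL σ hσ τ hτ k :=
    gysin_ok hX hY f hδf c s t i j w₁ w₂ w₃ L hL σ hσ τ hτ k

theorem pushCl_isProperPushClass :
    Bivar.IsProperPushClass f g c (pushCl hX hY f hδf c) := by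
  refine ⟨inferInstance, hδf, ?_⟩
  intro s X' f' _ gX hp δX' hX' k α hα β hβ e
  exact op_eq hX hY f hδf c s f' gX hp δX' hX' k α hα β hβ e

end Groth.Agent.Lib.Helper18.PPC5
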