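import Mathlib
import Groth.Agent.Lib.Helper12.Pure

/-!
# Universally injective maps: reduction to finitely presented modules and the matrix criterion
-/

set_option autoImplicit false
universe u

open TensorProduct

namespace Groth.Agent.Lib.Helper18

open Groth.Agent.Lib.Helper12

variable {R : Type u} [CommRing R]

/-- the map `R^k → R^K` given by a matrix -/
noncomputable def matMap {K k : ℕ} (c : Fin K → Fin k → R) : (Fin k → R) →ₗ[R] (Fin K → R) :=
  LinearMap.pi (fun i => ∑ j, c i j • LinearMap.proj j)

lemma matMap_apply {K k : ℕ} (c : Fin K → Fin k → R) (v : Fin k → R) (i : Fin K) :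
    matMap c v i = ∑ j, c i j * v j := by
  simp [matMap]

lemma piScalarRight_lTensor_matMap {K k : ℕ} (c : Fin K → Fin k → R)
    (M : Type u) [AddCommGroup M] [Module R M] (w : M ⊗[R] (Fin k → R)) (i : Fin K) :
    TensorProduct.piScalarRight R R M (Fin K) ((matMap c).lTensor M w) i =
      ∑ j, c i j • TensorProduct.piScalarRight R R M (Fin k) w j := by
  induction w using TensorProduct.induction_on with
  | zero => simp
  | tmul m v =>
    simp only [LinearMap.lTensor_tmul, piScalarRight_apply, piScalarRightHom_tmul, matMap_apply]
    rw [Finset.sum_smul]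
    refine Finset.sum_congr rfl fun j _ => ?_
    rw [mul_smul]
  | add x y hx hy => simp only [map_add, Pi.add_apply, hx, hy, smul_add, Finset.sum_add_distrib]

lemma piScalarRight_rTensor {M N : Type u} [AddCommGroup M] [Module R M] [AddCommGroup N]
    [Module R N] (f : M →ₗ[R] N) {K : ℕ} (w : M ⊗[R] (Fin K → R)) (i : Fin K) :
    TensorProduct.piScalarRight R R N (Fin K) (f.rTensor (Fin K → R) w) i =
      f (TensorProduct.piScalarRight R R M (Fin K) w i) := by
  induction w using TensorProduct.induction_on with
  | zero => simp
  | tmul m v => simp [piScalarRight_apply, piScalarRightHom_tmul]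
  | add x y hx hy => simp only [map_add, Pi.add_apply, hx, hy]

/-- If `f ⊗ Q` is injective for all finitely presented `Q`, then `f` is matrix-pure. -/
theorem matrixPure_of_finitePresentation {M N : Type u} [AddCommGroup M] [Module R M]
    [AddCommGroup N] [Module R N] (f : M →ₗ[R] N)
    (h : ∀ (Q : Type u) [AddCommGroup Q] [Module R Q], Module.FinitePresentation R Q →
        Function.Injective (f.rTensor Q)) :
    MatrixPure f := by
  intro K k c a y hy
  let cR : (Fin k → R) →ₗ[R] (Fin K → R) := matMap c
  let π := (LinearMap.range cR).mkQ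
  have hex : Function.Exact cR π := LinearMap.exact_map_mkQ_range cR
  have hπ : Function.Surjective π := Submodule.mkQ_surjective _
  have hQ : Module.FinitePresentation R ((Fin K → R) ⧸ LinearMap.range cR) := by
    apply Module.finitePresentation_of_surjective π hπ
    rw [Submodule.ker_mkQ, LinearMap.range_eq_map]
    exact Submodule.FG.map _ (Module.Finite.fg_top)
  have hexM : Function.Exact (cR.lTensor M) (π.lTensor M) := lTensor_exact M hex hπ
  let xM : M ⊗[R] (Fin K → R) := (TensorProduct.piScalarRight R R M (Fin K)).symm a
  let yN : N ⊗[R] (Fin k → R) := (TensorProduct.piScalarRight R R N (Fin k)).symm y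
  have h1 : f.rTensor (Fin K → R) xM = cR.lTensor N yN := by
    apply (TensorProduct.piScalarRight R R N (Fin K)).injective
    ext i
    rw [piScalarRight_rTensor, piScalarRight_lTensor_matMap]
    simp only [xM, yN, LinearEquiv.apply_symm_apply]
    exact hy i
  have h2 : f.rTensor _ (π.lTensor M xM) = 0 := by
    have e1 : f.rTensor _ (π.lTensor M xM) = π.lTensor N (f.rTensor _ xM) := by
      rw [← LinearMap.comp_apply, ← LinearMap.comp_apply, LinearMap.rTensor_comp_lTensor,
        LinearMap.lTensor_comp_rTensor]
    rw [e1, h1, ← LinearMap.comp_apply, ← LinearMap.lTensor_comp]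
    have : π ∘ₗ cR = 0 := LinearMap.ext fun v => hex.apply_apply_eq_zero v
    rw [this, LinearMap.lTensor_zero, LinearMap.zero_apply]
  have h3 : π.lTensor M xM = 0 := by
    apply h _ hQ
    rw [h2, map_zero]
  obtain ⟨w, hw⟩ := (hexM xM).1 h3
  refine ⟨fun j => TensorProduct.piScalarRight R R M (Fin k) w j, fun i => ?_⟩
  rw [← piScalarRight_lTensor_matMap, hw]
  simp [xM]

/-- matrix-pure maps are universally injective (`rTensor` form) -/
theorem rTensor_injective_of_matrixPure {M N : Type u} [AddCommGroup M] [Module R M]
    [AddCommGroup N] [Module R N] {f : M →ₗ[R] N} (hf : MatrixPure f)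
    (Q : Type u) [AddCommGroup Q] [Module R Q] : Function.Injective (f.rTensor Q) := by
  have h := lTensor_injective_of_matrixPure hf Q
  have : f.rTensor Q = (TensorProduct.comm R Q N).toLinearMap ∘ₗ f.lTensor Q ∘ₗ
      (TensorProduct.comm R M Q).toLinearMap := by
    ext m q
    simp
  rw [this]
  exact (TensorProduct.comm R Q N).injective.comp (h.comp (TensorProduct.comm R M Q).injective)

end Groth.Agent.Lib.Helper18
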