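import Mathlib

/-!
# Closure of the image of a closed set under a quasi-compact morphism consists of specializations
(Stacks 01K9-type)
-/

set_option autoImplicit false

namespace Groth.Agent.Lib.Helper18.QCSp

open AlgebraicGeometry CategoryTheory TopologicalSpace

universe u

/-- ring level -/
theorem exists_specializes_of_mem_closure_image_comap {R S : Type*} [CommRing R] [CommRing S]
    (φ : R →+* S) (Z : Set (PrimeSpectrum S)) (hZ : IsClosed Z) (p : PrimeSpectrum R)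
    (hp : p ∈ closure (PrimeSpectrum.comap φ '' Z)) :
    ∃ q ∈ Z, PrimeSpectrum.comap φ q ⤳ p := by
  obtain ⟨I, rfl⟩ := (PrimeSpectrum.isClosed_iff_zeroLocus_ideal Z).mp hZ
  rw [PrimeSpectrum.closure_image_comap_zeroLocus] at hp
  obtain ⟨q, hqI, hq, hqle⟩ := p.asIdeal.exists_ideal_comap_le_prime I hp
  exact ⟨⟨q, hq⟩, hqI, (PrimeSpectrum.le_iff_specializes ⟨q.comap φ, inferInstance⟩ p).mp hqle⟩

/-- affine schemes `Spec` -/
theorem exists_specializes_of_mem_closure_image_Spec {R S : CommRingCat.{u}}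
    (k : Spec S ⟶ Spec R) (Z : Set (Spec S)) (hZ : IsClosed Z) (p : Spec R)
    (hp : p ∈ closure (k '' Z)) : ∃ q ∈ Z, k q ⤳ p := by
  obtain ⟨φ, rfl⟩ := Spec.map_surjective k
  exact exists_specializes_of_mem_closure_image_comap φ.hom Z hZ p hp

/-- affine schemes -/
theorem exists_specializes_of_mem_closure_image_of_isAffine {X Y : Scheme.{u}} [IsAffine X]
    [IsAffine Y] (k : X ⟶ Y) (Z : Set X) (hZ : IsClosed Z) (p : Y)
    (hp : p ∈ closure (k '' Z)) : ∃ q ∈ Z, k q ⤳ p := by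
  let eX := X.isoSpec
  let eY := Y.isoSpec
  let k' : Spec Γ(X, ⊤) ⟶ Spec Γ(Y, ⊤) := eX.inv ≫ k ≫ eY.hom
  have hk' : ∀ z, k' z = eY.hom (k (eX.inv z)) := fun z => by
    simp [k']
  have hZ' : IsClosed (eX.inv ⁻¹' Z) := hZ.preimage eX.inv.continuous
  have himg : k' '' (eX.inv ⁻¹' Z) = eY.hom '' (k '' Z) := by
    ext w
    constructor
    · rintro ⟨z, hz, rfl⟩
      exact ⟨k (eX.inv z), ⟨eX.inv z, hz, rfl⟩, (hk' z).symm⟩
    · rintro ⟨_, ⟨x, hx, rfl⟩, rfl⟩
      refine ⟨eX.hom x, ?_, ?_⟩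
      · change eX.inv (eX.hom x) ∈ Z
        simpa using hx
      · rw [hk']
        simp
  have hp' : eY.hom p ∈ closure (k' '' (eX.inv ⁻¹' Z)) := by
    rw [himg]
    exact image_closure_subset_closure_image eY.hom.continuous ⟨p, hp, rfl⟩
  obtain ⟨q, hq, hqs⟩ := exists_specializes_of_mem_closure_image_Spec k' _ hZ' _ hp'
  refine ⟨eX.inv q, hq, ?_⟩
  have := hqs.map eY.inv.continuous
  rw [hk'] at this
  simpa using this

/-- general quasi-compact morphisms -/
theorem exists_specializes_of_mem_closure_image {X Y : Scheme.{u}} (f : X ⟶ Y) [QuasiCompact f]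
    (Z : Set X) (hZ : IsClosed Z) (y : Y) (hy : y ∈ closure (f '' Z)) :
    ∃ x ∈ Z, f x ⤳ y := by
  obtain ⟨V, hV, hyV⟩ : ∃ V : Y.Opens, IsAffineOpen V ∧ y ∈ V := by
    obtain ⟨_, ⟨V, hV, rfl⟩, hyV, -⟩ :=
      Y.isBasis_affineOpens.exists_subset_of_mem_open (Set.mem_univ y) isOpen_univ
    exact ⟨V, hV, hyV⟩
  have hcpt : IsCompact ((f ⁻¹ᵁ V : X.Opens) : Set X) :=
    QuasiCompact.isCompact_preimage (f := f) _ V.isOpen hV.isCompact
  obtain ⟨R', g, hg⟩ := isCompact_iff_exists.mp hcpt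
  have hrange : Set.range (g ≫ f) ⊆ Set.range V.ι := by
    rintro _ ⟨z, rfl⟩
    rw [Scheme.Opens.range_ι]
    have : g z ∈ Set.range g := ⟨z, rfl⟩
    rw [hg] at this
    simpa using this
  let k : Spec R' ⟶ V.toScheme := IsOpenImmersion.lift V.ι (g ≫ f) hrange
  have hk : ∀ z, V.ι (k z) = f (g z) := fun z => by
    rw [← Scheme.Hom.comp_apply, ← Scheme.Hom.comp_apply, IsOpenImmersion.lift_fac]
  haveI : IsAffine V.toScheme := hV
  have hZ' : IsClosed (g ⁻¹' Z) := hZ.preimage g.continuous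
  -- the point of `V`
  let y' : V.toScheme := ⟨y, hyV⟩
  have hy' : y' ∈ closure (k '' (g ⁻¹' Z)) := by
    have hind : Topology.IsInducing V.ι := V.ι.isOpenEmbedding.isInducing
    rw [hind.closure_eq_preimage_closure_image]
    refine Set.mem_preimage.mpr ?_
    have hιy : V.ι y' = y := rfl
    rw [hιy]
    have hsub : (V : Set Y) ∩ (f '' Z) ⊆ V.ι '' (k '' (g ⁻¹' Z)) := by
      rintro _ ⟨hxV, x, hxZ, rfl⟩
      have hx : x ∈ Set.range g := by rw [hg]; exact hxV
      obtain ⟨z, rfl⟩ := hx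
      exact ⟨k z, ⟨z, hxZ, rfl⟩, hk z⟩
    exact closure_mono hsub (V.isOpen.inter_closure ⟨hyV, hy⟩)
  obtain ⟨q, hq, hqs⟩ := exists_specializes_of_mem_closure_image_of_isAffine k _ hZ' y' hy'
  refine ⟨g q, hq, ?_⟩
  have := hqs.map V.ι.continuous
  rw [hk] at this
  exact this

end Groth.Agent.Lib.Helper18.QCSp
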