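import Mathlib
import Groth.Agent.Lib.Helper18.QRF1
import Groth.Agent.Lib.Helper9.QRBC2
import Groth.Agent.Lib27.FibInj.RegSeq3
import Groth.Agent.S5803

/-!
# Flatness of a quotient by a sequence which is quasi-regular modulo a locally nilpotent ideal
-/

set_option autoImplicit false
set_option linter.style.haveILetI false

universe u

namespace Groth.Agent.Lib.Helper18.QRF

open CAlgX TensorProduct

section Fibre

variable {A' : Type u} (B' : Type u) [CommRing A'] [CommRing B'] [Algebra A' B'] (I : Ideal A')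
  (κ : Type u) [Field κ] [Algebra A' κ] [Algebra (A' ⧸ I) κ] [IsScalarTower A' (A' ⧸ I) κ]

/-- The fibre ring computed over `A'/I` agrees with the one over `A'`. -/
theorem exists_fibreEquiv :
    ∃ e : TensorProduct (A' ⧸ I) κ (B' ⧸ I.map (algebraMap A' B')) ≃+* TensorProduct A' B' κ,
      ∀ b : B', e ((1 : κ) ⊗ₜ[A' ⧸ I] (Ideal.Quotient.mk (I.map (algebraMap A' B')) b)) =
        b ⊗ₜ[A'] (1 : κ) := by
  haveI : TensorProduct.CompatibleSMul A' (A' ⧸ I) κ (B' ⧸ I.map (algebraMap A' B')) :=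
    TensorProduct.CompatibleSMul.of_algebraMap_surjective _ _ Ideal.Quotient.mk_surjective
  let e1 := Algebra.TensorProduct.equivOfCompatibleSMul A' (A' ⧸ I) κ κ
    (B' ⧸ I.map (algebraMap A' B'))
  let e2 := Algebra.TensorProduct.tensorQuotientEquiv (R := A') κ B' κ (I.map (algebraMap A' B'))
  have h0 : (I.map (algebraMap A' B')).map
      (Algebra.TensorProduct.includeRight (R := A') (A := κ) (B := B')) = ⊥ := by
    rw [Ideal.map_eq_bot_iff_le_ker, Ideal.map_le_iff_le_comap]
    intro x hx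
    rw [Ideal.mem_comap, RingHom.mem_ker]
    have h1 : algebraMap A' κ x = 0 := by
      rw [IsScalarTower.algebraMap_apply A' (A' ⧸ I) κ]
      have : algebraMap A' (A' ⧸ I) x = 0 := Ideal.Quotient.eq_zero_iff_mem.mpr hx
      rw [this, map_zero]
    change (Algebra.TensorProduct.includeRight (R := A') (A := κ) (B := B'))
      (algebraMap A' B' x) = 0
    rw [AlgHom.commutes, Algebra.TensorProduct.algebraMap_apply, h1, TensorProduct.zero_tmul]
  let e3 := (Ideal.quotEquivOfEq h0).trans (RingEquiv.quotientBot _)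
  let e4 := (Algebra.TensorProduct.comm A' κ B')
  refine ⟨e1.toRingEquiv.trans (e2.toRingEquiv.trans (e3.trans e4.toRingEquiv)), fun b => ?_⟩
  simp only [RingEquiv.trans_apply, AlgEquiv.coe_ringEquiv]
  have s1 : e1 ((1 : κ) ⊗ₜ[A' ⧸ I] (Ideal.Quotient.mk (I.map (algebraMap A' B')) b)) =
      (1 : κ) ⊗ₜ[A'] (Ideal.Quotient.mk (I.map (algebraMap A' B')) b) := rfl
  have s2 : e2 ((1 : κ) ⊗ₜ[A'] (Ideal.Quotient.mk (I.map (algebraMap A' B')) b)) =
      Ideal.Quotient.mk _ ((1 : κ) ⊗ₜ[A'] b) := rfl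
  have s3 : e3 (Ideal.Quotient.mk _ ((1 : κ) ⊗ₜ[A'] b)) = (1 : κ) ⊗ₜ[A'] b := rfl
  rw [s1, s2, s3]
  exact Algebra.TensorProduct.comm_tmul A' (1 : κ) b

end Fibre

section Main

variable (A' B' : Type u) [CommRing A'] [CommRing B'] [Algebra A' B'] [Module.Flat A' B']
  [Algebra.FinitePresentation A' B']
  (I : Ideal A') (hI : ∀ x ∈ I, IsNilpotent x) (r : ℕ) (f' : Fin r → B')
  (hq : CAlgX.IsQuasiRegular
    (fun i => Ideal.Quotient.mk (Ideal.map (algebraMap A' B') I) (f' i)))
  (hflat : Module.Flat (A' ⧸ I)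
    ((B' ⧸ Ideal.map (algebraMap A' B') I) ⧸
      Ideal.span (Set.range (fun i => Ideal.Quotient.mk (Ideal.map (algebraMap A' B') I) (f' i)))))

include hI hq hflat in
/-- the fibre sequence is weakly regular after localizing at a prime containing the `f'`. -/
theorem isWeaklyRegular_fibre (q' : Ideal B') [q'.IsPrime] (hJ : ∀ i, f' i ∈ q') :
    RingTheory.Sequence.IsWeaklyRegular
      (LocalizedModule q'.primeCompl (B' ⊗[A'] (q'.comap (algebraMap A' B')).ResidueField))
      (List.ofFn f') := by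
  set p' : Ideal A' := q'.comap (algebraMap A' B') with hp'
  have hIp : I ≤ p' := by
    intro x hx
    obtain ⟨n, hn⟩ := hI x hx
    exact Ideal.IsPrime.mem_of_pow_mem inferInstance n (by rw [hn]; exact zero_mem _)
  letI algκ : Algebra (A' ⧸ I) p'.ResidueField :=
    (Ideal.Quotient.lift I (algebraMap A' p'.ResidueField)
      (fun a ha => Ideal.algebraMap_residueField_eq_zero.mpr (hIp ha))).toAlgebra
  haveI : IsScalarTower A' (A' ⧸ I) p'.ResidueField :=
    IsScalarTower.of_algebraMap_eq (fun a => rfl)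
  have hqr := Groth.Agent.Lib.Helper9.QRBC.main (A' ⧸ I) (B' ⧸ Ideal.map (algebraMap A' B') I)
    p'.ResidueField r _ hflat hq
  obtain ⟨e, he⟩ := exists_fibreEquiv B' I p'.ResidueField
  have hqr2 : IsQuasiRegular (fun i => (f' i ⊗ₜ[A'] (1 : p'.ResidueField) :
      B' ⊗[A'] p'.ResidueField)) := by
    have := isQuasiRegular_ringEquiv e _ hqr
    simpa only [he] using this
  -- the fibre ring and its prime over `q'`
  set κ := p'.ResidueField with hκ
  set F := B' ⊗[A'] κ with hF
  let φ : F →ₐ[B'] q'.ResidueField :=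
    Algebra.TensorProduct.lift (Algebra.ofId B' q'.ResidueField)
      (Ideal.ResidueField.mapₐ p' q' (Algebra.ofId A' B') rfl) (fun _ _ => Commute.all _ _)
  have hφ : ∀ b : B', φ (b ⊗ₜ[A'] (1 : κ)) = algebraMap B' q'.ResidueField b := by
    intro b
    change (Algebra.TensorProduct.lift _ _ _) (b ⊗ₜ[A'] (1 : κ)) = _
    rw [Algebra.TensorProduct.lift_tmul, map_one, mul_one, Algebra.ofId_apply]
  set 𝔔 : Ideal F := RingHom.ker φ.toRingHom with h𝔔
  haveI h𝔔p : 𝔔.IsPrime := RingHom.ker_isPrime φ.toRingHom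
  have hmem𝔔 : ∀ b : B', (b ⊗ₜ[A'] (1 : κ) : F) ∈ 𝔔 ↔ b ∈ q' := by
    intro b
    rw [h𝔔, RingHom.mem_ker]
    change φ (b ⊗ₜ[A'] (1 : κ)) = 0 ↔ _
    rw [hφ, Ideal.algebraMap_residueField_eq_zero]
  have halg : ∀ b : B', algebraMap B' F b = b ⊗ₜ[A'] (1 : κ) := by
    intro b
    rw [Algebra.TensorProduct.algebraMap_apply]; rfl
  set M : Submonoid F := Algebra.algebraMapSubmonoid F q'.primeCompl with hM
  have hM𝔔 : M ≤ 𝔔.primeCompl := by
    rintro x ⟨b, hb, rfl⟩
    change algebraMap B' F b ∉ 𝔔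
    rw [halg, hmem𝔔]
    exact hb
  set Λ := Localization M with hΛ
  have hunit : ∀ x ∈ 𝔔.primeCompl, IsUnit (algebraMap F Λ x) := by
    intro x hx
    obtain ⟨a, ha, b, hab⟩ := Ideal.ResidueField.exists_smul_eq_tmul_one p' x
    have hb : b ∉ q' := by
      intro hbq
      have h1 : a • x ∈ 𝔔 := by rw [hab]; exact (hmem𝔔 b).mpr hbq
      rw [Algebra.smul_def] at h1
      rcases h𝔔p.mem_or_mem h1 with h2 | h2
      · rw [IsScalarTower.algebraMap_apply A' B' F, halg, hmem𝔔] at h2
        exact ha h2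
      · exact hx h2
    have hu : IsUnit (algebraMap F Λ (b ⊗ₜ[A'] (1 : κ))) := by
      have hbM : (b ⊗ₜ[A'] (1 : κ) : F) ∈ M := ⟨b, hb, halg b⟩
      exact IsLocalization.map_units Λ (⟨_, hbM⟩ : M)
    rw [← hab, Algebra.smul_def, map_mul] at hu
    exact isUnit_of_mul_isUnit_right hu
  haveI hAt : IsLocalization.AtPrime Λ 𝔔 := IsLocalization.of_le M _ hM𝔔 hunit
  haveI : IsLocalRing Λ := IsLocalization.AtPrime.isLocalRing Λ 𝔔
  haveI : IsNoetherianRing F := by
    haveI : IsNoetherianRing (κ ⊗[A'] B') := Algebra.FiniteType.isNoetherianRing κ (κ ⊗[A'] B')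
    exact isNoetherianRing_of_ringEquiv _ (Algebra.TensorProduct.comm A' κ B').toRingEquiv
  haveI : IsNoetherianRing Λ := IsLocalization.isNoetherianRing M Λ inferInstance
  have hqr3 : IsQuasiRegular (fun i => algebraMap F Λ (f' i ⊗ₜ[A'] (1 : κ))) :=
    isQuasiRegular_localization M _ hqr2
  have hjac : ∀ i, algebraMap F Λ (f' i ⊗ₜ[A'] (1 : κ)) ∈ Ring.jacobson Λ := by
    intro i
    rw [← Ideal.jacobson_bot, IsLocalRing.jacobson_eq_maximalIdeal ⊥ bot_ne_top,
      IsLocalization.AtPrime.to_map_mem_maximal_iff Λ 𝔔]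
    exact (hmem𝔔 _).mpr (hJ i)
  have hwr := Groth.Agent.S5803.result Λ r _ hjac hqr3
  have hlist : List.ofFn (fun i => algebraMap F Λ (f' i ⊗ₜ[A'] (1 : κ))) =
      (List.ofFn f').map (algebraMap B' Λ) := by
    rw [List.map_ofFn]
    congr 1
  rw [hlist, RingTheory.Sequence.isWeaklyRegular_map_algebraMap_iff] at hwr
  haveI : IsLocalizedModule q'.primeCompl (IsScalarTower.toAlgHom B' F Λ).toLinearMap :=
    isLocalizedModule_iff_isLocalization.mpr inferInstance
  let ε := IsLocalizedModule.iso q'.primeCompl (IsScalarTower.toAlgHom B' F Λ).toLinearMap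
  exact (ε.isWeaklyRegular_congr _).mpr hwr

include hI hq hflat in
theorem flat_localizedModule_quot (q' : Ideal B') [q'.IsPrime] :
    Module.Flat A' (LocalizedModule q'.primeCompl (B' ⧸ Ideal.span (Set.range f'))) := by
  by_cases hJ : ∀ i, f' i ∈ q'
  swap
  · push_neg at hJ
    obtain ⟨i, hi⟩ := hJ
    haveI : Subsingleton (LocalizedModule q'.primeCompl (B' ⧸ Ideal.span (Set.range f'))) := by
      rw [LocalizedModule.subsingleton_iff]
      intro m
      refine ⟨f' i, hi, ?_⟩
      obtain ⟨b, rfl⟩ := Ideal.Quotient.mk_surjective m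
      rw [Algebra.smul_def, Ideal.Quotient.algebraMap_eq, ← map_mul,
        Ideal.Quotient.eq_zero_iff_mem]
      exact Ideal.mul_mem_right _ _ (Ideal.subset_span ⟨i, rfl⟩)
    infer_instance
  · have hwr := isWeaklyRegular_fibre A' B' I hI r f' hq hflat q' hJ
    have hflatB : Module.Flat A' (LocalizedModule q'.primeCompl B') := by
      have h : Module.Flat A' (Localization q'.primeCompl) := inferInstance
      exact h
    obtain ⟨-, h2⟩ := Groth.Agent.Lib27.FibInj.weaklyRegular_and_flat q' (List.ofFn f') B' hflatB hwr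
    have h3 := h2 r (by simp)
    have heq : (Ideal.ofList ((List.ofFn f').take r) • (⊤ : Submodule B' B')) =
        Ideal.span (Set.range f') := by
      rw [List.take_of_length_le (by simp), smul_eq_mul, Ideal.mul_top]
      unfold Ideal.ofList
      congr 1
      ext x
      simp [List.mem_ofFn]
    exact Groth.Agent.Lib27.FibInj.flat_loc_of_equiv q' (Submodule.quotEquivOfEq _ _ heq.symm) h3

include hI hq hflat in
/-- **Stacks 0D4A-type.** -/
theorem flat_quot_of_quasiRegular_mod_locallyNilpotent :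
    Module.Flat A' (B' ⧸ Ideal.span (Set.range f')) := by
  refine Module.flat_of_isLocalized_maximal B' _ (fun P _ => LocalizedModule P.primeCompl _)
    (fun P _ => LocalizedModule.mkLinearMap P.primeCompl _) (fun q' hq' => ?_)
  haveI : q'.IsPrime := hq'.isPrime
  exact flat_localizedModule_quot A' B' I hI r f' hq hflat q'

end Main

end Groth.Agent.Lib.Helper18.QRF
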