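import Mathlib
import Groth.Agent.Lib.Helper18.QRF2

/-!
# Smoothness of a quotient by a sequence which is quasi-regular modulo a locally nilpotent ideal
-/

set_option autoImplicit false
set_option linter.style.haveILetI false

universe u

namespace Groth.Agent.Lib.Helper18.QRF

open CAlgX TensorProduct

section Fibre

variable {A' : Type u} (B' : Type u) [CommRing A'] [CommRing B'] [Algebra A' B'] (I : Ideal A')
  (κ : Type u) [CommRing κ] [Algebra A' κ] [Algebra (A' ⧸ I) κ] [IsScalarTower A' (A' ⧸ I) κ]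

/-- The fibre ring computed over `A'/I` agrees with the one over `A'` (as `κ`-algebras). -/
theorem exists_fibreAlgEquiv :
    ∃ e : TensorProduct (A' ⧸ I) κ (B' ⧸ I.map (algebraMap A' B')) ≃ₐ[κ] TensorProduct A' κ B',
      ∀ b : B', e ((1 : κ) ⊗ₜ[A' ⧸ I] (Ideal.Quotient.mk (I.map (algebraMap A' B')) b)) =
        (1 : κ) ⊗ₜ[A'] b := by
  haveI : TensorProduct.CompatibleSMul A' (A' ⧸ I) κ (B' ⧸ I.map (algebraMap A' B')) :=
    TensorProduct.CompatibleSMul.of_algebraMap_surjective _ _ Ideal.Quotient.mk_surjective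
  let e1 := Algebra.TensorProduct.equivOfCompatibleSMul A' (A' ⧸ I) κ κ
    (B' ⧸ I.map (algebraMap A' B'))
  let e2 := Algebra.TensorProduct.tensorQuotientEquiv (R := A') κ B' κ (I.map (algebraMap A' B'))
  have h0 : (I.map (algebraMap A' B')).map
      (Algebra.TensorProduct.includeRight (R := A') (A := κ) (B := B')) = ⊥ := by
    rw [Ideal.map_eq_bot_iff_le_ker, Ideal.map_le_iff_le_comap]
    intro x hx
    rw [Ideal.mem_comap, RingHom.mem_ker]
    have h1 : algebraMap A' κ x = 0 := by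
      rw [IsScalarTower.algebraMap_apply A' (A' ⧸ I) κ]
      have : algebraMap A' (A' ⧸ I) x = 0 := Ideal.Quotient.eq_zero_iff_mem.mpr hx
      rw [this, map_zero]
    change (Algebra.TensorProduct.includeRight (R := A') (A := κ) (B := B'))
      (algebraMap A' B' x) = 0
    rw [AlgHom.commutes, Algebra.TensorProduct.algebraMap_apply, h1, TensorProduct.zero_tmul]
  let e3 := (Ideal.quotientEquivAlgOfEq κ h0).trans (AlgEquiv.quotientBot κ _)
  refine ⟨e1.trans (e2.trans e3), fun b => ?_⟩
  simp only [AlgEquiv.trans_apply]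
  have s1 : e1 ((1 : κ) ⊗ₜ[A' ⧸ I] (Ideal.Quotient.mk (I.map (algebraMap A' B')) b)) =
      (1 : κ) ⊗ₜ[A'] (Ideal.Quotient.mk (I.map (algebraMap A' B')) b) := rfl
  have s2 : e2 ((1 : κ) ⊗ₜ[A'] (Ideal.Quotient.mk (I.map (algebraMap A' B')) b)) =
      Ideal.Quotient.mk _ ((1 : κ) ⊗ₜ[A'] b) := rfl
  have s3 : e3 (Ideal.Quotient.mk _ ((1 : κ) ⊗ₜ[A'] b)) = (1 : κ) ⊗ₜ[A'] b := rfl
  rw [s1, s2, s3]

/-- The fibre of the double quotient. -/
theorem nonempty_fibreAlgEquiv_quot {r : ℕ} (f' : Fin r → B') :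
    Nonempty (TensorProduct (A' ⧸ I) κ ((B' ⧸ I.map (algebraMap A' B')) ⧸
        Ideal.span (Set.range (fun i => Ideal.Quotient.mk (I.map (algebraMap A' B')) (f' i))))
      ≃ₐ[κ] TensorProduct A' κ (B' ⧸ Ideal.span (Set.range f'))) := by
  obtain ⟨e, he⟩ := exists_fibreAlgEquiv B' I κ
  let t1 := Algebra.TensorProduct.tensorQuotientEquiv (R := A' ⧸ I) κ
    (B' ⧸ I.map (algebraMap A' B')) κ
    (Ideal.span (Set.range (fun i => Ideal.Quotient.mk (I.map (algebraMap A' B')) (f' i))))
  let t2 := Algebra.TensorProduct.tensorQuotientEquiv (R := A') κ B' κ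
    (Ideal.span (Set.range f'))
  have hIJ : (Ideal.span (Set.range f')).map
      (Algebra.TensorProduct.includeRight (R := A') (A := κ) (B := B')) =
      ((Ideal.span (Set.range (fun i => Ideal.Quotient.mk (I.map (algebraMap A' B')) (f' i)))).map
        (Algebra.TensorProduct.includeRight (R := A' ⧸ I) (A := κ)
          (B := B' ⧸ I.map (algebraMap A' B')))).map (e : _ →+* _) := by
    rw [Ideal.map_span, Ideal.map_span, Ideal.map_span]
    congr 1
    ext x
    simp only [Set.mem_image, Set.mem_range, exists_exists_eq_and]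
    constructor
    · rintro ⟨i, rfl⟩
      exact ⟨i, he (f' i)⟩
    · rintro ⟨i, rfl⟩
      exact ⟨i, (he (f' i)).symm⟩
  exact ⟨t1.trans ((Ideal.quotientEquivAlg _ _ e hIJ).trans t2.symm)⟩

end Fibre

section Main

variable (A' B' : Type u) [CommRing A'] [CommRing B'] [Algebra A' B'] [Module.Flat A' B']
  [Algebra.FinitePresentation A' B']
  (I : Ideal A') (hI : ∀ x ∈ I, IsNilpotent x) (r : ℕ) (f' : Fin r → B')
  (hq : CAlgX.IsQuasiRegular
    (fun i => Ideal.Quotient.mk (Ideal.map (algebraMap A' B') I) (f' i)))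
  (hsm : Algebra.Smooth (A' ⧸ I)
    ((B' ⧸ Ideal.map (algebraMap A' B') I) ⧸
      Ideal.span (Set.range (fun i => Ideal.Quotient.mk (Ideal.map (algebraMap A' B') I) (f' i)))))

include hI hq hsm in
theorem smooth_quot_of_quasiRegular_mod_locallyNilpotent :
    Algebra.Smooth A' (B' ⧸ Ideal.span (Set.range f')) := by
  haveI := hsm
  haveI hflat' : Module.Flat A' (B' ⧸ Ideal.span (Set.range f')) :=
    flat_quot_of_quasiRegular_mod_locallyNilpotent A' B' I hI r f' hq (Algebra.Smooth.flat _ _)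
  haveI : Algebra.FinitePresentation A' (B' ⧸ Ideal.span (Set.range f')) :=
    Algebra.FinitePresentation.quotient (Submodule.fg_span (Set.finite_range f'))
  refine Algebra.Smooth.of_formallySmooth_fiber (fun p hp => ?_)
  have hIp : I ≤ p := by
    intro x hx
    obtain ⟨n, hn⟩ := hI x hx
    exact Ideal.IsPrime.mem_of_pow_mem hp n (by rw [hn]; exact zero_mem _)
  letI algκ : Algebra (A' ⧸ I) p.ResidueField :=
    (Ideal.Quotient.lift I (algebraMap A' p.ResidueField)
      (fun a ha => Ideal.algebraMap_residueField_eq_zero.mpr (hIp ha))).toAlgebra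
  haveI : IsScalarTower A' (A' ⧸ I) p.ResidueField :=
    IsScalarTower.of_algebraMap_eq (fun a => rfl)
  obtain ⟨Θ⟩ := nonempty_fibreAlgEquiv_quot B' I p.ResidueField f'
  have key : ∀ (X : Type u) [CommRing X] [Algebra p.ResidueField X]
      [Algebra.FormallySmooth p.ResidueField X]
      (_ : X ≃ₐ[p.ResidueField] p.Fiber (B' ⧸ Ideal.span (Set.range f'))),
      Algebra.FormallySmooth p.ResidueField (p.Fiber (B' ⧸ Ideal.span (Set.range f'))) :=
    fun X _ _ _ e => Algebra.FormallySmooth.of_equiv e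
  exact key (p.ResidueField ⊗[A' ⧸ I] ((B' ⧸ Ideal.map (algebraMap A' B') I) ⧸
      Ideal.span (Set.range fun i => (Ideal.Quotient.mk (Ideal.map (algebraMap A' B') I)) (f' i)))) Θ

end Main

end Groth.Agent.Lib.Helper18.QRF
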