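import Mathlib

/-!
# The quadric `G₂ z² + 2 G₃ z + G₄` near the origin (helper18)
-/

set_option autoImplicit false

universe u

namespace Groth.Agent.Lib.Helper18.QuadricNode

open MvPolynomial

variable {K : Type u} [Field K]

theorem mem_span_X_iff {σ : Type*} (G : MvPolynomial σ K) :
    G ∈ Ideal.span (Set.range (X : σ → MvPolynomial σ K)) ↔ constantCoeff G = 0 := by
  have := MvPolynomial.mem_pow_idealOfVars_iff' (σ := σ) (R := K) 1 G
  rw [pow_one] at this
  rw [this]
  constructor
  · intro h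
    exact h 0 (by simp)
  · intro h x hx
    have hx0 : x = 0 := by
      have : x.degree = 0 := by omega
      exact (Finsupp.degree_eq_zero_iff x).1 this
    subst hx0
    exact h

theorem sub_C_mem {σ : Type*} (G : MvPolynomial σ K) :
    G - C (constantCoeff G) ∈ Ideal.span (Set.range (X : σ → MvPolynomial σ K)) := by
  rw [mem_span_X_iff]
  simp

theorem quadric_mem_sq_iff (h2 : (2 : K) ≠ 0) (G₂ G₃ G₄ : MvPolynomial (Fin 2) K) :
    (rename (Fin.castSucc : Fin 2 → Fin 3) G₂ * X (2 : Fin 3) ^ 2
        + 2 * rename (Fin.castSucc : Fin 2 → Fin 3) G₃ * X (2 : Fin 3)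
        + rename (Fin.castSucc : Fin 2 → Fin 3) G₄
        ∈ (Ideal.span (Set.range (X : Fin 3 → MvPolynomial (Fin 3) K))) ^ 2) ↔
      (G₄ ∈ (Ideal.span (Set.range (X : Fin 2 → MvPolynomial (Fin 2) K))) ^ 2 ∧
        G₃ ∈ Ideal.span (Set.range (X : Fin 2 → MvPolynomial (Fin 2) K))) := by
  classical
  set I3 := Ideal.span (Set.range (MvPolynomial.X : Fin 3 → MvPolynomial (Fin 3) K)) with hI3
  set I2 := Ideal.span (Set.range (MvPolynomial.X : Fin 2 → MvPolynomial (Fin 2) K)) with hI2
  set F := MvPolynomial.rename (Fin.castSucc : Fin 2 → Fin 3) G₂ * MvPolynomial.X (2 : Fin 3) ^ 2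
        + 2 * MvPolynomial.rename (Fin.castSucc : Fin 2 → Fin 3) G₃ * MvPolynomial.X (2 : Fin 3)
        + MvPolynomial.rename (Fin.castSucc : Fin 2 → Fin 3) G₄ with hF
  have h2last : (2 : Fin 3) = Fin.last 2 := rfl
  constructor
  · intro h
    -- the substitution z ↦ 0
    let g : Fin 3 → MvPolynomial (Fin 2) K :=
      Fin.lastCases (motive := fun _ => MvPolynomial (Fin 2) K) 0 (fun i => MvPolynomial.X i)
    let ψ : MvPolynomial (Fin 3) K →ₐ[K] MvPolynomial (Fin 2) K := MvPolynomial.aeval g
    have hgc : g ∘ (Fin.castSucc : Fin 2 → Fin 3) = MvPolynomial.X := by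
      funext i
      simp [g]
    have hψren : ∀ G : MvPolynomial (Fin 2) K, ψ (MvPolynomial.rename Fin.castSucc G) = G := by
      intro G
      simp only [ψ, MvPolynomial.aeval_rename, hgc, MvPolynomial.aeval_X_left_apply]
    have hψz : ψ (MvPolynomial.X (2 : Fin 3)) = 0 := by
      simp only [ψ, MvPolynomial.aeval_X, h2last, g, Fin.lastCases_last]
    have hψF : ψ F = G₄ := by
      simp only [hF, map_add, map_mul, map_pow, hψren, hψz]
      simp
    have hψI : I3.map (ψ : MvPolynomial (Fin 3) K →+* MvPolynomial (Fin 2) K) ≤ I2 := by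
      rw [hI3, Ideal.map_span, Ideal.span_le]
      rintro _ ⟨_, ⟨i, rfl⟩, rfl⟩
      induction i using Fin.lastCases with
      | last =>
        simp only [ψ, g, RingHom.coe_coe, MvPolynomial.aeval_X]
        change Fin.lastCases (motive := fun _ => MvPolynomial (Fin 2) K) 0 _ (Fin.last 2) ∈ I2
        rw [Fin.lastCases_last]
        exact zero_mem _
      | cast i =>
        simp only [ψ, g, RingHom.coe_coe, MvPolynomial.aeval_X, Fin.lastCases_castSucc]
        exact Ideal.subset_span ⟨i, rfl⟩
    have hG4 : G₄ ∈ I2 ^ 2 := by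
      rw [← hψF]
      have := Ideal.mem_map_of_mem (ψ : MvPolynomial (Fin 3) K →+* MvPolynomial (Fin 2) K) h
      rw [Ideal.map_pow] at this
      exact Ideal.pow_right_mono hψI 2 this
    -- the substitution x, y ↦ 0, z ↦ X
    let g' : Fin 3 → Polynomial K :=
      Fin.lastCases (motive := fun _ => Polynomial K) Polynomial.X (fun _ => 0)
    let θ : MvPolynomial (Fin 3) K →ₐ[K] Polynomial K := MvPolynomial.aeval g'
    have hg'c : g' ∘ (Fin.castSucc : Fin 2 → Fin 3) = 0 := by
      funext i
      simp [g']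
    have hθren : ∀ G : MvPolynomial (Fin 2) K, θ (MvPolynomial.rename Fin.castSucc G) =
        Polynomial.C (MvPolynomial.constantCoeff G) := by
      intro G
      simp only [θ, MvPolynomial.aeval_rename, hg'c, MvPolynomial.aeval_zero]
      rfl
    have hθz : θ (MvPolynomial.X (2 : Fin 3)) = Polynomial.X := by
      simp only [θ, MvPolynomial.aeval_X, h2last, g', Fin.lastCases_last]
    have hθI : I3.map (θ : MvPolynomial (Fin 3) K →+* Polynomial K) ≤
        Ideal.span {Polynomial.X} := by
      rw [hI3, Ideal.map_span, Ideal.span_le]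
      rintro _ ⟨_, ⟨i, rfl⟩, rfl⟩
      induction i using Fin.lastCases with
      | last =>
        simp only [θ, g', RingHom.coe_coe, MvPolynomial.aeval_X]
        change Fin.lastCases (motive := fun _ => Polynomial K) Polynomial.X _ (Fin.last 2) ∈ _
        rw [Fin.lastCases_last]
        exact Ideal.subset_span rfl
      | cast i => simp [θ, g']
    have hθF : Polynomial.X ^ 2 ∣ θ F := by
      have := Ideal.mem_map_of_mem (θ : MvPolynomial (Fin 3) K →+* Polynomial K) h
      rw [Ideal.map_pow] at this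
      have := Ideal.pow_right_mono hθI 2 this
      rw [Ideal.span_singleton_pow, Ideal.mem_span_singleton] at this
      exact this
    have hb : MvPolynomial.constantCoeff G₃ = 0 := by
      have h1 := (Polynomial.X_pow_dvd_iff.1 hθF) 1 (by norm_num)
      simp only [hF, map_add, map_mul, map_pow, hθren, hθz] at h1
      rw [map_ofNat] at h1
      simp [Polynomial.coeff_C, mul_assoc] at h1
      rcases h1 with h1 | h1
      · exact absurd h1 h2
      · exact h1
    exact ⟨hG4, (mem_span_X_iff G₃).2 hb⟩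
  · rintro ⟨hG4, hG3⟩
    have hren : I2.map (rename (Fin.castSucc : Fin 2 → Fin 3) :
        MvPolynomial (Fin 2) K →ₐ[K] MvPolynomial (Fin 3) K).toRingHom ≤ I3 := by
      rw [hI2, Ideal.map_span, Ideal.span_le]
      rintro _ ⟨_, ⟨i, rfl⟩, rfl⟩
      simp only [AlgHom.toRingHom_eq_coe, RingHom.coe_coe, rename_X]
      exact Ideal.subset_span ⟨_, rfl⟩
    have hz : (X (2 : Fin 3) : MvPolynomial (Fin 3) K) ∈ I3 := Ideal.subset_span ⟨_, rfl⟩
    have h4 : rename (Fin.castSucc : Fin 2 → Fin 3) G₄ ∈ I3 ^ 2 := by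
      have := Ideal.mem_map_of_mem (rename (Fin.castSucc : Fin 2 → Fin 3) :
        MvPolynomial (Fin 2) K →ₐ[K] MvPolynomial (Fin 3) K).toRingHom hG4
      rw [Ideal.map_pow] at this
      exact Ideal.pow_right_mono hren 2 this
    have h3 : rename (Fin.castSucc : Fin 2 → Fin 3) G₃ ∈ I3 :=
      hren (Ideal.mem_map_of_mem _ hG3)
    refine Ideal.add_mem _ (Ideal.add_mem _ (Ideal.mul_mem_left _ _ (Ideal.pow_mem_pow hz 2)) ?_) h4
    rw [mul_assoc, pow_two]
    exact Ideal.mul_mem_left _ _ (Ideal.mul_mem_mul h3 hz)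

end Groth.Agent.Lib.Helper18.QuadricNode
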