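import Mathlib
import Groth.Agent.Lib.Helper17.RFAmp
import Groth.Agent.Lib.Helper17.RFRlim

/-!
# Devissage for the cohomology objects of the total right derived functor `RF`
(abstract version: a class `P` of objects of `B` stable under five-term exact sequences)
-/

set_option autoImplicit false
universe w₁ w₂ v₁ v₂ u₁ u₂

open CategoryTheory Limits Pretriangulated ZeroObject

namespace Groth.Agent.Lib.Helper18.RD1

open Groth.Agent.Lib.Helper17.DerAbs Groth.Agent.Lib.Helper17.DerKInj
  Groth.Agent.Lib.Helper17.RFTri Groth.Agent.Lib.Helper17.RFAmp Groth.Agent.Lib.Helper17.RFRlim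

variable {A : Type u₁} [Category.{v₁} A] [Abelian A] [HasDerivedCategory.{w₁} A]
  {B : Type u₂} [Category.{v₂} B] [Abelian B] [HasDerivedCategory.{w₂} B]
  (F : A ⥤ B) [F.Additive]
  [(Φ F).HasRightDerivedFunctor (HomotopyCategory.quasiIso A (ComplexShape.up ℤ))]
  (hA : HasKInjRes A)

/-- stability of `P` under five-term exact sequences. -/
def FiveStable (P : B → Prop) : Prop :=
  ∀ {A' A₀ M D D' : B} (w : A' ⟶ A₀) (u : A₀ ⟶ M) (δ : M ⟶ D) (v : D ⟶ D')
    (hwu : w ≫ u = 0) (huδ : u ≫ δ = 0) (hδv : δ ≫ v = 0),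
    (ShortComplex.mk w u hwu).Exact → (ShortComplex.mk u δ huδ).Exact →
    (ShortComplex.mk δ v hδv).Exact → P A' → P A₀ → P D → P D' → P M

include hA in
/-- the five-term sequence of a distinguished triangle under `RF`. -/
theorem prop_HRF_of_triangle (P : B → Prop) (hP5 : FiveStable P)
    (T : Triangle (DerivedCategory A)) (hT : T ∈ distTriang (DerivedCategory A)) (i : ℤ)
    (h1 : P ((HRF F (i - 1)).obj T.obj₃)) (h2 : P ((HRF F i).obj T.obj₁))
    (h3 : P ((HRF F i).obj T.obj₃)) (h4 : P ((HRF F (i + 1)).obj T.obj₁)) :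
    P ((HRF F i).obj T.obj₂) := by
  obtain ⟨δ, hδ⟩ := exists_distinguished_RF F hA T hT
  set T' := Triangle.mk ((RF F).map T.mor₁) ((RF F).map T.mor₂) δ with hT'
  have e1 := DerivedCategory.HomologySequence.exact₁ T' hδ (i - 1) i (by omega)
  have e2 := DerivedCategory.HomologySequence.exact₂ T' hδ i
  have e3 := DerivedCategory.HomologySequence.exact₃ T' hδ i (i + 1) rfl
  exact hP5 _ _ _ _ _ _ _ e1 e2 e3 h1 h2 h3 h4

include hA in
/-- **Devissage**: if `P (R^p F G)` for all `G` in a class `S`, and `K` is a bounded complex with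
cohomology objects in `S`, then `P (H^i (RF K))` for all `i`. -/
theorem prop_HRF_of_amp [HasInjectiveResolutions A] (S : A → Prop) (P : B → Prop)
    (hS_iso : ∀ {G G' : A}, (G ≅ G') → S G → S G')
    (hP_zero : ∀ M : B, IsZero M → P M)
    (hP_iso : ∀ {M M' : B}, (M ≅ M') → P M → P M')
    (hP5 : FiveStable P)
    (hS : ∀ G, S G → ∀ p : ℕ, P ((F.rightDerived p).obj G)) (n : ℕ) :
    ∀ (K : CochainComplex A ℤ) (a b : ℤ), b < a + n →
      (∀ i, i < a ∨ b < i → IsZero (K.homology i)) →
      (∀ i, a ≤ i → i ≤ b → S (K.homology i)) →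
      ∀ i, P ((HRF F i).obj (DerivedCategory.Q.obj K)) := by
  induction n with
  | zero =>
    intro K a b hab h0 _ i
    exact hP_zero _ (isZero_HRF_of_acyclic F hA K (fun j => h0 j (by omega)) i)
  | succ n ih =>
    intro K a b hab h0 h1 i
    by_cases hba : b < a
    · exact hP_zero _ (isZero_HRF_of_acyclic F hA K (fun j => h0 j (by omega)) i)
    have hab' : a ≤ b := not_lt.1 hba
    obtain ⟨δ, hT⟩ := Groth.Agent.Lib.Helper17.DerTrunc.exists_truncTriangle K (b - 1) b (by omega)
    -- the truncation below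
    have hL : ∀ i, P ((HRF F i).obj (DerivedCategory.Q.obj (K.truncLE (b - 1)))) := by
      refine ih (K.truncLE (b - 1)) a (b - 1) (by omega) ?_ ?_
      · intro j hj
        by_cases hjb : j ≤ b - 1
        · haveI := K.quasiIsoAt_ιTruncLE (b - 1) j hjb
          exact (h0 j (by omega)).of_iso (asIso (HomologicalComplex.homologyMap (K.ιTruncLE (b - 1)) j))
        · rw [← HomologicalComplex.exactAt_iff_isZero_homology]
          exact CochainComplex.exactAt_of_isLE _ (b - 1) j (by omega)
      · intro j hj1 hj2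
        haveI := K.quasiIsoAt_ιTruncLE (b - 1) j hj2
        exact hS_iso (asIso (HomologicalComplex.homologyMap (K.ιTruncLE (b - 1)) j)).symm
          (h1 j hj1 (by omega))
    -- the top cohomology
    have hR : ∀ i, P ((HRF F i).obj (DerivedCategory.Q.obj (K.truncGE b))) := by
      intro i
      have hge : ∀ j, b ≤ j → (K.homology j ≅ (K.truncGE b).homology j) := fun j hj => by
        haveI := K.quasiIsoAt_πTruncGE b j hj
        exact asIso (HomologicalComplex.homologyMap (K.πTruncGE b) j)
      haveI : (DerivedCategory.Q.obj (K.truncGE b)).IsLE b := by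
        rw [DerivedCategory.isLE_iff]
        intro j hj
        exact ((h0 j (Or.inr hj)).of_iso (hge j hj.le).symm).of_iso
          ((DerivedCategory.homologyFunctorFactors A j).app _)
      obtain ⟨Y, ⟨eY⟩⟩ := DerivedCategory.exists_iso_singleFunctor_obj_of_isGE_of_isLE
        (DerivedCategory.Q.obj (K.truncGE b)) b
      have eY' : K.homology b ≅ Y :=
        hge b le_rfl ≪≫ ((DerivedCategory.homologyFunctorFactors A b).app _).symm ≪≫
          (DerivedCategory.homologyFunctor A b).mapIso eY ≪≫
          (DerivedCategory.singleFunctorCompHomologyFunctorIso A b).app Y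
      have hY : S Y := hS_iso eY' (h1 b hab' le_rfl)
      refine hP_iso ((HRF F i).mapIso eY).symm ?_
      by_cases hi : i < b
      · exact hP_zero _ (isZero_HRF_single_of_lt F hA Y b i hi)
      · obtain ⟨p, hp⟩ := Int.eq_ofNat_of_zero_le (show 0 ≤ i - b by omega)
        obtain rfl : i = b + p := by omega
        exact hP_iso (HRFSingleIso F hA Y b p).symm (hS Y hY p)
    exact prop_HRF_of_triangle F hA P hP5 _ hT i (hR (i - 1)) (hL i) (hR i) (hL (i + 1))

end Groth.Agent.Lib.Helper18.RD1
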