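import Mathlib
import Groth.Agent.Lib.Helper18.RD1
import Groth.Agent.Lib.Helper17.PushCoh2
import Groth.Agent.Lib.Helper17.PCPush
import Groth.Agent.Lib.Helper17.CohThick
import Groth.Agent.Lib.Helper28.DCohRes28
import Groth.Agent.Lib.Helper12.Dev9
import Groth.Agent.S0795

/-!
# `Rf_*` of bounded below complexes with coherent cohomology with proper supports
-/

set_option autoImplicit false
universe w₁ w₂ v₁ v₂ u₁ u₂ u

open CategoryTheory Limits Pretriangulated ZeroObject AlgebraicGeometry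

attribute [local instance] HasDerivedCategory.standard

namespace Groth.Agent.Lib.Helper18.RD2

open Groth.Agent.Lib.Helper17.DerAbs Groth.Agent.Lib.Helper17.DerKInj
  Groth.Agent.Lib.Helper17.RFTri Groth.Agent.Lib.Helper17.RFAmp Groth.Agent.Lib.Helper17.RFRlim
  Groth.Agent.Lib.Helper18.RD1

section Abstract

variable {A : Type u₁} [Category.{v₁} A] [Abelian A] [HasDerivedCategory.{w₁} A]
  {B : Type u₂} [Category.{v₂} B] [Abelian B] [HasDerivedCategory.{w₂} B]
  (F : A ⥤ B) [F.Additive]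
  [(Φ F).HasRightDerivedFunctor (HomotopyCategory.quasiIso A (ComplexShape.up ℤ))]
  (hA : HasKInjRes A)

include hA in
/-- `RF` is left t-exact. -/
theorem isGE_RF [EnoughInjectives A] (E : DerivedCategory A) (a : ℤ) [E.IsGE a] :
    ((RF F).obj E).IsGE a := by
  obtain ⟨L, _, ⟨e⟩⟩ := DerivedCategory.exists_iso_Q_obj_of_isGE E a
  obtain ⟨M, hM, i, hi⟩ :=
    CochainComplex.Plus.exists_quasiIso_injective ⟨L, ⟨a, inferInstance⟩⟩ a
  let I : CochainComplex A ℤ :=
    ((InjectiveObject.ι A).mapHomologicalComplex (ComplexShape.up ℤ)).obj M.obj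
  haveI : I.IsKInjective := inferInstance
  haveI : I.IsStrictlyGE a := by
    dsimp [I]
    rwa [CochainComplex.isStrictlyGE_mapHomologicalComplex_obj_iff _ (InjectiveObject.ι _)]
  have hq : QuasiIso i.hom := hi
  have hqi : IsIso (DerivedCategory.Q.map i.hom) := by
    rw [DerivedCategory.isIso_Q_map_iff_quasiIso]; exact hq
  have e' : E ≅ DerivedCategory.Q.obj I := e ≪≫ @asIso _ _ _ _ (DerivedCategory.Q.map i.hom) hqi
  haveI : CochainComplex.IsStrictlyGE ((F.mapHomologicalComplex (ComplexShape.up ℤ)).obj I) a :=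
    inferInstance
  haveI : (DerivedCategory.Q.obj ((F.mapHomologicalComplex (ComplexShape.up ℤ)).obj I)).IsGE a := by
    rw [DerivedCategory.isGE_Q_obj_iff]; infer_instance
  exact DerivedCategory.TStructure.t.isGE_of_iso ((RF F).mapIso e' ≪≫ RFIso F hA I).symm a

end Abstract

section Sch

variable {X S : Scheme.{u}} (f : X ⟶ S)

open Groth.Agent.Lib.Helper17.PushCoh2 Groth.Agent.Lib.Helper17.PCPush
open Groth.Agent.Lib.Helper12 Groth.Agent.Lib.Helper17 DerivedCategory

theorem fiveStable_isCoh [IsLocallyNoetherian S] :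
    FiveStable (fun M : S.Modules => Coh.IsCoh M) := by
  intro A' A₀ M D D' w u δ v hwu huδ hδv h₁ h₂ h₃ hA' hA₀ hD hD'
  haveI := hA'.1
  haveI := hA₀.1
  haveI := hA₀.2
  haveI := hD.1
  haveI := hD.2
  haveI := hD'.1
  exact Groth.Agent.Lib.Helper28.DCohRes.isCoh_of_five w u δ v hwu huδ hδv h₁ h₂ h₃

/-- bounded case. -/
theorem isCoh_HD_Rpush_bdd [IsNoetherian S] [LocallyOfFiniteType f] [DCoh.HasRpush f]
    (E : DCoh.D X) (a b : ℤ) [E.IsGE a] [E.IsLE b]
    (hE : ∀ j : ℤ, a ≤ j → j ≤ b → Coh.IsCoh (DCoh.HD E j) ∧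
      ClSub.IsProperOver f (CohB1.support (DCoh.HD E j))) (i : ℤ) :
    Coh.IsCoh (DCoh.HD ((DCoh.Rpush f).obj E) i) := by
  haveI : IsLocallyNoetherian X := LocallyOfFiniteType.isLocallyNoetherian f
  haveI : HasInjectiveResolutions X.Modules := inferInstance
  let K := DerivedCategory.Q.objPreimage E
  let e : DerivedCategory.Q.obj K ≅ E := DerivedCategory.Q.objObjPreimageIso E
  have hK : ∀ j, K.homology j ≅ DCoh.HD E j := fun j =>
    ((DerivedCategory.homologyFunctorFactors X.Modules j).app K).symm ≪≫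
      (DerivedCategory.homologyFunctor X.Modules j).mapIso e
  have key := prop_HRF_of_amp (Scheme.Modules.pushforward f) (hA X)
    (fun G : X.Modules => Coh.IsCoh G ∧ ClSub.IsProperOver f (CohB1.support G))
    (fun M : S.Modules => Coh.IsCoh M)
    (fun {G G'} e' h => ⟨H12Dev.isCoh_of_iso e' h.1, by
      rw [← H12Dev.support_eq_of_iso e']; exact h.2⟩)
    (fun M hM => CohThick.isCoh_of_isZero _ hM)
    (fun {M M'} e' h => H12Dev.isCoh_of_iso e' h)
    fiveStable_isCoh
    (fun G hG p => Groth.Agent.S0795.result f G hG.1 hG.2 p)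
    (b - a + 1).toNat K a b (by omega)
    (fun j hj => by
      rcases hj with hj | hj
      · exact (DerivedCategory.isZero_of_isGE E a j hj).of_iso (hK j)
      · exact (DerivedCategory.isZero_of_isLE E b j hj).of_iso (hK j))
    (fun j hj1 hj2 => ⟨H12Dev.isCoh_of_iso (hK j).symm (hE j hj1 hj2).1, by
      rw [H12Dev.support_eq_of_iso (hK j)]; exact (hE j hj1 hj2).2⟩) i
  exact H12Dev.isCoh_of_iso ((HRF (Scheme.Modules.pushforward f) i).mapIso e) key

/-- **`Rf_*` of a bounded below complex with coherent cohomology with proper supports.** -/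
theorem main [IsNoetherian S] [LocallyOfFiniteType f] [DCoh.HasRpush f] (E : DCoh.D X) (a : ℤ)
    [E.IsGE a] (hE : DCoh.IsCohD E)
    (hsupp : ∀ i : ℤ, ClSub.IsProperOver f (CohB1.support (DCoh.HD E i))) :
    DCoh.IsCohD ((DCoh.Rpush f).obj E) ∧ ((DCoh.Rpush f).obj E).IsGE a := by
  haveI : IsLocallyNoetherian X := LocallyOfFiniteType.isLocallyNoetherian f
  haveI : EnoughInjectives X.Modules := inferInstance
  have hGE : ((DCoh.Rpush f).obj E).IsGE a :=
    isGE_RF (Scheme.Modules.pushforward f) (hA X) E a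
  refine ⟨fun i => ?_, hGE⟩
  by_cases hia : i < a
  · exact CohThick.isCoh_of_isZero _ (DerivedCategory.isZero_of_isGE _ a i hia)
  obtain ⟨A', B', u, v, w, hT, hAle, hB⟩ := exists_trunc_triangle E (i + 2)
  haveI := hAle
  haveI := hB
  have hBz : ∀ j : ℤ, j < i + 2 →
      IsZero ((DerivedCategory.homologyFunctor X.Modules j).obj B') :=
    fun j hj => DerivedCategory.isZero_of_isGE B' (i + 2) j hj
  have hiso : ∀ j : ℤ, j < i + 2 →
      IsIso ((DerivedCategory.homologyFunctor X.Modules j).map u) := by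
    intro j hj
    haveI : Epi ((DerivedCategory.homologyFunctor X.Modules j).map u) :=
      (HomologySequence.epi_homologyMap_mor₁_iff _ hT j).2 ((hBz j hj).eq_of_tgt _ _)
    haveI : Mono ((DerivedCategory.homologyFunctor X.Modules j).map u) :=
      (HomologySequence.mono_homologyMap_mor₁_iff _ hT (j - 1) j (by omega)).2
        ((hBz (j - 1) (by omega)).eq_of_src _ _)
    exact isIso_of_mono_of_epi _
  have hAiso : ∀ j : ℤ, j < i + 2 → (DCoh.HD A' j ≅ DCoh.HD E j) := fun j hj =>
    @asIso _ _ _ _ ((DerivedCategory.homologyFunctor X.Modules j).map u) (hiso j hj)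
  haveI : A'.IsGE a := by
    rw [DerivedCategory.isGE_iff]
    intro j hj
    exact (DerivedCategory.isZero_of_isGE E a j hj).of_iso (hAiso j (by omega))
  haveI : A'.IsLE (i + 1) := by
    have := hAle
    rwa [show i + 2 - 1 = i + 1 by omega] at this
  have hA' : ∀ i', Coh.IsCoh (DCoh.HD ((DCoh.Rpush f).obj A') i') := fun i' =>
    isCoh_HD_Rpush_bdd f A' a (i + 1) (fun j hj1 hj2 =>
      ⟨H12Dev.isCoh_of_iso (hAiso j (by omega)).symm (hE j), by
        rw [H12Dev.support_eq_of_iso (hAiso j (by omega))]; exact hsupp j⟩) i'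
  haveI hB' : ((DCoh.Rpush f).obj B').IsGE (i + 2) :=
    isGE_RF (Scheme.Modules.pushforward f) (hA X) B' (i + 2)
  have hBz' : ∀ j : ℤ, j < i + 2 → Coh.IsCoh (DCoh.HD ((DCoh.Rpush f).obj B') j) := fun j hj =>
    CohThick.isCoh_of_isZero _ (DerivedCategory.isZero_of_isGE _ (i + 2) j hj)
  exact prop_HRF_of_triangle (Scheme.Modules.pushforward f) (hA X)
    (fun M : S.Modules => Coh.IsCoh M) fiveStable_isCoh (Triangle.mk u v w) hT i
    (hBz' (i - 1) (by omega)) (hA' i) (hBz' i (by omega)) (hA' (i + 1))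

end Sch

end Groth.Agent.Lib.Helper18.RD2
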