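import Mathlib
import Groth.Agent.Lib.Helper18.RD2
import Groth.Agent.Lib.Helper17.MVGamma
import Groth.Agent.Lib.Helper17.RpushQC
import Groth.Agent.Lib.Helper12.PS7

/-!
# Upper bound for `Rf_*` of bounded complexes with coherent cohomology with proper supports
-/

set_option autoImplicit false
universe u

open CategoryTheory Limits Pretriangulated ZeroObject AlgebraicGeometry TopologicalSpace

attribute [local instance] HasDerivedCategory.standard

namespace Groth.Agent.Lib.Helper18.RD3

open Groth.Agent.Lib.Helper17.DerAbs Groth.Agent.Lib.Helper17.DerKInj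
  Groth.Agent.Lib.Helper17.RFTri Groth.Agent.Lib.Helper17.RFAmp Groth.Agent.Lib.Helper17.RFRlim
  Groth.Agent.Lib.Helper18.RD1 Groth.Agent.Lib.Helper18.RD2
open Groth.Agent.Lib.Helper17.PushCoh2 Groth.Agent.Lib.Helper17.PCPush
open Groth.Agent.Lib.Helper12 Groth.Agent.Lib.Helper17 DerivedCategory
open Groth.Agent.Lib.Helper12.H12PS Groth.Agent.Lib.Helper12.H12PS7

/-- finite cohomological dimension of `g_*` on quasi-coherent modules. -/
theorem exists_bound_Rpush {Z S : Scheme.{u}} (g : Z ⟶ S) [QuasiCompact g] [QuasiSeparated g]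
    [CompactSpace S] [HasInjectiveResolutions Z.Modules] :
    ∃ N : ℕ, ∀ (G : Z.Modules), G.IsQuasicoherent → ∀ p : ℕ, N ≤ p →
      IsZero ((Coh.Rpush g p).obj G) := by
  haveI : DCoh.HasRpush g := MVGamma.hasRpush g
  obtain ⟨N, hN⟩ := RpushQC.exists_bound g
  refine ⟨N.toNat, fun G hG p hp => ?_⟩
  have hq : DCoh.IsQCohD ((DerivedCategory.singleFunctor Z.Modules 0).obj G) := by
    intro j
    by_cases hj : j = 0
    · subst hj
      exact (SheafOfModules.isQuasicoherent Z.ringCatSheaf).prop_of_iso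
        ((DerivedCategory.singleFunctorCompHomologyFunctorIso Z.Modules 0).app G).symm hG
    · have hz : IsZero (DCoh.HD ((DerivedCategory.singleFunctor Z.Modules 0).obj G) j) := by
        rcases lt_or_gt_of_ne hj with h | h
        · exact DerivedCategory.isZero_of_isGE _ 0 j h
        · exact DerivedCategory.isZero_of_isLE _ 0 j h
      exact (CohThick.isCoh_of_isZero _ hz).1
  have h := hN _ hq inferInstance ((0 : ℤ) + p) (by omega)
  exact h.of_iso (HRFSingleIso (Scheme.Modules.pushforward g) (hA Z) G 0 p).symm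

/-- vanishing of `R^p f_* F` for large `p`, `F` coherent with proper support. -/
theorem exists_bound_of_proper_support {X S : Scheme.{u}} (f : X ⟶ S) [LocallyOfFiniteType f]
    [IsNoetherian S] [HasInjectiveResolutions X.Modules] (F : X.Modules) (hF : Coh.IsCoh F)
    (hs : ClSub.IsProperOver f (CohB1.support F)) :
    ∃ N : ℕ, ∀ p : ℕ, N ≤ p → IsZero ((Coh.Rpush f p).obj F) := by
  haveI := hF.1
  haveI := hF.2
  let Z : Scheme.{u} := (annIdeal F).subscheme
  let i : Z ⟶ X := (annIdeal F).subschemeι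
  haveI : IsProper (i ≫ f) :=
    isProper_of_range_subset f _ hs i (by
      rw [Scheme.IdealSheafData.range_subschemeι]
      exact support_annIdeal_subset F)
  haveI : EnoughInjectives Z.Modules :=
    Groth.Agent.S0485.result (Opens.grothendieckTopology Z) Z.ringCatSheaf
  haveI : HasInjectiveResolutions Z.Modules := inferInstance
  have hk : ∀ (U : X.affineOpens) (a : Γ(X, U.1)),
      a ∈ i.ker.ideal U → ∀ s : Γ(F, U.1), a • s = 0 := by
    intro U a ha s
    rw [Scheme.IdealSheafData.ker_subschemeι] at ha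
    exact killed_of_epi (𝟙 F) U a ha s
  let adj := Scheme.Modules.pullbackPushforwardAdjunction i
  haveI hη : IsIso (adj.unit.app F) :=
    Groth.Agent.Helper19.ClImmUnit.isIso_unit_of_killed i F hk
  let G : Z.Modules := (Scheme.Modules.pullback i).obj F
  have hG : Coh.IsCoh G := Groth.Agent.Lib.Helper12.H12ConsP.isCoh_pullback i F hF
  obtain ⟨N, hN⟩ := exists_bound_Rpush (i ≫ f)
  refine ⟨N, fun p hp => ?_⟩
  obtain ⟨e⟩ := nonempty_Rpush_pushforward_iso i f G p
  exact (hN G hG.1 p hp).of_iso (((Coh.Rpush f p).mapIso (asIso (adj.unit.app F))) ≪≫ e)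

/-- the upper bound. -/
theorem exists_isLE_Rpush {X S : Scheme.{u}} (f : X ⟶ S) [IsNoetherian S] [LocallyOfFiniteType f]
    [DCoh.HasRpush f] (E : DCoh.D X) (a b : ℤ) [E.IsGE a] [E.IsLE b] (hE : DCoh.IsCohD E)
    (hsupp : ∀ i : ℤ, ClSub.IsProperOver f (CohB1.support (DCoh.HD E i))) :
    ∃ b' : ℤ, ((DCoh.Rpush f).obj E).IsLE b' := by
  haveI : HasInjectiveResolutions X.Modules := inferInstance
  have hb : ∀ j : ℤ, ∃ N : ℕ, ∀ p : ℕ, N ≤ p →
      IsZero ((Coh.Rpush f p).obj (DCoh.HD E j)) := fun j =>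
    exists_bound_of_proper_support f _ (hE j) (hsupp j)
  choose Nf hNf using hb
  let N : ℕ := (Finset.Icc a b).sup Nf
  let K := DerivedCategory.Q.objPreimage E
  let e : DerivedCategory.Q.obj K ≅ E := DerivedCategory.Q.objObjPreimageIso E
  have hK : ∀ j, K.homology j ≅ DCoh.HD E j := fun j =>
    ((DerivedCategory.homologyFunctorFactors X.Modules j).app K).symm ≪≫
      (DerivedCategory.homologyFunctor X.Modules j).mapIso e
  refine ⟨b + N - 1, ?_⟩
  rw [DerivedCategory.isLE_iff]
  intro i hi
  have key := isZero_HRF_of_amp (Scheme.Modules.pushforward f) (hA X)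
    (fun G : X.Modules => ∀ p : ℕ, N ≤ p →
      IsZero (((Scheme.Modules.pushforward f).rightDerived p).obj G))
    (fun {G G'} e' h p hp =>
      (h p hp).of_iso (((Scheme.Modules.pushforward f).rightDerived p).mapIso e').symm)
    N (fun G hG p hp => hG p hp) (b - a + 1).toNat K a b (by omega)
    (fun j hj => by
      rcases hj with hj | hj
      · exact (DerivedCategory.isZero_of_isGE E a j hj).of_iso (hK j)
      · exact (DerivedCategory.isZero_of_isLE E b j hj).of_iso (hK j))
    (fun j hj1 hj2 p hp =>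
      (hNf j p (le_trans (Finset.le_sup (f := Nf) (Finset.mem_Icc.2 ⟨hj1, hj2⟩)) hp)).of_iso
        (((Scheme.Modules.pushforward f).rightDerived p).mapIso (hK j)))
    i (Or.inr hi)
  exact key.of_iso ((HRF (Scheme.Modules.pushforward f) i).mapIso e).symm

end Groth.Agent.Lib.Helper18.RD3
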