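import Mathlib
import Groth.Agent.Lib.Helper18.RD3
import Groth.Agent.Lib.Helper12.RS1
import Groth.Agent.Lib.Lead.Pn.Vanish
import Groth.Agent.S0010

/-!
# Cohomological amplitude of `Rf_*` for `P^r_Y → Y`, `Y` affine
-/

set_option autoImplicit false
universe u

open CategoryTheory Limits Pretriangulated ZeroObject AlgebraicGeometry TopologicalSpace

attribute [local instance] HasDerivedCategory.standard

namespace Groth.Agent.Lib.Helper18.RD4

open Groth.Agent.Lib.Helper17.DerAbs Groth.Agent.Lib.Helper17.DerKInj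
  Groth.Agent.Lib.Helper17.RFTri Groth.Agent.Lib.Helper17.RFAmp Groth.Agent.Lib.Helper17.RFRlim
open Groth.Agent.Lib.Helper17.PushCoh2 Groth.Agent.Lib.Helper17.PCPush
open Groth.Agent.Lib.Helper12 Groth.Agent.Lib.Helper17 DerivedCategory
open Groth.Agent.Lib.Lead.Pn

variable (Y : Scheme.{u}) [IsAffine Y] (r : ℕ)

instance : IsProper (CohB1.ProjSpaceOver.toBase r Y) :=
  Groth.Agent.Lib.Helper29.QCoh.isProper_toBase _ _

/-- the projection to `P^r_ℤ`. -/
noncomputable def pr : CohB1.ProjSpaceOver r Y ⟶ Proj (𝒜 r (ULift.{u} ℤ)) :=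
  pullback.fst (CohB1.ProjSpace.toSpec r (ULift.{u} ℤ)) (specULiftZIsTerminal.from Y)

instance : IsAffineHom (pr Y r) := by
  dsimp [pr]
  haveI : IsAffineHom (specULiftZIsTerminal.from Y) := by
    haveI : IsAffine (Spec (CommRingCat.of (ULift.{u} ℤ))) := inferInstance
    infer_instance
  exact MorphismProperty.pullback_fst (P := @IsAffineHom) _ _ inferInstance

/-- the standard cover of `P^r_Y`. -/
noncomputable def cov (i : Fin (r + 1)) : (CohB1.ProjSpaceOver r Y).Opens :=
  (pr Y r) ⁻¹ᵁ (stdCov r (ULift.{u} ℤ) (ULift.up i))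

lemma isAffineOpen_cov (i : Fin (r + 1)) : IsAffineOpen (cov Y r i) := by
  have h : IsAffineOpen (stdCov r (ULift.{u} ℤ) (ULift.up i)) := by
    have := isAffineOpen_iInf_stdCov (n := r) (R := ULift.{u} ℤ) {ULift.up i}
      (Finset.singleton_nonempty _)
    simpa using this
  exact h.preimage (pr Y r)

lemma iSup_cov : ⨆ i, cov Y r i = ⊤ := by
  rw [eq_top_iff]
  intro x _
  have hx : (pr Y r) x ∈ (⊤ : (Proj (𝒜 r (ULift.{u} ℤ))).Opens) := trivial
  rw [← iSup_stdCov r (ULift.{u} ℤ)] at hx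
  obtain ⟨i, hi⟩ := Opens.mem_iSup.mp hx
  exact Opens.mem_iSup.mpr ⟨i.down, hi⟩

instance : IsAffineHom (pullback.diagonal (terminal.from (CohB1.ProjSpaceOver r Y))) := by
  have h : terminal.from (CohB1.ProjSpaceOver r Y) =
      CohB1.ProjSpaceOver.toBase r Y ≫ terminal.from Y := terminal.hom_ext _ _
  haveI : IsSeparated (terminal.from Y) := inferInstance
  haveI : IsSeparated (terminal.from (CohB1.ProjSpaceOver r Y)) := by rw [h]; infer_instance
  infer_instance

/-- `R^p f_* G = 0` for `p > r` on `P^r_Y`, `Y` affine, `G` quasi-coherent. -/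
theorem isZero_Rpush [HasInjectiveResolutions (CohB1.ProjSpaceOver r Y).Modules]
    (G : (CohB1.ProjSpaceOver r Y).Modules) (hG : G.IsQuasicoherent) (p : ℕ) (hp : r + 1 ≤ p) :
    IsZero ((Coh.Rpush (CohB1.ProjSpaceOver.toBase r Y) p).obj G) := by
  haveI := hG
  haveI : Coh.IsQCoh G := hG
  have hs : Subsingleton (Coh.HH (CohB1.ProjSpaceOver r Y) G p) :=
    Groth.Agent.S0010.result _ (r + 1) (cov Y r) (isAffineOpen_cov Y r) (iSup_cov Y r)
      (fun V W hV hW => hV.inf hW) G p hp
  obtain ⟨e, -⟩ := H12RP.exists_HH_addEquiv_sections_Rpush_linear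
    (CohB1.ProjSpaceOver.toBase r Y) G p
  haveI : ((Coh.Rpush (CohB1.ProjSpaceOver.toBase r Y) p).obj G).IsQuasicoherent :=
    Groth.Agent.S0030.result _ G p
  refine H12RS.isZero_of_subsingleton_sections_cover _ (fun _ : Unit => (⊤ : Y.Opens))
    (fun _ => isAffineOpen_top Y) (fun y => ⟨(), trivial⟩) (fun _ => ?_)
  exact e.symm.toEquiv.subsingleton

/-- **S4265**. -/
theorem main [DCoh.HasRpush (CohB1.ProjSpaceOver.toBase r Y)]
    (E : DCoh.D (CohB1.ProjSpaceOver r Y)) (hE : ∀ m : ℤ, DCoh.IsPseudoCoherentD m E)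
    (a b : ℤ) [E.IsGE b] [E.IsLE a] :
    ((DCoh.Rpush (CohB1.ProjSpaceOver.toBase r Y)).obj E).IsLE (a + r) := by
  haveI : HasInjectiveResolutions (CohB1.ProjSpaceOver r Y).Modules := inferInstance
  have hq := isQCohD_of_isPseudoCoherentD E hE
  let K := DerivedCategory.Q.objPreimage E
  let e : DerivedCategory.Q.obj K ≅ E := DerivedCategory.Q.objObjPreimageIso E
  have hK : ∀ j, K.homology j ≅ DCoh.HD E j := fun j =>
    ((DerivedCategory.homologyFunctorFactors _ j).app K).symm ≪≫
      (DerivedCategory.homologyFunctor _ j).mapIso e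
  rw [DerivedCategory.isLE_iff]
  intro i hi
  have key := isZero_HRF_of_amp (Scheme.Modules.pushforward (CohB1.ProjSpaceOver.toBase r Y))
    (hA _)
    (fun G : (CohB1.ProjSpaceOver r Y).Modules => G.IsQuasicoherent)
    (fun {G G'} e' h =>
      (SheafOfModules.isQuasicoherent (CohB1.ProjSpaceOver r Y).ringCatSheaf).prop_of_iso e' h)
    (r + 1) (fun G hG p hp => isZero_Rpush Y r G hG p hp) (a - b + 1).toNat K b a (by omega)
    (fun j hj => by
      rcases hj with hj | hj
      · exact (DerivedCategory.isZero_of_isGE E b j hj).of_iso (hK j)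
      · exact (DerivedCategory.isZero_of_isLE E a j hj).of_iso (hK j))
    (fun j _ _ => (SheafOfModules.isQuasicoherent (CohB1.ProjSpaceOver r Y).ringCatSheaf).prop_of_iso
      (hK j).symm (hq j))
    i (Or.inr (by push_cast; omega))
  exact key.of_iso ((HRF (Scheme.Modules.pushforward (CohB1.ProjSpaceOver.toBase r Y)) i).mapIso
    e).symm

end Groth.Agent.Lib.Helper18.RD4
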