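import Mathlib
import Groth.Prelude
import Groth.Agent.Lib.Lead.TwistExact
import Groth.Agent.Lib.Lead.Pn.TwistZero
import Groth.Agent.Lib.Helper29.Segre6
import Groth.Agent.Lib.Helper29.PullTensor
import Groth.Agent.Lib.Helper29.PullSect
import Groth.Agent.Lib.Helper29.Twist2
import Groth.Agent.Lib.Helper29.ToProj4
import Groth.Agent.Lib.Helper17.ProjFormula
import Groth.Agent.Lib.Helper22.Horseshoe.DerivedLES
import Groth.Agent.Lib.Helper5.RpushAb

/-!
# Castelnuovo–Mumford regularity in short exact sequences (helper18)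
-/

set_option autoImplicit false

universe u

open CategoryTheory CategoryTheory.Limits AlgebraicGeometry Opposite

namespace Groth.Agent.Lib.Helper18.RG1

open Groth.Agent.Lib.Helper29.QCoh Groth.Agent.Lib.Helper5.RpushAb

variable (n : ℕ) (Y : Scheme.{u})

/-- the twist functor `F ↦ O(d) ⊗ F` -/
noncomputable abbrev twFun (d : ℤ) : (KRR.PY n Y).Modules ⥤ (KRR.PY n Y).Modules :=
  (ModSite.tensorBi (KRR.PY n Y).sheaf).obj (Twist.twistOver n Y d)

lemma twFun_obj (d : ℤ) (F : (KRR.PY n Y).Modules) : (twFun n Y d).obj F = KRR.twF n Y d F := rfl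

instance preservesFiniteLimits_twFun (d : ℤ) : PreservesFiniteLimits (twFun n Y d) :=
  (Groth.Agent.Lib.Helper17.Tensor.isFlat_iff' (O := (KRR.PY n Y).sheaf) _).1
    ((Groth.Agent.Lib.Helper17.FlatBridge.isFlat_iff _).1
      (Groth.Agent.Lib.Lead.TwistExact.isFlat_of_isInvertible (isInvertible_twistOver n Y d)))

instance preservesFiniteColimits_twFun (d : ℤ) : PreservesFiniteColimits (twFun n Y d) :=
  (Groth.Agent.Lib.Helper17.Tensor.obj_preservesColimits (O := (KRR.PY n Y).sheaf)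
    (Twist.twistOver n Y d)).preservesFiniteColimits

instance additive_twFun (d : ℤ) : (twFun n Y d).Additive :=
  Groth.Agent.Lib.Helper17.ProjFormula.obj_additive _

/-- `O(a) ⊗ O(b) ≅ O(a + b)` on `P^n_Y`. -/
theorem twistOver_tensor (a b : ℤ) :
    Nonempty (CohB1.tensorMod (Twist.twistOver n Y a) (Twist.twistOver n Y b) ≅
      Twist.twistOver n Y (a + b)) := by
  obtain ⟨e⟩ := (twist_invertible_and_tensor (iSup_basicOpen_eq_top_of_forall
    (projSpace_degree_one_cover n (ULift.{u} ℤ)))).2.1 a b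
  obtain ⟨φ, -⟩ := exists_pullbackTensorIso
    (pullback.fst (CohB1.ProjSpace.toSpec n (ULift.{u} ℤ)) (specULiftZIsTerminal.from Y))
    (isInvertible_twist_projSpace (n := n) (R := ULift.{u} ℤ) a)
    (isInvertible_twist_projSpace (n := n) (R := ULift.{u} ℤ) b)
  exact ⟨φ.symm ≪≫ (Scheme.Modules.pullback _).mapIso e⟩

/-- `O(0) ≅ O` on `P^n_Y`. -/
theorem twistOver_zero : Nonempty (Twist.twistOver n Y 0 ≅ unitM (KRR.PY n Y)) := by
  obtain ⟨e⟩ := Groth.Agent.Lib.Lead.Pn.nonempty_unit_iso_twist_zero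
    (CohB1.polyGrading n (ULift.{u} ℤ))
  exact ⟨(Scheme.Modules.pullback _).mapIso e.symm ≪≫ pullbackUnitIso _⟩

/-- `F(b)(a) ≅ F(a + b)`. -/
theorem twF_twF (a b : ℤ) (F : (KRR.PY n Y).Modules) :
    Nonempty (KRR.twF n Y a (KRR.twF n Y b F) ≅ KRR.twF n Y (a + b) F) := by
  obtain ⟨e⟩ := twistOver_tensor n Y a b
  exact ⟨(Groth.Agent.Lib.Helper17.Tensor.assocIso (O := (KRR.PY n Y).sheaf)
    (Twist.twistOver n Y a) (Twist.twistOver n Y b) F).symm ≪≫
    ((ModSite.tensorBi (KRR.PY n Y).sheaf).mapIso e).app F⟩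

/-- twisting by `O(0)` is naturally the identity -/
theorem twFun_zero : Nonempty (twFun n Y 0 ≅ 𝟭 _) := by
  obtain ⟨e⟩ := twistOver_zero n Y
  exact ⟨(ModSite.tensorBi (KRR.PY n Y).sheaf).mapIso e ≪≫
    Groth.Agent.Lib.Helper17.ProjFormula.leftUnitNatIso (O := (KRR.PY n Y).sheaf)⟩

/-- The group `R^i p_*(F(d))`. -/
noncomputable abbrev R (i : ℕ) (d : ℤ) (F : (KRR.PY n Y).Modules) :
    Sheaf (Opens.grothendieckTopology Y) AddCommGrpCat.{u} :=
  (Coh.RpushAb (KRR.pr n Y) i).obj (Coh.toAb (KRR.twF n Y d F))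

lemma isRegSheaf_iff (F : (KRR.PY n Y).Modules) :
    KRR.IsRegSheaf n Y F ↔ ∀ i : ℕ, 1 ≤ i → IsZero (R n Y i (-(i : ℤ)) F) := Iff.rfl

variable {n Y}

lemma isZero_R_of_iso {F G : (KRR.PY n Y).Modules} (e : F ≅ G) (i : ℕ) (d : ℤ)
    (h : IsZero (R n Y i d F)) : IsZero (R n Y i d G) :=
  h.of_iso ((Coh.RpushAb (KRR.pr n Y) i).mapIso ((TT (KRR.PY n Y)).mapIso
    ((twFun n Y d).mapIso e.symm)))

lemma isZero_R_twF {F : (KRR.PY n Y).Modules} (i : ℕ) (a b c : ℤ) (hc : a + b = c)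
    (h : IsZero (R n Y i a (KRR.twF n Y b F))) : IsZero (R n Y i c F) := by
  subst hc
  obtain ⟨e⟩ := twF_twF n Y a b F
  exact h.of_iso ((Coh.RpushAb (KRR.pr n Y) i).mapIso ((TT (KRR.PY n Y)).mapIso e.symm))

lemma isZero_R_twF' {F : (KRR.PY n Y).Modules} (i : ℕ) (a b c : ℤ) (hc : a + b = c)
    (h : IsZero (R n Y i c F)) : IsZero (R n Y i a (KRR.twF n Y b F)) := by
  subst hc
  obtain ⟨e⟩ := twF_twF n Y a b F
  exact h.of_iso ((Coh.RpushAb (KRR.pr n Y) i).mapIso ((TT (KRR.PY n Y)).mapIso e))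

section LES

variable (S : ShortComplex (KRR.PY n Y).Modules) (hS : S.ShortExact) (d : ℤ)

/-- the twisted sequence of abelian sheaves -/
noncomputable abbrev SA : ShortComplex (Sheaf (Opens.grothendieckTopology (KRR.PY n Y)) AddCommGrpCat.{u}) :=
  (S.map (twFun n Y d)).map (TT (KRR.PY n Y))

include hS in
lemma shortExact_SA : (SA S d).ShortExact :=
  (hS.map_of_exact (twFun n Y d)).map_of_exact (TT (KRR.PY n Y))

include hS in
theorem isZero_mid (i : ℕ) (h₁ : IsZero (R n Y i d S.X₁)) (h₃ : IsZero (R n Y i d S.X₃)) :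
    IsZero (R n Y i d S.X₂) := by
  have hex := (Groth.Agent.Lib.Helper22.Horseshoe.derivedLES (Coh.pushAb (KRR.pr n Y))).exact₂
    (SA S d) (shortExact_SA S hS d) i
  exact hex.isZero_of_both_zeros (h₁.eq_of_src _ _) (h₃.eq_of_tgt _ _)

include hS in
theorem isZero_right (i : ℕ) (h₂ : IsZero (R n Y i d S.X₂)) (h₁ : IsZero (R n Y (i + 1) d S.X₁)) :
    IsZero (R n Y i d S.X₃) := by
  have hex := (Groth.Agent.Lib.Helper22.Horseshoe.derivedLES (Coh.pushAb (KRR.pr n Y))).exact₃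
    (SA S d) (shortExact_SA S hS d) i (i + 1) rfl
  exact hex.isZero_of_both_zeros (h₂.eq_of_src _ _) (h₁.eq_of_tgt _ _)

include hS in
theorem isZero_left (i : ℕ) (h₃ : IsZero (R n Y i d S.X₃)) (h₂ : IsZero (R n Y (i + 1) d S.X₂)) :
    IsZero (R n Y (i + 1) d S.X₁) := by
  have hex := (Groth.Agent.Lib.Helper22.Horseshoe.derivedLES (Coh.pushAb (KRR.pr n Y))).exact₁
    (SA S d) (shortExact_SA S hS d) i (i + 1) rfl
  exact hex.isZero_of_both_zeros (h₃.eq_of_src _ _) (h₂.eq_of_tgt _ _)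

include hS in
theorem isZero_left_zero
    (hepi : Epi (((Coh.pushAb (KRR.pr n Y)).rightDerived 0).map (SA S d).g))
    (h₂ : IsZero (R n Y 1 d S.X₂)) :
    IsZero (R n Y 1 d S.X₁) := by
  have L := Groth.Agent.Lib.Helper22.Horseshoe.derivedLES (Coh.pushAb (KRR.pr n Y))
  have hex₃ := L.exact₃ (SA S d) (shortExact_SA S hS d) 0 1 rfl
  have hex₁ := L.exact₁ (SA S d) (shortExact_SA S hS d) 0 1 rfl
  have hδ : L.δ (SA S d) (shortExact_SA S hS d) 0 1 rfl = 0 := by
    have := L.comp_δ (SA S d) (shortExact_SA S hS d) 0 1 rfl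
    exact (cancel_epi _).1 (this.trans comp_zero.symm)
  exact hex₁.isZero_of_both_zeros hδ (h₂.eq_of_tgt _ _)

lemma epi_map_of_natIso {C D : Type*} [Category C] [Category D] {F G : C ⥤ D} (α : F ≅ G)
    {A B : C} (f : A ⟶ B) (h : Epi (G.map f)) : Epi (F.map f) := by
  have : F.map f = α.hom.app A ≫ G.map f ≫ α.inv.app B := by simp
  rw [this]
  infer_instance

theorem epi_R0 (hepi : Epi ((Scheme.Modules.pushforward (KRR.pr n Y)).map S.g)) :
    Epi (((Coh.pushAb (KRR.pr n Y)).rightDerived 0).map (SA S 0).g) := by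
  obtain ⟨e⟩ := twFun_zero n Y
  let α : twFun n Y 0 ⋙ TT (KRR.PY n Y) ⋙ (Coh.pushAb (KRR.pr n Y)).rightDerived 0 ≅
      Scheme.Modules.pushforward (KRR.pr n Y) ⋙ TT Y :=
    Functor.isoWhiskerRight e _ ≪≫ Functor.leftUnitor _ ≪≫
      Functor.isoWhiskerLeft _ (Functor.rightDerivedZeroIsoSelf (Coh.pushAb (KRR.pr n Y))) ≪≫
      (pushIso (KRR.pr n Y)).symm
  have h2 : Epi ((Scheme.Modules.pushforward (KRR.pr n Y) ⋙ TT Y).map S.g) := by
    change Epi ((TT Y).map ((Scheme.Modules.pushforward (KRR.pr n Y)).map S.g))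
    infer_instance
  exact epi_map_of_natIso α S.g h2

end LES

end Groth.Agent.Lib.Helper18.RG1
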