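import Mathlib

/-!
# Integral closure in a radical extension `K(a^{1/p})` with `D a ≠ 0`
-/

set_option autoImplicit false
universe u

open Polynomial

namespace Groth.Agent.Lib.Helper18.RadExt

section basic

variable {R K L : Type u} [CommRing R] [IsDomain R] [IsIntegrallyClosed R] [Field K] [Algebra R K]
  [IsFractionRing R K] [Field L] [Algebra K L] [Algebra R L] [IsScalarTower R K L]

theorem exists_of_isIntegral_algebraMap (w : K) (h : IsIntegral R (algebraMap K L w)) :
    ∃ r : R, algebraMap R K r = w := by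
  have h1 : IsIntegral R w := (isIntegral_algebraMap_iff (algebraMap K L).injective).mp h
  exact IsIntegrallyClosed.isIntegral_iff.mp h1

end basic

section deriv

variable {K : Type u} [Field K] (p : ℕ) [hp : Fact p.Prime] [CharP K p] (D : Derivation ℤ K K)

theorem D_pow_p (α : K) : D (α ^ p) = 0 := by
  rw [Derivation.leibniz_pow, nsmul_eq_mul, CharP.cast_eq_zero K p, zero_mul]

theorem natCast_pow_p (n : ℕ) : ((n : K)) ^ p = n := by
  have := map_natCast (frobenius K p) n
  rwa [frobenius_def] at this

theorem natCast_pow_pred (n : ℕ) (hn : 0 < n) (hnp : n < p) : ((n : K)) ^ (p - 1) = 1 := by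
  have hn0 : (n : K) ≠ 0 := by
    intro h
    have := (CharP.cast_eq_zero_iff K p n).mp h
    exact absurd (Nat.le_of_dvd hn this) (not_le.mpr hnp)
  have h1 : (n : K) ^ (p - 1) * n = n := by
    rw [← pow_succ, Nat.sub_add_cancel hp.out.one_le, natCast_pow_p]
  exact mul_right_cancel₀ hn0 (h1.trans (one_mul _).symm)

/-- derivative of `∑ α_j^p A^j` -/
theorem D_sum (A : K) (α : ℕ → K) (i : ℕ) :
    D (∑ j ∈ Finset.range (i + 2), α j ^ p * A ^ j) =
      D A * ∑ j ∈ Finset.range (i + 1), ((j + 1 : ℕ) : K) * α (j + 1) ^ p * A ^ j := by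
  rw [map_sum, Finset.sum_range_succ', Finset.mul_sum]
  have h0 : D (α 0 ^ p * A ^ 0) = 0 := by
    rw [pow_zero, mul_one, D_pow_p p D]
  rw [h0, add_zero]
  apply Finset.sum_congr rfl
  intro j _
  rw [Derivation.leibniz, D_pow_p p D, smul_zero, add_zero, Derivation.leibniz_pow, smul_eq_mul,
    nsmul_eq_mul, smul_eq_mul, Nat.add_sub_cancel]
  ring

end deriv

end Groth.Agent.Lib.Helper18.RadExt

namespace Groth.Agent.Lib.Helper18.RadExt

section main

variable {R K L : Type u} [CommRing R] [IsDomain R] [IsIntegrallyClosed R] [Field K] [Algebra R K]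
  [IsFractionRing R K] (p : ℕ) [hp : Fact p.Prime] [CharP K p] (D : Derivation ℤ K K)
  [Field L] [Algebra K L] [Algebra R L] [IsScalarTower R K L]

omit [IsDomain R] [IsIntegrallyClosed R] [IsFractionRing R K] in
/-- the `p`-th power of `∑ β_j x^j` -/
theorem sum_pow_eq (a₀ : R) (x : L) (hx : x ^ p = algebraMap R L a₀) (β : ℕ → K) (n : ℕ) :
    (∑ j ∈ Finset.range n, algebraMap K L (β j) * x ^ j) ^ p =
      algebraMap K L (∑ j ∈ Finset.range n, β j ^ p * (algebraMap R K a₀) ^ j) := by
  haveI : CharP L p := charP_of_injective_algebraMap (algebraMap K L).injective p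
  rw [sum_pow_char, map_sum]
  apply Finset.sum_congr rfl
  intro j _
  rw [mul_pow, ← pow_mul, mul_comm j p, pow_mul, hx, map_mul, map_pow, map_pow,
    ← IsScalarTower.algebraMap_apply R K L]

/-- the key induction: coefficients of integral elements have bounded denominators -/
theorem claim (hD : ∀ r : R, ∃ s : R, D (algebraMap R K r) = algebraMap R K s)
    (a₀ e : R) (he : D (algebraMap R K a₀) = algebraMap R K e)
    (x : L) (hx : x ^ p = algebraMap R L a₀) :
    ∀ i : ℕ, i < p → ∀ α : ℕ → K,
      IsIntegral R (∑ j ∈ Finset.range (i + 1), algebraMap K L (α j) * x ^ j) →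
      ∀ j ∈ Finset.range (i + 1), ∃ r : R, algebraMap R K r = (algebraMap R K e) ^ i * α j := by
  have hxint : IsIntegral R x := IsIntegral.of_pow hp.out.pos (hx ▸ isIntegral_algebraMap)
  intro i
  induction i with
  | zero =>
    intro _ α hy j hj
    have hj0 : j = 0 := by simpa using hj
    subst hj0
    rw [Finset.sum_range_one, pow_zero, mul_one] at hy
    obtain ⟨r, hr⟩ := exists_of_isIntegral_algebraMap (L := L) (α 0) hy
    exact ⟨r, by rw [hr, pow_zero, one_mul]⟩
  | succ i ih =>
    intro hi α hy
    set A := algebraMap R K a₀ with hA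
    set δ := algebraMap R K e with hδ
    -- step 1, 2
    have h1 := sum_pow_eq p a₀ x hx α (i + 1 + 1)
    have h2 : IsIntegral R (algebraMap K L
        (∑ j ∈ Finset.range (i + 1 + 1), α j ^ p * A ^ j)) := by
      rw [← h1]
      exact hy.pow p
    obtain ⟨rw', hrw⟩ := exists_of_isIntegral_algebraMap (L := L) _ h2
    -- step 3
    obtain ⟨s, hs⟩ := hD rw'
    rw [hrw, D_sum p D A α i, he] at hs
    -- step 4
    set β : ℕ → K := fun j => δ * (((j + 1 : ℕ) : K) * α (j + 1)) with hβ
    have h4 := sum_pow_eq p a₀ x hx β (i + 1)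
    have h5 : (∑ j ∈ Finset.range (i + 1), β j ^ p * A ^ j) =
        algebraMap R K (e ^ (p - 1) * s) := by
      have e1 : (∑ j ∈ Finset.range (i + 1), β j ^ p * A ^ j) =
          δ ^ (p - 1) * (δ * ∑ j ∈ Finset.range (i + 1),
            ((j + 1 : ℕ) : K) * α (j + 1) ^ p * A ^ j) := by
        rw [← mul_assoc, ← pow_succ, Nat.sub_add_cancel hp.out.one_le, Finset.mul_sum]
        apply Finset.sum_congr rfl
        intro j _
        simp only [hβ, mul_pow, natCast_pow_p p]
        ring
      rw [e1, hs, map_mul, map_pow]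
    have hz : IsIntegral R (∑ j ∈ Finset.range (i + 1), algebraMap K L (β j) * x ^ j) := by
      apply IsIntegral.of_pow hp.out.pos
      rw [h4, h5, ← IsScalarTower.algebraMap_apply R K L]
      exact isIntegral_algebraMap
    -- step 5
    have h6 := ih (Nat.lt_of_succ_lt hi) β hz
    -- step 6: successor indices
    have hsucc : ∀ j, ∃ r' : R, j ∈ Finset.range (i + 1) →
        algebraMap R K r' = δ ^ (i + 1) * α (j + 1) := by
      intro j
      by_cases hj : j ∈ Finset.range (i + 1)
      · obtain ⟨r, hr⟩ := h6 j hj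
        have hjlt : j + 1 < p := by
          have := Finset.mem_range.mp hj
          omega
        have hfer := natCast_pow_pred (K := K) p (j + 1) (Nat.succ_pos j) hjlt
        refine ⟨((j + 1 : ℕ) : R) ^ (p - 2) * r, fun _ => ?_⟩
        rw [map_mul, map_pow, map_natCast, hr]
        simp only [hβ]
        have h2le : 2 ≤ p := hp.out.two_le
        have e2 : (((j + 1 : ℕ) : K)) ^ (p - 2) * ((j + 1 : ℕ) : K) = 1 := by
          rw [← pow_succ, show p - 2 + 1 = p - 1 by omega, hfer]
        calc ((j + 1 : ℕ) : K) ^ (p - 2) * (δ ^ i * (δ * (((j + 1 : ℕ) : K) * α (j + 1))))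
            = (((j + 1 : ℕ) : K) ^ (p - 2) * ((j + 1 : ℕ) : K)) * (δ ^ (i + 1) * α (j + 1)) := by
              ring
          _ = δ ^ (i + 1) * α (j + 1) := by rw [e2, one_mul]
      · exact ⟨0, fun h => absurd h hj⟩
    choose r' hr' using hsucc
    intro j hj
    rcases Nat.eq_zero_or_eq_succ_pred j with hj0 | hjs
    · -- constant coefficient
      subst hj0
      apply exists_of_isIntegral_algebraMap (L := L)
      have hsplit : algebraMap K L (δ ^ (i + 1) * α 0) =
          algebraMap R L (e ^ (i + 1)) * (∑ j ∈ Finset.range (i + 1 + 1),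
            algebraMap K L (α j) * x ^ j) -
          ∑ j ∈ Finset.range (i + 1), algebraMap R L (r' j) * x ^ (j + 1) := by
        rw [Finset.sum_range_succ' _ (i + 1), mul_add, pow_zero, mul_one, Finset.mul_sum]
        have e3 : ∑ j ∈ Finset.range (i + 1), algebraMap R L (e ^ (i + 1)) *
            (algebraMap K L (α (j + 1)) * x ^ (j + 1)) =
            ∑ j ∈ Finset.range (i + 1), algebraMap R L (r' j) * x ^ (j + 1) := by
          apply Finset.sum_congr rfl
          intro j hj
          rw [IsScalarTower.algebraMap_apply R K L (r' j), hr' j hj,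
            IsScalarTower.algebraMap_apply R K L (e ^ (i + 1)), map_pow, map_mul, map_pow]
          ring
        rw [e3, add_sub_cancel_left, IsScalarTower.algebraMap_apply R K L (e ^ (i + 1)),
          map_pow, map_mul, map_pow]
      rw [hsplit]
      refine IsIntegral.sub (IsIntegral.mul isIntegral_algebraMap hy) ?_
      refine IsIntegral.sum _ (fun j _ => ?_)
      exact IsIntegral.mul isIntegral_algebraMap (hxint.pow _)
    · rw [hjs]
      have hjr : j.pred ∈ Finset.range (i + 1) := by
        have := Finset.mem_range.mp hj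
        rw [Finset.mem_range]
        omega
      exact ⟨r' j.pred, hr' j.pred hjr⟩

end main

end Groth.Agent.Lib.Helper18.RadExt

namespace Groth.Agent.Lib.Helper18.RadExt

section fin

variable {R K L : Type u} [CommRing R] [IsDomain R] [IsIntegrallyClosed R] [IsNoetherianRing R]
  [Field K] [Algebra R K]
  [IsFractionRing R K] (p : ℕ) [hp : Fact p.Prime] [CharP K p] (D : Derivation ℤ K K)
  [Field L] [Algebra K L] [Algebra R L] [IsScalarTower R K L]

omit [IsDomain R] [IsIntegrallyClosed R] [IsNoetherianRing R] [IsFractionRing R K] [CharP K p] in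
/-- every element of `K(x)` is a `K`-combination of `1, x, …, x^{p-1}` -/
theorem exists_repr (A : K) (x : L) (hx : x ^ p = algebraMap K L A)
    (hgen : IntermediateField.adjoin K {x} = ⊤) (y : L) :
    ∃ α : ℕ → K, y = ∑ j ∈ Finset.range p, algebraMap K L (α j) * x ^ j := by
  have hmonic : (X ^ p - C A : K[X]).Monic := monic_X_pow_sub_C A hp.out.ne_zero
  have hroot : aeval x (X ^ p - C A : K[X]) = 0 := by
    simp [hx]
  have hxint : IsIntegral K x := ⟨_, hmonic, by simpa using hroot⟩
  have h1 : Algebra.adjoin K {x} = ⊤ := by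
    rw [← IntermediateField.adjoin_simple_toSubalgebra_of_isAlgebraic hxint.isAlgebraic, hgen]
    rfl
  have hy : y ∈ Algebra.adjoin K {x} := by rw [h1]; trivial
  rw [Algebra.adjoin_singleton_eq_range_aeval] at hy
  obtain ⟨f, rfl⟩ := hy
  have hne1 : (X ^ p - C A : K[X]) ≠ 1 := by
    intro h
    have := congrArg Polynomial.natDegree h
    rw [natDegree_X_pow_sub_C, natDegree_one] at this
    exact hp.out.ne_zero this
  have hdeg : (f %ₘ (X ^ p - C A)).natDegree < p := by
    have := natDegree_modByMonic_lt f hmonic hne1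
    rwa [natDegree_X_pow_sub_C] at this
  have hf : aeval x f = aeval x (f %ₘ (X ^ p - C A)) := by
    conv_lhs => rw [← modByMonic_add_div f (X ^ p - C A)]
    rw [map_add, map_mul, hroot, zero_mul, add_zero]
  refine ⟨fun j => (f %ₘ (X ^ p - C A)).coeff j, ?_⟩
  show (aeval x) f = _
  rw [hf, aeval_eq_sum_range' hdeg]
  apply Finset.sum_congr rfl
  intro j _
  rw [Algebra.smul_def]

theorem finite_integralClosure_of_mem
    (hD : ∀ r : R, ∃ s : R, D (algebraMap R K r) = algebraMap R K s)
    (a₀ e : R) (he : D (algebraMap R K a₀) = algebraMap R K e) (he0 : e ≠ 0)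
    (x : L) (hx : x ^ p = algebraMap R L a₀)
    (hgen : IntermediateField.adjoin K {x} = ⊤) :
    Module.Finite R (integralClosure R L) := by
  set δ := algebraMap R K e with hδ
  have hδ0 : δ ≠ 0 := fun h => he0 (IsFractionRing.injective R K (by rw [← hδ, h, map_zero]))
  let gen : Fin p → L := fun j => algebraMap K L (δ⁻¹ ^ (p - 1)) * x ^ (j : ℕ)
  let N : Submodule R L := Submodule.span R (Set.range gen)
  have hNfg : N.FG := Submodule.fg_span (Set.finite_range gen)
  haveI : IsNoetherian R N := isNoetherian_of_fg_of_noetherian N hNfg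
  have hx' : x ^ p = algebraMap K L (algebraMap R K a₀) := by
    rw [hx, IsScalarTower.algebraMap_apply R K L]
  have hle : ∀ y : L, IsIntegral R y → y ∈ N := by
    intro y hy
    obtain ⟨α, rfl⟩ := exists_repr p (algebraMap R K a₀) x hx' hgen y
    have hp1 : p - 1 + 1 = p := Nat.sub_add_cancel hp.out.one_le
    have hcl := claim p D hD a₀ e he x hx (p - 1) (Nat.sub_lt hp.out.pos one_pos) α
      (by rw [hp1]; exact hy)
    rw [hp1] at hcl
    have hcl' : ∀ j, ∃ r : R, j ∈ Finset.range p → algebraMap R K r = δ ^ (p - 1) * α j := by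
      intro j
      by_cases hj : j ∈ Finset.range p
      · obtain ⟨r, hr⟩ := hcl j hj
        exact ⟨r, fun _ => hr⟩
      · exact ⟨0, fun h => absurd h hj⟩
    choose r hr using hcl'
    apply Submodule.sum_mem
    intro j hj
    have hjlt : j < p := Finset.mem_range.mp hj
    have e1 : algebraMap K L (α j) * x ^ j = r j • gen ⟨j, hjlt⟩ := by
      have e2 : α j = δ⁻¹ ^ (p - 1) * algebraMap R K (r j) := by
        rw [hr j hj, ← mul_assoc, ← mul_pow, inv_mul_cancel₀ hδ0, one_pow, one_mul]
      simp only [gen]
      rw [Algebra.smul_def, IsScalarTower.algebraMap_apply R K L, e2, map_mul]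
      ring
    rw [e1]
    exact Submodule.smul_mem _ _ (Submodule.subset_span ⟨⟨j, hjlt⟩, rfl⟩)
  let φ : integralClosure R L →ₗ[R] N :=
    LinearMap.codRestrict N ((integralClosure R L).val.toLinearMap) (fun c => hle c.1 c.2)
  have hφ : Function.Injective φ := by
    intro c c' h
    apply Subtype.ext
    have := congrArg (fun n : N => (n : L)) h
    exact this
  exact Module.Finite.of_injective φ hφ

end fin

end Groth.Agent.Lib.Helper18.RadExt

namespace Groth.Agent.Lib.Helper18.RadExt

section final

variable {R K L : Type u} [CommRing R] [IsDomain R] [IsIntegrallyClosed R] [IsNoetherianRing R]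
  [Field K] [Algebra R K]
  [IsFractionRing R K] (p : ℕ) [hp : Fact p.Prime] [CharP K p] (D : Derivation ℤ K K)
  [Field L] [Algebra K L] [Algebra R L] [IsScalarTower R K L]

theorem finite_integralClosure
    (hD : ∀ r : R, ∃ s : R, D (algebraMap R K r) = algebraMap R K s) (a : K) (ha : D a ≠ 0)
    (x : L) (hx : x ^ p = algebraMap K L a) (hgen : IntermediateField.adjoin K {x} = ⊤) :
    Module.Finite R (integralClosure R L) := by
  obtain ⟨c, d, hd, rfl⟩ := IsFractionRing.div_surjective (A := R) a
  have hd0 : algebraMap R K d ≠ 0 := by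
    intro h
    exact nonZeroDivisors.ne_zero hd (IsFractionRing.injective R K (by rw [h, map_zero]))
  set a := algebraMap R K c / algebraMap R K d with ha'
  have hp1 : p - 1 + 1 = p := Nat.sub_add_cancel hp.out.one_le
  have ha₀ : algebraMap R K (c * d ^ (p - 1)) = (algebraMap R K d) ^ p * a := by
    rw [map_mul, map_pow, ha', ← hp1, pow_succ, hp1]
    field_simp
  obtain ⟨e, he⟩ := hD (c * d ^ (p - 1))
  have hDa₀ : D (algebraMap R K (c * d ^ (p - 1))) = (algebraMap R K d) ^ p * D a := by
    rw [ha₀, Derivation.leibniz, D_pow_p p D, smul_zero, add_zero, smul_eq_mul]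
  have he0 : e ≠ 0 := by
    rintro rfl
    rw [map_zero] at he
    rw [he] at hDa₀
    exact (mul_ne_zero (pow_ne_zero p hd0) ha) hDa₀.symm
  have hx' : (algebraMap R L d * x) ^ p = algebraMap R L (c * d ^ (p - 1)) := by
    rw [mul_pow, hx, IsScalarTower.algebraMap_apply R K L (c * d ^ (p - 1)), ha₀,
      IsScalarTower.algebraMap_apply R K L d, map_mul, map_pow]
  have hdL : algebraMap R L d ≠ 0 := by
    rw [IsScalarTower.algebraMap_apply R K L]
    exact (_root_.map_ne_zero _).mpr hd0
  have hgen' : IntermediateField.adjoin K {algebraMap R L d * x} = ⊤ := by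
    rw [← top_le_iff, ← hgen, IntermediateField.adjoin_simple_le_iff]
    have h1 : algebraMap R L d * x ∈ IntermediateField.adjoin K {algebraMap R L d * x} :=
      IntermediateField.mem_adjoin_simple_self K _
    have h2 : algebraMap R L d ∈ IntermediateField.adjoin K {algebraMap R L d * x} := by
      rw [IsScalarTower.algebraMap_apply R K L]
      exact IntermediateField.algebraMap_mem _ _
    have h3 : x = (algebraMap R L d)⁻¹ * (algebraMap R L d * x) := by
      rw [← mul_assoc, inv_mul_cancel₀ hdL, one_mul]
    have h4 : (algebraMap R L d)⁻¹ * (algebraMap R L d * x) ∈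
        IntermediateField.adjoin K {algebraMap R L d * x} := mul_mem (inv_mem h2) h1
    rwa [← h3] at h4
  exact finite_integralClosure_of_mem p D hD (c * d ^ (p - 1)) e he he0 _ hx' hgen'

end final

end Groth.Agent.Lib.Helper18.RadExt
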