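import Mathlib
import Groth.Prelude.Def_EGA4b
import Groth.Agent.Lib.Helper18.FormEq3
import Groth.Agent.Lib.Helper18.CplIso
import Groth.Agent.Lib.Helper18.CatFlat

/-!
# Formal catenarity ascends along flat local maps with trivial residue extension, `m_R S = m_S`
and incomparable fibres (e.g. henselization)
-/

set_option autoImplicit false
set_option linter.unusedSectionVars false
set_option linter.style.haveILetI false
universe u
open IsLocalRing

namespace Groth.Agent.Lib.Helper18.Ratliff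

section ascend

variable (R S : Type u) [CommRing R] [CommRing S] [IsNoetherianRing R] [IsNoetherianRing S]
  [IsLocalRing R] [IsLocalRing S] [Algebra R S] [IsLocalHom (algebraMap R S)] [Module.Flat R S]

theorem isFormallyCatenary_of_flat_incomparable
    (hm : (maximalIdeal R).map (algebraMap R S) = maximalIdeal S)
    (hres : Function.Surjective ((Ideal.Quotient.mk (maximalIdeal S)).comp (algebraMap R S)))
    (hinc : ∀ (P Q : Ideal S) [P.IsPrime] [Q.IsPrime], P ≤ Q → P.under R = Q.under R → P = Q)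
    (hR : EGA4.IsFormallyCatenary R) : EGA4.IsFormallyCatenary S := by
  intro 𝔭 h𝔭
  rw [FormEq.isFormallyEquidim_quotient_iff S 𝔭]
  intro 𝔓 h𝔓
  haveI h𝔓p : 𝔓.IsPrime := h𝔓.1.1
  set q : Ideal R := 𝔭.comap (algebraMap R S) with hq
  haveI hqp : q.IsPrime := Ideal.comap_isPrime _ _
  have hbij := CplIso.cplMap_bijective R S hm hres
  set φ := CplFlat.cplMap R S with hφ
  let e : EGA4.Cpl R ≃+* EGA4.Cpl S := RingEquiv.ofBijective φ hbij
  obtain ⟨hunder, -⟩ :=
    CatFlat.under_eq_and_height_eq_of_mem_minimalPrimes S (EGA4.Cpl S) 𝔭 𝔓 h𝔓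
  set I : Ideal (EGA4.Cpl S) :=
    (q.map (algebraMap R S)).map (algebraMap S (EGA4.Cpl S)) with hI
  have hI𝔓 : 𝔓 ∈ I.minimalPrimes := by
    refine ⟨⟨h𝔓p, ?_⟩, ?_⟩
    · exact (Ideal.map_mono Ideal.map_comap_le).trans h𝔓.1.2
    · rintro 𝔓' ⟨h𝔓'p, hI𝔓'⟩ h𝔓'le
      haveI := h𝔓'p
      have h1 : 𝔓'.comap (algebraMap S (EGA4.Cpl S)) ≤ 𝔭 := by
        rw [← hunder]
        exact Ideal.comap_mono h𝔓'le
      have h2 : q.map (algebraMap R S) ≤ 𝔓'.comap (algebraMap S (EGA4.Cpl S)) :=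
        Ideal.map_le_iff_le_comap.1 hI𝔓'
      have h3 : (𝔓'.comap (algebraMap S (EGA4.Cpl S))).under R = 𝔭.under R := by
        apply le_antisymm (Ideal.comap_mono h1)
        exact Ideal.map_le_iff_le_comap.1 h2
      have h4 : 𝔓'.comap (algebraMap S (EGA4.Cpl S)) = 𝔭 := hinc _ 𝔭 h1 h3
      have h5 : 𝔭.map (algebraMap S (EGA4.Cpl S)) ≤ 𝔓' := by
        rw [← h4]
        exact Ideal.map_comap_le
      exact h𝔓.2 ⟨h𝔓'p, h5⟩ h𝔓'le
  have hImap : (q.map (algebraMap R (EGA4.Cpl R))).map φ = I := by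
    rw [Ideal.map_map, hI, Ideal.map_map]
    have h0 : φ.comp (algebraMap R (EGA4.Cpl R)) =
        (algebraMap S (EGA4.Cpl S)).comp (algebraMap R S) := by
      apply RingHom.ext
      intro a
      exact CplFlat.cplMap_of R S a
    rw [h0]
  have hcomap : I.comap φ = q.map (algebraMap R (EGA4.Cpl R)) := by
    rw [← hImap]
    exact Ideal.comap_map_of_bijective φ hbij
  have hQmin : 𝔓.comap φ ∈ (q.map (algebraMap R (EGA4.Cpl R))).minimalPrimes := by
    rw [← hcomap]
    exact Ideal.minimalPrimes_comap_of_surjective hbij.2 hI𝔓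
  have h6 := (FormEq.isFormallyEquidim_quotient_iff R q).1 (hR q) _ hQmin
  have h7 : ringKrullDim (EGA4.Cpl R ⧸ 𝔓.comap φ) = ringKrullDim (EGA4.Cpl S ⧸ 𝔓) :=
    FormEq.ringKrullDim_quotient_comap_equiv e 𝔓
  have hqS : q.map (algebraMap R S) ≤ 𝔭 := Ideal.map_comap_le
  have hle1 : ringKrullDim (S ⧸ 𝔭) ≤ ringKrullDim (R ⧸ q) := by
    have h8 : ringKrullDim (S ⧸ 𝔭) ≤ ringKrullDim (S ⧸ q.map (algebraMap R S)) :=
      ringKrullDim_le_of_surjective (Ideal.Quotient.factor hqS)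
        (Ideal.Quotient.factor_surjective hqS)
    have h9 := CatFlat.ringKrullDim_quotient_map_eq R S q hqp.ne_top
    rw [hm] at h9
    letI := Ideal.Quotient.field (maximalIdeal S)
    rw [ringKrullDim_eq_zero_of_field, add_zero] at h9
    rw [← h9]
    exact h8
  have hle2 : ringKrullDim (R ⧸ q) ≤ ringKrullDim (S ⧸ 𝔭) := by
    rw [← h6, h7, ← FormEq.ringKrullDim_cpl_quotient_map S 𝔭]
    exact ringKrullDim_le_of_surjective (Ideal.Quotient.factor h𝔓.1.2)
      (Ideal.Quotient.factor_surjective h𝔓.1.2)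
  rw [← h7, h6]
  exact le_antisymm hle2 hle1

end ascend

end Groth.Agent.Lib.Helper18.Ratliff
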