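import Mathlib
import Groth.Agent.Lib.Helper18.RectDepth4

/-!
# Chart data for the rectified depth on a scheme locally of finite type over a regular Jacobson
equicodimensional base
-/

set_option autoImplicit false
set_option linter.unusedSectionVars false
set_option linter.style.haveILetI false
set_option maxHeartbeats 1600000
universe u
open AlgebraicGeometry CategoryTheory TopologicalSpace

namespace Groth.Agent.Lib.Helper18.RectDepth

open Groth.Agent.Lib.Helper18.JacDim Groth.Agent.Lib.Helper29.QCoh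
open Groth.Agent.Lib.Helper18.TopDim

section Chart

variable {X S : Scheme.{u}} [IsLocallyNoetherian S] [JacobsonSpace S]
  (hreg : ∀ s : S, IsRegularLocalRing ↑(S.presheaf.stalk s))
  (h3 : ∀ S' ∈ irreducibleComponents (S : Type u), ∀ s ∈ S', IsClosed ({s} : Set S) →
    topologicalKrullDim (↥S' : Type u) = topologicalKrullDim ↥{t : S | t ∈ S' ∧ t ⤳ s})
  (F : X.Modules) [F.IsQuasicoherent] [F.IsFiniteType]

include hreg h3 in
theorem exists_chart_data (g : X ⟶ S) [LocallyOfFiniteType g] (x₀ : X) :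
    ∃ (W : Set X) (D : ℕ) (e : X → ℕ), IsOpen W ∧ x₀ ∈ W ∧
      (∀ x ∈ W, x ∈ CohB1.support F → ∃ c k : ℕ,
        LocCoh.depth (X.presheaf.stalk x) (F.presheaf.stalk x) = c ∧
        topologicalKrullDim ↥(closure ({x} : Set X)) = k ∧ k + e x + c = D) ∧
      (∀ x ∈ W, x ∈ CohB1.support F → ∃ W' : Set X, IsOpen W' ∧ x ∈ W' ∧
        ∀ x' ∈ W', x' ∈ W → x' ∈ CohB1.support F → e x' ≤ e x) := by
  classical
  have h2S : ∀ s : S, CAlg.IsUniversallyCatenary (S.presheaf.stalk s) := fun s => by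
    haveI := hreg s
    exact isUniversallyCatenary_of_isRegularLocalRing _
  haveI : IsLocallyNoetherian X := LocallyOfFiniteType.isLocallyNoetherian g
  haveI : JacobsonSpace X := LocallyOfFiniteType.jacobsonSpace g
  have h2X := isUniversallyCatenary_stalk_of_locallyOfFiniteType h2S g
  have h3X := equicodim_of_locallyOfFiniteType h2S h3 g
  -- charts
  obtain ⟨V, hV, hx₀V, -⟩ := Opens.isBasis_iff_nbhd.mp S.isBasis_affineOpens
    (show g x₀ ∈ (⊤ : S.Opens) from trivial)
  have hV : IsAffineOpen V := hV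
  obtain ⟨U, hU, hx₀U, hUV⟩ := Opens.isBasis_iff_nbhd.mp X.isBasis_affineOpens
    (show x₀ ∈ g ⁻¹ᵁ V from hx₀V)
  have hU : IsAffineOpen U := hU
  letI algAB : Algebra Γ(S, V) Γ(X, U) := (g.appLE V U hUV).hom.toAlgebra
  haveI : IsNoetherianRing Γ(S, V) := IsLocallyNoetherian.component_noetherian ⟨V, hV⟩
  haveI hft : Algebra.FiniteType Γ(S, V) Γ(X, U) :=
    HasRingHomProperty.appLE (P := @LocallyOfFiniteType) g inferInstance ⟨V, hV⟩ ⟨U, hU⟩ hUV
  haveI : IsNoetherianRing Γ(X, U) := Algebra.FiniteType.isNoetherianRing Γ(S, V) Γ(X, U)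
  haveI : IsRegularRing Γ(S, V) := isRegularRing_sections hreg hV
  obtain ⟨m, f, hf⟩ := Algebra.FiniteType.iff_quotient_mvPolynomial''.mp hft
  -- the regular ring `P`
  letI algPB : Algebra (MvPolynomial (Fin m) Γ(S, V)) Γ(X, U) := f.toRingHom.toAlgebra
  have hsurj : Function.Surjective (algebraMap (MvPolynomial (Fin m) Γ(S, V)) Γ(X, U)) := hf
  letI modPN : Module (MvPolynomial (Fin m) Γ(S, V)) Γ(F, U) :=
    Module.compHom _ (algebraMap (MvPolynomial (Fin m) Γ(S, V)) Γ(X, U))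
  haveI : IsScalarTower (MvPolynomial (Fin m) Γ(S, V)) Γ(X, U) Γ(F, U) :=
    IsScalarTower.of_algebraMap_smul fun _ _ => rfl
  haveI : Module.Finite Γ(X, U) Γ(F, U) := module_finite_of_isFiniteType F hU
  haveI : Module.Finite (MvPolynomial (Fin m) Γ(S, V)) Γ(X, U) :=
    Module.Finite.of_surjective (Algebra.linearMap _ _) hsurj
  haveI : Module.Finite (MvPolynomial (Fin m) Γ(S, V)) Γ(F, U) := Module.Finite.trans Γ(X, U) _
  -- the regular scheme `Z`
  set Z : Scheme.{u} := Spec (CommRingCat.of (MvPolynomial (Fin m) Γ(S, V))) with hZdef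
  let h : Z ⟶ S := Spec.map (CommRingCat.ofHom
    (algebraMap Γ(S, V) (MvPolynomial (Fin m) Γ(S, V)))) ≫ hV.fromSpec
  haveI : LocallyOfFiniteType (Spec.map (CommRingCat.ofHom
      (algebraMap Γ(S, V) (MvPolynomial (Fin m) Γ(S, V))))) := by
    rw [HasRingHomProperty.Spec_iff (P := @LocallyOfFiniteType)]
    exact RingHom.finiteType_algebraMap.2 inferInstance
  haveI : LocallyOfFiniteType h := inferInstance
  haveI : IsLocallyNoetherian Z := LocallyOfFiniteType.isLocallyNoetherian h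
  haveI : JacobsonSpace Z := LocallyOfFiniteType.jacobsonSpace h
  have h2Z := isUniversallyCatenary_stalk_of_locallyOfFiniteType h2S h
  have h3Z := equicodim_of_locallyOfFiniteType h2S h3 h
  have hstalkZ : ∀ z : Z, IsRegularLocalRing (Z.presheaf.stalk z) ∧
      ringKrullDim (Z.presheaf.stalk z) =
        ((show PrimeSpectrum (MvPolynomial (Fin m) Γ(S, V)) from z).asIdeal.height : WithBot ℕ∞) := by
    intro z
    letI : Algebra (MvPolynomial (Fin m) Γ(S, V))
        ((Spec (CommRingCat.of (MvPolynomial (Fin m) Γ(S, V)))).presheaf.stalk z) :=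
      StructureSheaf.stalkAlgebra _ z
    haveI hloc : IsLocalization.AtPrime
        ((Spec (CommRingCat.of (MvPolynomial (Fin m) Γ(S, V)))).presheaf.stalk z)
        (show PrimeSpectrum (MvPolynomial (Fin m) Γ(S, V)) from z).asIdeal :=
      StructureSheaf.IsLocalization.to_stalk _ z
    refine ⟨?_, IsLocalization.AtPrime.ringKrullDim_eq_height _ _⟩
    exact IsRegularLocalRing.of_ringEquiv (IsLocalization.algEquiv
      (show PrimeSpectrum (MvPolynomial (Fin m) Γ(S, V)) from z).asIdeal.primeCompl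
      (Localization.AtPrime (show PrimeSpectrum (MvPolynomial (Fin m) Γ(S, V)) from z).asIdeal)
      ((Spec (CommRingCat.of (MvPolynomial (Fin m) Γ(S, V)))).presheaf.stalk z)).toRingEquiv
  have hdomZ : ∀ z : Z, IsDomain (Z.presheaf.stalk z) := fun z => by
    haveI := (hstalkZ z).1
    exact Groth.Agent.Lib.Helper21.isDomain_of_isRegularLocalRing _
  -- the closed embedding `j : U → Z`
  let j : ↥(U : Set X) → Z := fun x =>
    PrimeSpectrum.comap (algebraMap (MvPolynomial (Fin m) Γ(S, V)) Γ(X, U)) (hU.primeIdealOf x)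
  have hj : Topology.IsClosedEmbedding j :=
    (PrimeSpectrum.isClosedEmbedding_comap_of_surjective _ _ hsurj).comp
      (Scheme.homeoOfIso hU.isoSpec).isClosedEmbedding
  obtain ⟨O, hO, hz₀O, D, hD⟩ := exists_open_const h2Z h3Z hdomZ (j ⟨x₀, hx₀U⟩)
  -- the projective dimension function
  let pdAt : PrimeSpectrum (MvPolynomial (Fin m) Γ(S, V)) → WithBot ℕ∞ := fun z =>
    projectiveDimension (ModuleCat.of (Localization.AtPrime z.asIdeal)
      (LocalizedModule z.asIdeal.primeCompl Γ(F, U)))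
  let eX : X → ℕ := fun x => if hx : x ∈ U then
    ENat.toNat (WithBot.unbotD 0 (pdAt (j ⟨x, hx⟩))) else 0
  have key : ∀ (x : X) (hxU : x ∈ U), j ⟨x, hxU⟩ ∈ O → x ∈ CohB1.support F →
      ∃ e c k : ℕ, pdAt (j ⟨x, hxU⟩) = e ∧
        LocCoh.depth (X.presheaf.stalk x) (F.presheaf.stalk x) = c ∧
        topologicalKrullDim ↥(closure ({x} : Set X)) = k ∧ k + e + c = D := by
    intro x hxU hxO hxF
    set q := (hU.primeIdealOf ⟨x, hxU⟩).asIdeal with hq
    letI := stalkModule F U x hxU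
    haveI hlm := isLocalizedModule_germ F hU x hxU
    let eM : LocalizedModule q.primeCompl Γ(F, U) ≃ₗ[Γ(X, U)] F.presheaf.stalk x :=
      IsLocalizedModule.iso q.primeCompl (germₗ F U x hxU)
    haveI : Nontrivial (F.presheaf.stalk x) := not_subsingleton_iff_nontrivial.mp hxF
    have hne : Nontrivial (LocalizedModule q.primeCompl Γ(F, U)) := eM.toEquiv.nontrivial
    obtain ⟨e, c, he, hc, hht⟩ := exists_pd_depth_height hsurj Γ(F, U) q hne
    have hdepth := Groth.Agent.Lib.Helper10.Hartogs.depth_stalk_eq_depth_localized F hU x hxU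
    have h1 := dim_closure_eq_of_isClosedEmbedding h2X h3X (U : Set X) U.2 j hj x hxU
    have h4 := hD (j ⟨x, hxU⟩) hxO
    rw [(hstalkZ (j ⟨x, hxU⟩)).2, ← h1] at h4
    have h5 : (show PrimeSpectrum (MvPolynomial (Fin m) Γ(S, V)) from j ⟨x, hxU⟩).asIdeal.height =
        ((e + c : ℕ) : ℕ∞) := hht
    rw [h5] at h4
    obtain ⟨k, hk, hkD⟩ := exists_nat_of_add_eq (a := topologicalKrullDim ↥(closure ({x} : Set X)))
      (n := e + c) (D := D) (by exact_mod_cast h4)
    exact ⟨e, c, k, he, hdepth.trans hc, hk, by omega⟩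
  have heX : ∀ (x : X) (hxU : x ∈ U) (e : ℕ), pdAt (j ⟨x, hxU⟩) = e → eX x = e := by
    intro x hxU e he
    simp only [eX, dif_pos hxU, he]
    rfl
  refine ⟨Subtype.val '' (j ⁻¹' O), D, eX,
    U.2.isOpenEmbedding_subtypeVal.isOpenMap _ (hO.preimage hj.continuous),
    ⟨⟨x₀, hx₀U⟩, hz₀O, rfl⟩, ?_, ?_⟩
  · rintro _ ⟨⟨x, hxU⟩, hxO, rfl⟩ hxF
    obtain ⟨e, c, k, he, hc, hk, hsum⟩ := key x hxU hxO hxF
    exact ⟨c, k, hc, hk, by rw [heX x hxU e he]; exact hsum⟩
  · rintro _ ⟨⟨x, hxU⟩, hxO, rfl⟩ hxF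
    obtain ⟨e, c, k, he, hc, hk, hsum⟩ := key x hxU hxO hxF
    have hpd : HasProjectiveDimensionLT
        (ModuleCat.of (Localization.AtPrime (j ⟨x, hxU⟩).asIdeal)
          (LocalizedModule (j ⟨x, hxU⟩).asIdeal.primeCompl Γ(F, U))) (e + 1) := by
      rw [← projectiveDimension_lt_iff]
      have : pdAt (j ⟨x, hxU⟩) = e := he
      rw [show projectiveDimension _ = pdAt (j ⟨x, hxU⟩) from rfl, this]
      exact_mod_cast Nat.lt_succ_self e
    obtain ⟨s, hs, hall⟩ := Groth.Agent.Lib.Helper16.PDR.exists_forall_hasProjectiveDimensionLT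
      (j ⟨x, hxU⟩).asIdeal (e + 1) Γ(F, U) hpd
    refine ⟨X.basicOpen (algebraMap (MvPolynomial (Fin m) Γ(S, V)) Γ(X, U) s),
      (X.basicOpen _).2, ?_, ?_⟩
    · change x ∈ X.basicOpen _
      rw [mem_basicOpen_iff_notMem_primeIdealOf hU x hxU]
      exact hs
    · rintro x' hx'W ⟨⟨x'', hx''U⟩, hx''O, hx''eq⟩ hx'F
      have hx'U : x' ∈ U := hx''eq ▸ hx''U
      have hx'O : j ⟨x', hx'U⟩ ∈ O := by
        have : (⟨x'', hx''U⟩ : ↥(U : Set X)) = ⟨x', hx'U⟩ := Subtype.ext hx''eq
        rw [← this]; exact hx''O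
      obtain ⟨e', c', k', he', hc', hk', hsum'⟩ := key x' hx'U hx'O hx'F
      have hns : s ∉ (j ⟨x', hx'U⟩).asIdeal := by
        have := (mem_basicOpen_iff_notMem_primeIdealOf hU x' hx'U _).1 hx'W
        exact this
      have hpd' := hall (j ⟨x', hx'U⟩).asIdeal hns
      rw [← projectiveDimension_lt_iff] at hpd'
      have hpd'' : pdAt (j ⟨x', hx'U⟩) < ((e + 1 : ℕ) : WithBot ℕ∞) := hpd'
      rw [he'] at hpd''
      have hlt : e' < e + 1 := by exact_mod_cast hpd''
      rw [heX x' hx'U e' he', heX x hxU e he]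
      omega

end Chart

end Groth.Agent.Lib.Helper18.RectDepth
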