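import Mathlib.RingTheory.Regular.RegularSequence
import Mathlib.RingTheory.Flat.Equalizer

set_option autoImplicit false

open RingTheory.Sequence Function Pointwise

namespace Groth.Agent.Lib.Helper18

universe u v

section

variable {B : Type u} [CommRing B] (M : Type v) [AddCommGroup M] [Module B M] (fs : List B)

lemma ofList_take_smul_le (i : ℕ) :
    (Ideal.ofList (fs.take i) • (⊤ : Submodule B M)) ≤
      (Ideal.ofList (fs.take (i + 1)) • (⊤ : Submodule B M)) := by
  apply Submodule.smul_mono_left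
  apply Ideal.span_mono
  intro x hx
  exact List.take_subset_take_left (l := fs) (Nat.le_succ i) hx

/-- The projection `M/(f_1..f_i)M → M/(f_1..f_{i+1})M`. -/
def quotTakeSucc (i : ℕ) : (M ⧸ (Ideal.ofList (fs.take i) • (⊤ : Submodule B M))) →ₗ[B]
    (M ⧸ (Ideal.ofList (fs.take (i + 1)) • (⊤ : Submodule B M))) :=
  Submodule.mapQ _ _ LinearMap.id (ofList_take_smul_le M fs i)

lemma quotTakeSucc_surjective (i : ℕ) : Surjective (quotTakeSucc M fs i) := by
  intro q
  obtain ⟨m, rfl⟩ := Submodule.Quotient.mk_surjective _ q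
  exact ⟨Submodule.Quotient.mk m, rfl⟩

lemma ofList_take_succ_smul (i : ℕ) (hi : i < fs.length) :
    (Ideal.ofList (fs.take (i + 1)) • (⊤ : Submodule B M)) =
      (Ideal.ofList (fs.take i) • (⊤ : Submodule B M)) ⊔ fs[i] • (⊤ : Submodule B M) := by
  rw [List.take_succ_eq_append_getElem hi, Ideal.ofList_append, Ideal.ofList_singleton,
    Submodule.sup_smul, Submodule.ideal_span_singleton_smul]

lemma quotTakeSucc_exact (i : ℕ) (hi : i < fs.length) :
    Exact (LinearMap.lsmul B (M ⧸ (Ideal.ofList (fs.take i) • (⊤ : Submodule B M))) fs[i])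
      (quotTakeSucc M fs i) := by
  intro q
  obtain ⟨m, rfl⟩ := Submodule.Quotient.mk_surjective _ q
  constructor
  · intro h
    rw [quotTakeSucc, Submodule.mapQ_apply, LinearMap.id_apply, Submodule.Quotient.mk_eq_zero,
      ofList_take_succ_smul M fs i hi, Submodule.mem_sup] at h
    obtain ⟨m1, hm1, m2, hm2, rfl⟩ := h
    obtain ⟨m3, -, rfl⟩ := (Submodule.mem_smul_pointwise_iff_exists _ _ _).mp hm2
    refine ⟨Submodule.Quotient.mk m3, ?_⟩
    rw [LinearMap.lsmul_apply, ← Submodule.Quotient.mk_smul, eq_comm, ← sub_eq_zero,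
      ← Submodule.Quotient.mk_sub, Submodule.Quotient.mk_eq_zero]
    simpa using hm1
  · rintro ⟨q', hq'⟩
    obtain ⟨m', rfl⟩ := Submodule.Quotient.mk_surjective _ q'
    rw [← hq', LinearMap.lsmul_apply, ← Submodule.Quotient.mk_smul, quotTakeSucc,
      Submodule.mapQ_apply, LinearMap.id_apply, Submodule.Quotient.mk_eq_zero,
      ofList_take_succ_smul M fs i hi]
    exact Submodule.mem_sup_right
      ((Submodule.mem_smul_pointwise_iff_exists _ _ _).mpr ⟨m', Submodule.mem_top, rfl⟩)

end

end Groth.Agent.Lib.Helper18
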