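import Mathlib
import Groth.Prelude.Def_C1
import Groth.Prelude.Def_Pic
import Groth.Agent.Lib.Helper18.RelCartier1
import Groth.Agent.Lib.Helper18.RelGenSum
import Groth.Agent.Lib.Helper18.ModGenSum
import Groth.Agent.Lib.Helper18.SecDiv2
import Groth.Agent.Lib.Helper18.InvStalk

/-!
# Relative effective Cartier divisors: multiplicities along the fibre
-/

set_option autoImplicit false
set_option linter.style.haveILetI false
universe u
open CategoryTheory AlgebraicGeometry TopologicalSpace
open scoped Pointwise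

namespace Groth.Agent.Lib.Helper18.RelCartier

open Groth.Agent.Lib.Helper18.LocStalk Groth.Agent.Lib.Helper18.RelGenSum

variable {X Y : Scheme.{u}}

/-- the prime of a point equal to `y` is the maximal ideal -/
theorem ker_specMap_of_eq (y η : Y) (h : η ⤳ y) (he : η = y) :
    RingHom.ker (Cyc.specMap y η h) = IsLocalRing.maximalIdeal (Y.presheaf.stalk y) := by
  subst he
  rw [ker_specMap_eq]
  ext a
  rw [Ideal.mem_comap, TopCat.Presheaf.stalkSpecializes_refl]
  rfl

/-- a generization of `y` whose prime contains the maximal ideal is `y` -/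
theorem eq_of_maximalIdeal_le_ker (y η : Y) (h : η ⤳ y)
    (hle : IsLocalRing.maximalIdeal (Y.presheaf.stalk y) ≤ RingHom.ker (Cyc.specMap y η h)) :
    η = y := by
  have hmax : RingHom.ker (Cyc.specMap y η h) = IsLocalRing.maximalIdeal (Y.presheaf.stalk y) :=
    ((IsLocalRing.maximalIdeal.isMaximal _).eq_of_le (RingHom.ker_isPrime _).ne_top hle).symm
  have h1 := fromSpecStalk_ker_specMap y η h
  have h2 : Y.fromSpecStalk y (IsLocalRing.closedPoint (Y.presheaf.stalk y)) = y :=
    Scheme.fromSpecStalk_closedPoint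
  calc η = Y.fromSpecStalk y ⟨RingHom.ker (Cyc.specMap y η h), RingHom.ker_isPrime _⟩ := h1.symm
    _ = Y.fromSpecStalk y (IsLocalRing.closedPoint (Y.presheaf.stalk y)) := by
        congr 1
        apply PrimeSpectrum.ext
        exact hmax
    _ = y := h2

variable (p : X ⟶ Y)

/-- generizations in the support of `O_x/𝔪_y O_x` lie in the fibre -/
theorem eq_of_map_le (x ξ : X) (h : ξ ⤳ x)
    (hle : (IsLocalRing.maximalIdeal (Y.presheaf.stalk (p x))).map (p.stalkMap x).hom ≤
      RingHom.ker (Cyc.specMap x ξ h)) : p ξ = p x := by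
  have h' : p ξ ⤳ p x := p.base.hom.map_specializes h
  exact eq_of_maximalIdeal_le_ker (p x) (p ξ) h' (ker_le_of_map_le p x ξ h h' _ hle)

/-- the multiplicity of `O_x/𝔪_y O_x` at a generization in the same fibre -/
theorem length_localizedModule_fibre [IsLocallyNoetherian X] (x ξ : X) (h : ξ ⤳ x)
    (he : p ξ = p x) :
    Module.length (Localization.AtPrime (RingHom.ker (Cyc.specMap x ξ h)))
      (LocalizedModule (RingHom.ker (Cyc.specMap x ξ h)).primeCompl
        (X.presheaf.stalk x ⧸ (IsLocalRing.maximalIdeal (Y.presheaf.stalk (p x))).map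
          (p.stalkMap x).hom)) =
      Module.length (X.presheaf.stalk ξ) (X.presheaf.stalk ξ ⧸
        (IsLocalRing.maximalIdeal (Y.presheaf.stalk (p ξ))).map (p.stalkMap ξ).hom) := by
  have h' : p ξ ⤳ p x := p.base.hom.map_specializes h
  have := length_localizedModule_eq p x ξ h h'
  rw [ker_specMap_of_eq (p x) (p ξ) h' he] at this
  exact this

/-- the multiplicity of `O_x/𝔪_y O_x` at a generization outside the fibre vanishes -/
theorem length_localizedModule_not_fibre (x ξ : X) (h : ξ ⤳ x) (he : p ξ ≠ p x) :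
    Module.length (Localization.AtPrime (RingHom.ker (Cyc.specMap x ξ h)))
      (LocalizedModule (RingHom.ker (Cyc.specMap x ξ h)).primeCompl
        (X.presheaf.stalk x ⧸ (IsLocalRing.maximalIdeal (Y.presheaf.stalk (p x))).map
          (p.stalkMap x).hom)) = 0 := by
  rw [Module.length_eq_zero_iff]
  have hnle : ¬ (IsLocalRing.maximalIdeal (Y.presheaf.stalk (p x))).map (p.stalkMap x).hom ≤
      RingHom.ker (Cyc.specMap x ξ h) := fun hle => he (eq_of_map_le p x ξ h hle)
  obtain ⟨a, haI, haq⟩ := Set.not_subset.mp hnle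
  have haM : ∀ m : X.presheaf.stalk x ⧸ (IsLocalRing.maximalIdeal (Y.presheaf.stalk (p x))).map
      (p.stalkMap x).hom, a • m = 0 := by
    intro m
    obtain ⟨b, rfl⟩ := Ideal.Quotient.mk_surjective m
    change Ideal.Quotient.mk _ (a * b) = 0
    rw [Ideal.Quotient.eq_zero_iff_mem]
    exact Ideal.mul_mem_right _ _ haI
  refine ⟨fun z w => ?_⟩
  have hz : ∀ z : LocalizedModule (RingHom.ker (Cyc.specMap x ξ h)).primeCompl
        (X.presheaf.stalk x ⧸ (IsLocalRing.maximalIdeal (Y.presheaf.stalk (p x))).map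
          (p.stalkMap x).hom), z = 0 := by
    intro z
    induction z using LocalizedModule.induction_on with
    | h m s =>
      rw [← LocalizedModule.zero_mk s, LocalizedModule.mk_eq]
      refine ⟨⟨a, haq⟩, ?_⟩
      rw [smul_zero, smul_zero]
      exact haM _
  rw [hz z, hz w]

/-- the dimension bound on the support of `O_x/𝔪_y O_x` -/
theorem hdim_fibre [LocallyOfFiniteType p] (δX : X → ℤ) (δY : Y → ℤ) (hX : Cyc.IsSetup X δX)
    (hδ : Cyc.DeltaCompat p δX δY) (r : ℕ) (hr : Cyc.HasRelDim p (r + 1)) (x : X)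
    (hx : δX x = δY (p x) + r) :
    ∀ q ∈ Module.support (X.presheaf.stalk x)
      (X.presheaf.stalk x ⧸ (IsLocalRing.maximalIdeal (Y.presheaf.stalk (p x))).map
          (p.stalkMap x).hom), δX (X.fromSpecStalk x q) ≤ δX x + 1 := by
  intro q hq
  rw [Module.mem_support_iff_of_finite, Ideal.annihilator_quotient] at hq
  have hs : X.fromSpecStalk x q ⤳ x := fromSpecStalk_specializes x q
  have hqe := eq_ker_specMap_of_fromSpecStalk_eq x _ hs q rfl
  have hle : (IsLocalRing.maximalIdeal (Y.presheaf.stalk (p x))).map (p.stalkMap x).hom ≤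
      RingHom.ker (Cyc.specMap x (X.fromSpecStalk x q) hs) := by
    have : q.asIdeal = RingHom.ker (Cyc.specMap x (X.fromSpecStalk x q) hs) :=
      congrArg PrimeSpectrum.asIdeal hqe
    rw [← this]
    exact hq
  have he := eq_of_map_le p x _ hs hle
  have hb := delta_le' p δX δY hX hδ (r + 1) hr (X.fromSpecStalk x q)
  rw [he] at hb
  push_cast at hb
  omega

end Groth.Agent.Lib.Helper18.RelCartier
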