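import Mathlib
import Groth.Prelude.Def_C1
import Groth.Prelude.Def_Pic
import Groth.Agent.Lib.Helper18.RelCartier2

/-!
# Relative effective Cartier divisors: `i^* p^* α = (p|_D)^* α` coefficientwise
-/

set_option autoImplicit false
set_option linter.style.haveILetI false
universe u
open CategoryTheory AlgebraicGeometry TopologicalSpace
open scoped Pointwise

namespace Groth.Agent.Lib.Helper18.RelCartier

variable {X Y D : Scheme.{u}}

/-- coefficients of a section on two generators of an invertible stalk generate the same ideal -/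
theorem span_singleton_eq {L : X.Modules} (hL : PicF.IsInvertible L) (x : X)
    (t t' : L.presheaf.stalk x) (f f' : X.presheaf.stalk x)
    (ht : Submodule.span (X.presheaf.stalk x) {t} = ⊤)
    (ht' : Submodule.span (X.presheaf.stalk x) {t'} = ⊤) (h : f • t = f' • t') :
    Ideal.span {f'} = Ideal.span {f} := by
  have h1 : t' ∈ Submodule.span (X.presheaf.stalk x) {t} := by rw [ht]; trivial
  have h2 : t ∈ Submodule.span (X.presheaf.stalk x) {t'} := by rw [ht']; trivial
  obtain ⟨u, hu⟩ := Submodule.mem_span_singleton.mp h1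
  obtain ⟨v, hv⟩ := Submodule.mem_span_singleton.mp h2
  have e1 : f = f' * u := by
    have : (f - f' * u) • t = 0 := by
      rw [sub_smul, mul_smul, hu, h, sub_self]
    have := Groth.Agent.Lib.Helper18.InvStalk.free_of_generator hL x t ht _ this
    exact sub_eq_zero.mp this
  have e2 : f' = f * v := by
    have : (f' - f * v) • t' = 0 := by
      rw [sub_smul, mul_smul, hv, h, sub_self]
    have := Groth.Agent.Lib.Helper18.InvStalk.free_of_generator hL x t' ht' _ this
    exact sub_eq_zero.mp this
  apply le_antisymm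
  · rw [Ideal.span_singleton_le_span_singleton]
    exact ⟨v, e2⟩
  · rw [Ideal.span_singleton_le_span_singleton]
    exact ⟨u, e1⟩

open Classical in
/-- the Gysin pullback of a flat pullback along a relative effective Cartier divisor is the flat
pullback along the divisor, coefficientwise -/
theorem gysin_pull_pointwise (δX : X → ℤ) (δY : Y → ℤ) (hX : Cyc.IsSetup X δX)
    (hY : Cyc.IsSetup Y δY) (p : X ⟶ Y) [Flat p] [LocallyOfFiniteType p] (r : ℕ)
    (hr : Cyc.HasRelDim p (r + 1)) (hδ : Cyc.DeltaCompat p δX δY) (L : X.Modules)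
    (hL : PicF.IsInvertible L) (s : L.presheaf.obj (Opposite.op ⊤))
    (hreg : ∀ x : X, Function.Injective
      (fun a : X.presheaf.stalk x => a • (L.presheaf.germ ⊤ x trivial) s))
    (i : D ⟶ X) [IsClosedImmersion i] (hD : Cyc.IsZeroSchemeOf i L s) [Flat (i ≫ p)]
    (hrD : Cyc.HasRelDim (i ≫ p) r) (α : Y → ℤ) (w : (ξ : X) → Cyc.secFibre L ξ) (d : D) :
    Cyc.c1CapFun δX L (Cyc.pullFun p δX δY (r + 1) α) (Cyc.gysinChoice L s w) (i d) =
      Cyc.pullFun (i ≫ p) (fun d => δX (i d)) δY r α d := by
  haveI := hX.1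
  have hbound := delta_le i p δX δY hX hδ r hrD d
  have hfib : ∀ ξ : X, ξ ⤳ i d → p ξ ≠ p (i d) → δY (p (i d)) < δY (p ξ) := by
    intro ξ h hne
    exact (hY.2.2 (p ξ) (p (i d)) (p.base.hom.map_specializes h) hne).1
  by_cases hk : δX (i d) = δY (p (i d)) + r
  · obtain ⟨t', f', ht', hf', hker'⟩ := hD.2 d
    have ht : ∃ t : L.presheaf.stalk (i d), Submodule.span (X.presheaf.stalk (i d)) {t} = ⊤ :=
      ⟨t', ht'⟩
    have hts := Classical.choose_spec ht
    have hmem : (L.presheaf.germ ⊤ (i d) trivial) s ∈
        Submodule.span (X.presheaf.stalk (i d)) {Classical.choose ht} := by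
      rw [hts]; trivial
    obtain ⟨f, hf0⟩ := Submodule.mem_span_singleton.mp hmem
    have hf : (L.presheaf.germ ⊤ (i d) trivial) s = f • Classical.choose ht := hf0.symm
    have hspan : Ideal.span {f'} = Ideal.span {f} :=
      span_singleton_eq hL (i d) (Classical.choose ht) t' f f' hts ht' (hf.symm.trans hf')
    have hker : RingHom.ker (i.stalkMap d).hom = Ideal.span {f} := hker'.trans hspan
    have hσ : Function.Surjective (i.stalkMap d).hom := i.stalkMap_surjective d
    have hfreg : IsSMulRegular (X.presheaf.stalk (i d)) f := by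
      intro a b hab
      apply hreg (i d)
      change a • (L.presheaf.germ ⊤ (i d) trivial) s = b • (L.presheaf.germ ⊤ (i d) trivial) s
      rw [hf, smul_smul, smul_smul]
      have hab' : f * a = f * b := hab
      rw [mul_comm a, mul_comm b, hab']
    have hcomp : ((i ≫ p).stalkMap d).hom = (i.stalkMap d).hom.comp (p.stalkMap (i d)).hom := by
      rw [Scheme.Hom.stalkMap_comp]; rfl
    have hfl : ((i.stalkMap d).hom.comp (p.stalkMap (i d)).hom).Flat := by
      rw [← hcomp]; exact Flat.stalkMap (i ≫ p) d
    letI : Algebra (Y.presheaf.stalk (p (i d))) (X.presheaf.stalk (i d)) :=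
      (p.stalkMap (i d)).hom.toAlgebra
    haveI : Module.Flat (Y.presheaf.stalk (p (i d))) (X.presheaf.stalk (i d) ⧸ Ideal.span {f}) :=
      flat_quot (p.stalkMap (i d)).hom (i.stalkMap d).hom hσ f hker hfl
    have hMreg : IsSMulRegular (X.presheaf.stalk (i d) ⧸
        (IsLocalRing.maximalIdeal (Y.presheaf.stalk (p (i d)))).map (p.stalkMap (i d)).hom) f :=
      Groth.Agent.Lib.Helper18.FlatQuotReg.isSMulRegular_quot_map f hfreg
        (IsLocalRing.maximalIdeal (Y.presheaf.stalk (p (i d))))
    have hd := hdim_fibre p δX δY hX hδ r hr (i d) hk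
    have hsum := Groth.Agent.Lib.Helper18.ModGenSum.length_quot_eq_finsum_generizations δX hX.2.2
      (i d) (X.presheaf.stalk (i d) ⧸
        (IsLocalRing.maximalIdeal (Y.presheaf.stalk (p (i d)))).map (p.stalkMap (i d)).hom)
      hd f hMreg
    have hlen := length_quot_map (p.stalkMap (i d)).hom (i.stalkMap d).hom hσ f hker
      (IsLocalRing.maximalIdeal (Y.presheaf.stalk (p (i d))))
    have hlen' : Module.length (D.presheaf.stalk d) (D.presheaf.stalk d ⧸
        Ideal.map ((i ≫ p).stalkMap d).hom
          (IsLocalRing.maximalIdeal (Y.presheaf.stalk ((i ≫ p) d)))) =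
        Module.length (X.presheaf.stalk (i d)) ((X.presheaf.stalk (i d) ⧸
          (IsLocalRing.maximalIdeal (Y.presheaf.stalk (p (i d)))).map (p.stalkMap (i d)).hom) ⧸
          f • (⊤ : Submodule (X.presheaf.stalk (i d)) (X.presheaf.stalk (i d) ⧸
          (IsLocalRing.maximalIdeal (Y.presheaf.stalk (p (i d)))).map
            (p.stalkMap (i d)).hom))) := by
      rw [hcomp]; exact hlen
    have hR : Cyc.pullFun (i ≫ p) (fun d => δX (i d)) δY r α d = α (p (i d)) *
        ((Module.length (X.presheaf.stalk (i d)) ((X.presheaf.stalk (i d) ⧸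
          (IsLocalRing.maximalIdeal (Y.presheaf.stalk (p (i d)))).map (p.stalkMap (i d)).hom) ⧸
          f • (⊤ : Submodule (X.presheaf.stalk (i d)) (X.presheaf.stalk (i d) ⧸
          (IsLocalRing.maximalIdeal (Y.presheaf.stalk (p (i d)))).map
            (p.stalkMap (i d)).hom)))).toNat : ℤ) := by
      have hk' : (fun d => δX (i d)) d = δY ((i ≫ p) d) + (r : ℤ) := hk
      unfold Cyc.pullFun
      rw [if_pos hk', hlen']
      rfl
    rw [hR, hsum, ← smul_eq_mul, smul_finsum]
    unfold Cyc.c1CapFun
    apply finsum_congr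
    intro ξ
    unfold Cyc.secDivFun
    by_cases hc : ξ ⤳ i d ∧ δX (i d) + 1 = δX ξ
    · rw [dif_pos hc, dif_pos hc]
      by_cases he : p ξ = p (i d)
      · have hnD : (Submodule.Quotient.mk ((L.presheaf.germ ⊤ ξ trivial) s) :
            Cyc.secFibre L ξ) ≠ 0 := by
          intro h0
          have hmem : ξ ∈ Set.range ⇑i := by rw [hD.1]; exact h0
          obtain ⟨d', hd'⟩ := hmem
          have hb' := delta_le i p δX δY hX hδ r hrD d'
          rw [hd'] at hb'
          have := congrArg δY he
          omega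
        have hg : Cyc.gysinChoice L s w ξ =
            Submodule.Quotient.mk ((L.presheaf.germ ⊤ ξ trivial) s) := by
          unfold Cyc.gysinChoice
          rw [if_pos hnD]
        rw [hg, Groth.Agent.Lib.Helper18.SecDiv.secOrdAt_germ_eq δX hX L s (i d) ξ hc.1 hc.2 ht f
          hf hnD, length_localizedModule_fibre p (i d) ξ hc.1 he]
        have hα : α (p ξ) = α (p (i d)) := congrArg α he
        have hδe : δY (p ξ) = δY (p (i d)) := congrArg δY he
        unfold Cyc.pullFun
        rw [if_pos (by omega), hα, smul_eq_mul, mul_assoc]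
      · rw [length_localizedModule_not_fibre p (i d) ξ hc.1 he]
        have hlt := hfib ξ hc.1 he
        unfold Cyc.pullFun
        rw [if_neg (by omega)]
        simp
    · rw [dif_neg hc, dif_neg hc, mul_zero, smul_zero]
  · have hR : Cyc.pullFun (i ≫ p) (fun d => δX (i d)) δY r α d = 0 := by
      have hk' : ¬ ((fun d => δX (i d)) d = δY ((i ≫ p) d) + (r : ℤ)) := hk
      unfold Cyc.pullFun
      rw [if_neg hk']
    rw [hR]
    unfold Cyc.c1CapFun
    apply finsum_eq_zero_of_forall_eq_zero
    intro ξ
    unfold Cyc.secDivFun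
    by_cases hc : ξ ⤳ i d ∧ δX (i d) + 1 = δX ξ
    · have h0 : Cyc.pullFun p δX δY (r + 1) α ξ = 0 := by
        unfold Cyc.pullFun
        rw [if_neg]
        intro hcond
        by_cases he : p ξ = p (i d)
        · have := congrArg δY he
          omega
        · have := hfib ξ hc.1 he
          omega
      rw [h0, zero_mul]
    · rw [dif_neg hc, mul_zero]

end Groth.Agent.Lib.Helper18.RelCartier
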