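import Mathlib
import Groth.Prelude.Def_Cyc
import Groth.Agent.Lib.Helper18.SP5
import Groth.Agent.Lib.Helper18.AB2

/-!
# Specialization of cycles as a divisor of the uniformizer
-/

set_option autoImplicit false
set_option linter.unusedSectionVars false
set_option linter.style.haveILetI false
universe u
open AlgebraicGeometry CategoryTheory TopologicalSpace Limits

namespace Groth.Agent.Lib.Helper18.SF1

open Groth.Agent.Lib.Helper18.SP1 Groth.Agent.Lib.Helper18.SP2 Groth.Agent.Lib.Helper18.SP3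
  Groth.Agent.Lib.Helper18.SP4

variable (R : Type u) [CommRing R] [IsDomain R] [IsDiscreteValuationRing R] (ϖR : R)

/-- the germ of an element of `R` -/
noncomputable def unifS (t : ↥(Spec (CommRingCat.of R))) :
    ↑((Spec (CommRingCat.of R)).presheaf.stalk t) :=
  (StructureSheaf.toStalk R t).hom ϖR

theorem stalkSpecializes_unifS {t t' : ↥(Spec (CommRingCat.of R))} (h : t ⤳ t') :
    ((Spec (CommRingCat.of R)).presheaf.stalkSpecializes h).hom (unifS R ϖR t') =
      unifS R ϖR t := by
  have := StructureSheaf.toStalk_stalkSpecializes (R := R) (x := t) (y := t') h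
  exact congrArg (fun φ => φ.hom ϖR) this

/-- the germ of a uniformizer generates the maximal ideal at the closed point -/
theorem maximalIdeal_eq_span_unifS (hϖR : Irreducible ϖR) (t : ↥(Spec (CommRingCat.of R)))
    (ht : t.asIdeal = IsLocalRing.maximalIdeal R) :
    IsLocalRing.maximalIdeal ((Spec (CommRingCat.of R)).presheaf.stalk t) =
      Ideal.span {unifS R ϖR t} := by
  letI alg : Algebra R ↑((Spec (CommRingCat.of R)).presheaf.stalk t) :=
    StructureSheaf.stalkAlgebra R t
  haveI : t.asIdeal.IsPrime := t.isPrime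
  haveI loc : IsLocalization.AtPrime (↑((Spec (CommRingCat.of R)).presheaf.stalk t)) t.asIdeal :=
    StructureSheaf.IsLocalization.to_stalk R t
  have hunits : t.asIdeal.primeCompl ≤ IsUnit.submonoid R := by
    intro r hr
    have : r ∉ IsLocalRing.maximalIdeal R := by rw [← ht]; exact hr
    exact (IsLocalRing.notMem_maximalIdeal.mp this)
  let e : R ≃ₐ[R] ↑((Spec (CommRingCat.of R)).presheaf.stalk t) :=
    IsLocalization.atUnits R t.asIdeal.primeCompl hunits
  have hbij : Function.Bijective (e : R →+* ↑((Spec (CommRingCat.of R)).presheaf.stalk t)) :=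
    e.bijective
  have he : e ϖR = unifS R ϖR t := by
    have h1 := e.commutes ϖR
    rw [Algebra.algebraMap_self_apply] at h1
    rw [h1]
    rfl
  rw [← Groth.Agent.Lib.Helper18.AB7.map_maximalIdeal_of_bijective
    (e : R →+* ↑((Spec (CommRingCat.of R)).presheaf.stalk t)) hbij,
    hϖR.maximalIdeal_eq, Ideal.map_span, Set.image_singleton, ← he]
  rfl

/-- the germ of a nonzero element is a unit at the generic point -/
theorem isUnit_unifS (h0 : ϖR ≠ 0) (t : ↥(Spec (CommRingCat.of R))) (ht : t.asIdeal = ⊥) :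
    IsUnit (unifS R ϖR t) := by
  letI alg : Algebra R ↑((Spec (CommRingCat.of R)).presheaf.stalk t) :=
    StructureSheaf.stalkAlgebra R t
  haveI : t.asIdeal.IsPrime := t.isPrime
  haveI loc : IsLocalization.AtPrime (↑((Spec (CommRingCat.of R)).presheaf.stalk t)) t.asIdeal :=
    StructureSheaf.IsLocalization.to_stalk R t
  have hrm : ϖR ∈ t.asIdeal.primeCompl := by
    show ϖR ∉ t.asIdeal
    rw [ht]
    exact h0
  exact IsLocalization.map_units (↑((Spec (CommRingCat.of R)).presheaf.stalk t)) ⟨ϖR, hrm⟩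

variable {X : Scheme.{u}} (a : X ⟶ Spec (CommRingCat.of R))

/-- the image of an element of `R` in the residue fields of an `R`-scheme -/
noncomputable def unif (t : X) : X.residueField t :=
  (X.residue t).hom ((a.stalkMap t).hom (unifS R ϖR (a t)))

theorem specMap_unif (x ξ : X) (h : ξ ⤳ x) :
    Cyc.specMap x ξ h ((a.stalkMap x).hom (unifS R ϖR (a x))) = unif R ϖR a ξ := by
  unfold Cyc.specMap unif
  have h1 := Scheme.Hom.stalkSpecializes_stalkMap_apply a ξ x h (unifS R ϖR (a x))
  rw [stalkSpecializes_unifS] at h1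
  change (X.residue ξ).hom ((X.presheaf.stalkSpecializes h).hom
    ((a.stalkMap x).hom (unifS R ϖR (a x)))) = _
  rw [← h1]

theorem residueFieldMap_unif {X' : Scheme.{u}} (f : X' ⟶ X) (ξ' : X') :
    (f.residueFieldMap ξ').hom (unif R ϖR a (f ξ')) = unif R ϖR (f ≫ a) ξ' := by
  unfold unif
  have h1 := Scheme.residue_residueFieldMap f ξ'
  have h2 : (f.residueFieldMap ξ').hom ((X.residue (f ξ')).hom
      ((a.stalkMap (f ξ')).hom (unifS R ϖR (a (f ξ'))))) =
      (X'.residue ξ').hom ((f.stalkMap ξ').hom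
        ((a.stalkMap (f ξ')).hom (unifS R ϖR (a (f ξ'))))) :=
    congrArg (fun φ => φ.hom ((a.stalkMap (f ξ')).hom (unifS R ϖR (a (f ξ'))))) h1
  rw [h2]
  have hcomp : (f ≫ a).stalkMap ξ' = a.stalkMap (f ξ') ≫ f.stalkMap ξ' :=
    Scheme.Hom.stalkMap_comp f a ξ'
  rw [hcomp]
  rfl

theorem unif_ne_zero (h0 : ϖR ≠ 0) (ξ : X)
    (hξ : a ξ = genericPoint ↥(Spec (CommRingCat.of R))) : unif R ϖR a ξ ≠ 0 := by
  have ht : (a ξ).asIdeal = ⊥ := by rw [hξ]; exact genericPoint_asIdeal R
  have hu := isUnit_unifS R ϖR h0 (a ξ) ht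
  have hu2 : IsUnit (unif R ϖR a ξ) := by
    unfold unif
    exact (hu.map (a.stalkMap ξ).hom).map (X.residue ξ).hom
  exact hu2.ne_zero

variable [LocallyOfFiniteType a]
  (δη : ↥(a.fiber (genericPoint ↥(Spec (CommRingCat.of R)))) → ℤ)
  (δs : ↥(a.fiber (IsLocalRing.closedPoint R)) → ℤ)
  (hδη : Cyc.DeltaCompat (a.fiberToSpecResidueField (genericPoint ↥(Spec (CommRingCat.of R)))) δη
    (fun _ => 0))
  (hδs : Cyc.DeltaCompat (a.fiberToSpecResidueField (IsLocalRing.closedPoint R)) δs (fun _ => 0))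

include hδη hδs in
/-- the multiplicity in the specialization is the order of the uniformizer -/
theorem length_eq_divFun (hϖR : Irreducible ϖR) (r : ℤ)
    (x : ↥(a.fiber (IsLocalRing.closedPoint R))) (hx : δs x = r)
    (ζ : ↥(a.fiber (genericPoint ↥(Spec (CommRingCat.of R))))) (hζ : δη ζ = r)
    (h : a.fiberι (genericPoint ↥(Spec (CommRingCat.of R))) ζ ⤳
      a.fiberι (IsLocalRing.closedPoint R) x) :
    ((Module.length (X.presheaf.stalk (a.fiberι (IsLocalRing.closedPoint R) x))
      (Cyc.LocQuot (a.fiberι (IsLocalRing.closedPoint R) x)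
          (a.fiberι (genericPoint ↥(Spec (CommRingCat.of R))) ζ) h ⧸
        (IsLocalRing.maximalIdeal ((Spec (CommRingCat.of R)).presheaf.stalk
          (a (a.fiberι (IsLocalRing.closedPoint R) x)))).map
          ((Ideal.Quotient.mk (RingHom.ker (Cyc.specMap (a.fiberι (IsLocalRing.closedPoint R) x)
            (a.fiberι (genericPoint ↥(Spec (CommRingCat.of R))) ζ) h))).comp
            (a.stalkMap (a.fiberι (IsLocalRing.closedPoint R) x)).hom))).toNat : ℤ) =
    Cyc.divFun (δX R a) (a.fiberι (genericPoint ↥(Spec (CommRingCat.of R))) ζ)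
      (unif R ϖR a (a.fiberι (genericPoint ↥(Spec (CommRingCat.of R))) ζ))
      (a.fiberι (IsLocalRing.closedPoint R) x) := by
  have hax' : a (a.fiberι (IsLocalRing.closedPoint R) x) = IsLocalRing.closedPoint R :=
    map_fiberι R a _ x
  have ht : (a (a.fiberι (IsLocalRing.closedPoint R) x)).asIdeal = IsLocalRing.maximalIdeal R := by
    rw [hax']; rfl
  have hϖ := maximalIdeal_eq_span_unifS R ϖR hϖR _ ht
  have hd : δX R a (a.fiberι (IsLocalRing.closedPoint R) x) + 1 =
      δX R a (a.fiberι (genericPoint ↥(Spec (CommRingCat.of R))) ζ) := by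
    rw [δX_closed R a δs hδs x, δX_generic R a δη hδη ζ, hx, hζ]
  rw [length_locQuot R a _ _ h _ hϖ]
  unfold Cyc.divFun
  rw [dif_pos ⟨h, hd⟩]
  have hne : unif R ϖR a (a.fiberι (genericPoint ↥(Spec (CommRingCat.of R))) ζ) ≠ 0 :=
    unif_ne_zero R ϖR a hϖR.ne_zero _ (map_fiberι R a _ ζ)
  rw [← specMap_unif R ϖR a _ _ h] at hne ⊢
  rw [Groth.Agent.Lib.Helper18.AB2.ordAt_specMap (δX R a) (isSetup_δX R a) _ _ h hd _ hne]

include hδη hδs in
/-- **specialization is the divisor of the uniformizer** -/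
theorem spFun_eq_divFun (hϖR : Irreducible ϖR) (r : ℤ)
    (α : ↥(a.fiber (genericPoint ↥(Spec (CommRingCat.of R)))) → ℤ)
    (x : ↥(a.fiber (IsLocalRing.closedPoint R))) :
    Cyc.spFun a (genericPoint ↥(Spec (CommRingCat.of R))) (IsLocalRing.closedPoint R) δη δs r α x =
      if δs x = r then
        ∑ᶠ ζ : {ζ : ↥(a.fiber (genericPoint ↥(Spec (CommRingCat.of R)))) // δη ζ = r ∧
          a.fiberι (genericPoint ↥(Spec (CommRingCat.of R))) ζ ⤳
            a.fiberι (IsLocalRing.closedPoint R) x},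
          α ζ.1 * Cyc.divFun (δX R a) (a.fiberι (genericPoint ↥(Spec (CommRingCat.of R))) ζ.1)
            (unif R ϖR a (a.fiberι (genericPoint ↥(Spec (CommRingCat.of R))) ζ.1))
            (a.fiberι (IsLocalRing.closedPoint R) x)
      else 0 := by
  unfold Cyc.spFun
  by_cases hx : δs x = r
  · rw [if_pos hx, if_pos hx]
    apply finsum_congr
    intro ζ
    rw [length_eq_divFun R ϖR a δη δs hδη hδs hϖR r x hx ζ.1 ζ.2.1 ζ.2.2]
  · rw [if_neg hx, if_neg hx]

end Groth.Agent.Lib.Helper18.SF1
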