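import Mathlib
import Groth.Prelude.Def_Cyc
import Groth.Agent.Lib.Helper18.SF1
import Groth.Agent.Lib.Helper18.FF6
import Groth.Agent.Lib.Helper18.EP2
import Groth.Agent.Lib.Helper18.FlatPullRat
import Groth.Agent.Lib.Helper18.FlatShift
import Groth.Agent.Lib.Helper18.RelDimShift

/-!
# Maps of fibres induced by a morphism over a base: multiplicities, finiteness
-/

set_option autoImplicit false
set_option linter.unusedSectionVars false
set_option linter.style.haveILetI false
universe u
open AlgebraicGeometry CategoryTheory TopologicalSpace Limits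

namespace Groth.Agent.Lib.Helper18.SF2

section Alg

theorem map_comp_eq {A B C : Type u} [CommRing A] [CommRing B] [CommRing C] (σ : C →+* A)
    (ψ : A →+* B) (g : C →+* B) (hg : g = ψ.comp σ) (I : Ideal C) (I' : Ideal A)
    (hI : I.map σ = I') : I.map g = I'.map ψ := by
  subst hg
  rw [← Ideal.map_map, hI]

theorem map_comp_le {A B C : Type u} [CommRing A] [CommRing B] [CommRing C] (σ : C →+* A)
    (ψ : A →+* B) (g : C →+* B) (hg : g = ψ.comp σ) (I : Ideal C) (I' : Ideal A)
    (hI : I.map σ ≤ I') : I.map g ≤ I'.map ψ := by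
  subst hg
  rw [← Ideal.map_map]
  exact Ideal.map_mono hI

end Alg

section Square

/-- the multiplicity of a morphism induced on closed fibre-like subschemes -/
theorem multN_of_square {P Q X' X : Scheme.{u}} (q : P ⟶ Q) (i' : P ⟶ X') (i : Q ⟶ X)
    (f : X' ⟶ X) (hsq : q ≫ i = i' ≫ f) (z' : P)
    (hi' : Function.Surjective (i'.stalkMap z').hom)
    (hker : RingHom.ker (i'.stalkMap z').hom ≤ Ideal.map (f.stalkMap (i' z')).hom
      (IsLocalRing.maximalIdeal (X.presheaf.stalk (f (i' z')))))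
    (hi : Function.Surjective (i.stalkMap (q z')).hom) :
    FF6.multN q z' = FF6.multN f (i' z') := by
  let J : (P ⟶ X) → Ideal (P.presheaf.stalk z') := fun g =>
    Ideal.map (g.stalkMap z').hom (IsLocalRing.maximalIdeal (X.presheaf.stalk (g z')))
  have hJ : J (q ≫ i) = J (i' ≫ f) := by rw [hsq]
  have h1 : J (q ≫ i) = Ideal.map (q.stalkMap z').hom
      (IsLocalRing.maximalIdeal (Q.presheaf.stalk (q z'))) := by
    have hcomp : (q ≫ i).stalkMap z' = i.stalkMap (q z') ≫ q.stalkMap z' :=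
      Scheme.Hom.stalkMap_comp q i z'
    exact map_comp_eq (i.stalkMap (q z')).hom (q.stalkMap z').hom ((q ≫ i).stalkMap z').hom
      (by rw [hcomp]; rfl) _ _ (IsLocalRing.map_maximalIdeal_of_surjective _ hi)
  have h2 : J (i' ≫ f) = Ideal.map (i'.stalkMap z').hom (Ideal.map (f.stalkMap (i' z')).hom
      (IsLocalRing.maximalIdeal (X.presheaf.stalk (f (i' z'))))) := by
    have hcomp : (i' ≫ f).stalkMap z' = f.stalkMap (i' z') ≫ i'.stalkMap z' :=
      Scheme.Hom.stalkMap_comp i' f z'
    exact map_comp_eq (f.stalkMap (i' z')).hom (i'.stalkMap z').hom ((i' ≫ f).stalkMap z').hom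
      (by rw [hcomp]; rfl) _ _ rfl
  unfold FF6.multN
  congr 1
  rw [← h1, hJ, h2, Groth.Agent.Lib.Helper18.EP2.length_quot_map_of_surjective _ hi',
    sup_eq_left.mpr hker]

end Square

section FibMap

variable {X' X S : Scheme.{u}} (f : X' ⟶ X) (b : X ⟶ S) (y : S)

/-- the morphism of fibres induced by a morphism over the base -/
noncomputable abbrev fy : (f ≫ b).fiber y ⟶ b.fiber y :=
  pullback.map (f ≫ b) (S.fromSpecResidueField y) b (S.fromSpecResidueField y) f (𝟙 _) (𝟙 _)
    (Category.comp_id _) ((Category.comp_id _).trans (Category.id_comp _).symm)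

theorem fy_fiberι : fy f b y ≫ b.fiberι y = (f ≫ b).fiberι y ≫ f :=
  pullback.lift_fst _ _ _

theorem fy_apply (z' : ↥((f ≫ b).fiber y)) :
    b.fiberι y (fy f b y z') = f ((f ≫ b).fiberι y z') := by
  have h : (fy f b y ≫ b.fiberι y) z' = ((f ≫ b).fiberι y ≫ f) z' := by rw [fy_fiberι]
  exact h

theorem multN_fy (z' : ↥((f ≫ b).fiber y)) :
    FF6.multN (fy f b y) z' = FF6.multN f ((f ≫ b).fiberι y z') := by
  obtain ⟨hsurj', hker'⟩ := Groth.Agent.S9501.result (f ≫ b) y z'
  obtain ⟨hsurj, -⟩ := Groth.Agent.S9501.result b y (fy f b y z')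
  refine multN_of_square (fy f b y) ((f ≫ b).fiberι y) (b.fiberι y) f (fy_fiberι f b y) z'
    hsurj' ?_ hsurj
  rw [hker']
  have hcomp : (f ≫ b).stalkMap ((f ≫ b).fiberι y z') =
      b.stalkMap (f ((f ≫ b).fiberι y z')) ≫ f.stalkMap ((f ≫ b).fiberι y z') :=
    Scheme.Hom.stalkMap_comp f b _
  exact map_comp_le (b.stalkMap (f ((f ≫ b).fiberι y z'))).hom
    (f.stalkMap ((f ≫ b).fiberι y z')).hom ((f ≫ b).stalkMap ((f ≫ b).fiberι y z')).hom
    (by rw [hcomp]; rfl) _ _
    (IsLocalRing.map_maximalIdeal_le (b.stalkMap (f ((f ≫ b).fiberι y z'))).hom)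

end FibMap

end Groth.Agent.Lib.Helper18.SF2
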