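import Mathlib
import Groth.Prelude.Def_Cyc
import Groth.Agent.Lib.Helper18.SF2
import Groth.Agent.Lib.Helper18.KF14
import Groth.Agent.Lib.Helper18.PullSec2
import Groth.Agent.Lib.Helper18.FibreFin
import Groth.Agent.Lib.Helper18.FF8

/-!
# Specialization of cycles commutes with flat pullback
-/

set_option autoImplicit false
set_option linter.unusedSectionVars false
set_option linter.style.haveILetI false
universe u
open AlgebraicGeometry CategoryTheory TopologicalSpace Limits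

namespace Groth.Agent.Lib.Helper18.SF3

open Groth.Agent.Lib.Helper18.SP1 Groth.Agent.Lib.Helper18.SP2 Groth.Agent.Lib.Helper18.SP3
  Groth.Agent.Lib.Helper18.SP4 Groth.Agent.Lib.Helper18.SF1 Groth.Agent.Lib.Helper18.SF2

variable (R : Type u) [CommRing R] [IsDomain R] [IsDiscreteValuationRing R] (ϖR : R)
  {X' X : Scheme.{u}} (b : X ⟶ Spec (CommRingCat.of R)) [LocallyOfFiniteType b]
  (f : X' ⟶ X) [Flat f] [LocallyOfFiniteType f] (e : ℕ) (he : Cyc.HasRelDim f e)


theorem hcompat : Cyc.DeltaCompat f (δX R (f ≫ b)) (δX R b) :=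
  Groth.Agent.Lib.Helper18.FF8.deltaCompat_cancel f b _ _ (δS R) (deltaCompat_δX R (f ≫ b))
    (deltaCompat_δX R b)

include he in
theorem hshift (x' : X') (hmax : ∀ y, f y = f x' → y ⤳ x' → y = x') :
    δX R (f ≫ b) x' = δX R b (f x') + (e : ℤ) :=
  Groth.Agent.Lib.Helper18.RelDimShift.shift_of_hasRelDim f _ _ e he (hcompat R b f) x' hmax

variable (δX'η : ↥((f ≫ b).fiber (genericPoint ↥(Spec (CommRingCat.of R)))) → ℤ) (δX's : ↥((f ≫ b).fiber (IsLocalRing.closedPoint R)) → ℤ)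
  (δXη : ↥(b.fiber (genericPoint ↥(Spec (CommRingCat.of R)))) → ℤ) (δXs : ↥(b.fiber (IsLocalRing.closedPoint R)) → ℤ)
  (h1 : Cyc.DeltaCompat ((f ≫ b).fiberToSpecResidueField (genericPoint ↥(Spec (CommRingCat.of R)))) δX'η (fun _ => 0))
  (h2 : Cyc.DeltaCompat ((f ≫ b).fiberToSpecResidueField (IsLocalRing.closedPoint R)) δX's (fun _ => 0))
  (h3 : Cyc.DeltaCompat (b.fiberToSpecResidueField (genericPoint ↥(Spec (CommRingCat.of R)))) δXη (fun _ => 0))
  (h4 : Cyc.DeltaCompat (b.fiberToSpecResidueField (IsLocalRing.closedPoint R)) δXs (fun _ => 0))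
  (r : ℤ) (α : AlgebraicCycle (b.fiber (genericPoint ↥(Spec (CommRingCat.of R)))) ℤ) (hα : α ∈ Cyc.Zk (b.fiber (genericPoint ↥(Spec (CommRingCat.of R)))) δXη r)

/-- the terms of the pulled back specialization -/
noncomputable def cfun (x't : X') (ζ' : ↥((f ≫ b).fiber (genericPoint ↥(Spec (CommRingCat.of R))))) : ℤ :=
  (if δX'η ζ' = δXη (fy f b (genericPoint ↥(Spec (CommRingCat.of R))) ζ') + (e : ℤ) then
      α (fy f b (genericPoint ↥(Spec (CommRingCat.of R))) ζ') * (FF6.multN f ((f ≫ b).fiberι (genericPoint ↥(Spec (CommRingCat.of R))) ζ') : ℤ) else 0) *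
    Cyc.divFun (δX R (f ≫ b)) ((f ≫ b).fiberι (genericPoint ↥(Spec (CommRingCat.of R))) ζ')
      (unif R ϖR (f ≫ b) ((f ≫ b).fiberι (genericPoint ↥(Spec (CommRingCat.of R))) ζ')) x't

include h1 h2 in
theorem lhs_eq (hϖR : Irreducible ϖR) (x' : ↥((f ≫ b).fiber (IsLocalRing.closedPoint R))) (hx' : δX's x' = r + e) :
    Cyc.spFun (f ≫ b) (genericPoint ↥(Spec (CommRingCat.of R))) (IsLocalRing.closedPoint R) δX'η δX's (r + e)
        (Cyc.pullFun (fy f b (genericPoint ↥(Spec (CommRingCat.of R)))) δX'η δXη e ⇑α) x' =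
      ∑ᶠ ζ' : ↥((f ≫ b).fiber (genericPoint ↥(Spec (CommRingCat.of R)))),
        cfun R ϖR b f e δX'η δXη α ((f ≫ b).fiberι (IsLocalRing.closedPoint R) x') ζ' := by
  classical
  rw [spFun_eq_divFun R ϖR (f ≫ b) δX'η δX's h1 h2 hϖR (r + e) _ x', if_pos hx']
  symm
  rw [Groth.Agent.Lib.Helper18.PullSec.finsum_eq_finsum_comp
    (fun ζ' : {ζ' : ↥((f ≫ b).fiber (genericPoint ↥(Spec (CommRingCat.of R)))) // δX'η ζ' = r + e ∧
      (f ≫ b).fiberι (genericPoint ↥(Spec (CommRingCat.of R))) ζ' ⤳ (f ≫ b).fiberι (IsLocalRing.closedPoint R) x'} => ζ'.1) Subtype.val_injective]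
  · apply finsum_congr
    intro ζ'
    unfold cfun
    rw [FF6.pullFun_eq, multN_fy]
  · intro ζ' hζ'
    have hd : Cyc.divFun (δX R (f ≫ b)) ((f ≫ b).fiberι (genericPoint ↥(Spec (CommRingCat.of R))) ζ')
        (unif R ϖR (f ≫ b) ((f ≫ b).fiberι (genericPoint ↥(Spec (CommRingCat.of R))) ζ')) ((f ≫ b).fiberι (IsLocalRing.closedPoint R) x') ≠ 0 :=
      right_ne_zero_of_mul hζ'
    unfold Cyc.divFun at hd
    by_cases hcond : (f ≫ b).fiberι (genericPoint ↥(Spec (CommRingCat.of R))) ζ' ⤳ (f ≫ b).fiberι (IsLocalRing.closedPoint R) x' ∧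
        δX R (f ≫ b) ((f ≫ b).fiberι (IsLocalRing.closedPoint R) x') + 1 = δX R (f ≫ b) ((f ≫ b).fiberι (genericPoint ↥(Spec (CommRingCat.of R))) ζ')
    · refine ⟨⟨ζ', ?_, hcond.1⟩, rfl⟩
      have := hcond.2
      rw [δX_closed R (f ≫ b) δX's h2 x', δX_generic R (f ≫ b) δX'η h1 ζ'] at this
      omega
    · rw [dif_neg hcond] at hd
      exact absurd rfl hd

include h2 h3 h4 hα in
theorem rhs_eq (hϖR : Irreducible ϖR) (x' : ↥((f ≫ b).fiber (IsLocalRing.closedPoint R))) (hx' : δX's x' = r + e) :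
    Cyc.pullFun (fy f b (IsLocalRing.closedPoint R)) δX's δXs e (Cyc.spFun b (genericPoint ↥(Spec (CommRingCat.of R))) (IsLocalRing.closedPoint R) δXη δXs r ⇑α) x' =
      ∑ᶠ ζ : ↥(b.fiber (genericPoint ↥(Spec (CommRingCat.of R)))), α ζ * Cyc.pullFun f (δX R (f ≫ b)) (δX R b) e
        (Cyc.divFun (δX R b) (b.fiberι (genericPoint ↥(Spec (CommRingCat.of R))) ζ) (unif R ϖR b (b.fiberι (genericPoint ↥(Spec (CommRingCat.of R))) ζ)))
        ((f ≫ b).fiberι (IsLocalRing.closedPoint R) x') := by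
  classical
  have hδ'x : δX R (f ≫ b) ((f ≫ b).fiberι (IsLocalRing.closedPoint R) x') = δX's x' := δX_closed R (f ≫ b) δX's h2 x'
  have hfx : f ((f ≫ b).fiberι (IsLocalRing.closedPoint R) x') = b.fiberι (IsLocalRing.closedPoint R) (fy f b (IsLocalRing.closedPoint R) x') := (fy_apply f b (IsLocalRing.closedPoint R) x').symm
  have hδx : δX R b (f ((f ≫ b).fiberι (IsLocalRing.closedPoint R) x')) = δXs (fy f b (IsLocalRing.closedPoint R) x') := by
    rw [hfx]
    exact δX_closed R b δXs h4 _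
  rw [FF6.pullFun_eq]
  simp only [FF6.pullFun_eq]
  by_cases hcond : δX's x' = δXs (fy f b (IsLocalRing.closedPoint R) x') + e
  · have hcond' : δX R (f ≫ b) ((f ≫ b).fiberι (IsLocalRing.closedPoint R) x') =
        δX R b (f ((f ≫ b).fiberι (IsLocalRing.closedPoint R) x')) + e := by rw [hδ'x, hδx]; exact hcond
    have hr : δXs (fy f b (IsLocalRing.closedPoint R) x') = r := by omega
    rw [if_pos hcond]
    simp only [if_pos hcond']
    rw [spFun_eq_divFun R ϖR b δXη δXs h3 h4 hϖR r _ _, if_pos hr, multN_fy, hfx, finsum_mul]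
    symm
    rw [Groth.Agent.Lib.Helper18.PullSec.finsum_eq_finsum_comp
      (fun ζ : {ζ : ↥(b.fiber (genericPoint ↥(Spec (CommRingCat.of R)))) // δXη ζ = r ∧
        b.fiberι (genericPoint ↥(Spec (CommRingCat.of R))) ζ ⤳ b.fiberι (IsLocalRing.closedPoint R) (fy f b (IsLocalRing.closedPoint R) x')} => ζ.1) Subtype.val_injective]
    · apply finsum_congr
      intro ζ
      ring
    · intro ζ hζ
      have hαζ : α ζ ≠ 0 := left_ne_zero_of_mul hζ
      have hd : Cyc.divFun (δX R b) (b.fiberι (genericPoint ↥(Spec (CommRingCat.of R))) ζ) (unif R ϖR b (b.fiberι (genericPoint ↥(Spec (CommRingCat.of R))) ζ))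
          (b.fiberι (IsLocalRing.closedPoint R) (fy f b (IsLocalRing.closedPoint R) x')) ≠ 0 := left_ne_zero_of_mul (right_ne_zero_of_mul hζ)
      have hδζ : δXη ζ = r := by
        by_contra hne
        exact hαζ (hα ζ hne)
      unfold Cyc.divFun at hd
      by_cases hc2 : b.fiberι (genericPoint ↥(Spec (CommRingCat.of R))) ζ ⤳ b.fiberι (IsLocalRing.closedPoint R) (fy f b (IsLocalRing.closedPoint R) x') ∧
          δX R b (b.fiberι (IsLocalRing.closedPoint R) (fy f b (IsLocalRing.closedPoint R) x')) + 1 = δX R b (b.fiberι (genericPoint ↥(Spec (CommRingCat.of R))) ζ)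
      · exact ⟨⟨ζ, hδζ, hc2.1⟩, rfl⟩
      · rw [dif_neg hc2] at hd
        exact absurd rfl hd
  · have hcond' : ¬ δX R (f ≫ b) ((f ≫ b).fiberι (IsLocalRing.closedPoint R) x') =
        δX R b (f ((f ≫ b).fiberι (IsLocalRing.closedPoint R) x')) + e := by rw [hδ'x, hδx]; exact hcond
    rw [if_neg hcond]
    simp only [if_neg hcond', mul_zero]
    rw [finsum_zero]

include he h1 h3 in
/-- finiteness of the relevant points of the generic fibre upstairs -/
theorem finite_T (x't : X') :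
    {ζ' : ↥((f ≫ b).fiber (genericPoint ↥(Spec (CommRingCat.of R)))) |
      α (fy f b (genericPoint ↥(Spec (CommRingCat.of R))) ζ') ≠ 0 ∧
      δX'η ζ' = δXη (fy f b (genericPoint ↥(Spec (CommRingCat.of R))) ζ') + (e : ℤ) ∧
      (f ≫ b).fiberι (genericPoint ↥(Spec (CommRingCat.of R))) ζ' ⤳ x't}.Finite := by
  classical
  have hX' := isSetup_δX R (f ≫ b)
  haveI : IsLocallyNoetherian X' := hX'.1
  obtain ⟨V, U', hV, hU', hU'V, -, hx'U'⟩ :=
    Groth.Agent.Lib.Helper18.FlatPullRat.exists_affine_pair f x't Set.univ isOpen_univ trivial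
  haveI : QuasiCompact (b.fiberι (genericPoint ↥(Spec (CommRingCat.of R)))) :=
    inferInstanceAs (QuasiCompact (pullback.fst b
      ((Spec (CommRingCat.of R)).fromSpecResidueField (genericPoint ↥(Spec (CommRingCat.of R))))))
  have hK : IsCompact ((b.fiberι (genericPoint ↥(Spec (CommRingCat.of R)))) ⁻¹ᵁ V :
      Set ↥(b.fiber (genericPoint ↥(Spec (CommRingCat.of R))))) :=
    Scheme.Hom.isCompact_preimage _ hV.isCompact
  have hG := Groth.Agent.Lib.Helper18.AB5.finite_inter_support α _ hK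
  have hBig : (⋃ ζ ∈ (((b.fiberι (genericPoint ↥(Spec (CommRingCat.of R)))) ⁻¹ᵁ V :
      Set ↥(b.fiber (genericPoint ↥(Spec (CommRingCat.of R))))) ∩ Function.support ⇑α),
      {ξ' : X' | ξ' ∈ U' ∧ f ξ' = b.fiberι (genericPoint ↥(Spec (CommRingCat.of R))) ζ ∧
        ∀ y, f y = f ξ' → y ⤳ ξ' → y = ξ'}).Finite :=
    hG.biUnion (fun ζ _ =>
      Groth.Agent.Lib.Helper18.FibreFin.finite_fibre_generic f hU' hV hU'V _)
  refine Set.Finite.subset (hBig.preimage
    ((f ≫ b).fiberι (genericPoint ↥(Spec (CommRingCat.of R)))).isEmbedding.injective.injOn) ?_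
  rintro ζ' ⟨hα0, hδ, hsp⟩
  have hξ'U : (f ≫ b).fiberι (genericPoint ↥(Spec (CommRingCat.of R))) ζ' ∈ U' :=
    hsp.mem_open U'.2 hx'U'
  have hfξ : f ((f ≫ b).fiberι (genericPoint ↥(Spec (CommRingCat.of R))) ζ') =
      b.fiberι (genericPoint ↥(Spec (CommRingCat.of R)))
        (fy f b (genericPoint ↥(Spec (CommRingCat.of R))) ζ') :=
    (fy_apply f b _ ζ').symm
  have hmaxδ : δX R (f ≫ b) ((f ≫ b).fiberι (genericPoint ↥(Spec (CommRingCat.of R))) ζ') =
      δX R b (f ((f ≫ b).fiberι (genericPoint ↥(Spec (CommRingCat.of R))) ζ')) + (e : ℤ) := by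
    rw [hfξ, δX_generic R (f ≫ b) δX'η h1 ζ', δX_generic R b δXη h3 _, hδ]
    ring
  have hmax := (Groth.Agent.Lib.Helper18.FlatShift.delta_le_of_shift f (δX R b) (δX R (f ≫ b))
    hX'.2.2 (e : ℤ) (hshift R b f e he) _).2 hmaxδ
  rw [Set.mem_preimage, Set.mem_iUnion₂]
  refine ⟨fy f b (genericPoint ↥(Spec (CommRingCat.of R))) ζ', ⟨?_, hα0⟩, hξ'U, hfξ, hmax⟩
  change b.fiberι (genericPoint ↥(Spec (CommRingCat.of R)))
    (fy f b (genericPoint ↥(Spec (CommRingCat.of R))) ζ') ∈ V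
  rw [← hfξ]
  exact hU'V hξ'U

include he h1 h3 in
theorem double_sum (hϖR : Irreducible ϖR) (x't : X') :
    ∑ᶠ ζ : ↥(b.fiber (genericPoint ↥(Spec (CommRingCat.of R)))),
      α ζ * Cyc.pullFun f (δX R (f ≫ b)) (δX R b) e
        (Cyc.divFun (δX R b) (b.fiberι (genericPoint ↥(Spec (CommRingCat.of R))) ζ)
          (unif R ϖR b (b.fiberι (genericPoint ↥(Spec (CommRingCat.of R))) ζ))) x't =
    ∑ᶠ ζ' : ↥((f ≫ b).fiber (genericPoint ↥(Spec (CommRingCat.of R)))),
      cfun R ϖR b f e δX'η δXη α x't ζ' := by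
  classical
  have hX := isSetup_δX R b
  have hX' := isSetup_δX R (f ≫ b)
  let Q : ↥(b.fiber (genericPoint ↥(Spec (CommRingCat.of R)))) →
      ↥((f ≫ b).fiber (genericPoint ↥(Spec (CommRingCat.of R)))) → ℤ := fun ζ ζ' =>
    if fy f b (genericPoint ↥(Spec (CommRingCat.of R))) ζ' = ζ ∧ δX'η ζ' = δXη ζ + (e : ℤ) then
      (FF6.multN f ((f ≫ b).fiberι (genericPoint ↥(Spec (CommRingCat.of R))) ζ') : ℤ) *
        Cyc.divFun (δX R (f ≫ b)) ((f ≫ b).fiberι (genericPoint ↥(Spec (CommRingCat.of R))) ζ')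
          (unif R ϖR (f ≫ b) ((f ≫ b).fiberι (genericPoint ↥(Spec (CommRingCat.of R))) ζ')) x't
    else 0
  have hP : ∀ ζ : ↥(b.fiber (genericPoint ↥(Spec (CommRingCat.of R)))),
      Cyc.pullFun f (δX R (f ≫ b)) (δX R b) e
        (Cyc.divFun (δX R b) (b.fiberι (genericPoint ↥(Spec (CommRingCat.of R))) ζ)
          (unif R ϖR b (b.fiberι (genericPoint ↥(Spec (CommRingCat.of R))) ζ))) x't =
      ∑ᶠ ζ', Q ζ ζ' := by
    intro ζ
    rw [Groth.Agent.Lib.Helper18.FlatPullDiv.pullFun_divFun f (δX R b) (δX R (f ≫ b)) hX hX'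
      (e : ℤ) (hshift R b f e he) (b.fiberι (genericPoint ↥(Spec (CommRingCat.of R))) ζ)
      (unif R ϖR b) (unif_ne_zero R ϖR b hϖR.ne_zero _ (map_fiberι R b _ ζ)) x't]
    rw [Groth.Agent.Lib.Helper18.PullSec.finsum_eq_finsum_comp
      ((f ≫ b).fiberι (genericPoint ↥(Spec (CommRingCat.of R))))
      ((f ≫ b).fiberι (genericPoint ↥(Spec (CommRingCat.of R)))).isEmbedding.injective]
    · apply finsum_congr
      intro ζ'
      rw [residueFieldMap_unif]
      have hiff : (f ((f ≫ b).fiberι (genericPoint ↥(Spec (CommRingCat.of R))) ζ') =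
            b.fiberι (genericPoint ↥(Spec (CommRingCat.of R))) ζ ∧
          δX R (f ≫ b) ((f ≫ b).fiberι (genericPoint ↥(Spec (CommRingCat.of R))) ζ') =
            δX R b (b.fiberι (genericPoint ↥(Spec (CommRingCat.of R))) ζ) + (e : ℤ)) ↔
          (fy f b (genericPoint ↥(Spec (CommRingCat.of R))) ζ' = ζ ∧
            δX'η ζ' = δXη ζ + (e : ℤ)) := by
        rw [← fy_apply, δX_generic R (f ≫ b) δX'η h1 ζ', δX_generic R b δXη h3 ζ]
        constructor
        · rintro ⟨h5, h6⟩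
          exact ⟨(b.fiberι (genericPoint ↥(Spec (CommRingCat.of R)))).isEmbedding.injective h5,
            by omega⟩
        · rintro ⟨h5, h6⟩
          exact ⟨by rw [h5], by omega⟩
      exact if_congr hiff rfl rfl
    · intro ξ' hξ'
      by_cases hcond : f ξ' = b.fiberι (genericPoint ↥(Spec (CommRingCat.of R))) ζ ∧
          δX R (f ≫ b) ξ' =
            δX R b (b.fiberι (genericPoint ↥(Spec (CommRingCat.of R))) ζ) + (e : ℤ)
      · rw [Scheme.Hom.range_fiberι]
        change b (f ξ') = _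
        rw [hcond.1]
        exact map_fiberι R b _ ζ
      · rw [if_neg hcond] at hξ'
        exact absurd rfl hξ'
  simp only [hP]
  have hmul : ∀ ζ : ↥(b.fiber (genericPoint ↥(Spec (CommRingCat.of R)))),
      α ζ * ∑ᶠ ζ', Q ζ ζ' = ∑ᶠ ζ', α ζ * Q ζ ζ' := fun ζ => mul_finsum _ _
  simp only [hmul]
  have hsupp : (Function.support (fun p : ↥(b.fiber (genericPoint ↥(Spec (CommRingCat.of R)))) ×
      ↥((f ≫ b).fiber (genericPoint ↥(Spec (CommRingCat.of R)))) => α p.1 * Q p.1 p.2)).Finite := by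
    refine ((finite_T R b f e he δX'η δXη h1 h3 α x't).image
      (fun ζ' => (fy f b (genericPoint ↥(Spec (CommRingCat.of R))) ζ', ζ'))).subset ?_
    rintro ⟨ζ, ζ'⟩ hp
    rw [Function.mem_support] at hp
    have hα0 : α ζ ≠ 0 := left_ne_zero_of_mul hp
    have hQ0 : Q ζ ζ' ≠ 0 := right_ne_zero_of_mul hp
    by_cases hcond : fy f b (genericPoint ↥(Spec (CommRingCat.of R))) ζ' = ζ ∧
        δX'η ζ' = δXη ζ + (e : ℤ)
    · simp only [Q, if_pos hcond] at hQ0
      have hd := right_ne_zero_of_mul hQ0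
      unfold Cyc.divFun at hd
      by_cases hc2 : (f ≫ b).fiberι (genericPoint ↥(Spec (CommRingCat.of R))) ζ' ⤳ x't ∧
          δX R (f ≫ b) x't + 1 =
            δX R (f ≫ b) ((f ≫ b).fiberι (genericPoint ↥(Spec (CommRingCat.of R))) ζ')
      · refine ⟨ζ', ⟨?_, ?_, hc2.1⟩, ?_⟩
        · rw [hcond.1]; exact hα0
        · rw [hcond.1]; exact hcond.2
        · exact Prod.ext hcond.1 rfl
      · rw [dif_neg hc2] at hd
        exact absurd rfl hd
    · simp only [Q, if_neg hcond] at hQ0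
      exact absurd rfl hQ0
  rw [Groth.Agent.Lib.Helper18.KF14.finsum_comm' (fun ζ ζ' => α ζ * Q ζ ζ') hsupp]
  apply finsum_congr
  intro ζ'
  rw [finsum_eq_single (fun ζ => α ζ * Q ζ ζ')
    (fy f b (genericPoint ↥(Spec (CommRingCat.of R))) ζ')]
  · unfold cfun
    by_cases hc : δX'η ζ' = δXη (fy f b (genericPoint ↥(Spec (CommRingCat.of R))) ζ') + (e : ℤ)
    · have hQ1 : Q (fy f b (genericPoint ↥(Spec (CommRingCat.of R))) ζ') ζ' =
          (FF6.multN f ((f ≫ b).fiberι (genericPoint ↥(Spec (CommRingCat.of R))) ζ') : ℤ) *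
          Cyc.divFun (δX R (f ≫ b)) ((f ≫ b).fiberι (genericPoint ↥(Spec (CommRingCat.of R))) ζ')
            (unif R ϖR (f ≫ b) ((f ≫ b).fiberι (genericPoint ↥(Spec (CommRingCat.of R))) ζ'))
            x't := if_pos ⟨rfl, hc⟩
      rw [if_pos hc]
      change α _ * Q _ ζ' = _
      rw [hQ1]
      ring
    · have hQ1 : Q (fy f b (genericPoint ↥(Spec (CommRingCat.of R))) ζ') ζ' = 0 :=
        if_neg (fun h => hc h.2)
      rw [if_neg hc]
      change α _ * Q _ ζ' = _
      rw [hQ1]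
      ring
  · intro ζ hζ
    have hQ1 : Q ζ ζ' = 0 := if_neg (fun h => hζ h.1.symm)
    change α ζ * Q ζ ζ' = 0
    rw [hQ1, mul_zero]

include he h1 h2 h3 h4 hα in
/-- **specialization commutes with flat pullback** -/
theorem main (x' : ↥((f ≫ b).fiber (IsLocalRing.closedPoint R))) :
    Cyc.spFun (f ≫ b) (genericPoint ↥(Spec (CommRingCat.of R))) (IsLocalRing.closedPoint R)
        δX'η δX's (r + e)
        (Cyc.pullFun (fy f b (genericPoint ↥(Spec (CommRingCat.of R)))) δX'η δXη e ⇑α) x' =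
      Cyc.pullFun (fy f b (IsLocalRing.closedPoint R)) δX's δXs e
        (Cyc.spFun b (genericPoint ↥(Spec (CommRingCat.of R))) (IsLocalRing.closedPoint R)
          δXη δXs r ⇑α) x' := by
  classical
  obtain ⟨ϖR, hϖR⟩ := IsDiscreteValuationRing.exists_irreducible R
  by_cases hx' : δX's x' = r + e
  · rw [lhs_eq R ϖR b f e δX'η δX's δXη h1 h2 r α hϖR x' hx',
      rhs_eq R ϖR b f e δX's δXη δXs h2 h3 h4 r α hα hϖR x' hx',
      double_sum R ϖR b f e he δX'η δXη h1 h3 α hϖR]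
  · have hL : Cyc.spFun (f ≫ b) (genericPoint ↥(Spec (CommRingCat.of R)))
        (IsLocalRing.closedPoint R) δX'η δX's (r + e)
        (Cyc.pullFun (fy f b (genericPoint ↥(Spec (CommRingCat.of R)))) δX'η δXη e ⇑α) x' = 0 := by
      unfold Cyc.spFun
      rw [if_neg hx']
    rw [hL, FF6.pullFun_eq]
    by_cases hcond : δX's x' = δXs (fy f b (IsLocalRing.closedPoint R) x') + e
    · rw [if_pos hcond]
      have hr : δXs (fy f b (IsLocalRing.closedPoint R) x') ≠ r := by
        intro h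
        apply hx'
        rw [hcond, h]
      have : Cyc.spFun b (genericPoint ↥(Spec (CommRingCat.of R))) (IsLocalRing.closedPoint R)
          δXη δXs r ⇑α (fy f b (IsLocalRing.closedPoint R) x') = 0 := by
        unfold Cyc.spFun
        rw [if_neg hr]
      rw [this, zero_mul]
    · rw [if_neg hcond]

end Groth.Agent.Lib.Helper18.SF3
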