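import Mathlib
import Groth.Prelude.Def_Cyc
import Groth.Agent.Lib.Helper18.PP1
import Groth.Agent.Lib.Helper18.C1Indep2
import Groth.Agent.Lib.Helper18.FF6
import Groth.Agent.Lib.Helper18.CycMap

/-!
# Proper pushforward of a weighted sum of divisors of pulled back functions
-/

set_option autoImplicit false
set_option linter.unusedSectionVars false
set_option linter.style.haveILetI false
universe u
open CategoryTheory AlgebraicGeometry TopologicalSpace

namespace Groth.Agent.Lib.Helper18.SG1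

open Groth.Agent.Lib.Helper18.CL10

section Weights

variable {X Y : Scheme.{u}}

/-- the pushforward only depends on the equality of weights -/
theorem map_congr_weights (f : X ⟶ Y) [QuasiCompact f] (wx wx' : X → ℤ) (wy wy' : Y → ℤ)
    (h : ∀ x, wx x = wy (f x) ↔ wx' x = wy' (f x)) (α : AlgebraicCycle X ℤ) :
    AlgebraicCycle.map f wx wy α = AlgebraicCycle.map f wx' wy' α := by
  classical
  ext y
  simp only [AlgebraicCycle.map, Function.locallyFinsupp.map_apply]
  apply finsum_mem_congr rfl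
  intro x _
  congr 2
  unfold AlgebraicCycle.mapCoeff
  exact if_congr (h x) rfl rfl

end Weights

section Fib

variable {X S : Scheme.{u}} (a : X ⟶ S) (y : S) [QuasiCompact (a.fiberι y)]

theorem map_fiberι_apply (δ : X → ℤ) (α : AlgebraicCycle (a.fiber y) ℤ) (z : ↥(a.fiber y)) :
    AlgebraicCycle.map (a.fiberι y) (fun z => δ (a.fiberι y z)) δ α (a.fiberι y z) = α z := by
  classical
  have hinj : Function.Injective (a.fiberι y : ↥(a.fiber y) → X) :=
    (a.fiberι y).isEmbedding.injective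
  simp only [AlgebraicCycle.map, Function.locallyFinsupp.map_apply]
  have hs : (a.fiberι y : ↥(a.fiber y) → X) ⁻¹' {a.fiberι y z} = {z} := by
    ext z'
    simp only [Set.mem_preimage, Set.mem_singleton_iff]
    exact ⟨fun hz => hinj hz, fun hz => by rw [hz]⟩
  rw [hs, finsum_mem_singleton]
  unfold AlgebraicCycle.mapCoeff
  rw [if_pos rfl, FF6.residueDegree_fiberι]
  simp

theorem map_fiberι_apply_of_notMem (δ : X → ℤ) (α : AlgebraicCycle (a.fiber y) ℤ) (x : X)
    (hx : x ∉ Set.range (a.fiberι y : ↥(a.fiber y) → X)) :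
    AlgebraicCycle.map (a.fiberι y) (fun z => δ (a.fiberι y z)) δ α x = 0 := by
  classical
  simp only [AlgebraicCycle.map, Function.locallyFinsupp.map_apply]
  apply finsum_mem_eq_zero_of_forall_eq_zero
  intro z hz
  exact absurd ⟨z, hz⟩ hx

end Fib

section Push

variable {X Y : Scheme.{u}} (δX : X → ℤ) (δY : Y → ℤ) (hX : Cyc.IsSetup X δX)
  (hY : Cyc.IsSetup Y δY) (p : X ⟶ Y) [IsProper p] (hδ : Cyc.DeltaCompat p δX δY)

include hX hY hδ in
/-- **projection formula for divisors of pulled back functions**, as an equality of cycles -/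
theorem map_divSum (α : AlgebraicCycle X ℤ) (g : (η : Y) → Y.residueField η)
    (hg0 : ∀ η, g η ≠ 0) (γ₀ : AlgebraicCycle X ℤ)
    (hγ₀ : ∀ x, γ₀ x = ∑ᶠ ξ, α ξ *
      Cyc.divFun δX ξ ((p.residueFieldMap ξ).hom (g (p ξ))) x) (y : Y) :
    (AlgebraicCycle.map p δX δY γ₀) y =
      ∑ᶠ η, (AlgebraicCycle.map p δX δY α) η * Cyc.divFun δY η (g η) y := by
  classical
  obtain ⟨V, hVaff, hyV, -⟩ := exists_isAffineOpen_mem_and_subset (x := y) (U := ⊤) trivial
  have hc : IsCompact (p ⁻¹ᵁ V : Set X) := p.isSpectralMap.2 V.isOpen hVaff.isCompact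
  have hdown0 : ∀ η, η ∉ V → Cyc.divFun δY η (g η) y = 0 := by
    intro η hη
    have hns : ¬ (η ⤳ y ∧ δY y + 1 = δY η) := fun h => hη (h.1.mem_open V.2 hyV)
    unfold Cyc.divFun
    rw [dif_neg hns]
  let f : (ξ : X) → X.residueField ξ := fun ξ => (p.residueFieldMap ξ).hom (g (p ξ))
  have hf0 : ∀ ξ, f ξ ≠ 0 := fun ξ => (map_ne_zero_iff _ (RingHom.injective _)).mpr (hg0 (p ξ))
  let D : X → AlgebraicCycle X ℤ := fun ξ => divCycle δX hX ξ (f ξ) (hf0 ξ)
  have hD : ∀ ξ, ⇑(D ξ) = Cyc.divFun δX ξ (f ξ) := fun ξ => rfl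
  set c : X → ℤ := fun x => ((AlgebraicCycle.mapCoeff p δX δY x : ℕ) : ℤ) with hc_def
  have hpush : ∀ ξ, (AlgebraicCycle.map p δX δY (D ξ)) y =
      c ξ * Cyc.divFun δY (p ξ) (g (p ξ)) y := by
    intro ξ
    by_cases hdim : δX ξ = δY (p ξ)
    · rw [Groth.Agent.Lib.Helper18.PP1.map_divCycle_pullback δX δY hX hY p hδ ξ (g (p ξ)) (hg0 _)
        (D ξ) (hD ξ) hdim, ← zpow_natCast,
        Groth.Agent.Lib.Helper18.C1Indep.divFun_zpow δY hY (p ξ) (g (p ξ)) (hg0 _)]
      simp only [c, AlgebraicCycle.mapCoeff]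
      rw [if_pos hdim]
    · rw [(map_divCycle δX δY hX hY p hδ ξ (f ξ) (hf0 ξ) (D ξ) (hD ξ)).2 hdim]
      simp only [c, AlgebraicCycle.mapCoeff]
      rw [if_neg hdim]
      simp
  have h1 : ∀ γ'' : AlgebraicCycle X ℤ, (AlgebraicCycle.map p δX δY γ'') y =
      ∑ᶠ x ∈ (p ⁻¹' {y} : Set X), γ'' x * c x := by
    intro γ''
    simp only [AlgebraicCycle.map, Function.locallyFinsupp.map_apply]
    rfl
  let H : X × X → ℤ := fun a =>
    if p a.1 = y then α a.2 * Cyc.divFun δX a.2 (f a.2) a.1 * c a.1 else 0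
  have hKα : ((p ⁻¹ᵁ V : Set X) ∩ Function.support ⇑α).Finite :=
    α.locallyFiniteSupport.finite_inter_support_of_isCompact hc
  have hHfin : (Function.support H).Finite := by
    have hfin2 : (⋃ ξ ∈ ((p ⁻¹ᵁ V : Set X) ∩ Function.support ⇑α),
        (fun x : X => ((x, ξ) : X × X)) ''
          ((p ⁻¹ᵁ V : Set X) ∩ Function.support ⇑(D ξ))).Finite :=
      hKα.biUnion (fun ξ _ =>
        ((D ξ).locallyFiniteSupport.finite_inter_support_of_isCompact hc).image _)
    refine hfin2.subset ?_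
    rintro ⟨x, ξ⟩ hxξ
    rw [Function.mem_support] at hxξ
    simp only [H] at hxξ
    by_cases hpx : p x = y
    · rw [if_pos hpx] at hxξ
      have hd : Cyc.divFun δX ξ (f ξ) x ≠ 0 := right_ne_zero_of_mul (left_ne_zero_of_mul hxξ)
      have hα0 : α ξ ≠ 0 := left_ne_zero_of_mul (left_ne_zero_of_mul hxξ)
      have hxV : x ∈ (p ⁻¹ᵁ V : Set X) := by
        change p x ∈ V
        rw [hpx]
        exact hyV
      have hsp : ξ ⤳ x := by
        by_contra hns
        apply hd
        unfold Cyc.divFun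
        rw [dif_neg (fun hh => hns hh.1)]
      have hξV : ξ ∈ (p ⁻¹ᵁ V : Set X) := hsp.mem_open (p ⁻¹ᵁ V).2 hxV
      refine Set.mem_biUnion (x := ξ) ⟨hξV, hα0⟩ ⟨x, ⟨hxV, ?_⟩, rfl⟩
      rw [Function.mem_support, hD]
      exact hd
    · rw [if_neg hpx] at hxξ
      exact absurd rfl hxξ
  have hLs : (AlgebraicCycle.map p δX δY γ₀) y = ∑ᶠ a, H a := by
    rw [h1, finsum_curry H hHfin, finsum_mem_def]
    apply finsum_congr
    intro x
    by_cases hpx : p x = y
    · rw [Set.indicator_of_mem (show x ∈ (p ⁻¹' {y} : Set X) from hpx), hγ₀, finsum_mul]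
      apply finsum_congr
      intro ξ
      simp only [H, if_pos hpx]
      rfl
    · rw [Set.indicator_of_notMem (show x ∉ (p ⁻¹' {y} : Set X) from hpx)]
      symm
      apply finsum_eq_zero_of_forall_eq_zero
      intro ξ
      simp only [H, if_neg hpx]
  have hHfin' : (Function.support (H ∘ (Equiv.prodComm X X))).Finite :=
    (hHfin.preimage (Equiv.prodComm X X).injective.injOn)
  have hRs : ∑ᶠ a, H a = ∑ᶠ ξ, α ξ * (AlgebraicCycle.map p δX δY (D ξ)) y := by
    rw [← finsum_comp_equiv (Equiv.prodComm X X)]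
    change ∑ᶠ a, (H ∘ (Equiv.prodComm X X)) a = _
    rw [finsum_curry _ hHfin']
    apply finsum_congr
    intro ξ
    rw [h1, finsum_mem_def, mul_finsum]
    apply finsum_congr
    intro x
    by_cases hpx : p x = y
    · rw [Set.indicator_of_mem (show x ∈ (p ⁻¹' {y} : Set X) from hpx)]
      simp only [Function.comp, Equiv.prodComm_apply, Prod.swap_prod_mk, H, if_pos hpx]
      rw [hD, mul_assoc]
    · rw [Set.indicator_of_notMem (show x ∉ (p ⁻¹' {y} : Set X) from hpx)]
      simp only [Function.comp, Equiv.prodComm_apply, Prod.swap_prod_mk, H, if_neg hpx, mul_zero]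
  rw [hLs, hRs]
  have hfib := Groth.Agent.Lib.Helper18.CycMap.finsum_fiber (p : X → Y) (V : Set Y)
    (fun ξ => α ξ * c ξ) (fun η => Cyc.divFun δY η (g η) y)
    (hKα.subset (by
      rintro ξ ⟨h1', h2'⟩
      exact ⟨h1', left_ne_zero_of_mul h2'⟩))
  have hleft : ∑ᶠ ξ, α ξ * (AlgebraicCycle.map p δX δY (D ξ)) y =
      ∑ᶠ ξ ∈ (p : X → Y) ⁻¹' (V : Set Y), α ξ * c ξ * Cyc.divFun δY (p ξ) (g (p ξ)) y := by
    rw [finsum_mem_def]
    apply finsum_congr
    intro ξ
    rw [hpush ξ]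
    by_cases hξ : p ξ ∈ V
    · rw [Set.indicator_of_mem (show ξ ∈ (p : X → Y) ⁻¹' (V : Set Y) from hξ), mul_assoc]
    · rw [Set.indicator_of_notMem (show ξ ∉ (p : X → Y) ⁻¹' (V : Set Y) from hξ),
        hdown0 (p ξ) hξ, mul_zero, mul_zero]
  have hright : ∑ᶠ η, (AlgebraicCycle.map p δX δY α) η * Cyc.divFun δY η (g η) y =
      ∑ᶠ η ∈ (V : Set Y), (∑ᶠ ξ ∈ (p : X → Y) ⁻¹' {η}, α ξ * c ξ) *
        Cyc.divFun δY η (g η) y := by
    rw [finsum_mem_def]
    apply finsum_congr
    intro η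
    by_cases hη : η ∈ V
    · rw [Set.indicator_of_mem (show η ∈ (V : Set Y) from hη)]
      congr 1
    · rw [Set.indicator_of_notMem (show η ∉ (V : Set Y) from hη), hdown0 η hη, mul_zero]
  rw [hleft, hright, hfib]

end Push

end Groth.Agent.Lib.Helper18.SG1
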