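import Mathlib
import Groth.Prelude.Def_Cyc
import Groth.Prelude.Def_Bivar
import Groth.Agent.Lib.Helper18.SG1
import Groth.Agent.Lib.Helper18.SF2
import Groth.Agent.Lib.Helper18.AB2
import Groth.Agent.Lib.Helper18.FF8
import Groth.Agent.Lib.Helper18.PC5
import Groth.Agent.Lib.Helper18.PullSec2

/-!
# Specialization of cycles commutes with proper pushforward
-/

set_option autoImplicit false
set_option linter.unusedSectionVars false
set_option linter.style.haveILetI false
universe u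
open AlgebraicGeometry CategoryTheory TopologicalSpace Limits

namespace Groth.Agent.Lib.Helper18.SG2

open Groth.Agent.Lib.Helper18.SP1 Groth.Agent.Lib.Helper18.SP2 Groth.Agent.Lib.Helper18.SP3
  Groth.Agent.Lib.Helper18.SP4 Groth.Agent.Lib.Helper18.SF1 Groth.Agent.Lib.Helper18.SF2
  Groth.Agent.Lib.Helper18.SG1

section One

variable (R : Type u) [CommRing R] [IsDomain R] [IsDiscreteValuationRing R] (ϖR : R)
  {X : Scheme.{u}} (a : X ⟶ Spec (CommRingCat.of R)) [LocallyOfFiniteType a]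
  (δη : ↥(a.fiber (genericPoint ↥(Spec (CommRingCat.of R)))) → ℤ)
  (δs : ↥(a.fiber (IsLocalRing.closedPoint R)) → ℤ)
  (hδη : Cyc.DeltaCompat (a.fiberToSpecResidueField (genericPoint ↥(Spec (CommRingCat.of R)))) δη
    (fun _ => 0))
  (hδs : Cyc.DeltaCompat (a.fiberToSpecResidueField (IsLocalRing.closedPoint R)) δs (fun _ => 0))

theorem quasiCompact_fiberι (y : ↥(Spec (CommRingCat.of R))) : QuasiCompact (a.fiberι y) :=
  inferInstanceAs (QuasiCompact (pullback.fst a
    ((Spec (CommRingCat.of R)).fromSpecResidueField y)))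

include hδη hδs in
/-- specialization as an unrestricted sum of orders of the uniformizer -/
theorem spFun_eq_finsum (hϖR : Irreducible ϖR) (r : ℤ)
    (α : ↥(a.fiber (genericPoint ↥(Spec (CommRingCat.of R)))) → ℤ)
    (hα : ∀ ζ, δη ζ ≠ r → α ζ = 0) (x : ↥(a.fiber (IsLocalRing.closedPoint R))) :
    Cyc.spFun a (genericPoint ↥(Spec (CommRingCat.of R))) (IsLocalRing.closedPoint R) δη δs r α x =
      ∑ᶠ ζ : ↥(a.fiber (genericPoint ↥(Spec (CommRingCat.of R)))),
        α ζ * Cyc.divFun (δX R a) (a.fiberι (genericPoint ↥(Spec (CommRingCat.of R))) ζ)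
          (unif R ϖR a (a.fiberι (genericPoint ↥(Spec (CommRingCat.of R))) ζ))
          (a.fiberι (IsLocalRing.closedPoint R) x) := by
  classical
  rw [spFun_eq_divFun R ϖR a δη δs hδη hδs hϖR r α x]
  have hcond : ∀ ζ : ↥(a.fiber (genericPoint ↥(Spec (CommRingCat.of R)))),
      α ζ * Cyc.divFun (δX R a) (a.fiberι (genericPoint ↥(Spec (CommRingCat.of R))) ζ)
          (unif R ϖR a (a.fiberι (genericPoint ↥(Spec (CommRingCat.of R))) ζ))
          (a.fiberι (IsLocalRing.closedPoint R) x) ≠ 0 →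
      δη ζ = r ∧ a.fiberι (genericPoint ↥(Spec (CommRingCat.of R))) ζ ⤳
        a.fiberι (IsLocalRing.closedPoint R) x ∧ δs x = r := by
    intro ζ hζ
    have hαζ : α ζ ≠ 0 := left_ne_zero_of_mul hζ
    have hd := right_ne_zero_of_mul hζ
    have hδζ : δη ζ = r := by
      by_contra hne
      exact hαζ (hα ζ hne)
    unfold Cyc.divFun at hd
    by_cases hc2 : a.fiberι (genericPoint ↥(Spec (CommRingCat.of R))) ζ ⤳
        a.fiberι (IsLocalRing.closedPoint R) x ∧
        δX R a (a.fiberι (IsLocalRing.closedPoint R) x) + 1 =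
          δX R a (a.fiberι (genericPoint ↥(Spec (CommRingCat.of R))) ζ)
    · refine ⟨hδζ, hc2.1, ?_⟩
      have := hc2.2
      rw [δX_closed R a δs hδs x, δX_generic R a δη hδη ζ] at this
      omega
    · rw [dif_neg hc2] at hd
      exact absurd rfl hd
  by_cases hx : δs x = r
  · rw [if_pos hx]
    symm
    rw [Groth.Agent.Lib.Helper18.PullSec.finsum_eq_finsum_comp
      (fun ζ : {ζ : ↥(a.fiber (genericPoint ↥(Spec (CommRingCat.of R)))) // δη ζ = r ∧
        a.fiberι (genericPoint ↥(Spec (CommRingCat.of R))) ζ ⤳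
          a.fiberι (IsLocalRing.closedPoint R) x} => ζ.1) Subtype.val_injective]
    intro ζ hζ
    obtain ⟨h5, h6, -⟩ := hcond ζ hζ
    exact ⟨⟨ζ, h5, h6⟩, rfl⟩
  · rw [if_neg hx]
    symm
    apply finsum_eq_zero_of_forall_eq_zero
    intro ζ
    by_contra hζ
    exact hx (hcond ζ hζ).2.2

include hδη hδs in
/-- the extension by zero of the specialization is the divisor of the uniformizer on the
extension by zero -/
theorem gamma_eq (hϖR : Irreducible ϖR) (r : ℤ)
    (α : AlgebraicCycle (a.fiber (genericPoint ↥(Spec (CommRingCat.of R)))) ℤ)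
    (hα : α ∈ Cyc.Zk _ δη r)
    (β : AlgebraicCycle (a.fiber (IsLocalRing.closedPoint R)) ℤ)
    (hβ : ⇑β = Cyc.spFun a (genericPoint ↥(Spec (CommRingCat.of R)))
      (IsLocalRing.closedPoint R) δη δs r ⇑α)
    [QuasiCompact (a.fiberι (genericPoint ↥(Spec (CommRingCat.of R))))]
    [QuasiCompact (a.fiberι (IsLocalRing.closedPoint R))] (xt : X) :
    AlgebraicCycle.map (a.fiberι (IsLocalRing.closedPoint R))
        (fun x => δX R a (a.fiberι (IsLocalRing.closedPoint R) x)) (δX R a) β xt =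
      ∑ᶠ ξ : X, AlgebraicCycle.map (a.fiberι (genericPoint ↥(Spec (CommRingCat.of R))))
        (fun ζ => δX R a (a.fiberι (genericPoint ↥(Spec (CommRingCat.of R))) ζ)) (δX R a) α ξ *
        Cyc.divFun (δX R a) ξ (unif R ϖR a ξ) xt := by
  classical
  have hRHS : ∀ xt : X, ∑ᶠ ξ : X, AlgebraicCycle.map
        (a.fiberι (genericPoint ↥(Spec (CommRingCat.of R))))
        (fun ζ => δX R a (a.fiberι (genericPoint ↥(Spec (CommRingCat.of R))) ζ)) (δX R a) α ξ *
        Cyc.divFun (δX R a) ξ (unif R ϖR a ξ) xt =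
      ∑ᶠ ζ : ↥(a.fiber (genericPoint ↥(Spec (CommRingCat.of R)))),
        α ζ * Cyc.divFun (δX R a) (a.fiberι (genericPoint ↥(Spec (CommRingCat.of R))) ζ)
          (unif R ϖR a (a.fiberι (genericPoint ↥(Spec (CommRingCat.of R))) ζ)) xt := by
    intro xt
    rw [Groth.Agent.Lib.Helper18.PullSec.finsum_eq_finsum_comp
      (a.fiberι (genericPoint ↥(Spec (CommRingCat.of R))))
      (a.fiberι (genericPoint ↥(Spec (CommRingCat.of R)))).isEmbedding.injective]
    · apply finsum_congr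
      intro ζ
      rw [map_fiberι_apply]
    · intro ξ hξ
      by_contra hnot
      apply hξ
      rw [map_fiberι_apply_of_notMem a _ (δX R a) α ξ hnot, zero_mul]
  rw [hRHS]
  rcases cases_point R a xt with ⟨ζ₀, rfl⟩ | ⟨x, rfl⟩
  · -- a point of the generic fibre
    rw [map_fiberι_apply_of_notMem]
    · symm
      apply finsum_eq_zero_of_forall_eq_zero
      intro ζ
      have hd : Cyc.divFun (δX R a) (a.fiberι (genericPoint ↥(Spec (CommRingCat.of R))) ζ)
          (unif R ϖR a (a.fiberι (genericPoint ↥(Spec (CommRingCat.of R))) ζ))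
          (a.fiberι (genericPoint ↥(Spec (CommRingCat.of R))) ζ₀) = 0 := by
        unfold Cyc.divFun
        by_cases hc : a.fiberι (genericPoint ↥(Spec (CommRingCat.of R))) ζ ⤳
            a.fiberι (genericPoint ↥(Spec (CommRingCat.of R))) ζ₀ ∧
            δX R a (a.fiberι (genericPoint ↥(Spec (CommRingCat.of R))) ζ₀) + 1 =
              δX R a (a.fiberι (genericPoint ↥(Spec (CommRingCat.of R))) ζ)
        · rw [dif_pos hc, ← specMap_unif R ϖR a _ _ hc.1]
          have ht : (a (a.fiberι (genericPoint ↥(Spec (CommRingCat.of R))) ζ₀)).asIdeal = ⊥ := by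
            rw [map_fiberι]
            exact genericPoint_asIdeal R
          have hu := isUnit_unifS R ϖR hϖR.ne_zero _ ht
          exact Groth.Agent.Lib.Helper18.AB2.ordAt_of_isUnit (δX R a) (isSetup_δX R a) _ _ hc.1
            hc.2 _ (hu.map (a.stalkMap _).hom)
        · rw [dif_neg hc]
      rw [hd, mul_zero]
    · rintro ⟨x, hx⟩
      have h1 := congrArg (fun t => a t) hx
      simp only [map_fiberι] at h1
      exact generic_ne_closed R h1.symm
  · -- a point of the closed fibre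
    rw [map_fiberι_apply, hβ]
    exact spFun_eq_finsum R ϖR a δη δs hδη hδs hϖR r ⇑α hα x

end One

section Two

variable (R : Type u) [CommRing R] [IsDomain R] [IsDiscreteValuationRing R]
  {X Y : Scheme.{u}} (b : Y ⟶ Spec (CommRingCat.of R)) [LocallyOfFiniteType b]
  (f : X ⟶ Y) [IsProper f]

theorem hcompat' : Cyc.DeltaCompat f (δX R (f ≫ b)) (δX R b) :=
  Groth.Agent.Lib.Helper18.FF8.deltaCompat_cancel f b _ _ (δS R) (deltaCompat_δX R (f ≫ b))
    (deltaCompat_δX R b)

/-- extension by zero from the fibres commutes with pushforward -/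
theorem map_ext (y : ↥(Spec (CommRingCat.of R))) [QuasiCompact (fy f b y)]
    [QuasiCompact ((f ≫ b).fiberι y)] [QuasiCompact (b.fiberι y)]
    (β : AlgebraicCycle ((f ≫ b).fiber y) ℤ) :
    AlgebraicCycle.map f (δX R (f ≫ b)) (δX R b)
      (AlgebraicCycle.map ((f ≫ b).fiberι y) (fun x => δX R (f ≫ b) ((f ≫ b).fiberι y x))
        (δX R (f ≫ b)) β) =
    AlgebraicCycle.map (b.fiberι y) (fun z => δX R b (b.fiberι y z)) (δX R b)
      (AlgebraicCycle.map (fy f b y) (fun x => δX R (f ≫ b) ((f ≫ b).fiberι y x))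
        (fun z => δX R b (b.fiberι y z)) β) := by
  have h1 := deltaCompat_of_isPreimmersion ((f ≫ b).fiberι y) (δX R (f ≫ b))
  have h2 := hcompat' R b f
  have h3 := deltaCompat_of_isPreimmersion (b.fiberι y) (δX R b)
  have hab : Cyc.DeltaCompat (fy f b y ≫ b.fiberι y)
      (fun x => δX R (f ≫ b) ((f ≫ b).fiberι y x)) (δX R b) := by
    rw [fy_fiberι]
    exact Groth.Agent.Lib.Helper18.PC5.deltaCompat_comp _ _ _ _ _ h1 h2
  have h4 : Cyc.DeltaCompat (fy f b y) (fun x => δX R (f ≫ b) ((f ≫ b).fiberι y x))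
      (fun z => δX R b (b.fiberι y z)) :=
    Groth.Agent.Lib.Helper18.FF8.deltaCompat_cancel _ _ _ _ _ hab h3
  rw [Groth.Agent.Lib.Helper18.CycMap.map_map _ _ _ _ _ h1 h2 β,
    Groth.Agent.Lib.Helper18.CycMap.map_map _ _ _ _ _ h4 h3 β]
  exact Groth.Agent.Lib.Helper18.CL10.map_congr_hom (fy_fiberι f b y).symm _ _ β

variable (δXη : ↥((f ≫ b).fiber (genericPoint ↥(Spec (CommRingCat.of R)))) → ℤ) (δXs : ↥((f ≫ b).fiber (IsLocalRing.closedPoint R)) → ℤ)
  (δYη : ↥(b.fiber (genericPoint ↥(Spec (CommRingCat.of R)))) → ℤ) (δYs : ↥(b.fiber (IsLocalRing.closedPoint R)) → ℤ)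
  (hXη : Cyc.DeltaCompat ((f ≫ b).fiberToSpecResidueField (genericPoint ↥(Spec (CommRingCat.of R)))) δXη (fun _ => 0))
  (hXs : Cyc.DeltaCompat ((f ≫ b).fiberToSpecResidueField (IsLocalRing.closedPoint R)) δXs (fun _ => 0))
  (hYη : Cyc.DeltaCompat (b.fiberToSpecResidueField (genericPoint ↥(Spec (CommRingCat.of R)))) δYη (fun _ => 0))
  (hYs : Cyc.DeltaCompat (b.fiberToSpecResidueField (IsLocalRing.closedPoint R)) δYs (fun _ => 0))
  [QuasiCompact (fy f b (genericPoint ↥(Spec (CommRingCat.of R))))] [QuasiCompact (fy f b (IsLocalRing.closedPoint R))]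
  (r : ℤ) (α : AlgebraicCycle ((f ≫ b).fiber (genericPoint ↥(Spec (CommRingCat.of R)))) ℤ) (hα : α ∈ Cyc.Zk ((f ≫ b).fiber (genericPoint ↥(Spec (CommRingCat.of R)))) δXη r)
  (β : AlgebraicCycle ((f ≫ b).fiber (IsLocalRing.closedPoint R)) ℤ)
  (hβ : ⇑β = Cyc.spFun (f ≫ b) (genericPoint ↥(Spec (CommRingCat.of R))) (IsLocalRing.closedPoint R) δXη δXs r ⇑α)

include hXη hXs hYη hYs hα hβ in
/-- **specialization commutes with proper pushforward** -/
theorem main (y : ↥(b.fiber (IsLocalRing.closedPoint R))) :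
    Cyc.spFun b (genericPoint ↥(Spec (CommRingCat.of R))) (IsLocalRing.closedPoint R) δYη δYs r ⇑(AlgebraicCycle.map (fy f b (genericPoint ↥(Spec (CommRingCat.of R)))) δXη δYη α) y =
      (AlgebraicCycle.map (fy f b (IsLocalRing.closedPoint R)) δXs δYs β) y := by
  classical
  obtain ⟨ϖR, hϖR⟩ := IsDiscreteValuationRing.exists_irreducible R
  haveI := quasiCompact_fiberι R (f ≫ b) (genericPoint ↥(Spec (CommRingCat.of R)))
  haveI := quasiCompact_fiberι R (f ≫ b) (IsLocalRing.closedPoint R)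
  haveI := quasiCompact_fiberι R b (genericPoint ↥(Spec (CommRingCat.of R)))
  haveI := quasiCompact_fiberι R b (IsLocalRing.closedPoint R)
  let g : (η' : Y) → Y.residueField η' := fun η' =>
    if unif R ϖR b η' = 0 then 1 else unif R ϖR b η'
  have hg0 : ∀ η', g η' ≠ 0 := by
    intro η'
    by_cases h : unif R ϖR b η' = 0
    · have : g η' = 1 := if_pos h
      rw [this]
      exact one_ne_zero
    · have : g η' = unif R ϖR b η' := if_neg h
      rw [this]
      exact h
  have hg_gen : ∀ η' : Y, b η' = (genericPoint ↥(Spec (CommRingCat.of R))) → g η' = unif R ϖR b η' := fun η' hη' =>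
    if_neg (unif_ne_zero R ϖR b hϖR.ne_zero η' hη')
  have hγ₀ : ∀ xt : X,
      AlgebraicCycle.map ((f ≫ b).fiberι (IsLocalRing.closedPoint R)) (fun x => δX R (f ≫ b) ((f ≫ b).fiberι (IsLocalRing.closedPoint R) x))
        (δX R (f ≫ b)) β xt =
      ∑ᶠ ξ : X, AlgebraicCycle.map ((f ≫ b).fiberι (genericPoint ↥(Spec (CommRingCat.of R))))
        (fun ζ => δX R (f ≫ b) ((f ≫ b).fiberι (genericPoint ↥(Spec (CommRingCat.of R))) ζ)) (δX R (f ≫ b)) α ξ *
        Cyc.divFun (δX R (f ≫ b)) ξ ((f.residueFieldMap ξ).hom (g (f ξ))) xt := by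
    intro xt
    rw [gamma_eq R ϖR (f ≫ b) δXη δXs hXη hXs hϖR r α hα β hβ xt]
    apply finsum_congr
    intro ξ
    by_cases hξ : ξ ∈ Set.range ((f ≫ b).fiberι (genericPoint ↥(Spec (CommRingCat.of R))) : ↥((f ≫ b).fiber (genericPoint ↥(Spec (CommRingCat.of R)))) → X)
    · obtain ⟨ζ, rfl⟩ := hξ
      have hbf : b (f ((f ≫ b).fiberι (genericPoint ↥(Spec (CommRingCat.of R))) ζ)) = (genericPoint ↥(Spec (CommRingCat.of R))) := map_fiberι R (f ≫ b) _ ζ
      rw [hg_gen _ hbf, residueFieldMap_unif]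
    · rw [map_fiberι_apply_of_notMem (f ≫ b) _ (δX R (f ≫ b)) α ξ hξ, zero_mul, zero_mul]
  have key := map_divSum (δX R (f ≫ b)) (δX R b) (isSetup_δX R (f ≫ b)) (isSetup_δX R b) f
    (hcompat' R b f) _ g hg0 _ hγ₀ (b.fiberι (IsLocalRing.closedPoint R) y)
  have hL : (AlgebraicCycle.map f (δX R (f ≫ b)) (δX R b)
      (AlgebraicCycle.map ((f ≫ b).fiberι (IsLocalRing.closedPoint R)) (fun x => δX R (f ≫ b) ((f ≫ b).fiberι (IsLocalRing.closedPoint R) x))
        (δX R (f ≫ b)) β)) (b.fiberι (IsLocalRing.closedPoint R) y) =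
      (AlgebraicCycle.map (fy f b (IsLocalRing.closedPoint R)) δXs δYs β) y := by
    rw [map_ext R b f (IsLocalRing.closedPoint R) β, map_fiberι_apply,
      map_congr_weights (fy f b (IsLocalRing.closedPoint R)) _ δXs _ δYs (fun x => by
        rw [δX_closed R (f ≫ b) δXs hXs x, δX_closed R b δYs hYs (fy f b (IsLocalRing.closedPoint R) x)]) β]
  have hZk : ∀ ζ, δYη ζ ≠ r → (AlgebraicCycle.map (fy f b (genericPoint ↥(Spec (CommRingCat.of R)))) δXη δYη α) ζ = 0 :=
    Bivar.cycMap_mem_Zk (fy f b (genericPoint ↥(Spec (CommRingCat.of R)))) δXη δYη r hα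
  have hR : ∑ᶠ η' : Y, (AlgebraicCycle.map f (δX R (f ≫ b)) (δX R b)
      (AlgebraicCycle.map ((f ≫ b).fiberι (genericPoint ↥(Spec (CommRingCat.of R)))) (fun ζ => δX R (f ≫ b) ((f ≫ b).fiberι (genericPoint ↥(Spec (CommRingCat.of R))) ζ))
        (δX R (f ≫ b)) α)) η' * Cyc.divFun (δX R b) η' (g η') (b.fiberι (IsLocalRing.closedPoint R) y) =
      Cyc.spFun b (genericPoint ↥(Spec (CommRingCat.of R))) (IsLocalRing.closedPoint R) δYη δYs r ⇑(AlgebraicCycle.map (fy f b (genericPoint ↥(Spec (CommRingCat.of R)))) δXη δYη α) y := by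
    rw [map_ext R b f (genericPoint ↥(Spec (CommRingCat.of R))) α,
      Groth.Agent.Lib.Helper18.PullSec.finsum_eq_finsum_comp (b.fiberι (genericPoint ↥(Spec (CommRingCat.of R))))
        (b.fiberι (genericPoint ↥(Spec (CommRingCat.of R)))).isEmbedding.injective]
    · rw [spFun_eq_finsum R ϖR b δYη δYs hYη hYs hϖR r _ hZk y]
      apply finsum_congr
      intro ζ
      rw [map_fiberι_apply, hg_gen _ (map_fiberι R b _ ζ),
        map_congr_weights (fy f b (genericPoint ↥(Spec (CommRingCat.of R)))) _ δXη _ δYη (fun z => by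
          rw [δX_generic R (f ≫ b) δXη hXη z, δX_generic R b δYη hYη (fy f b (genericPoint ↥(Spec (CommRingCat.of R))) z)]
          constructor <;> intro h <;> omega) α]
    · intro η' hη'
      by_contra hnot
      apply hη'
      rw [map_fiberι_apply_of_notMem b _ (δX R b) _ η' hnot, zero_mul]
  rw [← hR, ← hL]
  exact key.symm

end Two

end Groth.Agent.Lib.Helper18.SG2
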