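import Mathlib

/-!
# Stalks of the direct image of a sheaf along a closed map

For a closed continuous map `f : X → Y`, a sheaf of abelian groups `G` on `X` and `η : Y`, the
natural map `(f_* G)_η → ∏_{z ∈ f⁻¹(η) ∩ Supp G} G_z` is injective, and it is surjective when the
points of `f⁻¹(η) ∩ Supp G` can be separated by opens inside `Supp G` (closed).
-/

set_option autoImplicit false
universe u
open CategoryTheory TopologicalSpace Opposite TopCat AlgebraicGeometry

namespace Groth.Agent.Lib.Helper18.SH1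

variable {X Y : TopCat.{u}} (f : X ⟶ Y) (G : TopCat.Sheaf Ab.{u} X) (η : Y)

/-- the map `(f_* G)_η → G_z` for a point `z` over `η` -/
noncomputable def stalkAt (z : X) (h : f z = η) :
    ((f _* G.presheaf).stalk η) →+ (G.presheaf.stalk z) := by
  subst h
  exact (TopCat.Presheaf.stalkPushforward Ab f G.presheaf z).hom

theorem stalkAt_germ (z : X) (h : f z = η) (U : Opens Y) (hη : η ∈ U)
    (s : (f _* G.presheaf).obj (op U)) :
    stalkAt f G η z h ((f _* G.presheaf).germ U η hη s) =
      G.presheaf.germ ((Opens.map f).obj U) z (by show f z ∈ U; rw [h]; exact hη) s := by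
  subst h
  have := TopCat.Presheaf.stalkPushforward_germ Ab f G.presheaf U z hη
  exact congrArg (fun k => k.hom s) this

theorem eq_of_subsingleton_stalks (O : Opens X)
    (h : ∀ x ∈ O, Subsingleton (G.presheaf.stalk x)) (a b : G.presheaf.obj (op O)) : a = b :=
  TopCat.Presheaf.section_ext G O a b (fun x hx => (h x hx).elim _ _)

theorem eq_zero_of_stalkAt_eq_zero (hcl : IsClosedMap f) (t : (f _* G.presheaf).stalk η)
    (ht : ∀ (z : X) (h : f z = η), ¬ Subsingleton (G.presheaf.stalk z) →
      stalkAt f G η z h t = 0) : t = 0 := by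
  obtain ⟨V, hηV, s, rfl⟩ := (f _* G.presheaf).exists_germ_eq t
  let V' : Opens X := (Opens.map f).obj V
  let s' : G.presheaf.obj (op V') := s
  have hz0 : ∀ z (hz : z ∈ V'), f z = η → G.presheaf.germ V' z hz s' = 0 := by
    intro z hz h
    by_cases hsub : Subsingleton (G.presheaf.stalk z)
    · exact Subsingleton.elim _ _
    · have := ht z h hsub
      rwa [stalkAt_germ] at this
  let S : Set X := {x | ∃ hx : x ∈ V', G.presheaf.germ V' x hx s' ≠ 0}
  have hηC : η ∉ f '' closure S := by
    rintro ⟨c, hc, hfc⟩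
    have hcV : c ∈ V' := by show f c ∈ V; rw [hfc]; exact hηV
    have h0 := hz0 c hcV hfc
    have h0' : G.presheaf.germ V' c hcV s' = G.presheaf.germ V' c hcV 0 := by
      rw [h0, map_zero]
    obtain ⟨W, hcW, iU, iV, hW⟩ := G.presheaf.germ_eq c hcV hcV s' 0 h0'
    have hWS : (W : Set X) ∩ S = ∅ := by
      ext x
      simp only [Set.mem_inter_iff, Set.mem_empty_iff_false, iff_false]
      rintro ⟨hxW, hxV, hne⟩
      apply hne
      rw [← G.presheaf.germ_res_apply iU x hxW s', hW, map_zero, map_zero]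
    have hcS : c ∉ closure S := by
      intro hcS
      rw [mem_closure_iff] at hcS
      obtain ⟨x, hx⟩ := hcS W W.isOpen hcW
      rw [hWS] at hx
      exact hx
    exact hcS hc
  let V₁ : Opens Y := ⟨(f '' closure S)ᶜ, (hcl _ isClosed_closure).isOpen_compl⟩
  let V₂ : Opens Y := V ⊓ V₁
  have hηV₂ : η ∈ V₂ := ⟨hηV, hηC⟩
  have hres : (f _* G.presheaf).map (homOfLE (inf_le_left : V₂ ≤ V)).op s = 0 := by
    apply TopCat.Presheaf.section_ext G ((Opens.map f).obj V₂)
    intro x hx
    rw [map_zero]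
    have hxV' : x ∈ V' := hx.1
    have hxS : x ∉ S := fun hxS => hx.2 ⟨x, subset_closure hxS, rfl⟩
    have h0 : G.presheaf.germ V' x hxV' s' = 0 := by
      by_contra hne
      exact hxS ⟨hxV', hne⟩
    have e : ((f _* G.presheaf).map (homOfLE (inf_le_left : V₂ ≤ V)).op s) =
        G.presheaf.map ((Opens.map f).map (homOfLE (inf_le_left : V₂ ≤ V))).op s' := rfl
    rw [e, G.presheaf.germ_res_apply]
    exact h0
  rw [← (f _* G.presheaf).germ_res_apply (homOfLE (inf_le_left : V₂ ≤ V)) η hηV₂ s, hres, map_zero]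

/-- surjectivity: the points over `η` in the support are separated by the opens `W z` inside the
(closed) support -/
theorem exists_stalkAt_eq (hcl : IsClosedMap f)
    (hsupp : IsClosed {x : X | ¬ Subsingleton (G.presheaf.stalk x)})
    (W : X → Opens X)
    (hW : ∀ z : X, ¬ Subsingleton (G.presheaf.stalk z) → f z = η → z ∈ W z)
    (hdisj : ∀ z z' : X, ¬ Subsingleton (G.presheaf.stalk z) → f z = η →
      ¬ Subsingleton (G.presheaf.stalk z') → f z' = η → z ≠ z' →
      ∀ x ∈ W z ⊓ W z', Subsingleton (G.presheaf.stalk x))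
    (g : ∀ z : {z : X // ¬ Subsingleton (G.presheaf.stalk z) ∧ f z = η}, G.presheaf.stalk z.1) :
    ∃ t : (f _* G.presheaf).stalk η,
      ∀ z : {z : X // ¬ Subsingleton (G.presheaf.stalk z) ∧ f z = η},
        stalkAt f G η z.1 z.2.2 t = g z := by
  classical
  choose U hzU s hs using fun z : {z : X // ¬ Subsingleton (G.presheaf.stalk z) ∧ f z = η} =>
    G.presheaf.exists_germ_eq (g z)
  let T := {z : X // ¬ Subsingleton (G.presheaf.stalk z) ∧ f z = η}
  let U' : T → Opens X := fun z => U z ⊓ W z.1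
  let suppG : Set X := {x | ¬ Subsingleton (G.presheaf.stalk x)}
  let C : Set X := suppG ∩ (⋃ z : T, (U' z : Set X))ᶜ
  have hC : IsClosed C := hsupp.inter (isOpen_iUnion fun z => (U' z).isOpen).isClosed_compl
  have hηC : η ∉ f '' C := by
    rintro ⟨c, ⟨hc1, hc2⟩, hfc⟩
    apply hc2
    exact Set.mem_iUnion.mpr ⟨⟨c, hc1, hfc⟩, hzU ⟨c, hc1, hfc⟩, hW c hc1 hfc⟩
  let V : Opens Y := ⟨(f '' C)ᶜ, (hcl _ hC).isOpen_compl⟩
  let V' : Opens X := (Opens.map f).obj V
  let Osupp : Opens X := ⟨suppGᶜ, hsupp.isOpen_compl⟩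
  let O : Option T → Opens X := fun o => Option.rec (V' ⊓ Osupp) (fun z => V' ⊓ U' z) o
  have hOle : ∀ o, O o ≤ V' := by
    intro o
    cases o with
    | none => exact inf_le_left
    | some z => exact inf_le_left
  have hOU : ∀ z : T, O (some z) ≤ U z := fun z => inf_le_right.trans inf_le_left
  let sf : ∀ o, G.presheaf.obj (op (O o)) := fun o =>
    Option.rec (motive := fun o => G.presheaf.obj (op (O o))) 0
      (fun z => G.presheaf.map (homOfLE (hOU z)).op (s z)) o
  have hsub : ∀ i j : Option T, i ≠ j → ∀ x ∈ O i ⊓ O j, Subsingleton (G.presheaf.stalk x) := by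
    intro i j hij x hx
    cases i with
    | none =>
      have hx1 : x ∈ suppGᶜ := hx.1.2
      exact not_not.mp hx1
    | some z =>
      cases j with
      | none =>
        have hx1 : x ∈ suppGᶜ := hx.2.2
        exact not_not.mp hx1
      | some z' =>
        have hzz' : z.1 ≠ z'.1 := fun h => hij (by rw [Subtype.ext h])
        exact hdisj z.1 z'.1 z.2.1 z.2.2 z'.2.1 z'.2.2 hzz' x ⟨hx.1.2.2, hx.2.2.2⟩
  have hcompat : TopCat.Presheaf.IsCompatible G.presheaf O sf := by
    intro i j
    by_cases hij : i = j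
    · subst hij
      have e : Opens.infLELeft (O i) (O i) = Opens.infLERight (O i) (O i) :=
        rfl
      rw [e]
    · exact eq_of_subsingleton_stalks G _ (hsub i j hij) _ _
  have hcover : V' ≤ iSup O := by
    intro x hx
    rw [Opens.mem_iSup]
    by_cases hxs : x ∈ suppG
    · have hxC : x ∉ C := fun hxC => hx ⟨x, hxC, rfl⟩
      have : x ∈ ⋃ z : T, (U' z : Set X) := by
        by_contra hn
        exact hxC ⟨hxs, hn⟩
      obtain ⟨z, hz⟩ := Set.mem_iUnion.mp this
      exact ⟨some z, hx, hz⟩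
    · exact ⟨none, hx, hxs⟩
  obtain ⟨sV, hsV, -⟩ := G.existsUnique_gluing' O V' (fun o => homOfLE (hOle o)) hcover sf hcompat
  have hηV : η ∈ V := hηC
  refine ⟨(f _* G.presheaf).germ V η hηV sV, fun z => ?_⟩
  rw [stalkAt_germ]
  have hzO : z.1 ∈ O (some z) := by
    refine ⟨?_, hzU z, hW z.1 z.2.1 z.2.2⟩
    show f z.1 ∈ V
    rw [z.2.2]
    exact hηV
  have h1 := G.presheaf.germ_res_apply (homOfLE (hOle (some z))) z.1 hzO sV
  have h2 : G.presheaf.map (homOfLE (hOle (some z))).op sV =
      G.presheaf.map (homOfLE (hOU z)).op (s z) := hsV (some z)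
  rw [h2, G.presheaf.germ_res_apply] at h1
  rw [← hs z]
  exact h1.symm

end Groth.Agent.Lib.Helper18.SH1
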