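import Mathlib
import Groth.Agent.Lib.Helper18.SH1
import Groth.Agent.Lib.Helper18.PushStalk
import Groth.Prelude.Def_CohB1

/-!
# The stalk of a direct image as a product of stalks: lengths
-/

set_option autoImplicit false
set_option linter.unusedSectionVars false
set_option linter.style.haveILetI false
universe u
open AlgebraicGeometry CategoryTheory TopologicalSpace

namespace Groth.Agent.Lib.Helper18.SH2

open Groth.Agent.Lib.Helper18.PushStalk

section Alg

/-- length of a module mapping bijectively to a finite product of modules over other rings -/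
theorem length_eq_sum_of_bijective {A : Type u} [CommRing A] {N : Type u} [AddCommGroup N]
    [Module A N] {ι : Type u} [Fintype ι] (B : ι → Type u) [∀ i, CommRing (B i)]
    (M : ι → Type u) [∀ i, AddCommGroup (M i)] [∀ i, Module (B i) (M i)]
    (φ : ∀ i, A →+* B i) (Φ : ∀ i, N →+ M i)
    (hsmul : ∀ i (a : A) (n : N), Φ i (a • n) = φ i a • Φ i n)
    (hinj : ∀ n, (∀ i, Φ i n = 0) → n = 0) (hsurj : ∀ g : ∀ i, M i, ∃ n, ∀ i, Φ i n = g i)
    (L : ι → ℕ∞)
    (hL : ∀ i, (letI := Module.compHom (M i) (φ i); Module.length A (M i)) = L i) :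
    Module.length A N = ∑ i, L i := by
  letI : ∀ i, Module A (M i) := fun i => Module.compHom (M i) (φ i)
  let Ψ : N →ₗ[A] (∀ i, M i) :=
    { toFun := fun n i => Φ i n
      map_add' := fun a b => funext fun i => map_add (Φ i) a b
      map_smul' := fun a n => funext fun i => hsmul i a n }
  have hΨ : Function.Bijective Ψ := by
    constructor
    · rw [injective_iff_map_eq_zero]
      intro n hn
      exact hinj n (fun i => congrFun hn i)
    · intro g
      obtain ⟨n, hn⟩ := hsurj g
      exact ⟨n, funext hn⟩
  rw [(LinearEquiv.ofBijective Ψ hΨ).length_eq, Module.length_pi_of_fintype]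
  exact Finset.sum_congr rfl (fun i _ => hL i)

end Alg

variable {X Y : Scheme.{u}} (f : X ⟶ Y) (F : X.Modules)

/-- the underlying sheaf of abelian groups -/
noncomputable def shf : TopCat.Sheaf Ab.{u} X := ⟨F.presheaf, F.isSheaf⟩

/-- `(f_* F)_η → F_z` for `z` over `η` -/
noncomputable def pushAt (η : Y) (z : X) (h : f z = η) :
    ((Scheme.Modules.pushforward f).obj F).presheaf.stalk η →+ F.presheaf.stalk z :=
  SH1.stalkAt f.base (shf F) η z h

/-- `O_{Y,η} → O_{X,z}` for `z` over `η` -/
noncomputable def ringAt (η : Y) (z : X) (h : f z = η) :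
    Y.presheaf.stalk η →+* X.presheaf.stalk z := by
  subst h
  exact (f.stalkMap z).hom

theorem pushAt_smul (η : Y) (z : X) (h : f z = η) (r : Y.presheaf.stalk η)
    (m : ((Scheme.Modules.pushforward f).obj F).presheaf.stalk η) :
    pushAt f F η z h (r • m) = ringAt f η z h r • pushAt f F η z h m := by
  subst h
  exact pushStalkMap_smul f F z r m

theorem isLocalHom_ringAt (η : Y) (z : X) (h : f z = η) : IsLocalHom (ringAt f η z h) := by
  subst h
  exact inferInstanceAs (IsLocalHom (f.stalkMap z).hom)

/-- the length over the base of a stalk, for a finite residue field extension -/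
theorem length_over_base (z : X) (hfin : (f.residueFieldMap z).hom.Finite) :
    (letI := Module.compHom (F.presheaf.stalk z) (f.stalkMap z).hom
     Module.length (Y.presheaf.stalk (f z)) (F.presheaf.stalk z)) =
    Module.length (X.presheaf.stalk z) (F.presheaf.stalk z) * (f.residueDegree z : ℕ∞) := by
  letI := (f.stalkMap z).hom.toAlgebra
  haveI : IsLocalHom (algebraMap (Y.presheaf.stalk (f z)) (X.presheaf.stalk z)) :=
    inferInstanceAs (IsLocalHom (f.stalkMap z).hom)
  letI := Module.compHom (F.presheaf.stalk z) (f.stalkMap z).hom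
  haveI : IsScalarTower (Y.presheaf.stalk (f z)) (X.presheaf.stalk z) (F.presheaf.stalk z) :=
    IsScalarTower.of_algebraMap_smul (fun r m => rfl)
  rw [IsLocalRing.length_restrictScalars (Y.presheaf.stalk (f z)) (X.presheaf.stalk z)]
  congr 1
  have halg : (inferInstance : Algebra (IsLocalRing.ResidueField (Y.presheaf.stalk (f z)))
      (IsLocalRing.ResidueField (X.presheaf.stalk z))) = (f.residueFieldMap z).hom.toAlgebra := by
    apply Algebra.algebra_ext
    intro r
    obtain ⟨x, rfl⟩ := IsLocalRing.residue_surjective r
    rfl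
  have key : ∀ (a1 a2 : Algebra (IsLocalRing.ResidueField (Y.presheaf.stalk (f z)))
      (IsLocalRing.ResidueField (X.presheaf.stalk z))), a1 = a2 →
      @Module.length (IsLocalRing.ResidueField (Y.presheaf.stalk (f z)))
        (IsLocalRing.ResidueField (X.presheaf.stalk z)) _ _ a1.toModule =
      @Module.length (IsLocalRing.ResidueField (Y.presheaf.stalk (f z)))
        (IsLocalRing.ResidueField (X.presheaf.stalk z)) _ _ a2.toModule := by
    intro a1 a2 h
    rw [h]
  refine (key _ _ halg).trans ?_
  letI := (f.residueFieldMap z).hom.toAlgebra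
  haveI : Module.Finite (Y.residueField (f z)) (X.residueField z) := hfin
  exact Module.length_eq_finrank (Y.residueField (f z)) (X.residueField z)

theorem length_over_base' (η : Y) (z : X) (h : f z = η) (hfin : (f.residueFieldMap z).hom.Finite) :
    (letI := Module.compHom (F.presheaf.stalk z) (ringAt f η z h)
     Module.length (Y.presheaf.stalk η) (F.presheaf.stalk z)) =
    Module.length (X.presheaf.stalk z) (F.presheaf.stalk z) * (f.residueDegree z : ℕ∞) := by
  subst h
  exact length_over_base f F z hfin

/-- **the length of the stalk of a direct image** along a closed map, at a point `η` such that the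
points of the support over `η` are finitely many, separated inside the support, with finite
residue field extensions -/
theorem length_stalk_pushforward (hcl : IsClosedMap f.base) (η : Y)
    (hsupp : IsClosed (CohB1.support F))
    (hT : Finite {z : X // ¬ Subsingleton (F.presheaf.stalk z) ∧ f z = η})
    (W : X → X.Opens)
    (hW : ∀ z : X, ¬ Subsingleton (F.presheaf.stalk z) → f z = η → z ∈ W z)
    (hdisj : ∀ z z' : X, ¬ Subsingleton (F.presheaf.stalk z) → f z = η →
      ¬ Subsingleton (F.presheaf.stalk z') → f z' = η → z ≠ z' →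
      ∀ x ∈ W z ⊓ W z', Subsingleton (F.presheaf.stalk x))
    (hfin : ∀ z : X, ¬ Subsingleton (F.presheaf.stalk z) → f z = η →
      (f.residueFieldMap z).hom.Finite) :
    Module.length (Y.presheaf.stalk η)
        (((Scheme.Modules.pushforward f).obj F).presheaf.stalk η) =
      ∑ᶠ z : {z : X // ¬ Subsingleton (F.presheaf.stalk z) ∧ f z = η},
        Module.length (X.presheaf.stalk z.1) (F.presheaf.stalk z.1) *
          (f.residueDegree z.1 : ℕ∞) := by
  haveI := Fintype.ofFinite {z : X // ¬ Subsingleton (F.presheaf.stalk z) ∧ f z = η}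
  rw [finsum_eq_sum_of_fintype]
  refine length_eq_sum_of_bijective
    (fun z : {z : X // ¬ Subsingleton (F.presheaf.stalk z) ∧ f z = η} => X.presheaf.stalk z.1)
    (fun z => F.presheaf.stalk z.1) (fun z => ringAt f η z.1 z.2.2)
    (fun z => pushAt f F η z.1 z.2.2) (fun z a n => pushAt_smul f F η z.1 z.2.2 a n) ?_ ?_ _
    (fun z => length_over_base' f F η z.1 z.2.2 (hfin z.1 z.2.1 z.2.2))
  · intro n hn
    exact SH1.eq_zero_of_stalkAt_eq_zero f.base (shf F) η hcl n
      (fun z h hz => hn ⟨z, hz, h⟩)
  · intro g
    exact SH1.exists_stalkAt_eq f.base (shf F) η hcl hsupp W hW hdisj g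

end Groth.Agent.Lib.Helper18.SH2
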