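import Mathlib
import Groth.Prelude.Def_Cyc
import Groth.Agent.Lib.Helper18.SH2
import Groth.Agent.Lib.Helper18.CycLen
import Groth.Agent.Lib.Helper18.FF5
import Groth.Agent.Lib.Helper18.AB5
import Groth.Agent.Lib.Helper12.Dev2

/-!
# Proper pushforward of the cycle of a coherent module: `f_*[F]_k = [f_* F]_k`
-/

set_option autoImplicit false
set_option linter.unusedSectionVars false
set_option linter.style.haveILetI false
universe u
open AlgebraicGeometry CategoryTheory TopologicalSpace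

namespace Groth.Agent.Lib.Helper18.SH3

section Top

/-- in a Noetherian quasi-sober space, a maximal point of a closed subset has an open neighbourhood
meeting the subset inside the closure of the point -/
theorem exists_open_inter_subset_closure {α : Type*} [TopologicalSpace α] [NoetherianSpace α]
    [QuasiSober α] (S : Set α) (hS : IsClosed S) (z : α)
    (hmax : ∀ x ∈ S, x ⤳ z → x = z) :
    ∃ W : Set α, IsOpen W ∧ z ∈ W ∧ W ∩ S ⊆ closure {z} := by
  obtain ⟨C, hCfin, hCcl, hCirr, hSU⟩ := NoetherianSpace.exists_finite_set_isClosed_irreducible hS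
  refine ⟨(⋃ t ∈ {t ∈ C | z ∉ t}, t)ᶜ, ?_, ?_, ?_⟩
  · exact ((hCfin.subset (Set.sep_subset _ _)).isClosed_biUnion
      (fun t ht => hCcl t ht.1)).isOpen_compl
  · intro hz
    obtain ⟨t, ht, hzt⟩ := Set.mem_iUnion₂.mp hz
    exact ht.2 hzt
  · rintro x ⟨hxW, hxS⟩
    rw [hSU] at hxS
    obtain ⟨t, htC, hxt⟩ := hxS
    have hzt : z ∈ t := by
      by_contra hzt
      exact hxW (Set.mem_iUnion₂.mpr ⟨t, ⟨htC, hzt⟩, hxt⟩)
    obtain ⟨m, hm⟩ := QuasiSober.sober (hCirr t htC) (hCcl t htC)
    have hmt : m ∈ t := hm.mem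
    have hmS : m ∈ S := by rw [hSU]; exact ⟨t, htC, hmt⟩
    have hmz : m ⤳ z := by
      rw [specializes_iff_mem_closure, hm.def]
      exact hzt
    have := hmax m hmS hmz
    subst this
    rw [hm.def]
    exact hxt

end Top

variable {X : Scheme.{u}}

theorem exists_opens_inter_subset_closure [IsLocallyNoetherian X] (S : Set X) (hS : IsClosed S)
    (z : X) (hmax : ∀ x ∈ S, x ⤳ z → x = z) :
    ∃ W : X.Opens, z ∈ W ∧ (W : Set X) ∩ S ⊆ closure {z} := by
  obtain ⟨U, hU, hzU, -⟩ := AlgebraicGeometry.exists_isAffineOpen_mem_and_subset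
    (x := z) (U := ⊤) trivial
  haveI := IsLocallyNoetherian.component_noetherian ⟨U, hU⟩
  haveI : NoetherianSpace ↥U := noetherianSpace_of_isAffineOpen U hU
  haveI : QuasiSober ↥U := inferInstanceAs (QuasiSober (U : Scheme.{u}))
  obtain ⟨W', hW'o, hzW', hW'S⟩ := exists_open_inter_subset_closure (α := ↥U)
    ((Subtype.val : ↥U → X) ⁻¹' S) (hS.preimage continuous_subtype_val) ⟨z, hzU⟩ (by
      intro x hx hxz
      have h1 : x.1 ⤳ z := hxz.map continuous_subtype_val
      exact Subtype.ext (hmax x.1 hx h1))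
  refine ⟨⟨Subtype.val '' W', U.isOpen.isOpenMap_subtype_val W' hW'o⟩, ⟨⟨z, hzU⟩, hzW', rfl⟩, ?_⟩
  rintro x ⟨⟨u, huW', rfl⟩, hxS⟩
  have hu : u ∈ closure ({⟨z, hzU⟩} : Set ↥U) := hW'S ⟨huW', hxS⟩
  rw [closure_subtype, Set.image_singleton] at hu
  exact hu

section Main

variable {X Y : Scheme.{u}} (δX : X → ℤ) (δY : Y → ℤ) (f : X ⟶ Y) [IsProper f]
  (k : ℤ) (F : X.Modules)

/-- **S1898**: `f_*[F]_k = [f_* F]_k` for proper `f` -/
theorem main (hX : Cyc.IsSetup X δX) (hδ : Cyc.DeltaCompat f δX δY)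
    (hF : Coh.IsCoh F) (hdim : ∀ x : X, Nontrivial (F.presheaf.stalk x) → δX x ≤ k)
    (α : AlgebraicCycle X ℤ) (hα : ⇑α = Cyc.sheafFun δX k F) :
    ⇑(AlgebraicCycle.map f δX δY α) = Cyc.sheafFun δY k ((Coh.push f).obj F) := by
  classical
  haveI : IsLocallyNoetherian X := hX.1
  haveI := hF.1
  haveI := hF.2
  have hsuppcl : IsClosed (CohB1.support F) :=
    Groth.Agent.Lib.Helper12.H12Dev.isClosed_support F
  funext y
  simp only [AlgebraicCycle.map, Function.locallyFinsupp.map_apply, Cyc.sheafFun]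
  by_cases hy : δY y = k
  swap
  · rw [if_neg hy]
    apply finsum_mem_eq_zero_of_forall_eq_zero
    intro x hx
    have hfx : f x = y := hx
    by_cases hxk : δX x = k
    · have : AlgebraicCycle.mapCoeff f δX δY x = 0 := by
        unfold AlgebraicCycle.mapCoeff
        rw [if_neg]
        rw [hxk]
        intro h
        apply hy
        rw [← hfx]
        exact h.symm
      rw [this]
      simp
    · rw [hα]
      simp only [Cyc.sheafFun]
      rw [if_neg hxk, zero_mul]
  rw [if_pos hy]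
  -- facts about the points of the support over `y`
  have hzk : ∀ z : X, ¬ Subsingleton (F.presheaf.stalk z) → f z = y → δX z = k := by
    intro z hz hfz
    obtain ⟨n, -, hn⟩ := hδ z
    have h1 := hdim z (not_subsingleton_iff_nontrivial.mp hz)
    rw [hfz, hy] at hn
    omega
  have hzmax : ∀ z : X, ¬ Subsingleton (F.presheaf.stalk z) → f z = y →
      ∀ x : X, x ∈ CohB1.support F → x ⤳ z → x = z := by
    intro z hz hfz x hx hxz
    by_contra hne
    have h1 := (hX.2.2 x z hxz hne).1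
    have h2 := hdim x (not_subsingleton_iff_nontrivial.mp hx)
    have h3 := hzk z hz hfz
    omega
  have hzfin : ∀ z : X, ¬ Subsingleton (F.presheaf.stalk z) → f z = y →
      (f.residueFieldMap z).hom.Finite := by
    intro z hz hfz
    refine Groth.Agent.Lib.Helper18.FF5.finite_residueFieldMap_of_delta_eq f δX δY hδ z ?_
    rw [hzk z hz hfz, hfz, hy]
  have hzlen : ∀ z : X, ¬ Subsingleton (F.presheaf.stalk z) → f z = y →
      Module.length (X.presheaf.stalk z) (F.presheaf.stalk z) ≠ ⊤ := by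
    intro z hz hfz
    exact (Groth.Agent.Lib.Helper18.CycLen.length_stalk_lt_top_of_maximal F z
      (hzmax z hz hfz)).ne
  have hzα : ∀ z : X, ¬ Subsingleton (F.presheaf.stalk z) → f z = y →
      α z = ((Module.length (X.presheaf.stalk z) (F.presheaf.stalk z)).toNat : ℤ) := by
    intro z hz hfz
    rw [hα]
    simp only [Cyc.sheafFun]
    rw [if_pos (hzk z hz hfz)]
  -- finiteness
  let Tset : Set X := {z | ¬ Subsingleton (F.presheaf.stalk z) ∧ f z = y}
  have hTfin : Tset.Finite := by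
    obtain ⟨V, hV, hyV, -⟩ := AlgebraicGeometry.exists_isAffineOpen_mem_and_subset
      (x := y) (U := ⊤) trivial
    have hcomp : IsCompact (f ⁻¹' (V : Set Y)) :=
      QuasiCompact.isCompact_preimage (f := f) _ V.isOpen hV.isCompact
    refine (Groth.Agent.Lib.Helper18.AB5.finite_inter_support α _ hcomp).subset ?_
    rintro z ⟨hz, hfz⟩
    refine ⟨by show f z ∈ V; rw [hfz]; exact hyV, ?_⟩
    rw [Function.mem_support, hzα z hz hfz]
    have hne : Module.length (X.presheaf.stalk z) (F.presheaf.stalk z) ≠ 0 := by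
      rw [ne_eq, Module.length_eq_zero_iff]
      exact hz
    have htop := hzlen z hz hfz
    intro h0
    have h0' : (Module.length (X.presheaf.stalk z) (F.presheaf.stalk z)).toNat = 0 := by
      exact_mod_cast h0
    rcases (ENat.toNat_eq_zero).mp h0' with h | h
    · exact hne h
    · exact htop h
  haveI hTF : Finite {z : X // ¬ Subsingleton (F.presheaf.stalk z) ∧ f z = y} :=
    Set.finite_coe_iff.mpr hTfin
  -- separating opens
  have hW0 : ∀ z : X, ∃ W : X.Opens, z ∈ Tset → (z ∈ W ∧ (W : Set X) ∩ CohB1.support F ⊆ closure {z}) := by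
    intro z
    by_cases hzT : z ∈ Tset
    · obtain ⟨W, h1, h2⟩ := exists_opens_inter_subset_closure (CohB1.support F) hsuppcl z
        (hzmax z hzT.1 hzT.2)
      exact ⟨W, fun _ => ⟨h1, h2⟩⟩
    · exact ⟨⊤, fun h => absurd h hzT⟩
  choose W0 hW0 using hW0
  let Wc : X → X.Opens := fun z => ⟨(⋃ z' ∈ Tset \ {z}, closure ({z'} : Set X))ᶜ,
    ((hTfin.subset Set.diff_subset).isClosed_biUnion (fun _ _ => isClosed_closure)).isOpen_compl⟩
  have hlen := Groth.Agent.Lib.Helper18.SH2.length_stalk_pushforward f F f.isClosedMap y hsuppcl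
    hTF (fun z => W0 z ⊓ Wc z) ?_ ?_ hzfin
  rotate_left
  · intro z hz hfz
    refine ⟨(hW0 z ⟨hz, hfz⟩).1, ?_⟩
    intro hzc
    obtain ⟨z', hz', hzz'⟩ := Set.mem_iUnion₂.mp hzc
    have hspec : z' ⤳ z := specializes_iff_mem_closure.mpr hzz'
    have := hzmax z hz hfz z' hz'.1.1 hspec
    exact hz'.2 this
  · intro z z' hz hfz hz' hfz' hne x hx
    by_contra hxs
    have hx1 : x ∈ closure ({z} : Set X) := (hW0 z ⟨hz, hfz⟩).2 ⟨hx.1.1, hxs⟩
    have hx2 : x ∈ Wc z' := hx.2.2
    apply hx2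
    exact Set.mem_iUnion₂.mpr ⟨z, ⟨⟨hz, hfz⟩, hne⟩, hx1⟩
  -- the right-hand side
  haveI := Fintype.ofFinite {z : X // ¬ Subsingleton (F.presheaf.stalk z) ∧ f z = y}
  have hR : (Module.length (Y.presheaf.stalk y)
      (((Coh.push f).obj F).presheaf.stalk y)).toNat =
      ∑ z : {z : X // ¬ Subsingleton (F.presheaf.stalk z) ∧ f z = y},
        (Module.length (X.presheaf.stalk z.1) (F.presheaf.stalk z.1)).toNat *
          f.residueDegree z.1 := by
    have e1 : Module.length (Y.presheaf.stalk y) (((Coh.push f).obj F).presheaf.stalk y) =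
        ((∑ z : {z : X // ¬ Subsingleton (F.presheaf.stalk z) ∧ f z = y},
          (Module.length (X.presheaf.stalk z.1) (F.presheaf.stalk z.1)).toNat *
            f.residueDegree z.1 : ℕ) : ℕ∞) := by
      rw [hlen, finsum_eq_sum_of_fintype, Nat.cast_sum]
      refine Finset.sum_congr rfl (fun z _ => ?_)
      rw [Nat.cast_mul, ENat.coe_toNat (hzlen z.1 z.2.1 z.2.2)]
    rw [e1, ENat.toNat_coe]
  rw [hR]
  -- the left-hand side
  have hL : ∑ᶠ x ∈ f ⁻¹' {y}, α x * ((AlgebraicCycle.mapCoeff f δX δY x : ℕ) : ℤ) =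
      ∑ᶠ x ∈ Tset, α x * ((AlgebraicCycle.mapCoeff f δX δY x : ℕ) : ℤ) := by
    apply finsum_mem_inter_support_eq'
    intro x hx
    rw [Function.mem_support] at hx
    constructor
    · intro hfx
      refine ⟨?_, hfx⟩
      intro hsub
      apply hx
      rw [hα]
      simp only [Cyc.sheafFun]
      have h0 : Module.length (X.presheaf.stalk x) (F.presheaf.stalk x) = 0 :=
        Module.length_eq_zero_iff.mpr hsub
      rw [h0]
      simp
    · intro hxT
      exact hxT.2
  rw [hL, ← finsum_set_coe_eq_finsum_mem]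
  change ∑ᶠ z : {z : X // ¬ Subsingleton (F.presheaf.stalk z) ∧ f z = y},
    α z.1 * ((AlgebraicCycle.mapCoeff f δX δY z.1 : ℕ) : ℤ) = _
  rw [finsum_eq_sum_of_fintype]
  push_cast
  refine Finset.sum_congr rfl (fun z _ => ?_)
  rw [hzα z.1 z.2.1 z.2.2]
  congr 1
  unfold AlgebraicCycle.mapCoeff
  rw [if_pos]
  rw [hzk z.1 z.2.1 z.2.2]
  show k = δY (f z.1)
  rw [z.2.2, hy]

end Main

end Groth.Agent.Lib.Helper18.SH3
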