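import Mathlib

/-!
# Dimension of a proper irreducible closed subset
-/

set_option autoImplicit false
universe u
open TopologicalSpace Topology

namespace Groth.Agent.Lib.Helper18.SK0

variable {T : Type*} [TopologicalSpace T]

theorem dim_mono {A B : Set T} (h : A ⊆ B) :
    topologicalKrullDim ↥A ≤ topologicalKrullDim ↥B :=
  (Topology.IsEmbedding.inclusion h).isInducing.topologicalKrullDim_le

/-- a point of the closure of `y` whose closure has dimension `n ≥ dim closure y` is `y` -/
theorem eq_of_dim_closure [T0Space T] (n : ℕ) (x y : T) (hx : x ∈ closure ({y} : Set T))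
    (hdx : (n : WithBot ℕ∞) ≤ topologicalKrullDim ↥(closure ({x} : Set T)))
    (hdy : topologicalKrullDim ↥(closure ({y} : Set T)) ≤ n) : x = y := by
  by_contra hne
  have hsub : closure ({x} : Set T) ⊆ closure {y} :=
    isClosed_closure.closure_subset_iff.mpr (Set.singleton_subset_iff.mpr hx)
  have hy : y ∉ closure ({x} : Set T) := by
    intro hy
    have hxy : x ⤳ y := specializes_iff_mem_closure.mpr hy
    have hyx : y ⤳ x := specializes_iff_mem_closure.mpr hx
    exact hne ((hxy.antisymm hyx).eq)
  obtain ⟨l, hl⟩ := Order.le_krullDim_iff.mp hdx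
  have hind : IsInducing (Set.inclusion hsub) := (Topology.IsEmbedding.inclusion hsub).isInducing
  have hg : StrictMono (IrreducibleCloseds.map (Set.inclusion hsub) hind.continuous) :=
    IrreducibleCloseds.map_strictMono_of_isInducing hind
  let y' : ↥(closure ({y} : Set T)) := ⟨y, subset_closure rfl⟩
  have htop : closure ({y'} : Set ↥(closure ({y} : Set T))) = Set.univ := by
    rw [IsInducing.subtypeVal.closure_eq_preimage_closure_image, Set.image_singleton]
    ext z
    simp only [Set.mem_preimage, Set.mem_univ, iff_true]
    exact z.2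
  let top : IrreducibleCloseds ↥(closure ({y} : Set T)) :=
    ⟨closure {y'}, isIrreducible_singleton.closure, isClosed_closure⟩
  have hlt : (l.map _ hg).last < top := by
    rw [LTSeries.last_map, SetLike.lt_iff_le_and_exists]
    refine ⟨?_, y', subset_closure rfl, ?_⟩
    · intro z _
      show z ∈ closure ({y'} : Set ↥(closure ({y} : Set T)))
      rw [htop]; trivial
    · intro hmem
      have hcl : IsClosed {z : ↥(closure ({y} : Set T)) | z.1 ∈ closure ({x} : Set T)} :=
        isClosed_closure.preimage continuous_subtype_val
      have hsubset : (IrreducibleCloseds.map (Set.inclusion hsub) hind.continuous l.last : Set _) ⊆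
          {z : ↥(closure ({y} : Set T)) | z.1 ∈ closure ({x} : Set T)} := by
        rw [IrreducibleCloseds.coe_map]
        refine hcl.closure_subset_iff.mpr ?_
        rintro _ ⟨w, _, rfl⟩
        exact w.2
      exact hy (hsubset hmem)
  have hlen := Order.LTSeries.length_le_krullDim ((l.map _ hg).snoc top hlt)
  have h2 : (((l.map _ hg).snoc top hlt).length : WithBot ℕ∞) ≤ (n : WithBot ℕ∞) :=
    hlen.trans hdy
  have h3 : ((l.map _ hg).snoc top hlt).length = n + 1 := by
    simp [hl]
  rw [h3] at h2
  have h4 : ((n + 1 : ℕ) : WithBot ℕ∞) ≤ ((n : ℕ) : WithBot ℕ∞) := by exact_mod_cast h2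
  have h5 : (n + 1 : ℕ) ≤ n := by exact_mod_cast h4
  omega

end Groth.Agent.Lib.Helper18.SK0
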