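import Mathlib
import Groth.Agent.Lib.Helper18.SK0
import Groth.Agent.Lib.Helper18.SK1
import Groth.Agent.Lib.Helper18.CycLen

/-!
# K₀ of coherent modules: `[F] ≡ Σ length(F_x) [O_{Z(x)}]` modulo lower-dimensional classes
-/

set_option autoImplicit false
set_option linter.unusedSectionVars false
set_option linter.style.haveILetI false
universe u
open AlgebraicGeometry CategoryTheory TopologicalSpace Limits
open Groth.Agent.Lib.Helper29.QCoh
open Groth.Agent.Lib.Helper12.H12ModGlue
open Groth.Agent.Lib.Helper12.H12Dev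
open Classical

namespace Groth.Agent.Lib.Helper18.SK2

open Groth.Agent.Lib.Helper18.SK1

variable {X : Scheme.{u}}

/-- the class of a module -/
noncomputable abbrev cls (F : X.Modules) : KZero.K0sub (fun M : X.Modules => Coh.IsCoh M) :=
  KZero.clSub (fun M : X.Modules => Coh.IsCoh M) F

/-- the cycle-type sum `Σ_{dim Z(x) = n} length(F_x) [O_{Z(x)}]` -/
noncomputable def Lsum (n : ℕ) (F : X.Modules) : KZero.K0sub (fun M : X.Modules => Coh.IsCoh M) :=
  finsum fun x : ↥X => if topologicalKrullDim ↥(closure ({x} : Set ↥X)) = n then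
    (Module.length (X.presheaf.stalk x) (F.presheaf.stalk x)).toNat •
      KZero.clSub (fun M : X.Modules => Coh.IsCoh M) (Cyc.closureStructureSheaf x) else 0

/-- the subgroup generated by the classes of modules with support of dimension `< n` -/
noncomputable def Filt (X : Scheme.{u}) (n : ℕ) :
    AddSubgroup (KZero.K0sub (fun M : X.Modules => Coh.IsCoh M)) :=
  AddSubgroup.closure {c : KZero.K0sub (fun M : X.Modules => Coh.IsCoh M) |
    ∃ G : X.Modules, Coh.IsCoh G ∧ topologicalKrullDim ↥(CohB1.support G) < n ∧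
      c = KZero.clSub (fun M : X.Modules => Coh.IsCoh M) G}

/-- the points of the support whose closure has dimension `n` -/
def SF (n : ℕ) (F : X.Modules) : Set X :=
  {x | topologicalKrullDim ↥(closure ({x} : Set ↥X)) = n ∧ x ∈ CohB1.support F}

theorem term_eq_zero (n : ℕ) (F : X.Modules) (x : X) (hx : x ∉ SF n F) :
    (if topologicalKrullDim ↥(closure ({x} : Set ↥X)) = n then
      (Module.length (X.presheaf.stalk x) (F.presheaf.stalk x)).toNat •
        KZero.clSub (fun M : X.Modules => Coh.IsCoh M) (Cyc.closureStructureSheaf x) else 0) = 0 := by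
  by_cases h : topologicalKrullDim ↥(closure ({x} : Set ↥X)) = n
  · rw [if_pos h]
    have hns : x ∉ CohB1.support F := fun hs => hx ⟨h, hs⟩
    have h0 : len F x = 0 := (len_eq_zero_iff F x).mpr hns
    unfold len at h0
    rw [h0]
    simp
  · rw [if_neg h]

theorem support_subset (n : ℕ) (F : X.Modules) :
    (Function.support fun x : ↥X => if topologicalKrullDim ↥(closure ({x} : Set ↥X)) = n then
      (Module.length (X.presheaf.stalk x) (F.presheaf.stalk x)).toNat •
        KZero.clSub (fun M : X.Modules => Coh.IsCoh M) (Cyc.closureStructureSheaf x) else 0) ⊆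
      SF n F := by
  intro x hx
  by_contra hns
  exact hx (term_eq_zero n F x hns)

theorem len_ne_top_of_dim [IsLocallyNoetherian X] (n : ℕ) (F : X.Modules) (hF : Coh.IsCoh F)
    (hdim : topologicalKrullDim ↥(CohB1.support F) ≤ n) (x : X)
    (hx : topologicalKrullDim ↥(closure ({x} : Set ↥X)) = n) :
    Module.length (X.presheaf.stalk x) (F.presheaf.stalk x) ≠ ⊤ := by
  haveI := hF.1
  haveI := hF.2
  by_cases hxs : x ∈ CohB1.support F
  · refine Module.length_ne_top_iff.mpr
      (Groth.Agent.Lib.Helper18.CycLen.isFiniteLength_stalk_of_maximal F x ?_)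
    intro z hz hzx
    have hzcl : closure {z} ⊆ CohB1.support F :=
      (isClosed_support F).closure_subset_iff.mpr (Set.singleton_subset_iff.mpr hz)
    exact (Groth.Agent.Lib.Helper18.SK0.eq_of_dim_closure n x z hzx.mem_closure hx.ge
      ((Groth.Agent.Lib.Helper18.SK0.dim_mono hzcl).trans hdim)).symm
  · have h0 : len F x = 0 := (len_eq_zero_iff F x).mpr hxs
    unfold len at h0
    rw [h0]
    exact ENat.zero_ne_top

theorem Lsum_add [IsLocallyNoetherian X] (n : ℕ) (S : ShortComplex X.Modules)
    (hS : S.ShortExact) (h1 : Coh.IsCoh S.X₁) (h3 : Coh.IsCoh S.X₃)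
    (d1 : topologicalKrullDim ↥(CohB1.support S.X₁) ≤ n)
    (d3 : topologicalKrullDim ↥(CohB1.support S.X₃) ≤ n)
    (f1 : (SF n S.X₁).Finite) (f3 : (SF n S.X₃).Finite) :
    Lsum n S.X₂ = Lsum n S.X₁ + Lsum n S.X₃ := by
  unfold Lsum
  rw [← finsum_add_distrib (f1.subset (support_subset n _)) (f3.subset (support_subset n _))]
  refine finsum_congr fun x => ?_
  by_cases h : topologicalKrullDim ↥(closure ({x} : Set ↥X)) = n
  · rw [if_pos h, if_pos h, if_pos h]
    have hadd := len_eq_add S hS x
    unfold len at hadd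
    rw [hadd, ENat.toNat_add (len_ne_top_of_dim n _ h1 d1 x h) (len_ne_top_of_dim n _ h3 d3 x h),
      add_smul]
  · rw [if_neg h, if_neg h, if_neg h, add_zero]

/-- the dévissage property -/
structure Good (n : ℕ) (F : X.Modules) : Prop where
  fin : (SF n F).Finite
  mem : KZero.clSub (fun M : X.Modules => Coh.IsCoh M) F - Lsum n F ∈ Filt X n

/-- the dévissage class -/
def K2 (n : ℕ) (F : X.Modules) : Prop :=
  Coh.IsCoh F → topologicalKrullDim ↥(CohB1.support F) ≤ n → Good n F

theorem good_of_ext [IsLocallyNoetherian X] (n : ℕ) (S : ShortComplex X.Modules)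
    (hS : S.ShortExact) (h1 : Coh.IsCoh S.X₁) (h2 : Coh.IsCoh S.X₂) (h3 : Coh.IsCoh S.X₃)
    (d2 : topologicalKrullDim ↥(CohB1.support S.X₂) ≤ n)
    (g1 : Good n S.X₁) (g3 : Good n S.X₃) : Good n S.X₂ := by
  haveI := hS.mono_f
  haveI := hS.epi_g
  have d1 := (dim_mono (support_subset_of_mono S.f)).trans d2
  have d3 := (dim_mono (support_subset_of_epi S.g)).trans d2
  refine ⟨?_, ?_⟩
  · refine (g1.fin.union g3.fin).subset ?_
    rintro x ⟨hx, hxs⟩
    rcases support_subset_union_of_exact S hS.exact hxs with h | h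
    · exact Or.inl ⟨hx, h⟩
    · exact Or.inr ⟨hx, h⟩
  · rw [clSub_add S hS h1 h2 h3, Lsum_add n S hS h1 h3 d1 d3 g1.fin g3.fin]
    have : KZero.clSub (fun M : X.Modules => Coh.IsCoh M) S.X₁ +
        KZero.clSub (fun M : X.Modules => Coh.IsCoh M) S.X₃ - (Lsum n S.X₁ + Lsum n S.X₃) =
        (KZero.clSub (fun M : X.Modules => Coh.IsCoh M) S.X₁ - Lsum n S.X₁) +
        (KZero.clSub (fun M : X.Modules => Coh.IsCoh M) S.X₃ - Lsum n S.X₃) := by abel
    rw [this]
    exact (Filt X n).add_mem g1.mem g3.mem

theorem good_of_sub [IsLocallyNoetherian X] (n : ℕ) (S : ShortComplex X.Modules)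
    (hS : S.ShortExact) (h1 : Coh.IsCoh S.X₁) (h2 : Coh.IsCoh S.X₂) (h3 : Coh.IsCoh S.X₃)
    (d2 : topologicalKrullDim ↥(CohB1.support S.X₂) ≤ n)
    (g2 : Good n S.X₂) (g3 : Good n S.X₃) : Good n S.X₁ := by
  haveI := hS.mono_f
  haveI := hS.epi_g
  have d1 := (dim_mono (support_subset_of_mono S.f)).trans d2
  have d3 := (dim_mono (support_subset_of_epi S.g)).trans d2
  have f1 : (SF n S.X₁).Finite := by
    refine g2.fin.subset ?_
    rintro x ⟨hx, hxs⟩
    exact ⟨hx, support_subset_of_mono S.f hxs⟩
  refine ⟨f1, ?_⟩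
  have e1 := clSub_add S hS h1 h2 h3
  have e2 := Lsum_add n S hS h1 h3 d1 d3 f1 g3.fin
  have : KZero.clSub (fun M : X.Modules => Coh.IsCoh M) S.X₁ - Lsum n S.X₁ =
      (KZero.clSub (fun M : X.Modules => Coh.IsCoh M) S.X₂ - Lsum n S.X₂) -
      (KZero.clSub (fun M : X.Modules => Coh.IsCoh M) S.X₃ - Lsum n S.X₃) := by
    rw [e1, e2]; abel
  rw [this]
  exact (Filt X n).sub_mem g2.mem g3.mem

theorem Lsum_eq_zero (n : ℕ) (F : X.Modules) (h : SF n F = ∅) : Lsum n F = 0 := by
  unfold Lsum
  have : (fun x : ↥X => if topologicalKrullDim ↥(closure ({x} : Set ↥X)) = n then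
      (Module.length (X.presheaf.stalk x) (F.presheaf.stalk x)).toNat •
        KZero.clSub (fun M : X.Modules => Coh.IsCoh M) (Cyc.closureStructureSheaf x) else 0) =
      fun _ => 0 := by
    funext x
    exact term_eq_zero n F x (by rw [h]; exact Set.notMem_empty x)
  rw [this, finsum_zero]

theorem good_zero [IsLocallyNoetherian X] (n : ℕ) (M : X.Modules) (hM : IsZero M) : Good n M := by
  have hsupp : CohB1.support M = ∅ := by
    ext x
    simp only [Set.mem_empty_iff_false, iff_false]
    rw [notMem_support_iff]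
    exact (isZero_iff_stalk_subsingleton M).mp hM x
  have hSF : SF n M = ∅ := by
    ext x
    simp only [SF, Set.mem_setOf_eq, Set.mem_empty_iff_false, iff_false, hsupp, and_false,
      not_false_eq_true]
  refine ⟨by rw [hSF]; exact Set.finite_empty, ?_⟩
  rw [clSub_of_isZero M hM, Lsum_eq_zero n M hSF, sub_zero]
  exact (Filt X n).zero_mem

/-- the structure sheaf of an integral closed subscheme of dimension `≤ n` -/
theorem good_OZ [IsLocallyNoetherian X] (n : ℕ) (y : X)
    (hirr : IsIrreducible (closure ({y} : Set X)))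
    (hdim : topologicalKrullDim ↥(closure ({y} : Set X)) ≤ n) :
    Good n (Cyc.closureStructureSheaf y) := by
  have hBsupp := support_closureStructureSheaf_subset y
  have hsub : SF n (Cyc.closureStructureSheaf y) ⊆ {y} := by
    rintro x ⟨hx, hxs⟩
    exact Groth.Agent.Lib.Helper18.SK0.eq_of_dim_closure n x y (hBsupp hxs) hx.ge hdim
  refine ⟨(Set.finite_singleton y).subset hsub, ?_⟩
  by_cases hn : topologicalKrullDim ↥(closure ({y} : Set X)) = n
  · have hL : Lsum n (Cyc.closureStructureSheaf y) =
        KZero.clSub (fun M : X.Modules => Coh.IsCoh M) (Cyc.closureStructureSheaf y) := by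
      unfold Lsum
      rw [finsum_eq_single _ y (fun x hxy => term_eq_zero n _ x (fun hx => hxy (hsub hx))),
        if_pos hn]
      haveI := isSimpleModule_stalk_closureStructureSheaf y hirr
      rw [Module.length_eq_one (X.presheaf.stalk y)
        ((Cyc.closureStructureSheaf y).presheaf.stalk y)]
      simp
    rw [hL, sub_self]
    exact (Filt X n).zero_mem
  · have hSF : SF n (Cyc.closureStructureSheaf y) = ∅ := by
      ext x
      simp only [Set.mem_empty_iff_false, iff_false]
      intro hx
      have := hsub hx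
      rw [Set.mem_singleton_iff] at this
      subst this
      exact hn hx.1
    rw [Lsum_eq_zero n _ hSF, sub_zero]
    exact AddSubgroup.subset_closure ⟨_, isCoh_closureStructureSheaf y,
      lt_of_le_of_lt (dim_mono hBsupp) (lt_of_le_of_ne hdim hn), rfl⟩

theorem extClosed_K2 [IsLocallyNoetherian X] (n : ℕ) : ExtClosed (K2 (X := X) n) := by
  intro S hS h1 h2 h3 k1 k3 _ hdim
  haveI := hS.mono_f
  haveI := hS.epi_g
  exact good_of_ext n S hS h1 h2 h3 hdim
    (k1 h1 ((dim_mono (support_subset_of_mono S.f)).trans hdim))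
    (k3 h3 ((dim_mono (support_subset_of_epi S.g)).trans hdim))

theorem push_good [IsNoetherian X] (n : ℕ) (y : X) (hZ : IsClosed (closure ({y} : Set X)))
    (hirr : IsIrreducible (closure ({y} : Set X)))
    (hsmall : ∀ F : X.Modules, Coh.IsCoh F → CohB1.support F ⊆ closure {y} →
      y ∉ CohB1.support F → K2 n F)
    (I : (Scheme.IdealSheafData.vanishingIdeal ⟨closure {y}, hZ⟩).subscheme.Modules)
    (ι : I ⟶ unitM _) (hm : Mono ι) :
    K2 n ((Scheme.Modules.pushforward
      (Scheme.IdealSheafData.vanishingIdeal ⟨closure {y}, hZ⟩).subschemeι).obj I) := by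
  intro hA hAdim
  have hB : Coh.IsCoh (Cyc.closureStructureSheaf y) := isCoh_closureStructureSheaf y
  have hBsupp := support_closureStructureSheaf_subset y
  let u : (Scheme.Modules.pushforward
      (Scheme.IdealSheafData.vanishingIdeal ⟨closure {y}, hZ⟩).subschemeι).obj I ⟶
      Cyc.closureStructureSheaf y :=
    (Scheme.Modules.pushforward (Scheme.IdealSheafData.vanishingIdeal ⟨closure {y}, hZ⟩).subschemeι).map ι
  haveI : Mono u := (Scheme.Modules.pushforward _).map_mono ι
  by_cases hyA : y ∈ CohB1.support ((Scheme.Modules.pushforward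
      (Scheme.IdealSheafData.vanishingIdeal ⟨closure {y}, hZ⟩).subschemeι).obj I)
  · haveI := hA.2
    have hZA : closure {y} ⊆ CohB1.support ((Scheme.Modules.pushforward
        (Scheme.IdealSheafData.vanishingIdeal ⟨closure {y}, hZ⟩).subschemeι).obj I) :=
      (isClosed_support _).closure_subset_iff.mpr (Set.singleton_subset_iff.mpr hyA)
    have hZdim : topologicalKrullDim ↥(closure ({y} : Set X)) ≤ n := (dim_mono hZA).trans hAdim
    have hsurj := surjective_stalkMap_of_simple u y
      (isSimpleModule_stalk_closureStructureSheaf y hirr) hyA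
    have hC : Coh.IsCoh (cokernel u) := isCoh_cokernel u hA hB
    have hCsupp : CohB1.support (cokernel u) ⊆ closure {y} :=
      (support_subset_of_epi (cokernel.π u)).trans hBsupp
    have hCgood := hsmall _ hC hCsupp (notMem_support_cokernel u y hsurj) hC
      ((dim_mono hCsupp).trans hZdim)
    have hSES : (ShortComplex.mk u (cokernel.π u) (cokernel.condition u)).ShortExact :=
      ShortComplex.ShortExact.mk (ShortComplex.exact_cokernel u)
    exact good_of_sub n _ hSES hA hB hC ((dim_mono hBsupp).trans hZdim)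
      (good_OZ n y hirr hZdim) hCgood
  · exact hsmall _ hA ((support_subset_of_mono u).trans hBsupp) hyA hA hAdim

/-- **S5642** -/
theorem main2 [IsNoetherian X] (n : ℕ) (F : X.Modules) (hF : Coh.IsCoh F)
    (hdim : topologicalKrullDim ↥(CohB1.support F) ≤ n) :
    KZero.clSub (fun M : X.Modules => Coh.IsCoh M) F - Lsum n F ∈ Filt X n := by
  have h0 : ∀ M : X.Modules, IsZero M → K2 n M := fun M hM _ _ => good_zero n M hM
  have hiso : ∀ M N : X.Modules, (M ≅ N) → K2 n M → K2 n N := by
    intro M N e hM hN hd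
    have hMc : Coh.IsCoh M := isCoh_of_iso e.symm hN
    have hz : IsZero (cokernel e.hom) := isZero_cokernel_of_epi e.hom
    have hS : (ShortComplex.mk e.hom (cokernel.π e.hom) (cokernel.condition _)).ShortExact :=
      ShortComplex.ShortExact.mk (ShortComplex.exact_cokernel e.hom)
    exact extClosed_K2 n _ hS hMc hN (isCoh_of_isZero _ hz) hM (h0 _ hz) hN hd
  have key : K2 n F := by
    refine devissage_core (K' := K2 n) h0 (extClosed_K2 n) Set.univ ?_ F hF (Set.subset_univ _)
    intro Z hZ hirr _ y hy hsmall T hT hTsupp hTs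
    subst hy
    exact mem_of_simple_stalk_of_push hiso (extClosed_K2 n) _ hZ hirr y rfl
      (fun I ι hm _ => push_good n y hZ hirr hsmall I ι hm) hsmall T hT hTsupp hTs
  exact (key hF hdim).mem

/-- the dévissage property for every coherent module (finiteness and membership) -/
theorem good_all [IsNoetherian X] (n : ℕ) (F : X.Modules) (hF : Coh.IsCoh F)
    (hdim : topologicalKrullDim ↥(CohB1.support F) ≤ n) : Good n F := by
  have h0 : ∀ M : X.Modules, IsZero M → K2 n M := fun M hM _ _ => good_zero n M hM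
  have hiso : ∀ M N : X.Modules, (M ≅ N) → K2 n M → K2 n N := by
    intro M N e hM hN hd
    have hMc : Coh.IsCoh M := isCoh_of_iso e.symm hN
    have hz : IsZero (cokernel e.hom) := isZero_cokernel_of_epi e.hom
    have hS : (ShortComplex.mk e.hom (cokernel.π e.hom) (cokernel.condition _)).ShortExact :=
      ShortComplex.ShortExact.mk (ShortComplex.exact_cokernel e.hom)
    exact extClosed_K2 n _ hS hMc hN (isCoh_of_isZero _ hz) hM (h0 _ hz) hN hd
  have key : K2 n F := by
    refine devissage_core (K' := K2 n) h0 (extClosed_K2 n) Set.univ ?_ F hF (Set.subset_univ _)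
    intro Z hZ hirr _ y hy hsmall T hT hTsupp hTs
    subst hy
    exact mem_of_simple_stalk_of_push hiso (extClosed_K2 n) _ hZ hirr y rfl
      (fun I ι hm _ => push_good n y hZ hirr hsmall I ι hm) hsmall T hT hTsupp hTs
  exact key hF hdim

end Groth.Agent.Lib.Helper18.SK2
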