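import Mathlib
import Groth.Agent.Lib.Helper18.SK1
import Groth.Agent.Lib.Helper18.CycLen

/-!
# K₀ of coherent modules: the rank homomorphism at the generic points (S15981)
-/

set_option autoImplicit false
set_option linter.unusedSectionVars false
set_option linter.style.haveILetI false
universe u
open AlgebraicGeometry CategoryTheory TopologicalSpace Limits
open Groth.Agent.Lib.Helper29.QCoh
open Groth.Agent.Lib.Helper12.H12ModGlue
open Groth.Agent.Lib.Helper12.H12Dev

namespace Groth.Agent.Lib.Helper18.SK3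

open Groth.Agent.Lib.Helper18.SK1

variable {X : Scheme.{u}}

/-- a point with zero-dimensional local ring has no proper generization -/
theorem eq_of_specializes_of_dim_zero (x : X) (hx : ringKrullDim (X.presheaf.stalk x) = 0)
    (z : X) (hz : z ⤳ x) : z = x := by
  have hmem : z ∈ Set.range (X.fromSpecStalk x) := by
    rw [Scheme.range_fromSpecStalk]
    exact hz
  obtain ⟨p, rfl⟩ := hmem
  haveI : Ring.KrullDimLE 0 (X.presheaf.stalk x) := Ring.krullDimLE_iff.mpr hx.le
  have hp : p.asIdeal.IsMaximal := Ideal.isMaximal_of_isPrime p.asIdeal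
  have hp' : p = IsLocalRing.closedPoint (X.presheaf.stalk x) := by
    apply PrimeSpectrum.ext
    exact IsLocalRing.eq_maximalIdeal hp
  rw [hp']
  exact Scheme.fromSpecStalk_closedPoint

/-- the generic points -/
abbrev Gen (X : Scheme.{u}) : Type u := {x : X // ringKrullDim (X.presheaf.stalk x) = 0}

theorem finite_gen [IsNoetherian X] : Finite (Gen X) := by
  have hfin : (irreducibleComponents X).Finite := NoetherianSpace.finite_irreducibleComponents
  haveI := hfin.to_subtype
  refine Finite.of_injective (β := irreducibleComponents X)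
    (fun x => ⟨closure {x.1}, ?_⟩) ?_
  · refine ⟨isIrreducible_singleton.closure, ?_⟩
    intro t ht hle
    obtain ⟨m, hm⟩ := QuasiSober.sober ht.closure isClosed_closure
    have hxm : x.1 ∈ closure ({m} : Set X) := by
      rw [hm.def]
      exact subset_closure (hle (subset_closure rfl))
    have hmx : m ⤳ x.1 := specializes_iff_mem_closure.mpr hxm
    have := eq_of_specializes_of_dim_zero x.1 x.2 m hmx
    subst this
    rw [hm.def]
    exact subset_closure
  · intro x x' h
    have h' : closure ({x.1} : Set X) = closure {x'.1} := congrArg Subtype.val h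
    have h1 : x.1 ⤳ x'.1 := by
      rw [specializes_iff_mem_closure, h']
      exact subset_closure rfl
    have h2 : x'.1 ⤳ x.1 := by
      rw [specializes_iff_mem_closure, ← h']
      exact subset_closure rfl
    exact Subtype.ext (h1.antisymm h2).eq

theorem len_ne_top_gen [IsLocallyNoetherian X] (F : X.Modules) (hF : Coh.IsCoh F) (x : Gen X) :
    Module.length (X.presheaf.stalk x.1) (F.presheaf.stalk x.1) ≠ ⊤ := by
  haveI := hF.1
  haveI := hF.2
  exact (Groth.Agent.Lib.Helper18.CycLen.length_stalk_lt_top_of_maximal F x.1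
    (fun z _ hz => eq_of_specializes_of_dim_zero x.1 x.2 z hz)).ne

/-- the rank function of a module -/
noncomputable def rkFun (F : X.Modules) : Gen X → ℤ :=
  fun x => ((Module.length (X.presheaf.stalk x.1) (F.presheaf.stalk x.1)).toNat : ℤ)

theorem rkFun_add [IsLocallyNoetherian X] (S : ShortComplex X.Modules) (hS : S.ShortExact)
    (h1 : Coh.IsCoh S.X₁) (h3 : Coh.IsCoh S.X₃) :
    rkFun S.X₂ = rkFun S.X₁ + rkFun S.X₃ := by
  funext x
  simp only [rkFun, Pi.add_apply]
  have hadd := len_eq_add S hS x.1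
  unfold len at hadd
  rw [hadd, ENat.toNat_add (len_ne_top_gen _ h1 x) (len_ne_top_gen _ h3 x)]
  push_cast
  rfl

/-- the rank homomorphism -/
noncomputable def rk [IsLocallyNoetherian X] :
    KZero.K0sub (fun M : X.Modules => Coh.IsCoh M) →+ (Gen X → ℤ) :=
  QuotientAddGroup.lift _
    (FreeAbelianGroup.lift (fun F : Subtype (fun M : X.Modules => Coh.IsCoh M) => rkFun F.1)) (by
      intro c hc
      rw [AddMonoidHom.mem_ker]
      induction hc using AddSubgroup.closure_induction with
      | mem c hc =>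
        obtain ⟨S, h1, h2, h3, hS, rfl⟩ := hc
        simp only [map_sub, FreeAbelianGroup.lift_apply_of]
        rw [rkFun_add S hS h1 h3]
        abel
      | zero => exact map_zero _
      | add a b _ _ ha hb => rw [map_add, ha, hb, add_zero]
      | neg a _ ha => rw [map_neg, ha, neg_zero])

theorem rk_cls [IsLocallyNoetherian X] (F : X.Modules) (hF : Coh.IsCoh F) :
    rk (KZero.clSub (fun M : X.Modules => Coh.IsCoh M) F) = rkFun F := by
  unfold KZero.clSub
  rw [dif_pos hF]
  unfold rk
  simp only [QuotientAddGroup.lift_mk, FreeAbelianGroup.lift_apply_of]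

/-- the first step of the coniveau filtration -/
noncomputable def Fil1 (X : Scheme.{u}) :
    AddSubgroup (KZero.K0sub (fun M : X.Modules => Coh.IsCoh M)) :=
  AddSubgroup.closure {c : KZero.K0sub (fun M : X.Modules => Coh.IsCoh M) |
    ∃ F : X.Modules, Coh.IsCoh F ∧
      (∀ x ∈ CohB1.support F, (1 : WithBot ℕ∞) ≤ ringKrullDim (X.presheaf.stalk x)) ∧
      c = KZero.clSub (fun M : X.Modules => Coh.IsCoh M) F}

/-- `Σ_η g(η) [O_{Z(η)}]` -/
noncomputable def Phi [Fintype (Gen X)] (g : Gen X → ℤ) :
    KZero.K0sub (fun M : X.Modules => Coh.IsCoh M) :=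
  ∑ x : Gen X, g x • KZero.clSub (fun M : X.Modules => Coh.IsCoh M) (Cyc.closureStructureSheaf x.1)

theorem Phi_add [Fintype (Gen X)] (g g' : Gen X → ℤ) : Phi (g + g') = Phi g + Phi g' := by
  unfold Phi
  rw [← Finset.sum_add_distrib]
  refine Finset.sum_congr rfl (fun x _ => ?_)
  rw [Pi.add_apply, add_smul]

theorem Phi_zero [Fintype (Gen X)] : Phi (0 : Gen X → ℤ) = 0 := by
  unfold Phi
  simp

theorem Phi_neg [Fintype (Gen X)] (g : Gen X → ℤ) : Phi (-g) = - Phi g := by
  unfold Phi
  rw [← Finset.sum_neg_distrib]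
  refine Finset.sum_congr rfl (fun x _ => ?_)
  rw [Pi.neg_apply, neg_smul]

theorem rkFun_eq_zero_of_notMem (F : X.Modules) (x : Gen X) (hx : x.1 ∉ CohB1.support F) :
    rkFun F x = 0 := by
  have h0 : len F x.1 = 0 := (len_eq_zero_iff F x.1).mpr hx
  unfold len at h0
  simp only [rkFun]
  rw [h0]
  simp

theorem rkFun_OZ_gen [DecidableEq (Gen X)] (y : Gen X)
    (hirr : IsIrreducible (closure ({y.1} : Set X))) :
    rkFun (Cyc.closureStructureSheaf y.1) = Pi.single y 1 := by
  funext x
  by_cases hxy : x = y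
  · subst hxy
    rw [Pi.single_eq_same]
    simp only [rkFun]
    haveI := isSimpleModule_stalk_closureStructureSheaf x.1 hirr
    rw [Module.length_eq_one (X.presheaf.stalk x.1)
      ((Cyc.closureStructureSheaf x.1).presheaf.stalk x.1)]
    simp
  · rw [Pi.single_eq_of_ne hxy]
    apply rkFun_eq_zero_of_notMem
    intro hx
    have h1 : x.1 ∈ closure ({y.1} : Set X) := support_closureStructureSheaf_subset y.1 hx
    have h2 : y.1 ⤳ x.1 := specializes_iff_mem_closure.mpr h1
    exact hxy (Subtype.ext (eq_of_specializes_of_dim_zero x.1 x.2 y.1 h2).symm)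

theorem rkFun_OZ_nongen (y : X) (hy : ringKrullDim (X.presheaf.stalk y) ≠ 0) :
    rkFun (Cyc.closureStructureSheaf y) = 0 := by
  funext x
  apply rkFun_eq_zero_of_notMem
  intro hx
  have h1 : x.1 ∈ closure ({y} : Set X) := support_closureStructureSheaf_subset y hx
  have h2 : y ⤳ x.1 := specializes_iff_mem_closure.mpr h1
  have := eq_of_specializes_of_dim_zero x.1 x.2 y h2
  subst this
  exact hy x.2

theorem one_le_dim_of_ne_zero (x : X) (hx : ringKrullDim (X.presheaf.stalk x) ≠ 0) :
    (1 : WithBot ℕ∞) ≤ ringKrullDim (X.presheaf.stalk x) := by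
  have hnn : 0 ≤ ringKrullDim (X.presheaf.stalk x) := ringKrullDim_nonneg_of_nontrivial
  by_contra h
  rw [not_le] at h
  generalize ringKrullDim (X.presheaf.stalk x) = d at *
  induction d using WithBot.recBotCoe with
  | bot => exact absurd hnn (by simp)
  | coe e =>
    have h' : e < 1 := by exact_mod_cast h
    have : e = 0 := ENat.lt_one_iff_eq_zero.mp h'
    subst this
    exact hx rfl

theorem mem_Fil1_OZ [IsLocallyNoetherian X] (y : X)
    (hy : ringKrullDim (X.presheaf.stalk y) ≠ 0) :
    KZero.clSub (fun M : X.Modules => Coh.IsCoh M) (Cyc.closureStructureSheaf y) ∈ Fil1 X := by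
  refine AddSubgroup.subset_closure ⟨_, isCoh_closureStructureSheaf y, ?_, rfl⟩
  intro x hx
  apply one_le_dim_of_ne_zero
  intro h0
  have h1 : x ∈ closure ({y} : Set X) := support_closureStructureSheaf_subset y hx
  have h2 : y ⤳ x := specializes_iff_mem_closure.mpr h1
  have := eq_of_specializes_of_dim_zero x h0 y h2
  subst this
  exact hy h0

/-- the dévissage class -/
def K3 [Fintype (Gen X)] (F : X.Modules) : Prop :=
  Coh.IsCoh F → KZero.clSub (fun M : X.Modules => Coh.IsCoh M) F - Phi (rkFun F) ∈ Fil1 X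

theorem k3_of_ext [IsLocallyNoetherian X] [Fintype (Gen X)] (S : ShortComplex X.Modules)
    (hS : S.ShortExact) (h1 : Coh.IsCoh S.X₁) (h2 : Coh.IsCoh S.X₂) (h3 : Coh.IsCoh S.X₃)
    (g1 : K3 S.X₁) (g3 : K3 S.X₃) : K3 S.X₂ := by
  intro _
  rw [clSub_add S hS h1 h2 h3, rkFun_add S hS h1 h3, Phi_add]
  have : KZero.clSub (fun M : X.Modules => Coh.IsCoh M) S.X₁ +
      KZero.clSub (fun M : X.Modules => Coh.IsCoh M) S.X₃ - (Phi (rkFun S.X₁) + Phi (rkFun S.X₃)) =
      (KZero.clSub (fun M : X.Modules => Coh.IsCoh M) S.X₁ - Phi (rkFun S.X₁)) +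
      (KZero.clSub (fun M : X.Modules => Coh.IsCoh M) S.X₃ - Phi (rkFun S.X₃)) := by abel
  rw [this]
  exact (Fil1 X).add_mem (g1 h1) (g3 h3)

theorem k3_of_sub [IsLocallyNoetherian X] [Fintype (Gen X)] (S : ShortComplex X.Modules)
    (hS : S.ShortExact) (h1 : Coh.IsCoh S.X₁) (h2 : Coh.IsCoh S.X₂) (h3 : Coh.IsCoh S.X₃)
    (g2 : K3 S.X₂) (g3 : K3 S.X₃) : K3 S.X₁ := by
  intro _
  have e1 := clSub_add S hS h1 h2 h3
  have e2 := rkFun_add S hS h1 h3
  have : KZero.clSub (fun M : X.Modules => Coh.IsCoh M) S.X₁ - Phi (rkFun S.X₁) =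
      (KZero.clSub (fun M : X.Modules => Coh.IsCoh M) S.X₂ - Phi (rkFun S.X₂)) -
      (KZero.clSub (fun M : X.Modules => Coh.IsCoh M) S.X₃ - Phi (rkFun S.X₃)) := by
    rw [e1, e2, Phi_add]; abel
  rw [this]
  exact (Fil1 X).sub_mem (g2 h2) (g3 h3)

theorem k3_zero [IsLocallyNoetherian X] [Fintype (Gen X)] (M : X.Modules) (hM : IsZero M) :
    K3 M := by
  intro _
  have hr : rkFun M = 0 := by
    funext x
    apply rkFun_eq_zero_of_notMem
    rw [notMem_support_iff]
    exact (isZero_iff_stalk_subsingleton M).mp hM x.1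
  rw [clSub_of_isZero M hM, hr, Phi_zero, sub_zero]
  exact (Fil1 X).zero_mem

theorem k3_OZ [IsLocallyNoetherian X] [Fintype (Gen X)] (y : X)
    (hirr : IsIrreducible (closure ({y} : Set X))) : K3 (Cyc.closureStructureSheaf y) := by
  classical
  intro _
  by_cases hy : ringKrullDim (X.presheaf.stalk y) = 0
  · have hr := rkFun_OZ_gen (⟨y, hy⟩ : Gen X) hirr
    rw [hr]
    have hP : Phi (Pi.single (⟨y, hy⟩ : Gen X) (1 : ℤ)) =
        KZero.clSub (fun M : X.Modules => Coh.IsCoh M) (Cyc.closureStructureSheaf y) := by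
      unfold Phi
      rw [Finset.sum_eq_single (⟨y, hy⟩ : Gen X)]
      · rw [Pi.single_eq_same, one_smul]
      · intro x _ hx
        rw [Pi.single_eq_of_ne hx, zero_smul]
      · intro h
        exact absurd (Finset.mem_univ _) h
    rw [hP, sub_self]
    exact (Fil1 X).zero_mem
  · rw [rkFun_OZ_nongen y hy, Phi_zero, sub_zero]
    exact mem_Fil1_OZ y hy

theorem extClosed_K3 [IsLocallyNoetherian X] [Fintype (Gen X)] : ExtClosed (K3 (X := X)) :=
  fun S hS h1 h2 h3 k1 k3 => k3_of_ext S hS h1 h2 h3 k1 k3

theorem push_k3 [IsNoetherian X] [Fintype (Gen X)] (y : X)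
    (hZ : IsClosed (closure ({y} : Set X)))
    (hirr : IsIrreducible (closure ({y} : Set X)))
    (hsmall : ∀ F : X.Modules, Coh.IsCoh F → CohB1.support F ⊆ closure {y} →
      y ∉ CohB1.support F → K3 F)
    (I : (Scheme.IdealSheafData.vanishingIdeal ⟨closure {y}, hZ⟩).subscheme.Modules)
    (ι : I ⟶ unitM _) (hm : Mono ι) :
    K3 ((Scheme.Modules.pushforward
      (Scheme.IdealSheafData.vanishingIdeal ⟨closure {y}, hZ⟩).subschemeι).obj I) := by
  intro hA
  have hB : Coh.IsCoh (Cyc.closureStructureSheaf y) := isCoh_closureStructureSheaf y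
  have hBsupp := support_closureStructureSheaf_subset y
  let u : (Scheme.Modules.pushforward
      (Scheme.IdealSheafData.vanishingIdeal ⟨closure {y}, hZ⟩).subschemeι).obj I ⟶
      Cyc.closureStructureSheaf y :=
    (Scheme.Modules.pushforward (Scheme.IdealSheafData.vanishingIdeal ⟨closure {y}, hZ⟩).subschemeι).map ι
  haveI : Mono u := (Scheme.Modules.pushforward _).map_mono ι
  by_cases hyA : y ∈ CohB1.support ((Scheme.Modules.pushforward
      (Scheme.IdealSheafData.vanishingIdeal ⟨closure {y}, hZ⟩).subschemeι).obj I)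
  · have hsurj := surjective_stalkMap_of_simple u y
      (isSimpleModule_stalk_closureStructureSheaf y hirr) hyA
    have hC : Coh.IsCoh (cokernel u) := isCoh_cokernel u hA hB
    have hCsupp : CohB1.support (cokernel u) ⊆ closure {y} :=
      (support_subset_of_epi (cokernel.π u)).trans hBsupp
    have hCgood := hsmall _ hC hCsupp (notMem_support_cokernel u y hsurj)
    have hSES : (ShortComplex.mk u (cokernel.π u) (cokernel.condition u)).ShortExact :=
      ShortComplex.ShortExact.mk (ShortComplex.exact_cokernel u)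
    have hk := k3_of_sub (ShortComplex.mk u (cokernel.π u) (cokernel.condition u)) hSES hA hB hC
      (k3_OZ y hirr) hCgood
    exact hk hA
  · exact hsmall _ hA ((support_subset_of_mono u).trans hBsupp) hyA hA

/-- `[F] ≡ Σ_η length(F_η) [O_{Z(η)}]` modulo the first step of the coniveau filtration -/
theorem k3_all [IsNoetherian X] [Fintype (Gen X)] (F : X.Modules) (hF : Coh.IsCoh F) :
    KZero.clSub (fun M : X.Modules => Coh.IsCoh M) F - Phi (rkFun F) ∈ Fil1 X := by
  have h0 : ∀ M : X.Modules, IsZero M → K3 M := fun M hM => k3_zero M hM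
  have hiso : ∀ M N : X.Modules, (M ≅ N) → K3 M → K3 N := by
    intro M N e hM hN
    have hMc : Coh.IsCoh M := isCoh_of_iso e.symm hN
    have hz : IsZero (cokernel e.hom) := isZero_cokernel_of_epi e.hom
    have hS : (ShortComplex.mk e.hom (cokernel.π e.hom) (cokernel.condition _)).ShortExact :=
      ShortComplex.ShortExact.mk (ShortComplex.exact_cokernel e.hom)
    have hk := extClosed_K3 (ShortComplex.mk e.hom (cokernel.π e.hom) (cokernel.condition _)) hS
      hMc hN (isCoh_of_isZero _ hz) hM (h0 _ hz)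
    exact hk hN
  have key : K3 F := by
    refine devissage_core (K' := K3) h0 extClosed_K3 Set.univ ?_ F hF (Set.subset_univ _)
    intro Z hZ hirr _ y hy hsmall T hT hTsupp hTs
    subst hy
    exact mem_of_simple_stalk_of_push hiso extClosed_K3 _ hZ hirr y rfl
      (fun I ι hm _ => push_k3 y hZ hirr hsmall I ι hm) hsmall T hT hTsupp hTs
  exact key hF

theorem mk_of_eq_cls (F : X.Modules) (hF : Coh.IsCoh F) :
    (QuotientAddGroup.mk (FreeAbelianGroup.of (⟨F, hF⟩ : Subtype (fun M : X.Modules => Coh.IsCoh M))) :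
      KZero.K0sub (fun M : X.Modules => Coh.IsCoh M)) =
      KZero.clSub (fun M : X.Modules => Coh.IsCoh M) F := by
  unfold KZero.clSub
  rw [dif_pos hF]

/-- **S15981** -/
theorem main [IsNoetherian X] :
    (∃ rk : KZero.K0sub (fun M : X.Modules => Coh.IsCoh M) →+
        ({x : X // ringKrullDim (X.presheaf.stalk x) = 0} → ℤ),
        ∀ F : X.Modules, Coh.IsCoh F →
          rk (KZero.clSub (fun M : X.Modules => Coh.IsCoh M) F) =
            fun x => ((Module.length (X.presheaf.stalk x.1) (F.presheaf.stalk x.1)).toNat : ℤ)) ∧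
    ∀ rk : KZero.K0sub (fun M : X.Modules => Coh.IsCoh M) →+
        ({x : X // ringKrullDim (X.presheaf.stalk x) = 0} → ℤ),
      (∀ F : X.Modules, Coh.IsCoh F →
          rk (KZero.clSub (fun M : X.Modules => Coh.IsCoh M) F) =
            fun x => ((Module.length (X.presheaf.stalk x.1) (F.presheaf.stalk x.1)).toNat : ℤ)) →
        Function.Surjective rk ∧
          rk.ker = AddSubgroup.closure {c : KZero.K0sub (fun M : X.Modules => Coh.IsCoh M) |
            ∃ F : X.Modules, Coh.IsCoh F ∧
            (∀ x ∈ CohB1.support F, (1 : WithBot ℕ∞) ≤ ringKrullDim (X.presheaf.stalk x)) ∧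
            c = KZero.clSub (fun M : X.Modules => Coh.IsCoh M) F} := by
  classical
  refine ⟨⟨rk, fun F hF => rk_cls F hF⟩, ?_⟩
  intro rk' hrk'
  haveI := finite_gen (X := X)
  haveI := Fintype.ofFinite (Gen X)
  have hrk : ∀ F : X.Modules, Coh.IsCoh F →
      rk' (KZero.clSub (fun M : X.Modules => Coh.IsCoh M) F) = rkFun F := hrk'
  have hPhi : ∀ g : Gen X → ℤ, rk' (Phi g) = g := by
    intro g
    unfold Phi
    rw [map_sum]
    funext y
    rw [Finset.sum_apply, Finset.sum_eq_single y]
    · rw [map_zsmul, hrk _ (isCoh_closureStructureSheaf y.1),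
        rkFun_OZ_gen y isIrreducible_singleton.closure, Pi.smul_apply, Pi.single_eq_same]
      simp
    · intro x _ hxy
      rw [map_zsmul, hrk _ (isCoh_closureStructureSheaf x.1),
        rkFun_OZ_gen x isIrreducible_singleton.closure, Pi.smul_apply,
        Pi.single_eq_of_ne (Ne.symm hxy)]
      simp
    · intro h
      exact absurd (Finset.mem_univ _) h
  refine ⟨fun g => ⟨Phi g, hPhi g⟩, ?_⟩
  have hall : ∀ c : KZero.K0sub (fun M : X.Modules => Coh.IsCoh M),
      c - Phi (rk' c) ∈ Fil1 X := by
    intro c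
    induction c using QuotientAddGroup.induction_on with
    | H a =>
      induction a using FreeAbelianGroup.induction_on with
      | zero =>
        rw [QuotientAddGroup.mk_zero, map_zero, Phi_zero, sub_zero]
        exact (Fil1 X).zero_mem
      | of F =>
        obtain ⟨F, hF⟩ := F
        rw [mk_of_eq_cls F hF, hrk F hF]
        exact k3_all F hF
      | neg F ih =>
        rw [QuotientAddGroup.mk_neg, map_neg, Phi_neg]
        have : -(QuotientAddGroup.mk (FreeAbelianGroup.of F) :
            KZero.K0sub (fun M : X.Modules => Coh.IsCoh M)) -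
            -Phi (rk' (QuotientAddGroup.mk (FreeAbelianGroup.of F))) =
            -((QuotientAddGroup.mk (FreeAbelianGroup.of F) :
              KZero.K0sub (fun M : X.Modules => Coh.IsCoh M)) -
              Phi (rk' (QuotientAddGroup.mk (FreeAbelianGroup.of F)))) := by abel
        rw [this]
        exact (Fil1 X).neg_mem ih
      | add a b iha ihb =>
        rw [QuotientAddGroup.mk_add, map_add, Phi_add]
        have : (QuotientAddGroup.mk a : KZero.K0sub (fun M : X.Modules => Coh.IsCoh M)) +
            QuotientAddGroup.mk b - (Phi (rk' (QuotientAddGroup.mk a)) +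
              Phi (rk' (QuotientAddGroup.mk b))) =
            ((QuotientAddGroup.mk a : KZero.K0sub (fun M : X.Modules => Coh.IsCoh M)) -
              Phi (rk' (QuotientAddGroup.mk a))) +
            ((QuotientAddGroup.mk b : KZero.K0sub (fun M : X.Modules => Coh.IsCoh M)) -
              Phi (rk' (QuotientAddGroup.mk b))) := by abel
        rw [this]
        exact (Fil1 X).add_mem iha ihb
  ext c
  constructor
  · intro hc
    rw [AddMonoidHom.mem_ker] at hc
    have := hall c
    rw [hc, Phi_zero, sub_zero] at this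
    exact this
  · intro hc
    rw [AddMonoidHom.mem_ker]
    induction hc using AddSubgroup.closure_induction with
    | mem c hc =>
      obtain ⟨F, hF, hsupp, rfl⟩ := hc
      rw [hrk F hF]
      funext x
      apply rkFun_eq_zero_of_notMem
      intro hx
      have h1 := hsupp x.1 hx
      rw [x.2] at h1
      exact absurd h1 (by simp)
    | zero => exact map_zero _
    | add a b _ _ ha hb => rw [map_add, ha, hb, add_zero]
    | neg a _ ha => rw [map_neg, ha, neg_zero]

end Groth.Agent.Lib.Helper18.SK3
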