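import Mathlib
import Groth.Agent.Lib.Helper18.SK2
import Groth.Agent.Lib.Helper28.TrivLocus2
import Groth.Agent.Lib.Helper10.PullbackStalk
import Groth.Agent.Lib.Helper29.QCohTensor
import Groth.Agent.Lib.Helper29.QCohLocFree

/-!
# K₀ of coherent modules: tensoring with a locally free module of rank `e` is multiplication by
`e` modulo lower-dimensional classes (S7763)
-/

set_option autoImplicit false
set_option linter.unusedSectionVars false
set_option linter.style.haveILetI false
universe u
open AlgebraicGeometry CategoryTheory TopologicalSpace Limits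
open Groth.Agent.Lib.Helper29.QCoh
open Groth.Agent.Lib.Helper12.H12ModGlue
open Groth.Agent.Lib.Helper12.H12Dev
open Classical
open scoped TensorProduct

namespace Groth.Agent.Lib.Helper18.SK4

open Groth.Agent.Lib.Helper18.SK1 Groth.Agent.Lib.Helper18.SK2

section Alg

theorem length_tensor_free {R : Type u} [CommRing R] [Nontrivial R] (P M : Type u)
    [AddCommGroup P] [Module R P] [Module.Free R P] [Module.Finite R P] [AddCommGroup M]
    [Module R M] :
    Module.length R (P ⊗[R] M) = (Module.finrank R P : ℕ∞) * Module.length R M := by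
  let b := Module.finBasis R P
  let e1 : P ⊗[R] M ≃ₗ[R] (Fin (Module.finrank R P) → R) ⊗[R] M :=
    TensorProduct.congr b.equivFun (LinearEquiv.refl R M)
  let e2 : (Fin (Module.finrank R P) → R) ⊗[R] M ≃ₗ[R] M ⊗[R] (Fin (Module.finrank R P) → R) :=
    TensorProduct.comm R _ _
  let e3 : M ⊗[R] (Fin (Module.finrank R P) → R) ≃ₗ[R] (Fin (Module.finrank R P) → M) :=
    TensorProduct.piScalarRight R R M (Fin (Module.finrank R P))
  rw [(e1 ≪≫ₗ e2 ≪≫ₗ e3).length_eq, Module.length_pi]
  simp

end Alg

variable {X : Scheme.{u}}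

theorem finrank_stalk_of_isFinLocFreeOfRank (E : X.Modules) (e : ℕ)
    (hE : FlatMod.IsFinLocFreeOfRank e E) (x : X) :
    Module.finrank (X.presheaf.stalk x) (E.presheaf.stalk x) = e := by
  obtain ⟨U, hxU, ⟨iso⟩⟩ := hE x
  exact Groth.Agent.Lib.Helper28.TrivLocus.finrank_stalk_of_restrict_iso U.ι ⟨x, hxU⟩ e iso

theorem length_stalk_tensorMod (E F : X.Modules) [F.IsQuasicoherent] (e : ℕ)
    (hE : FlatMod.IsFinLocFreeOfRank e E) (x : X) :
    Module.length (X.presheaf.stalk x) ((CohB1.tensorMod E F).presheaf.stalk x) =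
      (e : ℕ∞) * Module.length (X.presheaf.stalk x) (F.presheaf.stalk x) := by
  have hE' := isFinLocFree_of_isFinLocFreeOfRank hE
  haveI := isQuasicoherent_of_isFinLocFree hE'
  haveI := isFinitePresentation_of_isFinLocFree hE'
  haveI : Module.Free (X.presheaf.stalk x) (E.presheaf.stalk x) := free_stalk_of_isFinLocFree hE' x
  haveI : Module.Finite (X.presheaf.stalk x) (E.presheaf.stalk x) :=
    Groth.Agent.Lib.Helper17.ZClosDepth.module_finite_stalk E x
  obtain ⟨eq⟩ := Groth.Agent.Lib.Helper10.PullbackStalk.nonempty_stalk_tensorMod_equiv E F x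
  rw [eq.length_eq, length_tensor_free, finrank_stalk_of_isFinLocFreeOfRank E e hE x]

/-- **S7763** -/
theorem main3 [IsNoetherian X] (E : X.Modules) (e : ℕ) (hE : FlatMod.IsFinLocFreeOfRank e E)
    (F : X.Modules) (hF : Coh.IsCoh F) (r : ℕ)
    (hr : topologicalKrullDim ↥(CohB1.support F) ≤ r) :
    KZero.clSub (fun M : X.Modules => Coh.IsCoh M) (CohB1.tensorMod E F) -
        e • KZero.clSub (fun M : X.Modules => Coh.IsCoh M) F ∈ Filt X r := by
  have hE' := isFinLocFree_of_isFinLocFreeOfRank hE
  haveI := isQuasicoherent_of_isFinLocFree hE'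
  haveI := isFinitePresentation_of_isFinLocFree hE'
  haveI := hF.1
  haveI := hF.2
  have hT : Coh.IsCoh (CohB1.tensorMod E F) := ⟨inferInstance, inferInstance⟩
  have hsub : CohB1.support (CohB1.tensorMod E F) ⊆ CohB1.support F := by
    intro x hx hFx
    apply hx
    rw [← Module.length_eq_zero_iff (R := X.presheaf.stalk x), length_stalk_tensorMod E F e hE x,
      Module.length_eq_zero_iff.mpr hFx, mul_zero]
  have hTdim : topologicalKrullDim ↥(CohB1.support (CohB1.tensorMod E F)) ≤ r :=
    (dim_mono hsub).trans hr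
  have h1 := main2 r _ hT hTdim
  have h2 := main2 r F hF hr
  have hfin := (good_all r F hF hr).fin
  have hL : Lsum r (CohB1.tensorMod E F) = e • Lsum r F := by
    unfold Lsum
    rw [smul_finsum' e (hfin.subset (support_subset r F))]
    refine finsum_congr fun x => ?_
    by_cases h : topologicalKrullDim ↥(closure ({x} : Set ↥X)) = r
    · rw [if_pos h, if_pos h, length_stalk_tensorMod E F e hE x, ENat.toNat_mul, ENat.toNat_coe,
        mul_smul]
    · rw [if_neg h, if_neg h, smul_zero]
  have : KZero.clSub (fun M : X.Modules => Coh.IsCoh M) (CohB1.tensorMod E F) -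
      e • KZero.clSub (fun M : X.Modules => Coh.IsCoh M) F =
      (KZero.clSub (fun M : X.Modules => Coh.IsCoh M) (CohB1.tensorMod E F) -
        Lsum r (CohB1.tensorMod E F)) -
      e • (KZero.clSub (fun M : X.Modules => Coh.IsCoh M) F - Lsum r F) := by
    rw [hL, smul_sub]
    abel
  rw [this]
  exact (Filt X r).sub_mem h1 ((Filt X r).nsmul_mem h2 e)

end Groth.Agent.Lib.Helper18.SK4
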