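import Mathlib
import Groth.Prelude.Def_Cyc
import Groth.Prelude.Def_FlatMod2
import Groth.Agent.Lib.Helper18.SP5
import Groth.Agent.Lib.Helper18.SQ2
import Groth.Agent.Lib.Helper18.PC4

/-!
# Specialization of the cycle of a flat closed subscheme: `sp [W_η]_r = [W_s]_r`
-/

set_option autoImplicit false
set_option linter.unusedSectionVars false
set_option linter.style.haveILetI false
universe u
open AlgebraicGeometry CategoryTheory TopologicalSpace Limits
open scoped Pointwise

namespace Groth.Agent.Lib.Helper18.SQ3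

open Groth.Agent.Lib.Helper18.SP1 Groth.Agent.Lib.Helper18.SP2 Groth.Agent.Lib.Helper18.SP3
  Groth.Agent.Lib.Helper18.SP4 Groth.Agent.Lib.Helper18.SQ2

/-- the length of a quotient by the kernel of a surjection -/
theorem length_quot_ker {B₀ B : Type u} [CommRing B₀] [CommRing B] (σ : B₀ →+* B)
    (hσ : Function.Surjective σ) :
    Module.length B₀ (B₀ ⧸ RingHom.ker σ) = Module.length B B := by
  refine Groth.Agent.Lib.Helper18.PushStalk.length_eq_of_semilinear_bijective σ hσ
    (RingHom.kerLift σ).toAddMonoidHom ⟨RingHom.kerLift_injective σ, ?_⟩ ?_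
  · intro b
    obtain ⟨c, rfl⟩ := hσ b
    exact ⟨Ideal.Quotient.mk _ c, RingHom.kerLift_mk σ c⟩
  · intro t m
    obtain ⟨m, rfl⟩ := Ideal.Quotient.mk_surjective m
    change RingHom.kerLift σ (Ideal.Quotient.mk _ (t * m)) =
      σ t • RingHom.kerLift σ (Ideal.Quotient.mk _ m)
    rw [RingHom.kerLift_mk, RingHom.kerLift_mk, map_mul]
    rfl

section Fib

variable {X W S : Scheme.{u}} (a : X ⟶ S) (ι : W ⟶ X) [IsClosedImmersion ι] (y : S)

theorem condition_apply (z : ↥(pullback ι (a.fiberι y))) :
    ι (pullback.fst ι (a.fiberι y) z) = a.fiberι y (pullback.snd ι (a.fiberι y) z) := by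
  have h : (pullback.fst ι (a.fiberι y) ≫ ι) z =
      (pullback.snd ι (a.fiberι y) ≫ a.fiberι y) z := by rw [pullback.condition]
  exact h

theorem snd_injective : Function.Injective (pullback.snd ι (a.fiberι y)) :=
  (pullback.snd ι (a.fiberι y)).isEmbedding.injective

theorem mem_range_snd (ζ : ↥(a.fiber y)) (h : a.fiberι y ζ ∈ Set.range ι) :
    ζ ∈ Set.range (pullback.snd ι (a.fiberι y)) := by
  obtain ⟨w, hw⟩ := h
  obtain ⟨z, -, hz⟩ := Scheme.Pullback.exists_preimage_pullback (f := ι) (g := a.fiberι y) w ζ hw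
  exact ⟨z, hz⟩

theorem stalkMap_fst (z : ↥(pullback ι (a.fiberι y))) :
    Function.Surjective ((pullback.fst ι (a.fiberι y)).stalkMap z).hom ∧
      RingHom.ker ((pullback.fst ι (a.fiberι y)).stalkMap z).hom =
        Ideal.map ((ι ≫ a).stalkMap (pullback.fst ι (a.fiberι y) z)).hom
          (IsLocalRing.maximalIdeal
            (S.presheaf.stalk ((ι ≫ a) (pullback.fst ι (a.fiberι y) z)))) :=
  Groth.Agent.Lib.Helper18.SQ1.stalkMap_of_iso_fiber (ι ≫ a) y
    (pullbackRightPullbackFstIso a (S.fromSpecResidueField y) ι)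
    (pullback.fst ι (a.fiberι y))
    (pullbackRightPullbackFstIso_hom_fst a (S.fromSpecResidueField y) ι).symm z

/-- the cycle of the fibre of a closed subscheme, from the lengths of the stalks -/
theorem subschemeFun_eq_sheafFun (δ : ↥(a.fiber y) → ℤ) (r : ℤ)
    (hlen : ∀ z : ↥(pullback ι (a.fiberι y)),
      Module.length ((a.fiber y).presheaf.stalk (pullback.snd ι (a.fiberι y) z))
        (((Scheme.Modules.pullback (a.fiberι y)).obj (OW ι)).presheaf.stalk
          (pullback.snd ι (a.fiberι y) z)) =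
      Module.length ((pullback ι (a.fiberι y)).presheaf.stalk z)
        ((pullback ι (a.fiberι y)).presheaf.stalk z)) :
    Cyc.subschemeFun δ r (pullback.snd ι (a.fiberι y)) =
      Cyc.sheafFun δ r ((Scheme.Modules.pullback (a.fiberι y)).obj (OW ι)) := by
  classical
  funext ζ
  simp only [Cyc.subschemeFun, Cyc.sheafFun]
  by_cases hδ : δ ζ = r
  · rw [if_pos hδ, if_pos hδ]
    by_cases hζ : ζ ∈ Set.range (pullback.snd ι (a.fiberι y))
    · obtain ⟨z₀, rfl⟩ := hζ
      have hset : {z : ↥(pullback ι (a.fiberι y)) |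
          pullback.snd ι (a.fiberι y) z = pullback.snd ι (a.fiberι y) z₀} = {z₀} := by
        ext z
        simp only [Set.mem_setOf_eq, Set.mem_singleton_iff]
        exact ⟨fun h => snd_injective a ι y h, fun h => by rw [h]⟩
      rw [hset, finsum_mem_singleton, hlen z₀]
    · have hset : {z : ↥(pullback ι (a.fiberι y)) | pullback.snd ι (a.fiberι y) z = ζ} = ∅ := by
        ext z
        simp only [Set.mem_setOf_eq, Set.mem_empty_iff_false, iff_false]
        intro h
        exact hζ ⟨z, h⟩
      rw [hset, finsum_mem_empty]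
      have hnot : a.fiberι y ζ ∉ Set.range ι := fun h => hζ (mem_range_snd a ι y ζ h)
      haveI hsub := subsingleton_stalk ι _ hnot
      have hsub' : Subsingleton (((Scheme.Modules.pullback (a.fiberι y)).obj
          (OW ι)).presheaf.stalk ζ) := by
        by_contra hn
        rw [not_subsingleton_iff_nontrivial] at hn
        haveI := Groth.Agent.Lib.Helper18.PullStalk.nontrivial_of_nontrivial_stalk_pullback
          (a.fiberι y) (OW ι) ζ hn
        exact not_subsingleton _ hsub
      rw [Module.length_eq_zero_iff.mpr hsub']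
      rfl
  · rw [if_neg hδ, if_neg hδ]

end Fib

variable (R : Type u) [CommRing R] [IsDomain R] [IsDiscreteValuationRing R]
  {X : Scheme.{u}} (a : X ⟶ Spec (CommRingCat.of R)) [LocallyOfFiniteType a]
  (δη : ↥(a.fiber (genericPoint ↥(Spec (CommRingCat.of R)))) → ℤ)
  (δs : ↥(a.fiber (IsLocalRing.closedPoint R)) → ℤ)
  (hδη : Cyc.DeltaCompat (a.fiberToSpecResidueField (genericPoint ↥(Spec (CommRingCat.of R)))) δη
    (fun _ => 0))
  (hδs : Cyc.DeltaCompat (a.fiberToSpecResidueField (IsLocalRing.closedPoint R)) δs (fun _ => 0))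
  (r : ℤ) {W : Scheme.{u}} (ι : W ⟶ X) [IsClosedImmersion ι] [Flat (ι ≫ a)]
  (hdim : ∀ ζ : ↥(a.fiber (genericPoint ↥(Spec (CommRingCat.of R)))),
    a.fiberι (genericPoint ↥(Spec (CommRingCat.of R))) ζ ∈ Set.range ⇑ι → δη ζ ≤ r)

/-- the local rings of the generic fibre of `W` -/
theorem hlen_generic
    (z : ↥(pullback ι (a.fiberι (genericPoint ↥(Spec (CommRingCat.of R)))))) :
    Module.length ((a.fiber (genericPoint ↥(Spec (CommRingCat.of R)))).presheaf.stalk
        (pullback.snd ι (a.fiberι (genericPoint ↥(Spec (CommRingCat.of R)))) z))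
      (((Scheme.Modules.pullback (a.fiberι (genericPoint ↥(Spec (CommRingCat.of R))))).obj
        (OW ι)).presheaf.stalk
          (pullback.snd ι (a.fiberι (genericPoint ↥(Spec (CommRingCat.of R)))) z)) =
    Module.length
      ((pullback ι (a.fiberι (genericPoint ↥(Spec (CommRingCat.of R))))).presheaf.stalk z)
      ((pullback ι (a.fiberι (genericPoint ↥(Spec (CommRingCat.of R))))).presheaf.stalk z) := by
  rw [length_stalk_generic R a (OW ι)
      (pullback.snd ι (a.fiberι (genericPoint ↥(Spec (CommRingCat.of R)))) z),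
    length_stalk ι _ (pullback.fst ι (a.fiberι (genericPoint ↥(Spec (CommRingCat.of R)))) z)
      (condition_apply a ι (genericPoint ↥(Spec (CommRingCat.of R))) z)]
  obtain ⟨hsurj, hker⟩ := stalkMap_fst a ι (genericPoint ↥(Spec (CommRingCat.of R))) z
  have ht : ((ι ≫ a) (pullback.fst ι
      (a.fiberι (genericPoint ↥(Spec (CommRingCat.of R)))) z)).asIdeal = ⊥ := by
    have h1 : (ι ≫ a) (pullback.fst ι (a.fiberι (genericPoint ↥(Spec (CommRingCat.of R)))) z) =
        genericPoint ↥(Spec (CommRingCat.of R)) := by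
      change a (ι (pullback.fst ι (a.fiberι (genericPoint ↥(Spec (CommRingCat.of R)))) z)) = _
      rw [condition_apply a ι (genericPoint ↥(Spec (CommRingCat.of R))) z, map_fiberι]
    rw [h1, genericPoint_asIdeal]
  rw [maximalIdeal_stalk_eq_bot R _ ht, Ideal.map_bot] at hker
  have hinj : Function.Injective ((pullback.fst ι
      (a.fiberι (genericPoint ↥(Spec (CommRingCat.of R))))).stalkMap z).hom :=
    (RingHom.injective_iff_ker_eq_bot _).mpr hker
  exact Groth.Agent.Lib.Helper18.PC4.length_self_ringEquiv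
    (RingEquiv.ofBijective ((pullback.fst ι
      (a.fiberι (genericPoint ↥(Spec (CommRingCat.of R))))).stalkMap z).hom ⟨hinj, hsurj⟩)

/-- the local rings of the closed fibre of `W` -/
theorem hlen_closed
    (z : ↥(pullback ι (a.fiberι (IsLocalRing.closedPoint R)))) :
    Module.length ((a.fiber (IsLocalRing.closedPoint R)).presheaf.stalk
        (pullback.snd ι (a.fiberι (IsLocalRing.closedPoint R)) z))
      (((Scheme.Modules.pullback (a.fiberι (IsLocalRing.closedPoint R))).obj
        (OW ι)).presheaf.stalk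
          (pullback.snd ι (a.fiberι (IsLocalRing.closedPoint R)) z)) =
    Module.length
      ((pullback ι (a.fiberι (IsLocalRing.closedPoint R))).presheaf.stalk z)
      ((pullback ι (a.fiberι (IsLocalRing.closedPoint R))).presheaf.stalk z) := by
  have hax' : a (a.fiberι (IsLocalRing.closedPoint R)
      (pullback.snd ι (a.fiberι (IsLocalRing.closedPoint R)) z)) = IsLocalRing.closedPoint R :=
    map_fiberι R a _ _
  have ht : (a (a.fiberι (IsLocalRing.closedPoint R)
      (pullback.snd ι (a.fiberι (IsLocalRing.closedPoint R)) z))).asIdeal =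
      IsLocalRing.maximalIdeal R := by rw [hax']; rfl
  obtain ⟨ϖ, hϖ, -⟩ := exists_uniformizer_stalk R _ ht
  rw [length_stalk_closed R a (OW ι) (pullback.snd ι (a.fiberι (IsLocalRing.closedPoint R)) z)
      ϖ hϖ,
    length_quot_stalk ι a _ (pullback.fst ι (a.fiberι (IsLocalRing.closedPoint R)) z)
      (condition_apply a ι _ z) ϖ hϖ]
  obtain ⟨hsurj, hker⟩ := stalkMap_fst a ι (IsLocalRing.closedPoint R) z
  rw [← hker]
  exact length_quot_ker _ hsurj

include hδη hδs hdim in
theorem part1 (x : ↥(a.fiber (IsLocalRing.closedPoint R)))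
    (hx : a.fiberι (IsLocalRing.closedPoint R) x ∈ Set.range ⇑ι) : δs x ≤ r := by
  haveI : IsLocallyNoetherian X := LocallyOfFiniteType.isLocallyNoetherian a
  have hdim' : ∀ ζ : ↥(a.fiber (genericPoint ↥(Spec (CommRingCat.of R)))),
      Nontrivial (((Scheme.Modules.pullback
        (a.fiberι (genericPoint ↥(Spec (CommRingCat.of R))))).obj (OW ι)).presheaf.stalk ζ) →
      δη ζ ≤ r := by
    intro ζ hζ
    apply hdim ζ
    by_contra hnot
    have hsub := subsingleton_stalk ι _ hnot
    haveI := Groth.Agent.Lib.Helper18.PullStalk.nontrivial_of_nontrivial_stalk_pullback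
      (a.fiberι (genericPoint ↥(Spec (CommRingCat.of R)))) (OW ι) ζ hζ
    exact not_subsingleton _ hsub
  have hnt := nontrivial_stalk ι _ hx
  have h2 := (delta_le_of_nontrivial R a δη δs hδη hδs r (OW ι) (isCoh_OW ι)
    (isFlatOver_OW ι a) hdim' _ hnt).2 (map_fiberι R a _ x)
  rwa [δX_closed R a δs hδs x] at h2

include hδη hδs hdim in
theorem part2 :
    Cyc.spFun a (genericPoint ↥(Spec (CommRingCat.of R))) (IsLocalRing.closedPoint R) δη δs r
      (Cyc.subschemeFun δη r
        (pullback.snd ι (a.fiberι (genericPoint ↥(Spec (CommRingCat.of R)))))) =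
    Cyc.subschemeFun δs r (pullback.snd ι (a.fiberι (IsLocalRing.closedPoint R))) := by
  haveI : IsLocallyNoetherian X := LocallyOfFiniteType.isLocallyNoetherian a
  have hdim' : ∀ ζ : ↥(a.fiber (genericPoint ↥(Spec (CommRingCat.of R)))),
      Nontrivial (((Scheme.Modules.pullback
        (a.fiberι (genericPoint ↥(Spec (CommRingCat.of R))))).obj (OW ι)).presheaf.stalk ζ) →
      δη ζ ≤ r := by
    intro ζ hζ
    apply hdim ζ
    by_contra hnot
    have hsub := subsingleton_stalk ι _ hnot
    haveI := Groth.Agent.Lib.Helper18.PullStalk.nontrivial_of_nontrivial_stalk_pullback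
      (a.fiberι (genericPoint ↥(Spec (CommRingCat.of R)))) (OW ι) ζ hζ
    exact not_subsingleton _ hsub
  rw [subschemeFun_eq_sheafFun a ι _ δη r (hlen_generic R a ι),
    subschemeFun_eq_sheafFun a ι _ δs r (hlen_closed R a ι)]
  funext x
  exact Groth.Agent.Lib.Helper18.SP5.part2 R a δη δs hδη hδs r (OW ι) (isCoh_OW ι)
    (isFlatOver_OW ι a) hdim' x

end Groth.Agent.Lib.Helper18.SQ3
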