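import Mathlib
import Groth.Agent.Lib.Helper25.ArtinStep
import Groth.Agent.Lib.Helper23.ArtinLift
import Groth.Agent.S3436

/-!
# Smoothness at a prime from lifting along small extensions with trivial residue field extension
(helper18; variant of helper25's proof of S2060 keeping track of the residue field condition)
-/

set_option autoImplicit false
universe u
open IsLocalRing

namespace Groth.Agent.Lib.Helper18.SmExt

theorem isSmoothAt_of_lift_small_extensions_residue {R S : Type u} [CommRing R] [IsNoetherianRing R]
    [CommRing S] [Algebra R S] [Algebra.FiniteType R S] (q : Ideal S) [q.IsPrime]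
    (L : ∀ (B' B : Type u) [CommRing B'] [CommRing B] [IsLocalRing B'] [IsLocalRing B]
        [IsArtinianRing B'] [IsArtinianRing B] [Algebra R B'] [Algebra R B] (π : B' →ₐ[R] B),
        Function.Surjective π →
        (∃ t : B', RingHom.ker π.toRingHom = Ideal.span {t} ∧
          ∀ a ∈ IsLocalRing.maximalIdeal B', a * t = 0) →
        ∀ g : S →ₐ[R] B, (IsLocalRing.maximalIdeal B).comap g = q →
          (∀ b : B, ∃ s t : S, t ∉ q ∧ g t * b - g s ∈ IsLocalRing.maximalIdeal B) →
          ∃ g' : S →ₐ[R] B', π.comp g' = g) :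
    Algebra.IsSmoothAt R q := by
  let p : Ideal R := q.under R
  let _ := Localization.AtPrime.algebraOfLiesOver p q
  have hess : Algebra.EssFiniteType R (Localization.AtPrime q) :=
    Algebra.EssFiniteType.comp R S (Localization.AtPrime q)
  have hess' : Algebra.EssFiniteType (Localization.AtPrime p) (Localization.AtPrime q) :=
    Algebra.EssFiniteType.of_comp R (Localization.AtPrime p) (Localization.AtPrime q)
  have hNS : IsNoetherianRing S := Algebra.FiniteType.isNoetherianRing R S
  have hNq : IsNoetherianRing (Localization.AtPrime q) :=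
    IsLocalization.isNoetherianRing q.primeCompl _ inferInstance
  have hNp : IsNoetherianRing (Localization.AtPrime p) :=
    IsLocalization.isNoetherianRing p.primeCompl _ inferInstance
  have hfs : Algebra.FormallySmooth (Localization.AtPrime p) (Localization.AtPrime q) := by
    rw [← Groth.Agent.S3436.general, Groth.Agent.Lib.Helper23.ArtinLift.t2481main]
    intro C _ _ _ _ _ J hJ _ u _ hres
    let _ : Algebra R C := ((algebraMap (Localization.AtPrime p) C).comp
      (algebraMap R (Localization.AtPrime p))).toAlgebra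
    have hT : IsScalarTower R (Localization.AtPrime p) C :=
      IsScalarTower.of_algebraMap_eq fun _ => rfl
    have hJtop : J ≠ ⊤ := by
      intro h
      have : Subsingleton (C ⧸ J) := by rw [h]; exact Ideal.Quotient.subsingleton_iff.mpr rfl
      exact not_subsingleton (C ⧸ J) this
    let u₀ : S →ₐ[R] C ⧸ J :=
      (u.restrictScalars R).comp (IsScalarTower.toAlgHom R S (Localization.AtPrime q))
    have hu₀ : ∀ s : S, u₀ s = u (algebraMap S (Localization.AtPrime q) s) := fun s => rfl
    let Good : ∀ J' : Ideal C, (S →ₐ[R] C ⧸ J') → Prop := fun J' v =>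
      (∀ s : S, s ∈ q ↔ ¬ IsUnit (v s)) ∧
        (∀ c : C ⧸ J', ∃ s t : S, t ∉ q ∧ ¬ IsUnit (v t * c - v s))
    have hGood_top : ∀ (J' : Ideal C) (v : S →ₐ[R] C ⧸ J'), Good J' v → J' ≠ ⊤ := by
      intro J' v hv h
      have : Subsingleton (C ⧸ J') := by rw [h]; exact Ideal.Quotient.subsingleton_iff.mpr rfl
      exact (hv.1 0).mp q.zero_mem (isUnit_of_subsingleton _)
    have hlift : ∀ (J₂ J' : Ideal C) (h : J₂ ≤ J') (u₂ : S →ₐ[R] C ⧸ J₂),
        Good J' ((Ideal.Quotient.factorₐ R h).comp u₂) → Good J₂ u₂ := by
      intro J₂ J' h u₂ hG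
      refine ⟨fun s => ?_, fun c => ?_⟩
      · rw [hG.1 s]
        have := Groth.Agent.Lib.Helper25.ArtinStep.isUnit_factor_iff h (hGood_top _ _ hG) (u₂ s)
        exact not_congr this
      · obtain ⟨s, t, ht, hst⟩ := hG.2 (Ideal.Quotient.factor h c)
        refine ⟨s, t, ht, ?_⟩
        have := Groth.Agent.Lib.Helper25.ArtinStep.isUnit_factor_iff h (hGood_top _ _ hG)
          (u₂ t * c - u₂ s)
        rw [← this, map_sub, map_mul]
        exact hst
    have hstep : ∀ (J₂ J' : Ideal C) (h : J₂ ≤ J') (t : C), J' = J₂ ⊔ Ideal.span {t} →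
        IsLocalRing.maximalIdeal C * J' ≤ J₂ → J' ≠ ⊤ →
        ∀ v : S →ₐ[R] C ⧸ J', Good J' v →
          ∃ u₂ : S →ₐ[R] C ⧸ J₂, (Ideal.Quotient.factorₐ R h).comp u₂ = v := by
      intro J₂ J' h t heq hm hJ' v hv
      have hJ2 : J₂ ≠ ⊤ := fun h' => hJ' (top_le_iff.mp (h' ▸ h))
      have : Nontrivial (C ⧸ J₂) := Ideal.Quotient.nontrivial_iff.mpr hJ2
      have : Nontrivial (C ⧸ J') := Ideal.Quotient.nontrivial_iff.mpr hJ'
      have : IsLocalRing (C ⧸ J₂) :=
        IsLocalRing.of_surjective' (Ideal.Quotient.mk J₂) Ideal.Quotient.mk_surjective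
      have : IsLocalRing (C ⧸ J') :=
        IsLocalRing.of_surjective' (Ideal.Quotient.mk J') Ideal.Quotient.mk_surjective
      refine L (C ⧸ J₂) (C ⧸ J') (Ideal.Quotient.factorₐ R h) (Ideal.Quotient.factor_surjective h)
        ⟨Ideal.Quotient.mk J₂ t, ?_, ?_⟩ v ?_ ?_
      · exact Groth.Agent.Lib.Helper25.ArtinStep.ker_factor_eq_span h t heq
      · refine Groth.Agent.Lib.Helper25.ArtinStep.mul_mk_eq_zero (J := J') t ?_ hm
        rw [heq]; exact Ideal.mem_sup_right (Ideal.subset_span rfl)
      · ext s
        rw [Ideal.mem_comap, IsLocalRing.mem_maximalIdeal, mem_nonunits_iff]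
        exact (hv.1 s).symm
      · intro b
        obtain ⟨s, t', ht', hst⟩ := hv.2 b
        exact ⟨s, t', ht', by rwa [IsLocalRing.mem_maximalIdeal, mem_nonunits_iff]⟩
    have hGu₀ : Good J u₀ := by
      refine ⟨fun s => ?_, fun c => ?_⟩
      · rw [hu₀]
        have h1 : IsUnit (u (algebraMap S (Localization.AtPrime q) s)) ↔
            IsUnit (algebraMap S (Localization.AtPrime q) s) :=
          isUnit_map_iff u.toRingHom _
        rw [h1, IsLocalization.AtPrime.isUnit_to_map_iff (Localization.AtPrime q) q]
        simp [Ideal.primeCompl]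
      · obtain ⟨xbar, hx⟩ := hres.2 (IsLocalRing.residue (C ⧸ J) c)
        obtain ⟨x, rfl⟩ := IsLocalRing.residue_surjective xbar
        obtain ⟨s, t, rfl⟩ := IsLocalization.exists_mk'_eq q.primeCompl x
        refine ⟨s, t, t.2, ?_⟩
        rw [IsLocalRing.ResidueField.map_residue] at hx
        have hmem : u (IsLocalization.mk' (Localization.AtPrime q) s t) - c ∈
            IsLocalRing.maximalIdeal (C ⧸ J) := by
          rw [← Ideal.Quotient.eq]
          exact hx
        have heq : u₀ t * c - u₀ s = - (u₀ t *
            (u (IsLocalization.mk' (Localization.AtPrime q) s t) - c)) := by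
          rw [hu₀, hu₀, mul_sub, ← map_mul, mul_comm (algebraMap S (Localization.AtPrime q) t),
            IsLocalization.mk'_spec]
          ring
        rw [heq, ← mem_nonunits_iff, ← IsLocalRing.mem_maximalIdeal]
        exact neg_mem (Ideal.mul_mem_left _ _ hmem)
    obtain ⟨f₀, hf₀⟩ := Groth.Agent.Lib.Helper25.ArtinStep.exists_lift_of_simple_steps
      Good hlift hstep J hJtop u₀ hGu₀
    have hf₀' : ∀ s : S, Ideal.Quotient.mk J (f₀ s) = u₀ s := fun s => AlgHom.congr_fun hf₀ s
    have hunits : ∀ y : q.primeCompl, IsUnit (f₀ y) := by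
      intro y
      rw [← Groth.Agent.Lib.Helper25.ArtinStep.isUnit_mk_iff J hJtop, hf₀']
      by_contra hy
      exact y.2 ((hGu₀.1 y).mpr hy)
    let fq : Localization.AtPrime q →ₐ[R] C :=
      IsLocalization.liftAlgHom (M := q.primeCompl) (f := f₀) hunits
    have hfq : ∀ s : S, fq (algebraMap S (Localization.AtPrime q) s) = f₀ s := by
      intro s
      simp only [fq, IsLocalization.liftAlgHom_apply, IsLocalization.lift_eq]
      rfl
    have hcomm : ∀ r : Localization.AtPrime p,
        fq (algebraMap (Localization.AtPrime p) (Localization.AtPrime q) r) =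
          algebraMap (Localization.AtPrime p) C r := by
      have : (fq : Localization.AtPrime q →+* C).comp
          (algebraMap (Localization.AtPrime p) (Localization.AtPrime q)) =
          algebraMap (Localization.AtPrime p) C := by
        apply IsLocalization.ringHom_ext p.primeCompl
        ext r
        simp only [RingHom.comp_apply]
        rw [← IsScalarTower.algebraMap_apply R (Localization.AtPrime p) (Localization.AtPrime q),
          ← IsScalarTower.algebraMap_apply R (Localization.AtPrime p) C]
        exact fq.commutes r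
      exact fun r => RingHom.congr_fun this r
    let f : Localization.AtPrime q →ₐ[Localization.AtPrime p] C :=
      { (fq : Localization.AtPrime q →+* C) with commutes' := hcomm }
    have hfu : (Ideal.Quotient.mkₐ (Localization.AtPrime p) J).comp f = u := by
      apply AlgHom.coe_ringHom_injective
      apply IsLocalization.ringHom_ext q.primeCompl
      ext s
      show Ideal.Quotient.mk J (fq (algebraMap S (Localization.AtPrime q) s)) = u _
      rw [hfq, hf₀', hu₀]
    refine ⟨f, ⟨fun x hx => ?_⟩, hfu⟩
    have h1 : IsUnit (u x) := by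
      rw [← hfu]
      exact hx.map (Ideal.Quotient.mk J)
    exact (isUnit_map_iff u.toRingHom x).mp h1
  have h1 : Algebra.FormallySmooth R (Localization.AtPrime p) :=
    Algebra.FormallySmooth.of_isLocalization p.primeCompl
  exact Algebra.FormallySmooth.comp R (Localization.AtPrime p) (Localization.AtPrime q)

end Groth.Agent.Lib.Helper18.SmExt
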