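import Mathlib

/-!
# Artinian local algebras with finitely generated residue field are of finite type (helper18)
-/

set_option autoImplicit false
universe u
open IsLocalRing
open scoped Pointwise

namespace Groth.Agent.Lib.Helper18.SmExt

theorem subalgebra_eq_top_of_nilpotent {R B : Type*} [CommRing R] [CommRing B] [Algebra R B]
    (T : Subalgebra R B) (I : Ideal B) (Y : Set B) (hY : Y ⊆ T) (hI : I = Ideal.span Y)
    (hTI : ∀ b : B, ∃ z ∈ T, b - z ∈ I) (n : ℕ) (hn : I ^ n = ⊥) : T = ⊤ := by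
  have hYk : ∀ k : ℕ, ∀ P ∈ Y ^ k, P ∈ T := by
    intro k
    induction k with
    | zero =>
      intro P hP
      rw [pow_zero, Set.mem_one] at hP
      rw [hP]; exact T.one_mem
    | succ k ih =>
      intro P hP
      rw [pow_succ, Set.mem_mul] at hP
      obtain ⟨a, ha, b, hb, rfl⟩ := hP
      exact T.mul_mem (ih a ha) (hY hb)
  have key : ∀ k : ℕ, ∀ b : B, ∃ z ∈ T, b - z ∈ I ^ k := by
    intro k
    induction k with
    | zero =>
      intro b
      exact ⟨0, T.zero_mem, by simp⟩
    | succ k ih =>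
      intro b
      obtain ⟨z, hz, hbz⟩ := ih b
      have hspan : I ^ k = Submodule.span B (Y ^ k) := by
        rw [hI]; exact Submodule.span_pow Y k
      have Q : ∀ x ∈ Submodule.span B (Y ^ k), ∀ c : B, ∃ z' ∈ T, c * x - z' ∈ I ^ (k + 1) := by
        intro x hx
        induction hx using Submodule.span_induction with
        | mem P hP =>
          intro c
          obtain ⟨zc, hzc, hc⟩ := hTI c
          refine ⟨zc * P, T.mul_mem hzc (hYk k P hP), ?_⟩
          have : c * P - zc * P = (c - zc) * P := by ring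
          rw [this, pow_succ']
          refine Ideal.mul_mem_mul hc ?_
          rw [hspan]; exact Submodule.subset_span hP
        | zero =>
          intro c
          exact ⟨0, T.zero_mem, by simp⟩
        | add x y _ _ hx hy =>
          intro c
          obtain ⟨z₁, hz₁, h₁⟩ := hx c
          obtain ⟨z₂, hz₂, h₂⟩ := hy c
          refine ⟨z₁ + z₂, T.add_mem hz₁ hz₂, ?_⟩
          have : c * (x + y) - (z₁ + z₂) = (c * x - z₁) + (c * y - z₂) := by ring
          rw [this]; exact Ideal.add_mem _ h₁ h₂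
        | smul a x _ hx =>
          intro c
          obtain ⟨z₁, hz₁, h₁⟩ := hx (c * a)
          refine ⟨z₁, hz₁, ?_⟩
          rw [smul_eq_mul, ← mul_assoc]; exact h₁
      rw [hspan] at hbz
      obtain ⟨z', hz', h'⟩ := Q _ hbz 1
      refine ⟨z + z', T.add_mem hz hz', ?_⟩
      have : b - (z + z') = 1 * (b - z) - z' := by ring
      rw [this]; exact h'
  rw [eq_top_iff]
  intro b _
  obtain ⟨z, hz, hbz⟩ := key n b
  rw [hn, Ideal.mem_bot, sub_eq_zero] at hbz
  rw [hbz]; exact hz

theorem finiteType_of_artinian_of_residue {R S B' B : Type u} [CommRing R] [CommRing S]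
    [Algebra R S] [Algebra.FiniteType R S] [CommRing B'] [CommRing B] [IsLocalRing B']
    [IsLocalRing B] [IsArtinianRing B'] [Algebra R B'] [Algebra R B]
    (π : B' →ₐ[R] B) (hπ : Function.Surjective π)
    (q : Ideal S) [hq : q.IsMaximal] (g : S →ₐ[R] B) (hg : (maximalIdeal B).comap g = q)
    (hres : ∀ b : B, ∃ s t : S, t ∉ q ∧ g t * b - g s ∈ maximalIdeal B) :
    Algebra.FiniteType R B' := by
  classical
  obtain ⟨σ, hσ⟩ := (Algebra.FiniteType.out : (⊤ : Subalgebra R S).FG)
  obtain ⟨Y, hY⟩ := (IsNoetherian.noetherian (maximalIdeal B') : (maximalIdeal B').FG)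
  choose lift hlift using fun b : B => hπ b
  let Z : Finset B' := σ.image (fun x => lift (g x))
  let T : Subalgebra R B' := Algebra.adjoin R ((Z ∪ Y : Finset B') : Set B')
  have hT : T.FG := ⟨Z ∪ Y, rfl⟩
  have hZ : ∀ x ∈ σ, lift (g x) ∈ T := fun x hx => Algebra.subset_adjoin (by
    rw [Finset.coe_union]
    exact Or.inl (Finset.mem_coe.mpr (Finset.mem_image.mpr ⟨x, hx, rfl⟩)))
  have hYT : (Y : Set B') ⊆ T := fun y hy => Algebra.subset_adjoin (by
    rw [Finset.coe_union]
    exact Or.inr hy)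
  have h1 : ∀ s : S, ∃ z ∈ T, π z = g s := by
    intro s
    have hs : s ∈ Algebra.adjoin R (σ : Set S) := by rw [hσ]; trivial
    induction hs using Algebra.adjoin_induction with
    | mem x hx => exact ⟨lift (g x), hZ x hx, hlift _⟩
    | algebraMap r => exact ⟨algebraMap R B' r, T.algebraMap_mem r, by simp⟩
    | add x y _ _ hx hy =>
      obtain ⟨z₁, h₁, e₁⟩ := hx
      obtain ⟨z₂, h₂, e₂⟩ := hy
      exact ⟨z₁ + z₂, T.add_mem h₁ h₂, by simp [e₁, e₂]⟩
    | mul x y _ _ hx hy =>
      obtain ⟨z₁, h₁, e₁⟩ := hx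
      obtain ⟨z₂, h₂, e₂⟩ := hy
      exact ⟨z₁ * z₂, T.mul_mem h₁ h₂, by simp [e₁, e₂]⟩
  have hloc : ∀ b' : B', π b' ∈ maximalIdeal B → b' ∈ maximalIdeal B' := by
    intro b' hb'
    rw [mem_maximalIdeal, mem_nonunits_iff] at hb' ⊢
    exact fun h => hb' (h.map π)
  have h2 : ∀ b' : B', ∃ z ∈ T, b' - z ∈ maximalIdeal B' := by
    intro b'
    obtain ⟨s, t, ht, hst⟩ := hres (π b')
    obtain ⟨t', i, hi, hti⟩ := Ideal.IsMaximal.exists_inv hq ht
    obtain ⟨z, hz, hzs⟩ := h1 (t' * s)
    refine ⟨z, hz, hloc _ ?_⟩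
    rw [map_sub, hzs]
    have hgi : g i ∈ maximalIdeal B := by rw [← hg] at hi; exact hi
    have h1' : g t' * g t + g i = 1 := by rw [← map_mul, ← map_add, hti, map_one]
    have : π b' - g (t' * s) = g t' * (g t * π b' - g s) + g i * π b' := by
      rw [map_mul]; linear_combination (-(π b')) * h1'
    rw [this]
    exact Ideal.add_mem _ (Ideal.mul_mem_left _ _ hst) (Ideal.mul_mem_right _ _ hgi)
  obtain ⟨n, hn⟩ : ∃ n, maximalIdeal B' ^ n = ⊥ := by
    have := IsArtinianRing.isNilpotent_jacobson_bot (R := B')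
    rw [IsLocalRing.jacobson_eq_maximalIdeal ⊥ bot_ne_top] at this
    exact this
  have hTtop := subalgebra_eq_top_of_nilpotent T (maximalIdeal B') (Y : Set B') hYT hY.symm h2 n hn
  exact ⟨hTtop ▸ hT⟩

end Groth.Agent.Lib.Helper18.SmExt
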