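import Mathlib
import Groth.Agent.Lib.Helper18.SmExt
import Groth.Agent.Lib.Helper18.SmExt2

/-!
# Smoothness from lifting along small extensions of finite type Artinian local algebras (helper18)
-/

set_option autoImplicit false
universe u
open IsLocalRing

namespace Groth.Agent.Lib.Helper18.SmExt

theorem smooth_of_forall_maximal_isSmoothAt {R S : Type u} [CommRing R] [CommRing S] [Algebra R S]
    [Algebra.FinitePresentation R S]
    (h : ∀ (q : Ideal S) [q.IsMaximal], Algebra.IsSmoothAt R q) : Algebra.Smooth R S := by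
  have hopen : IsOpen (Algebra.smoothLocus R S) := Algebra.isOpen_smoothLocus
  have huniv : Algebra.smoothLocus R S = Set.univ := by
    by_contra hne
    have hcl : IsClosed (Algebra.smoothLocus R S)ᶜ := hopen.isClosed_compl
    obtain ⟨J, hJ⟩ := (PrimeSpectrum.isClosed_iff_zeroLocus_ideal _).mp hcl
    have hJtop : J ≠ ⊤ := by
      intro hJ'
      rw [PrimeSpectrum.zeroLocus_empty_iff_eq_top.mpr hJ', Set.compl_empty_iff] at hJ
      exact hne hJ
    obtain ⟨M, hM, hJM⟩ := Ideal.exists_le_maximal J hJtop
    have hmem : (⟨M, hM.isPrime⟩ : PrimeSpectrum S) ∈ (Algebra.smoothLocus R S)ᶜ := by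
      rw [hJ, PrimeSpectrum.mem_zeroLocus]
      exact hJM
    exact hmem (h M)
  have : Algebra.FormallySmooth R S := Algebra.smoothLocus_eq_univ_iff.mp huniv
  exact ⟨this, inferInstance⟩

theorem smooth_of_lift_small_extensions_finiteType {R S : Type u} [CommRing R] [IsNoetherianRing R]
    [CommRing S] [Algebra R S] [Algebra.FiniteType R S]
    (L : ∀ (B' B : Type u) [CommRing B'] [CommRing B] [IsLocalRing B'] [IsLocalRing B]
        [IsArtinianRing B'] [IsArtinianRing B] [Algebra R B'] [Algebra R B] (π : B' →ₐ[R] B),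
        Function.Surjective π →
        (∃ t : B', RingHom.ker π.toRingHom = Ideal.span {t} ∧
          ∀ a ∈ IsLocalRing.maximalIdeal B', a * t = 0) →
        Algebra.FiniteType R B' →
        ∀ g : S →ₐ[R] B, ∃ g' : S →ₐ[R] B', π.comp g' = g) :
    Algebra.Smooth R S := by
  haveI : Algebra.FinitePresentation R S := Algebra.FinitePresentation.of_finiteType.mp inferInstance
  apply smooth_of_forall_maximal_isSmoothAt
  intro q hq
  apply isSmoothAt_of_lift_small_extensions_residue
  intro B' B _ _ _ _ _ _ _ _ π hπ ht g hg hres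
  exact L B' B π hπ ht (finiteType_of_artinian_of_residue π hπ q g hg hres) g

end Groth.Agent.Lib.Helper18.SmExt
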