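import Mathlib
import Groth.Agent.Lib.Helper18.AnUnram5
import Groth.Agent.Lib.Helper18.Nag6
import Groth.Agent.Lib.Helper10.SmoothReduced

/-!
# Descent of the Nagata property along smooth surjective maps
-/

set_option autoImplicit false
set_option linter.style.haveILetI false
set_option linter.unusedSectionVars false
universe u
open CAlg TensorProduct IsLocalRing Groth.Agent.Lib.Helper11.Japanese
open Groth.Agent.Lib.Helper20.Nagata

namespace Groth.Agent.Lib.Helper18.Nag

/-- Noetherianity descends along faithfully flat ring maps. -/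
theorem isNoetherianRing_of_faithfullyFlat (R S : Type u) [CommRing R] [CommRing S] [Algebra R S]
    [Module.FaithfullyFlat R S] [IsNoetherianRing S] : IsNoetherianRing R := by
  rw [isNoetherianRing_iff, isNoetherian_iff']
  have hmono : StrictMono (fun I : Ideal R => I.map (algebraMap R S)) := by
    intro I J hIJ
    refine lt_of_le_of_ne (Ideal.map_mono hIJ.le) ?_
    intro h
    have := congrArg (Ideal.comap (algebraMap R S)) h
    simp only [Ideal.comap_map_eq_self_of_faithfullyFlat] at this
    exact hIJ.ne this
  haveI : WellFoundedGT (Ideal S) := (isNoetherian_iff'.1 (inferInstance : IsNoetherianRing S))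
  exact hmono.wellFoundedGT

set_option maxHeartbeats 800000 in
set_option synthInstance.maxHeartbeats 200000 in
theorem isNagata_of_smooth_of_surjective (R : Type u) [CommRing R] (S : Type u)
    [CommRing S] [Algebra R S] [Algebra.Smooth R S]
    (hs : Function.Surjective (PrimeSpectrum.comap (algebraMap R S))) (hS : CAlg.IsNagata S) :
    CAlg.IsNagata R := by
  haveI : IsNoetherianRing S := hS.1
  haveI : Module.FaithfullyFlat R S := Module.FaithfullyFlat.of_comap_surjective hs
  haveI : IsNoetherianRing R := isNoetherianRing_of_faithfullyFlat R S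
  refine ⟨inferInstance, fun p _ => ?_⟩
  apply isN2_of_forall_finite_isN1
  intro R₁ _ _ _ hfin _
  letI : Algebra R R₁ := ((algebraMap (R ⧸ p) R₁).comp (algebraMap R (R ⧸ p))).toAlgebra
  haveI : IsScalarTower R (R ⧸ p) R₁ := IsScalarTower.of_algebraMap_eq (fun _ => rfl)
  haveI : Module.Finite R R₁ := Module.Finite.trans (R ⧸ p) R₁
  haveI : Algebra.Smooth R₁ (R₁ ⊗[R] S) := inferInstance
  haveI : IsReduced (R₁ ⊗[R] S) :=
    Groth.Agent.Lib.Helper10.SmoothReduced.isReduced_of_smooth_of_isDomain R₁ _
  letI : Algebra S (R₁ ⊗[R] S) := Algebra.TensorProduct.rightAlgebra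
  haveI : Module.Finite S (R₁ ⊗[R] S) :=
    Module.Finite.equiv (Algebra.TensorProduct.commRight R S R₁).toLinearEquiv
  haveI : IsNoetherianRing (R₁ ⊗[R] S) := IsNoetherianRing.of_finite S _
  haveI : Module.FaithfullyFlat R₁ (R₁ ⊗[R] S) := inferInstance
  refine isN1_of_faithfullyFlat R₁ (R₁ ⊗[R] S) ?_
  intro q _ _
  exact isN1_of_isN2 _ ((isNagata_of_finite S hS _).2 q)

end Groth.Agent.Lib.Helper18.Nag
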