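import Mathlib.AlgebraicGeometry.Morphisms.UniversallyOpen
import Mathlib.AlgebraicGeometry.AffineSpace
import Mathlib.AlgebraicGeometry.PullbackCarrier
import Mathlib.RingTheory.TensorProduct.MvPolynomial

set_option autoImplicit false

open AlgebraicGeometry CategoryTheory Limits TensorProduct

universe u v

namespace Groth.Agent.Lib.Helper18

section Core

variable {A B A' : Type (max u v)} [CommRing A] [CommRing B] [CommRing A'] [Algebra A B] [Algebra A A']
variable {σ : Type v}

/-- The ring hom `B[x] → A' ⊗ B` sending `x_i` to `a'_i ⊗ 1`. -/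
noncomputable def polyToTensor (a' : σ → A') : MvPolynomial σ B →+* A' ⊗[A] B :=
  MvPolynomial.eval₂Hom (Algebra.TensorProduct.includeRight : B →ₐ[A] A' ⊗[A] B).toRingHom
    (fun i => a' i ⊗ₜ 1)

attribute [local instance] MvPolynomial.algebraMvPolynomial

lemma isPushout_polyToTensor (a' : σ → A') :
    IsPushout (CommRingCat.ofHom (MvPolynomial.aeval a' : MvPolynomial σ A →ₐ[A] A').toRingHom)
      (CommRingCat.ofHom (MvPolynomial.map (σ := σ) (algebraMap A B)))
      (CommRingCat.ofHom (Algebra.TensorProduct.includeLeftRingHom : A' →+* A' ⊗[A] B))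
      (CommRingCat.ofHom (polyToTensor (A := A) (B := B) a')) := by
  have t := CommRingCat.isPushout_of_isPushout A (MvPolynomial σ A) B (MvPolynomial σ B)
  have s := CommRingCat.isPushout_tensorProduct A A' B
  refine IsPushout.of_left (h₁₁ := CommRingCat.ofHom (algebraMap A (MvPolynomial σ A)))
    (v₁₁ := CommRingCat.ofHom (algebraMap A B))
    (h₂₁ := CommRingCat.ofHom (algebraMap B (MvPolynomial σ B))) ?_ ?_ t
  · convert s using 1
    · ext x
      simp
    · ext x
      simp [polyToTensor]
  · ext x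
    · simp [polyToTensor]
    · simp [polyToTensor]

end Core

section Core2

variable {A B A' : Type (max u v)} [CommRing A] [CommRing B] [CommRing A'] [Algebra A B] [Algebra A A']
variable {σ : Type v}

lemma image_preimage_polyToTensor (a' : σ → A') (s : Set (PrimeSpectrum (MvPolynomial σ B))) :
    PrimeSpectrum.comap (algebraMap A' (A' ⊗[A] B)) '' (PrimeSpectrum.comap (polyToTensor (A := A) a') ⁻¹' s) =
      PrimeSpectrum.comap (MvPolynomial.aeval a' : MvPolynomial σ A →ₐ[A] A').toRingHom ⁻¹'
        (PrimeSpectrum.comap (MvPolynomial.map (σ := σ) (algebraMap A B)) '' s) := by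
  have h := isPullback_SpecMap_of_isPushout _ _ _ _ (isPushout_polyToTensor (A := A) (B := B) a')
  exact Scheme.image_preimage_eq_of_isPullback h.flip s

end Core2

section Core3

variable {A B A' : Type (max u v)} [CommRing A] [CommRing B] [CommRing A'] [Algebra A B] [Algebra A A']
variable {σ : Type v} [Fintype σ]

lemma polyToTensor_linearForm (a' : σ → A') (b : σ → B) :
    polyToTensor (A := A) a' (∑ i, MvPolynomial.X i * MvPolynomial.C (b i)) = ∑ i, a' i ⊗ₜ[A] b i := by
  simp [polyToTensor]

lemma image_basicOpen_tensor (a' : σ → A') (b : σ → B) :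
    PrimeSpectrum.comap (algebraMap A' (A' ⊗[A] B)) '' (PrimeSpectrum.basicOpen (∑ i, a' i ⊗ₜ[A] b i) : Set _) =
      PrimeSpectrum.comap (MvPolynomial.aeval a' : MvPolynomial σ A →ₐ[A] A').toRingHom ⁻¹'
        (PrimeSpectrum.comap (MvPolynomial.map (σ := σ) (algebraMap A B)) ''
          (PrimeSpectrum.basicOpen (∑ i, MvPolynomial.X i * MvPolynomial.C (b i)) : Set _)) := by
  rw [← image_preimage_polyToTensor, ← polyToTensor_linearForm]
  rfl

lemma isOpen_image_basicOpen_tensor (a' : σ → A') (b : σ → B)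
    (h : IsOpen (PrimeSpectrum.comap (MvPolynomial.map (σ := σ) (algebraMap A B)) ''
          (PrimeSpectrum.basicOpen (∑ i, MvPolynomial.X i * MvPolynomial.C (b i)) : Set _))) :
    IsOpen (PrimeSpectrum.comap (algebraMap A' (A' ⊗[A] B)) ''
      (PrimeSpectrum.basicOpen (∑ i, a' i ⊗ₜ[A] b i) : Set _)) := by
  rw [image_basicOpen_tensor]
  exact h.preimage (PrimeSpectrum.continuous_comap _)

end Core3

section Core4

variable {A B : Type u} [CommRing A] [CommRing B] [Algebra A B]

lemma isOpenMap_comap_of_forall_basicOpen {R S : Type*} [CommRing R] [CommRing S] (f : R →+* S)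
    (h : ∀ s : S, IsOpen (PrimeSpectrum.comap f '' (PrimeSpectrum.basicOpen s : Set _))) :
    IsOpenMap (PrimeSpectrum.comap f) := by
  rw [PrimeSpectrum.isTopologicalBasis_basic_opens.isOpenMap_iff]
  rintro _ ⟨s, rfl⟩
  exact h s

/-- every element of `A' ⊗ B` is a linear form in spanning elements `b`. -/
lemma exists_eq_sum_tmul_of_span_eq_top {σ : Type} [Fintype σ] (b : σ → B)
    (hb : Submodule.span A (Set.range b) = ⊤) (A' : Type u) [CommRing A'] [Algebra A A']
    (γ : A' ⊗[A] B) : ∃ a' : σ → A', γ = ∑ i, a' i ⊗ₜ[A] b i := by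
  induction γ using TensorProduct.induction_on with
  | zero => exact ⟨0, by simp⟩
  | tmul x y =>
    have hy : y ∈ Submodule.span A (Set.range b) := hb ▸ Submodule.mem_top
    obtain ⟨c, rfl⟩ := (Submodule.mem_span_range_iff_exists_fun A).mp hy
    refine ⟨fun i => c i • x, ?_⟩
    simp [TensorProduct.tmul_sum, TensorProduct.smul_tmul]
  | add x y hx hy =>
    obtain ⟨a1, rfl⟩ := hx
    obtain ⟨a2, rfl⟩ := hy
    exact ⟨a1 + a2, by simp [TensorProduct.add_tmul, Finset.sum_add_distrib]⟩

lemma isOpenMap_comap_tensor_of_isOpen_image_linearForm {σ : Type} [Fintype σ] (b : σ → B)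
    (hb : Submodule.span A (Set.range b) = ⊤)
    (h : IsOpen (PrimeSpectrum.comap (MvPolynomial.map (σ := σ) (algebraMap A B)) ''
          (PrimeSpectrum.basicOpen (∑ i, MvPolynomial.X i * MvPolynomial.C (b i)) : Set _)))
    (A' : Type u) [CommRing A'] [Algebra A A'] :
    IsOpenMap (PrimeSpectrum.comap (algebraMap A' (A' ⊗[A] B))) := by
  refine isOpenMap_comap_of_forall_basicOpen _ fun γ => ?_
  obtain ⟨a', rfl⟩ := exists_eq_sum_tmul_of_span_eq_top b hb A' γ
  exact isOpen_image_basicOpen_tensor a' b h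

/-- every element of `A' ⊗ B` is a finite sum of pure tensors indexed by `Fin n`. -/
lemma exists_eq_sum_tmul_fin (A' : Type u) [CommRing A'] [Algebra A A']
    (γ : A' ⊗[A] B) : ∃ (n : ℕ) (a' : Fin n → A') (b : Fin n → B), γ = ∑ i, a' i ⊗ₜ[A] b i := by
  induction γ using TensorProduct.induction_on with
  | zero => exact ⟨0, Fin.elim0, Fin.elim0, by simp⟩
  | tmul x y => exact ⟨1, fun _ => x, fun _ => y, by simp⟩
  | add x y hx hy =>
    obtain ⟨n1, a1, b1, rfl⟩ := hx
    obtain ⟨n2, a2, b2, rfl⟩ := hy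
    exact ⟨n1 + n2, Fin.append a1 a2, Fin.append b1 b2, by simp [Fin.sum_univ_add]⟩

lemma isOpenMap_comap_tensor_of_forall_isOpenMap_map
    (h : ∀ n : ℕ, IsOpenMap (PrimeSpectrum.comap (MvPolynomial.map (σ := Fin n) (algebraMap A B))))
    (A' : Type u) [CommRing A'] [Algebra A A'] :
    IsOpenMap (PrimeSpectrum.comap (algebraMap A' (A' ⊗[A] B))) := by
  refine isOpenMap_comap_of_forall_basicOpen _ fun γ => ?_
  obtain ⟨n, a', b, rfl⟩ := exists_eq_sum_tmul_fin A' γ
  exact isOpen_image_basicOpen_tensor a' b (h n _ (PrimeSpectrum.basicOpen _).2)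

end Core4

section ULiftVersion

variable {A B : Type u} [CommRing A] [CommRing B] [Algebra A B]

lemma isOpenMap_comap_tensor_of_forall_isOpenMap_map_ulift
    (h : ∀ n : ℕ, IsOpenMap (PrimeSpectrum.comap
      (MvPolynomial.map (σ := ULift.{u} (Fin n)) (algebraMap A B))))
    (A' : Type u) [CommRing A'] [Algebra A A'] :
    IsOpenMap (PrimeSpectrum.comap (algebraMap A' (A' ⊗[A] B))) := by
  refine isOpenMap_comap_of_forall_basicOpen _ fun γ => ?_
  obtain ⟨n, a', b, rfl⟩ := exists_eq_sum_tmul_fin A' γ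
  have := isOpen_image_basicOpen_tensor.{u, u} (A := A) (σ := ULift.{u} (Fin n))
    (fun i => a' i.down) (fun i => b i.down) (h n _ (PrimeSpectrum.basicOpen _).2)
  have e : ∑ i, a' i ⊗ₜ[A] b i = ∑ i : ULift.{u} (Fin n), a' i.down ⊗ₜ[A] b i.down :=
    (Fintype.sum_equiv Equiv.ulift (fun i : ULift.{u} (Fin n) => a' i.down ⊗ₜ[A] b i.down)
      (fun i => a' i ⊗ₜ[A] b i) (fun _ => rfl)).symm
  rw [e]
  exact this

end ULiftVersion

section SchemePart

open MorphismProperty

variable {A B : Type u} [CommRing A] [CommRing B] [Algebra A B]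

lemma universallyOpen_SpecMap_of_forall_tensor
    (h : ∀ (A' : Type u) [CommRing A'] [Algebra A A'],
      IsOpenMap (PrimeSpectrum.comap (algebraMap A' (A' ⊗[A] B)))) :
    UniversallyOpen (Spec.map (CommRingCat.ofHom (algebraMap A B))) := by
  refine ⟨universally_mk' _ _ fun {T} g _ ↦ ?_⟩
  wlog hT : ∃ R, T = Spec R generalizing T
  · refine (IsZariskiLocalAtTarget.iff_of_openCover T.affineCover).mpr fun i ↦ ?_
    refine (MorphismProperty.cancel_left_of_respectsIso _
      ((pullbackRightPullbackFstIso ..).inv ≫ (pullbackSymmetry ..).hom) _).mp ?_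
    simpa [Scheme.Cover.pullbackHom] using! this (T.affineCover.f i ≫ g) inferInstance ⟨_, rfl⟩
  obtain ⟨R, rfl⟩ := hT
  obtain ⟨ψ, rfl⟩ := Spec.map_surjective g
  algebraize [ψ.hom]
  refine (MorphismProperty.cancel_left_of_respectsIso _ (pullbackSpecIso A R B).inv _).mp ?_
  convert_to! topologically _ (Spec.map <| CommRingCat.ofHom (algebraMap R (TensorProduct A R B)))
  · exact pullbackSpecIso_inv_fst ..
  exact h R

end SchemePart

section SchemePart2

open MorphismProperty

variable {A B : Type u} [CommRing A] [CommRing B] [Algebra A B]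

attribute [local instance] MvPolynomial.algebraMvPolynomial in
lemma isOpenMap_comap_map_of_universallyOpen {σ : Type}
    (h : UniversallyOpen (Spec.map (CommRingCat.ofHom (algebraMap A B)))) :
    IsOpenMap (PrimeSpectrum.comap (MvPolynomial.map (σ := σ) (algebraMap A B))) := by
  have t := CommRingCat.isPushout_of_isPushout A (MvPolynomial σ A) B (MvPolynomial σ B)
  have hp := (isPullback_SpecMap_of_isPushout _ _ _ _ t).flip
  have : UniversallyOpen (Spec.map (CommRingCat.ofHom (algebraMap (MvPolynomial σ A) (MvPolynomial σ B)))) :=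
    MorphismProperty.of_isPullback hp h
  exact (Spec.map (CommRingCat.ofHom (algebraMap (MvPolynomial σ A) (MvPolynomial σ B)))).isOpenMap

end SchemePart2

section AffineSpaceReduction

open MorphismProperty

/-- All affine space maps over `f` are open maps. -/
def AffOpen {X S : Scheme.{u}} (f : X ⟶ S) : Prop :=
  ∀ n : ℕ, IsOpenMap ⇑(AffineSpace.map (ULift.{u} (Fin n)) f)

lemma isOpenImmersion_affineSpace_map {n : Type u} {U X : Scheme.{u}} (j : U ⟶ X)
    [IsOpenImmersion j] : IsOpenImmersion (AffineSpace.map n j) :=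
  MorphismProperty.of_isPullback (AffineSpace.isPullback_map j).flip inferInstance

lemma AffOpen.comp_openImmersion {U X S : Scheme.{u}} {f : X ⟶ S} (h : AffOpen f) (j : U ⟶ X)
    [IsOpenImmersion j] : AffOpen (j ≫ f) := by
  intro n
  have := isOpenImmersion_affineSpace_map (n := ULift.{u} (Fin n)) j
  rw [AffineSpace.map_comp]
  exact (h n).comp (AffineSpace.map _ j).isOpenEmbedding.isOpenMap

lemma AffOpen.of_comm {X' S' X S : Scheme.{u}} {f : X ⟶ S} (h : AffOpen f) (g : X' ⟶ S')
    (i : X' ⟶ X) (j : S' ⟶ S) [IsOpenImmersion i] [IsOpenImmersion j] (w : g ≫ j = i ≫ f) :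
    AffOpen g := by
  intro n
  have hj := isOpenImmersion_affineSpace_map (n := ULift.{u} (Fin n)) j
  have e : AffineSpace.map (ULift.{u} (Fin n)) g ≫ AffineSpace.map (ULift.{u} (Fin n)) j =
      AffineSpace.map (ULift.{u} (Fin n)) (i ≫ f) := by
    rw [← AffineSpace.map_comp, w]
  rw [(AffineSpace.map (ULift.{u} (Fin n)) j).isOpenEmbedding.isOpenMap_iff]
  have := h.comp_openImmersion i n
  rw [← e] at this
  exact this

end AffineSpaceReduction

section Final

open MorphismProperty

lemma AffOpen.isOpenMap_comap_map {R R' : CommRingCat.{u}} {φ : R ⟶ R'} (h : AffOpen (Spec.map φ))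
    (n : ℕ) : IsOpenMap (PrimeSpectrum.comap
      (MvPolynomial.map (σ := ULift.{u} (Fin n)) φ.hom)) := by
  have h1 : topologically (@IsOpenMap) (AffineSpace.map (ULift.{u} (Fin n)) (Spec.map φ)) := h n
  rw [AffineSpace.map_SpecMap, MorphismProperty.cancel_left_of_respectsIso (topologically @IsOpenMap),
    MorphismProperty.cancel_right_of_respectsIso (topologically @IsOpenMap)] at h1
  exact h1

theorem universallyOpen_of_affOpen {X S : Scheme.{u}} (f : X ⟶ S) (h : AffOpen f) :
    UniversallyOpen f := by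
  wlog hS : ∃ R, S = Spec R generalizing X S
  · rw [IsZariskiLocalAtTarget.iff_of_openCover (P := @UniversallyOpen) S.affineCover]
    intro i
    have hi : IsOpenImmersion (S.affineCover.f i) := inferInstance
    have hi' : IsOpenImmersion (pullback.fst f (S.affineCover.f i)) := inferInstance
    have h2 : AffOpen (pullback.snd f (S.affineCover.f i)) :=
      h.of_comm _ (pullback.fst f (S.affineCover.f i)) (S.affineCover.f i)
        pullback.condition.symm
    exact this _ h2 ⟨_, rfl⟩
  obtain ⟨R, rfl⟩ := hS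
  wlog hX : ∃ R', X = Spec R' generalizing X
  · rw [IsZariskiLocalAtSource.iff_of_openCover (P := @UniversallyOpen) X.affineCover]
    intro i
    exact this _ (h.comp_openImmersion _) ⟨_, rfl⟩
  obtain ⟨R', rfl⟩ := hX
  obtain ⟨φ, rfl⟩ := Spec.map_surjective f
  algebraize [φ.hom]
  have key := universallyOpen_SpecMap_of_forall_tensor (A := R) (B := R') fun A' _ _ =>
    isOpenMap_comap_tensor_of_forall_isOpenMap_map_ulift (fun n => h.isOpenMap_comap_map n) A'
  exact key

end Final

end Groth.Agent.Lib.Helper18
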